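import Cfsg.Agent.Lib.MCohP

/-!
The nonsplit extension of `M23` by the cocode module: automorphisms of a central extension of the code module
by the factor set `th`.
-/

set_option autoImplicit false

namespace Cfsg.Agent.Lib.MCohQ

open Cfsg Cfsg.Agent.Lib.Golay Cfsg.Agent.Lib.MCohA Cfsg.Agent.Lib.MCohB Cfsg.Agent.Lib.MCohM
open Cfsg.Agent.Lib.MCohN Cfsg.Agent.Lib.MCohW Cfsg.Agent.Lib.MCohU Cfsg.Agent.Lib.MCohT
open Cfsg.Agent.Lib.MCohP Finset
open Cfsg.Agent.Lib.GolayModule (z2 act_mem)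
open Cfsg.Agent.Lib.GolayCoset (support₂_add)
open Cfsg.Agent.Lib.H92MathieuAut (mem_M23)

/-! ### invariance of the forms -/

theorem supp_comp (σ : Equiv.Perm GolayPt) (x : GolayPt → ZMod 2) :
    (support₂ (x ∘ ⇑σ)).map σ.toEmbedding = support₂ x := by
  ext p
  rw [mem_map]
  constructor
  · rintro ⟨q, hq, rfl⟩
    simpa [support₂] using hq
  · intro h
    refine ⟨σ.symm p, ?_, by simp⟩
    simpa [support₂] using h

theorem Qf_comp (σ : Equiv.Perm GolayPt) (x : GolayPt → ZMod 2) : Qf (x ∘ ⇑σ) = Qf x := by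
  unfold Qf
  rw [← card_map σ.toEmbedding, supp_comp]

theorem Bf_comp (σ : Equiv.Perm GolayPt) (x y : GolayPt → ZMod 2) : Bf (x ∘ ⇑σ) (y ∘ ⇑σ) = Bf x y := by
  unfold Bf
  rw [← card_map σ.toEmbedding, map_inter, supp_comp, supp_comp]

theorem tri_comp (σ : Equiv.Perm GolayPt) (x y z : GolayPt → ZMod 2) :
    tri (x ∘ ⇑σ) (y ∘ ⇑σ) (z ∘ ⇑σ) = tri x y z := by
  unfold tri
  exact Equiv.sum_comp σ (fun p => x p * y p * z p)

/-- the change of the factor set -/
def Fd (σ : Equiv.Perm GolayPt) (x y : GolayPt → ZMod 2) : ZMod 2 := th (x ∘ ⇑σ) (y ∘ ⇑σ) + th x y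

section

variable {σ : ↥Spor.M23}

theorem Fd_add_left {x x' y : GolayPt → ZMod 2} (hx : InV x) (hx' : InV x') (hy : InV y) :
    Fd σ (x + x') y = Fd σ x y + Fd σ x' y := by
  unfold Fd
  have h1 : (x + x') ∘ ⇑(σ : Equiv.Perm GolayPt) = x ∘ ⇑(σ : Equiv.Perm GolayPt) + x' ∘ ⇑(σ : Equiv.Perm GolayPt) := rfl
  rw [h1, th_add_left (inV_comp hx σ) (inV_comp hx' σ) (inV_comp hy σ), th_add_left hx hx' hy, tri_comp]
  have := z2_add_self (tri x x' y)
  linear_combination this

theorem Fd_add_right (σ : Equiv.Perm GolayPt) (x y y' : GolayPt → ZMod 2) :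
    Fd σ x (y + y') = Fd σ x y + Fd σ x y' := by
  unfold Fd
  have h1 : (y + y') ∘ ⇑σ = y ∘ ⇑σ + y' ∘ ⇑σ := rfl
  rw [h1, th_add_right, th_add_right]
  ring

theorem Fd_comm {x y : GolayPt → ZMod 2} (hx : InV x) (hy : InV y) : Fd σ x y = Fd σ y x := by
  have h1 := th_comm hx hy
  have h2 := th_comm (inV_comp hx σ) (inV_comp hy σ)
  rw [Bf_comp] at h2
  unfold Fd
  have h3 := z2_add_self (th (y ∘ ⇑(σ : Equiv.Perm GolayPt)) (x ∘ ⇑(σ : Equiv.Perm GolayPt)))
  have h4 := z2_add_self (th y x)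
  have h5 := z2_add_self (Bf x y)
  linear_combination h1 + h2 - h3 - h4 - h5

theorem Fd_self {x : GolayPt → ZMod 2} (hx : InV x) : Fd σ x x = 0 := by
  have h1 := th_self hx
  have h2 := th_self (inV_comp hx σ)
  rw [Qf_comp] at h2
  unfold Fd
  have h3 := z2_add_self (Qf x)
  linear_combination h1 + h2 - h3

/-- functions with a given polar form -/
theorem bil_polar {R : List ℕ} (hR : ∀ i < 11, ∀ j < 11, (if (R.getD i 0).testBit j = true then (1 : ZMod 2) else 0) +
    (if (R.getD j 0).testBit i = true then 1 else 0) = Fd σ (vw' i) (vw' j)) {x y : GolayPt → ZMod 2} (hx : InV x)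
    (hy : InV y) : bil R x x + bil R y y + bil R (x + y) (x + y) = Fd σ x y := by
  have h0 : bil R x y + bil R y x + Fd σ x y = 0 := by
    refine zero_of_basis (f := fun x => bil R x y + bil R y x + Fd σ x y) (fun a b ha hb => ?_) (fun i hi => ?_) hx
    · show bil R (a + b) y + bil R y (a + b) + Fd σ (a + b) y =
        (bil R a y + bil R y a + Fd σ a y) + (bil R b y + bil R y b + Fd σ b y)
      rw [bil_add_left, bil_add_right, Fd_add_left ha hb hy]
      ring
    · show bil R (vw' i) y + bil R y (vw' i) + Fd σ (vw' i) y = 0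
      refine zero_of_basis (f := fun y => bil R (vw' i) y + bil R y (vw' i) + Fd σ (vw' i) y) (fun a b ha hb => ?_)
        (fun j hj => ?_) hy
      · show bil R (vw' i) (a + b) + bil R (a + b) (vw' i) + Fd σ (vw' i) (a + b) = _
        rw [bil_add_left, bil_add_right, Fd_add_right]
        ring
      · show bil R (vw' i) (vw' j) + bil R (vw' j) (vw' i) + Fd σ (vw' i) (vw' j) = 0
        rw [bil_vw _ hi hj, bil_vw _ hj hi, hR i hi j hj]
        exact z2_add_self _
  rw [bil_add_left, bil_add_right, bil_add_right]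
  have h1 := z2_add_self (bil R x x)
  have h2 := z2_add_self (bil R y y)
  have h3 := z2_add_self (Fd σ x y)
  linear_combination h0 + h1 + h2 - h3

theorem exists_table (σ : ↥Spor.M23) : ∃ R : List ℕ, ∀ i < 11, ∀ j < 11, (if (R.getD i 0).testBit j = true then (1 : ZMod 2) else 0) +
    (if (R.getD j 0).testBit i = true then 1 else 0) = Fd σ (vw' i) (vw' j) := by
  choose r hr hr' using fun i : ℕ => exists_bits (fun j => if j < i then Fd σ (vw' i) (vw' j) else 0) 11
  refine ⟨(List.range 11).map r, fun i hi j hj => ?_⟩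
  have hg : ∀ i < 11, ((List.range 11).map r).getD i 0 = r i := by
    intro i hi
    rw [List.getD_eq_getElem?_getD, List.getElem?_map, List.getElem?_range hi]
    rfl
  rw [hg i hi, hg j hj, hr' i j hj, hr' j i hi]
  rcases lt_trichotomy i j with h | h | h
  · rw [if_neg (by omega), if_pos h, zero_add]
    exact Fd_comm (inV_vw hj) (inV_vw hi)
  · subst h
    rw [if_neg (by omega), add_zero, Fd_self (inV_vw hi)]
  · rw [if_pos h, if_neg (by omega), add_zero]

end

/-! ### the group -/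

/-- pairs of an element and a quadratic function adapted to it -/
@[ext] structure EE : Type where
  g : ↥Spor.M23
  f : (GolayPt → ZMod 2) → ZMod 2
  out : ∀ c, ¬ InV c → f c = 0
  pol : ∀ c d, InV c → InV d → f c + f d + f (c + d) = Fd (g⁻¹ : ↥Spor.M23) c d

theorem inV_comp_iff (σ : ↥Spor.M23) {c : GolayPt → ZMod 2} : InV (c ∘ ⇑(σ : Equiv.Perm GolayPt)) ↔ InV c := by
  refine ⟨fun h => ?_, fun h => inV_comp h σ⟩
  have h1 := inV_comp h σ⁻¹
  have h2 : (c ∘ ⇑(σ : Equiv.Perm GolayPt)) ∘ ⇑((σ⁻¹ : ↥Spor.M23) : Equiv.Perm GolayPt) = c := by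
    funext p
    show c ((σ : Equiv.Perm GolayPt) (((σ : Equiv.Perm GolayPt)⁻¹) p)) = c p
    exact congrArg c (Equiv.apply_symm_apply _ _)
  rw [h2] at h1
  exact h1

theorem comp_mul (σ τ : ↥Spor.M23) (c : GolayPt → ZMod 2) :
    c ∘ ⇑((σ * τ : ↥Spor.M23) : Equiv.Perm GolayPt) = (c ∘ ⇑(σ : Equiv.Perm GolayPt)) ∘ ⇑(τ : Equiv.Perm GolayPt) := rfl

theorem comp_one (c : GolayPt → ZMod 2) : c ∘ ⇑((1 : ↥Spor.M23) : Equiv.Perm GolayPt) = c := rfl

/-- the action on words -/
def ac (g : ↥Spor.M23) (c : GolayPt → ZMod 2) : GolayPt → ZMod 2 := c ∘ ⇑((g⁻¹ : ↥Spor.M23) : Equiv.Perm GolayPt)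

theorem ac_mul (g h : ↥Spor.M23) (c : GolayPt → ZMod 2) : ac (g * h) c = ac g (ac h c) := by
  unfold ac
  rw [mul_inv_rev, comp_mul]

theorem ac_one (c : GolayPt → ZMod 2) : ac 1 c = c := by
  unfold ac
  rw [inv_one, comp_one]

theorem ac_inv_self (g : ↥Spor.M23) (c : GolayPt → ZMod 2) : ac g⁻¹ (ac g c) = c := by
  rw [← ac_mul, inv_mul_cancel, ac_one]

theorem ac_self_inv (g : ↥Spor.M23) (c : GolayPt → ZMod 2) : ac g (ac g⁻¹ c) = c := by
  rw [← ac_mul, mul_inv_cancel, ac_one]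

theorem ac_add (g : ↥Spor.M23) (c d : GolayPt → ZMod 2) : ac g (c + d) = ac g c + ac g d := rfl

theorem inV_ac (g : ↥Spor.M23) {c : GolayPt → ZMod 2} : InV (ac g c) ↔ InV c := inV_comp_iff _

theorem Fd_ac (g : ↥Spor.M23) (c d : GolayPt → ZMod 2) : Fd (g⁻¹ : ↥Spor.M23) c d = th (ac g c) (ac g d) + th c d := rfl

theorem EE.ext' {p q : EE} (hg : p.g = q.g) (hf : ∀ c, InV c → p.f c = q.f c) : p = q := by
  refine EE.ext hg (funext fun c => ?_)
  by_cases hc : InV c
  · exact hf c hc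
  · rw [p.out c hc, q.out c hc]

instance : Mul EE := ⟨fun p q => ⟨p.g * q.g, fun c => q.f c + p.f (ac q.g c), fun c hc => by
    rw [q.out c hc, p.out _ (by rw [inV_ac]; exact hc), add_zero], fun c d hc hd => by
    have h1 := q.pol c d hc hd
    have h2 := p.pol (ac q.g c) (ac q.g d) ((inV_ac _).2 hc) ((inV_ac _).2 hd)
    rw [Fd_ac] at h1 h2 ⊢
    rw [ac_mul, ac_mul, ac_add]
    have h3 := z2_add_self (th (ac q.g c) (ac q.g d))
    linear_combination h1 + h2 + h3⟩⟩

instance : One EE := ⟨⟨1, fun _ => 0, fun _ _ => rfl, fun c d _ _ => by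
    rw [Fd_ac, ac_one, ac_one, z2_add_self (th c d)]
    simp⟩⟩

instance : Inv EE := ⟨fun p => ⟨p.g⁻¹, fun c => p.f (ac p.g⁻¹ c), fun c hc => p.out _ (by rw [inV_ac]; exact hc),
    fun c d hc hd => by
    have h2 := p.pol (ac p.g⁻¹ c) (ac p.g⁻¹ d) ((inV_ac _).2 hc) ((inV_ac _).2 hd)
    rw [Fd_ac] at h2 ⊢
    rw [ac_self_inv, ac_self_inv] at h2
    rw [ac_add]
    rw [h2]
    ring⟩⟩

theorem mul_g (p q : EE) : (p * q).g = p.g * q.g := rfl
theorem mul_f (p q : EE) (c : GolayPt → ZMod 2) : (p * q).f c = q.f c + p.f (ac q.g c) := rfl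
theorem one_g : (1 : EE).g = 1 := rfl
theorem one_f (c : GolayPt → ZMod 2) : (1 : EE).f c = 0 := rfl
theorem inv_g (p : EE) : (p⁻¹).g = p.g⁻¹ := rfl
theorem inv_f (p : EE) (c : GolayPt → ZMod 2) : (p⁻¹).f c = p.f (ac p.g⁻¹ c) := rfl

instance : Group EE := Group.ofLeftAxioms
  (fun p q r => EE.ext' (by simp only [mul_g, mul_assoc]) fun c _ => by
    simp only [mul_f, mul_g, ac_mul]; ring)
  (fun p => EE.ext' (by rw [mul_g, one_g, one_mul]) fun c _ => by rw [mul_f, one_f, add_zero])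
  (fun p => EE.ext' (by rw [mul_g, inv_g, inv_mul_cancel]; rfl) fun c _ => by
    rw [mul_f, inv_f, one_f, ac_inv_self]
    exact z2_add_self _)

instance : Finite EE := by
  have : Function.Injective (fun p : EE => (p.g, p.f)) := by
    intro p q h
    exact EE.ext (congrArg Prod.fst h) (congrArg Prod.snd h)
  exact Finite.of_injective _ this

/-- projection onto `M23` -/
def pi : EE →* ↥Spor.M23 where
  toFun p := p.g
  map_one' := rfl
  map_mul' _ _ := rfl

theorem pi_apply (p : EE) : pi p = p.g := rfl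

/-- elements from tables -/
noncomputable def ofTable (σ : ↥Spor.M23) (R : List ℕ) (hR : ∀ i < 11, ∀ j < 11, (if (R.getD i 0).testBit j = true then (1 : ZMod 2) else 0) +
    (if (R.getD j 0).testBit i = true then 1 else 0) = Fd (σ⁻¹ : ↥Spor.M23) (vw' i) (vw' j)) : EE := by
  classical
  exact ⟨σ, fun c => if InV c then bil R c c else 0, fun c hc => if_neg hc, fun c d hc hd => by
    rw [if_pos hc, if_pos hd, if_pos (inV_add hc hd)]
    exact bil_polar hR hc hd⟩

theorem ofTable_g (σ : ↥Spor.M23) (R : List ℕ) (hR) : (ofTable σ R hR).g = σ := rfl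

theorem ofTable_f (σ : ↥Spor.M23) (R : List ℕ) (hR) {c : GolayPt → ZMod 2} (hc : InV c) :
    (ofTable σ R hR).f c = bil R c c := if_pos hc

theorem pi_surj : Function.Surjective pi := by
  intro σ
  obtain ⟨R, hR⟩ := exists_table σ⁻¹
  exact ⟨ofTable σ R hR, rfl⟩

/-- elements of the kernel from words -/
noncomputable def ofW (w : GolayPt → ZMod 2) : EE := by
  classical
  exact ⟨1, fun c => if InV c then pair w c else 0, fun c hc => if_neg hc, fun c d hc hd => by
    rw [if_pos hc, if_pos hd, if_pos (inV_add hc hd), Fd_ac, ac_one, ac_one, pair_add_right, z2_add_self (th c d)]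
    have h1 := z2_add_self (pair w c)
    have h2 := z2_add_self (pair w d)
    linear_combination h1 + h2⟩

theorem ofW_g (w : GolayPt → ZMod 2) : (ofW w).g = 1 := rfl
theorem ofW_f (w : GolayPt → ZMod 2) {c : GolayPt → ZMod 2} (hc : InV c) : (ofW w).f c = pair w c := if_pos hc

theorem ofW_mem (w : GolayPt → ZMod 2) : ofW w ∈ pi.ker := rfl

theorem ker_g {p : EE} (hp : p ∈ pi.ker) : p.g = 1 := hp

theorem ker_add {p : EE} (hp : p ∈ pi.ker) {c d : GolayPt → ZMod 2} (hc : InV c) (hd : InV d) :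
    p.f (c + d) = p.f c + p.f d := by
  have h := p.pol c d hc hd
  rw [Fd_ac, ker_g hp, ac_one, ac_one, z2_add_self] at h
  have h1 := z2_add_self (p.f c)
  have h2 := z2_add_self (p.f d)
  linear_combination h - h1 - h2

theorem exists_word (f : ℕ → ZMod 2) : ∃ w : GolayPt → ZMod 2, ∀ j < 11, pair w (vw' j) = f j := by
  refine ⟨∑ i ∈ range 11, f i • Pi.single (pt i) 1, fun j hj => ?_⟩
  rw [pair_comm, pair_sum_right]
  rw [sum_eq_single j]
  · rw [pair_smul_right, pair_comm, pair_single, vw'_pt hj hj, if_pos rfl, mul_one]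
  · intro i hi hij
    rw [pair_smul_right, pair_comm, pair_single, vw'_pt (mem_range.1 hi) hj, if_neg hij, mul_zero]
  · intro h
    exact absurd (mem_range.2 hj) h

/-- elements of the kernel agreeing on the basis -/
theorem ker_ext {p q : EE} (hp : p ∈ pi.ker) (hq : q ∈ pi.ker) (h : ∀ j < 11, p.f (vw' j) = q.f (vw' j)) : p = q := by
  refine EE.ext' (by rw [ker_g hp, ker_g hq]) fun c hc => ?_
  have h1 : p.f c + q.f c = 0 := by
    refine zero_of_basis (f := fun c => p.f c + q.f c) (fun a b ha hb => ?_) (fun i hi => ?_) hc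
    · show p.f (a + b) + q.f (a + b) = _
      rw [ker_add hp ha hb, ker_add hq ha hb]
      ring
    · show p.f (vw' i) + q.f (vw' i) = 0
      rw [h i hi, z2_add_self]
  have h2 := z2_add_self (q.f c)
  linear_combination h1 - h2

theorem ker_eq_ofW {p : EE} (hp : p ∈ pi.ker) : ∃ w, p = ofW w := by
  obtain ⟨w, hw⟩ := exists_word fun j => p.f (vw' j)
  refine ⟨w, ker_ext hp (ofW_mem w) fun j hj => ?_⟩
  rw [ofW_f _ (inV_vw hj), hw j hj]

theorem ofW_add (w w' : GolayPt → ZMod 2) : ofW (w + w') = ofW w * ofW w' := by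
  refine EE.ext' (by rw [mul_g, ofW_g, ofW_g, ofW_g, mul_one]) fun c hc => ?_
  rw [mul_f, ofW_g, ac_one, ofW_f _ hc, ofW_f _ hc, ofW_f _ hc, pair_add_left, add_comm]

theorem ofW_eq_one {w : GolayPt → ZMod 2} : ofW w = 1 ↔ (w ∈ golayCode ∨ w + Pi.single none 1 ∈ golayCode) := by
  constructor
  · intro h
    refine dual_cases fun i hi => ?_
    rw [← ofW_f w (inV_vw hi), h, one_f]
  · intro h
    refine EE.ext' rfl fun c hc => ?_
    rw [ofW_f _ hc, one_f]
    exact pair_zero_of h hc.1 hc.2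

theorem conj_f {g p : EE} (hp : p ∈ pi.ker) {c : GolayPt → ZMod 2} (_hc : InV c) :
    (g * p * g⁻¹).f c = p.f (ac g.g⁻¹ c) := by
  rw [mul_f, mul_f, inv_f, inv_g, ker_g hp, ac_one]
  have := z2_add_self (g.f (ac g.g⁻¹ c))
  linear_combination this

theorem ofW_conj (g : EE) (w : GolayPt → ZMod 2) :
    ofW (w ∘ ⇑((g.g : Equiv.Perm GolayPt)⁻¹)) = g * ofW w * g⁻¹ := by
  have hm : g * ofW w * g⁻¹ ∈ pi.ker := (inferInstance : pi.ker.Normal).conj_mem _ (ofW_mem w) g
  refine EE.ext' (by rw [ker_g hm]; rfl) fun c hc => ?_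
  rw [conj_f (ofW_mem w) hc, ofW_f _ hc, ofW_f _ ((inV_ac _).2 hc), pair_comp]
  unfold ac
  rw [inv_inv]

/-- the additive map -/
noncomputable def tht : (GolayPt → ZMod 2) →+ Additive ↥(pi.ker) where
  toFun w := Additive.ofMul ⟨ofW w, ofW_mem w⟩
  map_zero' := by
    have : ofW 0 = 1 := ofW_eq_one.2 (Or.inl (Submodule.zero_mem _))
    apply Additive.toMul.injective
    exact Subtype.ext this
  map_add' w w' := by
    apply Additive.toMul.injective
    exact Subtype.ext (ofW_add w w')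

theorem tht_surj : Function.Surjective tht := by
  intro n
  obtain ⟨w, hw⟩ := ker_eq_ofW n.toMul.2
  refine ⟨w, ?_⟩
  apply Additive.toMul.injective
  exact Subtype.ext hw.symm

theorem tht_ker (w : GolayPt → ZMod 2) : tht w = 0 ↔ (w ∈ golayCode ∨ w + Pi.single none 1 ∈ golayCode) := by
  rw [← ofW_eq_one]
  constructor
  · intro h
    exact congrArg (fun n : Additive ↥(pi.ker) => ((n.toMul : ↥(pi.ker)) : EE)) h
  · intro h
    apply Additive.toMul.injective
    exact Subtype.ext h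

end Cfsg.Agent.Lib.MCohQ
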