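import Cfsg.Agent.Lib.MCohQ

/-!
The nonsplit extension of `M23` by the cocode module: the certificate.
-/

set_option autoImplicit false

namespace Cfsg.Agent.Lib.MCohR

open Cfsg Cfsg.Agent.Lib.Golay Cfsg.Agent.Lib.MCohA Cfsg.Agent.Lib.MCohB Cfsg.Agent.Lib.MCohM
open Cfsg.Agent.Lib.MCohN Cfsg.Agent.Lib.MCohW Cfsg.Agent.Lib.MCohU Cfsg.Agent.Lib.MCohT
open Cfsg.Agent.Lib.MCohP Cfsg.Agent.Lib.MCohQ Finset
open Cfsg.Agent.Lib.MCohDW (cs Ms rl cs_ok)
open Cfsg.Agent.Lib.GolayModule (z2 act_mem act act_wordOf wordOf_mset)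
open Cfsg.Agent.Lib.H92MathieuAut (mem_M23)
open scoped Pointwise

/-! ### evaluation -/

/-- sum of a function below `n` -/
def sumLt (n : ℕ) (f : ℕ → ℕ) : ℕ := Nat.rec (motive := fun _ => ℕ) 0 (fun i ih => Nat.add (f i) ih) n

theorem sumLt_cast (f : ℕ → ℕ) : ∀ n, ((sumLt n f : ℕ) : ZMod 2) = ∑ i ∈ range n, ((f i : ℕ) : ZMod 2)
  | 0 => by simp [sumLt]
  | n + 1 => by
    have h : sumLt (n + 1) f = f n + sumLt n f := rfl
    rw [h, Nat.cast_add, sumLt_cast f n, sum_range_succ, add_comm]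

theorem dotn_crd_wd {r : ℕ} (hr : r < 2 ^ 11) (m : ℕ) :
    dotn 11 r (crd (wd m)) = ((pc (Nat.land r m) : ℕ) : ZMod 2) := by
  unfold pc
  rw [pcR_eq, Nat.cast_sum]
  have h0 : ∀ i ∈ range 24, i ∉ range 11 → (((Nat.land r m).testBit i).toNat : ZMod 2) = 0 := by
    intro i _ hi
    rw [mem_range] at hi
    rw [show Nat.land r m = r &&& m from rfl, Nat.testBit_and,
      Nat.testBit_lt_two_pow (lt_of_lt_of_le hr (Nat.pow_le_pow_right (by norm_num) (by omega)))]
    simp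
  rw [← sum_subset (by intro i hi; rw [mem_range] at hi ⊢; omega) h0]
  unfold dotn
  refine sum_congr rfl fun i hi => ?_
  have hi' := mem_range.1 hi
  rw [show Nat.land r m = r &&& m from rfl, Nat.testBit_and]
  unfold crd wd
  rw [ix_pt (by omega)]
  cases r.testBit i <;> cases m.testBit i <;> simp

theorem vm_lt : ∀ {ms : List ℕ} (_ : ∀ x ∈ ms, x < 2 ^ 11) (r : ℕ), vm ms r < 2 ^ 11
  | [], _, r => by norm_num [vm]
  | m :: ms, h, r => by
    show (Nat.mul (Nat.land r 1) m) ^^^ (vm ms (Nat.shiftRight r 1)) < 2 ^ 11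
    refine Nat.xor_lt_two_pow ?_ (vm_lt (fun x hx => h x (List.mem_cons_of_mem _ hx)) _)
    rw [land_one]
    show (r.testBit 0).toNat * m < 2 ^ 11
    cases r.testBit 0
    · simp
    · simpa using h m (by simp)

/-- value of a quadratic form -/
def bilN (R : List ℕ) (m : ℕ) : ℕ := pc (Nat.land (vm R m) m)

theorem bil_wd {R : List ℕ} (hl : R.length = 11) (hR : ∀ x ∈ R, x < 2 ^ 11) (m : ℕ) :
    bil R (wd m) (wd m) = ((bilN R m : ℕ) : ZMod 2) := by
  unfold bilN
  rw [← dotn_crd_wd (vm_lt hR m), dotn_vm, hl]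
  unfold bil
  refine sum_congr rfl fun i hi => ?_
  have hi' := mem_range.1 hi
  have h1 : crd (wd m) i = if m.testBit i then 1 else 0 := by
    unfold crd wd
    rw [ix_pt (by omega)]
  rw [h1]
  split_ifs <;> simp

/-- value of the factor set -/
def thN (m m' : ℕ) : ℕ := sumLt 11 fun k => sel m' k (Nat.add (pc (Nat.land (bk.getD k 0) m)) (bilN (Tk.getD k []) m))

theorem tabs_ok : ((List.range 11).all fun k => decide (bk.getD k 0 < 2 ^ 11) && ((Tk.getD k []).length == 11) &&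
    (Tk.getD k []).all fun x => decide (x < 2 ^ 11)) = true := by decide +kernel

theorem th_wd (m m' : ℕ) : th (wd m) (wd m') = ((thN m m' : ℕ) : ZMod 2) := by
  unfold thN
  rw [sumLt_cast]
  unfold th
  refine sum_congr rfl fun k hk => ?_
  have hk' := mem_range.1 hk
  have h := List.all_eq_true.1 tabs_ok k (List.mem_range.2 hk')
  rw [Bool.and_eq_true, Bool.and_eq_true] at h
  have h1 : crd (wd m') k = if m'.testBit k then 1 else 0 := by
    unfold crd wd
    rw [ix_pt (by omega)]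
  have h2 : ∀ x ∈ Tk.getD k [], x < 2 ^ 11 := fun x hx => of_decide_eq_true (List.all_eq_true.1 h.2 x hx)
  rw [dotn_crd_wd (of_decide_eq_true h.1.1), bil_wd (beq_iff_eq.1 h.1.2) h2, h1, sel_eq, ← Nat.cast_add]
  split_ifs
  · rw [one_mul]; rfl
  · rw [zero_mul, Nat.cast_zero]

/-- quadratic functions of the generators -/
def At : List (List ℕ) := [[0, 1, 3, 0, 7, 5, 0, 40, 159, 0, 35], [0, 1, 2, 0, 2, 23, 20, 30, 133, 447, 505],
  [0, 0, 3, 3, 15, 5, 0, 33, 128, 0, 299], [0, 0, 2, 0, 6, 25, 13, 0, 30, 312, 0],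
  [0, 1, 2, 0, 12, 24, 0, 0, 58, 278, 13], [0, 0, 2, 3, 0, 4, 26, 48, 0, 457, 484],
  [0, 0, 0, 6, 10, 15, 29, 72, 164, 177, 867]]

/-- the generators used -/
def L6 : List ℕ := [0, 1, 2, 3, 4, 6]

/-- check of the polar forms -/
def polOK : Bool := L6.all fun a => (List.range 11).all fun i => (List.range 11).all fun j =>
  Nat.beq (Nat.land (Nat.add (Nat.add (((At.getD a []).getD i 0).testBit j).toNat (((At.getD a []).getD j 0).testBit i).toNat)
    (Nat.add (thN (imgM (cs.getD a idC) (Vb.getD i 0)) (imgM (cs.getD a idC) (Vb.getD j 0)))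
      (thN (Vb.getD i 0) (Vb.getD j 0)))) 1) 0

/-- evaluation of a word at a bit pattern -/
def evW : List ℕ → ℕ → ℕ × ℕ
  | [], m => (m, 0)
  | a :: w, m =>
    match evW w m with
    | (m', e) => (imgM (cs.getD a idC) m', Nat.add e (bilN (At.getD a []) m'))

/-- the certificate -/
def mu : List (ℕ × ℕ × ℕ) := [(4,0,837906),(4,3,702724),(4,5,2969648),(4,8,4038912),(8,7,926128),(8,9,722544),
  (10,0,2654580),(10,1,267634),(10,2,2854977),(10,3,951624),(10,8,628112),(10,9,504864),(10,10,6750560),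
  (17,1,1070536),(17,2,6429441),(17,5,3168928),(17,9,5405696),(17,10,3328320)]

/-- gauge vectors -/
def Bm : List (List ℕ) := (List.range 7).map fun a => (List.range 11).map fun i => Nat.shiftLeft 1 (Nat.add (Nat.mul 11 a) i)

/-- left side of a rule -/
def lh (k : ℕ) : List ℕ := (rl.getD k ([], [])).1
/-- right side of a rule -/
def rh (k : ℕ) : List ℕ := (rl.getD k ([], [])).2

/-- check of one entry -/
def chkE (t : ℕ × ℕ × ℕ) : Bool :=
  ((lh t.1).all fun a => L6.contains a) && ((rh t.1).all fun a => L6.contains a) && decide (t.2.1 < 11) &&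
    Nat.beq (evW (rh t.1) t.2.2).1 (Vb.getD t.2.1 0)

/-- sum of the gauge vectors -/
def gsum : List (ℕ × ℕ × ℕ) → ℕ
  | [] => 0
  | t :: L => Nat.xor (Nat.xor (gw Ms Bm (lh t.1) (Nat.shiftLeft 1 t.2.1)) (gw Ms Bm (rh t.1) (Nat.shiftLeft 1 t.2.1)))
      (gsum L)

/-- sum of the values -/
def esum : List (ℕ × ℕ × ℕ) → ℕ
  | [] => 0
  | t :: L => Nat.add (Nat.add (evW (lh t.1) t.2.2).2 (evW (rh t.1) t.2.2).2) (esum L)

theorem polOK_ok : polOK = true := by decide +kernel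
theorem chkE_ok : mu.all chkE = true := by decide +kernel
theorem gsum_ok : gsum mu = 0 := by decide +kernel
theorem esum_ok : Nat.land (Nat.add (esum mu) 1) 1 = 0 := by decide +kernel

theorem ac_wd {c : ℕ} (hc : valid c = true) {g : ↥Spor.M23} (hg : (g : Equiv.Perm GolayPt) = toPerm c) (m : ℕ) :
    ac g (wd m) = wd (imgM c m) := by
  have h1 : ac g (wd m) = act (toPerm c) (wd m) := by
    rw [← hg]
    rfl
  rw [h1, ← wordOf_mset, act_wordOf, toPerm_smul_mset hc, wordOf_mset]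

theorem at_len {a : ℕ} (ha : a ∈ L6) : (At.getD a []).length = 11 ∧ ∀ x ∈ At.getD a [], x < 2 ^ 11 := by
  have h : (L6.all fun a => ((At.getD a []).length == 11) && (At.getD a []).all fun x => decide (x < 2 ^ 11)) = true := by
    decide +kernel
  have h1 := List.all_eq_true.1 h a ha
  rw [Bool.and_eq_true] at h1
  exact ⟨beq_iff_eq.1 h1.1, fun x hx => of_decide_eq_true (List.all_eq_true.1 h1.2 x hx)⟩

/-- the lifts -/
theorem exists_X : ∃ X : ℕ → EE, Lift pi X ∧ ∀ a ∈ L6, ∀ c, InV c → (X a).f c = bil (At.getD a []) c c := by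
  obtain ⟨X0, hX0⟩ := exists_lift pi_surj
  have key : ∀ a : ℕ, ∃ x : EE, ((x.g : ↥Spor.M23) : Equiv.Perm GolayPt) = toPerm (cs.getD a idC) ∧
      (cs.length ≤ a → x = 1) ∧ (a ∈ L6 → ∀ c, InV c → x.f c = bil (At.getD a []) c c) := by
    intro a
    by_cases ha : a ∈ L6
    · have hlen : ∀ a ∈ L6, a < cs.length := by decide
      have hl := hlen a ha
      have hm : toPerm (cs.getD a idC) ∈ Spor.M23 := by
        rw [List.getD_eq_getElem?_getD, List.getElem?_eq_getElem hl, Option.getD_some]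
        exact (in23_spec (List.all_eq_true.1 cs_ok _ (List.getElem_mem hl))).2
      have hv := valid_getD hcv a
      refine ⟨ofTable ⟨toPerm (cs.getD a idC), hm⟩ (At.getD a []) ?_, rfl, fun h => absurd hl (not_lt.2 h),
        fun _ c hc => ofTable_f _ _ _ hc⟩
      intro i hi j hj
      rw [Fd_ac]
      unfold vw'
      rw [ac_wd hv rfl, ac_wd hv rfl, th_wd, th_wd]
      have h := List.all_eq_true.1 (List.all_eq_true.1 (List.all_eq_true.1 polOK_ok a ha) i
        (List.mem_range.2 hi)) j (List.mem_range.2 hj)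
      have h2 := nat_even (Nat.eq_of_beq_eq_true h)
      rw [← bool_cast, ← bool_cast]
      have h3 : ∀ a b c d : ℕ, Nat.add (Nat.add a b) (Nat.add c d) = (a + b) + (c + d) := fun _ _ _ _ => rfl
      rw [h3, Nat.cast_add, Nat.cast_add, Nat.cast_add] at h2
      set u := ((thN (imgM (cs.getD a idC) (Vb.getD i 0)) (imgM (cs.getD a idC) (Vb.getD j 0)) : ℕ) : ZMod 2)
      set v := ((thN (Vb.getD i 0) (Vb.getD j 0) : ℕ) : ZMod 2)
      have h4 := z2_add_self (u + v)
      linear_combination h2 - h4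
    · exact ⟨X0 a, hX0.val a, hX0.one a, fun h => absurd h ha⟩
  choose X h1 h2 h3 using key
  exact ⟨X, ⟨h1, h2⟩, h3⟩

section

variable {X : ℕ → EE} (hX : Lift pi X) (hXf : ∀ a ∈ L6, ∀ c, InV c → (X a).f c = bil (At.getD a []) c c)

include hX in
theorem evW_fst : ∀ (w : List ℕ) (m : ℕ), wd (evW w m).1 = ac (wv X w).g (wd m)
  | [], m => by rw [wv_nil, one_g, ac_one]; rfl
  | a :: w, m => by
    have ih := evW_fst w m
    have h1 : (evW (a :: w) m).1 = imgM (cs.getD a idC) (evW w m).1 := rfl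
    rw [h1, wv_cons, mul_g, ac_mul, ← ih]
    exact (ac_wd (valid_getD hcv a) (hX.val a) _).symm

include hX hXf in
theorem evW_snd : ∀ (w : List ℕ) (_ : ∀ a ∈ w, a ∈ L6) (m : ℕ) (_ : InV (wd m)),
    (wv X w).f (wd m) = (((evW w m).2 : ℕ) : ZMod 2)
  | [], _, m, _ => by rw [wv_nil, one_f]; simp [evW]
  | a :: w, h, m, hm => by
    have ih := evW_snd w (fun x hx => h x (List.mem_cons_of_mem _ hx)) m hm
    have ha := h a (by simp)
    have h1 : (evW (a :: w) m).2 = (evW w m).2 + bilN (At.getD a []) (evW w m).1 := rfl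
    have h2 : InV (ac (wv X w).g (wd m)) := (inV_ac _).2 hm
    rw [h1, wv_cons, mul_f, ih, hXf a ha _ h2, Nat.cast_add, ← evW_fst hX, bil_wd (at_len ha).1 (at_len ha).2]

include hX hXf in
/-- values on the relators -/
theorem rv_val {t : ℕ × ℕ × ℕ} (ht : chkE t = true) :
    (rv X t.1).f (vw' t.2.1) = (((evW (lh t.1) t.2.2).2 : ℕ) : ZMod 2) + (((evW (rh t.1) t.2.2).2 : ℕ) : ZMod 2) := by
  unfold chkE at ht
  rw [Bool.and_eq_true, Bool.and_eq_true, Bool.and_eq_true] at ht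
  obtain ⟨⟨⟨h1, h2⟩, h3⟩, h4⟩ := ht
  have hj := of_decide_eq_true h3
  have hl : ∀ a ∈ lh t.1, a ∈ L6 := fun a ha => by simpa using List.all_eq_true.1 h1 a ha
  have hr : ∀ a ∈ rh t.1, a ∈ L6 := fun a ha => by simpa using List.all_eq_true.1 h2 a ha
  have h5 : vw' t.2.1 = ac (wv X (rh t.1)).g (wd t.2.2) := by
    rw [← evW_fst hX, Nat.eq_of_beq_eq_true h4]
    rfl
  have h6 : InV (wd t.2.2) := by
    rw [← inV_ac (wv X (rh t.1)).g, ← h5]
    exact inV_vw hj
  have h7 : ac (wv X (rh t.1)).g⁻¹ (vw' t.2.1) = wd t.2.2 := by rw [h5, ac_inv_self]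
  have h8 : rv X t.1 = wv X (lh t.1) * (wv X (rh t.1))⁻¹ := rfl
  rw [h8, mul_f, inv_f, inv_g, h7, evW_snd hX hXf _ hl _ h6, evW_snd hX hXf _ hr _ h6, add_comm]

include hX hXf in
theorem sum_val : ∀ (L : List (ℕ × ℕ × ℕ)) (_ : L.all chkE = true),
    (L.map fun t => (rv X t.1).f (vw' t.2.1)).sum = ((esum L : ℕ) : ZMod 2)
  | [], _ => by simp [esum]
  | t :: L, h => by
    rw [List.all_cons, Bool.and_eq_true] at h
    rw [List.map_cons, List.sum_cons, sum_val L h.2, rv_val hX hXf h.1]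
    have h1 : esum (t :: L) = ((evW (lh t.1) t.2.2).2 + (evW (rh t.1) t.2.2).2) + esum L := rfl
    rw [h1, Nat.cast_add, Nat.cast_add]

end

/-! ### coordinates -/

theorem lam_ker {e : EE} (he : e ∈ pi.ker) {c : GolayPt → ZMod 2} (hc : InV c) :
    ∑ i ∈ range 11, c (pt i) * e.f (vw' i) = e.f c := by
  obtain ⟨w, rfl⟩ := ker_eq_ofW he
  rw [ofW_f _ hc]
  conv_rhs => rw [MCohN.expand hc.1 hc.2, pair_sum_right]
  refine sum_congr rfl fun i hi => ?_
  rw [ofW_f _ (inV_vw (mem_range.1 hi)), pair_smul_right]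

/-- the functionals -/
def dm : DMod pi where
  lam c e := ∑ i ∈ range 11, c (pt i) * e.f (vw' i)
  lin n c c' := by
    rw [← sum_add_distrib]
    exact sum_congr rfl fun i _ => by rw [Pi.add_apply]; ring
  add c hc n hn n' hn' := by
    rw [lam_ker hn hc, lam_ker hn' hc, lam_ker (mul_mem hn hn') hc, mul_f, ker_g hn', ac_one, add_comm]
  eqv c hc g n hn := by
    have hm : g * n * g⁻¹ ∈ pi.ker := (inferInstance : pi.ker.Normal).conj_mem _ hn g
    rw [lam_ker hm hc, lam_ker hn (inV_comp hc _), conj_f hn hc]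
    unfold ac
    rw [inv_inv]
    rfl
  sep n hn h := by
    refine ker_ext hn (one_mem _) fun j hj => ?_
    rw [← lam_ker hn (inV_vw hj), one_f]
    exact h j hj
  surj f := by
    obtain ⟨w, hw⟩ := exists_word f
    refine ⟨ofW w, ofW_mem w, fun i hi => ?_⟩
    rw [lam_ker (ofW_mem w) (inV_vw hi), ofW_f _ (inV_vw hi), hw i hi]

theorem dm_co {e : EE} (he : e ∈ pi.ker) {i : ℕ} (hi : i < 11) : dm.co e i = e.f (vw' i) := lam_ker he (inV_vw hi)

theorem dotn_pow' {n b : ℕ} (hb : b < n) (c : ℕ → ZMod 2) : dotn n (Nat.shiftLeft 1 b) c = c b := by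
  unfold dotn
  have h1 : ∀ i, (Nat.shiftLeft 1 b).testBit i = decide (b = i) := by
    intro i
    show (1 <<< b).testBit i = _
    rw [Nat.one_shiftLeft, Nat.testBit_two_pow]
  simp only [h1, decide_eq_true_eq]
  rw [sum_ite_eq]
  simp [hb]

theorem bm_len (a : ℕ) : (bt Bm a).length = 11 := by
  unfold bt
  rcases lt_or_ge a 7 with h | h
  · have : ∀ a : Fin 7, (Bm.getD a zB).length = 11 := by decide
    exact this ⟨a, h⟩
  · rw [List.getD_eq_default _ _ (by exact h)]; rfl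

theorem bm_get {a i : ℕ} (ha : a < 7) (hi : i < 11) : (bt Bm a).getD i 0 = Nat.shiftLeft 1 (11 * a + i) := by
  have : ∀ a : Fin 7, ∀ i : Fin 11, (bt Bm a).getD i 0 = Nat.shiftLeft 1 (11 * a + i) := by decide +kernel
  exact this ⟨a, ha⟩ ⟨i, hi⟩

theorem bm_get' {a i : ℕ} (ha : 7 ≤ a) (hi : i < 11) : (bt Bm a).getD i 0 = 0 := by
  unfold bt
  rw [show Bm.getD a zB = zB from List.getD_eq_default _ _ (by exact ha)]
  have : ∀ i : Fin 11, zB.getD i 0 = 0 := by decide
  exact this ⟨i, hi⟩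

theorem L6_lt {a : ℕ} (ha : a ∈ L6) : a < 7 := by
  revert a
  decide

/-- the extension does not split -/
theorem nonsplit (H : Subgroup EE) (h1 : H ⊓ pi.ker = ⊥) : H ⊔ pi.ker ≠ ⊤ := by
  intro h2
  obtain ⟨X, hX, hXf⟩ := exists_X
  have hgood := dm.good hX
  have hW : ∀ a : ℕ, ∃ W ∈ pi.ker, (a < 7 → W * X a ∈ H) ∧ (7 ≤ a → W = 1) := by
    intro a
    rcases lt_or_ge a 7 with ha | ha
    · have h3 : X a ∈ H ⊔ pi.ker := by rw [h2]; trivial
      rw [Subgroup.mem_sup_of_normal_right] at h3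
      obtain ⟨h, hh, n, hn, h4⟩ := h3
      refine ⟨X a * n⁻¹ * (X a)⁻¹, (inferInstance : pi.ker.Normal).conj_mem _ (inv_mem hn) _, fun _ => ?_,
        fun h' => absurd ha (not_lt.2 h')⟩
      rw [← h4]
      have : h * n * n⁻¹ * (h * n)⁻¹ * (h * n) = h := by group
      rw [this]
      exact hh
    · exact ⟨1, one_mem _, fun h' => absurd h' (not_lt.2 ha), fun _ => rfl⟩
  choose W hWk hWH hW1 using hW
  set u : ℕ → ZMod 2 := fun b => dm.co (W (b / 11)) (b % 11) with hu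
  have hco : ∀ a, ∀ i < 11, dm.co (W a) i = dotn 77 ((bt Bm a).getD i 0) u := by
    intro a i hi
    rcases lt_or_ge a 7 with ha | ha
    · rw [bm_get ha hi, dotn_pow' (by omega), hu]
      show _ = dm.co (W ((11 * a + i) / 11)) ((11 * a + i) % 11)
      rw [show (11 * a + i) / 11 = a by omega, show (11 * a + i) % 11 = i by omega]
    · rw [bm_get' ha hi, dotn_zero, hW1 a ha]
      exact hgood.co_one hi
  have hwv : ∀ w : List ℕ, (∀ a ∈ w, a ∈ L6) → wv (fun a => W a * X a) w ∈ H := by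
    intro w
    induction w with
    | nil => intro _; exact one_mem _
    | cons a w ih =>
      intro h
      rw [wv_cons]
      exact mul_mem (hWH a (L6_lt (h a (by simp)))) (ih fun x hx => h x (List.mem_cons_of_mem _ hx))
  have key : ∀ t : ℕ × ℕ × ℕ, chkE t = true → (rv X t.1).f (vw' t.2.1) =
      dotn 77 (Nat.xor (gw Ms Bm (lh t.1) (Nat.shiftLeft 1 t.2.1)) (gw Ms Bm (rh t.1) (Nat.shiftLeft 1 t.2.1))) u := by
    intro t ht
    unfold chkE at ht
    rw [Bool.and_eq_true, Bool.and_eq_true, Bool.and_eq_true] at ht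
    obtain ⟨⟨⟨e1, e2⟩, e3⟩, -⟩ := ht
    have hj := of_decide_eq_true e3
    have hl : ∀ a ∈ lh t.1, a ∈ L6 := fun a ha => by simpa using List.all_eq_true.1 e1 a ha
    have hr : ∀ a ∈ rh t.1, a ∈ L6 := fun a ha => by simpa using List.all_eq_true.1 e2 a ha
    obtain ⟨n1, hn1, f1, g1⟩ := gw_sound hgood bm_len hWk hco (lh t.1)
    obtain ⟨n2, hn2, f2, g2⟩ := gw_sound hgood bm_len hWk hco (rh t.1)
    have hv : rv X t.1 ∈ pi.ker := (MCohW.rules hX t.1).1
    have hv' : wv X (lh t.1) = rv X t.1 * wv X (rh t.1) := (MCohW.rules hX t.1).2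
    have hq : wv (fun a => W a * X a) (lh t.1) * (wv (fun a => W a * X a) (rh t.1))⁻¹ = n1 * rv X t.1 * n2⁻¹ := by
      rw [f1, f2, hv']
      group
    have hm : n1 * rv X t.1 * n2⁻¹ ∈ H ⊓ pi.ker :=
      Subgroup.mem_inf.2 ⟨by rw [← hq]; exact H.mul_mem (hwv _ hl) (H.inv_mem (hwv _ hr)),
        pi.ker.mul_mem (pi.ker.mul_mem hn1 hv) (pi.ker.inv_mem hn2)⟩
    rw [h1, Subgroup.mem_bot] at hm
    have hd := congrArg (fun e => dotn 11 (Nat.shiftLeft 1 t.2.1) (dm.co e)) hm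
    rw [hgood.dot_mul (mul_mem hn1 hv) (inv_mem hn2), hgood.dot_inv hn2, hgood.dot_mul hn1 hv, hgood.dot_one,
      g1, g2, dotn_pow hj, dm_co hv hj] at hd
    show _ = dotn 77 (_ ^^^ _) u
    rw [dotn_xor]
    have z1 := z2_add_self (dotn 77 (gw Ms Bm (lh t.1) (Nat.shiftLeft 1 t.2.1)) u)
    have z2 := z2_add_self (dotn 77 (gw Ms Bm (rh t.1) (Nat.shiftLeft 1 t.2.1)) u)
    linear_combination hd - z1 - z2
  have hsum : ∀ L : List (ℕ × ℕ × ℕ), L.all chkE = true →
      (L.map fun t => (rv X t.1).f (vw' t.2.1)).sum = dotn 77 (gsum L) u := by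
    intro L
    induction L with
    | nil => intro _; rw [List.map_nil, List.sum_nil]; exact (dotn_zero _ _).symm
    | cons t L ih =>
      intro h
      rw [List.all_cons, Bool.and_eq_true] at h
      rw [List.map_cons, List.sum_cons, ih h.2, key t h.1]
      show _ = dotn 77 (_ ^^^ gsum L) u
      rw [dotn_xor]
  have h3 := hsum mu chkE_ok
  rw [sum_val hX hXf mu chkE_ok, gsum_ok, dotn_zero] at h3
  have h4 := nat_even esum_ok
  rw [show Nat.add (esum mu) 1 = esum mu + 1 from rfl, Nat.cast_add, h3] at h4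
  revert h4
  decide

end Cfsg.Agent.Lib.MCohR
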