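import Cfsg.Agent.Lib.MCohU

/-!
Extensions of `M23` by the cocode module in the form of the statements.
-/

set_option autoImplicit false

namespace Cfsg.Agent.Lib.MCohT

open Cfsg Cfsg.Agent.Lib.Golay Cfsg.Agent.Lib.MCohA Cfsg.Agent.Lib.MCohB Cfsg.Agent.Lib.MCohM
open Cfsg.Agent.Lib.MCohN Cfsg.Agent.Lib.MCohW Cfsg.Agent.Lib.MCohU Finset

theorem vw'_pt {i j : ℕ} (hi : i < 11) (hj : j < 11) : vw' j (pt i) = if i = j then 1 else 0 := by
  have h : ∀ i j : Fin 11, (Vb.getD j 0).testBit i = decide ((i : ℕ) = j) := by decide +kernel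
  unfold vw' wd
  rw [ix_pt (by omega), h ⟨i, hi⟩ ⟨j, hj⟩]
  simp

theorem pair_comp (w c : GolayPt → ZMod 2) (σ : Equiv.Perm GolayPt) : pair (w ∘ ⇑σ⁻¹) c = pair w (c ∘ ⇑σ) := by
  unfold pair
  rw [← Equiv.sum_comp σ]
  refine sum_congr rfl fun p _ => ?_
  simp only [Function.comp_apply]
  rw [show (σ⁻¹ : Equiv.Perm GolayPt) (σ p) = p from Equiv.symm_apply_apply σ p]

/-- projection onto `M23` -/
def prj {E : Type*} [Group E] (N : Subgroup E) [hN : N.Normal] (φ : E ⧸ N ≃* ↥Cfsg.Spor.M23) : E →* ↥Spor.M23 :=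
  φ.toMonoidHom.comp (QuotientGroup.mk' N)

theorem ker_prj {E : Type*} [Group E] (N : Subgroup E) [hN : N.Normal] (φ : E ⧸ N ≃* ↥Cfsg.Spor.M23) :
    (prj N φ).ker = N := by
  ext g
  rw [MonoidHom.mem_ker]
  show φ (QuotientGroup.mk g) = 1 ↔ _
  rw [map_eq_one_iff _ φ.injective, QuotientGroup.eq_one_iff]

theorem prj_surj {E : Type*} [Group E] (N : Subgroup E) [hN : N.Normal] (φ : E ⧸ N ≃* ↥Cfsg.Spor.M23) :
    Function.Surjective (prj N φ) := φ.surjective.comp (QuotientGroup.mk'_surjective N)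

theorem exists_dmod {E : Type*} [Group E] (N : Subgroup E) [hN : N.Normal]
    (φ : E ⧸ N ≃* ↥Cfsg.Spor.M23) (θ : (Cfsg.GolayPt → ZMod 2) →+ Additive ↥N)
    (hsurj : Function.Surjective θ)
    (hker : ∀ w : Cfsg.GolayPt → ZMod 2, θ w = 0 ↔ (w ∈ Cfsg.golayCode ∨ w + Pi.single none 1 ∈ Cfsg.golayCode))
    (hθ : ∀ (g : E) (w : Cfsg.GolayPt → ZMod 2),
      ((θ (w ∘ ⇑(((φ (QuotientGroup.mk g) : ↥Cfsg.Spor.M23) : Equiv.Perm Cfsg.GolayPt)⁻¹))).toMul : E)
        = g * ((θ w).toMul : E) * g⁻¹) : Nonempty (DMod (prj N φ)) := by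
  classical
  choose ω hω using fun n : ↥N => hsurj (Additive.ofMul n)
  let lam : (GolayPt → ZMod 2) → E → ZMod 2 := fun c e => if h : e ∈ N then pair (ω ⟨e, h⟩) c else 0
  have key : ∀ c, InV c → ∀ u : GolayPt → ZMod 2, lam c ((θ u).toMul : E) = pair u c := by
    intro c hc u
    have h1 : lam c ((θ u).toMul : E) = pair (ω (θ u).toMul) c := dif_pos (θ u).toMul.2
    rw [h1]
    have h2 : θ (ω (θ u).toMul + u) = 0 := by
      rw [map_add, hω]
      have h3 : θ (u + u) = 0 := by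
        have : u + u = 0 := by funext p; exact z2_add_self _
        rw [this, map_zero]
      rw [map_add] at h3
      exact h3
    have h4 := pair_zero_of ((hker _).1 h2) hc.1 hc.2
    rw [pair_add_left] at h4
    have h5 := z2_add_self (pair u c)
    linear_combination h4 - h5
  have hN' : ∀ n ∈ (prj N φ).ker, n ∈ N := fun n hn => by rw [ker_prj] at hn; exact hn
  have hw : ∀ n ∈ (prj N φ).ker, ∃ u, ((θ u).toMul : E) = n := fun n hn => by
    obtain ⟨u, hu⟩ := hsurj (Additive.ofMul ⟨n, hN' n hn⟩)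
    exact ⟨u, by rw [hu]; rfl⟩
  refine ⟨⟨lam, ?_, ?_, ?_, ?_, ?_⟩⟩
  · intro n c c'
    show (if h : n ∈ N then pair (ω ⟨n, h⟩) (c + c') else 0) = (if h : n ∈ N then pair (ω ⟨n, h⟩) c else 0) +
      (if h : n ∈ N then pair (ω ⟨n, h⟩) c' else 0)
    split_ifs
    · exact pair_add_right _ _ _
    · simp
  · intro c hc n hn n' hn'
    obtain ⟨u, rfl⟩ := hw n hn
    obtain ⟨u', rfl⟩ := hw n' hn'
    rw [key c hc, key c hc, ← pair_add_left, ← key c hc, map_add]
    rfl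
  · intro c hc g n hn
    obtain ⟨u, rfl⟩ := hw n hn
    rw [← hθ g u, key c hc, pair_comp, key _ (inV_comp hc _)]
    rfl
  · intro n hn h
    obtain ⟨u, rfl⟩ := hw n hn
    have h1 : θ u = 0 := (hker u).2 (dual_cases fun i hi => by rw [← key _ (inV_vw hi)]; exact h i hi)
    rw [h1]
    rfl
  · intro f
    let u : GolayPt → ZMod 2 := ∑ i ∈ range 11, f i • Pi.single (pt i) 1
    refine ⟨((θ u).toMul : E), by rw [ker_prj]; exact (θ u).toMul.2, fun j hj => ?_⟩
    rw [key _ (inV_vw hj), pair_comm, pair_sum_right]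
    rw [sum_eq_single j]
    · rw [pair_smul_right, pair_comm, pair_single, vw'_pt hj hj, if_pos rfl, mul_one]
    · intro i hi hij
      rw [pair_smul_right, pair_comm, pair_single, vw'_pt (mem_range.1 hi) hj, if_neg hij, mul_zero]
    · intro h
      exact absurd (mem_range.2 hj) h

theorem not_compl {E : Type*} [Group E] {N : Subgroup E} [hN : N.Normal] (φ : E ⧸ N ≃* ↥Cfsg.Spor.M23)
    (hns : ∀ H : Subgroup E, H ⊓ N = ⊥ → H ⊔ N ≠ ⊤) :
    ¬ ∃ H : Subgroup E, Subgroup.IsComplement' (prj N φ).ker H := by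
  rw [ker_prj]
  rintro ⟨H, hH⟩
  exact hns H (by rw [inf_comm]; exact disjoint_iff.1 hH.disjoint) (by rw [sup_comm]; exact hH.sup_eq_top)

end Cfsg.Agent.Lib.MCohT
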