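import Cfsg.Agent.Lib.MCohW

/-!
Uniqueness of the nonsplit extension of `M23` by the cocode module (difference of two extensions).
-/

set_option autoImplicit false

namespace Cfsg.Agent.Lib.MCohU

open Cfsg Cfsg.Agent.Lib.Golay Cfsg.Agent.Lib.MCohA Cfsg.Agent.Lib.MCohB Cfsg.Agent.Lib.MCohM
open Cfsg.Agent.Lib.MCohN Cfsg.Agent.Lib.MCohDW Cfsg.Agent.Lib.MCohW Finset
open Cfsg.Agent.Lib.GolayModule (z2 act_mem)
open Cfsg.Agent.Lib.H92MathieuAut (mem_M23)

theorem inV_comp {c : GolayPt → ZMod 2} (hc : InV c) (σ : ↥Spor.M23) : InV (c ∘ ⇑(σ : Equiv.Perm GolayPt)) := by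
  have hσ := mem_M23.1 σ.2
  constructor
  · have h1 := act_mem (σ := (σ : Equiv.Perm GolayPt)⁻¹) (M24.inv_mem hσ.1) hc.1
    exact h1
  · rw [Function.comp_apply, hσ.2]
    exact hc.2

variable {E E' : Type*} [Group E] [Group E'] {π : E →* ↥Spor.M23} {π' : E' →* ↥Spor.M23}

/-- fibre product -/
def FP (π : E →* ↥Spor.M23) (π' : E' →* ↥Spor.M23) : Subgroup (E × E') :=
  (π.comp (MonoidHom.fst E E')).eqLocus (π'.comp (MonoidHom.snd E E'))

theorem mem_FP {p : E × E'} : p ∈ FP π π' ↔ π p.1 = π' p.2 := Iff.rfl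

/-- the common projection -/
def pr (π : E →* ↥Spor.M23) (π' : E' →* ↥Spor.M23) : ↥(FP π π') →* ↥Spor.M23 :=
  (π.comp (MonoidHom.fst E E')).comp (FP π π').subtype

theorem pr_apply (p : ↥(FP π π')) : pr π π' p = π p.1.1 := rfl
theorem pr_apply' (p : ↥(FP π π')) : pr π π' p = π' p.1.2 := p.2

/-- the diagonal -/
def Del (D : DMod π) (D' : DMod π') : Subgroup ↥(FP π π') where
  carrier := {p | pr π π' p = 1 ∧ ∀ c, InV c → D.lam c p.1.1 = D'.lam c p.1.2}
  one_mem' := by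
    refine ⟨map_one _, fun c hc => ?_⟩
    have h1 := D.add c hc 1 (one_mem _) 1 (one_mem _)
    have h2 := D'.add c hc 1 (one_mem _) 1 (one_mem _)
    rw [mul_one] at h1 h2
    have h3 : D.lam c 1 = 0 := by simpa using h1
    have h4 : D'.lam c 1 = 0 := by simpa using h2
    show D.lam c 1 = D'.lam c 1
    rw [h3, h4]
  mul_mem' := by
    rintro p q ⟨h1, h2⟩ ⟨h3, h4⟩
    refine ⟨by rw [map_mul, h1, h3, one_mul], fun c hc => ?_⟩
    show D.lam c (p.1.1 * q.1.1) = D'.lam c (p.1.2 * q.1.2)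
    rw [D.add c hc p.1.1 h1 q.1.1 h3, D'.add c hc p.1.2 ((pr_apply' p).symm.trans h1) q.1.2
      ((pr_apply' q).symm.trans h3), h2 c hc, h4 c hc]
  inv_mem' := by
    rintro p ⟨h1, h2⟩
    have h1' : pr π π' p⁻¹ = 1 := by rw [map_inv, h1, inv_one]
    refine ⟨h1', fun c hc => ?_⟩
    have e1 := D.add c hc p.1.1 h1 p.1.1⁻¹ (inv_mem h1)
    have e2 := D'.add c hc p.1.2 ((pr_apply' p).symm.trans h1) p.1.2⁻¹ (inv_mem ((pr_apply' p).symm.trans h1))
    have f1 := D.add c hc 1 (one_mem _) 1 (one_mem _)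
    have f2 := D'.add c hc 1 (one_mem _) 1 (one_mem _)
    rw [mul_one] at f1 f2
    have g1 : D.lam c 1 = 0 := by simpa using f1
    have g2 : D'.lam c 1 = 0 := by simpa using f2
    rw [mul_inv_cancel, g1] at e1
    rw [mul_inv_cancel, g2, ← h2 c hc] at e2
    show D.lam c (p.1.1)⁻¹ = D'.lam c (p.1.2)⁻¹
    have := e1.symm.trans e2
    exact add_left_cancel this

instance (D : DMod π) (D' : DMod π') : (Del D D').Normal := by
  refine ⟨?_⟩
  rintro p ⟨h1, h2⟩ g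
  refine ⟨by rw [map_mul, map_mul, h1, mul_one, map_inv, mul_inv_cancel], fun c hc => ?_⟩
  show D.lam c (g.1.1 * p.1.1 * (g.1.1)⁻¹) = D'.lam c (g.1.2 * p.1.2 * (g.1.2)⁻¹)
  rw [D.eqv c hc _ p.1.1 h1, D'.eqv c hc _ p.1.2 ((pr_apply' p).symm.trans h1)]
  have h3 : π g.1.1 = π' g.1.2 := g.2
  rw [← h3]
  exact h2 _ (inV_comp hc _)

/-- projection of the quotient -/
def prq (D : DMod π) (D' : DMod π') : (↥(FP π π') ⧸ Del D D') →* ↥Spor.M23 :=
  QuotientGroup.lift (Del D D') (pr π π') fun _ hp => hp.1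

theorem prq_mk (D : DMod π) (D' : DMod π') (p : ↥(FP π π')) :
    prq D D' (QuotientGroup.mk p) = pr π π' p := rfl

/-- functional on the quotient -/
noncomputable def lamq (D : DMod π) (D' : DMod π') (c : GolayPt → ZMod 2) (x : ↥(FP π π') ⧸ Del D D') : ZMod 2 :=
  D.lam c x.out.1.1 + D'.lam c x.out.1.2

theorem lamq_mk (D : DMod π) (D' : DMod π') {c : GolayPt → ZMod 2} (hc : InV c) (p : ↥(FP π π'))
    (hp : pr π π' p = 1) : lamq D D' c (QuotientGroup.mk p) = D.lam c p.1.1 + D'.lam c p.1.2 := by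
  obtain ⟨δ, hδ⟩ := QuotientGroup.mk_out_eq_mul (Del D D') p
  unfold lamq
  rw [hδ]
  have h1 := δ.2.1
  have h2 := δ.2.2 c hc
  show D.lam c (p.1.1 * δ.1.1.1) + D'.lam c (p.1.2 * δ.1.1.2) = _
  rw [D.add c hc p.1.1 hp δ.1.1.1 h1, D'.add c hc p.1.2 ((pr_apply' p).symm.trans hp) δ.1.1.2
    ((pr_apply' δ.1).symm.trans h1), h2]
  have := z2_add_self (D'.lam c δ.1.1.2)
  linear_combination this

/-- the difference extension -/
noncomputable def DD (D : DMod π) (D' : DMod π') : DMod (prq D D') where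
  lam := lamq D D'
  lin := by
    intro n c c'
    unfold lamq
    rw [D.lin, D'.lin]
    ring
  add := by
    intro c hc n hn n' hn'
    obtain ⟨p, rfl⟩ := QuotientGroup.mk_surjective n
    obtain ⟨q, rfl⟩ := QuotientGroup.mk_surjective n'
    have h1 : pr π π' p = 1 := hn
    have h2 : pr π π' q = 1 := hn'
    rw [← QuotientGroup.mk_mul, lamq_mk D D' hc p h1, lamq_mk D D' hc q h2,
      lamq_mk D D' hc (p * q) (by rw [map_mul, h1, h2, one_mul])]
    show D.lam c (p.1.1 * q.1.1) + D'.lam c (p.1.2 * q.1.2) = _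
    rw [D.add c hc p.1.1 h1 q.1.1 h2, D'.add c hc p.1.2 ((pr_apply' p).symm.trans h1) q.1.2
      ((pr_apply' q).symm.trans h2)]
    ring
  eqv := by
    intro c hc g n hn
    obtain ⟨p, rfl⟩ := QuotientGroup.mk_surjective n
    obtain ⟨q, rfl⟩ := QuotientGroup.mk_surjective g
    have h1 : pr π π' p = 1 := hn
    rw [← QuotientGroup.mk_mul, ← QuotientGroup.mk_inv, ← QuotientGroup.mk_mul,
      lamq_mk D D' hc (q * p * q⁻¹) (by rw [map_mul, map_mul, h1, mul_one, map_inv, mul_inv_cancel]),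
      lamq_mk D D' (inV_comp hc _) p h1]
    show D.lam c (q.1.1 * p.1.1 * (q.1.1)⁻¹) + D'.lam c (q.1.2 * p.1.2 * (q.1.2)⁻¹) = _
    rw [D.eqv c hc _ p.1.1 h1, D'.eqv c hc _ p.1.2 ((pr_apply' p).symm.trans h1)]
    have h3 : π q.1.1 = π' q.1.2 := q.2
    rw [← h3]
    rfl
  sep := by
    intro n hn h
    obtain ⟨p, rfl⟩ := QuotientGroup.mk_surjective n
    have h1 : pr π π' p = 1 := hn
    rw [QuotientGroup.eq_one_iff]
    refine ⟨h1, fun c hc => ?_⟩
    rw [D.expand _ hc, D'.expand _ hc]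
    refine sum_congr rfl fun i hi => ?_
    have h2 := h i (mem_range.1 hi)
    rw [lamq_mk D D' (inV_vw (mem_range.1 hi)) p h1] at h2
    congr 1
    have h3 := z2_add_self (D'.lam (vw' i) p.1.2)
    linear_combination h2 - h3
  surj := by
    intro f
    obtain ⟨n, hn, h⟩ := D.surj f
    have hF : ((n, 1) : E × E') ∈ FP π π' := by
      rw [mem_FP, map_one]
      exact hn
    have h1 : pr π π' ⟨(n, 1), hF⟩ = 1 := hn
    refine ⟨QuotientGroup.mk ⟨(n, 1), hF⟩, h1, fun i hi => ?_⟩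
    rw [lamq_mk D D' (inV_vw hi) _ h1]
    have f2 := D'.add _ (inV_vw hi) 1 (one_mem _) 1 (one_mem _)
    rw [mul_one] at f2
    have g2 : D'.lam (vw' i) 1 = 0 := by simpa using f2
    show D.lam (vw' i) n + D'.lam (vw' i) 1 = _
    rw [g2, add_zero, h i hi]

/-- lifts in the quotient -/
theorem lift_mk (D : DMod π) (D' : DMod π') {X : ℕ → E} {X' : ℕ → E'} (hX : Lift π X) (hX' : Lift π' X')
    (hF : ∀ a, ((X a, X' a) : E × E') ∈ FP π π') :
    Lift (prq D D') (fun a => QuotientGroup.mk ⟨(X a, X' a), hF a⟩) := by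
  refine ⟨fun a => hX.val a, fun a ha => ?_⟩
  have : (⟨(X a, X' a), hF a⟩ : ↥(FP π π')) = 1 := by
    apply Subtype.ext
    exact Prod.ext (hX.one a ha) (hX'.one a ha)
  show (QuotientGroup.mk _ : ↥(FP π π') ⧸ Del D D') = 1
  rw [this, QuotientGroup.mk_one]

theorem val_mk (D : DMod π) (D' : DMod π') {X : ℕ → E} {X' : ℕ → E'} (hX : Lift π X) (hX' : Lift π' X')
    (hF : ∀ a, ((X a, X' a) : E × E') ∈ FP π π') :
    (DD D D').val (fun a => QuotientGroup.mk ⟨(X a, X' a), hF a⟩) = D.val X + D'.val X' := by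
  unfold DMod.val
  rw [← dotn_add]
  refine dotn_congr fun b _ => ?_
  unfold uu
  have hwv : ∀ w : List ℕ, wv (fun a => (⟨(X a, X' a), hF a⟩ : ↥(FP π π'))) w =
      ⟨(wv X w, wv X' w), by
        rw [mem_FP]
        show π (wv X w) = π' (wv X' w)
        rw [wv_map, wv_map]
        congr 1
        funext a
        exact hF a⟩ := by
    intro w
    induction w with
    | nil => rfl
    | cons a w ih => rw [wv_cons, ih]; rfl
  have hr : rv (fun a => (QuotientGroup.mk (⟨(X a, X' a), hF a⟩ : ↥(FP π π')) : ↥(FP π π') ⧸ Del D D')) (b / 11) =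
      QuotientGroup.mk (rv (fun a => (⟨(X a, X' a), hF a⟩ : ↥(FP π π'))) (b / 11)) := by
    unfold rv
    rw [QuotientGroup.mk_mul, QuotientGroup.mk_inv]
    have h1 : ∀ w : List ℕ, wv (fun a => (QuotientGroup.mk (⟨(X a, X' a), hF a⟩ : ↥(FP π π')) : ↥(FP π π') ⧸ Del D D')) w =
        QuotientGroup.mk (wv (fun a => (⟨(X a, X' a), hF a⟩ : ↥(FP π π'))) w) := fun w =>
      (wv_map (QuotientGroup.mk' (Del D D')) _ w).symm
    rw [h1, h1]
  have hrF : rv (fun a => (⟨(X a, X' a), hF a⟩ : ↥(FP π π'))) (b / 11) =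
      ⟨(rv X (b / 11), rv X' (b / 11)), by
        rw [mem_FP]
        have h1 := (MCohW.rules hX (b / 11)).1
        have h2 := (MCohW.rules hX' (b / 11)).1
        exact (MonoidHom.mem_ker.1 h1).trans (MonoidHom.mem_ker.1 h2).symm⟩ := by
    unfold rv
    rw [hwv, hwv]
    rfl
  rw [hr, hrF]
  have h1 := (MCohW.rules hX (b / 11)).1
  exact lamq_mk D D' (inV_vw (Nat.mod_lt _ (by norm_num))) _ (MonoidHom.mem_ker.1 h1)

/-- two nonsplit extensions are isomorphic -/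
theorem iso_of_nonsplit [Finite E] [Finite E'] (D : DMod π) (D' : DMod π') (hπ : Function.Surjective π)
    (hπ' : Function.Surjective π') (hns : ¬ ∃ H : Subgroup E, Subgroup.IsComplement' π.ker H)
    (hns' : ¬ ∃ H : Subgroup E', Subgroup.IsComplement' π'.ker H) : Nonempty (E ≃* E') := by
  classical
  obtain ⟨X, hX⟩ := exists_lift hπ
  obtain ⟨X', hX'⟩ := exists_lift hπ'
  have hF : ∀ a, ((X a, X' a) : E × E') ∈ FP π π' := fun a => by
    rw [mem_FP]
    exact Subtype.ext ((hX.val a).trans (hX'.val a).symm)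
  have h1 : D.val X = 1 := by
    rcases z2 (D.val X) with h | h
    · exact absurd (D.split hπ hX h) hns
    · exact h
  have h2 : D'.val X' = 1 := by
    rcases z2 (D'.val X') with h | h
    · exact absurd (D'.split hπ' hX' h) hns'
    · exact h
  have h3 : (DD D D').val (fun a => QuotientGroup.mk ⟨(X a, X' a), hF a⟩) = 0 := by
    rw [val_mk D D' hX hX' hF, h1, h2]
    decide
  have hπq : Function.Surjective (prq D D') := by
    intro σ
    obtain ⟨e, he⟩ := hπ σ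
    obtain ⟨e', he'⟩ := hπ' σ
    exact ⟨QuotientGroup.mk ⟨(e, e'), by rw [mem_FP, he, he']⟩, he⟩
  obtain ⟨H, hH⟩ := (DD D D').split hπq (lift_mk D D' hX hX' hF) h3
  -- the preimage of the complement
  let K : Subgroup ↥(FP π π') := H.comap (QuotientGroup.mk' (Del D D'))
  have hΔK : ∀ p ∈ Del D D', p ∈ K := fun p hp => by
    show QuotientGroup.mk p ∈ H
    rw [(QuotientGroup.eq_one_iff p).2 hp]
    exact H.one_mem
  have hK1 : ∀ p ∈ K, pr π π' p = 1 → p ∈ Del D D' := by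
    intro p hp h
    have h4 : (QuotientGroup.mk p : ↥(FP π π') ⧸ Del D D') ∈ (prq D D').ker ⊓ H := ⟨h, hp⟩
    rw [disjoint_iff.1 hH.disjoint, Subgroup.mem_bot] at h4
    exact (QuotientGroup.eq_one_iff p).1 h4
  have hK2 : ∀ p : ↥(FP π π'), ∃ q : ↥(FP π π'), pr π π' q = 1 ∧ q⁻¹ * p ∈ K := by
    intro p
    obtain ⟨⟨⟨n, hn⟩, ⟨h, hh⟩⟩, h5⟩ := hH.2 (QuotientGroup.mk p : ↥(FP π π') ⧸ Del D D')
    have h5 : n * h = QuotientGroup.mk p := h5
    obtain ⟨q, rfl⟩ := QuotientGroup.mk_surjective n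
    refine ⟨q, hn, ?_⟩
    show QuotientGroup.mk (q⁻¹ * p) ∈ H
    rw [QuotientGroup.mk_mul, QuotientGroup.mk_inv, ← h5, inv_mul_cancel_left]
    exact hh
  have hlam : ∀ (p : ↥(FP π π')), p ∈ Del D D' → p.1.1 = 1 → p.1.2 = 1 := by
    rintro p ⟨h4, h5⟩ h6
    refine D'.sep _ ((pr_apply' p).symm.trans h4) fun i hi => ?_
    rw [← h5 _ (inV_vw hi), h6]
    have f2 := D.add _ (inV_vw hi) 1 (one_mem _) 1 (one_mem _)
    rw [mul_one] at f2
    simpa using f2
  have hlam' : ∀ (p : ↥(FP π π')), p ∈ Del D D' → p.1.2 = 1 → p.1.1 = 1 := by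
    rintro p ⟨h4, h5⟩ h6
    refine D.sep _ h4 fun i hi => ?_
    rw [h5 _ (inV_vw hi), h6]
    have f2 := D'.add _ (inV_vw hi) 1 (one_mem _) 1 (one_mem _)
    rw [mul_one] at f2
    simpa using f2
  have hdel : ∀ n1 ∈ π.ker, ∃ m ∈ π'.ker, ∀ c, InV c → D.lam c n1 = D'.lam c m := by
    intro n1 _
    obtain ⟨m, hm, h⟩ := D'.surj fun i => D.lam (vw' i) n1
    refine ⟨m, hm, fun c hc => ?_⟩
    rw [D.expand _ hc, D'.expand _ hc]
    exact sum_congr rfl fun i hi => by rw [h i (mem_range.1 hi)]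
  have hdel' : ∀ m ∈ π'.ker, ∃ n1 ∈ π.ker, ∀ c, InV c → D.lam c n1 = D'.lam c m := by
    intro m _
    obtain ⟨n1, hn1, h⟩ := D.surj fun i => D'.lam (vw' i) m
    refine ⟨n1, hn1, fun c hc => ?_⟩
    rw [D.expand _ hc, D'.expand _ hc]
    exact sum_congr rfl fun i hi => by rw [h i (mem_range.1 hi)]
  let p1 : ↥K →* E := ((MonoidHom.fst E E').comp (FP π π').subtype).comp K.subtype
  let p2 : ↥K →* E' := ((MonoidHom.snd E E').comp (FP π π').subtype).comp K.subtype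
  have hb1 : Function.Bijective p1 := by
    constructor
    · rw [injective_iff_map_eq_one]
      intro k hk
      have h4 : (k : ↥(FP π π')).1.1 = 1 := hk
      have h5 : pr π π' k = 1 := by rw [pr_apply, h4, map_one]
      have h6 := hK1 k k.2 h5
      have h7 := hlam k h6 h4
      apply Subtype.ext
      apply Subtype.ext
      exact Prod.ext h4 h7
    · intro e
      obtain ⟨e', he'⟩ := hπ' (π e)
      obtain ⟨q, hq, hqK⟩ := hK2 ⟨(e, e'), he'.symm⟩
      obtain ⟨m, hm, hm'⟩ := hdel q.1.1 hq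
      have hF1 : ((q.1.1, m) : E × E') ∈ FP π π' := by
        rw [mem_FP]
        exact (show π q.1.1 = 1 from hq).trans (show π' m = 1 from hm).symm
      have h4 : (⟨(q.1.1, m), hF1⟩ : ↥(FP π π')) ∈ Del D D' := ⟨hq, hm'⟩
      refine ⟨⟨⟨(q.1.1, m), hF1⟩ * (q⁻¹ * ⟨(e, e'), he'.symm⟩), K.mul_mem (hΔK _ h4) hqK⟩, ?_⟩
      show q.1.1 * ((q.1.1)⁻¹ * e) = e
      group
  have hb2 : Function.Bijective p2 := by
    constructor
    · rw [injective_iff_map_eq_one]
      intro k hk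
      have h4 : (k : ↥(FP π π')).1.2 = 1 := hk
      have h5 : pr π π' k = 1 := by rw [pr_apply', h4, map_one]
      have h6 := hK1 k k.2 h5
      have h7 := hlam' k h6 h4
      apply Subtype.ext
      apply Subtype.ext
      exact Prod.ext h7 h4
    · intro e'
      obtain ⟨e, he⟩ := hπ (π' e')
      obtain ⟨q, hq, hqK⟩ := hK2 ⟨(e, e'), he⟩
      have hq' : q.1.2 ∈ π'.ker := (pr_apply' q).symm.trans hq
      obtain ⟨n, hn, hn'⟩ := hdel' q.1.2 hq'
      have hF1 : ((n, q.1.2) : E × E') ∈ FP π π' := by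
        rw [mem_FP]
        exact (show π n = 1 from hn).trans (show π' q.1.2 = 1 from hq').symm
      have h4 : (⟨(n, q.1.2), hF1⟩ : ↥(FP π π')) ∈ Del D D' := ⟨hn, hn'⟩
      refine ⟨⟨⟨(n, q.1.2), hF1⟩ * (q⁻¹ * ⟨(e, e'), he⟩), K.mul_mem (hΔK _ h4) hqK⟩, ?_⟩
      show q.1.2 * ((q.1.2)⁻¹ * e') = e'
      group
  exact ⟨(MulEquiv.ofBijective p1 hb1).symm.trans (MulEquiv.ofBijective p2 hb2)⟩

end Cfsg.Agent.Lib.MCohU
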