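import Cfsg.Agent.Lib.MCohN
import Cfsg.Agent.Lib.MCohDV

/-!
Extensions of `M23` by the code module split.
-/

set_option autoImplicit false

namespace Cfsg.Agent.Lib.MCohV

open Cfsg Cfsg.Agent.Lib.Golay Cfsg.Agent.Lib.MCohA Cfsg.Agent.Lib.MCohB Cfsg.Agent.Lib.MCohM
open Cfsg.Agent.Lib.MCohN Cfsg.Agent.Lib.MCohDV Finset

/-- check of the matrices -/
def actV : Bool := (List.range cs.length).all fun a => (List.range 11).all fun j =>
  (List.range 24).any fun q => Nat.beq (img (cs.getD a idC) q) j && (List.range 11).all fun i =>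
    (((mt Ms a).getD j 0).testBit i == (Vb.getD i 0).testBit q)

theorem actV_ok : actV = true := by decide +kernel

theorem len_ok : (Ms.all fun m => m.length == 11) = true := by decide +kernel
theorem len_cs : cs.length = Ms.length := by decide +kernel

theorem mt_len (a : ℕ) : (mt Ms a).length = 11 := by
  unfold MCohA.mt
  rcases lt_or_ge a Ms.length with h | h
  · rw [List.getD_eq_getElem?_getD, List.getElem?_eq_getElem h, Option.getD_some]
    have := List.all_eq_true.1 len_ok _ (List.getElem_mem h)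
    simpa using this
  · rw [List.getD_eq_default _ _ h]; rfl

theorem idM_getD {j : ℕ} (hj : j < 11) : idM.getD j 0 = Nat.shiftLeft 1 j := by
  have : ∀ j : Fin 11, idM.getD j 0 = Nat.shiftLeft 1 j := by decide
  exact this ⟨j, hj⟩

/-- the action of a generator on the coordinates of a word of the code module -/
theorem act_word {a : ℕ} (ha : a < cs.length) {j : ℕ} (hj : j < 11) {v : GolayPt → ZMod 2} (hv : v ∈ golayCode)
    (h0 : v none = 0) : (v ∘ ⇑(toPerm (cs.getD a idC))⁻¹) (pt j) = dotn 11 ((mt Ms a).getD j 0) (fun i => v (pt i)) := by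
  have h := actV_ok
  unfold actV at h
  rw [List.all_eq_true] at h
  have h1 := h a (List.mem_range.2 ha)
  rw [List.all_eq_true] at h1
  have h2 := h1 j (List.mem_range.2 hj)
  rw [List.any_eq_true] at h2
  obtain ⟨q, hq, h3⟩ := h2
  have hq' := List.mem_range.1 hq
  rw [Bool.and_eq_true] at h3
  obtain ⟨h3, h4⟩ := h3
  rw [List.all_eq_true] at h4
  have hcv : ∀ c ∈ cs, valid c = true := fun c hc => (in23_spec (List.all_eq_true.1 cs_ok c hc)).1
  have h5 : (toPerm (cs.getD a idC))⁻¹ (pt j) = pt q := by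
    rw [Equiv.Perm.inv_eq_iff_eq, toPerm_pt (valid_getD hcv a) hq', Nat.eq_of_beq_eq_true h3]
  rw [Function.comp_apply, h5]
  conv_lhs => rw [expand hv h0]
  rw [Finset.sum_apply]
  unfold dotn
  refine sum_congr rfl fun i hi => ?_
  have h6 := h4 i (List.mem_range.2 (mem_range.1 hi))
  rw [beq_iff_eq] at h6
  rw [Pi.smul_apply, smul_eq_mul, vw', wd, ix_pt hq', h6]
  split_ifs <;> simp

theorem main {E : Type*} [Group E] [Finite E] (N : Subgroup E) [hN : N.Normal]
    (φ : E ⧸ N ≃* ↥Cfsg.Spor.M23)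
    (ψ : Additive ↥N →+ (Cfsg.GolayPt → ZMod 2)) (hinj : Function.Injective ψ)
    (hrange : ∀ w : Cfsg.GolayPt → ZMod 2, w ∈ Set.range ψ ↔ (w ∈ Cfsg.golayCode ∧ w none = 0))
    (hψ : ∀ (g : E) (n : ↥N),
      ψ (Additive.ofMul ⟨g * n * g⁻¹, hN.conj_mem n n.2 g⟩)
        = ψ (Additive.ofMul n) ∘ ⇑(((φ (QuotientGroup.mk g) : ↥Cfsg.Spor.M23) : Equiv.Perm Cfsg.GolayPt)⁻¹)) :
    ∃ H : Subgroup E, H ⊓ N = ⊥ ∧ H ⊔ N = ⊤ := by
  classical
  let π : E →* ↥Spor.M23 := φ.toMonoidHom.comp (QuotientGroup.mk' N)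
  have hπ : Function.Surjective π := φ.surjective.comp (QuotientGroup.mk'_surjective N)
  have hker : π.ker = N := by
    ext g
    rw [MonoidHom.mem_ker]
    show φ (QuotientGroup.mk g) = 1 ↔ _
    rw [map_eq_one_iff _ φ.injective, QuotientGroup.eq_one_iff]
  have hcv : ∀ c ∈ cs, valid c = true := fun c hc => (in23_spec (List.all_eq_true.1 cs_ok c hc)).1
  have hXe : ∀ a : ℕ, ∃ g : E, ((π g : ↥Spor.M23) : Equiv.Perm GolayPt) = toPerm (cs.getD a idC) ∧
      (cs.length ≤ a → g = 1) := by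
    intro a
    rcases lt_or_ge a cs.length with h | h
    · obtain ⟨g, hg⟩ := hπ ⟨toPerm (cs.getD a idC), by
        rw [List.getD_eq_getElem?_getD, List.getElem?_eq_getElem h, Option.getD_some]
        exact (in23_spec (List.all_eq_true.1 cs_ok _ (List.getElem_mem h))).2⟩
      exact ⟨g, by rw [hg], fun h' => absurd h (not_lt.2 h')⟩
    · refine ⟨1, ?_, fun _ => rfl⟩
      rw [map_one, List.getD_eq_default _ _ h, toPerm_idC]
      rfl
  choose X hX hX1 using hXe
  let co : E → ℕ → ZMod 2 := fun e i => if h : e ∈ N then ψ (Additive.ofMul ⟨e, h⟩) (pt i) else 0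
  have hco : ∀ (n : E) (h : n ∈ N) (i : ℕ), co n i = ψ (Additive.ofMul ⟨n, h⟩) (pt i) := fun n h i => dif_pos h
  have hmem : ∀ n : Additive ↥N, ψ n ∈ golayCode ∧ ψ n none = 0 := fun n => (hrange _).1 ⟨n, rfl⟩
  have hgood : Good N co X Ms := by
    refine ⟨fun n hn g => hN.conj_mem n hn g, ?_, ?_, ?_, mt_len⟩
    · intro n hn n' hn' i _
      rw [hco _ (N.mul_mem hn hn'), hco _ hn, hco _ hn']
      have : (Additive.ofMul (⟨n * n', N.mul_mem hn hn'⟩ : ↥N)) =
          Additive.ofMul (⟨n, hn⟩ : ↥N) + Additive.ofMul (⟨n', hn'⟩ : ↥N) := rfl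
      rw [this, map_add]
      rfl
    · intro n hn h
      have h1 : ψ (Additive.ofMul ⟨n, hn⟩) = 0 := by
        rw [expand (hmem _).1 (hmem _).2]
        refine sum_eq_zero fun i hi => ?_
        rw [← hco n hn i, h i (mem_range.1 hi), zero_smul]
      have h2 : (Additive.ofMul (⟨n, hn⟩ : ↥N)) = 0 := hinj (by rw [h1, map_zero])
      exact congrArg Subtype.val (congrArg Additive.toMul h2)
    · intro a n hn j hj
      rcases lt_or_ge a cs.length with ha | ha
      · rw [hco _ (hN.conj_mem n hn (X a)), hψ (X a) ⟨n, hn⟩]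
        have h1 : ((φ (QuotientGroup.mk (X a)) : ↥Spor.M23) : Equiv.Perm GolayPt) = toPerm (cs.getD a idC) := hX a
        rw [h1, act_word ha hj (hmem _).1 (hmem _).2]
        exact dotn_congr fun i _ => (hco n hn i).symm
      · rw [hX1 a ha, one_mul, inv_one, mul_one]
        have h2 : mt Ms a = idM := by
          unfold MCohA.mt
          rw [List.getD_eq_default _ _ (by rw [← len_cs]; exact ha)]
        rw [h2, idM_getD hj, dotn_pow hj]
  have hsurj : ∀ f : ℕ → ZMod 2, ∃ n ∈ N, ∀ i < 11, co n i = f i := by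
    intro f
    obtain ⟨r, hr, h⟩ := exists_bits f 11
    obtain ⟨h1, h2, h3⟩ := vb_spec (r := r) hr
    obtain ⟨n, hn⟩ := (hrange _).2 ⟨h1, h2⟩
    refine ⟨(n.toMul : E), (Additive.toMul n).2, fun i hi => ?_⟩
    rw [hco _ (Additive.toMul n).2]
    have : ψ (Additive.ofMul ⟨(n.toMul : E), (Additive.toMul n).2⟩) = ψ n := rfl
    rw [this, hn, h3 i hi, h i hi]
  obtain ⟨v, hR⟩ : ∃ v, Rules N X rl v := ⟨_, hker ▸ rules_of π X hcv hX rl_ok⟩
  have hrows : ∀ R ∈ Rw, dotn (11 * rl.length) R (uu co v) = 0 := by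
    intro R hR1
    rw [← rows_ok, List.mem_flatMap] at hR1
    obtain ⟨t, _, ht⟩ := hR1
    exact hgood.idRows_sound hR t R ht
  have hB : ∀ a, (bt Bm a).length = 11 := by
    intro a
    unfold bt
    rcases lt_or_ge a Bm.length with h | h
    · rw [List.getD_eq_getElem?_getD, List.getElem?_eq_getElem h, Option.getD_some]
      have := List.all_eq_true.1 B_ok _ (List.getElem_mem h)
      simpa using this
    · rw [List.getD_eq_default _ _ h]; rfl
  have hrho : dotn (11 * rl.length) rho (uu co v) = 0 := dotn_zero _ _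
  obtain ⟨W, hW, hy⟩ := exists_lifts hgood hsurj hR hB hrows hrho (K := fun k => k < 28) (mk := fun k => mk.getD k [])
    (fun k hk => List.all_eq_true.1 T_ok k (List.mem_range.2 hk))
  have hcard : 2 ^ 7 ≤ Nat.card (chain 7 (fun a => π (X a)) 0) :=
    card_chain_ge Spor.M23.subtype _ hcv (fun a _ => hX a) (by decide +kernel)
  obtain ⟨H, hH⟩ := exists_compl hgood π hπ hker pc_ok hW hy hcard (q := 79695)
    (by rw [H92MathieuSchur.card_M23]; norm_num) (by decide)
  exact ⟨H, by rw [inf_comm]; exact disjoint_iff.1 hH.disjoint, by rw [sup_comm]; exact hH.sup_eq_top⟩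

end Cfsg.Agent.Lib.MCohV
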