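import Cfsg.Agent.Lib.MCohN
import Cfsg.Agent.Lib.MCohDW

/-!
Extensions of `M23` by the cocode module: the obstruction functional, and uniqueness of the nonsplit one.
-/

set_option autoImplicit false

namespace Cfsg.Agent.Lib.MCohW

open Cfsg Cfsg.Agent.Lib.Golay Cfsg.Agent.Lib.MCohA Cfsg.Agent.Lib.MCohB Cfsg.Agent.Lib.MCohM
open Cfsg.Agent.Lib.MCohN Cfsg.Agent.Lib.MCohDW Finset
open Cfsg.Agent.Lib.GolayModule (z2)

/-- words of the code vanishing at the extra point -/
def InV (c : GolayPt → ZMod 2) : Prop := c ∈ golayCode ∧ c none = 0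

/-- an extension of `M23` by the dual of the code module: functionals for the words of the module -/
structure DMod {E : Type*} [Group E] (π : E →* ↥Spor.M23) where
  lam : (GolayPt → ZMod 2) → E → ZMod 2
  lin : ∀ n c c', lam (c + c') n = lam c n + lam c' n
  add : ∀ c, InV c → ∀ n ∈ π.ker, ∀ n' ∈ π.ker, lam c (n * n') = lam c n + lam c n'
  eqv : ∀ c, InV c → ∀ g : E, ∀ n ∈ π.ker, lam c (g * n * g⁻¹) = lam (c ∘ ⇑((π g : ↥Spor.M23) : Equiv.Perm GolayPt)) n
  sep : ∀ n ∈ π.ker, (∀ i < 11, lam (vw' i) n = 0) → n = 1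
  surj : ∀ f : ℕ → ZMod 2, ∃ n ∈ π.ker, ∀ i < 11, lam (vw' i) n = f i

section

variable {E : Type*} [Group E] {π : E →* ↥Spor.M23}

theorem inV_vw {i : ℕ} (hi : i < 11) : InV (vw' i) := vw'_mem hi

theorem DMod.lam_zero (D : DMod π) (n : E) : D.lam 0 n = 0 := by
  have := D.lin n 0 0
  rw [add_zero] at this
  simpa using this

theorem DMod.lam_smul (D : DMod π) (n : E) (a : ZMod 2) (c : GolayPt → ZMod 2) : D.lam (a • c) n = a * D.lam c n := by
  rcases z2 a with rfl | rfl
  · rw [zero_smul, zero_mul, D.lam_zero]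
  · rw [one_smul, one_mul]

theorem DMod.lam_sum (D : DMod π) (n : E) {ι : Type*} (s : Finset ι) (f : ι → GolayPt → ZMod 2) :
    D.lam (∑ i ∈ s, f i) n = ∑ i ∈ s, D.lam (f i) n := by
  classical
  induction s using Finset.induction_on with
  | empty => simp [D.lam_zero]
  | insert a s ha ih => rw [sum_insert ha, sum_insert ha, D.lin, ih]

theorem DMod.expand (D : DMod π) (n : E) {c : GolayPt → ZMod 2} (hc : InV c) :
    D.lam c n = ∑ i ∈ range 11, c (pt i) * D.lam (vw' i) n := by
  conv_lhs => rw [MCohN.expand hc.1 hc.2]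
  rw [D.lam_sum]
  exact sum_congr rfl fun i _ => D.lam_smul _ _ _

/-- coordinates -/
def DMod.co (D : DMod π) (e : E) (i : ℕ) : ZMod 2 := D.lam (vw' i) e

theorem DMod.lam_vm (D : DMod π) (n : E) (r : ℕ) : D.lam (wd (vm Vb r)) n = dotn 11 r (D.co n) := by
  rw [wd_vm, D.lam_sum]
  unfold dotn
  refine sum_congr rfl fun i _ => ?_
  split_ifs
  · rfl
  · exact D.lam_zero n

/-- check of the matrices -/
def actW : Bool := (List.range cs.length).all fun a => (List.range 11).all fun j =>
  (List.range 24).all fun q => (Vb.getD j 0).testBit (img (cs.getD a idC) q) == (vm Vb ((mt Ms a).getD j 0)).testBit q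

theorem actW_ok : actW = true := by decide +kernel

theorem len_ok : (Ms.all fun m => m.length == 11) = true := by decide +kernel
theorem len_cs : cs.length = Ms.length := by decide +kernel

theorem mt_len (a : ℕ) : (mt Ms a).length = 11 := by
  unfold MCohA.mt
  rcases lt_or_ge a Ms.length with h | h
  · rw [List.getD_eq_getElem?_getD, List.getElem?_eq_getElem h, Option.getD_some]
    have := List.all_eq_true.1 len_ok _ (List.getElem_mem h)
    simpa using this
  · rw [List.getD_eq_default _ _ h]; rfl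

theorem idM_getD {j : ℕ} (hj : j < 11) : idM.getD j 0 = Nat.shiftLeft 1 j := by
  have : ∀ j : Fin 11, idM.getD j 0 = Nat.shiftLeft 1 j := by decide
  exact this ⟨j, hj⟩

theorem hcv : ∀ c ∈ cs, valid c = true := fun c hc => (in23_spec (List.all_eq_true.1 cs_ok c hc)).1

theorem vw_comp {a : ℕ} (ha : a < cs.length) {j : ℕ} (hj : j < 11) :
    vw' j ∘ ⇑(toPerm (cs.getD a idC)) = wd (vm Vb ((mt Ms a).getD j 0)) := by
  funext p
  obtain ⟨q, hq, rfl⟩ : ∃ q < 24, p = pt q := ⟨ix p, ix_lt p, (pt_ix p).symm⟩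
  have h := actW_ok
  unfold actW at h
  have h1 := List.all_eq_true.1 h a (List.mem_range.2 ha)
  have h2 := List.all_eq_true.1 h1 j (List.mem_range.2 hj)
  have h3 := List.all_eq_true.1 h2 q (List.mem_range.2 hq)
  rw [beq_iff_eq] at h3
  rw [Function.comp_apply, toPerm_pt (valid_getD hcv a) hq]
  unfold vw' wd
  rw [ix_pt (img_lt (valid_getD hcv a) hq), ix_pt hq, h3]

/-- lifts of the generators -/
structure Lift (π : E →* ↥Spor.M23) (X : ℕ → E) : Prop where
  val : ∀ a, ((π (X a) : ↥Spor.M23) : Equiv.Perm GolayPt) = toPerm (cs.getD a idC)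
  one : ∀ a, cs.length ≤ a → X a = 1

theorem exists_lift (hπ : Function.Surjective π) : ∃ X, Lift π X := by
  have hXe : ∀ a : ℕ, ∃ g : E, ((π g : ↥Spor.M23) : Equiv.Perm GolayPt) = toPerm (cs.getD a idC) ∧
      (cs.length ≤ a → g = 1) := by
    intro a
    rcases lt_or_ge a cs.length with h | h
    · obtain ⟨g, hg⟩ := hπ ⟨toPerm (cs.getD a idC), by
        rw [List.getD_eq_getElem?_getD, List.getElem?_eq_getElem h, Option.getD_some]
        exact (in23_spec (List.all_eq_true.1 cs_ok _ (List.getElem_mem h))).2⟩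
      exact ⟨g, by rw [hg], fun h' => absurd h (not_lt.2 h')⟩
    · refine ⟨1, ?_, fun _ => rfl⟩
      rw [map_one, List.getD_eq_default _ _ h, toPerm_idC]
      rfl
  choose X hX hX1 using hXe
  exact ⟨X, hX, hX1⟩

theorem DMod.good (D : DMod π) {X : ℕ → E} (hX : Lift π X) : Good π.ker D.co X Ms := by
  refine ⟨fun n hn g => (inferInstance : π.ker.Normal).conj_mem n hn g, ?_, D.sep, ?_, mt_len⟩
  · intro n hn n' hn' i hi
    exact D.add _ (inV_vw hi) n hn n' hn'
  · intro a n hn j hj
    rcases lt_or_ge a cs.length with ha | ha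
    · show D.lam (vw' j) (X a * n * (X a)⁻¹) = _
      rw [D.eqv _ (inV_vw hj) _ n hn, hX.val a, vw_comp ha hj, D.lam_vm]
    · rw [hX.one a ha, one_mul, inv_one, mul_one]
      have h2 : mt Ms a = idM := by
        unfold MCohA.mt
        rw [List.getD_eq_default _ _ (by rw [← len_cs]; exact ha)]
      rw [h2, idM_getD hj, dotn_pow hj]

/-- relator values -/
def rv (X : ℕ → E) (k : ℕ) : E := wv X (rl.getD k ([], [])).1 * (wv X (rl.getD k ([], [])).2)⁻¹

theorem rules {X : ℕ → E} (hX : Lift π X) : Rules π.ker X rl (rv X) :=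
  rules_of π X hcv hX.val rl_ok

/-- the obstruction -/
def DMod.val (D : DMod π) (X : ℕ → E) : ZMod 2 := dotn (11 * rl.length) rho (uu D.co (rv X))

theorem DMod.split (D : DMod π) [Finite E] (hπ : Function.Surjective π) {X : ℕ → E} (hX : Lift π X)
    (hv : D.val X = 0) : ∃ H : Subgroup E, Subgroup.IsComplement' π.ker H := by
  have hgood := D.good hX
  have hR := rules hX
  have hrows : ∀ R ∈ Rw, dotn (11 * rl.length) R (uu D.co (rv X)) = 0 := by
    intro R hR1
    rw [← rows_ok, List.mem_flatMap] at hR1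
    obtain ⟨t, _, ht⟩ := hR1
    exact hgood.idRows_sound hR t R ht
  have hB : ∀ a, (bt Bm a).length = 11 := by
    intro a
    unfold bt
    rcases lt_or_ge a Bm.length with h | h
    · rw [List.getD_eq_getElem?_getD, List.getElem?_eq_getElem h, Option.getD_some]
      have := List.all_eq_true.1 B_ok _ (List.getElem_mem h)
      simpa using this
    · rw [List.getD_eq_default _ _ h]; rfl
  obtain ⟨W, hW, hy⟩ := exists_lifts hgood D.surj hR hB hrows hv (K := fun k => k < 28) (mk := fun k => MCohDW.mk.getD k [])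
    (fun k hk => List.all_eq_true.1 T_ok k (List.mem_range.2 hk))
  have hcard : 2 ^ 7 ≤ Nat.card (chain 7 (fun a => π (X a)) 0) :=
    card_chain_ge Spor.M23.subtype _ hcv (fun a _ => hX.val a) (by decide +kernel)
  exact exists_compl hgood π hπ rfl pc_ok hW hy hcard (q := 79695)
    (by rw [H92MathieuSchur.card_M23]; norm_num) (by decide)

end

end Cfsg.Agent.Lib.MCohW
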