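import Cfsg.Agent.Lib.MatF2
import Cfsg.Agent.Lib.CoxBridge

/-!
Packed matrices over the field with three elements: two planes of bits (helper30).
A matrix of size `N` is a number with `2 N^2` bits: bit `N i + j` is set when the entry is `1`, bit
`N^2 + N i + j` when the entry is `-1`.
-/

set_option autoImplicit false

namespace Cfsg.Agent.Lib.MatF3

open Cfsg.Agent.Lib.H58SM Cfsg.Agent.Lib.BenesWord Cfsg.Agent.Lib.CoxBridge

/-- signed bit -/
def e3 (p m : Bool) : ZMod 3 := cond p 1 0 - cond m 1 0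

/-- last step of an addition -/
def s1 (K : ℕ → ℕ → ℕ) (p m bp bm t : ℕ) : ℕ := K (Nat.xor (Nat.lor m bm) t) (Nat.xor (Nat.lor p bp) t)

/-- addition of planes -/
def s2 (K : ℕ → ℕ → ℕ) (p m bp bm : ℕ) : ℕ := s1 K p m bp bm (Nat.xor (Nat.lor p bm) (Nat.lor m bp))

/-- addition of a column times a row -/
def s3 (K : ℕ → ℕ → ℕ) (rp rm sp sm p m : ℕ) : ℕ :=
  s2 K p m (Nat.lor (Nat.mul rp sp) (Nat.mul rm sm)) (Nat.lor (Nat.mul rm sp) (Nat.mul rp sm))

/-- the loop -/
def lp (N msk ones ap am mp mm : ℕ) (fin : ℕ → ℕ → ℕ) (n : ℕ) : ℕ → ℕ → ℕ :=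
  Nat.rec fin (fun j ih p m => s3 ih (gt mp N msk j) (gt mm N msk j)
    (Nat.land (Nat.shiftRight ap j) ones) (Nat.land (Nat.shiftRight am j) ones) p m) n

/-- pack two planes -/
def pk (S mS p m : ℕ) : ℕ := Nat.lor (Nat.land p mS) (Nat.shiftLeft m S)

/-- product of packed matrices -/
def mulF (N S msk mS ones A M : ℕ) : ℕ :=
  frc (Nat.land A mS) fun ap => frc (Nat.shiftRight A S) fun am => frc (Nat.land M mS) fun mp =>
    frc (Nat.shiftRight M S) fun mm => lp N msk ones ap am mp mm (pk S mS) N 0 0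

/-- the matrix -/
def Mt (N S X : ℕ) : Matrix (Fin N) (Fin N) (ZMod 3) := fun i j => e3 (X.testBit (N * i + j)) (X.testBit (S + (N * i + j)))

/-- validity of a packed matrix: the planes are disjoint -/
def Ok (N S X : ℕ) : Prop := ∀ i < N, ∀ j < N, (X.testBit (N * i + j) && X.testBit (S + (N * i + j))) = false

/-- conditions -/
structure Good (N S msk mS ones one : ℕ) : Prop where
  g2 : MatF2.Good N msk ones one
  hS : S = N * N
  hmS : mS = 2 ^ S - 1

theorem lt_S {N S i j : ℕ} (hS : S = N * N) (hi : i < N) (hj : j < N) : N * i + j < S := by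
  subst hS
  calc N * i + j < N * i + N := by omega
    _ = N * (i + 1) := by ring
    _ ≤ N * N := Nat.mul_le_mul_left _ hi

theorem tb_lo {S mS : ℕ} (hmS : mS = 2 ^ S - 1) (X : ℕ) {k : ℕ} (hk : k < S) : (Nat.land X mS).testBit k = X.testBit k := by
  show (X &&& mS).testBit k = _
  rw [hmS, Nat.testBit_and, Nat.testBit_two_pow_sub_one, decide_eq_true hk, Bool.and_true]

theorem tb_hi (S X k : ℕ) : (Nat.shiftRight X S).testBit k = X.testBit (S + k) := by
  show (X >>> S).testBit k = _
  rw [Nat.testBit_shiftRight]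

theorem pk_lo {S mS : ℕ} (hmS : mS = 2 ^ S - 1) (p m : ℕ) {k : ℕ} (hk : k < S) : (pk S mS p m).testBit k = p.testBit k := by
  show (Nat.lor (Nat.land p mS) (Nat.shiftLeft m S)).testBit k = _
  have h : ∀ a b : ℕ, (Nat.lor a b).testBit k = (a.testBit k || b.testBit k) := fun a b => Nat.testBit_or a b k
  have h2 : (Nat.shiftLeft m S).testBit k = false := by
    show (m <<< S).testBit k = false
    rw [Nat.testBit_shiftLeft, decide_eq_false (by omega : ¬ k ≥ S), Bool.false_and]
  rw [h, tb_lo hmS p hk, h2, Bool.or_false]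

theorem pk_hi {S mS : ℕ} (hmS : mS = 2 ^ S - 1) (p m k : ℕ) : (pk S mS p m).testBit (S + k) = m.testBit k := by
  show (Nat.lor (Nat.land p mS) (Nat.shiftLeft m S)).testBit (S + k) = _
  have h : ∀ a b : ℕ, (Nat.lor a b).testBit (S + k) = (a.testBit (S + k) || b.testBit (S + k)) := fun a b => Nat.testBit_or a b _
  have h2 : (Nat.shiftLeft m S).testBit (S + k) = m.testBit k := by
    show (m <<< S).testBit (S + k) = _
    rw [Nat.testBit_shiftLeft, decide_eq_true (by omega : S + k ≥ S), Bool.true_and, Nat.add_sub_cancel_left]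
  have h1 : (Nat.land p mS).testBit (S + k) = false := by
    show (p &&& mS).testBit (S + k) = false
    rw [hmS, Nat.testBit_and, Nat.testBit_two_pow_sub_one, decide_eq_false (by omega : ¬ S + k < S), Bool.and_false]
  rw [h, h1, h2, Bool.false_or]

theorem add_bits : ∀ p m a b : Bool, (p && m) = false → (a && b) = false →
    ((((m || b) ^^ ((p || b) ^^ (m || a))) && ((p || a) ^^ ((p || b) ^^ (m || a)))) = false ∧
      e3 ((m || b) ^^ ((p || b) ^^ (m || a))) ((p || a) ^^ ((p || b) ^^ (m || a))) = e3 p m + e3 a b) := by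
  decide

theorem mul_bits : ∀ p m a b : Bool, (p && m) = false → (a && b) = false →
    ((((p && a) || (m && b)) && ((p && b) || (m && a))) = false ∧
      e3 ((p && a) || (m && b)) ((p && b) || (m && a)) = e3 p m * e3 a b) := by
  decide

theorem e3_zero : e3 false false = 0 := by decide

section

variable {N S msk mS ones one : ℕ}

theorem lp_spec (h : MatF2.Good N msk ones one) {ap am mp mm : ℕ} (fin : ℕ → ℕ → ℕ)
    (hA : ∀ i < N, ∀ j < N, (ap.testBit (N * i + j) && am.testBit (N * i + j)) = false)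
    (hM : ∀ i < N, ∀ j < N, (mp.testBit (N * i + j) && mm.testBit (N * i + j)) = false)
    (n : ℕ) (hn : n ≤ N) : ∀ p m : ℕ, (∀ i < N, ∀ k < N, (p.testBit (N * i + k) && m.testBit (N * i + k)) = false) →
      ∃ p' m' : ℕ, lp N msk ones ap am mp mm fin n p m = fin p' m' ∧ ∀ i < N, ∀ k < N,
        (p'.testBit (N * i + k) && m'.testBit (N * i + k)) = false ∧
        e3 (p'.testBit (N * i + k)) (m'.testBit (N * i + k)) = e3 (p.testBit (N * i + k)) (m.testBit (N * i + k)) +
          ∑ j ∈ Finset.range n, e3 (ap.testBit (N * i + j)) (am.testBit (N * i + j)) *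
            e3 (mp.testBit (N * j + k)) (mm.testBit (N * j + k)) := by
  induction n with
  | zero =>
    intro p m hpm
    refine ⟨p, m, rfl, fun i hi k hk => ⟨hpm i hi k hk, ?_⟩⟩
    rw [Finset.range_zero, Finset.sum_empty, add_zero]
  | succ n ih =>
    intro p m hpm
    obtain ⟨bp, hbp⟩ : ∃ bp, bp = Nat.lor (Nat.mul (gt mp N msk n) (Nat.land (Nat.shiftRight ap n) ones))
      (Nat.mul (gt mm N msk n) (Nat.land (Nat.shiftRight am n) ones)) := ⟨_, rfl⟩
    obtain ⟨bm, hbm⟩ : ∃ bm, bm = Nat.lor (Nat.mul (gt mm N msk n) (Nat.land (Nat.shiftRight ap n) ones))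
      (Nat.mul (gt mp N msk n) (Nat.land (Nat.shiftRight am n) ones)) := ⟨_, rfl⟩
    obtain ⟨t, ht⟩ : ∃ t, t = Nat.xor (Nat.lor p bm) (Nat.lor m bp) := ⟨_, rfl⟩
    have hlor : ∀ a b l : ℕ, (Nat.lor a b).testBit l = (a.testBit l || b.testBit l) := fun a b l => Nat.testBit_or a b l
    have hxor : ∀ a b l : ℕ, (Nat.xor a b).testBit l = (a.testBit l ^^ b.testBit l) := fun a b l => Nat.testBit_xor a b l
    have hstep : lp N msk ones ap am mp mm fin (n + 1) p m =
        lp N msk ones ap am mp mm fin n (Nat.xor (Nat.lor m bm) t) (Nat.xor (Nat.lor p bp) t) := by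
      rw [ht, hbm, hbp]; rfl
    have hb1 : ∀ i < N, ∀ k < N, bp.testBit (N * i + k) =
        ((ap.testBit (N * i + n) && mp.testBit (N * n + k)) || (am.testBit (N * i + n) && mm.testBit (N * n + k))) := by
      intro i hi k hk
      rw [hbp, hlor, MatF2.term_bit h ap mp (by omega) hi hk, MatF2.term_bit h am mm (by omega) hi hk]
    have hb2 : ∀ i < N, ∀ k < N, bm.testBit (N * i + k) =
        ((ap.testBit (N * i + n) && mm.testBit (N * n + k)) || (am.testBit (N * i + n) && mp.testBit (N * n + k))) := by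
      intro i hi k hk
      rw [hbm, hlor, MatF2.term_bit h ap mm (by omega) hi hk, MatF2.term_bit h am mp (by omega) hi hk]
    have hb : ∀ i < N, ∀ k < N, (bp.testBit (N * i + k) && bm.testBit (N * i + k)) = false ∧
        e3 (bp.testBit (N * i + k)) (bm.testBit (N * i + k)) = e3 (ap.testBit (N * i + n)) (am.testBit (N * i + n)) *
          e3 (mp.testBit (N * n + k)) (mm.testBit (N * n + k)) := by
      intro i hi k hk
      rw [hb1 i hi k hk, hb2 i hi k hk]
      exact mul_bits _ _ _ _ (hA i hi n (by omega)) (hM n (by omega) k hk)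
    have hnew : ∀ i < N, ∀ k < N,
        ((Nat.xor (Nat.lor m bm) t).testBit (N * i + k) && (Nat.xor (Nat.lor p bp) t).testBit (N * i + k)) = false ∧
        e3 ((Nat.xor (Nat.lor m bm) t).testBit (N * i + k)) ((Nat.xor (Nat.lor p bp) t).testBit (N * i + k)) =
          e3 (p.testBit (N * i + k)) (m.testBit (N * i + k)) + e3 (bp.testBit (N * i + k)) (bm.testBit (N * i + k)) := by
      intro i hi k hk
      rw [ht]
      simp only [hxor, hlor]
      exact add_bits _ _ _ _ (hpm i hi k hk) (hb i hi k hk).1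
    obtain ⟨p', m', h1, h2⟩ := ih (by omega) _ _ fun i hi k hk => (hnew i hi k hk).1
    refine ⟨p', m', hstep.trans h1, fun i hi k hk => ⟨(h2 i hi k hk).1, ?_⟩⟩
    rw [(h2 i hi k hk).2, (hnew i hi k hk).2, (hb i hi k hk).2, Finset.sum_range_succ, add_assoc, add_comm (e3 _ _ * e3 _ _)]

theorem mulF_eq (A M : ℕ) : mulF N S msk mS ones A M =
    lp N msk ones (Nat.land A mS) (Nat.shiftRight A S) (Nat.land M mS) (Nat.shiftRight M S) (pk S mS) N 0 0 := by
  unfold mulF
  rw [frc_eq, frc_eq, frc_eq, frc_eq]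

theorem mulF_spec (h : Good N S msk mS ones one) {A M : ℕ} (hA : Ok N S A) (hM : Ok N S M) :
    Ok N S (mulF N S msk mS ones A M) ∧ Mt N S (mulF N S msk mS ones A M) = Mt N S A * Mt N S M := by
  have key : ∀ X, Ok N S X → ∀ i < N, ∀ j < N,
      ((Nat.land X mS).testBit (N * i + j) && (Nat.shiftRight X S).testBit (N * i + j)) = false := by
    intro X hX i hi j hj
    rw [tb_lo h.hmS X (lt_S h.hS hi hj), tb_hi]
    exact hX i hi j hj
  obtain ⟨p', m', h1, h2⟩ := lp_spec h.g2 (pk S mS) (key A hA) (key M hM) N le_rfl 0 0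
    (fun i hi k hk => by rw [Nat.zero_testBit]; rfl)
  rw [mulF_eq, h1]
  constructor
  · intro i hi j hj
    rw [pk_lo h.hmS _ _ (lt_S h.hS hi hj), pk_hi h.hmS]
    exact (h2 i hi j hj).1
  · ext i k
    show e3 ((pk S mS p' m').testBit (N * i + k)) ((pk S mS p' m').testBit (S + (N * i + k))) =
      ∑ j : Fin N, e3 (A.testBit (N * i + j)) (A.testBit (S + (N * i + j))) * e3 (M.testBit (N * j + k)) (M.testBit (S + (N * j + k)))
    rw [pk_lo h.hmS _ _ (lt_S h.hS i.2 k.2), pk_hi h.hmS, (h2 i i.2 k k.2).2, Nat.zero_testBit, e3_zero, zero_add,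
      Finset.sum_range]
    apply Finset.sum_congr rfl
    intro j _
    rw [tb_lo h.hmS A (lt_S h.hS i.2 j.2), tb_hi, tb_lo h.hmS M (lt_S h.hS j.2 k.2), tb_hi]

theorem one_spec (h : Good N S msk mS ones one) (h1 : Nat.shiftRight one S = 0) : Ok N S one ∧ Mt N S one = 1 := by
  have hh : ∀ k, one.testBit (S + k) = false := by
    intro k
    rw [← tb_hi, h1, Nat.zero_testBit]
  refine ⟨fun i _ j _ => by rw [hh, Bool.and_false], ?_⟩
  ext i j
  show e3 (one.testBit (N * i + j)) (one.testBit (S + (N * i + j))) = _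
  have h2 := Nat.eq_of_beq_eq_true (alln_iff.1 h.g2.h1 i i.2)
  rw [hh, MatF2.bit_eq h.g2.hm _ _ j.2, h2]
  show e3 ((1 <<< (i : ℕ)).testBit j) false = _
  rw [Nat.one_shiftLeft, Nat.testBit_two_pow, Matrix.one_apply]
  by_cases hij : i = j
  · subst hij; simp [e3]
  · have : (i : ℕ) ≠ j := fun h => hij (Fin.ext h)
    simp [e3, this, hij]

/-- a check of validity -/
def okB (S mS X : ℕ) : Bool := Nat.beq (Nat.land (Nat.land X mS) (Nat.shiftRight X S)) 0

theorem ok_of (h : Good N S msk mS ones one) {X : ℕ} (hX : okB S mS X = true) : Ok N S X := by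
  intro i hi j hj
  have h1 := Nat.eq_of_beq_eq_true hX
  have h2 : (Nat.land (Nat.land X mS) (Nat.shiftRight X S)).testBit (N * i + j) = false := by rw [h1, Nat.zero_testBit]
  have h3 : (Nat.land (Nat.land X mS) (Nat.shiftRight X S)).testBit (N * i + j) =
      ((Nat.land X mS).testBit (N * i + j) && (Nat.shiftRight X S).testBit (N * i + j)) := Nat.testBit_and _ _ _
  rw [h3, tb_lo h.hmS X (lt_S h.hS hi hj), tb_hi] at h2
  exact h2

/-- binary powers -/
def powF (N S msk mS ones one x : ℕ) : ℕ → ℕ → ℕ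
  | 0, _ => one
  | f + 1, n => cond (Nat.beq n 0) one (cond (Nat.beq n 1) x
      (frc (powF N S msk mS ones one x f (Nat.div n 2)) fun y => frc (mulF N S msk mS ones y y) fun z =>
        cond (Nat.beq (Nat.mod n 2) 1) (mulF N S msk mS ones z x) z))

theorem powF_spec (h : Good N S msk mS ones one) (h1 : Nat.shiftRight one S = 0) {x : ℕ} (hx : Ok N S x) :
    ∀ f n : ℕ, n < 2 ^ f → Ok N S (powF N S msk mS ones one x f n) ∧ Mt N S (powF N S msk mS ones one x f n) = Mt N S x ^ n := by
  intro f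
  induction f with
  | zero =>
    intro n hn
    have : n = 0 := by simpa using hn
    subst this
    rw [pow_zero]
    exact one_spec h h1
  | succ f ih =>
    intro n hn
    show Ok N S (cond (Nat.beq n 0) one (cond (Nat.beq n 1) x
      (frc (powF N S msk mS ones one x f (Nat.div n 2)) fun y => frc (mulF N S msk mS ones y y) fun z =>
        cond (Nat.beq (Nat.mod n 2) 1) (mulF N S msk mS ones z x) z))) ∧ Mt N S (cond (Nat.beq n 0) one (cond (Nat.beq n 1) x
      (frc (powF N S msk mS ones one x f (Nat.div n 2)) fun y => frc (mulF N S msk mS ones y y) fun z =>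
        cond (Nat.beq (Nat.mod n 2) 1) (mulF N S msk mS ones z x) z))) = _
    rw [frc_eq, frc_eq]
    by_cases hn0 : n = 0
    · subst hn0
      rw [pow_zero]
      exact one_spec h h1
    · have hb0 : Nat.beq n 0 = false := by
        cases hh : Nat.beq n 0 with
        | false => rfl
        | true => exact absurd (Nat.eq_of_beq_eq_true hh) hn0
      rw [hb0]
      by_cases hn1 : n = 1
      · subst hn1
        rw [pow_one]
        exact ⟨hx, rfl⟩
      · have hb1 : Nat.beq n 1 = false := by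
          cases hh : Nat.beq n 1 with
          | false => rfl
          | true => exact absurd (Nat.eq_of_beq_eq_true hh) hn1
        rw [hb1]
        have hdiv : Nat.div n 2 < 2 ^ f := by
          show n / 2 < 2 ^ f
          rw [pow_succ] at hn
          omega
        obtain ⟨i1, i2⟩ := ih _ hdiv
        obtain ⟨j1, j2⟩ := mulF_spec h i1 i1
        rw [i2, ← pow_add] at j2
        have hdm : Nat.div n 2 + Nat.div n 2 + Nat.mod n 2 = n := by
          show n / 2 + n / 2 + n % 2 = n
          omega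
        cases hh : Nat.beq (Nat.mod n 2) 1 with
        | false =>
          have : Nat.mod n 2 ≠ 1 := fun h => by rw [h] at hh; exact absurd hh (by decide)
          have h0 : Nat.mod n 2 = 0 := by
            have : Nat.mod n 2 < 2 := Nat.mod_lt _ (by norm_num)
            omega
          rw [h0, Nat.add_zero] at hdm
          rw [hdm] at j2
          exact ⟨j1, j2⟩
        | true =>
          have h0 := Nat.eq_of_beq_eq_true hh
          obtain ⟨k1, k2⟩ := mulF_spec h j1 hx
          rw [j2, ← pow_succ] at k2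
          rw [h0] at hdm
          rw [hdm] at k2
          exact ⟨k1, k2⟩

/-- value of a word (`b = true`: of the inverse) -/
def evW (N S msk mS ones one : ℕ) (TB iv : ℕ → ℕ) : Wd → Bool → ℕ
  | .one, _ => one
  | .g c, b => TB (cond b (iv c) c)
  | .inv u, b => evW N S msk mS ones one TB iv u (!b)
  | .mul u v, b => cond b
      (frc (evW N S msk mS ones one TB iv v true) fun y => frc (evW N S msk mS ones one TB iv u true) fun x =>
        mulF N S msk mS ones y x)
      (frc (evW N S msk mS ones one TB iv u false) fun x => frc (evW N S msk mS ones one TB iv v false) fun y =>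
        mulF N S msk mS ones x y)
  | .pow u n, b => frc (evW N S msk mS ones one TB iv u b) fun x => powF N S msk mS ones one x n n

theorem evW_spec (h : Good N S msk mS ones one) (h1 : Nat.shiftRight one S = 0) {TB iv : ℕ → ℕ} {k k' : ℕ}
    {x : ℕ → (Matrix (Fin N) (Fin N) (ZMod 3))ˣ} (hx : ∀ c < k, (x c : Matrix _ _ (ZMod 3)) = Mt N S (TB c))
    (hok : ∀ c < k, Ok N S (TB c)) (hkk : k' ≤ k) (hiv : ∀ c < k', iv c < k) (hinv : ∀ c, x (iv c) = (x c)⁻¹)
    {W : Wd} (hW : lets k' W = true) : ∀ b : Bool, Ok N S (evW N S msk mS ones one TB iv W b) ∧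
      Mt N S (evW N S msk mS ones one TB iv W b) =
        Units.val (cond b (W.eval x)⁻¹ (W.eval x) : (Matrix (Fin N) (Fin N) (ZMod 3))ˣ) := by
  induction W with
  | one =>
    intro b
    refine ⟨(one_spec h h1).1, ?_⟩
    show Mt N S one = _
    rw [(one_spec h h1).2]
    cases b with
    | false => rfl
    | true =>
      show _ = Units.val ((1 : (Matrix (Fin N) (Fin N) (ZMod 3))ˣ)⁻¹)
      rw [inv_one]
      rfl
  | g c =>
    have hc : c < k' := by simpa [lets] using hW
    intro b
    cases b with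
    | false => exact ⟨hok c (by omega), (hx c (by omega)).symm⟩
    | true =>
      refine ⟨hok _ (hiv c hc), ?_⟩
      show Mt N S (TB (iv c)) = Units.val ((x c)⁻¹)
      rw [← hx _ (hiv c hc), hinv]
  | inv u ih =>
    intro b
    obtain ⟨i1, i2⟩ := ih hW (!b)
    refine ⟨i1, i2.trans ?_⟩
    cases b with
    | false => rfl
    | true =>
      show Units.val (u.eval x) = Units.val (((u.eval x)⁻¹)⁻¹)
      rw [inv_inv]
  | mul u v ihu ihv =>
    have hW' : lets k' u = true ∧ lets k' v = true := by simpa [lets] using hW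
    intro b
    cases b with
    | false =>
      obtain ⟨i1, i2⟩ := ihu hW'.1 false
      obtain ⟨j1, j2⟩ := ihv hW'.2 false
      obtain ⟨k1, k2⟩ := mulF_spec h i1 j1
      simp only [evW, cond_false, frc_eq, Wd.eval]
      refine ⟨k1, k2.trans ?_⟩
      rw [i2, j2]
      rfl
    | true =>
      obtain ⟨i1, i2⟩ := ihu hW'.1 true
      obtain ⟨j1, j2⟩ := ihv hW'.2 true
      obtain ⟨k1, k2⟩ := mulF_spec h j1 i1
      simp only [evW, cond_true, frc_eq, Wd.eval]
      refine ⟨k1, k2.trans ?_⟩
      rw [i2, j2, mul_inv_rev]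
      rfl
  | pow u n ih =>
    have hW' : lets k' u = true := by simpa [lets] using hW
    intro b
    obtain ⟨i1, i2⟩ := ih hW' b
    obtain ⟨k1, k2⟩ := powF_spec h h1 i1 n n (Nat.lt_two_pow_self)
    simp only [evW, frc_eq, Wd.eval]
    refine ⟨k1, k2.trans ?_⟩
    rw [i2, ← Units.val_pow_eq_pow_val]
    cases b with
    | false => rfl
    | true =>
      simp only [cond_true]
      rw [inv_pow]

/-- units with given tables -/
theorem exists_units {TB iv : ℕ → ℕ} {k : ℕ} (hiv : ∀ c < k, iv c < k) (hiv' : ∀ c, k ≤ c → k ≤ iv c)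
    (hii : ∀ c, iv (iv c) = c) (h : ∀ c < k, Mt N S (TB c) * Mt N S (TB (iv c)) = 1) :
    ∃ x : ℕ → (Matrix (Fin N) (Fin N) (ZMod 3))ˣ, (∀ c < k, (x c : Matrix _ _ (ZMod 3)) = Mt N S (TB c)) ∧
      (∀ c, k ≤ c → x c = 1) ∧ ∀ c, x (iv c) = (x c)⁻¹ := by
  classical
  have h' : ∀ c < k, Mt N S (TB (iv c)) * Mt N S (TB c) = 1 := by
    intro c hc
    have := h (iv c) (hiv c hc)
    rwa [hii] at this
  refine ⟨fun c => if hc : c < k then ⟨Mt N S (TB c), Mt N S (TB (iv c)), h c hc, h' c hc⟩ else 1, ?_, ?_, ?_⟩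
  · intro c hc
    show ((dite _ _ _ : (Matrix (Fin N) (Fin N) (ZMod 3))ˣ) : Matrix (Fin N) (Fin N) (ZMod 3)) = _
    rw [dif_pos hc]
  · intro c hc
    exact dif_neg (by omega)
  · intro c
    by_cases hc : c < k
    · show (dite _ _ _ : (Matrix (Fin N) (Fin N) (ZMod 3))ˣ) = (dite _ _ _ : (Matrix (Fin N) (Fin N) (ZMod 3))ˣ)⁻¹
      rw [dif_pos hc, dif_pos (hiv c hc)]
      exact Units.ext rfl
    · show (dite _ _ _ : (Matrix (Fin N) (Fin N) (ZMod 3))ˣ) = (dite _ _ _ : (Matrix (Fin N) (Fin N) (ZMod 3))ˣ)⁻¹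
      have := hiv' c (by omega)
      rw [dif_neg hc, dif_neg (by omega), inv_one]

end

/-- an entry of a packed matrix: `0`, `1` or `2` -/
def ent (N S X i j : ℕ) : ℕ := cond (Nat.testBit X (Nat.add (Nat.mul N i) j)) 1
  (cond (Nat.testBit X (Nat.add S (Nat.add (Nat.mul N i) j))) 2 0)

end Cfsg.Agent.Lib.MatF3
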