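import Cfsg.Agent.Lib.GolaySix
import Cfsg.Agent.Lib.GolayOctad
import Cfsg.Agent.Lib.GolayFix

/-!
# Fixed points of elements of `M24` (helper83)
-/

set_option autoImplicit false
set_option linter.all false

namespace Cfsg.Agent.Lib.MathieuFix
open Cfsg Cfsg.Agent.Lib.Golay
open Cfsg.Agent.Lib.GolayFix (Fix mem_Fix Fix_mem_Sup)
open scoped Pointwise

lemma card_Fix_conj (g k : Equiv.Perm GolayPt) : (Fix (k⁻¹ * g * k)).card = (Fix g).card := by
  apply Finset.card_bij (fun x _ => k x)
  · intro x hx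
    rw [mem_Fix] at hx ⊢
    have : k⁻¹ (g (k x)) = x := hx
    rw [Equiv.Perm.inv_eq_iff_eq] at this
    exact this
  · intro a _ b _ h
    exact k.injective h
  · intro y hy
    refine ⟨k⁻¹ y, ?_, by simp⟩
    rw [mem_Fix] at hy ⊢
    show k⁻¹ (g (k (k⁻¹ y))) = k⁻¹ y
    rw [perm_apply_inv, hy]

/-- elements of the pointwise stabiliser of an octad fixing another point are trivial -/
lemma OctPt_eq_one {o : Finset GolayPt} (ho : o ∈ octads) {g : Equiv.Perm GolayPt} (hg : g ∈ OctPt o)
    {x : GolayPt} (hx : x ∉ o) (hgx : g x = x) : g = 1 := by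
  ext y
  by_cases hy : y ∈ o
  · rw [(mem_OctPt.1 hg).2 y hy]; rfl
  · obtain ⟨h, hh, e⟩ := OctPt_transitive ho hx hy
    rw [← e]
    have := OctPt_comm ho hg hh
    have h2 : g (h x) = h (g x) := by
      rw [← Equiv.Perm.mul_apply, this, Equiv.Perm.mul_apply]
    rw [h2, hgx]; rfl

lemma card_Fix_cZ : (Fix (toPerm cZ)).card = 6 ∧ (Fix (toPerm cZ')).card = 6 := by
  constructor
  · have : ∀ p, p ∈ Fix (toPerm cZ) ↔ p ∈ (Finset.univ.filter fun p => pt (img cZ (ix p)) = p) := by
      intro p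
      rw [mem_Fix, toPerm_apply (valid_of_inM inM_cZ), Finset.mem_filter]
      simp
    rw [Finset.ext this]
    decide +kernel
  · have : ∀ p, p ∈ Fix (toPerm cZ') ↔ p ∈ (Finset.univ.filter fun p => pt (img cZ' (ix p)) = p) := by
      intro p
      rw [mem_Fix, toPerm_apply (valid_of_inM inM_cZ'), Finset.mem_filter]
      simp
    rw [Finset.ext this]
    decide +kernel

/-- an element with at least 6 fixed points fixes exactly an octad or exactly 6 points -/
theorem fix_cases {g : Equiv.Perm GolayPt} (hg : g ∈ M24) (hg1 : g ≠ 1) (h6 : 6 ≤ (Fix g).card) :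
    Fix g ∈ octads ∨ (Fix g).card = 6 := by
  obtain ⟨E, hE, hE6⟩ := Finset.exists_subset_card_eq h6
  obtain ⟨e, -⟩ := exists_enum hE6
  set x : Fin 6 → GolayPt := fun i => ((e i : ↥E) : GolayPt) with hx
  have hinj : Function.Injective x := enum_inj e
  have hfix : ∀ i, g (x i) = x i := fun i => mem_Fix.1 (hE (e i).2)
  by_cases hI : InOct x
  · left
    obtain ⟨k, hk, hkx⟩ := exists_from_fI hinj hI
    have hc : k⁻¹ * g * k ∈ M24 := M24.mul_mem (M24.mul_mem (M24.inv_mem hk) hg) hk
    have hcf : ∀ i, (k⁻¹ * g * k) (fI i) = fI i := by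
      intro i
      show k⁻¹ (g (k (fI i))) = fI i
      rw [hkx, hfix, ← hkx]; simp
    obtain ⟨c, hc1, hc2⟩ := fixI hc hcf
    have h1 : k⁻¹ * g * k ∈ OctPt (mset 8536111) := by rw [hc2]; exact tr6_mem hc1
    have h2 : g ∈ OctPt (k • mset 8536111) := (OctPt_conj hk _ _).2 h1
    have ho : k • mset 8536111 ∈ octads := (smul_mem_octads hk).2 oct0_mem
    have h3 : Fix g = k • mset 8536111 := by
      ext y
      rw [mem_Fix]
      constructor
      · intro hy
        by_contra hn
        exact hg1 (OctPt_eq_one ho h2 hn hy)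
      · intro hy
        exact (mem_OctPt.1 h2).2 y hy
    rw [h3]; exact ho
  · right
    obtain ⟨k, hk, hkx⟩ := exists_from_fII hinj hI
    have hc : k⁻¹ * g * k ∈ M24 := M24.mul_mem (M24.mul_mem (M24.inv_mem hk) hg) hk
    have hcf : ∀ i, (k⁻¹ * g * k) (fII i) = fII i := by
      intro i
      show k⁻¹ (g (k (fII i))) = fII i
      rw [hkx, hfix, ← hkx]; simp
    rw [← card_Fix_conj g k]
    rcases fixII hc hcf with h | h | h
    · exfalso
      apply hg1
      have : g = k * (k⁻¹ * g * k) * k⁻¹ := by group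
      rw [this, h]; group
    · rw [h]; exact card_Fix_cZ.1
    · rw [h]; exact card_Fix_cZ.2

theorem card_Fix_le {g : Equiv.Perm GolayPt} (hg : g ∈ M24) (hg1 : g ≠ 1) : (Fix g).card ≤ 8 := by
  by_contra hn
  push Not at hn
  rcases fix_cases hg hg1 (by omega) with h | h
  · have := h.2; omega
  · omega

theorem eq_one_of_nine {g : Equiv.Perm GolayPt} (hg : g ∈ M24) (h9 : 9 ≤ (Fix g).card) : g = 1 := by
  by_contra hg1
  have := card_Fix_le hg hg1
  omega

/-- an involution with a fixed point fixes exactly an octad -/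
theorem fix_involution {g : Equiv.Perm GolayPt} (hg : g ∈ M24) (h2 : g ^ 2 = 1) (hg1 : g ≠ 1)
    {x : GolayPt} (hx : g x = x) : Fix g ∈ octads := by
  have h := Fix_mem_Sup hg h2
  have h8 := card_Fix_le hg hg1
  have hpos : 0 < (Fix g).card := Finset.card_pos.2 ⟨x, mem_Fix.2 hx⟩
  have hc := card_cases h
  refine ⟨h, ?_⟩
  show (Fix g).card = 8
  rcases hc with hc | hc | hc | hc | hc <;> omega

end Cfsg.Agent.Lib.MathieuFix
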