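import Cfsg.Agent.Lib.FusionSelfNorm
import Cfsg.Agent.Lib.FlagSylow
import Cfsg.Agent.Lib.GolayTrans
import Cfsg.Prelude.Def_Spor_Mathieu

set_option autoImplicit false
set_option linter.unusedVariables false

/-!
Tools for the `2`-fusion systems of the Mathieu groups: subgroups `WL L` of the permutations of the 24 points generated
by coded permutations, their centres, normalizers (sifting along a base) and fusion (derivation lists), all checked by
kernel-decidable tests.
-/

namespace Cfsg.Agent.Lib.MathieuFus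

open Cfsg Cfsg.Agent.Lib.Golay
open scoped Pointwise

/-- the subgroup generated by the coded permutations of a list -/
noncomputable def WL (L : List ℕ) : Subgroup (Equiv.Perm GolayPt) := Subgroup.closure {g | ∃ c ∈ L, g = toPerm c}

theorem mem_WL {L : List ℕ} {c : ℕ} (hc : c ∈ L) : toPerm c ∈ WL L := Subgroup.subset_closure ⟨c, hc, rfl⟩

theorem WL_le {L : List ℕ} {K : Subgroup (Equiv.Perm GolayPt)} (h : ∀ c ∈ L, toPerm c ∈ K) : WL L ≤ K := by
  unfold WL
  rw [Subgroup.closure_le]
  rintro _ ⟨c, hc, rfl⟩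
  exact h c hc

theorem pai (a : Equiv.Perm GolayPt) (x : GolayPt) : a (a⁻¹ x) = x := Equiv.apply_symm_apply a x

theorem pia (a : Equiv.Perm GolayPt) (x : GolayPt) : a⁻¹ (a x) = x := Equiv.symm_apply_apply a x

/-- the permutations fixing the points numbered by the members of a list -/
def FS (l : List ℕ) : Subgroup (Equiv.Perm GolayPt) where
  carrier := {g | ∀ i ∈ l, g (pt i) = pt i}
  one_mem' := fun _ _ => rfl
  mul_mem' := by
    intro a b ha hb i hi
    rw [Equiv.Perm.mul_apply, hb i hi, ha i hi]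
  inv_mem' := by
    intro a ha i hi
    rw [Equiv.Perm.inv_eq_iff_eq, ha i hi]

theorem mem_FS {l : List ℕ} {g : Equiv.Perm GolayPt} : g ∈ FS l ↔ ∀ i ∈ l, g (pt i) = pt i := Iff.rfl

theorem FS_nil : FS [] = ⊤ := by
  ext g
  simp [mem_FS]

/-- One level of sifting. -/
theorem sift_step {K W : Subgroup (Equiv.Perm GolayPt)} (hWK : W ≤ K) {l : List ℕ} {b : ℕ} {O : Finset GolayPt}
    (h1 : ∀ g ∈ K, (∀ i ∈ l, g (pt i) = pt i) → g (pt b) ∈ O)
    (h2 : ∀ x ∈ O, ∃ w ∈ W, (∀ i ∈ l, w (pt i) = pt i) ∧ w (pt b) = x) (hO : ∃ j, O.card = 2 ^ j)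
    (h : K ⊓ FS (b :: l) ≤ W ∧ ∃ k, Nat.card ↥(K ⊓ FS (b :: l)) = 2 ^ k) :
    K ⊓ FS l ≤ W ∧ ∃ k, Nat.card ↥(K ⊓ FS l) = 2 ^ k := by
  obtain ⟨h3, k, hk⟩ := h
  constructor
  · rintro g ⟨hgK, hgl⟩
    obtain ⟨w, hw, hwl, hwb⟩ := h2 _ (h1 g hgK hgl)
    have h4 : w⁻¹ * g ∈ W := by
      apply h3
      refine ⟨K.mul_mem (K.inv_mem (hWK hw)) hgK, ?_⟩
      intro i hi
      rw [Equiv.Perm.mul_apply, Equiv.Perm.inv_eq_iff_eq]
      rcases List.mem_cons.mp hi with rfl | hi
      · exact hwb.symm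
      · rw [hgl i hi, hwl i hi]
    have h5 := W.mul_mem hw h4
    rwa [mul_inv_cancel_left] at h5
  · obtain ⟨j, hj⟩ := hO
    have h4 := card_eq_mul_inf_stabilizer (K ⊓ FS l) (pt b) (O : Set GolayPt) (fun g hg => h1 g hg.1 hg.2)
      (fun x hx => by
        obtain ⟨w, hw, hwl, hwb⟩ := h2 x hx
        exact ⟨w, ⟨hWK hw, hwl⟩, hwb⟩)
    have h5 : K ⊓ FS l ⊓ MulAction.stabilizer (Equiv.Perm GolayPt) (pt b) = K ⊓ FS (b :: l) := by
      ext g
      constructor
      · rintro ⟨⟨h6, h7⟩, h8⟩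
        refine ⟨h6, fun i hi => ?_⟩
        rcases List.mem_cons.mp hi with rfl | hi
        · exact h8
        · exact h7 i hi
      · rintro ⟨h6, h7⟩
        exact ⟨⟨h6, fun i hi => h7 i (List.mem_cons_of_mem _ hi)⟩, h7 b (List.mem_cons_self)⟩
    rw [h5, hk, Set.ncard_coe_finset, hj, ← pow_add] at h4
    exact ⟨_, h4⟩

theorem sift_end {K W : Subgroup (Equiv.Perm GolayPt)} {l : List ℕ}
    (h : ∀ g ∈ K, (∀ i ∈ l, g (pt i) = pt i) → g = 1) :
    K ⊓ FS l ≤ W ∧ ∃ k, Nat.card ↥(K ⊓ FS l) = 2 ^ k := by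
  have h1 : K ⊓ FS l = ⊥ := by
    rw [eq_bot_iff]
    rintro g ⟨hg, hgl⟩
    exact Subgroup.mem_bot.mpr (h g hg hgl)
  rw [h1]
  exact ⟨bot_le, 0, by rw [Subgroup.card_bot, pow_zero]⟩

/-- does the list contain, up to the identity, elements fixing `l` and moving `b` onto every member of `O`? -/
def trOK (L l : List ℕ) (b O : ℕ) : Bool :=
  Nat.beq ((L.filter fun c => l.all fun i => Nat.beq (img c i) i).foldr
    (fun c ih => Nat.lor (Nat.shiftLeft 1 (img c b)) ih) (Nat.shiftLeft 1 b)) O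

theorem testBit_foldr_lor' (l : List ℕ) (f : ℕ → ℕ) (a j : ℕ) :
    (l.foldr (fun c ih => Nat.lor (f c) ih) a).testBit j = true ↔ a.testBit j = true ∨ ∃ c ∈ l, (f c).testBit j = true := by
  induction l with
  | nil => simp
  | cons c l ih =>
    rw [List.foldr_cons]
    show (f c ||| _).testBit j = true ↔ _
    rw [Nat.testBit_or, Bool.or_eq_true, ih]
    simp only [List.mem_cons, exists_eq_or_imp]
    tauto

theorem tr_exists {L l : List ℕ} {b O : ℕ} (hL : ∀ c ∈ L, valid c = true) (h : trOK L l b O = true)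
    (hl : ∀ i ∈ l, i < 24) (hb : b < 24) : ∀ x ∈ mset O, ∃ w ∈ WL L, (∀ i ∈ l, w (pt i) = pt i) ∧ w (pt b) = x := by
  intro x hx
  rw [mem_mset, ← Nat.eq_of_beq_eq_true h, testBit_foldr_lor'] at hx
  rcases hx with hx | ⟨c, hc, hx⟩
  · rw [testBit_one_shiftLeft] at hx
    refine ⟨1, Subgroup.one_mem _, fun _ _ => rfl, ?_⟩
    rw [hx, pt_ix]; rfl
  · rw [testBit_one_shiftLeft] at hx
    rw [List.mem_filter] at hc
    refine ⟨toPerm c, mem_WL hc.1, fun i hi => ?_, ?_⟩
    · rw [toPerm_pt (hL c hc.1) (hl i hi), Nat.eq_of_beq_eq_true (List.all_eq_true.mp hc.2 i hi)]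
    · rw [toPerm_pt (hL c hc.1) hb, hx, pt_ix]

/-! ### Relations definable from a subgroup -/

section rel

variable {W : Subgroup (Equiv.Perm GolayPt)} {g : Equiv.Perm GolayPt} {x y : GolayPt}

/-- `W` fixes `x` -/
def P1 (W : Subgroup (Equiv.Perm GolayPt)) (x : GolayPt) : Prop := ∀ u ∈ W, u x = x

/-- the orbit of `x` has at most two members -/
def P2 (W : Subgroup (Equiv.Perm GolayPt)) (x : GolayPt) : Prop := ∀ u ∈ W, ∀ v ∈ W, u x = x ∨ v x = x ∨ u x = v x

/-- `W_x` fixes `y` -/
def Fx (W : Subgroup (Equiv.Perm GolayPt)) (x y : GolayPt) : Prop := ∀ u ∈ W, u x = x → u y = y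

/-- the orbit of `y` under `W_x` has at most two members -/
def Ox (W : Subgroup (Equiv.Perm GolayPt)) (x y : GolayPt) : Prop := ∀ u ∈ W, ∀ v ∈ W, u x = x → v x = x →
  u y = y ∨ v y = y ∨ u y = v y

theorem conj_mem_of_normalizer (hg : g ∈ Subgroup.normalizer (W : Set (Equiv.Perm GolayPt)))
    {u : Equiv.Perm GolayPt} (hu : u ∈ W) : g⁻¹ * u * g ∈ W := by
  have h1 := (Subgroup.mem_normalizer_iff.mp (Subgroup.inv_mem _ hg) u).mp hu
  rwa [inv_inv] at h1

theorem conj_apply (g u : Equiv.Perm GolayPt) (x : GolayPt) : (g⁻¹ * u * g) x = g⁻¹ (u (g x)) := rfl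

theorem P1.map (hg : g ∈ Subgroup.normalizer (W : Set (Equiv.Perm GolayPt))) (h : P1 W x) : P1 W (g x) := by
  intro u hu
  have h1 := h _ (conj_mem_of_normalizer hg hu)
  rwa [conj_apply, Equiv.Perm.inv_eq_iff_eq] at h1

theorem P2.map (hg : g ∈ Subgroup.normalizer (W : Set (Equiv.Perm GolayPt))) (h : P2 W x) : P2 W (g x) := by
  intro u hu v hv
  have h1 := h _ (conj_mem_of_normalizer hg hu) _ (conj_mem_of_normalizer hg hv)
  rwa [conj_apply, conj_apply, Equiv.Perm.inv_eq_iff_eq, Equiv.Perm.inv_eq_iff_eq,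
    (g⁻¹ : Equiv.Perm GolayPt).injective.eq_iff] at h1

theorem Fx.map (hg : g ∈ Subgroup.normalizer (W : Set (Equiv.Perm GolayPt))) (h : Fx W x y) : Fx W (g x) (g y) := by
  intro u hu hux
  have h1 := h _ (conj_mem_of_normalizer hg hu) (by rw [conj_apply, Equiv.Perm.inv_eq_iff_eq, hux])
  rwa [conj_apply, Equiv.Perm.inv_eq_iff_eq] at h1

theorem Ox.map (hg : g ∈ Subgroup.normalizer (W : Set (Equiv.Perm GolayPt))) (h : Ox W x y) : Ox W (g x) (g y) := by
  intro u hu v hv hux hvx
  have h1 := h _ (conj_mem_of_normalizer hg hu) _ (conj_mem_of_normalizer hg hv)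
    (by rw [conj_apply, Equiv.Perm.inv_eq_iff_eq, hux]) (by rw [conj_apply, Equiv.Perm.inv_eq_iff_eq, hvx])
  rwa [conj_apply, conj_apply, Equiv.Perm.inv_eq_iff_eq, Equiv.Perm.inv_eq_iff_eq,
    (g⁻¹ : Equiv.Perm GolayPt).injective.eq_iff] at h1

end rel

/-! ### Tests for the failure of the relations -/

section tests

variable {L : List ℕ}

def p1C (L : List ℕ) (j : ℕ) : Bool := L.all fun c => Nat.beq (img c j) j

def p2C (L : List ℕ) (j : ℕ) : Bool := L.all fun c => L.all fun d => Nat.beq (img c j) j || Nat.beq (img d j) j ||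
  Nat.beq (img c j) (img d j)

def fxC (L : List ℕ) (i j : ℕ) : Bool := L.all fun c => !(Nat.beq (img c i) i) || Nat.beq (img c j) j

def oxC (L : List ℕ) (i j : ℕ) : Bool := L.all fun c => L.all fun d =>
  !(Nat.beq (img c i) i) || !(Nat.beq (img d i) i) ||
    (Nat.beq (img c j) j || Nat.beq (img d j) j || Nat.beq (img c j) (img d j))

theorem pt_inj {i j : ℕ} (hi : i < 24) (hj : j < 24) (h : pt i = pt j) : i = j := by
  rw [← ix_pt hi, h, ix_pt hj]

theorem beq_of_pt {i j : ℕ} (hi : i < 24) (hj : j < 24) (h : pt i = pt j) : Nat.beq i j = true := by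
  rw [pt_inj hi hj h]
  exact Nat.beq_refl j

theorem p1_check (hL : ∀ c ∈ L, valid c = true) {y : GolayPt} (h : P1 (WL L) y) : p1C L (ix y) = true := by
  unfold p1C
  rw [List.all_eq_true]
  intro c hc
  have h1 := h _ (mem_WL hc)
  rw [toPerm_apply (hL c hc)] at h1
  rw [← ix_pt (img_lt (hL c hc) (ix_lt y)), h1]
  exact Nat.beq_refl _

theorem ix_toPerm' (hL : ∀ c ∈ L, valid c = true) {c : ℕ} (hc : c ∈ L) (y : GolayPt) :
    img c (ix y) = ix (toPerm c y) := (ix_toPerm (hL c hc) y).symm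

theorem beq_ix {x y : GolayPt} : Nat.beq (ix x) (ix y) = true ↔ x = y := by
  constructor
  · intro h
    rw [← pt_ix x, Nat.eq_of_beq_eq_true h, pt_ix]
  · rintro rfl
    exact Nat.beq_refl _

theorem p2_check (hL : ∀ c ∈ L, valid c = true) {y : GolayPt} (h : P2 (WL L) y) : p2C L (ix y) = true := by
  unfold p2C
  rw [List.all_eq_true]
  intro c hc
  rw [List.all_eq_true]
  intro d hd
  rw [ix_toPerm' hL hc, ix_toPerm' hL hd, Bool.or_eq_true, Bool.or_eq_true, beq_ix, beq_ix, beq_ix, or_assoc]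
  exact h _ (mem_WL hc) _ (mem_WL hd)

theorem not_or_iff {a b : Bool} : (!a || b) = true ↔ (a = true → b = true) := by
  cases a <;> cases b <;> simp

theorem fx_check (hL : ∀ c ∈ L, valid c = true) {x y : GolayPt} (h : Fx (WL L) x y) :
    fxC L (ix x) (ix y) = true := by
  unfold fxC
  rw [List.all_eq_true]
  intro c hc
  rw [ix_toPerm' hL hc, ix_toPerm' hL hc, not_or_iff, beq_ix, beq_ix]
  exact h _ (mem_WL hc)

theorem ox_check (hL : ∀ c ∈ L, valid c = true) {x y : GolayPt} (h : Ox (WL L) x y) :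
    oxC L (ix x) (ix y) = true := by
  unfold oxC
  rw [List.all_eq_true]
  intro c hc
  rw [List.all_eq_true]
  intro d hd
  rw [ix_toPerm' hL hc, ix_toPerm' hL hd, ix_toPerm' hL hc, ix_toPerm' hL hd, Bool.or_assoc, not_or_iff, not_or_iff,
    beq_ix, beq_ix, Bool.or_eq_true, Bool.or_eq_true, beq_ix, beq_ix, beq_ix, or_assoc]
  exact h _ (mem_WL hc) _ (mem_WL hd)

/-! ### Colourings -/

/-- the colouring `k` (5 bits per point) is permuted by every member of the list -/
def colOK (L : List ℕ) (k : ℕ) : Bool := L.all fun c => (List.range 24).all fun i => (List.range 24).all fun j =>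
  Nat.beq (img k i) (img k j) == Nat.beq (img k (img c i)) (img k (img c j))

/-- the colouring `k` is invariant under every member of the list -/
def invOK (L : List ℕ) (k : ℕ) : Bool := L.all fun c => (List.range 24).all fun i =>
  Nat.beq (img k (img c i)) (img k i)

theorem beq_iff' {a b : ℕ} : Nat.beq a b = true ↔ a = b := ⟨Nat.eq_of_beq_eq_true, fun h => h ▸ Nat.beq_refl a⟩

theorem col_iff (hL : ∀ c ∈ L, valid c = true) {k : ℕ} (h : colOK L k = true) {w : Equiv.Perm GolayPt}
    (hw : w ∈ WL L) : ∀ x y : GolayPt, img k (ix x) = img k (ix y) ↔ img k (ix (w x)) = img k (ix (w y)) := by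
  unfold WL at hw
  induction hw using Subgroup.closure_induction with
  | mem g hg =>
    obtain ⟨c, hc, rfl⟩ := hg
    intro x y
    unfold colOK at h
    have h1 := List.all_eq_true.mp (List.all_eq_true.mp (List.all_eq_true.mp h c hc) (ix x)
      (List.mem_range.mpr (ix_lt x))) (ix y) (List.mem_range.mpr (ix_lt y))
    rw [beq_iff_eq] at h1
    rw [ix_toPerm (hL c hc), ix_toPerm (hL c hc), ← beq_iff', h1, beq_iff']
  | one => intro x y; rfl
  | mul a b _ _ ha hb =>
    intro x y
    rw [hb x y, ha (b x) (b y)]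
    rfl
  | inv a _ ha =>
    intro x y
    rw [ha (a⁻¹ x) (a⁻¹ y), pai, pai]

theorem inv_eq (hL : ∀ c ∈ L, valid c = true) {k : ℕ} (h : invOK L k = true) {w : Equiv.Perm GolayPt}
    (hw : w ∈ WL L) : ∀ x : GolayPt, img k (ix (w x)) = img k (ix x) := by
  unfold WL at hw
  induction hw using Subgroup.closure_induction with
  | mem g hg =>
    obtain ⟨c, hc, rfl⟩ := hg
    intro x
    unfold invOK at h
    have h1 := List.all_eq_true.mp (List.all_eq_true.mp h c hc) (ix x) (List.mem_range.mpr (ix_lt x))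
    rw [ix_toPerm (hL c hc)]
    exact beq_iff'.mp h1
  | one => intro x; rfl
  | mul a b _ _ ha hb =>
    intro x
    rw [Equiv.Perm.mul_apply, ha, hb]
  | inv a _ ha =>
    intro x
    have := ha (a⁻¹ x)
    rw [pai] at this
    exact this.symm

end tests

/-! ### The centre -/

theorem center_eq {L : List ℕ} (hL : ∀ c ∈ L, valid c = true) {G : Subgroup (Equiv.Perm GolayPt)} {z x0 X : ℕ}
    (hz : valid z = true) (hzG : toPerm z ∈ G) (hx0 : x0 < 24)
    (hzc : (L.all fun c => Nat.beq (mulC z c) (mulC c z)) = true)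
    (hX : trOK L [] x0 X = true)
    (hfix : ∀ g ∈ G, (∀ p ∈ mset X, g p = p) → g = 1)
    (hc : ∀ y : GolayPt, fxC L x0 (ix y) = true → y = pt x0 ∨ y = toPerm z (pt x0))
    {c : Equiv.Perm GolayPt} (hcG : c ∈ G) (hcW : ∀ w ∈ WL L, c * w = w * c) : c = 1 ∨ c = toPerm z := by
  have hzL : ∀ w ∈ WL L, toPerm z * w = w * toPerm z := by
    have h1 : WL L ≤ Subgroup.centralizer {toPerm z} := by
      apply WL_le
      intro d hd
      have e : mulC z d = mulC d z := by
        have e1 := List.all_eq_true.mp hzc d hd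
        exact Nat.eq_of_beq_eq_true e1
      have e2 : toPerm z * toPerm d = toPerm d * toPerm z := by
        rw [← toPerm_mulC hz (hL d hd), e, toPerm_mulC (hL d hd) hz]
      rw [Subgroup.mem_centralizer_iff]
      intro y hy
      rw [Set.mem_singleton_iff] at hy
      rw [hy, e2]
    intro w hw
    exact Subgroup.mem_centralizer_iff.mp (h1 hw) _ (Set.mem_singleton _)
  have key : ∀ c ∈ G, (∀ w ∈ WL L, c * w = w * c) → c (pt x0) = pt x0 → c = 1 := by
    intro c hcG hcW hc0
    apply hfix c hcG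
    intro p hp
    obtain ⟨w, hw, -, rfl⟩ := tr_exists hL hX (by simp) hx0 p hp
    rw [← Equiv.Perm.mul_apply, hcW w hw, Equiv.Perm.mul_apply, hc0]
  have hF : Fx (WL L) (pt x0) (c (pt x0)) := by
    intro u hu hux
    rw [← Equiv.Perm.mul_apply, ← hcW u hu, Equiv.Perm.mul_apply, hux]
  have h2 := fx_check hL hF
  rw [ix_pt hx0] at h2
  rcases hc _ h2 with h3 | h3
  · exact Or.inl (key c hcG hcW h3)
  · right
    have h4 := key ((toPerm z)⁻¹ * c) (G.mul_mem (G.inv_mem hzG) hcG) (by
      intro w hw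
      have h5 := hzL w hw
      have h6 : (toPerm z)⁻¹ * w = w * (toPerm z)⁻¹ := by
        rw [inv_mul_eq_iff_eq_mul, ← mul_assoc, h5, mul_inv_cancel_right]
      rw [mul_assoc, hcW w hw, ← mul_assoc, h6, mul_assoc]) (by
      rw [Equiv.Perm.mul_apply, h3, pia])
    rw [inv_mul_eq_one] at h4
    exact h4.symm

/-! ### Derivations -/

/-- one step of a derivation: `(0, g, i, c)` says that `c` is the conjugate by `g` of the `i`-th derived element;
`(_, j, i, c)` that `c` is the product of the `i`-th and the `j`-th. -/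
def dstep (inG : ℕ → Bool) (L D : List ℕ) (s : ℕ × ℕ × ℕ × ℕ) : Bool :=
  match s with
  | (0, g, i, c) => match D[i]? with
    | some d => inG g && (L.elem c && Nat.beq (mulC g d) (mulC c g))
    | none => false
  | (_ + 1, j, i, c) => match D[i]? with
    | some d => match D[j]? with
      | some e => Nat.beq (mulC d e) c
      | none => false
    | none => false

/-- run a derivation; at the end all members of `L` must be derived -/
def drun (inG : ℕ → Bool) (L : List ℕ) : List (ℕ × ℕ × ℕ × ℕ) → List ℕ → Bool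
  | [], D => L.all fun c => D.elem c
  | s :: l, D => dstep inG L D s && drun inG L l (D ++ [s.2.2.2])

theorem drun_sound {inG : ℕ → Bool} {G T : Subgroup (Equiv.Perm GolayPt)} {L : List ℕ}
    (hL : ∀ c ∈ L, valid c = true) (hG : ∀ c, inG c = true → valid c = true ∧ toPerm c ∈ G)
    (hT : ∀ x ∈ T, ∀ g ∈ G, g * x * g⁻¹ ∈ WL L → g * x * g⁻¹ ∈ T) :
    ∀ (l : List (ℕ × ℕ × ℕ × ℕ)) (D : List ℕ), drun inG L l D = true →
      (∀ d ∈ D, valid d = true ∧ toPerm d ∈ T) → ∀ c ∈ L, toPerm c ∈ T := by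
  intro l
  induction l with
  | nil =>
    intro D h hD c hc
    exact (hD c (List.elem_iff.mp (List.all_eq_true.mp h c hc))).2
  | cons s l ih =>
    intro D h hD
    rw [drun, Bool.and_eq_true] at h
    refine ih _ h.2 ?_
    intro d hd
    rcases List.mem_append.mp hd with hd | hd
    · exact hD d hd
    · rw [List.mem_singleton] at hd
      subst hd
      obtain ⟨k, g, i, c⟩ := s
      have h1 := h.1
      unfold dstep at h1
      cases k with
      | zero =>
        simp only at h1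
        cases hi : D[i]? with
        | none => rw [hi] at h1; exact absurd h1 (by simp)
        | some d =>
          rw [hi] at h1
          simp only [Bool.and_eq_true] at h1
          obtain ⟨h2, h3, h4⟩ := h1
          have hcL : c ∈ L := List.elem_iff.mp h3
          have hdD : d ∈ D := List.mem_of_getElem? hi
          obtain ⟨hgv, hgG⟩ := hG g h2
          obtain ⟨hdv, hdT⟩ := hD d hdD
          refine ⟨hL c hcL, ?_⟩
          have h5 : toPerm g * toPerm d * (toPerm g)⁻¹ = toPerm c := by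
            rw [← toPerm_mulC hgv hdv, Nat.eq_of_beq_eq_true h4, toPerm_mulC (hL c hcL) hgv, mul_inv_cancel_right]
          have h6 := hT _ hdT _ hgG (by rw [h5]; exact mem_WL hcL)
          rwa [h5] at h6
      | succ k =>
        simp only at h1
        cases hi : D[i]? with
        | none => rw [hi] at h1; exact absurd h1 (by simp)
        | some d =>
          rw [hi] at h1
          cases hj : D[g]? with
          | none => rw [hj] at h1; exact absurd h1 (by simp)
          | some e =>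
            rw [hj] at h1
            simp only at h1
            have h2 := Nat.eq_of_beq_eq_true h1
            obtain ⟨hdv, hdT⟩ := hD d (List.mem_of_getElem? hi)
            obtain ⟨hev, heT⟩ := hD e (List.mem_of_getElem? hj)
            rw [← h2]
            refine ⟨valid_mulC hdv hev, ?_⟩
            rw [toPerm_mulC hdv hev]
            exact T.mul_mem hdT heT

/-! ### Assembly -/

/-- The `2`-fusion system of `G` is simple, from: the centre of `W = WL L` is `⟨z⟩`, the normalizer of `W` in `G` is a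
`2`-group contained in `W`, and `L` can be derived from `z`. -/
theorem simple_of_data {inG : ℕ → Bool} {G : Subgroup (Equiv.Perm GolayPt)} {L : List ℕ} {z : ℕ}
    (hL : ∀ c ∈ L, inG c = true) (hG : ∀ c, inG c = true → valid c = true ∧ toPerm c ∈ G)
    (hzL : z ∈ L) (hz1 : toPerm z ≠ 1)
    (hcen : ∀ c ∈ G, (∀ w ∈ WL L, c * w = w * c) → c = 1 ∨ c = toPerm z)
    (hN : G ⊓ Subgroup.normalizer ((WL L : Subgroup (Equiv.Perm GolayPt)) : Set (Equiv.Perm GolayPt)) ≤ WL L ∧
      ∃ k, Nat.card ↥(G ⊓ Subgroup.normalizer ((WL L : Subgroup (Equiv.Perm GolayPt)) : Set (Equiv.Perm GolayPt))) = 2 ^ k)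
    {st : List (ℕ × ℕ × ℕ × ℕ)} (hst : drun inG L st [z] = true) (S : Sylow 2 G) :
    (groupFusionSystem (S : Subgroup G)).IsSimple 2 := by
  have hLv : ∀ c ∈ L, valid c = true := fun c hc => (hG c (hL c hc)).1
  have hWG : WL L ≤ G := WL_le fun c hc => (hG c (hL c hc)).2
  have hWK : WL L ≤ G ⊓ Subgroup.normalizer ((WL L : Subgroup (Equiv.Perm GolayPt)) : Set (Equiv.Perm GolayPt)) :=
    le_inf hWG Subgroup.le_normalizer
  obtain ⟨hNW, k, hk⟩ := hN
  have : Fact (Nat.Prime 2) := ⟨Nat.prime_two⟩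
  have hp : IsPGroup 2 (WL L) := (IsPGroup.of_card hk).to_le hWK
  refine Cfsg.Agent.Lib.FusionSelfNorm.simple_of_selfnorm 2 G (WL L) hWG ?_ hp ?_ ?_ S
  · intro h
    have h1 := mem_WL hzL
    rw [h, Subgroup.mem_bot] at h1
    exact hz1 h1
  · intro g hg hgW
    apply hNW
    refine ⟨hg, ?_⟩
    have hle : (WL L).map (MulAut.conj g).toMonoidHom ≤ WL L := by
      rintro _ ⟨w, hw, rfl⟩
      exact hgW w hw
    refine Subgroup.mem_normalizer_iff_map_conj_eq.mpr ?_
    exact Subgroup.eq_of_le_of_card_ge hle (by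
      rw [Subgroup.card_map_of_injective (MulAut.conj g).injective])
  · intro T hTW hT1 hTc
    obtain ⟨c, hcT, hc1, hcW⟩ := Cfsg.Agent.Lib.FlagSylow.exists_central hp hTW hT1 (fun u hu t ht =>
      hTc t ht u (hWG hu) ((WL L).mul_mem ((WL L).mul_mem hu (hTW ht)) ((WL L).inv_mem hu)))
    have hcz : c = toPerm z := by
      rcases hcen c (hWG (hTW hcT)) (fun w hw => (hcW w hw).symm) with h | h
      · exact absurd h hc1
      · exact h
    have h1 := drun_sound hLv hG (T := T) hTc st [z] hst (by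
      intro d hd
      rw [List.mem_singleton] at hd
      subst hd
      exact ⟨hLv d hzL, hcz ▸ hcT⟩)
    exact WL_le h1

/-! ### Facts about normalizing elements -/

/-- the normalizer of `WL L` in `G` -/
noncomputable def NW (G : Subgroup (Equiv.Perm GolayPt)) (L : List ℕ) : Subgroup (Equiv.Perm GolayPt) :=
  G ⊓ Subgroup.normalizer ((WL L : Subgroup (Equiv.Perm GolayPt)) : Set (Equiv.Perm GolayPt))

section nw

variable {G : Subgroup (Equiv.Perm GolayPt)} {L : List ℕ} {g : Equiv.Perm GolayPt} {z : ℕ}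

theorem NW_mem (hg : g ∈ NW G L) : g ∈ G := hg.1

theorem NW_norm (hg : g ∈ NW G L) :
    g ∈ Subgroup.normalizer ((WL L : Subgroup (Equiv.Perm GolayPt)) : Set (Equiv.Perm GolayPt)) := hg.2

theorem WL_le_NW (h : WL L ≤ G) : WL L ≤ NW G L := le_inf h Subgroup.le_normalizer

/-- elements of the normalizer commute with the central involution -/
theorem comm_z (hcen : ∀ c ∈ G, (∀ w ∈ WL L, c * w = w * c) → c = 1 ∨ c = toPerm z) (hz1 : toPerm z ≠ 1)
    (hzG : toPerm z ∈ G) (hzc : ∀ w ∈ WL L, toPerm z * w = w * toPerm z) (hg : g ∈ NW G L) :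
    g * toPerm z = toPerm z * g := by
  have h1 : g * toPerm z * g⁻¹ = toPerm z := by
    rcases hcen (g * toPerm z * g⁻¹) (G.mul_mem (G.mul_mem hg.1 hzG) (G.inv_mem hg.1)) (by
      intro w hw
      have h2 := conj_mem_of_normalizer (NW_norm hg) hw
      have h3 := hzc _ h2
      calc g * toPerm z * g⁻¹ * w = g * (toPerm z * (g⁻¹ * w * g)) * g⁻¹ := by group
        _ = g * ((g⁻¹ * w * g) * toPerm z) * g⁻¹ := by rw [h3]
        _ = w * (g * toPerm z * g⁻¹) := by group) with h | h
    · exfalso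
      apply hz1
      have h2 : toPerm z = g⁻¹ * (g * toPerm z * g⁻¹) * g := by group
      rw [h2, h]; group
    · exact h
  calc g * toPerm z = g * toPerm z * g⁻¹ * g := by group
    _ = toPerm z * g := by rw [h1]

/-- so they permute the fixed points of `z` -/
theorem fix_z (h : g * toPerm z = toPerm z * g) (hz : valid z = true) {O : ℕ}
    (hO : ∀ y : GolayPt, Nat.beq (img z (ix y)) (ix y) = true ↔ y ∈ mset O) (y : GolayPt) :
    g y ∈ mset O ↔ y ∈ mset O := by
  rw [← hO, ← hO, ← ix_toPerm hz, ← ix_toPerm hz, beq_ix, beq_ix]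
  rw [← Equiv.Perm.mul_apply, ← h, Equiv.Perm.mul_apply]
  exact g.injective.eq_iff

theorem apply_ne {x y a b : GolayPt} (hx : g x = a) (hne : y ≠ x) (hy : g y = b) : b ≠ a := by
  rintro rfl
  exact hne (g.injective (hy.trans hx.symm))

/-- positive facts from block colourings -/
theorem fx_of_col (hL : ∀ c ∈ L, valid c = true) {k : ℕ} (h : colOK L k = true) {x y : GolayPt}
    (hxy : ∀ v : GolayPt, img k (ix v) = img k (ix x) → v = x ∨ v = y) (hne : y ≠ x)
    (hc : img k (ix x) = img k (ix y)) : Fx (WL L) x y := by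
  intro u hu hux
  have h1 := (col_iff hL h hu x y).mp hc
  rw [hux] at h1
  rcases hxy _ h1.symm with h2 | h2
  · exfalso
    exact hne (u.injective (h2.trans hux.symm))
  · exact h2

theorem ox_of_two {W : Subgroup (Equiv.Perm GolayPt)} {x y y' : GolayPt} (h : ∀ u ∈ W, u x = x → u y = y ∨ u y = y') :
    Ox W x y := by
  intro u hu v hv hux hvx
  rcases h u hu hux with h1 | h1
  · exact Or.inl h1
  · rcases h v hv hvx with h2 | h2
    · exact Or.inr (Or.inl h2)
    · exact Or.inr (Or.inr (h1.trans h2.symm))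

theorem p2_of_two {W : Subgroup (Equiv.Perm GolayPt)} {y y' : GolayPt} (h : ∀ u ∈ W, u y = y ∨ u y = y') :
    P2 W y := by
  intro u hu v hv
  rcases h u hu with h1 | h1
  · exact Or.inl h1
  · rcases h v hv with h2 | h2
    · exact Or.inr (Or.inl h2)
    · exact Or.inr (Or.inr (h1.trans h2.symm))

theorem zc_of (hL : ∀ c ∈ L, valid c = true) (hz : valid z = true)
    (hzc : (L.all fun c => Nat.beq (mulC z c) (mulC c z)) = true) : ∀ w ∈ WL L, toPerm z * w = w * toPerm z := by
  have h1 : WL L ≤ Subgroup.centralizer {toPerm z} := by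
    apply WL_le
    intro d hd
    have e : mulC z d = mulC d z := by
      have e1 := List.all_eq_true.mp hzc d hd
      exact Nat.eq_of_beq_eq_true e1
    have e2 : toPerm z * toPerm d = toPerm d * toPerm z := by
      rw [← toPerm_mulC hz (hL d hd), e, toPerm_mulC (hL d hd) hz]
    rw [Subgroup.mem_centralizer_iff]
    intro y hy
    rw [Set.mem_singleton_iff] at hy
    rw [hy, e2]
  intro w hw
  exact Subgroup.mem_centralizer_iff.mp (h1 hw) _ (Set.mem_singleton _)

theorem toPerm_ne_one (hz : valid z = true) {i : ℕ} (hi : i < 24) (h : Nat.beq (img z i) i = false) :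
    toPerm z ≠ 1 := by
  intro h1
  have h2 : toPerm z (pt i) = pt i := by rw [h1]; rfl
  rw [toPerm_pt hz hi] at h2
  have h3 := pt_inj (img_lt hz hi) hi h2
  rw [h3] at h
  exact absurd (Nat.beq_refl i) (by rw [h]; simp)

end nw

end Cfsg.Agent.Lib.MathieuFus
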