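import Cfsg.Agent.Lib.MaxClassNormal

/-! Upper central series of `p`-groups of maximal class (helper87). -/

set_option autoImplicit false
open Subgroup
open scoped commutatorElement

namespace Cfsg.Agent.Lib.MaxClassUpper

variable {X : Type*} [Group X]

theorem lcs_le_ucs {c : ℕ} (hc : Subgroup.upperCentralSeries X c = ⊤) :
    ∀ i, i ≤ c → (⊤ : Subgroup X).lowerCentralSeries i ≤ Subgroup.upperCentralSeries X (c - i) := by
  intro i
  induction i with
  | zero =>
    intro _
    rw [Nat.sub_zero, hc]; exact le_top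
  | succ i ih =>
    intro hi
    have h1 := ih (by omega)
    obtain ⟨d, hd⟩ : ∃ d, c - i = d + 1 := ⟨c - i - 1, by omega⟩
    have hd2 : c - (i + 1) = d := by omega
    rw [hd2]
    rw [hd] at h1
    exact (Subgroup.commutator_mono h1 le_rfl).trans (Subgroup.commutator_upperCentralSeries_top_le X d)

theorem lcs_add_eq_bot : ∀ k m, (⊤ : Subgroup X).lowerCentralSeries m ≤ Subgroup.upperCentralSeries X k →
    (⊤ : Subgroup X).lowerCentralSeries (m + k) = ⊥ := by
  intro k
  induction k with
  | zero =>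
    intro m h
    rw [Subgroup.upperCentralSeries_zero] at h
    exact le_bot_iff.1 h
  | succ k ih =>
    intro m h
    have h1 : (⊤ : Subgroup X).lowerCentralSeries (m + 1) ≤ Subgroup.upperCentralSeries X k :=
      (Subgroup.commutator_mono h le_rfl).trans (Subgroup.commutator_upperCentralSeries_top_le X k)
    have h2 := ih (m + 1) h1
    rwa [show m + (k + 1) = m + 1 + k by ring]

/-- If `X / Z_(k+1)` is cyclic then `X / Z_k` is abelian. -/
theorem lcs_one_le_of_isCyclic {k : ℕ} [hcyc : IsCyclic (X ⧸ Subgroup.upperCentralSeries X (k + 1))] :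
    (⊤ : Subgroup X).lowerCentralSeries 1 ≤ Subgroup.upperCentralSeries X k := by
  have hle : Subgroup.upperCentralSeries X k ≤ Subgroup.upperCentralSeries X (k + 1) := Subgroup.upperCentralSeries_mono X (Nat.le_succ k)
  let f : X ⧸ Subgroup.upperCentralSeries X k →* X ⧸ Subgroup.upperCentralSeries X (k + 1) :=
    QuotientGroup.map _ _ (MonoidHom.id X) hle
  have hf : f.ker ≤ center (X ⧸ Subgroup.upperCentralSeries X k) := by
    intro z hz
    induction z using QuotientGroup.induction_on with
    | _ z =>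
    have h1 : ((z : X) : X ⧸ Subgroup.upperCentralSeries X (k + 1)) = 1 := hz
    rw [QuotientGroup.eq_one_iff] at h1
    rw [mem_center_iff]
    intro y
    induction y using QuotientGroup.induction_on with
    | _ y =>
    have h2 := Subgroup.mem_upperCentralSeries_succ_iff.1 h1 y
    rw [← QuotientGroup.mk_mul, ← QuotientGroup.mk_mul, eq_comm, QuotientGroup.eq_iff_div_mem]
    have h3 : z * y / (y * z) = ⁅z, y⁆ := by rw [commutatorElement_def, div_eq_mul_inv]; group
    rw [h3]
    exact h2
  have h1 := f.isMulCommutative_of_isCyclic_of_ker_le_center hf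
  rw [Subgroup.lowerCentralSeries_succ, Subgroup.commutator_le]
  intro a _ b _
  have h2 := h1.is_comm.comm (a : X ⧸ Subgroup.upperCentralSeries X k) (b : X ⧸ Subgroup.upperCentralSeries X k)
  rw [← QuotientGroup.mk_mul, ← QuotientGroup.mk_mul, QuotientGroup.eq_iff_div_mem] at h2
  have h3 : a * b / (b * a) = ⁅a, b⁆ := by rw [commutatorElement_def, div_eq_mul_inv]; group
  rwa [h3] at h2

/-- In a `p`-group of maximal class of order `p ^ n`, `Z_k = γ` with index `n - 1 - k`. -/
theorem ucs_eq_lcs [Finite X] {p : ℕ} [hp : Fact p.Prime] {n : ℕ} (hn : 3 ≤ n) (hX : Nat.card X = p ^ n)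
    (hcl : Group.nilpotencyClass X = n - 1) {k : ℕ} (hk : 1 ≤ k) (hkn : k ≤ n - 2) :
    Subgroup.upperCentralSeries X k = (⊤ : Subgroup X).lowerCentralSeries (n - 1 - k) := by
  have hXp : IsPGroup p X := IsPGroup.of_card hX
  have hnil : Group.IsNilpotent X := hXp.isNilpotent
  have htop : Subgroup.upperCentralSeries X (n - 1) = ⊤ := by
    rw [Subgroup.upperCentralSeries_eq_top_iff_nilpotencyClass_le, hcl]
  have hle : (⊤ : Subgroup X).lowerCentralSeries (n - 1 - k) ≤ Subgroup.upperCentralSeries X k := by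
    have := lcs_le_ucs htop (n - 1 - k) (by omega)
    rwa [show n - 1 - (n - 1 - k) = k by omega] at this
  have hbot : ∀ i, (⊤ : Subgroup X).lowerCentralSeries i = ⊥ → n - 1 ≤ i := by
    intro i h
    rw [← hcl]
    exact Subgroup.lowerCentralSeries_eq_bot_iff_nilpotencyClass_le.mp h
  obtain ⟨r, hr⟩ : ∃ r, (Subgroup.upperCentralSeries X k).index = p ^ r := hXp.index _
  by_cases h2 : 2 ≤ r
  · have h3 := MaxClassNormal.eq_lcs_of_normal hn hX hcl (Subgroup.upperCentralSeries X k) h2 hr
    have h4 := hbot _ (lcs_add_eq_bot k (r - 1) h3.symm.le)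
    refine le_antisymm ?_ hle
    rw [h3]
    exact (⊤ : Subgroup X).lowerCentralSeries_antitone (by omega)
  · exfalso
    obtain ⟨j, rfl⟩ : ∃ j, k = j + 1 := ⟨k - 1, by omega⟩
    have hcard : Nat.card (X ⧸ Subgroup.upperCentralSeries X (j + 1)) = p ^ r := hr
    have hcyc : IsCyclic (X ⧸ Subgroup.upperCentralSeries X (j + 1)) := by
      interval_cases r
      · rw [pow_zero] at hcard
        have := (Nat.card_eq_one_iff_unique.1 hcard).1
        exact isCyclic_of_subsingleton
      · rw [pow_one] at hcard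
        exact isCyclic_of_prime_card hcard
    have h3 : (⊤ : Subgroup X).lowerCentralSeries 1 ≤ Subgroup.upperCentralSeries X j := lcs_one_le_of_isCyclic
    have h4 := hbot _ (lcs_add_eq_bot j 1 h3)
    omega

theorem card_ucs [Finite X] {p : ℕ} [hp : Fact p.Prime] {n : ℕ} (hn : 3 ≤ n) (hX : Nat.card X = p ^ n)
    (hcl : Group.nilpotencyClass X = n - 1) {k : ℕ} (hk : 1 ≤ k) (hkn : k ≤ n - 2) :
    Nat.card (Subgroup.upperCentralSeries X k) = p ^ k := by
  rw [ucs_eq_lcs hn hX hcl hk hkn, MaxClassNormal.card_lcs hn hX hcl (by omega) (by omega)]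
  congr 1
  omega

/-- class from nonvanishing of a lower central term -/
theorem class_of_ne_bot [Finite X] {p : ℕ} [hp : Fact p.Prime] {n : ℕ} (hn : 2 ≤ n) (hX : Nat.card X = p ^ n)
    (h : (⊤ : Subgroup X).lowerCentralSeries (n - 2) ≠ ⊥) : Group.nilpotencyClass X = n - 1 := by
  have hXp : IsPGroup p X := IsPGroup.of_card hX
  have hnil : Group.IsNilpotent X := hXp.isNilpotent
  have h1 := Subgroup.lowerCentralSeries_eq_bot_iff_nilpotencyClass_le.mp (MaxClassNormal.lcs_eq_bot hn hX)
  have h2 : ¬ Group.nilpotencyClass X ≤ n - 2 := fun h3 =>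
    h (Subgroup.lowerCentralSeries_eq_bot_iff_nilpotencyClass_le.mpr h3)
  omega

/-- The centralizer of the second centre has index `p`. -/
theorem index_centralizer_dvd [Finite X] {p : ℕ} [hp : Fact p.Prime] (h1 : Nat.card (center X) = p)
    (h2 : Nat.card (Subgroup.upperCentralSeries X 2) = p ^ 2) : (centralizer (Subgroup.upperCentralSeries X 2 : Set X)).index = p := by
  have hle : center X ≤ Subgroup.upperCentralSeries X 2 := by
    rw [← Subgroup.upperCentralSeries_one]; exact Subgroup.upperCentralSeries_mono X (by norm_num)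
  obtain ⟨z, hz, hzc⟩ : ∃ z ∈ Subgroup.upperCentralSeries X 2, z ∉ center X := by
    by_contra hcon
    push Not at hcon
    have h3 : Subgroup.upperCentralSeries X 2 = center X := le_antisymm hcon hle
    rw [h3, h1] at h2
    have := hp.out.one_lt
    nlinarith
  have hcom : ∀ g : X, g * z * g⁻¹ * z⁻¹ ∈ center X := by
    intro g
    have h3 := Subgroup.mem_upperCentralSeries_succ_iff.1 hz g
    rw [Subgroup.upperCentralSeries_one] at h3
    have h4 := (center X).inv_mem h3
    have h5 : ⁅z, g⁆⁻¹ = g * z * g⁻¹ * z⁻¹ := by rw [commutatorElement_def]; group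
    rwa [h5] at h4
  let φ : X →* center X :=
    { toFun := fun g => ⟨g * z * g⁻¹ * z⁻¹, hcom g⟩
      map_one' := by apply Subtype.ext; show 1 * z * 1⁻¹ * z⁻¹ = 1; group
      map_mul' := by
        intro g h
        apply Subtype.ext
        show g * h * z * (g * h)⁻¹ * z⁻¹ = (g * z * g⁻¹ * z⁻¹) * (h * z * h⁻¹ * z⁻¹)
        have h3 := (mem_center_iff.1 (hcom h)) (g * z * g⁻¹)
        calc g * h * z * (g * h)⁻¹ * z⁻¹ = g * (h * z * h⁻¹ * z⁻¹) * g⁻¹ * (g * z * g⁻¹ * z⁻¹) := by group
          _ = (h * z * h⁻¹ * z⁻¹) * g * g⁻¹ * (g * z * g⁻¹ * z⁻¹) := by rw [(mem_center_iff.1 (hcom h)) g]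
          _ = ((h * z * h⁻¹ * z⁻¹) * (g * z * g⁻¹)) * z⁻¹ := by group
          _ = (g * z * g⁻¹ * (h * z * h⁻¹ * z⁻¹)) * z⁻¹ := by rw [h3]
          _ = g * z * g⁻¹ * ((h * z * h⁻¹ * z⁻¹) * z⁻¹) := by group
          _ = g * z * g⁻¹ * (z⁻¹ * (h * z * h⁻¹ * z⁻¹)) := by rw [(mem_center_iff.1 (hcom h)) z⁻¹]
          _ = (g * z * g⁻¹ * z⁻¹) * (h * z * h⁻¹ * z⁻¹) := by group }
  have hker : φ.ker = centralizer (Subgroup.upperCentralSeries X 2 : Set X) := by
    ext g
    rw [MonoidHom.mem_ker]
    constructor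
    · intro hg
      have h3 : g * z * g⁻¹ * z⁻¹ = 1 := congrArg Subtype.val hg
      have h4 : z ∈ centralizer ({g} : Set X) := by
        rw [mem_centralizer_singleton_iff]
        exact (mul_inv_eq_iff_eq_mul.1 (mul_inv_eq_one.1 h3)).symm
      have h5 : Subgroup.upperCentralSeries X 2 ≤ centralizer ({g} : Set X) := by
        have h6 : center X ⊔ zpowers z ≤ centralizer ({g} : Set X) :=
          sup_le (center_le_centralizer _) (zpowers_le.2 h4)
        have h7 : center X ⊔ zpowers z = Subgroup.upperCentralSeries X 2 := by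
          apply Subgroup.eq_of_le_of_card_ge (sup_le hle (zpowers_le.2 hz))
          rw [h2]
          have h8 : center X < center X ⊔ zpowers z := lt_of_le_of_ne le_sup_left fun h => hzc (by
            rw [h]; exact mem_sup_right (mem_zpowers z))
          obtain ⟨m, hm⟩ := (Nat.dvd_prime_pow hp.out).1 (h2 ▸ Subgroup.card_dvd_of_le (sup_le hle (zpowers_le.2 hz)))
          have h9 := MaxClassNormal.lt_of_lt (p := p) h8 (a := 1) (b := m) (by rw [h1, pow_one]) hm.2
          rw [hm.2]
          exact Nat.pow_le_pow_right hp.out.pos h9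
        rw [← h7]; exact h6
      rw [mem_centralizer_iff]
      intro y hy
      have := mem_centralizer_singleton_iff.1 (h5 hy)
      exact this
    · intro hg
      apply Subtype.ext
      show g * z * g⁻¹ * z⁻¹ = 1
      have h3 := mem_centralizer_iff.1 hg z hz
      rw [← h3]; group
  rw [← hker]
  have h3 : φ.ker.index = Nat.card φ.range := Subgroup.index_ker φ
  have h4 : φ.ker.index ∣ p := by rw [h3, ← h1]; exact Subgroup.card_subgroup_dvd_card _
  rcases (Nat.dvd_prime hp.out).1 h4 with h5 | h5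
  · exfalso
    rw [Subgroup.index_eq_one, hker] at h5
    apply hzc
    rw [mem_center_iff]
    intro g
    have h6 : g ∈ centralizer (Subgroup.upperCentralSeries X 2 : Set X) := by rw [h5]; trivial
    exact (mem_centralizer_iff.1 h6 z hz).symm
  · exact h5

end Cfsg.Agent.Lib.MaxClassUpper
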