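import Cfsg.Agent.Lib.LeechCen4
import Cfsg.Agent.Lib.LeechRank

/-!
Fifteen vectors of the Leech lattice permuted by the centraliser of an involution of McLaughlin's group.
-/

set_option autoImplicit false
set_option maxHeartbeats 400000

namespace Cfsg.Agent.Lib.McLCen

open Cfsg Cfsg.Agent.Lib.Golay Cfsg.Agent.Lib.LeechMin Cfsg.Agent.Lib.GolayCoset Cfsg.Agent.Lib.LeechXi
  Cfsg.Agent.Lib.LeechTrans Cfsg.Agent.Lib.LeechCo2 Cfsg.Agent.Lib.LeechFrame Cfsg.Agent.Lib.LeechCount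
  Cfsg.Agent.Lib.LeechOrder Cfsg.Agent.Lib.LeechMod Cfsg.Agent.Lib.LeechQuot Cfsg.Agent.Lib.LeechChain
  Cfsg.Agent.Lib.LeechSyl
open Subgroup
open scoped Pointwise

/-- the fifteen vectors and zero -/
def zt : List (List ℤ) :=
  [[0, 0, 0, 0, 0, 0, 0, 0, 0, 0, 0, 0, 0, 0, 0, 0, 0, 0, 0, 0, 0, 0, 0, 0],
  [0, 0, 0, 0, 0, 0, 0, 0, 0, 0, 0, 0, 0, 0, 0, 8, 0, 0, 0, 0, 0, 0, 0, 0],
  [0, 0, 0, 0, 0, 0, 0, 0, 0, -4, 4, 0, 0, 0, 0, 4, 0, 0, 0, 0, 4, 0, 0, 0],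
  [0, 0, 0, 0, 0, 0, 0, 0, 0, -4, 4, 0, 0, 0, 0, 4, 0, 0, 0, 0, -4, 0, 0, 0],
  [0, 0, 0, 0, 0, 0, 0, 0, 4, -4, 0, 4, 0, 0, 0, 4, 0, 0, 0, 0, 0, 0, 0, 0],
  [0, 0, 0, 0, 0, 0, 0, 0, -4, -4, 0, 4, 0, 0, 0, 4, 0, 0, 0, 0, 0, 0, 0, 0],
  [0, 0, 0, 0, 0, 0, 0, 0, 0, -4, 0, 0, 4, 0, 0, 4, 0, 0, -4, 0, 0, 0, 0, 0],
  [0, 0, 0, 0, 0, 0, 0, 0, 0, -4, 0, 0, 4, 0, 0, 4, 0, 0, 4, 0, 0, 0, 0, 0],
  [0, 0, 0, 0, 4, 0, 0, 0, 0, -4, 0, 0, 0, 4, 0, 4, 0, 0, 0, 0, 0, 0, 0, 0],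
  [0, 0, 0, 0, -4, 0, 0, 0, 0, -4, 0, 0, 0, 4, 0, 4, 0, 0, 0, 0, 0, 0, 0, 0],
  [0, 0, 0, 0, 0, 0, 0, 0, 0, -4, 0, 0, 0, 0, 0, 4, 4, 0, 0, 0, 0, 0, -4, 0],
  [0, 0, 0, 0, 0, 0, 0, 0, 0, -4, 0, 0, 0, 0, 0, 4, 4, 0, 0, 0, 0, 0, 4, 0],
  [0, 0, 0, 0, 0, 0, 0, -4, 0, -4, 0, 0, 0, 0, 0, 4, 0, 0, 0, 0, 0, 4, 0, 0],
  [0, 0, 0, 0, 0, 0, 0, 4, 0, -4, 0, 0, 0, 0, 0, 4, 0, 0, 0, 0, 0, 4, 0, 0],
  [0, 0, 0, 0, 0, 0, 4, 0, 0, -4, 0, 0, 0, 0, 0, 4, 0, 0, 0, 4, 0, 0, 0, 0],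
  [0, 0, 0, 0, 0, 0, -4, 0, 0, -4, 0, 0, 0, 0, 0, 4, 0, 0, 0, 4, 0, 0, 0, 0]]

/-- half representatives -/
def xt : List (List ℤ) :=
  [[0, 0, 0, 0, 0, 0, 0, 0, 0, 0, 0, 0, 0, 0, 0, 0, 0, 0, 0, 0, 0, 0, 0, 0],
  [4, 0, 0, 0, 0, 0, 0, 0, 0, 0, 0, 0, 0, 0, 0, 4, 0, 0, 0, 0, 0, 0, 0, 0],
  [0, 0, 0, -2, 0, 2, 0, 0, 0, -2, 2, 0, 0, 0, 2, 2, 0, 2, 0, 0, 2, 0, 0, 0],
  [0, 0, 0, 2, 0, 2, 0, 0, 0, -2, 2, 0, 0, 0, 2, 2, 0, 2, 0, 0, -2, 0, 0, 0],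
  [-2, 0, 2, 0, 0, 2, 0, 0, 2, -2, 0, 2, 0, 0, 2, 2, 0, 0, 0, 0, 0, 0, 0, 0],
  [2, 0, 2, 0, 0, 2, 0, 0, -2, -2, 0, 2, 0, 0, 2, 2, 0, 0, 0, 0, 0, 0, 0, 0],
  [2, 0, 2, 2, 0, 0, 0, 0, 0, -2, 0, 0, 2, 0, 0, 2, 0, 2, -2, 0, 0, 0, 0, 0],
  [-2, 0, 2, 2, 0, 0, 0, 0, 0, -2, 0, 0, 2, 0, 0, 2, 0, 2, 2, 0, 0, 0, 0, 0],
  [-2, 2, 0, 2, 2, 0, 0, 0, 0, -2, 0, 0, 0, 2, 2, 2, 0, 0, 0, 0, 0, 0, 0, 0],
  [2, 2, 0, 2, -2, 0, 0, 0, 0, -2, 0, 0, 0, 2, 2, 2, 0, 0, 0, 0, 0, 0, 0, 0],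
  [2, 2, 0, 0, 0, 2, 0, 0, 0, -2, 0, 0, 0, 0, 0, 2, 2, 2, 0, 0, 0, 0, -2, 0],
  [-2, 2, 0, 0, 0, 2, 0, 0, 0, -2, 0, 0, 0, 0, 0, 2, 2, 2, 0, 0, 0, 0, 2, 0],
  [0, 2, 2, 2, 0, 2, 0, -2, 0, -2, 0, 0, 0, 0, 0, 2, 0, 0, 0, 0, 0, 2, 0, 0],
  [0, -2, 2, 2, 0, 2, 0, 2, 0, -2, 0, 0, 0, 0, 0, 2, 0, 0, 0, 0, 0, 2, 0, 0],
  [0, -2, 2, 0, 0, 0, 2, 0, 0, -2, 0, 0, 0, 0, 2, 2, 0, 2, 0, 2, 0, 0, 0, 0],
  [0, 2, 2, 0, 0, 0, -2, 0, 0, -2, 0, 0, 0, 0, 2, 2, 0, 2, 0, 2, 0, 0, 0, 0]]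

def v0L : List ℤ := [0, 0, 0, 0, 0, 0, 0, 0, 0, 2, 2, 2, 2, 2, 0, 0, 2, 0, 0, 2, 0, 2, 0, 0]
def u0L : List ℤ := [0, 0, 0, 0, 0, 0, 0, 0, 0, -2, 2, 2, 2, 2, 0, 4, 2, 0, 0, 2, 0, 2, 0, 0]

abbrev V4 : Type := Fin 4 → ZMod 2

def num4 (v : V4) : ℕ := (v 0).val + 2 * (v 1).val + 4 * (v 2).val + 8 * (v 3).val

def zl (v : V4) : List ℤ := zt.getD (num4 v) []
def xl (v : V4) : List ℤ := xt.getD (num4 v) []

/-- the code word of an even vector -/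
def ca (l : List ℤ) : ℕ := (List.range 24).foldl (fun a i => if l.getD i 0 % 4 = 2 then a + 2 ^ i else a) 0

def okL (l : List ℤ) (a : ℕ) : Bool :=
  isCode a && decide (a < 2 ^ 24) && (List.range 24).all (fun i => (l.getD i 0 - (if a.testBit i then 2 else 0)) % 4 == 0) &&
    ((List.range 24).map fun i => l.getD i 0).sum % 8 == 0

theorem sum_vl (l : List ℤ) : ∑ i, vl l i = ((List.range 24).map fun i => l.getD i 0).sum := by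
  have h1 : ∑ i, vl l i = ∑ n : Fin 24, l.getD (n : ℕ) 0 := Equiv.sum_comp ixEquiv fun n : Fin 24 => l.getD (n : ℕ) 0
  rw [h1, Fin.sum_univ_eq_sum_range (fun n => l.getD n 0) 24]
  rfl

theorem mem_of_okL {l : List ℤ} {a : ℕ} (h : okL l a = true) : vl l ∈ leechLattice := by
  unfold okL at h
  rw [Bool.and_eq_true, Bool.and_eq_true, Bool.and_eq_true, List.all_eq_true, decide_eq_true_iff, beq_iff_eq] at h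
  obtain ⟨⟨⟨h1, h2⟩, h3⟩, h4⟩ := h
  refine vl_mem h1 h2 (fun i => ?_) ?_
  · have h5 := h3 (ix i) (List.mem_range.2 (ix_lt i))
    rw [beq_iff_eq] at h5
    have h6 : 2 * chi (mset a) i = if a.testBit (ix i) then 2 else 0 := by
      unfold chi
      by_cases h7 : a.testBit (ix i) = true
      · rw [if_pos (mem_mset.2 h7), if_pos h7]; norm_num
      · rw [if_neg (fun h => h7 (mem_mset.1 h)), if_neg h7]; norm_num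
    rw [h6]
    exact Int.dvd_of_emod_eq_zero h5
  · rw [sum_vl]
    exact Int.dvd_of_emod_eq_zero h4

theorem zl_ok : ∀ v : V4, okL (zl v) 0 = true := by decide +kernel
theorem xl_ok : ∀ v : V4, okL (xl v) (ca (xl v)) = true := by decide +kernel
theorem v0_ok : okL v0L (ca v0L) = true := by decide +kernel
theorem u0_ok : okL u0L (ca u0L) = true := by decide +kernel

def zV (v : V4) : leechLattice := ⟨vl (zl v), mem_of_okL (zl_ok v)⟩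
def xV (v : V4) : leechLattice := ⟨vl (xl v), mem_of_okL (xl_ok v)⟩
def v0 : leechLattice := ⟨vl v0L, mem_of_okL v0_ok⟩
def u0 : leechLattice := ⟨vl u0L, mem_of_okL u0_ok⟩

theorem zV_coe (v : V4) : (zV v : GolayPt → ℤ) = vl (zl v) := rfl
theorem xV_coe (v : V4) : (xV v : GolayPt → ℤ) = vl (xl v) := rfl
theorem v0_coe : (v0 : GolayPt → ℤ) = vl v0L := rfl
theorem u0_coe : (u0 : GolayPt → ℤ) = vl u0L := rfl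

/-- the sign change on an octad -/
def tt : Co0 := eps oc oc_mem

theorem tt_vl {v : leechLattice} {l : List ℤ} (hv : (v : GolayPt → ℤ) = vl l) :
    ((tt • v : leechLattice) : GolayPt → ℤ) = vl (epl 8536111 l) := epl_spec (mset_bit _) hv

theorem tt_L : IsL tt (epl 8536111) := fun _ _ hv => tt_vl hv

theorem tt_apply (x : leechLattice) (i : GolayPt) :
    ((tt • x : leechLattice) : GolayPt → ℤ) i = if i ∈ oc then -((x : GolayPt → ℤ) i) else (x : GolayPt → ℤ) i := by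
  unfold tt
  rw [eps_apply]

theorem zero_list : ∀ i, vl (zl 0) i = 0 := by decide +kernel
theorem zV_zero : zV 0 = 0 := by
  apply Subtype.ext
  funext i
  exact zero_list i

theorem half_list : ∀ v : V4, ∀ i, vl (xl v) i + vl (epl 8536111 (xl v)) i = vl (zl v) i := by decide +kernel

theorem zV_half (v : V4) : xV v + tt • xV v = zV v := by
  apply Subtype.ext
  funext i
  show (xV v : GolayPt → ℤ) i + ((tt • xV v : leechLattice) : GolayPt → ℤ) i = _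
  rw [tt_vl (xV_coe v), xV_coe, zV_coe]
  exact half_list v i

theorem norm_list : ∀ v : V4, v ≠ 0 → sqNorm (vl (zl v)) = 64 := by decide +kernel
theorem dotu_list : ∀ v : V4, v ≠ 0 → dotInt (vl (zl v)) (vl u0L) = 32 := by decide +kernel
theorem dotv_list : ∀ v : V4, dotInt (vl (zl v)) (vl v0L) = 0 := by decide +kernel

def hl (v w : V4) : List ℤ := (List.range 24).map fun i => ((zl v).getD i 0 + (zl w).getD i 0 - (zl (v + w)).getD i 0) / 2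

theorem hl_ok : ∀ v w : V4, okL (hl v w) (ca (hl v w)) = true := by decide +kernel
theorem hl_half : ∀ v w : V4, ∀ i, vl (zl v) i + vl (zl w) i - vl (zl (v + w)) i = vl (hl v w) i + vl (hl v w) i := by decide +kernel

theorem zV_add (v w : V4) : dbl (zV v + zV w) (zV (v + w)) := by
  refine ⟨⟨vl (hl v w), mem_of_okL (hl_ok v w)⟩, ?_⟩
  apply Subtype.ext
  funext i
  exact hl_half v w i

end Cfsg.Agent.Lib.McLCen
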