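import Cfsg.Agent.Lib.McLCen3
import Cfsg.Agent.Lib.LeechCen6
import Cfsg.Agent.Lib.MathieuFix
import Cfsg.Agent.Lib.LeechOutH2

/-!
The homomorphism from the centraliser of an involution of McLaughlin's group to `GL(4, 2)` and its kernel.
-/

set_option autoImplicit false
set_option maxHeartbeats 400000

namespace Cfsg.Agent.Lib.McLCen

open Cfsg Cfsg.Agent.Lib.Golay Cfsg.Agent.Lib.LeechMin Cfsg.Agent.Lib.GolayCoset Cfsg.Agent.Lib.LeechXi
  Cfsg.Agent.Lib.LeechTrans Cfsg.Agent.Lib.LeechCo2 Cfsg.Agent.Lib.LeechFrame Cfsg.Agent.Lib.LeechCount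
  Cfsg.Agent.Lib.LeechOrder Cfsg.Agent.Lib.LeechMod Cfsg.Agent.Lib.LeechQuot Cfsg.Agent.Lib.LeechChain
  Cfsg.Agent.Lib.LeechSyl
open Subgroup
open scoped Pointwise Matrix

/-- the centraliser -/
def CM : Subgroup Co0 := fixL [v0, u0] ⊓ centralizer {tt}

theorem mem_CM {g : Co0} : g ∈ CM ↔ (g • v0 = v0 ∧ g • u0 = u0) ∧ g * tt = tt * g := by
  rw [CM, Subgroup.mem_inf, mem_fix2, Subgroup.mem_centralizer_singleton_iff]

theorem zl_inj : ∀ v w : V4, (∀ i, vl (zl v) i = vl (zl w) i) → v = w := by decide +kernel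

theorem zV_inj {v w : V4} (h : zV v = zV w) : v = w :=
  zl_inj v w fun i => congrFun (congrArg (fun x : leechLattice => (x : GolayPt → ℤ)) h) i

theorem not_dbl {v : V4} (hv : v ≠ 0) : ¬ dbl (zV v) 0 := by
  rintro ⟨z, hz⟩
  rw [sub_zero] at hz
  have h1 : sqNorm (zV v : GolayPt → ℤ) = 64 := norm_list v hv
  have h2 : (zV v : GolayPt → ℤ) = (z : GolayPt → ℤ) + (z : GolayPt → ℤ) :=
    congrArg (fun x : leechLattice => (x : GolayPt → ℤ)) hz
  rw [h2, norm_double] at h1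
  have h3 : (z : GolayPt → ℤ) ≠ 0 := by
    intro h
    rw [h] at h1
    have : sqNorm (0 : GolayPt → ℤ) = 0 := by
      unfold sqNorm
      exact Finset.sum_eq_zero fun i _ => by rw [Pi.zero_apply]; norm_num
    rw [this] at h1
    norm_num at h1
  have h4 := min_norm z.2 h3
  linarith

theorem eq_of_dbl {v w : V4} (h : dbl (zV v) (zV w)) : v = w := by
  by_contra hne
  have h1 : v + w ≠ 0 := by
    intro h2
    apply hne
    have : v + w + w = 0 + w := by rw [h2]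
    rw [add_assoc, CharTwo.add_self_eq_zero, add_zero, zero_add] at this
    exact this
  apply not_dbl h1
  obtain ⟨a, ha⟩ := zV_add v w
  obtain ⟨b, hb⟩ := h
  refine ⟨b + zV w - a, ?_⟩
  have e1 : zV (v + w) = zV v + zV w - (a + a) := by rw [← ha]; abel
  have e2 : zV v = b + b + zV w := by rw [← hb]; abel
  rw [e1, e2]
  abel

theorem CM_img {g : Co0} (hg : g ∈ CM) (v : V4) : ∃ w, g • zV v = zV w := by
  by_cases hv : v = 0
  · exact ⟨0, by rw [hv, zV_zero, smul_zero']⟩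
  obtain ⟨⟨h1, h2⟩, h3⟩ := mem_CM.1 hg
  have h4 : g • zV v = g • xV v + tt • (g • xV v) := by
    rw [← zV_half, smul_add', ← mul_smul, h3, mul_smul]
  have e1 := dot_smul g (zV v) u0
  have e2 := dot_smul g (zV v) v0
  rw [h2] at e1
  rw [h1] at e2
  obtain ⟨w, -, hw⟩ := classify (x := g • xV v) (by rw [← h4, sqNorm_smul]; exact norm_list v hv)
    (by rw [← h4, e1]; exact dotu_list v hv)
    (by rw [← h4, e2]; exact dotv_list v)
  exact ⟨w, by rw [h4, hw]⟩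

noncomputable def pm (g : CM) (v : V4) : V4 := (CM_img g.2 v).choose

theorem pm_spec (g : CM) (v : V4) : (g : Co0) • zV v = zV (pm g v) := (CM_img g.2 v).choose_spec

theorem pm_add (g : CM) (v w : V4) : pm g (v + w) = pm g v + pm g w := by
  apply eq_of_dbl
  rw [← pm_spec]
  obtain ⟨a, ha⟩ := zV_add v w
  obtain ⟨b, hb⟩ := zV_add (pm g v) (pm g w)
  refine ⟨b - (g : Co0) • a, ?_⟩
  have e1 : zV (v + w) = zV v + zV w - (a + a) := by rw [← ha]; abel
  have e2 : zV (pm g v + pm g w) = zV (pm g v) + zV (pm g w) - (b + b) := by rw [← hb]; abel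
  rw [e1, e2, smul_sub', smul_add', smul_add', pm_spec, pm_spec]
  abel

theorem pm_zero (g : CM) : pm g 0 = 0 := by
  have := pm_add g 0 0
  rw [add_zero, CharTwo.add_self_eq_zero] at this
  exact this

noncomputable def pmL (g : CM) : V4 →ₗ[ZMod 2] V4 :=
  AddMonoidHom.toZModLinearMap 2 { toFun := pm g, map_zero' := pm_zero g, map_add' := pm_add g }

theorem pmL_apply (g : CM) (v : V4) : pmL g v = pm g v := rfl

noncomputable def rhoE : CM →* Module.End (ZMod 2) V4 where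
  toFun := pmL
  map_one' := by
    apply LinearMap.ext
    intro v
    apply zV_inj
    rw [pmL_apply, ← pm_spec]
    exact one_smul _ _
  map_mul' g h := by
    apply LinearMap.ext
    intro v
    apply zV_inj
    rw [pmL_apply, ← pm_spec]
    show (((g : Co0) * (h : Co0)) • zV v) = zV (pm g (pm h v))
    rw [← pm_spec, ← pm_spec, mul_smul]

noncomputable def rhoG : CM →* Matrix.GeneralLinearGroup (Fin 4) (ZMod 2) :=
  (Matrix.GeneralLinearGroup.toLin (n := Fin 4) (R := ZMod 2)).symm.toMonoidHom.comp rhoE.toHomUnits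

theorem rhoG_spec (g : CM) (v : V4) :
    ((rhoG g : Matrix.GeneralLinearGroup (Fin 4) (ZMod 2)) : Matrix (Fin 4) (Fin 4) (ZMod 2)) *ᵥ v = pm g v := by
  have h1 : Matrix.GeneralLinearGroup.toLin (rhoG g) = rhoE.toHomUnits g := by
    unfold rhoG
    rw [MonoidHom.comp_apply]
    exact MulEquiv.apply_symm_apply _ _
  have h2 : ((Matrix.GeneralLinearGroup.toLin (rhoG g) : LinearMap.GeneralLinearGroup (ZMod 2) V4) : V4 →ₗ[ZMod 2] V4) = pmL g := by
    rw [h1]; rfl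
  rw [← pmL_apply, ← h2]
  rfl

theorem rhoG_ker {g : CM} (h : rhoG g = 1) (v : V4) : (g : Co0) • zV v = zV v := by
  rw [pm_spec, ← rhoG_spec, h]
  simp

/-! ### the kernel -/

def cf : List (List ℤ) :=
  [[0, 0, 0, 0, 0, 0, 0, 0, 0, 0, 0, 0, 0, 0, 0, 0, 0],
  [0, 0, 0, 0, 0, 0, 0, 0, 0, 0, 0, 0, 0, 0, 0, 0, 0],
  [0, 0, 0, 0, 0, 0, 0, 0, 0, 0, 0, 0, 0, 0, 0, 0, 0],
  [0, 0, 0, 0, 0, 0, 0, 0, 0, 0, 0, 0, 0, 0, 0, 0, 0],
  [0, 0, 0, 0, 0, 0, 0, 0, 8, -8, 0, 0, 0, 0, 0, 0, 0],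
  [0, 0, 0, 0, 0, 0, 0, 0, 0, 0, 0, 0, 0, 0, 0, 0, 0],
  [0, 0, 0, 0, 0, 0, 0, 0, 0, 0, 0, 0, 0, 0, 8, -8, 0],
  [0, 0, 0, 0, 0, 0, 0, 0, 0, 0, 0, 0, -8, 8, 0, 0, 0],
  [0, 0, 0, 0, 8, -8, 0, 0, 0, 0, 0, 0, 0, 0, 0, 0, 0],
  [0, 7, -1, -1, -1, -1, -1, -1, -1, -1, -1, -1, -1, -1, -1, -1, 4],
  [0, -1, 7, 7, -1, -1, -1, -1, -1, -1, -1, -1, -1, -1, -1, -1, 4],
  [0, -1, -1, -1, 7, 7, -1, -1, -1, -1, -1, -1, -1, -1, -1, -1, 4],
  [0, -1, -1, -1, -1, -1, 7, 7, -1, -1, -1, -1, -1, -1, -1, -1, 4],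
  [0, -1, -1, -1, -1, -1, -1, -1, 7, 7, -1, -1, -1, -1, -1, -1, 4],
  [0, 0, 0, 0, 0, 0, 0, 0, 0, 0, 0, 0, 0, 0, 0, 0, 0],
  [0, 8, 0, 0, 0, 0, 0, 0, 0, 0, 0, 0, 0, 0, 0, 0, 0],
  [0, -1, -1, -1, -1, -1, -1, -1, -1, -1, 7, 7, -1, -1, -1, -1, 4],
  [0, 0, 0, 0, 0, 0, 0, 0, 0, 0, 0, 0, 0, 0, 0, 0, 0],
  [0, 0, 0, 0, 0, 0, -8, 8, 0, 0, 0, 0, 0, 0, 0, 0, 0],
  [0, -1, -1, -1, -1, -1, -1, -1, -1, -1, -1, -1, -1, -1, 7, 7, 4],
  [0, 0, 8, -8, 0, 0, 0, 0, 0, 0, 0, 0, 0, 0, 0, 0, 0],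
  [0, -1, -1, -1, -1, -1, -1, -1, -1, -1, -1, -1, 7, 7, -1, -1, 4],
  [0, 0, 0, 0, 0, 0, 0, 0, 0, 0, -8, 8, 0, 0, 0, 0, 0],
  [0, 0, 0, 0, 0, 0, 0, 0, 0, 0, 0, 0, 0, 0, 0, 0, 0]]

theorem cf_ok : ∀ i, i ∉ oc → ∀ j, 8 * vl (el (ix i)) j =
    ∑ v : V4, (cf.getD (ix i) []).getD (num4 v) 0 * vl (zl v) j + (cf.getD (ix i) []).getD 16 0 * vl v0L j := by decide +kernel

/-- the fixed vectors of an element -/
def FixS (g : Co0) : AddSubgroup leechLattice where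
  carrier := {x | g • x = x}
  zero_mem' := smul_zero' g
  add_mem' := fun {x y} hx hy => by
    show g • (x + y) = x + y
    rw [smul_add']
    exact congrArg₂ _ hx hy
  neg_mem' := fun {x} hx => by
    show g • (-x) = -x
    rw [smul_neg']
    exact congrArg _ hx

theorem mem_FixS {g : Co0} {x : leechLattice} : x ∈ FixS g ↔ g • x = x := Iff.rfl

theorem smul_zsmul (g : Co0) (n : ℤ) (x : leechLattice) : g • (n • x) = n • (g • x) := by
  have h : g • (n • x) = (⟨⟨fun y => g • y, smul_zero' g⟩, smul_add' g⟩ : leechLattice →+ leechLattice) (n • x) := rfl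
  rw [h, map_zsmul]
  rfl

theorem fix_ef_off {g : Co0} (h0 : g • v0 = v0) (h : ∀ v, g • zV v = zV v) {i : GolayPt} (hi : i ∉ oc) : g • ef i = ef i := by
  have h1 : (8 : ℤ) • ef i = (∑ v : V4, (cf.getD (ix i) []).getD (num4 v) 0 • zV v) + (cf.getD (ix i) []).getD 16 0 • v0 := by
    apply Subtype.ext
    rw [AddSubgroup.coe_zsmul, AddSubgroup.coe_add, AddSubgroup.coe_zsmul, AddSubgroup.val_finset_sum]
    funext j
    have h2 := cf_ok i hi j
    rw [← ef_vl] at h2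
    rw [Pi.smul_apply, Pi.add_apply, Pi.smul_apply, Finset.sum_apply, zsmul_eq_mul, zsmul_eq_mul]
    rw [v0_coe]
    simp only [AddSubgroup.coe_zsmul, Pi.smul_apply, zsmul_eq_mul, zV_coe, Int.cast_id]
    exact h2
  have h3 : (8 : ℤ) • ef i ∈ FixS g := by
    rw [h1]
    exact (FixS g).add_mem ((FixS g).sum_mem fun v _ => (FixS g).zsmul_mem (h v) _) ((FixS g).zsmul_mem h0 _)
  rw [mem_FixS, smul_zsmul] at h3
  have h4 := congrArg (fun x : leechLattice => (x : GolayPt → ℤ)) h3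
  apply Subtype.ext
  funext j
  have h5 := congrFun h4 j
  simp only [AddSubgroup.coe_zsmul, Pi.smul_apply, zsmul_eq_mul, Int.cast_ofNat] at h5
  exact mul_left_cancel₀ (by norm_num) h5

theorem card_off : (ocᶜ : Finset GolayPt).card = 16 := by decide +kernel

/-- elements fixing the sixteen frame vectors off the octad -/
theorem ker_cases {g : Co0} (h : ∀ i, i ∉ oc → g • ef i = ef i) : g = 1 ∨ g = tt := by
  obtain ⟨σ, hσ, c, hc, hm⟩ := mono_of_ef (h (some 4) four_notin)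
  have h1 : ∀ i, i ∉ oc → σ i = i ∧ i ∉ c := by
    intro i hi
    have h2 := hm (ef i)
    rw [h i hi, coe_ef, signedPerm_single] at h2
    have h3 : σ i = i := by
      by_contra hne
      have h4 := congrFun h2 i
      rw [Pi.single_eq_same, Pi.single_eq_of_ne (Ne.symm hne)] at h4
      norm_num at h4
    refine ⟨h3, fun hic => ?_⟩
    have h4 := congrFun h2 i
    rw [h3, Pi.single_eq_same, Pi.single_eq_same, if_pos hic] at h4
    norm_num at h4
  have h2 : σ = 1 := by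
    apply MathieuFix.eq_one_of_nine hσ
    have h3 : (ocᶜ : Finset GolayPt) ⊆ GolayFix.Fix σ := fun i hi => GolayFix.mem_Fix.2 (h1 i (Finset.mem_compl.1 hi)).1
    have h4 := Finset.card_le_card h3
    rw [card_off] at h4
    omega
  have h3 : c ⊆ oc := fun i hi => by
    by_contra h4
    exact (h1 i h4).2 hi
  have h5 : g = eps c hc := by
    apply ext_smul
    intro v
    apply Subtype.ext
    rw [hm, h2]
    funext i
    rw [signedPerm_apply, eps_apply]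
    show (1 - 2 * chi c i) * (v : GolayPt → ℤ) i = _
    rcases chi_cases c i with ⟨e3, e⟩ | ⟨e3, e⟩
    · rw [e, if_pos e3]; ring
    · rw [e, if_neg e3]; ring
  rcases sub_oc hc h3 with h6 | h6
  · left
    rw [h5, eps_congr hc GolayCoset.empty_mem h6, eps_empty]
  · right
    rw [h5]
    exact eps_congr hc oc_mem h6

theorem CM_ker {g : CM} (h : rhoG g = 1) : (g : Co0) = 1 ∨ (g : Co0) = tt :=
  ker_cases fun _ hi => fix_ef_off (mem_CM.1 g.2).1.1 (rhoG_ker h) hi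

end Cfsg.Agent.Lib.McLCen
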