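import Mathlib
import Cfsg.Prelude.Def_OddOrderLocal
import Cfsg.Agent.Lib.SectRank
import Cfsg.Agent.Lib.MaximalClass
import Cfsg.Agent.Lib.UniqueInvolution

/-!
# Metacyclic 2-groups (helper73)

A finite 2-group of sectional rank at most 2 is metacyclic.
-/

set_option autoImplicit false

namespace Cfsg.Agent.Lib.MetaTwo

open Subgroup Cfsg Cfsg.Agent.Lib Cfsg.Agent.Lib.SectRank Cfsg.Agent.Lib.SubgroupTools

universe u

theorem isCyclic_quotient {S : Type*} [Group S] (N : Subgroup S) [N.Normal] (y : S) (h : N ⊔ zpowers y = ⊤) :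
    IsCyclic (S ⧸ N) := by
  refine ⟨⟨(QuotientGroup.mk y : S ⧸ N), ?_⟩⟩
  intro g
  induction g using QuotientGroup.induction_on with
  | H g =>
    have hg : g ∈ N ⊔ zpowers y := by rw [h]; trivial
    obtain ⟨n, hn, w, ⟨i, rfl⟩, rfl⟩ := (mem_sup_of_le_normalizer (by rw [normalizer_eq_top]; exact le_top)).1 hg
    refine ⟨i, ?_⟩
    simp only
    rw [QuotientGroup.mk_mul, (QuotientGroup.eq_one_iff n).2 hn, one_mul, QuotientGroup.mk_zpow]

theorem rankIn_quotient {G : Type*} [Group G] {p k : ℕ} (h : RankIn p k (⊤ : Subgroup G)) (N : Subgroup G) [N.Normal] :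
    RankIn p k (⊤ : Subgroup (G ⧸ N)) := by
  intro A B h1 _ h3 h4
  have := h (A.comap (QuotientGroup.mk' N)) (B.comap (QuotientGroup.mk' N)) (Subgroup.comap_mono h1) le_top
    (fun x hx => by rw [mem_comap, map_pow]; exact h3 _ hx)
    (fun x hx y hy => by
      rw [mem_comap, map_mul, map_mul, map_mul, map_inv, map_inv]; exact h4 _ hx _ hy)
  rwa [Subgroup.relIndex_comap, Subgroup.map_comap_eq_self_of_surjective (QuotientGroup.mk'_surjective N)] at this

/-- two generators -/
theorem exists_two_gen {S : Type*} [Group S] [Finite S] (h2 : IsPGroup 2 S) (hr : RankIn 2 2 (⊤ : Subgroup S)) :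
    ∃ a b : S, zpowers a ⊔ zpowers b = ⊤ := by
  have : Fact (Nat.Prime 2) := ⟨Nat.prime_two⟩
  have hle : (frattini S).relIndex ⊤ ≤ 4 := by
    have := hr (frattini S) ⊤ le_top le_top (fun x _ => H70Frattini.pow_mem_frattini h2 x)
      (fun x _ y _ => H70Frattini.commutator_le_frattini h2
        (Subgroup.commutator_mem_commutator (mem_top x) (mem_top y)))
    simpa using this
  rw [Subgroup.relIndex_top_right] at hle
  by_cases hsub : frattini S = ⊤
  · refine ⟨1, 1, ?_⟩
    rw [eq_top_iff]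
    have : (⊥ : Subgroup S) = ⊤ := frattini_nongenerating (by rw [hsub]; simp)
    rw [← this]; exact bot_le
  obtain ⟨a, ha⟩ : ∃ a, a ∉ frattini S := by
    by_contra h
    push Not at h
    exact hsub ((eq_top_iff' _).2 h)
  have hlt : frattini S < frattini S ⊔ zpowers a :=
    lt_of_le_of_ne le_sup_left (fun h => ha (by rw [h]; exact mem_sup_right (mem_zpowers a)))
  have hmul : (frattini S).relIndex (frattini S ⊔ zpowers a) * (frattini S ⊔ zpowers a).index = (frattini S).index :=
    Subgroup.relIndex_mul_index le_sup_left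
  have h1 : (frattini S).relIndex (frattini S ⊔ zpowers a) ≠ 1 := by
    intro h
    rw [Subgroup.relIndex_eq_one] at h
    exact absurd hlt (not_lt_of_ge h)
  have h0 : (frattini S).relIndex (frattini S ⊔ zpowers a) ≠ 0 := Subgroup.FiniteIndex.index_ne_zero
  by_cases htop : frattini S ⊔ zpowers a = ⊤
  · refine ⟨a, 1, ?_⟩
    have := frattini_nongenerating (K := zpowers a) (by rw [sup_comm]; exact htop)
    rw [this]; simp
  obtain ⟨b, hb⟩ : ∃ b, b ∉ frattini S ⊔ zpowers a := by
    by_contra h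
    push Not at h
    exact htop ((eq_top_iff' _).2 h)
  have hidx : (frattini S ⊔ zpowers a).index ≤ 2 := by
    by_contra hgt
    push Not at hgt
    have : 2 ≤ (frattini S).relIndex (frattini S ⊔ zpowers a) := by omega
    nlinarith
  have hidx2 : (frattini S ⊔ zpowers a).index = 2 := by
    have h3 : (frattini S ⊔ zpowers a).index ≠ 0 := Subgroup.FiniteIndex.index_ne_zero
    have h4 : (frattini S ⊔ zpowers a).index ≠ 1 := by
      intro h; exact htop (Subgroup.index_eq_one.1 h)
    omega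
  refine ⟨a, b, frattini_nongenerating ?_⟩
  have hle2 : frattini S ⊔ zpowers a ≤ zpowers a ⊔ zpowers b ⊔ frattini S :=
    sup_le le_sup_right (le_sup_left.trans le_sup_left)
  rw [← Subgroup.index_eq_one]
  have h5 : (zpowers a ⊔ zpowers b ⊔ frattini S).index ∣ 2 := by
    rw [← hidx2]; exact Subgroup.index_dvd_of_le hle2
  rcases (Nat.dvd_prime Nat.prime_two).1 h5 with h6 | h6
  · exact h6
  · exfalso
    have h7 : (frattini S ⊔ zpowers a) = zpowers a ⊔ zpowers b ⊔ frattini S := by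
      apply Subgroup.eq_of_le_of_card_ge hle2
      have e1 := Subgroup.card_mul_index (frattini S ⊔ zpowers a)
      have e2 := Subgroup.card_mul_index (zpowers a ⊔ zpowers b ⊔ frattini S)
      rw [hidx2] at e1
      rw [h6] at e2
      omega
    apply hb
    rw [h7]
    exact mem_sup_left (mem_sup_right (mem_zpowers b))

/-- an abelian `2`-group with two generators is a direct product of two cyclic groups -/
theorem decomp {A : Type*} [CommGroup A] [Finite A] {p : ℕ} [hp : Fact p.Prime] (hA : IsPGroup p A) {a b : A}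
    (h : zpowers a ⊔ zpowers b = ⊤) : ∃ x y : A, zpowers x ⊔ zpowers y = ⊤ ∧ zpowers x ⊓ zpowers y = ⊥ := by
  -- an element of maximal order
  obtain ⟨x, hx⟩ := Finite.exists_max (fun g : A => orderOf g)
  have hexp : ∀ g : A, orderOf g ∣ orderOf x := by
    intro g
    obtain ⟨i, hi⟩ := (IsPGroup.iff_orderOf.1 hA) g
    obtain ⟨j, hj⟩ := (IsPGroup.iff_orderOf.1 hA) x
    rw [hi, hj]
    apply pow_dvd_pow
    have := hx g
    rw [hi, hj] at this
    exact (Nat.pow_le_pow_iff_right hp.out.one_lt).1 this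
  -- a complementing generator
  obtain ⟨y, hy⟩ : ∃ y : A, zpowers x ⊔ zpowers y = ⊤ := by
    by_cases hx1 : x = 1
    · refine ⟨1, ?_⟩
      rw [eq_top_iff]
      intro g _
      have h1 := hexp g
      rw [hx1, orderOf_one, Nat.dvd_one, orderOf_eq_one_iff] at h1
      rw [h1]; exact one_mem _
    have hxg : x ∈ zpowers a ⊔ zpowers b := by rw [h]; trivial
    rw [Subgroup.mem_sup] at hxg
    obtain ⟨_, ⟨i, rfl⟩, _, ⟨j, rfl⟩, hij⟩ := hxg
    simp only at hij
    have key : ∀ (c d : A) (i j : ℤ), c ^ i * d ^ j = x → ¬ (p : ℤ) ∣ i → zpowers c ⊔ zpowers d = ⊤ →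
        zpowers x ⊔ zpowers d = ⊤ := by
      intro c d i j hij hi hcd
      rw [eq_top_iff, ← hcd, sup_le_iff, zpowers_le]
      refine ⟨?_, le_sup_right⟩
      have h1 : c ^ i ∈ zpowers x ⊔ zpowers d := by
        have e : c ^ i = x * (d ^ j)⁻¹ := by rw [← hij]; group
        rw [e]
        exact mul_mem (mem_sup_left (mem_zpowers x)) (mem_sup_right (inv_mem (zpow_mem (mem_zpowers d) j)))
      obtain ⟨k, hk⟩ := (IsPGroup.iff_orderOf.1 hA) c
      have hcop : IsCoprime i ((p : ℤ) ^ k) := by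
        apply IsCoprime.pow_right
        rw [isCoprime_comm]
        exact (Prime.coprime_iff_not_dvd (Nat.prime_iff_prime_int.1 hp.out)).2 hi
      obtain ⟨u, v, huv⟩ := hcop
      have e : c = (c ^ i) ^ u := by
        have h2 : c ^ ((p : ℤ) ^ k) = 1 := by
          rw [← Nat.cast_pow, zpow_natCast, ← hk, pow_orderOf_eq_one]
        calc c = c ^ (u * i + v * (p : ℤ) ^ k) := by rw [huv, zpow_one]
          _ = (c ^ i) ^ u * (c ^ ((p : ℤ) ^ k)) ^ v := by
              rw [zpow_add, ← zpow_mul, ← zpow_mul, mul_comm u i, mul_comm v]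
          _ = (c ^ i) ^ u := by rw [h2, one_zpow, mul_one]
      rw [e]
      exact zpow_mem h1 u
    by_cases hi : (p : ℤ) ∣ i
    · by_cases hj : (p : ℤ) ∣ j
      · exfalso
        obtain ⟨i', rfl⟩ := hi
        obtain ⟨j', rfl⟩ := hj
        have h1 : (a ^ i' * b ^ j') ^ p = x := by
          rw [mul_pow, ← hij, ← zpow_natCast, ← zpow_natCast, ← zpow_mul, ← zpow_mul, mul_comm i', mul_comm j']
        have h2 := hexp (a ^ i' * b ^ j')
        obtain ⟨k, hk⟩ := (IsPGroup.iff_orderOf.1 hA) (a ^ i' * b ^ j')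
        have h3 : k ≠ 0 := by
          rintro rfl
          rw [pow_zero, orderOf_eq_one_iff] at hk
          rw [hk, one_pow] at h1
          exact hx1 h1.symm
        have h4 : orderOf x = orderOf (a ^ i' * b ^ j') / p := by
          rw [← h1, orderOf_pow_of_dvd hp.out.ne_zero (by rw [hk]; exact dvd_pow_self p h3)]
        have h5 : orderOf (a ^ i' * b ^ j') / p < orderOf (a ^ i' * b ^ j') :=
          Nat.div_lt_self (orderOf_pos _) hp.out.one_lt
        have h6 := hx (a ^ i' * b ^ j')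
        omega
      · exact ⟨a, key b a j i (by rw [mul_comm]; exact hij) hj (by rw [sup_comm]; exact h)⟩
    · exact ⟨b, key a b i j hij hi h⟩
  -- adjust y
  have hQ : IsPGroup p (A ⧸ zpowers x) := hA.to_quotient _
  obtain ⟨n, hn⟩ := (IsPGroup.iff_orderOf.1 hQ) (QuotientGroup.mk y)
  have h1 : y ^ (p ^ n) ∈ zpowers x := by
    rw [← QuotientGroup.eq_one_iff, QuotientGroup.mk_pow, ← hn, pow_orderOf_eq_one]
  obtain ⟨i, hi⟩ := h1
  simp only at hi
  obtain ⟨m, hm⟩ := (IsPGroup.iff_orderOf.1 hA) x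
  have hnm : n ≤ m := by
    have h2 : p ^ n ∣ p ^ m := by
      rw [← hn, ← hm]
      exact (orderOf_map_dvd (QuotientGroup.mk' (zpowers x)) y).trans (hexp y)
    exact (Nat.pow_dvd_pow_iff_le_right hp.out.one_lt).1 h2
  have h2 : (p : ℤ) ^ n ∣ i := by
    have h3 : x ^ (i * (p : ℤ) ^ (m - n)) = 1 := by
      rw [zpow_mul, hi, ← Nat.cast_pow, zpow_natCast, ← pow_mul, ← pow_add]
      have : n + (m - n) = m := by omega
      rw [this]
      exact orderOf_dvd_iff_pow_eq_one.1 (by rw [← hm]; exact hexp y)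
    rw [← orderOf_dvd_iff_zpow_eq_one, hm] at h3
    have h4 : ((p ^ m : ℕ) : ℤ) = (p : ℤ) ^ n * (p : ℤ) ^ (m - n) := by
      rw [← pow_add]
      have : n + (m - n) = m := by omega
      rw [this]; push_cast; rfl
    rw [h4] at h3
    exact Int.dvd_of_mul_dvd_mul_right (by
      have := hp.out.pos
      positivity) h3
  obtain ⟨i', rfl⟩ := h2
  refine ⟨x, y * (x ^ i')⁻¹, ?_, ?_⟩
  · rw [eq_top_iff, ← hy, sup_le_iff, zpowers_le (g := y)]
    refine ⟨le_sup_left, ?_⟩
    have h5 : (y * (x ^ i')⁻¹) * x ^ i' ∈ zpowers x ⊔ zpowers (y * (x ^ i')⁻¹) :=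
      mul_mem (mem_sup_right (mem_zpowers _)) (mem_sup_left (zpow_mem (mem_zpowers x) _))
    rwa [inv_mul_cancel_right] at h5
  · rw [eq_bot_iff]
    rintro g hg
    obtain ⟨hg1, ⟨j, hj⟩⟩ := Subgroup.mem_inf.1 hg
    simp only at hj
    have hyp : (y * (x ^ i')⁻¹) ^ (p ^ n) = 1 := by
      rw [mul_pow, ← hi, inv_pow, ← zpow_natCast (x ^ i'), ← zpow_mul, mul_comm i']
      push_cast
      rw [mul_inv_cancel]
    have h3 : ((p ^ n : ℕ) : ℤ) ∣ j := by
      rw [← hn, orderOf_dvd_iff_zpow_eq_one, ← QuotientGroup.mk_zpow, QuotientGroup.eq_one_iff]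
      have e : y ^ j = g * (x ^ i') ^ j := by
        rw [← hj, mul_zpow, inv_zpow]; group
      rw [e]
      exact mul_mem hg1 (zpow_mem (zpow_mem (mem_zpowers x) _) _)
    obtain ⟨j', rfl⟩ := h3
    rw [mem_bot, ← hj, zpow_mul, zpow_natCast, hyp, one_zpow]

theorem metacyclic_of_zpowers {S : Type*} [Group S] {x y : S} (hxy : zpowers x ⊔ zpowers y = ⊤)
    (hc : _root_.commutator S ≤ zpowers x) : IsMetacyclic S := by
  have hn : (zpowers x).Normal := Subgroup.Normal.of_commutator_le _ hc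
  exact ⟨zpowers x, hn, inferInstance, isCyclic_quotient _ y hxy⟩

theorem zpowers_of_order_two {S : Type*} [Group S] {u : S} (hu : u * u = 1) : ∀ g ∈ zpowers u, g = 1 ∨ g = u := by
  rintro _ ⟨i, rfl⟩
  rcases Int.even_or_odd' i with ⟨k, hk | hk⟩
  · left
    simp only
    rw [hk, zpow_mul]
    have : u ^ (2 : ℤ) = 1 := by rw [zpow_two]; exact hu
    rw [this, one_zpow]
  · right
    simp only
    rw [hk, zpow_add, zpow_mul]
    have : u ^ (2 : ℤ) = 1 := by rw [zpow_two]; exact hu
    rw [this, one_zpow, one_mul, zpow_one]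

theorem elem_zpowers {S : Type*} [Group S] {u : S} (hu : u * u = 1) : Elem 2 (⊥ : Subgroup S) (zpowers u) := by
  refine ⟨bot_le, ?_, ?_⟩
  · intro g hg
    rcases zpowers_of_order_two hu g hg with rfl | rfl
    · simp
    · rw [sq, hu]; exact one_mem _
  · intro g hg h hh
    rcases zpowers_of_order_two hu g hg with rfl | rfl <;> rcases zpowers_of_order_two hu h hh with rfl | rfl <;>
      simp

/-- three independent commuting involutions contradict rank 2 -/
theorem no_three {S : Type*} [Group S] [Finite S] (hr : RankIn 2 2 (⊤ : Subgroup S)) {u v z : S}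
    (hu : u * u = 1) (hv : v * v = 1) (hz : z * z = 1) (huv : u * v = v * u) (huz : u * z = z * u)
    (hvz : v * z = z * v) (hu1 : u ≠ 1) (hv1 : v ≠ 1) (hz1 : z ≠ 1) (h1 : u ≠ v) (h2 : z ≠ u) (h3 : z ≠ v)
    (h4 : z ≠ u * v) : False := by
  have hc1 : ∀ a ∈ zpowers u, ∀ b ∈ zpowers v, a * b = b * a := by
    intro a ha b hb
    rcases zpowers_of_order_two hu a ha with rfl | rfl <;> rcases zpowers_of_order_two hv b hb with rfl | rfl <;>
      simp [huv]
  have hi1 : zpowers u ⊓ zpowers v = ⊥ := by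
    rw [eq_bot_iff]
    intro g hg
    obtain ⟨hg1, hg2⟩ := Subgroup.mem_inf.1 hg
    rcases zpowers_of_order_two hu g hg1 with rfl | rfl
    · exact one_mem _
    · rcases zpowers_of_order_two hv g hg2 with rfl | rfl
      · exact absurd rfl hu1
      · exact absurd rfl h1
  obtain ⟨e1, r1⟩ := (elem_zpowers hu).sup (elem_zpowers hv) hc1 hi1
  have hn := le_normalizer_of_commute hc1
  have hmem : ∀ g ∈ zpowers u ⊔ zpowers v, g = 1 ∨ g = u ∨ g = v ∨ g = u * v := by
    intro g hg
    obtain ⟨a, ha, b, hb, rfl⟩ := (mem_sup_of_le_normalizer hn).1 hg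
    rcases zpowers_of_order_two hu a ha with rfl | rfl <;> rcases zpowers_of_order_two hv b hb with rfl | rfl <;>
      simp
  have hc2 : ∀ a ∈ zpowers u ⊔ zpowers v, ∀ b ∈ zpowers z, a * b = b * a := by
    intro a ha b hb
    have huvz : u * v * z = z * (u * v) := by
      calc u * v * z = u * (v * z) := by group
        _ = u * z * v := by rw [hvz]; group
        _ = z * (u * v) := by rw [huz]; group
    rcases zpowers_of_order_two hz b hb with rfl | rfl
    · simp
    · rcases hmem a ha with rfl | rfl | rfl | rfl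
      · simp
      · exact huz
      · exact hvz
      · exact huvz
  have hi2 : (zpowers u ⊔ zpowers v) ⊓ zpowers z = ⊥ := by
    rw [eq_bot_iff]
    intro g hg
    obtain ⟨hg1, hg2⟩ := Subgroup.mem_inf.1 hg
    rcases zpowers_of_order_two hz g hg2 with rfl | rfl
    · exact one_mem _
    · rcases hmem g hg1 with h | h | h | h
      · exact absurd h hz1
      · exact absurd h h2
      · exact absurd h h3
      · exact absurd h h4
  obtain ⟨e2, r2⟩ := e1.sup (elem_zpowers hz) hc2 hi2
  have hle := hr.le e2 le_top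
  rw [r2, r1] at hle
  have ho : ∀ g : S, g * g = 1 → g ≠ 1 → (⊥ : Subgroup S).relIndex (zpowers g) = 2 := by
    intro g hg hg1
    rw [Subgroup.relIndex_bot_left, Nat.card_zpowers]
    apply orderOf_eq_prime
    · rw [sq, hg]
    · exact hg1
  rw [ho u hu hu1, ho v hv hv1, ho z hz hz1] at hle
  norm_num at hle

theorem case2_aux {S : Type*} [Group S] [Finite S] (hr : RankIn 2 2 (⊤ : Subgroup S))
    {z : S} (hzz : z * z = 1) (hz1 : z ≠ 1) (hzc : ∀ g, g * z = z * g) [hN : (zpowers z).Normal]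
    {x y : S} (hxy : x * y = z * (y * x)) {m n : ℕ} (hm : orderOf (QuotientGroup.mk x : S ⧸ zpowers z) = 2 ^ (m + 2))
    (hn : orderOf (QuotientGroup.mk y : S ⧸ zpowers z) = 2 ^ (n + 1)) (hx : x ^ (2 ^ (m + 2)) = 1)
    (hy : y ^ (2 ^ (n + 1)) = 1)
    (hinf : zpowers (QuotientGroup.mk x : S ⧸ zpowers z) ⊓ zpowers (QuotientGroup.mk y : S ⧸ zpowers z) = ⊥) : False := by
  have hx2y : x ^ 2 * y = y * x ^ 2 := by
    calc x ^ 2 * y = x * (x * y) := by rw [sq]; group
      _ = x * (z * (y * x)) := by rw [hxy]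
      _ = (x * z) * y * x := by group
      _ = z * (x * y) * x := by rw [hzc]; group
      _ = (z * z) * y * x * x := by rw [hxy]; group
      _ = y * x ^ 2 := by rw [hzz, sq]; group
  obtain ⟨u, hu⟩ : ∃ u, u = x ^ (2 ^ (m + 1)) := ⟨_, rfl⟩
  obtain ⟨v, hv⟩ : ∃ v, v = y ^ (2 ^ n) := ⟨_, rfl⟩
  have huu : u * u = 1 := by rw [hu, ← pow_add, ← hx]; congr 1; rw [pow_succ 2 (m + 1)]; ring
  have hvv : v * v = 1 := by rw [hv, ← pow_add, ← hy]; congr 1; rw [pow_succ 2 n]; ring
  have huy : Commute u y := by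
    have h1 : u = (x ^ 2) ^ (2 ^ m) := by rw [hu, ← pow_mul]; congr 1; rw [pow_succ']
    rw [h1]
    exact Commute.pow_left hx2y _
  have huv : u * v = v * u := by rw [hv]; exact (huy.pow_right _).eq
  have hub : (QuotientGroup.mk u : S ⧸ zpowers z) ≠ 1 := by
    rw [hu, QuotientGroup.mk_pow]
    intro h
    have h1 := orderOf_dvd_of_pow_eq_one h
    rw [hm] at h1
    have := (Nat.pow_dvd_pow_iff_le_right (by norm_num : 1 < 2)).1 h1
    omega
  have hvb : (QuotientGroup.mk v : S ⧸ zpowers z) ≠ 1 := by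
    rw [hv, QuotientGroup.mk_pow]
    intro h
    have h1 := orderOf_dvd_of_pow_eq_one h
    rw [hn] at h1
    have := (Nat.pow_dvd_pow_iff_le_right (by norm_num : 1 < 2)).1 h1
    omega
  have hux : (QuotientGroup.mk u : S ⧸ zpowers z) ∈ zpowers (QuotientGroup.mk x : S ⧸ zpowers z) := by
    rw [hu, QuotientGroup.mk_pow]; exact pow_mem (mem_zpowers _) _
  have hvy : (QuotientGroup.mk v : S ⧸ zpowers z) ∈ zpowers (QuotientGroup.mk y : S ⧸ zpowers z) := by
    rw [hv, QuotientGroup.mk_pow]; exact pow_mem (mem_zpowers _) _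
  have huvb : (QuotientGroup.mk u : S ⧸ zpowers z) ≠ QuotientGroup.mk v := by
    intro h
    apply hub
    have : (QuotientGroup.mk u : S ⧸ zpowers z) ∈ (⊥ : Subgroup (S ⧸ zpowers z)) := by
      rw [← hinf]; exact Subgroup.mem_inf.2 ⟨hux, by rw [h]; exact hvy⟩
    rwa [mem_bot] at this
  have hzb : (QuotientGroup.mk z : S ⧸ zpowers z) = 1 := (QuotientGroup.eq_one_iff z).2 (mem_zpowers z)
  refine no_three hr huu hvv hzz huv (hzc u) (hzc v) ?_ ?_ hz1 ?_ ?_ ?_ ?_
  · intro h; apply hub; rw [h]; rfl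
  · intro h; apply hvb; rw [h]; rfl
  · intro h; apply huvb; rw [h]
  · intro h; apply hub; rw [← h]; exact hzb
  · intro h; apply hvb; rw [← h]; exact hzb
  · intro h
    apply huvb
    have h1 : (QuotientGroup.mk (u * v) : S ⧸ zpowers z) = 1 := by rw [← h]; exact hzb
    rw [QuotientGroup.mk_mul, mul_eq_one_iff_eq_inv, ← QuotientGroup.mk_inv] at h1
    rw [h1, inv_eq_of_mul_eq_one_left hvv]

theorem case2 {S : Type*} [Group S] [Finite S] (h2 : IsPGroup 2 S) (hr : RankIn 2 2 (⊤ : Subgroup S))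
    {z : S} (hzz : z * z = 1) (hz1 : z ≠ 1) (hzc : ∀ g, g * z = z * g)
    (hc : _root_.commutator S ≤ zpowers z) (hna : ¬ ∀ a b : S, a * b = b * a) {a b : S}
    (hab : zpowers a ⊔ zpowers b = ⊤) : IsMetacyclic S := by
  have : Fact (Nat.Prime 2) := ⟨Nat.prime_two⟩
  have hN : (zpowers z).Normal := Subgroup.Normal.of_commutator_le _ hc
  have hcomm : ∀ g h : S ⧸ zpowers z, g * h = h * g := by
    have := Subgroup.Normal.quotient_commutative_iff_commutator_le.2 hc
    exact fun g h => this.is_comm.comm g h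
  let _ : CommGroup (S ⧸ zpowers z) := { (inferInstance : Group (S ⧸ zpowers z)) with mul_comm := hcomm }
  have hmk := QuotientGroup.mk'_surjective (zpowers z)
  obtain ⟨xb, yb, hxyb, hinf⟩ := decomp (A := S ⧸ zpowers z) (p := 2) (h2.to_quotient _)
    (a := QuotientGroup.mk' (zpowers z) a) (b := QuotientGroup.mk' (zpowers z) b) (by
      rw [← MonoidHom.map_zpowers, ← MonoidHom.map_zpowers, ← Subgroup.map_sup, hab, ← MonoidHom.range_eq_map]
      exact MonoidHom.range_eq_top.2 hmk)
  obtain ⟨x, rfl⟩ := hmk xb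
  obtain ⟨y, rfl⟩ := hmk yb
  have hzF : z ∈ frattini S := by
    have h1 : _root_.commutator S ≠ ⊥ := by
      intro h
      apply hna
      intro a b
      have : a * b * a⁻¹ * b⁻¹ ∈ _root_.commutator S := Subgroup.commutator_mem_commutator (mem_top a) (mem_top b)
      rw [h, mem_bot, mul_inv_eq_one, mul_inv_eq_iff_eq_mul] at this
      exact this
    obtain ⟨⟨g, hg⟩, hg1⟩ := Subgroup.ne_bot_iff_exists_ne_one.1 h1
    rcases zpowers_of_order_two hzz g (hc hg) with h | h
    · exact absurd (Subtype.ext h) hg1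
    · rw [← h]; exact H70Frattini.commutator_le_frattini h2 hg
  have hxy : zpowers x ⊔ zpowers y = ⊤ := by
    apply frattini_nongenerating
    rw [eq_top_iff]
    intro g _
    have h1 : (QuotientGroup.mk' (zpowers z)) g ∈ zpowers ((QuotientGroup.mk' (zpowers z)) x) ⊔ zpowers ((QuotientGroup.mk' (zpowers z)) y) := by
      rw [hxyb]; trivial
    rw [Subgroup.mem_sup] at h1
    obtain ⟨_, ⟨i, rfl⟩, _, ⟨j, rfl⟩, hij⟩ := h1
    simp only at hij
    rw [← map_zpow, ← map_zpow, ← map_mul] at hij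
    have h3 : (x ^ i * y ^ j)⁻¹ * g ∈ zpowers z := QuotientGroup.eq.1 hij
    have e : g = (x ^ i * y ^ j) * ((x ^ i * y ^ j)⁻¹ * g) := by group
    rw [e]
    refine mul_mem (mul_mem ?_ ?_) ?_
    · exact mem_sup_left (mem_sup_left (zpow_mem (mem_zpowers x) i))
    · exact mem_sup_left (mem_sup_right (zpow_mem (mem_zpowers y) j))
    · exact mem_sup_right ((zpowers_le.2 hzF) h3)
  have hnc : x * y ≠ y * x := by
    intro hcomm'
    apply hna
    have key : ∀ g ∈ zpowers x ⊔ zpowers y, ∀ h ∈ zpowers x ⊔ zpowers y, g * h = h * g := by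
      have hxy' : ∀ a ∈ zpowers x, ∀ b ∈ zpowers y, a * b = b * a := by
        rintro _ ⟨i, rfl⟩ _ ⟨j, rfl⟩
        exact (Commute.zpow_zpow hcomm' i j).eq
      have hn := le_normalizer_of_commute hxy'
      intro g hg h hh
      obtain ⟨_, ⟨i, rfl⟩, _, ⟨j, rfl⟩, rfl⟩ := (mem_sup_of_le_normalizer hn).1 hg
      obtain ⟨_, ⟨k, rfl⟩, _, ⟨l, rfl⟩, rfl⟩ := (mem_sup_of_le_normalizer hn).1 hh
      simp only
      have c1 : Commute x y := hcomm'
      have c2 : Commute (x ^ i * y ^ j) (x ^ k * y ^ l) := by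
        apply Commute.mul_left
        · apply Commute.mul_right
          · exact (Commute.refl x).zpow_zpow i k
          · exact c1.zpow_zpow i l
        · apply Commute.mul_right
          · exact c1.symm.zpow_zpow j k
          · exact (Commute.refl y).zpow_zpow j l
      exact c2.eq
    intro a b
    exact key a (by rw [hxy]; trivial) b (by rw [hxy]; trivial)
  have hcz : x * y * x⁻¹ * y⁻¹ = z := by
    have h1 : x * y * x⁻¹ * y⁻¹ ∈ _root_.commutator S := Subgroup.commutator_mem_commutator (mem_top x) (mem_top y)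
    rcases zpowers_of_order_two hzz _ (hc h1) with h | h
    · exfalso
      apply hnc
      rw [mul_inv_eq_one, mul_inv_eq_iff_eq_mul] at h
      exact h
    · exact h
  have hxyz : x * y = z * (y * x) := by rw [← hcz]; group
  have hyxz : y * x = z * (x * y) := by
    rw [hxyz]
    calc y * x = (z * z) * (y * x) := by rw [hzz, one_mul]
      _ = z * (z * (y * x)) := by group
  have hQ : IsPGroup 2 (S ⧸ zpowers z) := h2.to_quotient _
  obtain ⟨m, hm⟩ := (IsPGroup.iff_orderOf.1 hQ) (QuotientGroup.mk x)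
  obtain ⟨n, hn⟩ := (IsPGroup.iff_orderOf.1 hQ) (QuotientGroup.mk y)
  have hxm : x ^ (2 ^ m) ∈ zpowers z := by
    rw [← QuotientGroup.eq_one_iff, QuotientGroup.mk_pow, ← hm, pow_orderOf_eq_one]
  have hyn : y ^ (2 ^ n) ∈ zpowers z := by
    rw [← QuotientGroup.eq_one_iff, QuotientGroup.mk_pow, ← hn, pow_orderOf_eq_one]
  rcases zpowers_of_order_two hzz _ hxm with hx | hx
  swap
  · exact metacyclic_of_zpowers hxy (hc.trans (by rw [zpowers_le, ← hx]; exact pow_mem (mem_zpowers x) _))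
  rcases zpowers_of_order_two hzz _ hyn with hy | hy
  swap
  · exact metacyclic_of_zpowers (x := y) (y := x) (by rw [sup_comm]; exact hxy)
      (hc.trans (by rw [zpowers_le, ← hy]; exact pow_mem (mem_zpowers y) _))
  obtain ⟨m, rfl⟩ : ∃ k, m = k + 1 := by
    refine ⟨m - 1, ?_⟩
    have : m ≠ 0 := by
      rintro rfl
      apply hnc
      rw [pow_zero, pow_one] at hx
      rw [hx]; simp
    omega
  obtain ⟨n, rfl⟩ : ∃ k, n = k + 1 := by
    refine ⟨n - 1, ?_⟩
    have : n ≠ 0 := by
      rintro rfl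
      apply hnc
      rw [pow_zero, pow_one] at hy
      rw [hy]; simp
    omega
  by_cases hm0 : m = 0
  · by_cases hn0 : n = 0
    · subst hm0 hn0
      have hx2 : x⁻¹ = x := by
        rw [inv_eq_iff_mul_eq_one, ← sq]; exact hx
      have hy2 : y⁻¹ = y := by
        rw [inv_eq_iff_mul_eq_one, ← sq]; exact hy
      apply metacyclic_of_zpowers (x := x * y) (y := y)
      · rw [eq_top_iff, ← hxy, sup_le_iff, zpowers_le]
        refine ⟨?_, le_sup_right⟩
        have h5 : (x * y) * y⁻¹ ∈ zpowers (x * y) ⊔ zpowers y :=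
          mul_mem (mem_sup_left (mem_zpowers _)) (mem_sup_right (inv_mem (mem_zpowers _)))
        rwa [mul_inv_cancel_right] at h5
      · refine hc.trans ?_
        rw [zpowers_le]
        have : z = (x * y) ^ 2 := by
          rw [← hcz, hx2, hy2, sq]; group
        rw [this]
        exact pow_mem (mem_zpowers _) 2
    · obtain ⟨n', rfl⟩ : ∃ k, n = k + 1 := ⟨n - 1, by omega⟩
      exact (case2_aux hr hzz hz1 hzc (x := y) (y := x) hyxz hn hm hy hx (by rw [inf_comm]; exact hinf)).elim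
  · obtain ⟨m', rfl⟩ : ∃ k, m = k + 1 := ⟨m - 1, by omega⟩
    exact (case2_aux hr hzz hz1 hzc (x := x) (y := y) hxyz hm hn hx hy hinf).elim

theorem metacyclic_aux (n : ℕ) : ∀ (S : Type u) [Group S] [Finite S], Nat.card S = n → IsPGroup 2 S →
    RankIn 2 2 (⊤ : Subgroup S) → IsMetacyclic S := by
  induction n using Nat.strong_induction_on with
  | _ n ih =>
  intro S _ _ hcard h2 hr
  have : Fact (Nat.Prime 2) := ⟨Nat.prime_two⟩
  obtain ⟨a0, b0, hab0⟩ := exists_two_gen h2 hr
  by_cases hna : ∀ a b : S, a * b = b * a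
  · apply metacyclic_of_zpowers hab0
    rw [commutator_def, Subgroup.commutator_le]
    intro g _ h _
    rw [commutatorElement_def, hna g h]
    have : h * g * g⁻¹ * h⁻¹ = 1 := by group
    rw [this]; exact one_mem _
  -- a central involution in the commutator subgroup
  obtain ⟨z, hzC, hzz, hz1, hzc⟩ : ∃ z ∈ _root_.commutator S, z * z = 1 ∧ z ≠ 1 ∧ ∀ g, g * z = z * g := by
    have h1 : _root_.commutator S ≠ ⊥ := by
      intro h
      apply hna
      intro a b
      have : a * b * a⁻¹ * b⁻¹ ∈ _root_.commutator S := Subgroup.commutator_mem_commutator (mem_top a) (mem_top b)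
      rw [h, mem_bot, mul_inv_eq_one, mul_inv_eq_iff_eq_mul] at this
      exact this
    obtain ⟨w, hw, hw1, hwc⟩ := UniqueInvolution.exists_central_of_normal h2 (_root_.commutator S) h1
    obtain ⟨k, hk⟩ := (IsPGroup.iff_orderOf.1 h2) w
    have hk0 : k ≠ 0 := by
      rintro rfl
      rw [pow_zero, orderOf_eq_one_iff] at hk
      exact hw1 hk
    obtain ⟨k, rfl⟩ : ∃ j, k = j + 1 := ⟨k - 1, by omega⟩
    refine ⟨w ^ (2 ^ k), pow_mem hw _, ?_, ?_, ?_⟩
    · rw [← pow_add]
      have : 2 ^ k + 2 ^ k = orderOf w := by rw [hk, pow_succ]; ring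
      rw [this, pow_orderOf_eq_one]
    · intro h
      have h3 := orderOf_dvd_of_pow_eq_one h
      rw [hk] at h3
      have := (Nat.pow_dvd_pow_iff_le_right (by norm_num : 1 < 2)).1 h3
      omega
    · intro g
      have : Commute g w := hwc g
      exact (this.pow_right _).eq
  have hN : (zpowers z).Normal := by
    constructor
    intro g hg h
    rcases zpowers_of_order_two hzz g hg with rfl | rfl
    · simp
    · rw [hzc h, mul_inv_cancel_right]; exact mem_zpowers g
  have hlt : Nat.card (S ⧸ zpowers z) < n := by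
    have h1 := Subgroup.card_eq_card_quotient_mul_card_subgroup (zpowers z)
    have h3 : 2 ≤ Nat.card (zpowers z) := by
      have : Nontrivial (zpowers z) := ⟨⟨⟨z, mem_zpowers z⟩, 1, fun h => hz1 (congrArg Subtype.val h)⟩⟩
      exact Finite.one_lt_card
    have h4 : 0 < Nat.card (S ⧸ zpowers z) := Nat.card_pos
    rw [hcard] at h1
    nlinarith
  obtain ⟨Lb, hLbn, hLbc, hLbq⟩ := ih _ hlt (S ⧸ zpowers z) rfl (h2.to_quotient _) (rankIn_quotient hr _)
  set π := QuotientGroup.mk' (zpowers z) with hπ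
  have hπs : Function.Surjective π := QuotientGroup.mk'_surjective _
  obtain ⟨⟨bb, hbb⟩, hbgen⟩ := hLbc.exists_generator
  obtain ⟨b, rfl⟩ := hπs bb
  obtain ⟨ab, hagen⟩ := hLbq.exists_generator
  obtain ⟨ab', rfl⟩ := QuotientGroup.mk'_surjective Lb ab
  obtain ⟨a, rfl⟩ := hπs ab'
  set L : Subgroup S := Lb.comap π with hL
  have hLn : L.Normal := hLbn.comap π
  have hzL : z ∈ L := by
    rw [hL, mem_comap]
    have : π z = 1 := (QuotientGroup.eq_one_iff z).2 (mem_zpowers z)
    rw [this]; exact one_mem _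
  have hbL : b ∈ L := hbb
  have hLmem : ∀ l ∈ L, ∃ (i j : ℤ), l = b ^ i * z ^ j := by
    intro l hl
    obtain ⟨i, hi⟩ := hbgen ⟨π l, hl⟩
    have h1 : π b ^ i = π l := congrArg Subtype.val hi
    rw [← map_zpow] at h1
    have h3 : (b ^ i)⁻¹ * l ∈ zpowers z := QuotientGroup.eq.1 h1
    obtain ⟨j, hj⟩ := h3
    simp only at hj
    exact ⟨i, j, by rw [hj]; group⟩
  have hLab : ∀ g ∈ L, ∀ h ∈ L, g * h = h * g := by
    intro g hg h hh
    obtain ⟨i, j, rfl⟩ := hLmem g hg
    obtain ⟨k, l, rfl⟩ := hLmem h hh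
    have c1 : Commute b z := hzc b
    have c2 : Commute (b ^ i * z ^ j) (b ^ k * z ^ l) := by
      apply Commute.mul_left
      · apply Commute.mul_right
        · exact (Commute.refl b).zpow_zpow i k
        · exact c1.zpow_zpow i l
      · apply Commute.mul_right
        · exact c1.symm.zpow_zpow j k
        · exact (Commute.refl z).zpow_zpow j l
    exact c2.eq
  have hLa : L ⊔ zpowers a = ⊤ := by
    rw [eq_top_iff]
    intro g _
    obtain ⟨i, hi⟩ := hagen (QuotientGroup.mk' Lb (π g))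
    simp only at hi
    rw [← map_zpow, ← map_zpow] at hi
    have h1 : (π (a ^ i))⁻¹ * π g ∈ Lb := QuotientGroup.eq.1 hi
    rw [← map_inv, ← map_mul] at h1
    have h3 : (a ^ i)⁻¹ * g ∈ L := h1
    have e : g = a ^ i * ((a ^ i)⁻¹ * g) := by group
    rw [e]
    exact mul_mem (mem_sup_right (zpow_mem (mem_zpowers a) i)) (mem_sup_left h3)
  obtain ⟨_, hcom⟩ := MaximalClass.card_eq_of_abelian L hLab hLn a hLa
  obtain ⟨d, hd⟩ : ∃ d, d = a * b * a⁻¹ * b⁻¹ := ⟨_, rfl⟩
  have hdL : d ∈ L := by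
    rw [hd]
    exact mul_mem (hLn.conj_mem b hbL a) (inv_mem hbL)
  have hcomd : ∀ g ∈ _root_.commutator S, ∃ i : ℤ, g = d ^ i := by
    intro g hg
    obtain ⟨l, hl, rfl⟩ := hcom g hg
    obtain ⟨i, j, rfl⟩ := hLmem l hl
    refine ⟨i, ?_⟩
    have haz : a * z ^ j * a⁻¹ = z ^ j := by
      have : Commute a z := hzc a
      rw [(this.zpow_right j).eq, mul_inv_cancel_right]
    have hconj : a * b * a⁻¹ ∈ L := hLn.conj_mem b hbL a
    have hcomm2 : Commute (a * b * a⁻¹) b⁻¹ := hLab _ hconj _ (inv_mem hbL)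
    rw [commutatorElement_def, hd, hcomm2.mul_zpow, conj_zpow]
    calc a * (b ^ i * z ^ j) * a⁻¹ * (b ^ i * z ^ j)⁻¹ = (a * b ^ i * a⁻¹) * (a * z ^ j * a⁻¹) * (b ^ i * z ^ j)⁻¹ := by group
      _ = (a * b ^ i * a⁻¹) * z ^ j * (b ^ i * z ^ j)⁻¹ := by rw [haz]
      _ = a * b ^ i * a⁻¹ * b⁻¹ ^ i := by rw [inv_zpow]; group
  obtain ⟨i, hi⟩ := hcomd z hzC
  obtain ⟨k, j, hkj⟩ := hLmem d hdL
  rcases Int.even_or_odd' i with ⟨i', hi' | hi'⟩
  · -- z ∈ ⟨b⟩
    have hzb : z ∈ zpowers b := by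
      have h1 : d ^ (2 : ℤ) = b ^ (2 * k) := by
        have c1 : Commute (b ^ k) (z ^ j) := by
          have : Commute b z := hzc b
          exact this.zpow_zpow k j
        rw [hkj, c1.mul_zpow, ← zpow_mul, ← zpow_mul, mul_comm j 2, zpow_mul z]
        have : z ^ (2 : ℤ) = 1 := by rw [zpow_two]; exact hzz
        rw [this, one_zpow, mul_one, mul_comm k 2]
      rw [hi, hi', zpow_mul, h1, ← zpow_mul]
      exact zpow_mem (mem_zpowers b) _
    have hLb : L = zpowers b := by
      apply le_antisymm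
      · intro l hl
        obtain ⟨i, j, rfl⟩ := hLmem l hl
        exact mul_mem (zpow_mem (mem_zpowers b) _) (zpow_mem hzb _)
      · rw [zpowers_le]; exact hbL
    refine ⟨L, hLn, ?_, isCyclic_quotient L a hLa⟩
    rw [hLb]; infer_instance
  · -- ⟨d⟩ = ⟨z⟩
    have hdz : d ∈ zpowers z := by
      obtain ⟨r, hr'⟩ := (IsPGroup.iff_orderOf.1 h2) d
      have hcop : IsCoprime i ((2 : ℤ) ^ r) := by
        apply IsCoprime.pow_right
        rw [hi']
        exact ⟨1, -i', by ring⟩
      obtain ⟨u, v, huv⟩ := hcop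
      have h3 : d ^ ((2 : ℤ) ^ r) = 1 := by
        have : ((2 : ℤ) ^ r) = ((2 ^ r : ℕ) : ℤ) := by push_cast; rfl
        rw [this, zpow_natCast, ← hr', pow_orderOf_eq_one]
      have e : d = z ^ u := by
        calc d = d ^ (u * i + v * (2 : ℤ) ^ r) := by rw [huv, zpow_one]
          _ = (d ^ i) ^ u * (d ^ ((2 : ℤ) ^ r)) ^ v := by
              rw [zpow_add, ← zpow_mul, ← zpow_mul, mul_comm u i, mul_comm v]
          _ = z ^ u := by rw [h3, one_zpow, mul_one, ← hi]
      rw [e]; exact zpow_mem (mem_zpowers z) u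
    refine case2 h2 hr hzz hz1 hzc ?_ hna hab0
    intro g hg
    obtain ⟨i, rfl⟩ := hcomd g hg
    exact zpow_mem hdz i

/-- A finite `2`-group of sectional `2`-rank at most `2` is metacyclic. -/
theorem isMetacyclic_of_sectional {S : Type u} [Group S] [Finite S] (h2 : IsPGroup 2 S)
    (hr : SectionalPRankLE 2 2 S) : IsMetacyclic S :=
  metacyclic_aux _ S rfl h2 (rankIn_of_sectional hr)

end Cfsg.Agent.Lib.MetaTwo
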