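import Mathlib
import Cfsg.Prelude.Def_Transfer
import Cfsg.Agent.Lib.MinCover
import Cfsg.Agent.Lib.H23Nilp
import Cfsg.Agent.Lib.PiClasses2

set_option autoImplicit false

namespace Cfsg.Agent.Lib.MinCover2

open Subgroup Cfsg.Agent.Lib.MinCover

/-- An abelian subgroup covered by subgroups meeting pairwise trivially, none containing it:
all non-identity elements have the same order, a prime. -/
theorem partition_orderOf {G : Type*} [Group G] [Finite G] (P : Subgroup G)
    (hab : ∀ x ∈ P, ∀ y ∈ P, x * y = y * x) (𝓑 : Set (Subgroup G))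
    (hprop : ∀ B ∈ 𝓑, ¬ P ≤ B) (hcov : ∀ g ∈ P, ∃ B ∈ 𝓑, g ∈ B)
    (hdisj : ∀ B ∈ 𝓑, ∀ C ∈ 𝓑, B ≠ C → ∀ x ∈ P, x ∈ B → x ∈ C → x = 1) :
    ∃ n : ℕ, n.Prime ∧ ∀ x ∈ P, x ≠ 1 → orderOf x = n := by
  -- elements in different members have the same order
  have key : ∀ B ∈ 𝓑, ∀ C ∈ 𝓑, B ≠ C → ∀ x ∈ P, ∀ y ∈ P, x ∈ B → y ∈ C → x ≠ 1 → y ≠ 1 →
      ¬ orderOf x < orderOf y := by
    intro B hB C hC hne x hx y hy hxB hyC hx1 hy1 hlt
    obtain ⟨D, hD, hxy⟩ := hcov (x * y) (P.mul_mem hx hy)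
    have h1 : (x * y) ^ orderOf x = y ^ orderOf x := by
      rw [(show Commute x y from hab x hx y hy).mul_pow, pow_orderOf_eq_one, one_mul]
    have h2 : y ^ orderOf x ≠ 1 := by
      intro h
      exact absurd (Nat.le_of_dvd (orderOf_pos x) (orderOf_dvd_of_pow_eq_one h)) (not_le.2 hlt)
    have h3 : y ^ orderOf x ∈ D := by rw [← h1]; exact D.pow_mem hxy _
    have hCD : C = D := by
      by_contra hcd
      exact h2 (hdisj C hC D hD hcd _ (P.pow_mem hy _) (C.pow_mem hyC _) h3)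
    subst hCD
    have h4 : x ∈ C := by
      have := C.mul_mem hxy (C.inv_mem hyC)
      rwa [mul_inv_cancel_right] at this
    exact hx1 (hdisj B hB C hC hne x hx hxB h4)
  have key2 : ∀ x ∈ P, ∀ y ∈ P, x ≠ 1 → y ≠ 1 → orderOf x = orderOf y := by
    intro x hx y hy hx1 hy1
    obtain ⟨B, hB, hxB⟩ := hcov x hx
    obtain ⟨C, hC, hyC⟩ := hcov y hy
    by_cases hBC : B = C
    · subst hBC
      obtain ⟨w, hw, hwB⟩ := SetLike.not_le_iff_exists.1 (hprop B hB)
      have hw1 : w ≠ 1 := by rintro rfl; exact hwB B.one_mem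
      obtain ⟨D, hD, hwD⟩ := hcov w hw
      have hBD : B ≠ D := by rintro rfl; exact hwB hwD
      have e1 := key B hB D hD hBD x hx w hw hxB hwD hx1 hw1
      have e2 := key D hD B hB hBD.symm w hw x hx hwD hxB hw1 hx1
      have e3 := key B hB D hD hBD y hy w hw hyC hwD hy1 hw1
      have e4 := key D hD B hB hBD.symm w hw y hy hwD hyC hw1 hy1
      omega
    · have e1 := key B hB C hC hBC x hx y hy hxB hyC hx1 hy1
      have e2 := key C hC B hB (Ne.symm hBC) y hy x hx hyC hxB hy1 hx1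
      omega
  obtain ⟨B, hB, -⟩ := hcov 1 P.one_mem
  obtain ⟨w, hw, hwB⟩ := SetLike.not_le_iff_exists.1 (hprop B hB)
  have hw1 : w ≠ 1 := by rintro rfl; exact hwB B.one_mem
  refine ⟨orderOf w, ?_, fun x hx hx1 => key2 x hx w hw hx1 hw1⟩
  have hne : orderOf w ≠ 1 := by rwa [Ne, orderOf_eq_one_iff]
  have hpp := Nat.minFac_prime hne
  have h5 : orderOf (w ^ (orderOf w / (orderOf w).minFac)) = (orderOf w).minFac := by
    rw [orderOf_pow_of_dvd]
    · exact Nat.div_div_self (Nat.minFac_dvd _) (orderOf_pos w).ne'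
    · exact (Nat.div_pos (Nat.minFac_le (orderOf_pos w)) hpp.pos).ne'
    · exact Nat.div_dvd_of_dvd (Nat.minFac_dvd _)
  have h6 : w ^ (orderOf w / (orderOf w).minFac) ≠ 1 := by
    intro h; rw [h, orderOf_one] at h5; exact hpp.one_lt.ne h5
  have h7 := key2 _ (P.pow_mem hw _) w hw h6 hw1
  rw [h5] at h7
  rw [← h7]; exact hpp

section

variable {G : Type*} [Group G] [Finite G] (hZ : center G = ⊥) {𝓐 : Finset (Subgroup G)}
  (h𝓐 : IsNMC 𝓐) {p : ℕ} [hp : Fact p.Prime] (P : Sylow p G)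
  (hab : IsMulCommutative ↥(P : Subgroup G))
include hZ h𝓐 hab

omit hZ in
/-- a `p`-element of a member is central in it -/
theorem mem_centralizer_of_mem {A : Subgroup G} (hA : A ∈ 𝓐) {x : G} (hx : x ∈ A)
    (hxp : ∃ k : ℕ, orderOf x = p ^ k) {a : G} (ha : a ∈ A) : a * x = x * a := by
  have hnil := h𝓐.2.2 A hA
  obtain ⟨k, hk⟩ := hxp
  obtain ⟨b, c, -, -, hbc, hb, hc, -, -⟩ :=
    Cfsg.Agent.Lib.PiClasses2.exists_split_elem (fun r => r = p) (⟨a, ha⟩ : A)
  -- the p'-part commutes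
  have hxA : orderOf (⟨x, hx⟩ : A) = p ^ k := by rw [Subgroup.orderOf_mk, hk]
  have h1 : c * ⟨x, hx⟩ = ⟨x, hx⟩ * c := by
    apply Cfsg.Agent.Lib.H23Nilp.commute_of_coprime_orderOf A
    rw [hxA]
    apply Nat.Coprime.pow_right
    rw [Nat.coprime_comm, Nat.Prime.coprime_iff_not_dvd hp.out]
    intro h
    exact hc p hp.out h rfl
  -- the p-part: the Sylow subgroup of A is normal and abelian
  obtain ⟨Q⟩ : Nonempty (Sylow p A) := inferInstance
  have hQn : (Q : Subgroup A).Normal := inferInstance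
  have hmem : ∀ y : A, (∃ j : ℕ, orderOf y = p ^ j) → y ∈ (Q : Subgroup A) := by
    rintro y ⟨j, hj⟩
    have hy : IsPGroup p ↥(zpowers y) := IsPGroup.of_card (n := j) (by rw [Nat.card_zpowers, hj])
    obtain ⟨R, hR⟩ := hy.exists_le_sylow
    have : R = Q := by
      have := Sylow.unique_of_normal Q hQn
      exact Subsingleton.elim R Q
    rw [← this]
    exact hR (mem_zpowers y)
  have hbQ : b ∈ (Q : Subgroup A) := by
    apply hmem
    exact ⟨_, Nat.eq_prime_pow_of_unique_prime_dvd (orderOf_pos b).ne'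
      (fun {d} hd hdb => hb d hd hdb)⟩
  have hxQ : (⟨x, hx⟩ : A) ∈ (Q : Subgroup A) := hmem _ ⟨k, hxA⟩
  have h2 : b * ⟨x, hx⟩ = ⟨x, hx⟩ * b := by
    have hQp : IsPGroup p ↥((Q : Subgroup A).map A.subtype) := Q.2.map _
    obtain ⟨S, hS⟩ := hQp.exists_le_sylow
    obtain ⟨g, hg⟩ := MulAction.exists_smul_eq G S P
    have hc1 : ∀ w : A, w ∈ (Q : Subgroup A) → g * (w : G) * g⁻¹ ∈ (P : Subgroup G) := by
      intro w hw
      rw [← hg, Sylow.coe_subgroup_smul]
      exact ⟨(w : G), hS ⟨w, hw, rfl⟩, by simp [MulAut.conj_apply]⟩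
    have h3 := congrArg Subtype.val (hab.is_comm.comm ⟨_, hc1 b hbQ⟩ ⟨_, hc1 _ hxQ⟩)
    have h4 : g * (b : G) * g⁻¹ * (g * x * g⁻¹) = g * x * g⁻¹ * (g * (b : G) * g⁻¹) := h3
    apply Subtype.ext
    have h5 := congrArg (fun t => g⁻¹ * t * g) h4
    simpa [mul_assoc] using h5
  have h6 : (⟨a, ha⟩ : A) * ⟨x, hx⟩ = ⟨x, hx⟩ * ⟨a, ha⟩ := by
    rw [← hbc, mul_assoc, h1, ← mul_assoc, h2, mul_assoc]
  exact congrArg Subtype.val h6

/-- two distinct members share no nontrivial `p`-element -/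
theorem eq_one_of_mem {A B : Subgroup G} (hA : A ∈ 𝓐) (hB : B ∈ 𝓐) (hne : A ≠ B) {x : G}
    (hxA : x ∈ A) (hxB : x ∈ B) (hxp : ∃ k : ℕ, orderOf x = p ^ k) : x = 1 := by
  have h1 : A ≤ centralizer {x} := by
    intro a ha
    rw [mem_centralizer_singleton_iff]
    exact mem_centralizer_of_mem h𝓐 P hab hA hxA hxp ha
  have h2 : B ≤ centralizer {x} := by
    intro a ha
    rw [mem_centralizer_singleton_iff]
    exact mem_centralizer_of_mem h𝓐 P hab hB hxB hxp ha
  have h3 : centralizer {x} = ⊤ := by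
    rw [eq_top_iff, ← sup_eq_top h𝓐 hA hB hne]
    exact sup_le h1 h2
  have h4 : x ∈ center G := by
    rw [mem_center_iff]
    intro g
    have : g ∈ centralizer {x} := by rw [h3]; trivial
    rw [mem_centralizer_singleton_iff] at this
    exact this
  rw [hZ] at h4
  exact h4

/-- an abelian Sylow subgroup lies in a member, or is elementary abelian of order `> p` -/
theorem le_member_or (hP1 : (P : Subgroup G) ≠ ⊥) :
    (∃ A ∈ 𝓐, (P : Subgroup G) ≤ A) ∨
      (Cfsg.IsElementaryAbelian p (P : Subgroup G) ∧ p < Nat.card ↥(P : Subgroup G)) := by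
  by_cases h : ∃ A ∈ 𝓐, (P : Subgroup G) ≤ A
  · exact Or.inl h
  right
  push Not at h
  have hpe : ∀ x ∈ (P : Subgroup G), ∃ k : ℕ, orderOf x = p ^ k := by
    intro x hx
    obtain ⟨k, hk⟩ := (IsPGroup.iff_orderOf.1 P.2) ⟨x, hx⟩
    exact ⟨k, by rw [← hk, Subgroup.orderOf_mk]⟩
  obtain ⟨n, hn, h1⟩ := partition_orderOf (P : Subgroup G)
    (fun x hx y hy => congrArg Subtype.val (hab.is_comm.comm ⟨x, hx⟩ ⟨y, hy⟩))
    (↑𝓐 : Set (Subgroup G)) (fun B hB => h B hB) (fun g _ => h𝓐.1.2 g)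
    (fun B hB C hC hne x hx hxB hxC => eq_one_of_mem hZ h𝓐 P hab hB hC hne hxB hxC (hpe x hx))
  obtain ⟨x, hx, hx1⟩ := (Subgroup.ne_bot_iff_exists_ne_one).1 hP1 |> fun
    ⟨x, hx⟩ => (⟨(x : G), x.2, fun h => hx (Subtype.ext h)⟩ :
      ∃ x : G, x ∈ (P : Subgroup G) ∧ x ≠ 1)
  have hnp : n = p := by
    obtain ⟨k, hk⟩ := hpe x hx
    rw [h1 x hx hx1] at hk
    rw [hk] at hn
    exact hk.trans ((Nat.Prime.eq_one_of_pow hn).symm ▸ pow_one p)
  refine ⟨⟨hab, ?_⟩, ?_⟩
  · intro a ha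
    by_cases ha1 : a = 1
    · rw [ha1, one_pow]
    · rw [← hnp, ← h1 a ha ha1, pow_orderOf_eq_one]
  · by_contra hle
    push Not at hle
    obtain ⟨A, hA, hxA⟩ := h𝓐.1.2 x
    apply h A hA
    have h2 : zpowers x = (P : Subgroup G) := by
      apply Subgroup.eq_of_le_of_card_ge (zpowers_le.2 hx)
      rw [Nat.card_zpowers, h1 x hx hx1, hnp]
      exact hle
    rw [← h2]
    exact zpowers_le.2 hxA

/-- the member containing `P` is `C_G(P)` -/
theorem centralizer_eq (hP1 : (P : Subgroup G) ≠ ⊥) {A : Subgroup G} (hA : A ∈ 𝓐)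
    (hPA : (P : Subgroup G) ≤ A) : centralizer ((P : Subgroup G) : Set G) = A := by
  have hpe : ∀ x ∈ (P : Subgroup G), ∃ k : ℕ, orderOf x = p ^ k := by
    intro x hx
    obtain ⟨k, hk⟩ := (IsPGroup.iff_orderOf.1 P.2) ⟨x, hx⟩
    exact ⟨k, by rw [← hk, Subgroup.orderOf_mk]⟩
  obtain ⟨x, hx, hx1⟩ := (Subgroup.ne_bot_iff_exists_ne_one).1 hP1 |> fun
    ⟨x, hx⟩ => (⟨(x : G), x.2, fun h => hx (Subtype.ext h)⟩ :
      ∃ x : G, x ∈ (P : Subgroup G) ∧ x ≠ 1)
  apply le_antisymm
  · intro c hc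
    obtain ⟨b, d, hb1, hd1, hbd, hb, hd, -, -⟩ :=
      Cfsg.Agent.Lib.PiClasses2.exists_split_elem (fun r => r = p) c
    have hbC : b ∈ centralizer ((P : Subgroup G) : Set G) := (zpowers_le.2 hc) hb1
    have hdC : d ∈ centralizer ((P : Subgroup G) : Set G) := (zpowers_le.2 hc) hd1
    -- the p-part lies in P
    have hbP : b ∈ (P : Subgroup G) := by
      have hbn : (P : Subgroup G) ≤ normalizer ((zpowers b : Subgroup G) : Set G) := by
        intro u hu
        rw [mem_normalizer_iff]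
        have huc : Commute u b := hbC u hu
        intro h
        constructor
        · intro hh
          obtain ⟨j, rfl⟩ := mem_zpowers_iff.1 hh
          rw [(huc.zpow_right j).eq, mul_inv_cancel_right]
          exact hh
        · intro hh
          have : h = u⁻¹ * (u * h * u⁻¹) * u := by group
          rw [this]
          obtain ⟨j, hj⟩ := mem_zpowers_iff.1 hh
          rw [← hj, mul_assoc, ← (huc.zpow_right j).eq, inv_mul_cancel_left]
          exact zpow_mem (mem_zpowers b) j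
      have hbp : IsPGroup p ↥(zpowers b) := by
        apply IsPGroup.of_card (n := (orderOf b).primeFactorsList.length)
        rw [Nat.card_zpowers]
        exact Nat.eq_prime_pow_of_unique_prime_dvd (orderOf_pos b).ne'
          (fun {d} hd hdb => hb d hd hdb)
      have hsup : IsPGroup p ↥((zpowers b : Subgroup G) ⊔ (P : Subgroup G)) :=
        IsPGroup.to_sup_of_normal_left' hbp P.2 hbn
      have := P.is_maximal' hsup le_sup_right
      exact this ▸ (le_sup_left (a := zpowers b) (mem_zpowers b))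
    -- the p'-part: consider x * d
    have hdA : d ∈ A := by
      have hxd : Commute x d := hdC x hx
      obtain ⟨B, hB, hB1⟩ := h𝓐.1.2 (x * d)
      obtain ⟨k, hk⟩ := hpe x hx
      have hcop : (orderOf x).Coprime (orderOf d) := by
        rw [hk]
        apply Nat.Coprime.pow_left
        rw [Nat.Prime.coprime_iff_not_dvd hp.out]
        intro h
        exact hd p hp.out h rfl
      have hxm : x ∈ zpowers (x * d) := by
        obtain ⟨s, t, hst⟩ := Nat.isCoprime_iff_coprime.2 hcop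
        rw [mem_zpowers_iff]
        refine ⟨t * (orderOf d : ℤ), ?_⟩
        rw [hxd.mul_zpow]
        have e1 : d ^ (t * (orderOf d : ℤ)) = 1 := by
          rw [mul_comm, zpow_mul, zpow_natCast, pow_orderOf_eq_one, one_zpow]
        have e2 : x ^ (t * (orderOf d : ℤ)) = x := by
          have : t * (orderOf d : ℤ) = 1 - s * (orderOf x : ℤ) := by linarith
          rw [this, zpow_sub, zpow_one, mul_comm s, zpow_mul, zpow_natCast, pow_orderOf_eq_one,
            one_zpow, inv_one, mul_one]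
        rw [e1, e2, mul_one]
      have hxB : x ∈ B := (zpowers_le.2 hB1) hxm
      have hAB : A = B := by
        by_contra hne
        exact hx1 (eq_one_of_mem hZ h𝓐 P hab hA hB hne (hPA hx) hxB ⟨k, hk⟩)
      subst hAB
      have := A.mul_mem (A.inv_mem (hPA hx)) hB1
      rwa [inv_mul_cancel_left] at this
    rw [← hbd]
    exact A.mul_mem (hPA hbP) hdA
  · intro a ha
    rw [mem_centralizer_iff]
    intro y hy
    exact (mem_centralizer_of_mem h𝓐 P hab hA (hPA hy) (hpe y hy) ha).symm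

end

/-- if every conjugate of `P` lies in a member: consequences for `M ≥ C_G(P)` -/
theorem le_normalizer_of_le {G : Type*} [Group G] [Finite G] (hZ : center G = ⊥)
    {𝓐 : Finset (Subgroup G)} (h𝓐 : IsNMC 𝓐) {p : ℕ} [hp : Fact p.Prime] (P : Sylow p G)
    (hab : IsMulCommutative ↥(P : Subgroup G)) (hP1 : (P : Subgroup G) ≠ ⊥)
    (hE : ¬ (Cfsg.IsElementaryAbelian p (P : Subgroup G) ∧ p < Nat.card ↥(P : Subgroup G)))
    (M : Subgroup G) (hM : M ≠ ⊤) (hCM : centralizer ((P : Subgroup G) : Set G) ≤ M) :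
    M ≤ normalizer ((P : Subgroup G) : Set G) := by
  obtain ⟨A, hA, hPA⟩ := (le_member_or hZ h𝓐 P hab hP1).resolve_right hE
  have hAC := centralizer_eq hZ h𝓐 P hab hP1 hA hPA
  intro g hg
  let P' : Sylow p G := g • P
  have hP' : (P' : Subgroup G) = (P : Subgroup G).map (MulAut.conj g).toMonoidHom := rfl
  have e : ↥(P : Subgroup G) ≃* ↥(P' : Subgroup G) :=
    (P : Subgroup G).equivMapOfInjective _ (MulAut.conj g).injective
  have hab' : IsMulCommutative ↥(P' : Subgroup G) := by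
    constructor; constructor
    intro a b
    obtain ⟨a, rfl⟩ := e.surjective a
    obtain ⟨b, rfl⟩ := e.surjective b
    rw [← map_mul, ← map_mul, hab.is_comm.comm]
  have hcard : Nat.card ↥(P' : Subgroup G) = Nat.card ↥(P : Subgroup G) :=
    (Nat.card_congr e.toEquiv).symm
  have hP1' : (P' : Subgroup G) ≠ ⊥ := by
    intro h
    apply hP1
    rw [← Subgroup.card_eq_one, ← hcard, h, Subgroup.card_bot]
  have hE' : ¬ (Cfsg.IsElementaryAbelian p (P' : Subgroup G) ∧
      p < Nat.card ↥(P' : Subgroup G)) := by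
    rintro ⟨⟨-, h1⟩, h2⟩
    apply hE
    refine ⟨⟨hab, ?_⟩, by rwa [hcard] at h2⟩
    intro a ha
    have := h1 (g * a * g⁻¹) ⟨a, ha, by simp [MulAut.conj_apply]⟩
    rw [conj_pow] at this
    have h3 := congrArg (fun t => g⁻¹ * t * g) this
    simpa [mul_assoc] using h3
  obtain ⟨B, hB, hPB⟩ := (le_member_or hZ h𝓐 P' hab' hP1').resolve_right hE'
  have hBC := centralizer_eq hZ h𝓐 P' hab' hP1' hB hPB
  have hBM : B ≤ M := by
    rw [← hBC]
    intro c hc
    have h1 : g⁻¹ * c * g ∈ M := by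
      apply hCM
      rw [mem_centralizer_iff]
      intro y hy
      have h2 : g * y * g⁻¹ ∈ (P' : Subgroup G) := ⟨y, hy, by simp [MulAut.conj_apply]⟩
      have h3 := hc _ h2
      calc y * (g⁻¹ * c * g) = g⁻¹ * (g * y * g⁻¹ * c) * g := by group
        _ = g⁻¹ * (c * (g * y * g⁻¹)) * g := by rw [h3]
        _ = g⁻¹ * c * g * y := by group
    have h4 := M.mul_mem (M.mul_mem hg h1) (M.inv_mem hg)
    have h5 : g * (g⁻¹ * c * g) * g⁻¹ = c := by group
    rwa [h5] at h4
  have hAM : A ≤ M := by rw [← hAC]; exact hCM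
  have hAB := eq_of_le h𝓐 hA hB hM hAM hBM
  subst hAB
  -- P and P' are both Sylow subgroups of the nilpotent group A
  have hPP' : (P' : Subgroup G) = P := by
    have hP'C : (P' : Subgroup G) ≤ normalizer ((P : Subgroup G) : Set G) := by
      refine hPB.trans ?_
      rw [← hAC]
      exact centralizer_le_normalizer _
    have hsup : IsPGroup p ↥((P : Subgroup G) ⊔ (P' : Subgroup G)) :=
      IsPGroup.to_sup_of_normal_left' P.2 P'.2 hP'C
    rw [← P.is_maximal' hsup le_sup_left]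
    exact (P'.is_maximal' hsup le_sup_right).symm
  rw [mem_normalizer_iff_map_conj_eq]
  exact hPP'

end Cfsg.Agent.Lib.MinCover2
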