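import Mathlib

/-!
Nonabelian minimal normal subgroups of finite groups: a simple factor `T`, its conjugates, and
the decomposition `N = T * C_N(T)`.
-/

set_option autoImplicit false

namespace Cfsg.Agent.Lib.MinFactor

variable {G : Type*} [Group G]

/-- the conjugate subgroup `g T g⁻¹` -/
def cj (g : G) (T : Subgroup G) : Subgroup G := T.map (MulAut.conj g).toMonoidHom

theorem mem_cj {g x : G} {T : Subgroup G} : x ∈ cj g T ↔ g⁻¹ * x * g ∈ T := by
  unfold cj
  rw [Subgroup.mem_map]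
  constructor
  · rintro ⟨y, hy, rfl⟩
    have : g⁻¹ * (MulAut.conj g).toMonoidHom y * g = y := by
      simp [mul_assoc]
    rw [this]; exact hy
  · intro h
    exact ⟨_, h, by simp [mul_assoc]⟩

theorem conj_mem_cj {g x : G} {T : Subgroup G} (hx : x ∈ T) : g * x * g⁻¹ ∈ cj g T := by
  rw [mem_cj]
  have : g⁻¹ * (g * x * g⁻¹) * g = x := by group
  rw [this]; exact hx

theorem cj_mul (g h : G) (T : Subgroup G) : cj (g * h) T = cj g (cj h T) := by
  ext x
  rw [mem_cj, mem_cj, mem_cj]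
  have : (g * h)⁻¹ * x * (g * h) = h⁻¹ * (g⁻¹ * x * g) * h := by group
  rw [this]

theorem cj_one (T : Subgroup G) : cj 1 T = T := by
  ext x
  rw [mem_cj]; simp

theorem cj_mono {g : G} {S T : Subgroup G} (h : S ≤ T) : cj g S ≤ cj g T := by
  intro x hx
  rw [mem_cj] at hx ⊢
  exact h hx

theorem cj_inj {g : G} {S T : Subgroup G} (h : cj g S = cj g T) : S = T := by
  have := congrArg (cj g⁻¹) h
  rwa [← cj_mul, ← cj_mul, inv_mul_cancel, cj_one, cj_one] at this

theorem cj_inv_eq {g : G} {T : Subgroup G} (h : cj g T = T) : cj g⁻¹ T = T := by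
  conv_lhs => rw [← h]
  rw [← cj_mul, inv_mul_cancel, cj_one]

theorem card_cj (g : G) (T : Subgroup G) : Nat.card (cj g T) = Nat.card T := by
  unfold cj
  exact Nat.card_congr (T.equivMapOfInjective _ (MulAut.conj g).injective).symm.toEquiv

theorem cj_eq_iff_normalizer {g : G} {T : Subgroup G} : cj g T = T ↔ g ∈ Subgroup.normalizer (T : Set G) := by
  rw [Subgroup.mem_normalizer_iff]
  constructor
  · intro h x
    constructor
    · intro hx
      have := conj_mem_cj (g := g) hx
      rwa [h] at this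
    · intro hx
      rw [← h] at hx
      have h2 := mem_cj.mp hx
      rwa [show g⁻¹ * (g * x * g⁻¹) * g = x by group] at h2
  · intro h
    ext x
    rw [mem_cj, h]
    rw [show g * (g⁻¹ * x * g) * g⁻¹ = x by group]

theorem cj_bot (g : G) : cj g (⊥ : Subgroup G) = ⊥ := by
  unfold cj; exact Subgroup.map_bot _

/-- `N` is a minimal normal subgroup. -/
structure IsMin (N : Subgroup G) : Prop where
  normal : N.Normal
  ne_bot : N ≠ ⊥
  min : ∀ M : Subgroup G, M.Normal → M ≤ N → M = ⊥ ∨ M = N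

theorem exists_min [Finite G] [Nontrivial G] : ∃ N : Subgroup G, IsMin N := by
  classical
  obtain ⟨N, hN⟩ := (Set.toFinite {N : Subgroup G | N.Normal ∧ N ≠ ⊥}).exists_minimal
    ⟨⊤, (inferInstance : (⊤ : Subgroup G).Normal), top_ne_bot⟩
  refine ⟨N, hN.prop.1, hN.prop.2, fun M hM hMN => ?_⟩
  by_cases h : M = ⊥
  · exact Or.inl h
  · exact Or.inr (le_antisymm hMN (hN.le_of_le ⟨hM, h⟩ hMN))

/-- a minimal normal subgroup below a given nontrivial normal subgroup -/
theorem exists_min_le [Finite G] (K : Subgroup G) (hK : K.Normal) (hK1 : K ≠ ⊥) :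
    ∃ N : Subgroup G, IsMin N ∧ N ≤ K := by
  classical
  obtain ⟨N, hN⟩ := (Set.toFinite {N : Subgroup G | N.Normal ∧ N ≠ ⊥ ∧ N ≤ K}).exists_minimal
    ⟨K, hK, hK1, le_rfl⟩
  refine ⟨N, ⟨hN.prop.1, hN.prop.2.1, fun M hM hMN => ?_⟩, hN.prop.2.2⟩
  by_cases h : M = ⊥
  · exact Or.inl h
  · exact Or.inr (le_antisymm hMN (hN.le_of_le ⟨hM, h, hMN.trans hN.prop.2.2⟩ hMN))

/-- a nonabelian minimal normal subgroup has trivial centre. -/
theorem IsMin.center_trivial {N : Subgroup G} (hN : IsMin N) (hnc : ¬ IsMulCommutative N) :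
    ∀ x ∈ N, (∀ n ∈ N, x * n = n * x) → x = 1 := by
  let ZN : Subgroup G :=
    { carrier := {x | x ∈ N ∧ ∀ t ∈ N, t * x = x * t}
      mul_mem' := by
        rintro a b ⟨ha, ha'⟩ ⟨hb, hb'⟩
        refine ⟨N.mul_mem ha hb, fun t ht => ?_⟩
        rw [← mul_assoc, ha' t ht, mul_assoc, hb' t ht, ← mul_assoc]
      one_mem' := ⟨N.one_mem, fun t _ => by simp⟩
      inv_mem' := by
        rintro a ⟨ha, ha'⟩
        refine ⟨N.inv_mem ha, fun t ht => ?_⟩
        rw [mul_inv_eq_iff_eq_mul, mul_assoc, ha' t ht, inv_mul_cancel_left] }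
  have hZNn : ZN.Normal := by
    constructor
    rintro x ⟨hx, hx'⟩ g
    refine ⟨hN.normal.conj_mem x hx g, fun t ht => ?_⟩
    have h1 : g⁻¹ * t * g ∈ N := by
      have := hN.normal.conj_mem t ht g⁻¹
      simpa using this
    have h2 := hx' _ h1
    calc t * (g * x * g⁻¹) = g * ((g⁻¹ * t * g) * x) * g⁻¹ := by group
      _ = g * (x * (g⁻¹ * t * g)) * g⁻¹ := by rw [h2]
      _ = g * x * g⁻¹ * t := by group
  rcases hN.min ZN hZNn (fun x hx => hx.1) with h1 | h1
  · intro x hx hx'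
    have : x ∈ ZN := ⟨hx, fun n hn => (hx' n hn).symm⟩
    rw [h1, Subgroup.mem_bot] at this
    exact this
  · exfalso
    apply hnc
    refine ⟨⟨fun a b => ?_⟩⟩
    have : (a : G) ∈ ZN := by rw [h1]; exact a.2
    exact Subtype.ext (this.2 b b.2).symm

/-- `T` is a simple direct factor of the nonabelian minimal normal subgroup `N`. -/
structure Factor (N T : Subgroup G) : Prop where
  ne_bot : T ≠ ⊥
  le : T ≤ N
  le_norm : N ≤ Subgroup.normalizer (T : Set G)
  inf_cent : ∀ x ∈ T, (∀ t ∈ T, x * t = t * x) → x = 1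
  conj : ∀ g : G, cj g T = T ∨ ∀ x ∈ cj g T, ∀ t ∈ T, x * t = t * x
  gen : ∀ L : Subgroup G, (∀ g : G, cj g T ≤ L) → N ≤ L
  decomp : ∀ n ∈ N, ∃ t ∈ T, ∃ c ∈ N, (∀ s ∈ T, c * s = s * c) ∧ n = t * c
  simple : ∀ L : Subgroup G, L ≤ T → (∀ t ∈ T, ∀ l ∈ L, t * l * t⁻¹ ∈ L) → L = ⊥ ∨ L = T

theorem exists_factor [Finite G] {N : Subgroup G} (hN : IsMin N) (hnc : ¬ IsMulCommutative N) :
    ∃ T : Subgroup G, Factor N T := by
  classical
  obtain ⟨T, hT⟩ := (Set.toFinite {T : Subgroup G | T ≠ ⊥ ∧ T ≤ N ∧ ∀ n ∈ N, ∀ t ∈ T, n * t * n⁻¹ ∈ T}).exists_minimal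
    ⟨N, hN.ne_bot, le_rfl, fun n hn t ht => N.mul_mem (N.mul_mem hn ht) (N.inv_mem hn)⟩
  obtain ⟨hT1, hTN, hTn⟩ := hT.prop
  have hmin : ∀ L : Subgroup G, L ≤ T → (∀ n ∈ N, ∀ l ∈ L, n * l * n⁻¹ ∈ L) → L = ⊥ ∨ L = T := by
    intro L hL hLn
    by_cases h : L = ⊥
    · exact Or.inl h
    · exact Or.inr (le_antisymm hL (hT.le_of_le ⟨h, hL.trans hTN, hLn⟩ hL))
  have hcjN : ∀ g : G, cj g T ≤ N := by
    intro g x hx
    rw [mem_cj] at hx
    have := hN.normal.conj_mem _ (hTN hx) g
    rwa [show g * (g⁻¹ * x * g) * g⁻¹ = x by group] at this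
  have hcjn : ∀ g : G, ∀ n ∈ N, ∀ t ∈ cj g T, n * t * n⁻¹ ∈ cj g T := by
    intro g n hn t ht
    rw [mem_cj] at ht ⊢
    have h1 : g⁻¹ * n * g ∈ N := by
      have := hN.normal.conj_mem n hn g⁻¹
      simpa using this
    have := hTn _ h1 _ ht
    rwa [show g⁻¹ * n * g * (g⁻¹ * t * g) * (g⁻¹ * n * g)⁻¹ = g⁻¹ * (n * t * n⁻¹) * g by group] at this
  have hconj : ∀ g : G, cj g T = T ∨ ∀ x ∈ cj g T, ∀ t ∈ T, x * t = t * x := by
    intro g
    rcases hmin (cj g T ⊓ T) inf_le_right (fun n hn l hl => ⟨hcjn g n hn l hl.1, hTn n hn l hl.2⟩) with h | h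
    · right
      intro x hx t ht
      have h1 : x * t * x⁻¹ * t⁻¹ ∈ cj g T ⊓ T := by
        refine ⟨?_, ?_⟩
        · have := hcjn g t (hTN ht) x⁻¹ ((cj g T).inv_mem hx)
          have := (cj g T).mul_mem hx this
          rwa [show x * (t * x⁻¹ * t⁻¹) = x * t * x⁻¹ * t⁻¹ by group] at this
        · exact T.mul_mem (hTn x (hcjN g hx) t ht) (T.inv_mem ht)
      rw [h, Subgroup.mem_bot, mul_inv_eq_one, mul_inv_eq_iff_eq_mul] at h1
      exact h1
    · left
      have hle : T ≤ cj g T := inf_eq_right.mp h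
      exact (Subgroup.eq_of_le_of_card_ge hle (by rw [card_cj])).symm
  have hgen : ∀ L : Subgroup G, (∀ g : G, cj g T ≤ L) → N ≤ L := by
    intro L hL
    have hnorm : (⨆ g : G, cj g T).Normal := by
      constructor
      intro x hx g
      have h1 : (⨆ g : G, cj g T) ≤ (⨆ g : G, cj g T).comap (MulAut.conj g).toMonoidHom := by
        conv_lhs => skip
        rw [iSup_le_iff]
        intro h y hy
        rw [Subgroup.mem_comap]
        have h2 : (MulAut.conj g).toMonoidHom y = g * y * g⁻¹ := by simp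
        rw [h2]
        have h3 : g * y * g⁻¹ ∈ cj (g * h) T := by
          rw [cj_mul]; exact conj_mem_cj hy
        exact (le_iSup (fun g : G => cj g T) (g * h)) h3
      have h4 := h1 hx
      rw [Subgroup.mem_comap] at h4
      simpa using h4
    have hle : (⨆ g : G, cj g T) ≤ N := iSup_le hcjN
    rcases hN.min _ hnorm hle with h | h
    · exfalso
      apply hT1
      rw [eq_bot_iff, ← h]
      have := le_iSup (fun g : G => cj g T) 1
      rwa [cj_one] at this
    · rw [← h]; exact iSup_le hL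
  -- trivial centre
  have hinf : ∀ x ∈ T, (∀ t ∈ T, x * t = t * x) → x = 1 := by
    let Z : Subgroup G :=
      { carrier := {x | x ∈ T ∧ ∀ t ∈ T, x * t = t * x}
        mul_mem' := by
          rintro a b ⟨ha, ha'⟩ ⟨hb, hb'⟩
          refine ⟨T.mul_mem ha hb, fun t ht => ?_⟩
          rw [mul_assoc, hb' t ht, ← mul_assoc, ha' t ht, mul_assoc]
        one_mem' := ⟨T.one_mem, fun t _ => by simp⟩
        inv_mem' := by
          rintro a ⟨ha, ha'⟩
          refine ⟨T.inv_mem ha, fun t ht => ?_⟩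
          rw [inv_mul_eq_iff_eq_mul, ← mul_assoc, ha' t ht, mul_inv_cancel_right] }
    have hZ : Z = ⊥ ∨ Z = T := by
      apply hmin Z (fun x hx => hx.1)
      rintro n hn x ⟨hx, hx'⟩
      refine ⟨hTn n hn x hx, fun t ht => ?_⟩
      have h1 : n⁻¹ * t * n ∈ T := by
        have := hTn n⁻¹ (N.inv_mem hn) t ht
        simpa using this
      have h2 := hx' _ h1
      calc n * x * n⁻¹ * t = n * (x * (n⁻¹ * t * n)) * n⁻¹ := by group
        _ = n * ((n⁻¹ * t * n) * x) * n⁻¹ := by rw [h2]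
        _ = t * (n * x * n⁻¹) := by group
    rcases hZ with h | h
    · intro x hx hx'
      have : x ∈ Z := ⟨hx, hx'⟩
      rw [h, Subgroup.mem_bot] at this
      exact this
    · exfalso
      -- T abelian, so T is central in N and N is abelian
      have hab : ∀ x ∈ T, ∀ t ∈ T, x * t = t * x := by
        intro x hx t ht
        rw [← h] at hx
        exact hx.2 t ht
      have hcen : ∀ t ∈ T, ∀ n ∈ N, n * t = t * n := by
        intro t ht
        have : N ≤ Subgroup.centralizer ({t} : Set G) := by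
          apply hgen
          intro g x hx
          rw [Subgroup.mem_centralizer_iff]
          intro y hy
          rw [Set.mem_singleton_iff] at hy
          subst hy
          rcases hconj g with h1 | h1
          · rw [h1] at hx; exact (hab x hx y ht).symm
          · exact (h1 x hx y ht).symm
        intro n hn
        exact ((Subgroup.mem_centralizer_iff.mp (this hn)) t rfl).symm
      let ZN : Subgroup G :=
        { carrier := {x | x ∈ N ∧ ∀ t ∈ N, t * x = x * t}
          mul_mem' := by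
            rintro a b ⟨ha, ha'⟩ ⟨hb, hb'⟩
            refine ⟨N.mul_mem ha hb, fun t ht => ?_⟩
            rw [← mul_assoc, ha' t ht, mul_assoc, hb' t ht, ← mul_assoc]
          one_mem' := ⟨N.one_mem, fun t _ => by simp⟩
          inv_mem' := by
            rintro a ⟨ha, ha'⟩
            refine ⟨N.inv_mem ha, fun t ht => ?_⟩
            rw [mul_inv_eq_iff_eq_mul, mul_assoc, ha' t ht, inv_mul_cancel_left] }
      have hZNn : ZN.Normal := by
        constructor
        rintro x ⟨hx, hx'⟩ g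
        refine ⟨hN.normal.conj_mem x hx g, fun t ht => ?_⟩
        have h1 : g⁻¹ * t * g ∈ N := by
          have := hN.normal.conj_mem t ht g⁻¹
          simpa using this
        have h2 := hx' _ h1
        calc t * (g * x * g⁻¹) = g * ((g⁻¹ * t * g) * x) * g⁻¹ := by group
          _ = g * (x * (g⁻¹ * t * g)) * g⁻¹ := by rw [h2]
          _ = g * x * g⁻¹ * t := by group
      rcases hN.min ZN hZNn (fun x hx => hx.1) with h1 | h1
      · apply hT1
        rw [eq_bot_iff, ← h1]
        intro t ht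
        exact ⟨hTN ht, fun n hn => hcen t ht n hn⟩
      · apply hnc
        refine ⟨⟨fun a b => ?_⟩⟩
        have : (a : G) ∈ ZN := by rw [h1]; exact a.2
        exact Subtype.ext (this.2 b b.2).symm
  have hdec : ∀ n ∈ N, ∃ t ∈ T, ∃ c ∈ N, (∀ s ∈ T, c * s = s * c) ∧ n = t * c := by
    let L : Subgroup G :=
      { carrier := {n | ∃ t ∈ T, ∃ c ∈ N, (∀ s ∈ T, c * s = s * c) ∧ n = t * c}
        mul_mem' := by
          rintro a b ⟨t, ht, c, hc, hcs, rfl⟩ ⟨t', ht', c', hc', hcs', rfl⟩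
          refine ⟨t * t', T.mul_mem ht ht', c * c', N.mul_mem hc hc', fun s hs => ?_, ?_⟩
          · rw [mul_assoc, hcs' s hs, ← mul_assoc, hcs s hs, mul_assoc]
          · calc t * c * (t' * c') = t * (c * t') * c' := by group
              _ = t * (t' * c) * c' := by rw [hcs t' ht']
              _ = t * t' * (c * c') := by group
        one_mem' := ⟨1, T.one_mem, 1, N.one_mem, fun s _ => by simp, by simp⟩
        inv_mem' := by
          rintro a ⟨t, ht, c, hc, hcs, rfl⟩
          refine ⟨t⁻¹, T.inv_mem ht, c⁻¹, N.inv_mem hc, fun s hs => ?_, ?_⟩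
          · rw [inv_mul_eq_iff_eq_mul, ← mul_assoc, hcs s hs, mul_inv_cancel_right]
          · rw [← mul_inv_rev, hcs t ht] }
    intro n hn
    have hle : N ≤ L := by
      apply hgen
      intro g x hx
      rcases hconj g with h1 | h1
      · rw [h1] at hx
        exact ⟨x, hx, 1, N.one_mem, fun s _ => by simp, by simp⟩
      · exact ⟨1, T.one_mem, x, hcjN g hx, fun s hs => h1 x hx s hs, by simp⟩
    exact hle hn
  refine ⟨T, hT1, hTN, ?_, hinf, hconj, hgen, hdec, ?_⟩
  · intro n hn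
    rw [Subgroup.mem_normalizer_iff]
    intro x
    constructor
    · exact hTn n hn x
    · intro h
      have := hTn n⁻¹ (N.inv_mem hn) _ h
      simpa [mul_assoc] using this
  · intro L hL hLn
    apply hmin L hL
    intro n hn l hl
    obtain ⟨t, ht, c, hc, hcs, rfl⟩ := hdec n hn
    have : t * c * l * (t * c)⁻¹ = t * l * t⁻¹ := by
      calc t * c * l * (t * c)⁻¹ = t * (c * l) * c⁻¹ * t⁻¹ := by group
        _ = t * (l * c) * c⁻¹ * t⁻¹ := by rw [hcs l (hL hl)]
        _ = t * l * t⁻¹ := by group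
    rw [this]
    exact hLn t ht l hl

end Cfsg.Agent.Lib.MinFactor
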