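import Cfsg.Agent.Lib.TwD4End
import Cfsg.Agent.Lib.UCETrip
import Cfsg.Agent.Lib.UCELift

/-!
Root elements of the groups 3D4(q): relations (helper18).
-/

set_option autoImplicit false
set_option linter.unusedSectionVars false

namespace Cfsg.Agent.Lib.MinTD4A

open Cfsg.Lie Cfsg.Agent.Lib.ChevGood Cfsg.Agent.Lib.ChevRel Cfsg.Agent.Lib.ChevX Cfsg.Agent.Lib.UCEPair
open Cfsg.Agent.Lib.UCEBase Cfsg.Agent.Lib.UCESys Cfsg.Agent.Lib.UCELift Cfsg.Agent.Lib.UCESymbol Cfsg.Agent.Lib.UCETrip
open Cfsg.Agent.Lib.TwFix Cfsg.Agent.Lib.TwTab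

noncomputable abbrev G : Good chevD4 := ChevOkD4.good

section conj

variable {K : Type*} [Field K] {Q : Type*} [Group Q] (R : RSys chevD4 K Q)

/-- conjugation -/
theorem cj {s r k : Fin chevD4.nroots} {n : K} (h : AA chevD4 K s r k n) (a b : K) :
    R.x s a * R.x r b * (R.x s a)⁻¹ = R.x r b * R.x k (n * a * b) := by
  have h1 := AA_cm G pairOK_D4 R h (-a) (-b)
  have h2 : n * -a * -b = n * a * b := by ring
  rw [h2] at h1
  have hinv : ∀ r < chevD4.nroots, ∀ t, (R.x r t)⁻¹ = R.x r (-t) := by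
    intro r hr t
    rw [inv_eq_iff_mul_eq_one, R.add r hr, add_neg_cancel]
    have := R.add r hr 0 0
    rw [add_zero] at this
    exact mul_eq_left.mp this
  unfold cm at h1
  rw [hinv s s.2, hinv r r.2, neg_neg, neg_neg] at h1
  have h3 : R.x r b * R.x k (n * a * b) = R.x k (n * a * b) * R.x r b := by
    apply CC_comm G pairOK_D4 R
    have := (AA_pr G pairOK_D4 h).2.2.1
    unfold CC; omega
  rw [h3, ← h1, hinv s s.2]
  have h4 : R.x r (-b) * R.x r b = 1 := by rw [← hinv r r.2, inv_mul_cancel]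
  have h5 : R.x s a * R.x r b * R.x s (-a) * R.x r (-b) * R.x r b = R.x s a * R.x r b * R.x s (-a) * (R.x r (-b) * R.x r b) := by
    group
  rw [h5, h4, mul_one]

theorem aa {a b k : ℕ} {M : ℤ} (h : chevD4.chainEntry b a = [(k, M)]) (ha : a < chevD4.nroots) (hb : b < chevD4.nroots)
    (hk : k < chevD4.nroots) : AA chevD4 K ⟨a, ha⟩ ⟨b, hb⟩ ⟨k, hk⟩ (-(M : K)) := ⟨M, h, rfl⟩

theorem cc {a b : ℕ} (h : 0 ≤ pr chevD4 a b) (ha : a < chevD4.nroots) (hb : b < chevD4.nroots) (t u : K) :
    Commute (R.x a t) (R.x b u) := CC_comm G pairOK_D4 R (a := ⟨a, ha⟩) (b := ⟨b, hb⟩) h t u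

end conj

/-! ### the Frobenius endomorphism on the root elements -/

section sigma

variable {K : Type*} [Field K] [Fintype K] {q : ℕ} (hq : IsPrimePow q) (hK : Fintype.card K = q ^ 3)

/-- the root elements of `D4(K)` -/
noncomputable abbrev R (K : Type*) [Field K] : RSys chevD4 K (chevD4.group K) := stdSys G K

theorem R_X {r : ℕ} (hr : r < chevD4.nroots) (t : K) : (R K).x r t = X G K r t := by
  apply Subtype.ext
  rw [stdSys_coe G K hr]
  rfl

/-- the endomorphism -/
noncomputable def sg : chevD4.group K →* chevD4.group K := (TwD4.sig hq hK).σ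

include hq hK in
theorem neg_pow (t : K) : (-t) ^ q = -(t ^ q) := by
  rw [← TwD4.frob_eq hq hK, ← TwD4.frob_eq hq hK, map_neg]

include hq hK in
theorem add_pow (t u : K) : (t + u) ^ q = t ^ q + u ^ q := by
  rw [← TwD4.frob_eq hq hK, ← TwD4.frob_eq hq hK, ← TwD4.frob_eq hq hK, map_add]

theorem simple_p (i : ℕ) (hi : i < 4) : chevD4.simple i = [18, 14, 13, 12].getD i 0 ∧
    chevD4.simple (tabD4.p i) = [13, 14, 12, 18].getD i 0 ∧ chevD4.neg (chevD4.simple i) = [5, 9, 10, 11].getD i 0 ∧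
    chevD4.neg (chevD4.simple (tabD4.p i)) = [10, 9, 11, 5].getD i 0 := by
  revert i
  decide

theorem lt_p (i : ℕ) (hi : i < 4) : ([18, 14, 13, 12].getD i 0) < chevD4.nroots ∧
    ([13, 14, 12, 18].getD i 0) < chevD4.nroots := by
  revert i
  decide

theorem lt_n (i : ℕ) (hi : i < 4) : ([5, 9, 10, 11].getD i 0) < chevD4.nroots ∧
    ([10, 9, 11, 5].getD i 0) < chevD4.nroots := by
  revert i
  decide

theorem s_pos (i : ℕ) (hi : i < 4) (t : K) :
    sg hq hK ((R K).x ([18, 14, 13, 12].getD i 0) t) = (R K).x ([13, 14, 12, 18].getD i 0) (t ^ q) := by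
  have h := (TwD4.sig hq hK).σp i hi t
  have hlt := lt_p i hi
  rw [R_X hlt.1, R_X hlt.2, ← (simple_p i hi).1, ← (simple_p i hi).2.1]
  exact h

theorem s_neg (i : ℕ) (hi : i < 4) (t : K) :
    sg hq hK ((R K).x ([5, 9, 10, 11].getD i 0) t) = (R K).x ([10, 9, 11, 5].getD i 0) (t ^ q) := by
  have h := (TwD4.sig hq hK).σm i hi t
  have hlt := lt_n i hi
  rw [R_X hlt.1, R_X hlt.2, ← (simple_p i hi).2.2.1, ← (simple_p i hi).2.2.2]
  exact h

/-- the image of a sum -/
theorem s_add {a b k a' b' k' : ℕ} {M M' : ℤ} (h : chevD4.chainEntry b a = [(k, M)]) (h' : chevD4.chainEntry b' a' = [(k', M')])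
    (ha : a < chevD4.nroots) (hb : b < chevD4.nroots) (hk : k < chevD4.nroots)
    (ha' : a' < chevD4.nroots) (hb' : b' < chevD4.nroots) (hk' : k' < chevD4.nroots) (hM : M = 1 ∨ M = -1) {e f : ℤ}
    (h1 : ∀ t : K, sg hq hK ((R K).x a t) = (R K).x a' (e * t ^ q)) (h2 : ∀ t : K, sg hq hK ((R K).x b t) = (R K).x b' (f * t ^ q))
    (t : K) : sg hq hK ((R K).x k t) = (R K).x k' (((M * M' * e * f : ℤ) : K) * t ^ q) := by
  have hMK : (M : K) = 1 ∨ (M : K) = -1 := by rcases hM with rfl | rfl <;> simp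
  have hMM : (M : K) * M = 1 := by rcases hMK with h | h <;> rw [h] <;> ring
  have hMq : (-(M : K) * t) ^ q = -(M : K) * t ^ q := by
    rcases hMK with h | h
    · rw [h, neg_one_mul, neg_pow hq hK, neg_one_mul]
    · rw [h, _root_.neg_neg, one_mul, one_mul]
  have e1 := AA_cm G pairOK_D4 (R K) (aa (K := K) h ha hb hk) (-(M : K) * t) 1
  have e2 := AA_cm G pairOK_D4 (R K) (aa (K := K) h' ha' hb' hk') ((e : K) * (-(M : K) * t) ^ q) ((f : K) * 1 ^ q)
  change cm ((R K).x a _) ((R K).x b 1) = (R K).x k _ at e1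
  change cm ((R K).x a' _) ((R K).x b' _) = (R K).x k' _ at e2
  have e3 : -(M : K) * (-(M : K) * t) * 1 = t := by linear_combination t * hMM
  rw [e3] at e1
  rw [← e1]
  have e4 : sg hq hK (cm ((R K).x a (-(M : K) * t)) ((R K).x b 1)) =
      cm ((R K).x a' ((e : K) * (-(M : K) * t) ^ q)) ((R K).x b' ((f : K) * 1 ^ q)) := by
    unfold cm
    rw [map_mul, map_mul, map_mul, map_inv, map_inv, h1, h2]
  rw [e4, e2, hMq, one_pow]
  congr 1
  push_cast
  ring

theorem s18 (t : K) : sg hq hK ((R K).x 18 t) = (R K).x 13 (((1 : ℤ) : K) * t ^ q) := by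
  rw [Int.cast_one, one_mul]; exact s_pos hq hK 0 (by norm_num) t
theorem s14 (t : K) : sg hq hK ((R K).x 14 t) = (R K).x 14 (((1 : ℤ) : K) * t ^ q) := by
  rw [Int.cast_one, one_mul]; exact s_pos hq hK 1 (by norm_num) t
theorem s13 (t : K) : sg hq hK ((R K).x 13 t) = (R K).x 12 (((1 : ℤ) : K) * t ^ q) := by
  rw [Int.cast_one, one_mul]; exact s_pos hq hK 2 (by norm_num) t
theorem s12 (t : K) : sg hq hK ((R K).x 12 t) = (R K).x 18 (((1 : ℤ) : K) * t ^ q) := by
  rw [Int.cast_one, one_mul]; exact s_pos hq hK 3 (by norm_num) t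
theorem s5 (t : K) : sg hq hK ((R K).x 5 t) = (R K).x 10 (((1 : ℤ) : K) * t ^ q) := by
  rw [Int.cast_one, one_mul]; exact s_neg hq hK 0 (by norm_num) t
theorem s9 (t : K) : sg hq hK ((R K).x 9 t) = (R K).x 9 (((1 : ℤ) : K) * t ^ q) := by
  rw [Int.cast_one, one_mul]; exact s_neg hq hK 1 (by norm_num) t
theorem s10 (t : K) : sg hq hK ((R K).x 10 t) = (R K).x 11 (((1 : ℤ) : K) * t ^ q) := by
  rw [Int.cast_one, one_mul]; exact s_neg hq hK 2 (by norm_num) t
theorem s11 (t : K) : sg hq hK ((R K).x 11 t) = (R K).x 5 (((1 : ℤ) : K) * t ^ q) := by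
  rw [Int.cast_one, one_mul]; exact s_neg hq hK 3 (by norm_num) t

theorem s19 (t : K) : sg hq hK ((R K).x 19 t) = (R K).x 16 ((((-1 : ℤ)) : K) * t ^ q) := by
  have h := s_add hq hK (a := 18) (b := 14) (k := 19) (a' := 13) (b' := 14) (k' := 16) (M := 1) (M' := -1)
    (by decide +kernel) (by decide +kernel) (by decide) (by decide) (by decide) (by decide) (by decide) (by decide) (by norm_num)
    (s18 hq hK) (s14 hq hK) t
  rw [h]; norm_num
theorem s16 (t : K) : sg hq hK ((R K).x 16 t) = (R K).x 15 ((((1 : ℤ)) : K) * t ^ q) := by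
  have h := s_add hq hK (a := 13) (b := 14) (k := 16) (a' := 12) (b' := 14) (k' := 15) (M := -1) (M' := -1)
    (by decide +kernel) (by decide +kernel) (by decide) (by decide) (by decide) (by decide) (by decide) (by decide) (by norm_num)
    (s13 hq hK) (s14 hq hK) t
  rw [h]; norm_num
theorem s15 (t : K) : sg hq hK ((R K).x 15 t) = (R K).x 19 ((((-1 : ℤ)) : K) * t ^ q) := by
  have h := s_add hq hK (a := 12) (b := 14) (k := 15) (a' := 18) (b' := 14) (k' := 19) (M := -1) (M' := 1)
    (by decide +kernel) (by decide +kernel) (by decide) (by decide) (by decide) (by decide) (by decide) (by decide) (by norm_num)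
    (s12 hq hK) (s14 hq hK) t
  rw [h]; norm_num
theorem s21 (t : K) : sg hq hK ((R K).x 21 t) = (R K).x 17 ((((-1 : ℤ)) : K) * t ^ q) := by
  have h := s_add hq hK (a := 18) (b := 16) (k := 21) (a' := 13) (b' := 15) (k' := 17) (M := 1) (M' := -1)
    (by decide +kernel) (by decide +kernel) (by decide) (by decide) (by decide) (by decide) (by decide) (by decide) (by norm_num)
    (s18 hq hK) (s16 hq hK) t
  rw [h]; norm_num
theorem s20 (t : K) : sg hq hK ((R K).x 20 t) = (R K).x 21 ((((1 : ℤ)) : K) * t ^ q) := by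
  have h := s_add hq hK (a := 18) (b := 15) (k := 20) (a' := 13) (b' := 19) (k' := 21) (M := 1) (M' := -1)
    (by decide +kernel) (by decide +kernel) (by decide) (by decide) (by decide) (by decide) (by decide) (by decide) (by norm_num)
    (s18 hq hK) (s15 hq hK) t
  rw [h]; norm_num
theorem s17 (t : K) : sg hq hK ((R K).x 17 t) = (R K).x 20 ((((-1 : ℤ)) : K) * t ^ q) := by
  have h := s_add hq hK (a := 13) (b := 15) (k := 17) (a' := 12) (b' := 19) (k' := 20) (M := -1) (M' := -1)
    (by decide +kernel) (by decide +kernel) (by decide) (by decide) (by decide) (by decide) (by decide) (by decide) (by norm_num)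
    (s13 hq hK) (s15 hq hK) t
  rw [h]; norm_num
theorem s22 (t : K) : sg hq hK ((R K).x 22 t) = (R K).x 22 ((((1 : ℤ)) : K) * t ^ q) := by
  have h := s_add hq hK (a := 18) (b := 17) (k := 22) (a' := 13) (b' := 20) (k' := 22) (M := 1) (M' := -1)
    (by decide +kernel) (by decide +kernel) (by decide) (by decide) (by decide) (by decide) (by decide) (by decide) (by norm_num)
    (s18 hq hK) (s17 hq hK) t
  rw [h]; norm_num
theorem s23 (t : K) : sg hq hK ((R K).x 23 t) = (R K).x 23 ((((1 : ℤ)) : K) * t ^ q) := by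
  have h := s_add hq hK (a := 14) (b := 22) (k := 23) (a' := 14) (b' := 22) (k' := 23) (M := -1) (M' := -1)
    (by decide +kernel) (by decide +kernel) (by decide) (by decide) (by decide) (by decide) (by decide) (by decide) (by norm_num)
    (s14 hq hK) (s22 hq hK) t
  rw [h]; norm_num
theorem s4 (t : K) : sg hq hK ((R K).x 4 t) = (R K).x 7 ((((-1 : ℤ)) : K) * t ^ q) := by
  have h := s_add hq hK (a := 5) (b := 9) (k := 4) (a' := 10) (b' := 9) (k' := 7) (M := -1) (M' := 1)
    (by decide +kernel) (by decide +kernel) (by decide) (by decide) (by decide) (by decide) (by decide) (by decide) (by norm_num)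
    (s5 hq hK) (s9 hq hK) t
  rw [h]; norm_num
theorem s7 (t : K) : sg hq hK ((R K).x 7 t) = (R K).x 8 ((((1 : ℤ)) : K) * t ^ q) := by
  have h := s_add hq hK (a := 10) (b := 9) (k := 7) (a' := 11) (b' := 9) (k' := 8) (M := 1) (M' := 1)
    (by decide +kernel) (by decide +kernel) (by decide) (by decide) (by decide) (by decide) (by decide) (by decide) (by norm_num)
    (s10 hq hK) (s9 hq hK) t
  rw [h]; norm_num
theorem s8 (t : K) : sg hq hK ((R K).x 8 t) = (R K).x 4 ((((-1 : ℤ)) : K) * t ^ q) := by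
  have h := s_add hq hK (a := 11) (b := 9) (k := 8) (a' := 5) (b' := 9) (k' := 4) (M := 1) (M' := -1)
    (by decide +kernel) (by decide +kernel) (by decide) (by decide) (by decide) (by decide) (by decide) (by decide) (by norm_num)
    (s11 hq hK) (s9 hq hK) t
  rw [h]; norm_num
theorem s2 (t : K) : sg hq hK ((R K).x 2 t) = (R K).x 6 ((((-1 : ℤ)) : K) * t ^ q) := by
  have h := s_add hq hK (a := 5) (b := 7) (k := 2) (a' := 10) (b' := 8) (k' := 6) (M := -1) (M' := 1)
    (by decide +kernel) (by decide +kernel) (by decide) (by decide) (by decide) (by decide) (by decide) (by decide) (by norm_num)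
    (s5 hq hK) (s7 hq hK) t
  rw [h]; norm_num
theorem s3 (t : K) : sg hq hK ((R K).x 3 t) = (R K).x 2 ((((1 : ℤ)) : K) * t ^ q) := by
  have h := s_add hq hK (a := 5) (b := 8) (k := 3) (a' := 10) (b' := 4) (k' := 2) (M := -1) (M' := 1)
    (by decide +kernel) (by decide +kernel) (by decide) (by decide) (by decide) (by decide) (by decide) (by decide) (by norm_num)
    (s5 hq hK) (s8 hq hK) t
  rw [h]; norm_num
theorem s6 (t : K) : sg hq hK ((R K).x 6 t) = (R K).x 3 ((((-1 : ℤ)) : K) * t ^ q) := by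
  have h := s_add hq hK (a := 10) (b := 8) (k := 6) (a' := 11) (b' := 4) (k' := 3) (M := 1) (M' := 1)
    (by decide +kernel) (by decide +kernel) (by decide) (by decide) (by decide) (by decide) (by decide) (by decide) (by norm_num)
    (s10 hq hK) (s8 hq hK) t
  rw [h]; norm_num
theorem s1 (t : K) : sg hq hK ((R K).x 1 t) = (R K).x 1 ((((1 : ℤ)) : K) * t ^ q) := by
  have h := s_add hq hK (a := 5) (b := 6) (k := 1) (a' := 10) (b' := 3) (k' := 1) (M := -1) (M' := 1)
    (by decide +kernel) (by decide +kernel) (by decide) (by decide) (by decide) (by decide) (by decide) (by decide) (by norm_num)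
    (s5 hq hK) (s6 hq hK) t
  rw [h]; norm_num
theorem s0 (t : K) : sg hq hK ((R K).x 0 t) = (R K).x 0 ((((1 : ℤ)) : K) * t ^ q) := by
  have h := s_add hq hK (a := 9) (b := 1) (k := 0) (a' := 9) (b' := 1) (k' := 0) (M := 1) (M' := 1)
    (by decide +kernel) (by decide +kernel) (by decide) (by decide) (by decide) (by decide) (by decide) (by decide) (by norm_num)
    (s9 hq hK) (s1 hq hK) t
  rw [h]; norm_num

end sigma

end Cfsg.Agent.Lib.MinTD4A
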