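import Cfsg.Agent.Lib.TwField

/-!
Norm and trace for the extension of degree three of a finite field (helper18).
-/

set_option autoImplicit false
set_option linter.unusedSectionVars false

namespace Cfsg.Agent.Lib.MinTD4B

open Polynomial

variable {K : Type*} [Field K] [Fintype K] {q : ℕ} (hq : IsPrimePow q) (hK : Fintype.card K = q ^ 3)

/-- the sum of the values of a monic polynomial of degree `|K| - 1` -/
theorem sum_eval_monic {P : K[X]} (hP : P.Monic) (hd : P.natDegree = Fintype.card K - 1) : ∑ t : K, P.eval t = -1 := by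
  classical
  have hK1 : 1 < Fintype.card K := Fintype.one_lt_card
  have h1 : ∀ t : K, P.eval t = ∑ i ∈ Finset.range (Fintype.card K - 1), P.coeff i * t ^ i + t ^ (Fintype.card K - 1) := by
    intro t
    have h2 := P.eval_eq_sum_range t
    rw [h2, Finset.sum_range_succ, hd]
    congr 1
    have h3 : P.coeff (Fintype.card K - 1) = 1 := by rw [← hd]; exact hP
    rw [h3, one_mul]
  have h4 : ∑ t : K, t ^ (Fintype.card K - 1) = -1 := by
    have h5 : ∀ t ∈ (Finset.univ : Finset K), t ^ (Fintype.card K - 1) = 1 - if t = 0 then 1 else 0 := by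
      intro t _
      split_ifs with h
      · rw [h, zero_pow (by omega), sub_self]
      · rw [FiniteField.pow_card_sub_one_eq_one t h, sub_zero]
    rw [Finset.sum_congr rfl h5, Finset.sum_sub_distrib, Finset.sum_const, nsmul_one, Finset.card_univ,
      FiniteField.cast_card_eq_zero, Finset.sum_ite_eq', if_pos (Finset.mem_univ _), zero_sub]
  rw [Finset.sum_congr rfl (fun t _ => h1 t), Finset.sum_add_distrib, h4, Finset.sum_comm]
  have h6 : ∀ i ∈ Finset.range (Fintype.card K - 1), ∑ t : K, P.coeff i * t ^ i = 0 := by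
    intro i hi
    rw [← Finset.mul_sum, FiniteField.sum_pow_lt_card_sub_one K i (Finset.mem_range.mp hi), mul_zero]
  rw [Finset.sum_congr rfl h6, Finset.sum_const_zero, zero_add]

include hq hK

theorem pow_add' (t u : K) : (t + u) ^ q = t ^ q + u ^ q := by
  obtain ⟨φ, hφ⟩ := TwField.exists_frob hq hK
  rw [← hφ, ← hφ, ← hφ, map_add]

theorem pow3 (t : K) : ((t ^ q) ^ q) ^ q = t := by
  have := TwField.pow_pow_card hK t
  rw [← pow_mul, ← pow_mul]
  convert this using 2
  ring

/-- the norm form plus a trace form represents every element of the small field -/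
theorem exists_zero {β α : K} (hβ : β ^ q = β) :
    ∃ t : K, β + (α * t + (α * t) ^ q + ((α * t) ^ q) ^ q) + t * t ^ q * (t ^ q) ^ q = 0 := by
  classical
  have h2 : 2 ≤ q := hq.two_le
  by_contra hcon
  push Not at hcon
  let L : K[X] := C β + C α * X + C (α ^ q) * X ^ q + C ((α ^ q) ^ q) * X ^ (q * q)
  let B : K[X] := X ^ (1 + q + q * q) + L
  have hL : L.degree < (1 + q + q * q : ℕ) := by
    have hq0 : 1 ≤ q * q := Nat.one_le_iff_ne_zero.mpr (by positivity)
    have hqq : q ≤ q * q := Nat.le_mul_of_pos_left q (by omega)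
    have e : L.natDegree ≤ q * q := by
      refine natDegree_add_le_of_degree_le (natDegree_add_le_of_degree_le (natDegree_add_le_of_degree_le ?_ ?_) ?_) ?_
      · rw [natDegree_C]; omega
      · exact (natDegree_C_mul_le α X).trans (by rw [natDegree_X]; omega)
      · exact (natDegree_C_mul_X_pow_le _ _).trans hqq
      · exact natDegree_C_mul_X_pow_le _ _
    refine lt_of_le_of_lt (degree_le_of_natDegree_le e) ?_
    exact_mod_cast (by omega : q * q < 1 + q + q * q)
  have hB : B.Monic := monic_X_pow_add hL
  have hBd : B.natDegree = 1 + q + q * q := by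
    have h3 : B.degree = (1 + q + q * q : ℕ) := by
      show (X ^ (1 + q + q * q) + L).degree = _
      rw [degree_add_eq_left_of_degree_lt (by rw [degree_X_pow]; exact hL), degree_X_pow]
    exact natDegree_eq_of_degree_eq_some h3
  have hs := sum_eval_monic (P := B ^ (q - 1)) (hB.pow _) (by
    rw [hB.natDegree_pow, hBd, hK]
    obtain ⟨y, rfl⟩ := Nat.exists_eq_add_of_le' h2
    show (y + 1) * _ = _
    rw [eq_comm, Nat.sub_eq_iff_eq_add (Nat.one_le_pow _ _ (by omega))]
    ring)
  have hev : ∀ t : K, B.eval t = β + (α * t + (α * t) ^ q + ((α * t) ^ q) ^ q) + t * t ^ q * (t ^ q) ^ q := by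
    intro t
    show (X ^ (1 + q + q * q) + L).eval t = _
    simp only [eval_add, eval_pow, eval_X, L, eval_C, eval_mul]
    rw [mul_pow, mul_pow, pow_add, pow_add, pow_one, pow_mul]
    ring
  have hfix : ∀ t : K, (B.eval t) ^ q = B.eval t := by
    intro t
    rw [hev, pow_add' hq hK, pow_add' hq hK, pow_add' hq hK, pow_add' hq hK, pow3 hq hK, hβ]
    simp only [mul_pow, pow3 hq hK]
    ring
  have hone : ∀ t ∈ (Finset.univ : Finset K), (B ^ (q - 1)).eval t = 1 := by
    intro t _
    have h3 : B.eval t ≠ 0 := by rw [hev]; exact hcon t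
    rw [eval_pow]
    have h4 := hfix t
    have h5 : q = q - 1 + 1 := by omega
    rw [h5, pow_succ] at h4
    exact mul_right_cancel₀ h3 (by rw [one_mul]; exact h4)
  rw [Finset.sum_congr rfl hone, Finset.sum_const, nsmul_one, Finset.card_univ, FiniteField.cast_card_eq_zero] at hs
  exact one_ne_zero (neg_eq_zero.mp hs.symm)

/-- the trace is not zero -/
theorem exists_trace_ne : ∃ t : K, t + t ^ q + (t ^ q) ^ q ≠ 0 := by
  classical
  have h2 : 2 ≤ q := hq.two_le
  by_contra hcon
  push Not at hcon
  let L : K[X] := X ^ (q * q) + (X + X ^ q)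
  have hqq : q < q * q := by nlinarith
  have hd : (X + X ^ q : K[X]).degree < (q * q : ℕ) := by
    have e : (X + X ^ q : K[X]).natDegree ≤ q := by
      refine natDegree_add_le_of_degree_le ?_ ?_
      · rw [natDegree_X]; omega
      · rw [natDegree_X_pow]
    exact lt_of_le_of_lt (degree_le_of_natDegree_le e) (by exact_mod_cast hqq)
  have hL : L.Monic := monic_X_pow_add hd
  have hLd : L.natDegree = q * q := by
    have h3 : L.degree = (q * q : ℕ) := by
      show (X ^ (q * q) + (X + X ^ q)).degree = _
      rw [degree_add_eq_left_of_degree_lt (by rw [degree_X_pow]; exact hd), degree_X_pow]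
    exact natDegree_eq_of_degree_eq_some h3
  have h0 : ∀ t ∈ (Finset.univ : Finset K), L.IsRoot t := by
    intro t _
    show (X ^ (q * q) + (X + X ^ q) : K[X]).eval t = 0
    simp only [eval_add, eval_pow, eval_X]
    have := hcon t
    rw [pow_mul]
    linear_combination this
  have h3 := Polynomial.card_le_degree_of_subset_roots (p := L) (Z := Finset.univ) (by
    intro t _
    rw [mem_roots hL.ne_zero]
    exact h0 t (Finset.mem_univ _))
  rw [Finset.card_univ, hK, hLd] at h3
  have : q * q < q ^ 3 := by nlinarith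
  omega

end Cfsg.Agent.Lib.MinTD4B
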