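import Cfsg.Agent.Lib.MinTD4A
import Cfsg.Agent.Lib.MinTD4B

/-!
Root elements of the groups 3D4(q): the relations between the fixed elements (helper18).
-/

set_option autoImplicit false
set_option linter.unusedSectionVars false

namespace Cfsg.Agent.Lib.MinTD4C

open Cfsg.Lie Cfsg.Agent.Lib.ChevGood Cfsg.Agent.Lib.ChevRel Cfsg.Agent.Lib.ChevX Cfsg.Agent.Lib.UCEPair
open Cfsg.Agent.Lib.UCEBase Cfsg.Agent.Lib.UCESys Cfsg.Agent.Lib.UCELift Cfsg.Agent.Lib.UCESymbol Cfsg.Agent.Lib.UCETrip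
open Cfsg.Agent.Lib.TwFix Cfsg.Agent.Lib.TwTab Cfsg.Agent.Lib.MinTD4A

section free

variable {K : Type*} [Field K]

/-- root elements -/
noncomputable abbrev x (r : ℕ) (t : K) : chevD4.group K := (R K).x r t

theorem xinv {r : ℕ} (hr : r < chevD4.nroots) (t : K) : (x r t)⁻¹ = x r (-t) := by
  rw [inv_eq_iff_mul_eq_one, (R K).add r hr, add_neg_cancel]
  have := (R K).add r hr 0 0
  rw [add_zero] at this
  exact mul_eq_left.mp this

theorem xadd {r : ℕ} (hr : r < chevD4.nroots) (t u : K) : x r t * x r u = x r (t + u) := (R K).add r hr t u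

theorem cjx {s r k : ℕ} {M : ℤ} (h : chevD4.chainEntry r s = [(k, M)]) (hs : s < chevD4.nroots) (hr : r < chevD4.nroots)
    (hk : k < chevD4.nroots) (a b : K) : x s a * x r b * (x s a)⁻¹ = x r b * x k (-(M : K) * a * b) :=
  cj (R K) (aa (K := K) h hs hr hk) a b

theorem cix {s r k : ℕ} {M : ℤ} (h : chevD4.chainEntry r s = [(k, M)]) (hs : s < chevD4.nroots) (hr : r < chevD4.nroots)
    (hk : k < chevD4.nroots) (a b : K) : (x s a)⁻¹ * x r b * x s a = x r b * x k ((M : K) * a * b) := by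
  have h1 := cjx h hs hr hk (-a) b
  rw [← xinv hs, inv_inv] at h1
  rw [h1]
  congr 2
  ring

theorem ccx {a b : ℕ} (h : 0 ≤ pr chevD4 a b) (ha : a < chevD4.nroots) (hb : b < chevD4.nroots) (t u : K) :
    Commute (x a t) (x b u) := cc (R K) h ha hb t u

theorem cic {s r : ℕ} (h : 0 ≤ pr chevD4 s r) (hs : s < chevD4.nroots) (hr : r < chevD4.nroots) (a b : K) :
    (x s a)⁻¹ * x r b * x s a = x r b := by
  have := (ccx h hs hr a b).eq
  rw [mul_assoc, ← this, inv_mul_cancel_left]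

theorem conj3 {Q : Type*} [Group Q] (a b g h : Q) : a⁻¹ * (g * h) * a = (a⁻¹ * g * a) * (a⁻¹ * h * a) := by group

/-- conjugation of `x14` -/
theorem rel14 (t1 t2 t3 u : K) :
    (x 18 t1 * x 13 t2 * x 12 t3)⁻¹ * x 14 u * (x 18 t1 * x 13 t2 * x 12 t3) =
      x 14 u * (x 19 (t1 * u) * x 16 (-(t2 * u)) * x 15 (-(t3 * u))) *
        (x 21 (-(t1 * t2 * u)) * x 17 (t2 * t3 * u) * x 20 (-(t1 * t3 * u))) * x 22 (t1 * t2 * t3 * u) *
        x 23 (t1 * t2 * t3 * u * u) := by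
  have e1 : (x 18 t1)⁻¹ * x 14 u * x 18 t1 = x 14 u * x 19 (t1 * u) := by
    rw [cix (k := 19) (M := 1) (by decide +kernel) (by decide) (by decide) (by decide)]; congr 2; push_cast; ring
  have e2 : (x 13 t2)⁻¹ * x 14 u * x 13 t2 = x 14 u * x 16 (-(t2 * u)) := by
    rw [cix (k := 16) (M := -1) (by decide +kernel) (by decide) (by decide) (by decide)]; congr 2; push_cast; ring
  have e3 : (x 13 t2)⁻¹ * x 19 (t1 * u) * x 13 t2 = x 19 (t1 * u) * x 21 (-(t1 * t2 * u)) := by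
    rw [cix (k := 21) (M := -1) (by decide +kernel) (by decide) (by decide) (by decide)]; congr 2; push_cast; ring
  have e4 : (x 12 t3)⁻¹ * x 14 u * x 12 t3 = x 14 u * x 15 (-(t3 * u)) := by
    rw [cix (k := 15) (M := -1) (by decide +kernel) (by decide) (by decide) (by decide)]; congr 2; push_cast; ring
  have e5 : (x 12 t3)⁻¹ * x 16 (-(t2 * u)) * x 12 t3 = x 16 (-(t2 * u)) * x 17 (t2 * t3 * u) := by
    rw [cix (k := 17) (M := -1) (by decide +kernel) (by decide) (by decide) (by decide)]; congr 2; push_cast; ring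
  have e6 : (x 12 t3)⁻¹ * x 19 (t1 * u) * x 12 t3 = x 19 (t1 * u) * x 20 (-(t1 * t3 * u)) := by
    rw [cix (k := 20) (M := -1) (by decide +kernel) (by decide) (by decide) (by decide)]; congr 2; push_cast; ring
  have e7 : (x 12 t3)⁻¹ * x 21 (-(t1 * t2 * u)) * x 12 t3 = x 21 (-(t1 * t2 * u)) * x 22 (t1 * t2 * t3 * u) := by
    rw [cix (k := 22) (M := -1) (by decide +kernel) (by decide) (by decide) (by decide)]; congr 2; push_cast; ring
  have e8 : x 17 (t2 * t3 * u) * x 19 (t1 * u) = x 19 (t1 * u) * x 17 (t2 * t3 * u) * x 23 (t1 * t2 * t3 * u * u) := by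
    have h := cix (s := 19) (r := 17) (k := 23) (M := 1) (by decide +kernel) (by decide) (by decide) (by decide) (t1 * u)
      (t2 * t3 * u)
    rw [mul_assoc (x 19 (t1 * u)), show t1 * t2 * t3 * u * u = ((1 : ℤ) : K) * (t1 * u) * (t2 * t3 * u) by push_cast; ring,
      ← h]
    group
  have c1 : x 15 (-(t3 * u)) * x 16 (-(t2 * u)) * x 19 (t1 * u) = x 19 (t1 * u) * x 16 (-(t2 * u)) * x 15 (-(t3 * u)) := by
    have h1 := (ccx (a := 15) (b := 16) (by decide +kernel) (by decide) (by decide) (-(t3 * u)) (-(t2 * u))).eq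
    have h2 := (ccx (a := 15) (b := 19) (by decide +kernel) (by decide) (by decide) (-(t3 * u)) (t1 * u)).eq
    have h3 := (ccx (a := 16) (b := 19) (by decide +kernel) (by decide) (by decide) (-(t2 * u)) (t1 * u)).eq
    rw [h1, mul_assoc, h2, ← mul_assoc, h3]
  have c2 : x 23 (t1 * t2 * t3 * u * u) * (x 20 (-(t1 * t3 * u)) * x 21 (-(t1 * t2 * u)) * x 22 (t1 * t2 * t3 * u)) =
      (x 20 (-(t1 * t3 * u)) * x 21 (-(t1 * t2 * u)) * x 22 (t1 * t2 * t3 * u)) * x 23 (t1 * t2 * t3 * u * u) := by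
    have h1 := ccx (K := K) (a := 23) (b := 20) (by decide +kernel) (by decide) (by decide) (t1 * t2 * t3 * u * u) (-(t1 * t3 * u))
    have h2 := ccx (K := K) (a := 23) (b := 21) (by decide +kernel) (by decide) (by decide) (t1 * t2 * t3 * u * u) (-(t1 * t2 * u))
    have h3 := ccx (K := K) (a := 23) (b := 22) (by decide +kernel) (by decide) (by decide) (t1 * t2 * t3 * u * u) (t1 * t2 * t3 * u)
    exact ((h1.mul_right h2).mul_right h3).eq
  have c3 : x 17 (t2 * t3 * u) * x 20 (-(t1 * t3 * u)) * x 21 (-(t1 * t2 * u)) =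
      x 21 (-(t1 * t2 * u)) * x 17 (t2 * t3 * u) * x 20 (-(t1 * t3 * u)) := by
    have h1 := ccx (K := K) (a := 17) (b := 21) (by decide +kernel) (by decide) (by decide) (t2 * t3 * u) (-(t1 * t2 * u))
    have h2 := ccx (K := K) (a := 20) (b := 21) (by decide +kernel) (by decide) (by decide) (-(t1 * t3 * u)) (-(t1 * t2 * u))
    rw [(h1.mul_left h2).eq, ← mul_assoc]
  calc (x 18 t1 * x 13 t2 * x 12 t3)⁻¹ * x 14 u * (x 18 t1 * x 13 t2 * x 12 t3)
      = (x 12 t3)⁻¹ * ((x 13 t2)⁻¹ * ((x 18 t1)⁻¹ * x 14 u * x 18 t1) * x 13 t2) * x 12 t3 := by group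
    _ = (x 14 u * x 15 (-(t3 * u)) * (x 16 (-(t2 * u)) * x 17 (t2 * t3 * u))) *
        ((x 19 (t1 * u) * x 20 (-(t1 * t3 * u))) * (x 21 (-(t1 * t2 * u)) * x 22 (t1 * t2 * t3 * u))) := by
      rw [e1, conj3 (x 13 t2) (x 14 u), e2, e3, conj3 (x 12 t3) (x 14 u * x 16 (-(t2 * u))), conj3 (x 12 t3) (x 14 u),
        conj3 (x 12 t3) (x 19 (t1 * u)), e4, e5, e6, e7]
    _ = x 14 u * x 15 (-(t3 * u)) * x 16 (-(t2 * u)) * (x 17 (t2 * t3 * u) * x 19 (t1 * u)) * x 20 (-(t1 * t3 * u)) *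
        x 21 (-(t1 * t2 * u)) * x 22 (t1 * t2 * t3 * u) := by group
    _ = x 14 u * (x 15 (-(t3 * u)) * x 16 (-(t2 * u)) * x 19 (t1 * u)) * x 17 (t2 * t3 * u) *
        (x 23 (t1 * t2 * t3 * u * u) * (x 20 (-(t1 * t3 * u)) * x 21 (-(t1 * t2 * u)) * x 22 (t1 * t2 * t3 * u))) := by
      rw [e8]; group
    _ = x 14 u * (x 19 (t1 * u) * x 16 (-(t2 * u)) * x 15 (-(t3 * u))) *
        (x 17 (t2 * t3 * u) * x 20 (-(t1 * t3 * u)) * x 21 (-(t1 * t2 * u))) * x 22 (t1 * t2 * t3 * u) *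
        x 23 (t1 * t2 * t3 * u * u) := by
      rw [c1, c2]; group
    _ = _ := by rw [c3]

end free

section gam

variable {K : Type*} [Field K] [Fintype K] {q : ℕ} (hq : IsPrimePow q) (hK : Fintype.card K = q ^ 3)

/-- the fixed points of the endomorphism -/
noncomputable def Gh : Subgroup (chevD4.group K) := (sg hq hK).eqLocus (MonoidHom.id _)

theorem mem_Gh {g : chevD4.group K} : g ∈ Gh hq hK ↔ sg hq hK g = g := Iff.rfl

theorem mem_tw {g : chevD4.group K} (h : g ∈ Gh hq hK) : (g : GL chevD4.Idx K) ∈ twistedD4 K q := by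
  rw [TwD4.twisted_eq (TwField.pow_pow_card hK)]
  rw [(TwD4.all hq hK).mem_iff_fix]
  refine ⟨g.2, ?_⟩
  rw [(TwD4.T hq hK).s_eq g.2]
  exact congrArg Subtype.val h

/-- the homomorphism to the twisted group -/
noncomputable def iota : Gh hq hK →* twistedD4 K q where
  toFun g := ⟨(g : chevD4.group K), mem_tw hq hK g.2⟩
  map_one' := rfl
  map_mul' _ _ := rfl

theorem iota_surj : Function.Surjective (iota hq hK) := by
  rintro ⟨g, hg⟩
  have h := hg
  rw [TwD4.twisted_eq (TwField.pow_pow_card hK), (TwD4.all hq hK).mem_iff_fix] at h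
  refine ⟨⟨⟨g, h.1⟩, ?_⟩, rfl⟩
  rw [mem_Gh]
  apply Subtype.ext
  have h2 := h.2
  rw [(TwD4.T hq hK).s_eq h.1] at h2
  exact h2

/-! ### fixed elements -/

include hq hK in
theorem p3 (t : K) : ((t ^ q) ^ q) ^ q = t := MinTD4B.pow3 hq hK t

include hq hK in
theorem npow (t : K) : (-t) ^ q = -(t ^ q) := MinTD4A.neg_pow hq hK t

/-- long root elements -/
theorem xl_mem {r : ℕ} (hr : r ∈ [14, 22, 23, 9, 1, 0]) {u : K} (hu : u ^ q = u) : x r u ∈ Gh hq hK := by
  rw [mem_Gh]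
  simp only [List.mem_cons, List.not_mem_nil, or_false] at hr
  rcases hr with rfl | rfl | rfl | rfl | rfl | rfl
  · rw [s14, hu]; simp
  · rw [s22, hu]; simp
  · rw [s23, hu]; simp
  · rw [s9, hu]; simp
  · rw [s1, hu]; simp
  · rw [s0, hu]; simp

theorem y_mem (t : K) : x 18 t * x 13 (t ^ q) * x 12 ((t ^ q) ^ q) ∈ Gh hq hK := by
  rw [mem_Gh, map_mul, map_mul, s18, s13, s12, p3 hq hK]
  simp only [Int.cast_one, one_mul]
  have h1 := ccx (K := K) (a := 18) (b := 13) (by decide +kernel) (by decide) (by decide) t (t ^ q)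
  have h2 := ccx (K := K) (a := 18) (b := 12) (by decide +kernel) (by decide) (by decide) t ((t ^ q) ^ q)
  rw [← (h1.mul_right h2).eq, mul_assoc]

theorem y1_mem (t : K) : x 19 t * x 16 (-(t ^ q)) * x 15 (-((t ^ q) ^ q)) ∈ Gh hq hK := by
  rw [mem_Gh, map_mul, map_mul, s19, s16, s15, npow hq hK, npow hq hK, p3 hq hK]
  simp only [Int.cast_one, one_mul, Int.cast_neg, neg_mul, neg_neg]
  have h1 := ccx (K := K) (a := 19) (b := 16) (by decide +kernel) (by decide) (by decide) t (-(t ^ q))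
  have h2 := ccx (K := K) (a := 19) (b := 15) (by decide +kernel) (by decide) (by decide) t (-((t ^ q) ^ q))
  rw [← (h1.mul_right h2).eq, mul_assoc]

theorem y2_mem (t : K) : x 21 t * x 17 (-(t ^ q)) * x 20 ((t ^ q) ^ q) ∈ Gh hq hK := by
  rw [mem_Gh, map_mul, map_mul, s21, s17, s20, npow hq hK, p3 hq hK]
  simp only [Int.cast_one, one_mul, Int.cast_neg, neg_mul, neg_neg]
  have h1 := ccx (K := K) (a := 21) (b := 17) (by decide +kernel) (by decide) (by decide) t (-(t ^ q))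
  have h2 := ccx (K := K) (a := 21) (b := 20) (by decide +kernel) (by decide) (by decide) t ((t ^ q) ^ q)
  rw [← (h1.mul_right h2).eq, mul_assoc]

/-- the fixed field -/
def F0 : Subfield K where
  carrier := {t | t ^ q = t}
  mul_mem' := by
    intro a b ha hb
    show (a * b) ^ q = a * b
    rw [mul_pow, show a ^ q = a from ha, show b ^ q = b from hb]
  one_mem' := one_pow q
  add_mem' := by
    intro a b ha hb
    show (a + b) ^ q = a + b
    rw [MinTD4B.pow_add' hq hK, show a ^ q = a from ha, show b ^ q = b from hb]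
  zero_mem' := zero_pow hq.pos.ne'
  neg_mem' := by
    intro a ha
    show (-a) ^ q = -a
    rw [npow hq hK, show a ^ q = a from ha]
  inv_mem' := by
    intro a ha
    show (a⁻¹) ^ q = a⁻¹
    rw [inv_pow, show a ^ q = a from ha]

theorem F0_pow (u : F0 hq hK) : (u : K) ^ q = u := u.2

theorem card_F0 : Nat.card (F0 hq hK) = q := TwField.card_fix hq.pos (by norm_num) hK

/-- trace -/
def tr (t : K) : F0 hq hK := ⟨t + t ^ q + (t ^ q) ^ q, by
  show (t + t ^ q + (t ^ q) ^ q) ^ q = _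
  rw [MinTD4B.pow_add' hq hK, MinTD4B.pow_add' hq hK, p3 hq hK]; ring⟩

/-- norm -/
def nm (t : K) : F0 hq hK := ⟨t * t ^ q * (t ^ q) ^ q, by
  show (t * t ^ q * (t ^ q) ^ q) ^ q = _
  rw [mul_pow, mul_pow, p3 hq hK]; ring⟩

theorem tr_add (t u : K) : tr hq hK (t + u) = tr hq hK t + tr hq hK u := by
  apply Subtype.ext
  show t + u + (t + u) ^ q + ((t + u) ^ q) ^ q = t + t ^ q + (t ^ q) ^ q + (u + u ^ q + (u ^ q) ^ q)
  rw [MinTD4B.pow_add' hq hK, MinTD4B.pow_add' hq hK]; ring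

theorem tr_smul (c : F0 hq hK) (t : K) : tr hq hK (c * t) = c * tr hq hK t := by
  apply Subtype.ext
  show (c : K) * t + ((c : K) * t) ^ q + (((c : K) * t) ^ q) ^ q = c * (t + t ^ q + (t ^ q) ^ q)
  rw [mul_pow, F0_pow hq hK, mul_pow, F0_pow hq hK]; ring

/-- the long root elements -/
noncomputable def XL (r : ℕ) (hr : r ∈ [14, 22, 23, 9, 1, 0]) (u : F0 hq hK) : Gh hq hK := ⟨x r (u : K), xl_mem hq hK hr u.2⟩

noncomputable def YY (t : K) : Gh hq hK := ⟨_, y_mem hq hK t⟩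
noncomputable def YY1 (t : K) : Gh hq hK := ⟨_, y1_mem hq hK t⟩
noncomputable def YY2 (t : K) : Gh hq hK := ⟨_, y2_mem hq hK t⟩

theorem lt_of_long {r : ℕ} (hr : r ∈ [14, 22, 23, 9, 1, 0]) : r < chevD4.nroots := by
  simp only [List.mem_cons, List.not_mem_nil, or_false] at hr
  rcases hr with rfl | rfl | rfl | rfl | rfl | rfl <;> decide

theorem XL_add {r : ℕ} (hr : r ∈ [14, 22, 23, 9, 1, 0]) (t u : F0 hq hK) :
    XL hq hK r hr t * XL hq hK r hr u = XL hq hK r hr (t + u) :=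
  Subtype.ext (xadd (lt_of_long hr) _ _)

theorem add3 {a b c : ℕ} (ha : a < chevD4.nroots) (hb : b < chevD4.nroots) (hc : c < chevD4.nroots)
    (hab : 0 ≤ pr chevD4 b a) (hac : 0 ≤ pr chevD4 c a) (hbc : 0 ≤ pr chevD4 c b) (t1 t2 t3 u1 u2 u3 : K) :
    x a t1 * x b t2 * x c t3 * (x a u1 * x b u2 * x c u3) = x a (t1 + u1) * x b (t2 + u2) * x c (t3 + u3) := by
  have h1 := (ccx (K := K) hab hb ha t2 u1).eq
  have h2 := (ccx (K := K) hac hc ha t3 u1).eq
  have h3 := (ccx (K := K) hbc hc hb t3 u2).eq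
  rw [← xadd ha, ← xadd hb, ← xadd hc]
  calc x a t1 * x b t2 * x c t3 * (x a u1 * x b u2 * x c u3) = x a t1 * x b t2 * (x c t3 * x a u1) * x b u2 * x c u3 := by group
    _ = x a t1 * (x b t2 * x a u1) * (x c t3 * x b u2) * x c u3 := by rw [h2]; group
    _ = _ := by rw [h1, h3]; group

theorem YY_add (t u : K) : YY hq hK t * YY hq hK u = YY hq hK (t + u) := by
  apply Subtype.ext
  show x 18 t * x 13 (t ^ q) * x 12 ((t ^ q) ^ q) * (x 18 u * x 13 (u ^ q) * x 12 ((u ^ q) ^ q)) = _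
  rw [add3 (by decide) (by decide) (by decide) (by decide +kernel) (by decide +kernel) (by decide +kernel)]
  show _ = x 18 (t + u) * x 13 ((t + u) ^ q) * x 12 (((t + u) ^ q) ^ q)
  rw [MinTD4B.pow_add' hq hK, MinTD4B.pow_add' hq hK]

theorem YY1_add (t u : K) : YY1 hq hK t * YY1 hq hK u = YY1 hq hK (t + u) := by
  apply Subtype.ext
  show x 19 t * x 16 (-(t ^ q)) * x 15 (-((t ^ q) ^ q)) * (x 19 u * x 16 (-(u ^ q)) * x 15 (-((u ^ q) ^ q))) = _
  rw [add3 (by decide) (by decide) (by decide) (by decide +kernel) (by decide +kernel) (by decide +kernel)]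
  show _ = x 19 (t + u) * x 16 (-((t + u) ^ q)) * x 15 (-(((t + u) ^ q) ^ q))
  rw [MinTD4B.pow_add' hq hK, MinTD4B.pow_add' hq hK, neg_add, neg_add]

theorem YY2_add (t u : K) : YY2 hq hK t * YY2 hq hK u = YY2 hq hK (t + u) := by
  apply Subtype.ext
  show x 21 t * x 17 (-(t ^ q)) * x 20 ((t ^ q) ^ q) * (x 21 u * x 17 (-(u ^ q)) * x 20 ((u ^ q) ^ q)) = _
  rw [add3 (by decide) (by decide) (by decide) (by decide +kernel) (by decide +kernel) (by decide +kernel)]
  show _ = x 21 (t + u) * x 17 (-((t + u) ^ q)) * x 20 (((t + u) ^ q) ^ q)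
  rw [MinTD4B.pow_add' hq hK, MinTD4B.pow_add' hq hK, neg_add]

end gam

end Cfsg.Agent.Lib.MinTD4C
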