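import Cfsg.Agent.Lib.MinTE6G

/-!
The groups 2E6(q): certificates and the lower bound (helper18).
-/

set_option autoImplicit false
set_option linter.unusedSectionVars false

namespace Cfsg.Agent.Lib.MinTE6H

open Cfsg.Lie Cfsg.Agent.Lib.MinTE6A Cfsg.Agent.Lib.MinTE6B Cfsg.Agent.Lib.MinTE6C Cfsg.Agent.Lib.MinTE6D
open Cfsg.Agent.Lib.MinTE6E Cfsg.Agent.Lib.MinTE6F Cfsg.Agent.Lib.MinTE6G

def a65 : List (ℕ × ℕ × ℕ) := [(71, 20, 65), (70, 27, 65), (66, 34, 65), (63, 39, 65), (60, 47, 65)]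
def b65 : List (ℕ × ℕ × ℕ) := [(36, 64, 65), (41, 61, 65), (38, 67, 69), (45, 62, 69)]
def a63 : List (ℕ × ℕ × ℕ) := [(71, 18, 63), (69, 27, 63), (66, 31, 63), (65, 32, 63), (60, 46, 63)]
def b63 : List (ℕ × ℕ × ℕ) := [(36, 62, 63), (38, 61, 63), (41, 67, 70), (45, 64, 70)]
def a60 : List (ℕ × ℕ × ℕ) := [(70, 18, 60), (69, 20, 60), (66, 23, 60), (65, 24, 60), (63, 25, 60)]
def b60 : List (ℕ × ℕ × ℕ) := [(36, 59, 60), (38, 58, 60), (49, 67, 71), (52, 64, 71)]
def c71 : List (ℕ × ℕ × ℕ) := [(70, 46, 71), (69, 47, 71), (65, 51, 71), (63, 53, 71), (66, 50, 71), (55, 61, 71), (54, 62, 71)]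
def c53 : List (ℕ × ℕ × ℕ) := [(71, 8, 53), (70, 11, 53), (51, 39, 53), (47, 44, 53), (48, 43, 53), (55, 33, 53), (54, 35, 53)]
def c51 : List (ℕ × ℕ × ℕ) := [(71, 6, 51), (69, 11, 51), (53, 32, 51), (46, 44, 51), (48, 42, 51), (55, 30, 51), (52, 35, 51)]
def c47 : List (ℕ × ℕ × ℕ) := [(71, 2, 47), (65, 11, 47), (53, 27, 47), (46, 39, 47), (48, 34, 47), (54, 26, 47), (49, 33, 47)]
def c46 : List (ℕ × ℕ × ℕ) := [(71, 1, 46), (63, 11, 46), (51, 27, 46), (47, 32, 46), (48, 31, 46), (52, 26, 46), (49, 30, 46)]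
def c44 : List (ℕ × ℕ × ℕ) := [(70, 6, 44), (69, 8, 44), (53, 24, 44), (51, 25, 44), (40, 42, 44), (55, 22, 44), (45, 35, 44)]
def c39 : List (ℕ × ℕ × ℕ) := [(70, 2, 39), (65, 8, 39), (53, 20, 39), (47, 25, 39), (40, 34, 39), (54, 19, 39), (41, 33, 39)]
def d53 : List (ℕ × ℕ × ℕ) := [(12, 37, 13), (12, 41, 29), (12, 52, 46), (12, 66, 49), (12, 69, 52), (13, 29, 12), (13, 45, 37), (29, 45, 41), (29, 66, 65), (27, 69, 63), (29, 69, 66), (12, 36, 27), (13, 36, 28), (27, 37, 32), (28, 41, 36), (27, 45, 60), (13, 60, 38), (32, 70, 69)]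
def d51 : List (ℕ × ℕ × ℕ) := [(12, 38, 28), (12, 40, 14), (12, 54, 47), (12, 66, 49), (12, 70, 54), (14, 28, 12), (14, 45, 40), (28, 45, 38), (28, 66, 63), (27, 70, 65), (28, 70, 66), (12, 36, 27), (14, 36, 29), (27, 40, 39), (29, 38, 36), (27, 45, 60), (14, 60, 41), (38, 40, 45), (39, 69, 70)]
def d47 : List (ℕ × ℕ × ℕ) := [(13, 36, 28), (13, 40, 15), (13, 55, 51), (13, 66, 52), (13, 70, 55), (15, 28, 13), (15, 41, 40), (28, 41, 36), (28, 66, 63), (28, 70, 66), (32, 70, 69), (13, 38, 32), (15, 38, 37), (32, 40, 44), (36, 37, 38), (32, 41, 60), (15, 60, 45), (36, 40, 41), (40, 63, 70)]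
def d46 : List (ℕ × ℕ × ℕ) := [(14, 36, 29), (14, 37, 15), (14, 55, 53), (14, 66, 54), (14, 69, 55), (15, 29, 14), (15, 38, 37), (29, 38, 36), (29, 66, 65), (29, 69, 66), (36, 37, 38), (37, 65, 69), (39, 69, 70), (14, 41, 39), (14, 45, 40), (14, 60, 41), (15, 45, 44), (15, 60, 45), (36, 44, 60)]
def d44 : List (ℕ × ℕ × ℕ) := [(14, 41, 39), (14, 52, 48), (14, 60, 41), (14, 66, 54), (38, 39, 60), (38, 48, 52), (38, 54, 66), (39, 52, 71), (14, 49, 47), (14, 63, 49), (38, 47, 63), (39, 63, 65), (14, 36, 29), (29, 38, 36)]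
def d39 : List (ℕ × ℕ × ℕ) := [(15, 45, 44), (15, 49, 48), (15, 60, 45), (15, 66, 55), (36, 44, 60), (36, 48, 49), (36, 55, 66), (44, 49, 71), (15, 52, 51), (15, 63, 52), (36, 51, 63), (44, 63, 69), (15, 38, 37), (36, 37, 38)]

theorem adj70 : adjc 71 70 46 25 = true := by decide +kernel
theorem adj69 : adjc 71 69 47 24 = true := by decide +kernel
theorem adj65 : adjc 71 65 51 20 = true := by decide +kernel
theorem adj63 : adjc 71 63 53 18 = true := by decide +kernel
theorem adj53 : adjc 71 53 63 8 = true := by decide +kernel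
theorem adj51 : adjc 71 51 65 6 = true := by decide +kernel
theorem adj47 : adjc 71 47 69 2 = true := by decide +kernel
theorem adj46 : adjc 71 46 70 1 = true := by decide +kernel
theorem adj60 : adjc 70 60 53 18 = true := by decide +kernel
theorem adj44 : adjc 70 44 65 6 = true := by decide +kernel
theorem adj39 : adjc 70 39 69 2 = true := by decide +kernel
theorem kc71 : chk [71] c71 [] = true ∧ ell c71 = 10 := by decide +kernel
theorem kc53 : chk [53] c53 [] = true ∧ ell c53 = 10 := by decide +kernel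
theorem kc51 : chk [51] c51 [] = true ∧ ell c51 = 10 := by decide +kernel
theorem kc47 : chk [47] c47 [] = true ∧ ell c47 = 10 := by decide +kernel
theorem kc46 : chk [46] c46 [] = true ∧ ell c46 = 10 := by decide +kernel
theorem kc44 : chk [44] c44 [] = true ∧ ell c44 = 10 := by decide +kernel
theorem kc39 : chk [39] c39 [] = true ∧ ell c39 = 10 := by decide +kernel
theorem ka65 : chk [65] a65 [] = true ∧ ell a65 = 6 ∧ chk [69, 65] b65 (ext a65 []) = true ∧ ell b65 = 8 ∧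
    pres 69 (ext a65 []) [65] (ext a65 []) = true := by decide +kernel
theorem ka63 : chk [63] a63 [] = true ∧ ell a63 = 6 ∧ chk [70, 63] b63 (ext a63 []) = true ∧ ell b63 = 8 ∧
    pres 70 (ext a63 []) [63] (ext a63 []) = true := by decide +kernel
theorem ka60 : chk [60] a60 [] = true ∧ ell a60 = 6 ∧ chk [71, 60] b60 (ext a60 []) = true ∧ ell b60 = 8 ∧
    pres 71 (ext a60 []) [60] (ext a60 []) = true := by decide +kernel
theorem kd53 : (([71, 70, 69, 66, 65, 63, 60, 51, 48, 47, 46]).all fun c => (clo (ext c53 []) [53] d53 (ext c53 [])).elem c) = true := by decide +kernel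
theorem kd51 : (([71, 70, 69, 66, 65, 63, 60, 53, 48, 47, 46]).all fun c => (clo (ext c51 []) [51] d51 (ext c51 [])).elem c) = true := by decide +kernel
theorem kd47 : (([71, 70, 69, 66, 65, 63, 60, 53, 51, 48, 46]).all fun c => (clo (ext c47 []) [47] d47 (ext c47 [])).elem c) = true := by decide +kernel
theorem kd46 : (([71, 70, 69, 66, 65, 63, 60, 53, 51, 48, 47, 44, 39]).all fun c => (clo (ext c46 []) [46] d46 (ext c46 [])).elem c) = true := by decide +kernel
theorem kd44 : (([71, 70, 69, 66, 65, 63, 60, 53, 51, 48, 47, 40, 39] ++ ext c46 []).all fun c => (clo (ext c44 []) [44] d44 (ext c44 [])).elem c) = true := by decide +kernel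
theorem kd39 : (([71, 70, 69, 66, 65, 63, 60, 53, 51, 48, 47, 44, 40] ++ ext c46 []).all fun c => (clo (ext c39 []) [39] d39 (ext c39 [])).elem c) = true := by decide +kernel
theorem ks44 : presL 46 (ext c44 []) [44] (clo (ext c44 []) [44] d44 (ext c44 [])) = true := by decide +kernel
theorem ks39 : presL 46 (ext c39 []) [39] (clo (ext c39 []) [39] d39 (ext c39 [])) = true := by decide +kernel

end Cfsg.Agent.Lib.MinTE6H
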