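import Mathlib.GroupTheory.GroupAction.Jordan
import Mathlib.Tactic

/-!
Elementary facts about multiply transitive actions (helper12).
-/

set_option autoImplicit false

namespace Cfsg.Agent.Lib.MultTrans

open MulAction

variable {G α : Type*} [Group G] [MulAction G α]

/-- If `G` is `k`-transitive and the pointwise stabiliser of a `k`-set is `j`-transitive on the
complement, then `G` is `(k+j)`-transitive. -/
theorem add_of_fixingSubgroup {k j : ℕ} (hk : IsMultiplyPretransitive G α k) (s : Set α)
    [Finite s] (hs : s.ncard = k)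
    (hj : IsMultiplyPretransitive (fixingSubgroup G s) (SubMulAction.ofFixingSubgroup G s) j) :
    IsMultiplyPretransitive G α (k + j) := by
  classical
  have hcard : Nat.card s = k := by rw [Nat.card_coe_set_eq, hs]
  obtain ⟨e⟩ : Nonempty (Fin k ≃ s) := Finite.card_eq.mp (by simp [hcard])
  let x : Fin k ↪ α := e.toEmbedding.trans (Function.Embedding.subtype _)
  have hx : ∀ a ∈ s, ∃ i, x i = a := fun a ha => ⟨e.symm ⟨a, ha⟩, by simp [x]⟩
  have hxs : ∀ i, x i ∈ s := fun i => (e i).2
  -- for each u find g with g • u|first = x and the rest in the complement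
  have key : ∀ u : Fin (k + j) ↪ α, ∃ g : G, ∃ w : Fin j ↪ SubMulAction.ofFixingSubgroup G s,
      (∀ i : Fin k, g • u (Fin.castAdd j i) = x i) ∧
      (∀ i : Fin j, g • u (Fin.natAdd k i) = (w i : α)) := by
    intro u
    obtain ⟨g, hg⟩ := hk.exists_smul_eq ((Fin.castAddEmb j).trans u) x
    have hg' : ∀ i : Fin k, g • u (Fin.castAdd j i) = x i := by
      intro i
      have := DFunLike.congr_fun hg i
      simpa using this
    refine ⟨g, ⟨fun i => ⟨g • u (Fin.natAdd k i), ?_⟩, ?_⟩, hg', fun i => rfl⟩
    · rw [SubMulAction.mem_ofFixingSubgroup_iff]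
      intro hmem
      obtain ⟨i', hi'⟩ := hx _ hmem
      rw [← hg' i'] at hi'
      have h1 := u.injective (MulAction.injective g hi')
      have h2 := congrArg Fin.val h1
      simp at h2
      omega
    · intro i i' h
      have h1 : g • u (Fin.natAdd k i) = g • u (Fin.natAdd k i') := congrArg Subtype.val h
      have h2 := u.injective (MulAction.injective g h1)
      have h3 := congrArg Fin.val h2
      simp at h3
      exact Fin.ext h3
  constructor
  intro u v
  obtain ⟨g, wu, hg1, hg2⟩ := key u
  obtain ⟨h, wv, hh1, hh2⟩ := key v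
  obtain ⟨f, hf⟩ := hj.exists_smul_eq wu wv
  refine ⟨h⁻¹ * f.1 * g, ?_⟩
  ext i
  rw [Function.Embedding.smul_apply, mul_smul, mul_smul, inv_smul_eq_iff]
  refine Fin.addCases (fun i => ?_) (fun i => ?_) i
  · rw [hg1, hh1]
    exact f.2 ⟨x i, hxs i⟩
  · rw [hg2, hh2]
    have := congrArg Subtype.val (DFunLike.congr_fun hf i)
    exact this

end Cfsg.Agent.Lib.MultTrans
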