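import Cfsg.Agent.Lib.SuzukiSyl
import Mathlib

/-!
Modules for the Suzuki groups in characteristic two, part A: the natural module in coordinates,
and three functional equations.
-/

set_option autoImplicit false
set_option linter.unusedSectionVars false
open scoped Matrix

namespace Cfsg.Agent.Lib.Mz

open Cfsg.Agent.Lib.SuzukiOvoid Cfsg.Agent.Lib.SuzukiGroup Cfsg.Agent.Lib.SuzukiSyl

variable {F : Type*} [Field F] [CharP F 2] {θ : F ≃+* F} (hθ : ∀ x, θ (θ x) = x ^ 2)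

/-- the natural module -/
abbrev Nm (F : Type*) := Fin 4 → F

/-- the action on the natural module -/
def nm (g : Gz θ) (v : Nm F) : Nm F := (g : Matrix.SpecialLinearGroup (Fin 4) F).1 *ᵥ v

omit [CharP F 2] in
theorem nm_one (v : Nm F) : nm (1 : Gz θ) v = v := Matrix.one_mulVec v
omit [CharP F 2] in
theorem nm_mul (g h : Gz θ) (v : Nm F) : nm (g * h) v = nm g (nm h v) := by
  unfold nm
  rw [Matrix.mulVec_mulVec]; rfl
omit [CharP F 2] in
theorem nm_add (g : Gz θ) (v w : Nm F) : nm g (v + w) = nm g v + nm g w := Matrix.mulVec_add _ _ _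
omit [CharP F 2] in
theorem nm_sub (g : Gz θ) (v w : Nm F) : nm g (v - w) = nm g v - nm g w := Matrix.mulVec_sub _ _ _
omit [CharP F 2] in
theorem nm_zero (g : Gz θ) : nm g (0 : Nm F) = 0 := Matrix.mulVec_zero _
omit [CharP F 2] in
theorem nm_smul (g : Gz θ) (c : F) (v : Nm F) : nm g (c • v) = c • nm g v :=
  Matrix.mulVec_smul _ _ _

theorem two (v : Nm F) : v + v = 0 := by
  ext i; exact CharTwo.add_self_eq_zero _

theorem nm_U (a c : F) (v : Nm F) : nm (Ug θ hθ a c) v =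
    ![v 0 + a * v 1 + (c + a * θ a) * v 2 + ff θ a c * v 3, v 1 + θ a * v 2 + c * v 3, v 2 + a * v 3, v 3] := by
  show Um θ a c *ᵥ v = _
  ext i
  fin_cases i <;> simp [Um, Matrix.mulVec, dotProduct, Fin.sum_univ_succ] <;> ring

theorem nm_H (κ : Fˣ) (v : Nm F) : nm (Hg θ hθ κ) v =
    ![κ * θ.symm κ * v 0, θ.symm κ * v 1, (θ.symm κ)⁻¹ * v 2, (κ * θ.symm κ)⁻¹ * v 3] := by
  show Hm θ κ *ᵥ v = _
  ext i
  fin_cases i <;> simp [Hm, Matrix.mulVec_diagonal]

theorem nm_W (v : Nm F) : nm (Wg θ hθ) v = ![v 3, v 2, v 1, v 0] := Wm_mulVec v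

/-! ### fields -/

include hθ in
theorem mu_surj {μ : F} (hμ : μ ≠ 0) : ∃ κ : Fˣ, (κ : F) * θ κ = μ ∧ (κ : F) = θ μ / μ := by
  have h1 : θ μ ≠ 0 := (map_ne_zero θ).2 hμ
  refine ⟨Units.mk0 (θ μ / μ) (div_ne_zero h1 hμ), ?_, rfl⟩
  rw [Units.val_mk0, map_div₀, hθ]
  field_simp

include hθ in
/-- scalars: every nonzero element is `κ * θ⁻¹ κ`. -/
theorem ka_surj {c : F} (hc : c ≠ 0) : ∃ κ : Fˣ, (κ : F) * θ.symm κ = c := by
  have h1 : θ c ≠ 0 := (map_ne_zero θ).2 hc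
  refine ⟨Units.mk0 (c ^ 2 / θ c) (div_ne_zero (pow_ne_zero 2 hc) h1), ?_⟩
  rw [Units.val_mk0]
  apply θ.injective
  rw [map_mul, RingEquiv.apply_symm_apply, map_div₀, map_pow, hθ]
  field_simp

include hθ in
theorem ka_inj {κ κ' : Fˣ} (h : (κ : F) * θ.symm κ = κ' * θ.symm κ') : κ = κ' := by
  have h1 : (κ : F) * θ κ = κ' * θ κ' := by
    have := congrArg θ h
    rw [map_mul, map_mul, RingEquiv.apply_symm_apply, RingEquiv.apply_symm_apply] at this
    rw [mul_comm, this, mul_comm]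
  exact Units.ext (mulθ_inj θ hθ h1)

include hθ in
theorem th_ne_sq {b : F} (h0 : b ≠ 0) (h1 : b ≠ 1) : θ b ≠ b ^ 2 := by
  intro h
  have h2 : θ (θ b) = (θ b) ^ 2 := by rw [h, map_pow, h]
  rw [hθ, h] at h2
  have h3 : b ^ 2 * (b ^ 2 - 1) = 0 := by linear_combination -h2
  rcases mul_eq_zero.1 h3 with h4 | h4
  · exact h0 (by simpa using h4)
  · have h5 : (b - 1) ^ 2 = 0 := by
      have : (b - 1) ^ 2 = b ^ 2 - 1 := by
        have c2 : (2 : F) = 0 := CharTwo.two_eq_zero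
        linear_combination (1 - b) * c2
      rw [this, h4]
    have h6 : b - 1 = 0 := by simpa using h5
    exact h1 (sub_eq_zero.1 h6)

include hθ in
theorem th_ne_self {b : F} (h0 : b ≠ 0) (h1 : b ≠ 1) : θ b + b ≠ 0 := by
  intro h
  have h2 : θ b = b := by
    rw [← CharTwo.sub_eq_add, sub_eq_zero] at h; exact h
  rcases fix_eq θ hθ h2 with h | h
  · exact h0 h
  · exact h1 h

theorem exists_gen (F : Type*) [Field F] [Finite F] : ∃ g : Fˣ, ∀ x : F, x ≠ 0 → ∃ k : ℕ, x = (g : F) ^ k := by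
  obtain ⟨g, hg⟩ := IsCyclic.exists_monoid_generator (α := Fˣ)
  refine ⟨g, fun x hx => ?_⟩
  obtain ⟨k, hk⟩ := Submonoid.mem_powers_iff _ _ |>.1 (hg (Units.mk0 x hx))
  exact ⟨k, by rw [← Units.val_pow_eq_pow_val, hk]; rfl⟩

/-- first functional equation -/
theorem p_zero {p : F → F} (hadd : ∀ b c, p (b + c) = p b + p c) (h1 : p 1 = 0)
    (h : ∀ μ b, μ ≠ 0 → p (μ * b) = p b + b * p μ) (b : F) : p b = 0 := by
  have h0 : p 0 = 0 := by
    have := hadd 0 0
    rw [add_zero] at this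
    simpa using this
  by_cases hb : b = 0
  · rw [hb, h0]
  by_cases hb1 : b + 1 = 0
  · have : b = 1 := by rw [← CharTwo.sub_eq_add, sub_eq_zero] at hb1; exact hb1
    rw [this, h1]
  have e1 := h (b + 1) b hb1
  have e2 := h b (b + 1) hb
  have e3 : p (b + 1) = p b := by rw [hadd, h1, add_zero]
  rw [mul_comm b (b + 1), e1, e3] at e2
  linear_combination -e2

/-- linearity from commutation with a generator -/
theorem lin_of_gen [Finite F] {q : F → F → F}
    (h0 : ∀ y, q 0 y = 0) (h00 : ∀ b, q b 0 = 0)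
    (hc : ∀ b y, q b (b * y) = b * q b y)
    (hmul : ∀ μ b, μ ≠ 0 → (∀ c y, q b (c * y) = c * q b y) → (∀ c y, q μ (c * y) = c * q μ y) →
      (∀ c y, q (μ * b) (c * y) = c * q (μ * b) y)) (b : F) :
    ∀ c y, q b (c * y) = c * q b y := by
  obtain ⟨g, hg⟩ := exists_gen F
  have key : ∀ c y, q g (c * y) = c * q g y := by
    intro c y
    by_cases hc0 : c = 0
    · rw [hc0, zero_mul, zero_mul, h00]
    obtain ⟨k, rfl⟩ := hg c hc0
    clear hc0
    induction k with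
    | zero => simp
    | succ k ih => rw [pow_succ', mul_assoc, hc, ih, mul_assoc]
  have key1 : ∀ k : ℕ, ∀ c y, q ((g : F) ^ (k + 1)) (c * y) = c * q ((g : F) ^ (k + 1)) y := by
    intro k
    induction k with
    | zero => simpa using key
    | succ k ih =>
      rw [pow_succ']
      exact hmul g _ g.ne_zero ih key
  by_cases hb : b = 0
  · subst hb; intro c y; rw [h0, h0, mul_zero]
  obtain ⟨k, rfl⟩ := hg b hb
  rcases k with _ | k
  · intro c y
    have h2 : (g : F) ^ (Nat.card Fˣ) = 1 := by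
      rw [← Units.val_pow_eq_pow_val, pow_card_eq_one']; rfl
    have h1 : (g : F) ^ 0 = (g : F) ^ (Nat.card Fˣ - 1 + 1) := by
      rw [Nat.sub_add_cancel Nat.card_pos, h2, pow_zero]
    rw [h1]; exact key1 _ c y
  · exact key1 k

include hθ in
/-- second functional equation -/
theorem q_zero [Finite F] {q : F → F → F} (hb : ∀ b c y, q (b + c) y = q b y + q c y)
    (hy : ∀ b y z, q b (y + z) = q b y + q b z) (h1 : ∀ y, q 1 y = 0)
    (hc : ∀ b y, q b (b * y) = b * q b y)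
    (hH : ∀ (κ : Fˣ) b y, q ((κ : F) * θ κ * b) (θ.symm κ * y) =
      κ * θ.symm κ * q b y + b * q ((κ : F) * θ κ) (θ.symm κ * y)) (b y : F) : q b y = 0 := by
  have h0 : ∀ y, q 0 y = 0 := fun y => by simpa using hb 0 0 y
  have h00 : ∀ b, q b 0 = 0 := fun b => by simpa using hy b 0 0
  have lin : ∀ b c y, q b (c * y) = c * q b y := by
    apply lin_of_gen h0 h00 hc
    intro μ b hμ hlb hlμ c y
    obtain ⟨κ, hκ, -⟩ := mu_surj hθ hμ
    have hk : θ.symm (κ : F) ≠ 0 := by rw [map_ne_zero]; exact κ.ne_zero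
    have e1 := hH κ b (c * ((θ.symm κ)⁻¹ * y))
    have e2 := hH κ b ((θ.symm κ)⁻¹ * y)
    rw [hκ] at e1 e2
    have e3 : θ.symm (κ : F) * (c * ((θ.symm κ)⁻¹ * y)) = c * y := by field_simp
    have e4 : θ.symm (κ : F) * ((θ.symm κ)⁻¹ * y) = y := by field_simp
    rw [e3, hlb, hlμ] at e1
    rw [e4] at e2
    rw [e1, e2]; ring
  have e0 : ∀ b y, q b y = y * q b 1 := fun b y => by rw [← lin, mul_one]
  have key : ∀ μ b, μ ≠ 0 → q (μ * b) 1 = θ μ / μ * q b 1 + b * q μ 1 := by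
    intro μ b hμ
    obtain ⟨κ, hκ, hκ2⟩ := mu_surj hθ hμ
    have hk : θ.symm (κ : F) ≠ 0 := by rw [map_ne_zero]; exact κ.ne_zero
    have e1 := hH κ b 1
    rw [hκ, e0 _ (θ.symm (κ : F) * 1), e0 μ (θ.symm (κ : F) * 1), mul_one] at e1
    rw [← hκ2]
    apply mul_left_cancel₀ hk
    rw [e1]; ring
  rw [e0]
  by_cases hb0 : b = 0
  · rw [hb0, h0, mul_zero]
  by_cases hb1 : b + 1 = 0
  · have : b = 1 := by rw [← CharTwo.sub_eq_add, sub_eq_zero] at hb1; exact hb1
    rw [this, h1, mul_zero]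
  have hb1' : b ≠ 1 := by
    rintro rfl
    exact hb1 (CharTwo.add_self_eq_zero _)
  have e1 := key (b + 1) b hb1
  have e2 := key b (b + 1) hb0
  have e3 : q (b + 1) 1 = q b 1 := by rw [hb, h1, add_zero]
  rw [mul_comm b (b + 1), e1, e3, map_add, map_one] at e2
  field_simp at e2
  have e4 : q b 1 * (θ b + b ^ 2) = 0 := by
    have c2 : (2 : F) = 0 := CharTwo.two_eq_zero
    linear_combination e2 + (q b 1 * θ b + q b 1 * b ^ 2) * c2
  have e5 : θ b + b ^ 2 ≠ 0 := by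
    rw [← CharTwo.sub_eq_add]; exact sub_ne_zero.2 (th_ne_sq hθ hb0 hb1')
  rw [(mul_eq_zero.1 e4).resolve_right e5, mul_zero]

include hθ in
/-- third functional equation -/
theorem d_zero [Finite F] {d : F → F → F} (hb : ∀ b c y, d (b + c) y = d b y + d c y)
    (hy : ∀ b y z, d b (y + z) = d b y + d b z) (h1 : ∀ y, d 1 y = 0)
    (hc : ∀ b y, d b (b * y) = b * d b y)
    (hH : ∀ (κ : Fˣ) a y, κ * θ.symm κ * d a y = d (κ * a) (κ * θ.symm κ * y) +
      a * d κ (κ * θ.symm κ * y)) (b y : F) : d b y = 0 := by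
  have h0 : ∀ y, d 0 y = 0 := fun y => by simpa using hb 0 0 y
  have h00 : ∀ b, d b 0 = 0 := fun b => by simpa using hy b 0 0
  have lin : ∀ b c y, d b (c * y) = c * d b y := by
    apply lin_of_gen h0 h00 hc
    intro μ b hμ hlb hlμ c y
    have hk : (μ : F) * θ.symm μ ≠ 0 := mul_ne_zero hμ (by rw [map_ne_zero]; exact hμ)
    have e1 := hH (Units.mk0 μ hμ) b (c * ((μ * θ.symm μ)⁻¹ * y))
    have e2 := hH (Units.mk0 μ hμ) b ((μ * θ.symm μ)⁻¹ * y)
    simp only [Units.val_mk0] at e1 e2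
    have e3 : μ * θ.symm μ * (c * ((μ * θ.symm μ)⁻¹ * y)) = c * y := by
      rw [mul_left_comm, ← mul_assoc (μ * θ.symm μ), mul_inv_cancel₀ hk, one_mul]
    have e4 : μ * θ.symm μ * ((μ * θ.symm μ)⁻¹ * y) = y := by
      rw [← mul_assoc, mul_inv_cancel₀ hk, one_mul]
    rw [e3, hlb, hlμ] at e1
    rw [e4] at e2
    linear_combination (-1 : F) * e1 + c * e2
  have e0 : ∀ b y, d b y = y * d b 1 := fun b y => by rw [← lin, mul_one]
  rw [e0]
  have key : ∀ b, d b 1 = 0 := by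
    apply p_zero (p := fun b => d b 1) (fun b c => hb b c 1) (h1 1)
    intro μ a hμ
    have hk : (μ : F) * θ.symm μ ≠ 0 := mul_ne_zero hμ (by rw [map_ne_zero]; exact hμ)
    have e1 := hH (Units.mk0 μ hμ) a 1
    simp only [Units.val_mk0, mul_one] at e1
    rw [e0 (μ * a), e0 μ (μ * θ.symm μ)] at e1
    have e2 : d a 1 = d (μ * a) 1 + a * d μ 1 := by
      apply mul_left_cancel₀ hk
      rw [e1]; ring
    have c2 : (2 : F) = 0 := CharTwo.two_eq_zero
    show d (μ * a) 1 = d a 1 + a * d μ 1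
    rw [e2]
    linear_combination -(a * d μ 1) * c2
  rw [key, mul_zero]

end Cfsg.Agent.Lib.Mz
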