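import Cfsg.Agent.Lib.MzA
import Mathlib

/-!
Modules for the Suzuki groups in characteristic two, part B: there is no nonzero invariant biadditive
map on the natural module with values in the natural module.
-/

set_option autoImplicit false
set_option linter.unusedSectionVars false
open scoped Matrix

namespace Cfsg.Agent.Lib.Mz

open Cfsg.Agent.Lib.SuzukiOvoid Cfsg.Agent.Lib.SuzukiGroup Cfsg.Agent.Lib.SuzukiSyl

variable {F : Type*} [Field F] [CharP F 2] {θ : F ≃+* F} (hθ : ∀ x, θ (θ x) = x ^ 2)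

/-- vectors of the plane `W` -/
def wv (p q : F) : Nm F := ![p, q, 0, 0]

omit [CharP F 2] in
theorem wv_add (p q p' q' : F) : wv (p + p') (q + q') = wv p q + wv p' q' := by
  ext i; fin_cases i <;> simp [wv]

theorem nm_U_wv (a c p q : F) : nm (Ug θ hθ a c) (wv p q) = wv (p + a * q) q := by
  rw [nm_U]; ext i; fin_cases i <;> simp [wv]

theorem nm_H_wv (κ : Fˣ) (p q : F) : nm (Hg θ hθ κ) (wv p q) = wv (κ * θ.symm κ * p) (θ.symm κ * q) := by
  rw [nm_H]; ext i; fin_cases i <;> simp [wv]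

omit [CharP F 2] in
theorem eq_wv {v : Nm F} (h2 : v 2 = 0) (h3 : v 3 = 0) : v = wv (v 0) (v 1) := by
  ext i; fin_cases i <;> simp [wv, h2, h3]

/-- the action of the centre minus the identity -/
theorem nm_Z (b : F) (v : Nm F) : nm (Ug θ hθ 0 b) v = v + wv (b * v 2 + θ b * v 3) (b * v 3) := by
  rw [nm_U]; ext i; fin_cases i <;> simp [wv, ff] <;> ring

omit [CharP F 2] in
theorem wv_eq {p q p' q' : F} (h : wv p q = wv p' q') : p = p' ∧ q = q' :=
  ⟨congrFun h 0, congrFun h 1⟩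

theorem exists_b (hne : ∃ x, θ x ≠ x ^ 2) : ∃ b : F, b ≠ 0 ∧ b ≠ 1 := exists_ne θ hne

include hθ in
theorem psi_lin (hne : ∃ x, θ x ≠ x ^ 2) {B0 B1 : F → F → F}
    (ha0 : ∀ p p' q q', B0 (p + p') (q + q') = B0 p q + B0 p' q')
    (ha1 : ∀ p p' q q', B1 (p + p') (q + q') = B1 p q + B1 p' q')
    (h0 : ∀ b p q, B0 (b * p + (b + θ b) * q) (b * q) = b * B0 p q + (b + θ b) * B1 p q)
    (h1 : ∀ b p q, B1 (b * p + (b + θ b) * q) (b * q) = b * B1 p q) (p q : F) :
    B0 p q = p * B0 1 0 + q * B0 0 1 ∧ B1 p q = q * B0 1 0 := by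
  obtain ⟨b, hb0, hb1⟩ := exists_b hne
  have hb : (θ b + b) * (θ b + b) ≠ 0 := mul_ne_zero (th_ne_self hθ hb0 hb1) (th_ne_self hθ hb0 hb1)
  have c2 : (2 : F) = 0 := CharTwo.two_eq_zero
  -- first: q = 0
  have f1 : ∀ c, B1 c 0 = c * B1 1 0 := fun c => by simpa using h1 c 1 0
  have f0 : ∀ c, B0 c 0 = c * B0 1 0 + (c + θ c) * B1 1 0 := fun c => by simpa using h0 c 1 0
  have f1z : B1 1 0 = 0 := by
    have e1 := h0 b b 0
    rw [mul_zero, add_zero, mul_zero, f0 (b * b), f0 b, f1 b, map_mul] at e1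
    apply (mul_eq_zero.1 (?_ : ((θ b + b) * (θ b + b)) * B1 1 0 = 0)).resolve_left hb
    linear_combination e1 + (2 * θ b * b * B1 1 0 + b ^ 2 * B1 1 0) * c2
  have f0' : ∀ c, B0 c 0 = c * B0 1 0 := fun c => by rw [f0, f1z]; ring
  have f1' : ∀ c, B1 c 0 = 0 := fun c => by rw [f1, f1z, mul_zero]
  have s0 : ∀ p q, B0 p q = p * B0 1 0 + B0 0 q := fun p q => by
    rw [← f0', ← ha0, add_zero, zero_add]
  have s1 : ∀ p q, B1 p q = B1 0 q := fun p q => by
    have := ha1 p 0 0 q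
    rw [add_zero, zero_add, f1', zero_add] at this; exact this
  have g1 : ∀ c, B1 0 c = c * B1 0 1 := fun c => by
    have := h1 c 0 1
    rw [s1, mul_one] at this; exact this
  have g0 : ∀ c, B0 0 c = c * B0 0 1 + (c + θ c) * (B1 0 1 - B0 1 0) := fun c => by
    have := h0 c 0 1
    rw [s0, mul_one, mul_zero, zero_add, mul_one] at this
    linear_combination this
  have g1z : B1 0 1 - B0 1 0 = 0 := by
    have e1 := h0 b 0 b
    rw [s0, mul_zero, zero_add, g0 (b * b), g0 b, g1 b, map_mul] at e1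
    apply (mul_eq_zero.1 (?_ : ((θ b + b) * (θ b + b)) * (B1 0 1 - B0 1 0) = 0)).resolve_left hb
    linear_combination e1 + (2 * θ b * b * (B1 0 1 - B0 1 0) + b ^ 2 * (B1 0 1 - B0 1 0)) * c2
  refine ⟨?_, ?_⟩
  · rw [s0, g0, g1z]; ring
  · rw [s1, g1]; linear_combination q * g1z

include hθ in
/-- first variable analysis -/
theorem first_var (hne : ∃ x, θ x ≠ x ^ 2) {β : Nm F → Nm F → Nm F}
    (hl : ∀ v v' w, β (v + v') w = β v w + β v' w)
    (hr : ∀ v w w', β v (w + w') = β v w + β v w')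
    (he : ∀ (g : Gz θ) v w, β (nm g v) (nm g w) = nm g (β v w)) (r s : F) :
    (∀ v, wv ((β v (wv r s)) 2 + θ 1 * (β v (wv r s)) 3) ((β v (wv r s)) 3) =
      β (wv (v 2 + θ 1 * v 3) (v 3)) (wv r s)) ∧
    (∀ p q, β (wv p q) (wv r s) = wv (p * (β (wv 1 0) (wv r s)) 0 + q * (β (wv 0 1) (wv r s)) 0)
      (q * (β (wv 1 0) (wv r s)) 0)) := by
  have hz0 : ∀ w, β 0 w = 0 := fun w => by simpa using hl 0 0 w
  have t0 : ∀ x y : F, (wv x y : Nm F) 0 = x := fun _ _ => rfl
  have t1 : ∀ x y : F, (wv x y : Nm F) 1 = y := fun _ _ => rfl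
  -- action of Z
  have hZ : ∀ b v, wv (b * (β v (wv r s)) 2 + θ b * (β v (wv r s)) 3) (b * (β v (wv r s)) 3) =
      β (wv (b * v 2 + θ b * v 3) (b * v 3)) (wv r s) := by
    intro b v
    have h1 := he (Ug θ hθ 0 b) v (wv r s)
    rw [nm_U_wv, zero_mul, add_zero, nm_Z, nm_Z, hl] at h1
    exact (add_left_cancel h1).symm
  have hZ1 : ∀ v, wv ((β v (wv r s)) 2 + θ 1 * (β v (wv r s)) 3) ((β v (wv r s)) 3) =
      β (wv (v 2 + θ 1 * v 3) (v 3)) (wv r s) := by
    intro v; simpa using hZ 1 v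
  refine ⟨hZ1, ?_⟩
  -- values on W lie in W
  have hW : ∀ p q, (β (wv p q) (wv r s)) 2 = 0 ∧ (β (wv p q) (wv r s)) 3 = 0 := by
    intro p q
    have h1 := hZ1 (wv p q)
    have h2 : wv ((wv p q : Nm F) 2 + θ 1 * (wv p q : Nm F) 3) ((wv p q : Nm F) 3) = 0 := by
      ext i; fin_cases i <;> simp [wv]
    rw [h2, hz0] at h1
    have h3 := congrFun h1 1
    have h4 := congrFun h1 0
    rw [t1] at h3
    rw [t0] at h4
    simp only [Pi.zero_apply] at h3 h4
    refine ⟨?_, h3⟩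
    rw [h3] at h4; simpa using h4
  have key : ∀ b p q, (β (wv (b * p + (b + θ b) * q) (b * q)) (wv r s)) =
      wv (b * (β (wv p q) (wv r s)) 0 + (b + θ b) * (β (wv p q) (wv r s)) 1) (b * (β (wv p q) (wv r s)) 1) := by
    intro b p q
    set v : Nm F := ![0, 0, p + q, q] with hv
    have c2 : (2 : F) = 0 := CharTwo.two_eq_zero
    have e1 := hZ 1 v
    have e2 := hZ b v
    have e3 : (wv (1 * v 2 + θ 1 * v 3) (1 * v 3) : Nm F) = wv p q := by
      have : v 2 = p + q := rfl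
      have h3 : v 3 = q := rfl
      rw [this, h3, map_one]
      congr 1
      · linear_combination q * c2
      · ring
    have e4 : (wv (b * v 2 + θ b * v 3) (b * v 3) : Nm F) = wv (b * p + (b + θ b) * q) (b * q) := by
      have : v 2 = p + q := rfl
      have h3 : v 3 = q := rfl
      rw [this, h3]
      congr 1
      ring
    rw [e3] at e1
    rw [e4] at e2
    rw [← e2, ← e1]
    rw [t0, t1, map_one]
    congr 1
    · linear_combination -(b * (β v (wv r s)) 3) * c2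
    · ring
  have hp := psi_lin hθ hne (B0 := fun p q => (β (wv p q) (wv r s)) 0)
    (B1 := fun p q => (β (wv p q) (wv r s)) 1)
    (fun p p' q q' => by simp only [wv_add, hl, Pi.add_apply])
    (fun p p' q q' => by simp only [wv_add, hl, Pi.add_apply])
    (fun b p q => by simp only [key]; rfl) (fun b p q => by simp only [key]; rfl)
  intro p q
  rw [eq_wv (hW p q).1 (hW p q).2]
  obtain ⟨h1, h2⟩ := hp p q
  rw [h1, h2]

include hθ in
/-- **There is no nonzero invariant biadditive map on the natural module.** -/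
theorem bilin_zero (hne : ∃ x, θ x ≠ x ^ 2) {β : Nm F → Nm F → Nm F}
    (hl : ∀ v v' w, β (v + v') w = β v w + β v' w)
    (hr : ∀ v w w', β v (w + w') = β v w + β v w')
    (he : ∀ (g : Gz θ) v w, β (nm g v) (nm g w) = nm g (β v w)) (v w : Nm F) : β v w = 0 := by
  have hz0 : ∀ w, β 0 w = 0 := fun w => by simpa using hl 0 0 w
  have h0z : ∀ w, β w 0 = 0 := fun w => by simpa using hr w 0 0
  have c2 : (2 : F) = 0 := CharTwo.two_eq_zero
  have A := fun r s => first_var hθ hne hl hr he r s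
  have B := fun r s => first_var hθ hne (β := fun v w => β w v) (fun v v' w => hr w v v')
    (fun v w w' => hl w w' v) (fun g v w => he g w v) r s
  have t0 : ∀ x y : F, (wv x y : Nm F) 0 = x := fun _ _ => rfl
  have t1 : ∀ x y : F, (wv x y : Nm F) 1 = y := fun _ _ => rfl
  have hwv0 : (wv 0 0 : Nm F) = 0 := by ext i; fin_cases i <;> simp [wv]
  -- values with first argument e0
  have a1 : (β (wv 1 0) (wv 1 0)) 0 = 0 := by
    have h1 := (A 1 0).2 0 1
    have h2 := (B 0 1).2 1 0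
    simp only [zero_mul, zero_add, one_mul, add_zero] at h1 h2
    have h3 := congrFun h1 1
    have h4 := congrFun h2 1
    rw [t1] at h3 h4
    rw [← h3]; exact h4
  have a2 : ∀ p r, β (wv p 0) (wv r 0) = 0 := by
    intro p r
    rw [(A r 0).2 p 0, (B 1 0).2 r 0, t0]
    simp only [zero_mul, add_zero]
    rw [a1, mul_zero, mul_zero, hwv0]
  have hG1 : β (wv 0 1) (wv 1 0) = wv ((β (wv 0 1) (wv 1 0)) 0) 0 := by
    have h1 := (A 1 0).2 0 1
    simp only [zero_mul, zero_add, one_mul] at h1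
    rw [a1] at h1; exact h1
  have hG2 : β (wv 1 0) (wv 0 1) = wv ((β (wv 1 0) (wv 0 1)) 0) 0 := by
    have h1 := (B 1 0).2 0 1
    simp only [zero_mul, zero_add, one_mul] at h1
    rw [a1] at h1; exact h1
  have h11 : (β (wv 0 1) (wv 0 1)) 1 = (β (wv 1 0) (wv 0 1)) 0 := by
    have h1 := congrFun ((A 0 1).2 0 1) 1
    rw [t1, one_mul] at h1; exact h1
  have h11' : (β (wv 0 1) (wv 0 1)) 1 = (β (wv 0 1) (wv 1 0)) 0 := by
    have h1 := congrFun ((B 0 1).2 0 1) 1
    rw [t1, one_mul] at h1; exact h1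
  have hα : β (wv 0 1) (wv 0 1) = wv ((β (wv 0 1) (wv 0 1)) 0) ((β (wv 1 0) (wv 0 1)) 0) := by
    have h1 := (A 0 1).2 0 1
    simp only [zero_mul, zero_add, one_mul] at h1
    exact h1
  set α := (β (wv 0 1) (wv 0 1)) 0 with hαd
  set γ := (β (wv 1 0) (wv 0 1)) 0 with hγd
  have hG1' : β (wv 0 1) (wv 1 0) = wv γ 0 := by rw [hG1, ← h11', h11]
  -- U-invariance
  have hγ : γ = 0 := by
    have h1 := he (Ug θ hθ 1 0) (wv 0 1) (wv 0 1)
    rw [nm_U_wv, hα, nm_U_wv] at h1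
    simp only [mul_one, zero_add, one_mul] at h1
    have e : (wv 1 1 : Nm F) = wv 1 0 + wv 0 1 := by rw [← wv_add]; simp
    rw [e, hl, hr, hr, a2, hG2, hG1', hα] at h1
    have h2 := congrFun h1 0
    simp only [Pi.add_apply, Pi.zero_apply] at h2
    rw [t0, t0, t0] at h2
    linear_combination -h2 + γ * c2
  rw [hγ] at hα hG2 hG1'
  rw [hwv0] at hG2 hG1'
  have hWW0 : ∀ q s, β (wv 0 q) (wv 0 s) = wv (q * s * α) 0 := by
    intro q s
    rw [(A 0 s).2 0 q]
    rw [(B 0 1).2 0 s, (B 1 0).2 0 s, t0, t0, hG1', hG2]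
    simp only [zero_mul, zero_add, Pi.zero_apply, mul_zero, add_zero]
    rw [← hαd]
    congr 1; ring
  have hα0 : α = 0 := by
    obtain ⟨b, hb0, hb1⟩ := exists_b hne
    set κ := Units.mk0 b hb0
    have h1 := he (Hg θ hθ κ) (wv 0 1) (wv 0 1)
    rw [nm_H_wv, hWW0, mul_zero, hWW0, nm_H_wv] at h1
    have h2 := (wv_eq h1).1
    simp only [mul_one, one_mul] at h2
    have hk : θ.symm (κ : F) ≠ 0 := by rw [map_ne_zero]; exact κ.ne_zero
    have h3 : θ.symm (κ : F) + κ ≠ 0 := by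
      intro h
      have := congrArg θ h
      rw [map_add, RingEquiv.apply_symm_apply, map_zero] at this
      exact th_ne_self hθ hb0 hb1 (by rw [add_comm]; exact this)
    apply (mul_eq_zero.1 (?_ : (θ.symm (κ : F) * (θ.symm (κ : F) + κ)) * α = 0)).resolve_left
      (mul_ne_zero hk h3)
    linear_combination h2 + κ * θ.symm κ * α * c2
  have hWW : ∀ p q r s, β (wv p q) (wv r s) = 0 := by
    intro p q r s
    have e1 : (wv p q : Nm F) = wv p 0 + wv 0 q := by rw [← wv_add]; simp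
    have e2 : (wv r s : Nm F) = wv r 0 + wv 0 s := by rw [← wv_add]; simp
    have m1 : β (wv p 0) (wv 0 s) = 0 := by
      rw [(A 0 s).2 p 0, (B 1 0).2 0 s, hG2, t0]
      simp [a2, hwv0]
    have m2 : β (wv 0 q) (wv r 0) = 0 := by
      rw [(A r 0).2 0 q, (B 0 1).2 r 0, a2, hG1', t0]
      simp [hwv0]
    rw [e1, e2, hl, hr, hr, a2, m1, m2, hWW0, hα0, mul_zero, hwv0]
    simp
  -- values on V × W lie in W
  have hVW : ∀ v r s, (β v (wv r s)) 2 = 0 ∧ (β v (wv r s)) 3 = 0 := by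
    intro v r s
    have h1 := (A r s).1 v
    rw [hWW] at h1
    have h3 := congrFun h1 1
    have h4 := congrFun h1 0
    rw [t1] at h3
    rw [t0] at h4
    simp only [Pi.zero_apply] at h3 h4
    refine ⟨?_, h3⟩
    rw [h3] at h4; simpa using h4
  have hWV : ∀ v r s, (β (wv r s) v) 2 = 0 ∧ (β (wv r s) v) 3 = 0 := by
    intro v r s
    have h1 := (B r s).1 v
    rw [hWW] at h1
    have h3 := congrFun h1 1
    have h4 := congrFun h1 0
    rw [t1] at h3
    rw [t0] at h4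
    simp only [Pi.zero_apply] at h3 h4
    refine ⟨?_, h3⟩
    rw [h3] at h4; simpa using h4
  have hWsW : ∀ p q r s, β (wv p q) (nm (Wg θ hθ) (wv r s)) = 0 := by
    intro p q r s
    have h1 := he (Wg θ hθ) (wv p q) (nm (Wg θ hθ) (wv r s))
    rw [← nm_mul, Wg_sq, nm_one] at h1
    have h2 := hWV (nm (Wg θ hθ) (wv r s)) p q
    have h3 := hVW (nm (Wg θ hθ) (wv p q)) r s
    rw [h1, nm_W] at h3
    obtain ⟨h3a, h3b⟩ := h3
    have h4 : (β (wv p q) (nm (Wg θ hθ) (wv r s))) 1 = 0 := h3a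
    have h5 : (β (wv p q) (nm (Wg θ hθ) (wv r s))) 0 = 0 := h3b
    ext i; fin_cases i
    · exact h5
    · exact h4
    · exact h2.1
    · exact h2.2
  have dec : ∀ v : Nm F, v = wv (v 0) (v 1) + nm (Wg θ hθ) (wv (v 3) (v 2)) := by
    intro v
    rw [nm_W]; ext i; fin_cases i <;> simp [wv]
  have hWall : ∀ p q v, β (wv p q) v = 0 := by
    intro p q v
    rw [dec v, hr, hWW, hWsW, add_zero]
  rw [dec v, hl, hWall, zero_add]
  have h1 := he (Wg θ hθ) (wv (v 3) (v 2)) (nm (Wg θ hθ) w)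
  rw [← nm_mul, Wg_sq, nm_one, hWall, nm_zero] at h1
  exact h1

end Cfsg.Agent.Lib.Mz
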