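import Cfsg.Agent.Lib.MzB
import Mathlib

/-!
Modules for the Suzuki groups in characteristic two, part C: extensions of the natural module by itself
are elementary abelian, and the centre of a Sylow 2-subgroup acts quadratically.
-/

set_option autoImplicit false
set_option linter.unusedSectionVars false
open scoped Matrix

namespace Cfsg.Agent.Lib.Mz

open Cfsg.Agent.Lib.SuzukiOvoid Cfsg.Agent.Lib.SuzukiGroup Cfsg.Agent.Lib.SuzukiSyl

variable {F : Type*} [Field F] [CharP F 2] {θ : F ≃+* F} (hθ : ∀ x, θ (θ x) = x ^ 2)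

/-- vectors `(0,0,x,y)` -/
def tv (x y : F) : Nm F := ![0, 0, x, y]

omit [CharP F 2] in
theorem tv_add (x y x' y' : F) : tv (x + x') (y + y') = tv x y + tv x' y' := by
  ext i; fin_cases i <;> simp [tv]

omit [CharP F 2] in
theorem eq_wv_tv (v : Nm F) : v = wv (v 0) (v 1) + tv (v 2) (v 3) := by
  ext i; fin_cases i <;> simp [tv, wv]

omit [CharP F 2] in
@[simp] theorem wv0 (p q : F) : (wv p q : Nm F) 0 = p := rfl
omit [CharP F 2] in
@[simp] theorem wv1 (p q : F) : (wv p q : Nm F) 1 = q := rfl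
omit [CharP F 2] in
@[simp] theorem wv2 (p q : F) : (wv p q : Nm F) 2 = 0 := rfl
omit [CharP F 2] in
@[simp] theorem wv3 (p q : F) : (wv p q : Nm F) 3 = 0 := rfl
omit [CharP F 2] in
@[simp] theorem tv0 (p q : F) : (tv p q : Nm F) 0 = 0 := rfl
omit [CharP F 2] in
@[simp] theorem tv1 (p q : F) : (tv p q : Nm F) 1 = 0 := rfl
omit [CharP F 2] in
@[simp] theorem tv2 (p q : F) : (tv p q : Nm F) 2 = p := rfl
omit [CharP F 2] in
@[simp] theorem tv3 (p q : F) : (tv p q : Nm F) 3 = q := rfl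
omit [CharP F 2] in
theorem wv_zero : (wv 0 0 : Nm F) = 0 := by ext i; fin_cases i <;> simp [wv]

theorem neg_eq (v : Nm F) : -v = v := neg_eq_of_add_eq_zero_left (two v)

include hθ in
/-- the natural module is irreducible as an additive group -/
theorem span_top {K : AddSubgroup (Nm F)} (hK : ∀ (g : Gz θ), ∀ x ∈ K, nm g x ∈ K) {v : Nm F}
    (hv : v ∈ K) (hv0 : v ≠ 0) : K = ⊤ := by
  -- a vector `(p,0,0,0)`
  have hZ : ∀ b x, x ∈ K → wv (b * x 2 + θ b * x 3) (b * x 3) ∈ K := by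
    intro b x hx
    have h1 := K.add_mem hx (hK (Ug θ hθ 0 b) x hx)
    rw [nm_Z, ← add_assoc, two, zero_add] at h1; exact h1
  have hU : ∀ a p q, wv p q ∈ K → wv (a * q) 0 ∈ K := by
    intro a p q hx
    have h1 := K.add_mem hx (hK (Ug θ hθ a 0) _ hx)
    rw [nm_U_wv, ← wv_add, CharTwo.add_self_eq_zero, ← add_assoc, CharTwo.add_self_eq_zero, zero_add] at h1
    exact h1
  have h1 : ∃ p : F, p ≠ 0 ∧ wv p 0 ∈ K := by
    by_cases h3 : v 3 = 0
    · by_cases h2 : v 2 = 0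
      · rw [eq_wv h2 h3] at hv hv0
        by_cases h1 : v 1 = 0
        · rw [h1] at hv hv0
          refine ⟨v 0, ?_, hv⟩
          intro h0; apply hv0; rw [h0, wv_zero]
        · exact ⟨v 1, h1, by simpa using hU 1 _ _ hv⟩
      · refine ⟨v 2, h2, ?_⟩
        have := hZ 1 v hv
        simpa [h3] using this
    · refine ⟨v 3, h3, ?_⟩
      have := hU 1 _ _ (hZ 1 v hv)
      simpa using this
  obtain ⟨p, hp, hpK⟩ := h1
  have h0 : ∀ c : F, wv c 0 ∈ K := by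
    intro c
    by_cases hc : c = 0
    · rw [hc, wv_zero]; exact K.zero_mem
    obtain ⟨κ, hκ⟩ := ka_surj hθ (div_ne_zero hc hp)
    have := hK (Hg θ hθ κ) _ hpK
    rw [nm_H_wv, hκ, mul_zero, div_mul_cancel₀ _ hp] at this
    exact this
  have h3 : ∀ c : F, tv 0 c ∈ K := by
    intro c
    have := hK (Wg θ hθ) _ (h0 c)
    rw [nm_W] at this; exact this
  have hW : ∀ p q : F, wv p q ∈ K := by
    intro p q
    have e1 := hZ 1 _ (h3 q)
    simp only [tv2, tv3, map_one, one_mul, mul_zero, zero_add] at e1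
    have e2 := K.add_mem e1 (h0 (p + q))
    rw [← wv_add] at e2
    have e3 : q + (p + q) = p := by rw [add_left_comm, CharTwo.add_self_eq_zero, add_zero]
    rw [e3, add_zero] at e2; exact e2
  have hT : ∀ x y : F, tv x y ∈ K := by
    intro x y
    have e1 := hK (Wg θ hθ) _ (hW y x)
    rw [nm_W] at e1
    exact e1
  rw [eq_top_iff]
  intro x _
  rw [eq_wv_tv x]
  exact K.add_mem (hW _ _) (hT _ _)

/-- an extension of the natural module by itself -/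
structure Ex (θ : F ≃+* F) (V : Type*) [AddCommGroup V] where
  ρ : Gz θ → V → V
  ρ_one : ∀ v, ρ 1 v = v
  ρ_mul : ∀ g h v, ρ (g * h) v = ρ g (ρ h v)
  ρ_add : ∀ g v w, ρ g (v + w) = ρ g v + ρ g w
  i : Nm F → V
  i_add : ∀ a b, i (a + b) = i a + i b
  i_inj : Function.Injective i
  π : V → Nm F
  π_add : ∀ a b, π (a + b) = π a + π b
  π_surj : Function.Surjective π
  exact : ∀ v, π v = 0 ↔ ∃ a, i a = v
  i_eq : ∀ g a, i (nm g a) = ρ g (i a)
  π_eq : ∀ g v, π (ρ g v) = nm g (π v)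

namespace Ex

variable {V : Type*} [AddCommGroup V] (E : Ex θ V)

theorem ρ_zero (g : Gz θ) : E.ρ g 0 = 0 := by simpa using E.ρ_add g 0 0
theorem ρ_neg (g : Gz θ) (v : V) : E.ρ g (-v) = -E.ρ g v := by
  apply eq_neg_of_add_eq_zero_left
  rw [← E.ρ_add, neg_add_cancel, E.ρ_zero]
theorem ρ_sub (g : Gz θ) (v w : V) : E.ρ g (v - w) = E.ρ g v - E.ρ g w := by
  rw [sub_eq_add_neg, E.ρ_add, E.ρ_neg, ← sub_eq_add_neg]
theorem i_zero : E.i 0 = 0 := by simpa using E.i_add 0 0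
theorem π_zero : E.π 0 = 0 := by simpa using E.π_add 0 0
theorem π_neg (v : V) : E.π (-v) = E.π v := by
  have h1 : E.π (-v) + E.π v = 0 := by rw [← E.π_add, neg_add_cancel, E.π_zero]
  rw [← neg_eq (E.π v)]
  exact eq_neg_of_add_eq_zero_left h1
theorem π_sub (v w : V) : E.π (v - w) = E.π v + E.π w := by
  rw [sub_eq_add_neg, E.π_add, E.π_neg]
theorem π_i (a : Nm F) : E.π (E.i a) = 0 := (E.exact _).2 ⟨a, rfl⟩
theorem i_two (a : Nm F) : E.i a + E.i a = 0 := by rw [← E.i_add, two, E.i_zero]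
theorem i_neg (a : Nm F) : -E.i a = E.i a := neg_eq_of_add_eq_zero_left (E.i_two a)
theorem i_sub (a b : Nm F) : E.i a - E.i b = E.i (a + b) := by
  rw [sub_eq_add_neg, E.i_neg, E.i_add]

theorem sub_of_π {v w : V} (h : E.π v = E.π w) : ∃ a, E.i a = v - w := by
  rw [← E.exact, E.π_sub, h, two]

/-- `1 + z` -/
def Y (b : F) (v : V) : V := v + E.ρ (Ug θ hθ 0 b) v
/-- `z - 1` -/
def X (b : F) (v : V) : V := E.ρ (Ug θ hθ 0 b) v - v

theorem Y_add (b : F) (v w : V) : E.Y hθ b (v + w) = E.Y hθ b v + E.Y hθ b w := by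
  unfold Y; rw [E.ρ_add]; abel
theorem X_add (b : F) (v w : V) : E.X hθ b (v + w) = E.X hθ b v + E.X hθ b w := by
  unfold X; rw [E.ρ_add]; abel

theorem ZZ (b c : F) : Ug θ hθ 0 b * Ug θ hθ 0 c = Ug θ hθ 0 (b + c) := by
  rw [Ug_mul]; simp
theorem ZZ_self (b : F) : Ug θ hθ 0 b * Ug θ hθ 0 b = 1 := by
  rw [ZZ, CharTwo.add_self_eq_zero, Ug_zero]

theorem π_Y (b : F) (v : V) : E.π (E.Y hθ b v) = wv (b * (E.π v) 2 + θ b * (E.π v) 3) (b * (E.π v) 3) := by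
  unfold Y
  rw [E.π_add, E.π_eq, nm_Z, ← add_assoc, two, zero_add]
theorem π_X (b : F) (v : V) : E.π (E.X hθ b v) = wv (b * (E.π v) 2 + θ b * (E.π v) 3) (b * (E.π v) 3) := by
  unfold X
  rw [E.π_sub, E.π_eq, nm_Z, add_right_comm, two, zero_add]
theorem Y_i (b : F) (a : Nm F) : E.Y hθ b (E.i a) = E.i (wv (b * a 2 + θ b * a 3) (b * a 3)) := by
  unfold Y
  rw [← E.i_eq, ← E.i_add, nm_Z, ← add_assoc, two, zero_add]
theorem X_i (b : F) (a : Nm F) : E.X hθ b (E.i a) = E.i (wv (b * a 2 + θ b * a 3) (b * a 3)) := by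
  unfold X
  rw [← E.i_eq, E.i_sub, nm_Z, add_right_comm, two, zero_add]

theorem X_Y_i (b c : F) (a : Nm F) : E.X hθ b (E.Y hθ c (E.i a)) = 0 := by
  rw [E.Y_i, E.X_i]
  simp only [wv2, wv3, mul_zero, add_zero]
  rw [wv_zero, E.i_zero]

theorem exists_S (b c : F) : ∃ S : Nm F → Nm F, ∀ v, E.i (S (E.π v)) = E.X hθ b (E.Y hθ c v) := by
  have h1 : ∀ x : Nm F, ∃ s : Nm F, ∀ v, E.π v = x → E.i s = E.X hθ b (E.Y hθ c v) := by
    intro x
    obtain ⟨v0, rfl⟩ := E.π_surj x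
    have h2 : E.π (E.X hθ b (E.Y hθ c v0)) = 0 := by
      rw [E.π_X, E.π_Y]
      simp only [wv2, wv3, mul_zero, add_zero]
      exact wv_zero
    obtain ⟨s, hs⟩ := (E.exact _).1 h2
    refine ⟨s, fun v hv => ?_⟩
    obtain ⟨a, ha⟩ := E.sub_of_π hv
    have : v = E.i a + v0 := by rw [ha]; abel
    rw [this, E.Y_add, E.X_add, E.X_Y_i, zero_add, hs]
  choose S hS using h1
  exact ⟨S, fun v => hS _ v rfl⟩

/-- the obstruction map -/
noncomputable def S (b c : F) : Nm F → Nm F := (E.exists_S hθ b c).choose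
theorem S_spec (b c : F) (v : V) : E.i (E.S hθ b c (E.π v)) = E.X hθ b (E.Y hθ c v) :=
  (E.exists_S hθ b c).choose_spec v

theorem S_add (b c : F) (x y : Nm F) : E.S hθ b c (x + y) = E.S hθ b c x + E.S hθ b c y := by
  obtain ⟨v, rfl⟩ := E.π_surj x
  obtain ⟨w, rfl⟩ := E.π_surj y
  apply E.i_inj
  rw [← E.π_add, E.S_spec, E.i_add, E.S_spec, E.S_spec, E.Y_add, E.X_add]

theorem comm_U (a c b : F) (v : V) : E.ρ (Ug θ hθ a c) (E.ρ (Ug θ hθ 0 b) v) =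
    E.ρ (Ug θ hθ 0 b) (E.ρ (Ug θ hθ a c) v) := by
  rw [← E.ρ_mul, ← E.ρ_mul, Ug_mul, Ug_mul]
  simp [add_comm]

theorem S_U (a d b c : F) (x : Nm F) :
    E.S hθ b c (nm (Ug θ hθ a d) x) = nm (Ug θ hθ a d) (E.S hθ b c x) := by
  obtain ⟨v, rfl⟩ := E.π_surj x
  apply E.i_inj
  have hc : ∀ e (w : V), E.ρ (Ug θ hθ a d) (E.ρ (Ug θ hθ 0 e) w) =
      E.ρ (Ug θ hθ 0 e) (E.ρ (Ug θ hθ a d) w) := fun e w => E.comm_U hθ a d e w
  rw [← E.π_eq, E.S_spec, E.i_eq, E.S_spec]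
  simp only [X, Y, E.ρ_sub, E.ρ_add, hc]

theorem S_H (κ : Fˣ) (b c : F) (x : Nm F) : nm (Hg θ hθ κ) (E.S hθ b c x) =
    E.S hθ (κ * θ κ * b) (κ * θ κ * c) (nm (Hg θ hθ κ) x) := by
  obtain ⟨v, rfl⟩ := E.π_surj x
  have hc : ∀ d (w : V), E.ρ (Hg θ hθ κ) (E.ρ (Ug θ hθ 0 d) w) =
      E.ρ (Ug θ hθ 0 (κ * θ κ * d)) (E.ρ (Hg θ hθ κ) w) := by
    intro d w
    rw [← E.ρ_mul, ← E.ρ_mul]
    have := Hg_conj θ hθ κ 0 d
    rw [mul_inv_eq_iff_eq_mul, mul_zero] at this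
    rw [this]
  apply E.i_inj
  rw [← E.π_eq, E.S_spec, E.i_eq, E.S_spec]
  simp only [X, Y, E.ρ_sub, E.ρ_add, hc]

theorem S_mem {b : F} (hb : b ≠ 0) (c : F) (x : Nm F) : (E.S hθ b c x) 2 = 0 ∧ (E.S hθ b c x) 3 = 0 := by
  obtain ⟨v, rfl⟩ := E.π_surj x
  have h1 : E.X hθ b (E.i (E.S hθ b c (E.π v))) = E.i (E.S hθ b c (E.π v)) + E.i (E.S hθ b c (E.π v)) := by
    rw [E.S_spec]
    set w := E.Y hθ c v
    have h2 : E.X hθ b (E.X hθ b w) = - (E.X hθ b w + E.X hθ b w) := by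
      unfold X
      rw [E.ρ_sub, ← E.ρ_mul, ZZ_self, E.ρ_one]; abel
    rw [h2, ← E.S_spec, E.i_two, neg_zero]
  rw [E.X_i, E.i_two, ← E.i_zero] at h1
  have h2 := E.i_inj h1
  have h3 := congrFun h2 1
  have h4 := congrFun h2 0
  simp only [wv0, wv1, Pi.zero_apply] at h3 h4
  have h5 := (mul_eq_zero.1 h3).resolve_left hb
  rw [h5, mul_zero, add_zero] at h4
  exact ⟨(mul_eq_zero.1 h4).resolve_left hb, h5⟩

theorem S_zero_left (c : F) (x : Nm F) : E.S hθ 0 c x = 0 := by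
  obtain ⟨v, rfl⟩ := E.π_surj x
  apply E.i_inj
  rw [E.S_spec, E.i_zero]
  unfold X
  rw [Ug_zero, E.ρ_one, sub_self]

theorem S_mem' (b c : F) (x : Nm F) : (E.S hθ b c x) 2 = 0 ∧ (E.S hθ b c x) 3 = 0 := by
  by_cases hb : b = 0
  · subst hb; rw [E.S_zero_left]; exact ⟨rfl, rfl⟩
  · exact E.S_mem hθ hb c x

theorem S_addb (b b' c : F) (x : Nm F) : E.S hθ (b + b') c x = E.S hθ b c x + E.S hθ b' c x := by
  obtain ⟨v, rfl⟩ := E.π_surj x
  apply E.i_inj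
  have h1 : ∀ w, E.X hθ (b + b') w = E.ρ (Ug θ hθ 0 b) (E.X hθ b' w) + E.X hθ b w := by
    intro w
    unfold X
    rw [← ZZ, E.ρ_mul, E.ρ_sub]; abel
  have h2 : nm (Ug θ hθ 0 b) (E.S hθ b' c (E.π v)) = E.S hθ b' c (E.π v) := by
    rw [nm_Z, (E.S_mem' hθ b' c _).1, (E.S_mem' hθ b' c _).2]
    simp [wv_zero]
  rw [E.S_spec, h1, E.i_add, E.S_spec, ← E.S_spec hθ b' c, ← E.i_eq, h2, add_comm]

theorem S_self (b : F) (x : Nm F) : E.S hθ b b x = 0 := by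
  obtain ⟨v, rfl⟩ := E.π_surj x
  apply E.i_inj
  rw [E.S_spec, E.i_zero]
  unfold X Y
  rw [E.ρ_add, ← E.ρ_mul, ZZ_self, E.ρ_one]; abel

/-- change of the second parameter -/
theorem S_change {c : F} (hc : c ≠ 0) (x : Nm F) : ∃ a : Nm F, ∀ b,
    E.S hθ b c x = E.S hθ b 1 (tv (c * x 2 + θ c * x 3 + c * x 3) (c * x 3)) +
      wv (b * a 2 + θ b * a 3) (b * a 3) := by
  obtain ⟨v, rfl⟩ := E.π_surj x
  set x' : Nm F := tv (c * (E.π v) 2 + θ c * (E.π v) 3 + c * (E.π v) 3) (c * (E.π v) 3) with hx'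
  obtain ⟨v', hv'⟩ := E.π_surj x'
  have h1 : E.π (E.Y hθ c v) = E.π (E.Y hθ 1 v') := by
    rw [E.π_Y, E.π_Y, hv', hx']
    simp only [tv2, tv3, map_one, one_mul]
    congr 1
    rw [add_assoc, CharTwo.add_self_eq_zero, add_zero]
  obtain ⟨a, ha⟩ := E.sub_of_π h1
  refine ⟨a, fun b => ?_⟩
  apply E.i_inj
  rw [E.S_spec, E.i_add, ← hv', E.S_spec, ← E.X_i hθ, ha, ← E.X_add]
  congr 1; abel

/-- values on `W` -/
theorem S_wv (b p q : F) : E.S hθ b 1 (wv p q) = 0 := by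
  obtain ⟨v', hv'⟩ := E.π_surj (tv (p + q) q)
  have h1 : E.π (E.Y hθ 1 v') = wv p q := by
    rw [E.π_Y, hv']
    simp only [tv2, tv3, map_one, one_mul]
    congr 1
    rw [add_assoc, CharTwo.add_self_eq_zero, add_zero]
  apply E.i_inj
  rw [← h1, E.S_spec]
  have h2 : E.Y hθ 1 (E.Y hθ 1 v') = E.Y hθ 1 v' + E.Y hθ 1 v' := by
    unfold Y
    rw [E.ρ_add, ← E.ρ_mul, ZZ_self, E.ρ_one]; abel
  rw [h2, E.X_add, ← E.S_spec, E.i_two, E.i_zero]

/-- the first coefficient function -/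
noncomputable def p (b : F) : F := (E.S hθ b 1 (tv 0 1)) 1
/-- the second coefficient function -/
noncomputable def q (b y : F) : F := (E.S hθ b 1 (tv 0 y)) 0

theorem S_form (b : F) (x : Nm F) : E.S hθ b 1 x =
    wv (x 2 * E.p hθ b + E.q hθ b (x 3)) (x 3 * E.p hθ b) := by
  have e1 : ∀ a y, E.S hθ b 1 (tv (a * y) 0) = wv (a * (E.S hθ b 1 (tv 0 y)) 1) 0 := by
    intro a y
    have h1 : nm (Ug θ hθ a 0) (tv 0 y : Nm F) = wv (ff θ a 0 * y) 0 + tv (a * y) 0 + tv 0 y := by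
      rw [nm_U]; ext i; fin_cases i <;> simp [wv, tv]
    have h2 := E.S_U hθ a 0 b 1 (tv 0 y)
    rw [h1, E.S_add, E.S_add, E.S_wv, zero_add] at h2
    have h3 := E.S_mem' hθ b 1 (tv 0 y)
    rw [eq_wv h3.1 h3.2, nm_U_wv] at h2
    have h4 : wv ((E.S hθ b 1 (tv 0 y)) 0 + a * (E.S hθ b 1 (tv 0 y)) 1) ((E.S hθ b 1 (tv 0 y)) 1) =
        wv (a * (E.S hθ b 1 (tv 0 y)) 1) 0 + wv ((E.S hθ b 1 (tv 0 y)) 0) ((E.S hθ b 1 (tv 0 y)) 1) := by
      rw [← wv_add, zero_add, add_comm (a * _)]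
    rw [h4] at h2
    exact add_right_cancel h2
  have e2 : ∀ a, E.S hθ b 1 (tv a 0) = wv (a * E.p hθ b) 0 := fun a => by
    have := e1 a 1
    rw [mul_one] at this; exact this
  have e3 : ∀ y, (E.S hθ b 1 (tv 0 y)) 1 = y * E.p hθ b := by
    intro y
    have h1 := e1 1 y
    rw [one_mul, e2, one_mul] at h1
    exact (wv_eq h1).1.symm
  have e4 : ∀ y, E.S hθ b 1 (tv 0 y) = wv (E.q hθ b y) (y * E.p hθ b) := by
    intro y
    have h3 := E.S_mem' hθ b 1 (tv 0 y)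
    rw [eq_wv h3.1 h3.2, e3]; rfl
  have e5 : x = wv (x 0) (x 1) + (tv (x 2) 0 + tv 0 (x 3)) := by
    rw [← tv_add, add_zero, zero_add]; exact eq_wv_tv x
  conv_lhs => rw [e5]
  rw [E.S_add, E.S_wv, zero_add, E.S_add, e2, e4, ← wv_add, zero_add]

theorem p_add (b c : F) : E.p hθ (b + c) = E.p hθ b + E.p hθ c := by
  unfold p; rw [E.S_addb]; rfl
theorem q_add (b c y : F) : E.q hθ (b + c) y = E.q hθ b y + E.q hθ c y := by
  unfold q; rw [E.S_addb]; rfl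
theorem q_add' (b y z : F) : E.q hθ b (y + z) = E.q hθ b y + E.q hθ b z := by
  unfold q
  have : (tv 0 (y + z) : Nm F) = tv 0 y + tv 0 z := by rw [← tv_add, add_zero]
  rw [this, E.S_add]; rfl
theorem p_one : E.p hθ 1 = 0 := by unfold p; rw [E.S_self]; rfl
theorem q_one (y : F) : E.q hθ 1 y = 0 := by unfold q; rw [E.S_self]; rfl

theorem H_rel (κ : Fˣ) (b y : F) : ∃ a2 a3 : F,
    κ * θ.symm κ * E.q hθ b y =
      (θ (κ * θ κ) * ((κ * θ.symm κ)⁻¹ * y) + κ * θ κ * ((κ * θ.symm κ)⁻¹ * y)) * E.p hθ (κ * θ κ * b) +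
      E.q hθ (κ * θ κ * b) (θ.symm κ * y) + (κ * θ κ * b * a2 + θ (κ * θ κ * b) * a3) ∧
    θ.symm κ * (y * E.p hθ b) = θ.symm κ * y * E.p hθ (κ * θ κ * b) + κ * θ κ * b * a3 ∧
    (θ (κ * θ κ) * ((κ * θ.symm κ)⁻¹ * y) + κ * θ κ * ((κ * θ.symm κ)⁻¹ * y)) * E.p hθ (κ * θ κ) +
      E.q hθ (κ * θ κ) (θ.symm κ * y) = κ * θ κ * a2 + θ (κ * θ κ) * a3 ∧
    θ.symm κ * y * E.p hθ (κ * θ κ) = κ * θ κ * a3 := by
  have hk0 : (κ : F) ≠ 0 := κ.ne_zero
  have hk : θ.symm (κ : F) ≠ 0 := by rw [map_ne_zero]; exact κ.ne_zero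
  have hμ : (κ : F) * θ κ ≠ 0 := mul_ne_zero hk0 ((map_ne_zero θ).2 hk0)
  have hk3 := symm_sq θ hθ (κ : F)
  have h1 := E.S_H hθ κ b 1 (tv 0 y)
  have h2 : nm (Hg θ hθ κ) (tv 0 y : Nm F) = tv 0 ((κ * θ.symm κ)⁻¹ * y) := by
    rw [nm_H]; ext i; fin_cases i <;> simp [tv]
  rw [h2, mul_one, E.S_form hθ b, nm_H_wv] at h1
  simp only [tv2, tv3, zero_mul, zero_add] at h1
  obtain ⟨a, ha⟩ := E.S_change hθ hμ (tv 0 ((κ * θ.symm κ)⁻¹ * y))
  have e1 : (κ : F) * θ κ * ((κ * θ.symm κ)⁻¹ * y) = θ.symm κ * y := by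
    rw [← hk3]; field_simp
  simp only [tv2, tv3, mul_zero, zero_add] at ha
  have h3 := ha (κ * θ κ * b)
  have h4 := ha (κ * θ κ)
  rw [← h1, E.S_form, ← wv_add] at h3
  rw [E.S_self, E.S_form, ← wv_add, ← wv_zero] at h4
  simp only [tv2, tv3] at h3 h4
  obtain ⟨h5, h6⟩ := wv_eq h3
  obtain ⟨h7, h8⟩ := wv_eq h4
  rw [e1] at h5 h6 h7 h8
  refine ⟨a 2, a 3, ?_, h6, ?_, ?_⟩
  · rw [h5, e1]
  · rw [e1]
    have := eq_neg_of_add_eq_zero_left h7.symm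
    rw [this, CharTwo.neg_eq]
  · have := eq_neg_of_add_eq_zero_left h8.symm
    rw [this, CharTwo.neg_eq]

theorem p_eq_zero (b : F) : E.p hθ b = 0 := by
  refine p_zero (E.p_add hθ) (E.p_one hθ) ?_ b
  intro μ c hμ
  obtain ⟨κ, hκ, -⟩ := mu_surj hθ hμ
  have hk : θ.symm (κ : F) ≠ 0 := by rw [map_ne_zero]; exact κ.ne_zero
  obtain ⟨a2, a3, -, h2, -, h4⟩ := E.H_rel hθ κ c 1
  rw [hκ] at h2 h4
  have c2 : (2 : F) = 0 := CharTwo.two_eq_zero
  apply mul_left_cancel₀ hk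
  linear_combination -h2 - c * h4 - (μ * c * a3) * c2

theorem S_form' (b : F) (x : Nm F) : E.S hθ b 1 x = wv (E.q hθ b (x 3)) 0 := by
  rw [E.S_form, E.p_eq_zero]; simp

theorem exists_D : ∃ D : Nm F → Nm F, ∀ v, E.i (D (E.π v)) = v + v := by
  have h1 : ∀ x : Nm F, ∃ s : Nm F, ∀ v, E.π v = x → E.i s = v + v := by
    intro x
    obtain ⟨v0, rfl⟩ := E.π_surj x
    have h2 : E.π (v0 + v0) = 0 := by rw [E.π_add, two]
    obtain ⟨s, hs⟩ := (E.exact _).1 h2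
    refine ⟨s, fun v hv => ?_⟩
    obtain ⟨a, ha⟩ := E.sub_of_π hv
    have : v = E.i a + v0 := by rw [ha]; abel
    rw [this, hs]
    have h3 := E.i_two a
    rw [add_add_add_comm, h3, zero_add]
  choose S hS using h1
  exact ⟨S, fun v => hS _ v rfl⟩

/-- multiplication by two -/
noncomputable def D : Nm F → Nm F := E.exists_D.choose
theorem D_spec (v : V) : E.i (E.D (E.π v)) = v + v := E.exists_D.choose_spec v

theorem D_add (x y : Nm F) : E.D (x + y) = E.D x + E.D y := by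
  obtain ⟨v, rfl⟩ := E.π_surj x
  obtain ⟨w, rfl⟩ := E.π_surj y
  apply E.i_inj
  rw [← E.π_add, E.D_spec, E.i_add, E.D_spec, E.D_spec]; abel

theorem D_nm (g : Gz θ) (x : Nm F) : E.D (nm g x) = nm g (E.D x) := by
  obtain ⟨v, rfl⟩ := E.π_surj x
  apply E.i_inj
  rw [← E.π_eq, E.D_spec, E.i_eq, E.D_spec, E.ρ_add]

theorem D_zero : E.D 0 = 0 := by simpa using E.D_add 0 0

/-- symmetry up to multiplication by two -/
theorem S_symm (b : F) (x : Nm F) : E.S hθ b 1 x =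
    E.S hθ 1 b x + E.D (nm (Ug θ hθ 0 b) x + nm (Ug θ hθ 0 1) x) := by
  obtain ⟨v, rfl⟩ := E.π_surj x
  apply E.i_inj
  rw [E.i_add, E.S_spec, E.S_spec, ← E.π_eq, ← E.π_eq, ← E.π_sub, E.D_spec]
  unfold X Y
  rw [E.ρ_add, E.ρ_add, E.comm_U]
  abel

include hθ in
/-- **An extension of the natural module by itself is elementary abelian.** -/
theorem D_eq_zero (hne : ∃ x, θ x ≠ x ^ 2) (x : Nm F) : E.D x = 0 := by
  obtain ⟨b, hb0, hb1⟩ := exists_b hne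
  have hb1' : b + 1 ≠ 0 := by
    intro h; apply hb1; rw [← CharTwo.sub_eq_add, sub_eq_zero] at h; exact h
  -- values of D on W lie in W
  have hW : ∀ p q, (E.D (wv p q)) 2 = 0 ∧ (E.D (wv p q)) 3 = 0 := by
    intro p q
    have h1 := E.D_nm (Ug θ hθ 0 1) (wv p q)
    rw [nm_U_wv, zero_mul, add_zero, nm_Z] at h1
    have h2 : wv (1 * (E.D (wv p q)) 2 + θ 1 * (E.D (wv p q)) 3) (1 * (E.D (wv p q)) 3) = 0 := by
      have := h1.symm
      rwa [add_eq_left] at this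
    have h3 := congrFun h2 1
    have h4 := congrFun h2 0
    simp only [wv0, wv1, Pi.zero_apply, one_mul, map_one] at h3 h4
    rw [h3, add_zero] at h4
    exact ⟨h4, h3⟩
  have hU : ∀ a p q, E.D (wv (p + a * q) q) =
      wv ((E.D (wv p q)) 0 + a * (E.D (wv p q)) 1) ((E.D (wv p q)) 1) := by
    intro a p q
    have h1 := E.D_nm (Ug θ hθ a 0) (wv p q)
    rw [nm_U_wv, eq_wv (hW p q).1 (hW p q).2, nm_U_wv] at h1
    exact h1
  have key : ∀ y, (E.D (wv ((θ b + 1) * y) ((b + 1) * y))) 1 = 0 := by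
    intro y
    have h1 := E.S_symm hθ b (tv 0 y)
    have h2 : nm (Ug θ hθ 0 b) (tv 0 y) + nm (Ug θ hθ 0 1) (tv 0 y) =
        wv ((θ b + 1) * y) ((b + 1) * y) := by
      rw [nm_Z, nm_Z, add_add_add_comm, two, zero_add, ← wv_add]
      simp only [tv2, tv3, mul_zero, zero_add, map_one, one_mul]
      congr 1 <;> ring
    obtain ⟨a, ha⟩ := E.S_change hθ hb0 (tv 0 y)
    simp only [tv2, tv3, mul_zero, zero_add] at ha
    have e1 := ha b
    have e2 := ha 1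
    rw [E.S_self, E.S_form', ← wv_add, ← wv_zero] at e1
    have e3 := (wv_eq e1).2
    rw [zero_add] at e3
    have e4 : a 3 = 0 := (mul_eq_zero.1 e3.symm).resolve_left hb0
    rw [e4, E.S_form', ← wv_add] at e2
    rw [h2, e2, E.S_form'] at h1
    have h3 := congrFun h1 1
    simp only [Pi.add_apply, wv1, mul_zero, add_zero, zero_add] at h3
    exact h3.symm
  have hadd : ∀ p q, (E.D (wv p q)) 1 = (E.D (wv 0 q)) 1 := by
    intro p q
    have h1 : ∀ r, (E.D (wv r 0)) 1 = 0 := by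
      intro r
      have h2 := congrFun (hU r 0 1) 1
      rw [wv1, mul_one, zero_add] at h2
      have h3 : (wv r 1 : Nm F) = wv r 0 + wv 0 1 := by rw [← wv_add]; simp
      rw [h3, E.D_add, Pi.add_apply] at h2
      exact add_eq_right.1 h2
    have h3 : (wv p q : Nm F) = wv p 0 + wv 0 q := by rw [← wv_add]; simp
    rw [h3, E.D_add, Pi.add_apply, h1, zero_add]
  have h0 : ∀ q, (E.D (wv 0 q)) 1 = 0 := by
    intro q
    have h1 := key ((b + 1)⁻¹ * q)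
    rw [hadd, ← mul_assoc, mul_inv_cancel₀ hb1', one_mul] at h1
    exact h1
  have hfin : E.D (wv 1 0) = 0 := by
    have h1 := hU 1 0 1
    rw [h0, mul_zero, add_zero, mul_one, zero_add] at h1
    have h3 : (wv 1 1 : Nm F) = wv 1 0 + wv 0 1 := by rw [← wv_add]; simp
    have h4 : E.D (wv 0 1) = wv ((E.D (wv 0 1)) 0) 0 := by
      conv_lhs => rw [eq_wv (hW 0 1).1 (hW 0 1).2, h0]
    rw [h3, E.D_add, ← h4] at h1
    exact add_eq_right.1 h1
  let Dh : Nm F →+ Nm F := { toFun := E.D, map_zero' := E.D_zero, map_add' := E.D_add }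
  have htop := span_top hθ (K := Dh.ker)
    (fun g x hx => by
      have hx' : E.D x = 0 := hx
      show E.D (nm g x) = 0
      rw [E.D_nm, hx', nm_zero]) (v := wv 1 0) hfin (by
      intro h
      have := congrFun h 0
      simp at this)
  have : x ∈ (⊤ : AddSubgroup (Nm F)) := trivial
  rw [← htop] at this
  exact this

include E hθ in
theorem add_self (hne : ∃ x, θ x ≠ x ^ 2) (v : V) : v + v = 0 := by
  rw [← E.D_spec, E.D_eq_zero hθ hne, E.i_zero]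

theorem q_comm (hne : ∃ x, θ x ≠ x ^ 2) (b y : F) : E.q hθ b (b * y) = b * E.q hθ b y := by
  by_cases hb0 : b = 0
  · subst hb0
    have h0 : ∀ y, E.q hθ 0 y = 0 := fun y => by
      simpa using E.q_add hθ 0 0 y
    rw [h0, h0, mul_zero]
  have h1 := E.S_symm hθ b (tv 0 y)
  rw [E.D_eq_zero hθ hne, add_zero] at h1
  obtain ⟨a, ha⟩ := E.S_change hθ hb0 (tv 0 y)
  simp only [tv2, tv3, mul_zero, zero_add] at ha
  have e1 := ha b
  have e2 := ha 1
  rw [E.S_self, E.S_form', ← wv_add, ← wv_zero] at e1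
  obtain ⟨e5, e3⟩ := wv_eq e1
  rw [zero_add] at e3
  have e4 : a 3 = 0 := (mul_eq_zero.1 e3.symm).resolve_left hb0
  rw [e4, E.S_self, zero_add] at e2
  rw [e2, E.S_form'] at h1
  have h3 := (wv_eq h1).1
  simp only [tv3, mul_zero, add_zero, one_mul] at h3 e5
  rw [e4, mul_zero, add_zero] at e5
  rw [h3]
  have := eq_neg_of_add_eq_zero_left e5.symm
  rw [this, CharTwo.neg_eq]

theorem q_eq_zero [Finite F] (hne : ∃ x, θ x ≠ x ^ 2) (b y : F) : E.q hθ b y = 0 := by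
  apply q_zero hθ (E.q_add hθ) (E.q_add' hθ) (E.q_one hθ) (E.q_comm hθ hne)
  intro κ c z
  have hk0 : (κ : F) ≠ 0 := κ.ne_zero
  have hμ : (κ : F) * θ κ ≠ 0 := mul_ne_zero hk0 ((map_ne_zero θ).2 hk0)
  obtain ⟨a2, a3, h1, h2, h3, h4⟩ := E.H_rel hθ κ c z
  simp only [E.p_eq_zero, mul_zero, zero_add] at h1 h2 h3 h4
  have e4 : a3 = 0 := (mul_eq_zero.1 h4.symm).resolve_left hμ
  rw [e4] at h1 h3
  have c2 : (2 : F) = 0 := CharTwo.two_eq_zero
  linear_combination (-1 : F) * h1 - c * h3 - (κ * θ κ * c * a2) * c2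

/-- **The centre acts quadratically.** -/
theorem S_eq_zero [Finite F] (hne : ∃ x, θ x ≠ x ^ 2) (b c : F) (x : Nm F) : E.S hθ b c x = 0 := by
  have hT : ∀ b x, E.S hθ b 1 x = 0 := fun b x => by
    rw [E.S_form', E.q_eq_zero hθ hne, wv_zero]
  by_cases hc : c = 0
  · subst hc
    obtain ⟨v, rfl⟩ := E.π_surj x
    apply E.i_inj
    rw [E.S_spec, E.i_zero]
    unfold X Y
    rw [Ug_zero, E.ρ_one, E.add_self hθ hne, E.ρ_zero, sub_zero]
  obtain ⟨a, ha⟩ := E.S_change hθ hc x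
  have e1 := ha c
  rw [E.S_self, hT, zero_add, ← wv_zero] at e1
  obtain ⟨e2, e3⟩ := wv_eq e1
  have e4 : a 3 = 0 := (mul_eq_zero.1 e3.symm).resolve_left hc
  rw [e4, mul_zero, add_zero] at e2
  have e5 : a 2 = 0 := (mul_eq_zero.1 e2.symm).resolve_left hc
  rw [ha b, hT, e4, e5]
  simp [wv_zero]

end Ex

end Cfsg.Agent.Lib.Mz
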