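import Cfsg.Agent.Lib.MzC
import Mathlib

/-!
Modules for the Suzuki groups in characteristic two, part D: general modules; the relation of an element
of order five; Bruhat decomposition.
-/

set_option autoImplicit false
set_option linter.unusedSectionVars false
open scoped Matrix

namespace Cfsg.Agent.Lib.Mz

open Cfsg.Agent.Lib.SuzukiOvoid Cfsg.Agent.Lib.SuzukiGroup Cfsg.Agent.Lib.SuzukiSyl

variable {F : Type*} [Field F] [CharP F 2] {θ : F ≃+* F} (hθ : ∀ x, θ (θ x) = x ^ 2)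

omit [CharP F 2] in
theorem ext_nm {g h : Gz θ} (hh : ∀ v, nm g v = nm h v) : g = h := by
  apply Subtype.ext
  apply Subtype.ext
  apply Matrix.toLin'.injective
  apply LinearMap.ext
  intro v
  rw [Matrix.toLin'_apply, Matrix.toLin'_apply]
  exact hh v

/-- bruhat -/
theorem bruhat (hne : ∃ x, θ x ≠ x ^ 2) (g : Gz θ) :
    (∃ (a b : F) (κ : Fˣ), g = Ug θ hθ a b * Hg θ hθ κ) ∨
    (∃ (a b c d : F) (κ : Fˣ), g = Ug θ hθ a b * Wg θ hθ * (Ug θ hθ c d * Hg θ hθ κ)) := by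
  rcases cases θ (g • inf θ) with h | ⟨x, y, h⟩
  · exact Or.inl (onePt θ hθ hne h)
  · right
    have h1 : ((Ug θ hθ x y * Wg θ hθ)⁻¹ * g) • inf θ = inf θ := by
      rw [mul_smul, h, inv_smul_eq_iff, mul_smul, Wg_inf, Ug_zero_pt]
    obtain ⟨c, d, κ, h2⟩ := onePt θ hθ hne h1
    refine ⟨x, y, c, d, κ, ?_⟩
    rw [← h2]; group

theorem sts : Wg θ hθ * Ug θ hθ 0 1 * Wg θ hθ = Ug θ hθ 1 0 * Wg θ hθ * Ug θ hθ 1 1 := by
  apply ext_nm
  intro v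
  rw [nm_mul, nm_mul, nm_mul, nm_mul, nm_W, nm_U, nm_W, nm_U, nm_W, nm_U]
  have c2 : (2 : F) = 0 := CharTwo.two_eq_zero
  ext i
  fin_cases i
  · simp [ff]
    linear_combination (-2 * v 2 - v 1 - 3 * v 3) * c2
  · simp [ff]
    linear_combination (- v 2 - v 3) * c2
  · simp [ff]
    linear_combination (-(v 2) - v 1 - 2 * v 3) * c2
  · simp [ff]
    linear_combination (- v 2 - v 3) * c2

theorem y_inv : (Ug θ hθ 1 0)⁻¹ = Ug θ hθ 1 1 := by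
  rw [Ug_inv]; simp

theorem sys1 : Wg θ hθ * Ug θ hθ 1 1 * Wg θ hθ = Ug θ hθ 1 1 * Wg θ hθ * Ug θ hθ 0 1 := by
  have h := sts hθ
  have hW := Wg_sq θ hθ
  have hWi : (Wg θ hθ)⁻¹ = Wg θ hθ := inv_eq_of_mul_eq_one_left hW
  rw [← y_inv] at h ⊢
  have h2 : (Ug θ hθ 1 0)⁻¹ * Wg θ hθ * Ug θ hθ 0 1 * Wg θ hθ = Wg θ hθ * (Ug θ hθ 1 0)⁻¹ := by
    rw [mul_assoc, mul_assoc, ← mul_assoc (Wg θ hθ), h, mul_assoc, inv_mul_cancel_left]
  rw [← h2, mul_assoc _ (Wg θ hθ) (Wg θ hθ), hW, mul_one]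

theorem sy0s : Wg θ hθ * Ug θ hθ 1 0 * Wg θ hθ = Ug θ hθ 0 1 * Wg θ hθ * Ug θ hθ 1 0 := by
  have h := congrArg (·⁻¹) (sys1 hθ)
  have hW := Wg_sq θ hθ
  have hWi : (Wg θ hθ)⁻¹ = Wg θ hθ := inv_eq_of_mul_eq_one_left hW
  simp only [mul_inv_rev, hWi] at h
  have e1 : (Ug θ hθ 1 1)⁻¹ = Ug θ hθ 1 0 := by rw [← y_inv, inv_inv]
  have e2 : (Ug θ hθ 0 1)⁻¹ = Ug θ hθ 0 1 := by rw [Ug_inv]; simp
  rw [e1, e2] at h
  rw [mul_assoc, h, mul_assoc]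

/-- a module for the Suzuki group -/
structure Md (θ : F ≃+* F) (V : Type*) [AddCommGroup V] where
  ρ : Gz θ → V → V
  ρ_one : ∀ v, ρ 1 v = v
  ρ_mul : ∀ g h v, ρ (g * h) v = ρ g (ρ h v)
  ρ_add : ∀ g v w, ρ g (v + w) = ρ g v + ρ g w

namespace Md

variable {V : Type*} [AddCommGroup V] (M : Md θ V)

theorem ρ_zero (g : Gz θ) : M.ρ g 0 = 0 := by simpa using M.ρ_add g 0 0
theorem ρ_neg (g : Gz θ) (v : V) : M.ρ g (-v) = -M.ρ g v := by
  apply eq_neg_of_add_eq_zero_left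
  rw [← M.ρ_add, neg_add_cancel, M.ρ_zero]
theorem ρ_inj (g : Gz θ) {v w : V} (h : M.ρ g v = M.ρ g w) : v = w := by
  have := congrArg (M.ρ g⁻¹) h
  rwa [← M.ρ_mul, ← M.ρ_mul, inv_mul_cancel, M.ρ_one, M.ρ_one] at this

/-- `g + 1` -/
def A (g : Gz θ) (v : V) : V := M.ρ g v + v

theorem A_add (g : Gz θ) (v w : V) : M.A g (v + w) = M.A g v + M.A g w := by
  unfold A; rw [M.ρ_add]; abel
theorem A_zero (g : Gz θ) : M.A g 0 = 0 := by unfold A; rw [M.ρ_zero, add_zero]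

/-- the norm of the element of order four -/
def N0 (v : V) : V := M.A (Ug θ hθ 1 0) (M.A (Ug θ hθ 0 1) v)

theorem N0_add (v w : V) : M.N0 hθ (v + w) = M.N0 hθ v + M.N0 hθ w := by
  unfold N0; rw [M.A_add, M.A_add]

theorem star0 (h5 : ∀ v, M.ρ (Wg θ hθ * Ug θ hθ 0 1) v = v → v = 0) {p : V}
    (hp : ∀ a c, M.ρ (Ug θ hθ a c) p = p) : p + M.ρ (Wg θ hθ) p + M.ρ (Ug θ hθ 1 0 * Wg θ hθ) p +
      M.ρ (Ug θ hθ 1 1 * Wg θ hθ) p + M.ρ (Ug θ hθ 0 1 * Wg θ hθ) p = 0 := by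
  set s := Wg θ hθ with hs
  set t := Ug θ hθ 0 1 with ht
  set y := Ug θ hθ 1 0 with hy
  have hty : t * y = Ug θ hθ 1 1 := by rw [ht, hy, Ug_mul]; simp
  have htt : t * t = 1 := Ex.ZZ_self hθ 1
  have hss : s * s = 1 := Wg_sq θ hθ
  have e1 : M.ρ (s * t) p = M.ρ s p := by rw [M.ρ_mul, hp]
  have e2 : M.ρ (s * t) (M.ρ s p) = M.ρ (y * s) p := by
    rw [← M.ρ_mul, sts hθ, M.ρ_mul _ (Ug θ hθ 1 1), hp]
  have e3 : M.ρ (s * t) (M.ρ (y * s) p) = M.ρ (t * y * s) p := by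
    rw [← M.ρ_mul]
    have : s * t * (y * s) = s * Ug θ hθ 1 1 * s := by rw [← hty]; group
    rw [this, sys1 hθ, M.ρ_mul _ (Ug θ hθ 0 1), hp, hty]
  have e4 : M.ρ (s * t) (M.ρ (t * y * s) p) = M.ρ (t * s) p := by
    rw [← M.ρ_mul]
    have : s * t * (t * y * s) = s * (t * t) * y * s := by group
    rw [this, htt, mul_one, sy0s hθ, M.ρ_mul _ (Ug θ hθ 1 0), hp]
  have e5 : M.ρ (s * t) (M.ρ (t * s) p) = p := by
    rw [← M.ρ_mul]
    have : s * t * (t * s) = s * (t * t) * s := by group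
    rw [this, htt, mul_one, hss, M.ρ_one]
  rw [← hty]
  apply h5
  rw [M.ρ_add, M.ρ_add, M.ρ_add, M.ρ_add, e1, e2, e3, e4, e5]
  abel

/-- **the relation of the element of order five** -/
theorem star (h2 : ∀ v : V, v + v = 0) (h5 : ∀ v, M.ρ (Wg θ hθ * Ug θ hθ 0 1) v = v → v = 0) {p : V}
    (hp : ∀ a c, M.ρ (Ug θ hθ a c) p = p) : M.N0 hθ (M.ρ (Wg θ hθ) p) = p := by
  have h0 := M.star0 hθ h5 hp
  set s := Wg θ hθ with hs
  set t := Ug θ hθ 0 1 with ht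
  set y := Ug θ hθ 1 0 with hy
  have hty : t * y = Ug θ hθ 1 1 := by rw [ht, hy, Ug_mul]; simp
  have hyt : y * t = Ug θ hθ 1 1 := by rw [ht, hy, Ug_mul]; simp
  rw [← hty] at h0
  unfold N0 A
  rw [← hy, ← ht, M.ρ_add]
  have h3 : M.ρ y (M.ρ t (M.ρ s p)) = M.ρ (t * y * s) p := by
    rw [← M.ρ_mul, ← M.ρ_mul, hyt, hty]
  rw [h3, ← M.ρ_mul y, ← M.ρ_mul t]
  have h6 : ∀ v : V, -v = v := fun v => neg_eq_of_add_eq_zero_left (h2 v)
  have h7 : p = M.ρ s p + M.ρ (y * s) p + M.ρ (t * y * s) p + M.ρ (t * s) p := by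
    have h8 : p + (M.ρ s p + M.ρ (y * s) p + M.ρ (t * y * s) p + M.ρ (t * s) p) = 0 := by
      rw [← h0]; abel
    exact (eq_neg_of_add_eq_zero_left h8).trans (h6 _)
  conv_rhs => rw [h7]
  abel

end Md

/-- the natural module -/
def natMd (θ : F ≃+* F) : Md θ (Nm F) where
  ρ := nm
  ρ_one := nm_one
  ρ_mul := nm_mul
  ρ_add := nm_add

/-- the element of order five has no fixed vectors on the natural module -/
theorem nat_five (v : Nm F) (h : nm (Wg θ hθ * Ug θ hθ 0 1) v = v) : v = 0 := by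
  rw [nm_mul, nm_U, nm_W] at h
  have h0 := congrFun h 0
  have h1 := congrFun h 1
  have h2 := congrFun h 2
  have h3 := congrFun h 3
  simp [ff] at h0 h1 h2 h3
  have c2 : (2 : F) = 0 := CharTwo.two_eq_zero
  have a3 : v 3 = 0 := by linear_combination h2 + h1
  have a0 : v 0 = 0 := by rw [← h0, a3]
  have a2 : v 2 = 0 := by rw [a0, zero_add] at h3; exact h3
  have a1 : v 1 = 0 := by rw [← h1, a2]
  ext i; fin_cases i
  · exact a0
  · exact a1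
  · exact a2
  · exact a3

end Cfsg.Agent.Lib.Mz
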