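import Cfsg.Agent.Lib.MzD
import Mathlib

/-!
Modules for the Suzuki groups in characteristic two, part E: extensions of the natural module by itself
have enough vectors fixed by a Sylow 2-subgroup.
-/

set_option autoImplicit false
set_option linter.unusedSectionVars false
open scoped Matrix

namespace Cfsg.Agent.Lib.Mz

open Cfsg.Agent.Lib.SuzukiOvoid Cfsg.Agent.Lib.SuzukiGroup Cfsg.Agent.Lib.SuzukiSyl

variable {F : Type*} [Field F] [CharP F 2] {θ : F ≃+* F} (hθ : ∀ x, θ (θ x) = x ^ 2)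

namespace Ex

variable {V : Type*} [AddCommGroup V] (E : Ex θ V)

/-- the underlying module -/
def md : Md θ V where
  ρ := E.ρ
  ρ_one := E.ρ_one
  ρ_mul := E.ρ_mul
  ρ_add := E.ρ_add

/-- `g + 1` -/
def A (g : Gz θ) (v : V) : V := E.ρ g v + v

theorem A_add (g : Gz θ) (v w : V) : E.A g (v + w) = E.A g v + E.A g w := E.md.A_add g v w
theorem A_zero (g : Gz θ) : E.A g 0 = 0 := E.md.A_zero g
theorem π_A (g : Gz θ) (v : V) : E.π (E.A g v) = nm g (E.π v) + E.π v := by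
  unfold A; rw [E.π_add, E.π_eq]
theorem A_i (g : Gz θ) (a : Nm F) : E.A g (E.i a) = E.i (nm g a + a) := by
  unfold A; rw [E.i_add, E.i_eq]

theorem nU_wv (a c p q : F) : nm (Ug θ hθ a c) (wv p q) + wv p q = wv (a * q) 0 := by
  rw [nm_U_wv, ← wv_add, CharTwo.add_self_eq_zero]
  congr 1
  rw [add_right_comm, CharTwo.add_self_eq_zero, zero_add]

theorem nZ (b : F) (x : Nm F) : nm (Ug θ hθ 0 b) x + x = wv (b * x 2 + θ b * x 3) (b * x 3) := by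
  rw [nm_Z, add_right_comm, two, zero_add]

/-- fixed by the centre -/
def Zf (w : V) : Prop := ∀ b, E.ρ (Ug θ hθ 0 b) w = w

variable [Finite F] (hne : ∃ x, θ x ≠ x ^ 2)

include hne

theorem quad (b c : F) (v : V) : E.A (Ug θ hθ 0 b) (E.A (Ug θ hθ 0 c) v) = 0 := by
  have h1 := E.S_spec hθ b c v
  rw [E.S_eq_zero hθ hne, E.i_zero] at h1
  have h2 : ∀ v : V, -v = v := fun v => neg_eq_of_add_eq_zero_left (E.add_self hθ hne v)
  unfold A
  rw [h1]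
  unfold X Y
  rw [sub_eq_add_neg, h2, add_comm v]

theorem zf_A (c : F) (v : V) : E.Zf hθ (E.A (Ug θ hθ 0 c) v) := by
  intro b
  have h1 := E.quad hθ hne b c v
  have h2 : ∀ v : V, -v = v := fun v => neg_eq_of_add_eq_zero_left (E.add_self hθ hne v)
  have h3 := eq_neg_of_add_eq_zero_left (show E.ρ (Ug θ hθ 0 b) (E.A (Ug θ hθ 0 c) v) +
    E.A (Ug θ hθ 0 c) v = 0 from h1)
  rw [h3, h2]

omit hne [Finite F] in
theorem zf_ρ (a c : F) {w : V} (hw : E.Zf hθ w) : E.Zf hθ (E.ρ (Ug θ hθ a c) w) := by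
  intro b
  rw [← E.comm_U, hw]

omit hne [Finite F] in
theorem zf_add {v w : V} (hv : E.Zf hθ v) (hw : E.Zf hθ w) : E.Zf hθ (v + w) := by
  intro b; rw [E.ρ_add, hv, hw]

omit hne [Finite F] in
theorem zf_AU (a c : F) {w : V} (hw : E.Zf hθ w) : E.Zf hθ (E.A (Ug θ hθ a c) w) :=
  E.zf_add hθ (E.zf_ρ hθ a c hw) hw

omit hne [Finite F] in
theorem uu (a c : F) {w : V} (hw : E.Zf hθ w) : E.ρ (Ug θ hθ a c) w = E.ρ (Ug θ hθ a 0) w := by
  have : Ug θ hθ a c = Ug θ hθ a 0 * Ug θ hθ 0 c := by rw [Ug_mul]; simp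
  rw [this, E.ρ_mul, hw]

omit hne [Finite F] in
theorem uu_mul (a b : F) {w : V} (hw : E.Zf hθ w) :
    E.ρ (Ug θ hθ a 0) (E.ρ (Ug θ hθ b 0) w) = E.ρ (Ug θ hθ (a + b) 0) w := by
  rw [← E.ρ_mul, Ug_mul, E.uu hθ _ _ hw]

/-- `u + 1` -/
abbrev R (a : F) (w : V) : V := E.A (Ug θ hθ a 0) w

omit hne [Finite F] in
theorem RR_comm (a b : F) {w : V} (hw : E.Zf hθ w) : E.R hθ a (E.R hθ b w) = E.R hθ b (E.R hθ a w) := by
  unfold R A
  rw [E.ρ_add, E.ρ_add, E.uu_mul hθ a b hw, E.uu_mul hθ b a hw, add_comm b a]; abel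

theorem RR_self (a : F) {w : V} (hw : E.Zf hθ w) : E.R hθ a (E.R hθ a w) = 0 := by
  have h2 := E.add_self hθ hne
  unfold R A
  rw [E.ρ_add, E.uu_mul hθ a a hw, CharTwo.add_self_eq_zero, Ug_zero, E.ρ_one]
  have : w + E.ρ (Ug θ hθ a 0) w + (E.ρ (Ug θ hθ a 0) w + w) =
    (w + w) + (E.ρ (Ug θ hθ a 0) w + E.ρ (Ug θ hθ a 0) w) := by abel
  rw [this, h2, h2, add_zero]

theorem R_addi (a b : F) {w : V} (hw : E.Zf hθ w) : E.R hθ (a + b) w =
    E.ρ (Ug θ hθ a 0) (E.R hθ b w) + E.R hθ a w := by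
  have h2 := E.add_self hθ hne
  unfold R A
  rw [E.ρ_add, E.uu_mul hθ a b hw]
  have : E.ρ (Ug θ hθ (a + b) 0) w + E.ρ (Ug θ hθ a 0) w + (E.ρ (Ug θ hθ a 0) w + w) =
    E.ρ (Ug θ hθ (a + b) 0) w + w + (E.ρ (Ug θ hθ a 0) w + E.ρ (Ug θ hθ a 0) w) := by abel
  rw [this, h2, add_zero]

omit hne [Finite F] in
theorem zf_i {a : Nm F} (h : E.Zf hθ (E.i a)) : a = wv (a 0) (a 1) := by
  have h1 := h 1
  rw [← E.i_eq] at h1
  have h2 := E.i_inj h1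
  rw [nm_Z, add_eq_left] at h2
  have h3 := congrFun h2 1
  have h4 := congrFun h2 0
  simp only [wv0, wv1, Pi.zero_apply, one_mul, map_one] at h3 h4
  rw [h3, add_zero] at h4
  exact eq_wv h4 h3

omit hne [Finite F] in
theorem R_iwv (a s r : F) : E.R hθ a (E.i (wv s r)) = E.i (wv (a * r) 0) := by
  unfold R; rw [E.A_i, nU_wv]

omit hne [Finite F] in
theorem R_i (a s : F) : E.R hθ a (E.i (wv s 0)) = 0 := by
  rw [E.R_iwv, mul_zero, wv_zero, E.i_zero]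

theorem exists_T (a a' b : F) : ∃ T : Nm F → F, ∀ v,
    E.i (wv (T (E.π v)) 0) = E.R hθ a (E.R hθ a' (E.A (Ug θ hθ 0 b) v)) := by
  have h1 : ∀ x : Nm F, ∃ s : F, ∀ v, E.π v = x →
      E.i (wv s 0) = E.R hθ a (E.R hθ a' (E.A (Ug θ hθ 0 b) v)) := by
    intro x
    obtain ⟨v0, rfl⟩ := E.π_surj x
    have h2 : E.π (E.R hθ a (E.R hθ a' (E.A (Ug θ hθ 0 b) v0))) = 0 := by
      unfold R
      rw [E.π_A, E.π_A, E.π_A, nZ, nU_wv, nU_wv, mul_zero, wv_zero]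
    obtain ⟨s, hs⟩ := (E.exact _).1 h2
    have hz := E.zf_A hθ hne b v0
    have hz2 := E.zf_AU hθ a' 0 hz
    have hz3 := E.zf_AU hθ a 0 hz2
    have hs2 : s = wv (s 0) (s 1) := by
      apply E.zf_i hθ; rw [hs]; exact hz3
    have hs3 : s = wv (s 0) 0 := by
      by_cases ha : a = 0
      · subst ha
        have h4 : E.i s = 0 := by
          rw [hs]; unfold R A
          rw [Ug_zero, E.ρ_one, E.add_self hθ hne]
        rw [← E.i_zero] at h4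
        rw [E.i_inj h4, Pi.zero_apply, wv_zero]
      · have h4 := E.RR_self hθ hne a hz2
        rw [← hs, hs2, E.R_iwv, ← E.i_zero] at h4
        have h5 := congrFun (E.i_inj h4) 0
        simp only [wv0, Pi.zero_apply] at h5
        rw [hs2, (mul_eq_zero.1 h5).resolve_left ha]; rfl
    refine ⟨s 0, fun v hv => ?_⟩
    rw [← hs3, hs]
    obtain ⟨c, hc⟩ := E.sub_of_π hv
    have : v = E.i c + v0 := by rw [hc]; abel
    rw [this]
    have h6 : E.R hθ a (E.R hθ a' (E.A (Ug θ hθ 0 b) (E.i c))) = 0 := by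
      rw [E.A_i, nZ, E.R_iwv, E.R_i]
    unfold R at h6 ⊢
    rw [E.A_add, E.A_add, E.A_add, h6, zero_add]
  choose T hT using h1
  exact ⟨T, fun v => hT _ v rfl⟩

/-- the second obstruction -/
noncomputable def T (a a' b : F) : Nm F → F := (E.exists_T hθ hne a a' b).choose
theorem T_spec (a a' b : F) (v : V) : E.i (wv (E.T hθ hne a a' b (E.π v)) 0) =
    E.R hθ a (E.R hθ a' (E.A (Ug θ hθ 0 b) v)) := (E.exists_T hθ hne a a' b).choose_spec v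

omit hne [Finite F] in
theorem iw_inj {s r : F} (h : E.i (wv s 0) = E.i (wv r 0)) : s = r := (wv_eq (E.i_inj h)).1

theorem T_add (a a' b : F) (x y : Nm F) : E.T hθ hne a a' b (x + y) =
    E.T hθ hne a a' b x + E.T hθ hne a a' b y := by
  obtain ⟨v, rfl⟩ := E.π_surj x
  obtain ⟨w, rfl⟩ := E.π_surj y
  apply E.iw_inj
  have h0 : (wv (E.T hθ hne a a' b (E.π v) + E.T hθ hne a a' b (E.π w)) 0 : Nm F) =
      wv (E.T hθ hne a a' b (E.π v)) 0 + wv (E.T hθ hne a a' b (E.π w)) 0 := by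
    rw [← wv_add, add_zero]
  rw [h0, E.i_add, T_spec, T_spec, ← E.π_add, T_spec]
  unfold R
  rw [E.A_add, E.A_add, E.A_add]

theorem T_wv (a a' b p q : F) : E.T hθ hne a a' b (wv p q) = 0 := by
  obtain ⟨v', hv'⟩ := E.π_surj (tv (p + q) q)
  have h1 : E.π (E.A (Ug θ hθ 0 1) v') = wv p q := by
    rw [E.π_A, nZ, hv']
    simp only [tv2, tv3, map_one, one_mul]
    congr 1
    rw [add_assoc, CharTwo.add_self_eq_zero, add_zero]
  apply E.iw_inj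
  rw [← h1, T_spec, E.quad hθ hne, wv_zero, E.i_zero]
  unfold R; rw [E.A_zero, E.A_zero]

theorem T_tv (a a' b s : F) : E.T hθ hne a a' b (tv s 0) = 0 := by
  obtain ⟨v', hv'⟩ := E.π_surj (tv 0 s)
  have h1 : E.π (E.A (Ug θ hθ 1 0) v') = wv (ff θ 1 0 * s) 0 + tv s 0 := by
    rw [E.π_A, hv', nm_U]; ext i; fin_cases i <;> simp [wv, tv]
    exact CharTwo.add_self_eq_zero _
  have h2 : E.T hθ hne a a' b (wv (ff θ 1 0 * s) 0 + tv s 0) = 0 := by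
    apply E.iw_inj
    rw [← h1, T_spec, wv_zero, E.i_zero]
    have h3 : E.A (Ug θ hθ 0 b) (E.A (Ug θ hθ 1 0) v') = E.R hθ 1 (E.A (Ug θ hθ 0 b) v') := by
      unfold R A
      rw [E.ρ_add, E.ρ_add, E.comm_U]; abel
    rw [h3, ← E.T_spec hθ hne a' 1 b v', E.R_i]
  rwa [T_add, T_wv, zero_add] at h2

theorem T_x3 (a a' b : F) (x : Nm F) : E.T hθ hne a a' b x = E.T hθ hne a a' b (tv 0 (x 3)) := by
  have e5 : x = wv (x 0) (x 1) + (tv (x 2) 0 + tv 0 (x 3)) := by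
    rw [← tv_add, add_zero, zero_add]; exact eq_wv_tv x
  conv_lhs => rw [e5]
  rw [T_add, T_wv, zero_add, T_add, T_tv, zero_add]

theorem T_comm (a a' b : F) (x : Nm F) : E.T hθ hne a a' b x = E.T hθ hne a' a b x := by
  obtain ⟨v, rfl⟩ := E.π_surj x
  apply E.iw_inj
  rw [T_spec, T_spec, E.RR_comm hθ a a' (E.zf_A hθ hne b v)]

theorem T_self (a b : F) (x : Nm F) : E.T hθ hne a a b x = 0 := by
  obtain ⟨v, rfl⟩ := E.π_surj x
  apply E.iw_inj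
  rw [T_spec, E.RR_self hθ hne a (E.zf_A hθ hne b v), wv_zero, E.i_zero]

theorem T_adda (a c a' b : F) (x : Nm F) : E.T hθ hne (a + c) a' b x =
    E.T hθ hne a a' b x + E.T hθ hne c a' b x := by
  obtain ⟨v, rfl⟩ := E.π_surj x
  apply E.iw_inj
  have h0 : (wv (E.T hθ hne a a' b (E.π v) + E.T hθ hne c a' b (E.π v)) 0 : Nm F) =
      wv (E.T hθ hne a a' b (E.π v)) 0 + wv (E.T hθ hne c a' b (E.π v)) 0 := by
    rw [← wv_add, add_zero]
  rw [h0, E.i_add, T_spec, T_spec, E.R_addi hθ hne a c (E.zf_AU hθ a' 0 (E.zf_A hθ hne b v)),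
    ← E.T_spec hθ hne c a' b v, ← E.i_eq, nm_U_wv, mul_zero, add_zero, E.T_spec hθ hne c a' b v, add_comm]

theorem T_b (a a' b y : F) : E.T hθ hne a a' b (tv 0 y) = E.T hθ hne a a' 1 (tv 0 (b * y)) := by
  obtain ⟨v, hv⟩ := E.π_surj (tv 0 y)
  obtain ⟨w, hw⟩ := E.π_surj (tv (θ b * y + b * y) (b * y))
  have h1 : E.π (E.A (Ug θ hθ 0 b) v) = E.π (E.A (Ug θ hθ 0 1) w) := by
    rw [E.π_A, E.π_A, nZ, nZ, hv, hw]
    simp only [tv2, tv3, map_one, one_mul, mul_zero, zero_add]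
    congr 1
    rw [add_assoc, CharTwo.add_self_eq_zero, add_zero]
  obtain ⟨c, hc⟩ := E.sub_of_π h1
  have h2 : ∀ v : V, -v = v := fun v => neg_eq_of_add_eq_zero_left (E.add_self hθ hne v)
  have hc2 : c = wv (c 0) (c 1) := by
    apply E.zf_i hθ
    rw [hc, sub_eq_add_neg, h2]
    exact E.zf_add hθ (E.zf_A hθ hne b v) (E.zf_A hθ hne 1 w)
  have h3 : E.T hθ hne a a' 1 (tv (θ b * y + b * y) (b * y)) = E.T hθ hne a a' 1 (tv 0 (b * y)) := by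
    rw [T_x3]; rfl
  rw [← h3, ← hv, ← hw]
  apply E.iw_inj
  rw [T_spec, T_spec]
  have h4 : E.A (Ug θ hθ 0 b) v = E.i c + E.A (Ug θ hθ 0 1) w := by rw [hc]; abel
  rw [h4, hc2]
  unfold R
  rw [E.A_add, E.A_add]
  have h5 := E.R_iwv hθ a' (c 0) (c 1)
  unfold R at h5
  have h6 := E.R_i hθ a (a' * c 1)
  unfold R at h6
  rw [h5, h6, zero_add]

theorem T_M (a' y : F) : ∃ p : F, ∀ a, E.T hθ hne a a' 1 (tv 0 y) =
    E.T hθ hne a 1 1 (tv 0 (a' * y)) + a * p := by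
  obtain ⟨v, hv⟩ := E.π_surj (tv 0 y)
  obtain ⟨w, hw⟩ := E.π_surj (tv 0 (a' * y))
  have h1 : E.π (E.R hθ a' (E.A (Ug θ hθ 0 1) v)) = E.π (E.R hθ 1 (E.A (Ug θ hθ 0 1) w)) := by
    unfold R
    rw [E.π_A, E.π_A, E.π_A, E.π_A, nZ, nZ, hv, hw, nU_wv, nU_wv]
    simp only [tv2, tv3, map_one, one_mul, mul_zero, zero_add]
  obtain ⟨c, hc⟩ := E.sub_of_π h1
  have h2 : ∀ v : V, -v = v := fun v => neg_eq_of_add_eq_zero_left (E.add_self hθ hne v)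
  have hc2 : c = wv (c 0) (c 1) := by
    apply E.zf_i hθ
    rw [hc, sub_eq_add_neg, h2]
    exact E.zf_add hθ (E.zf_AU hθ a' 0 (E.zf_A hθ hne 1 v)) (E.zf_AU hθ 1 0 (E.zf_A hθ hne 1 w))
  refine ⟨c 1, fun a => ?_⟩
  rw [← hv, ← hw]
  apply E.iw_inj
  have h0 : (wv (E.T hθ hne a 1 1 (E.π w) + a * c 1) 0 : Nm F) =
      wv (E.T hθ hne a 1 1 (E.π w)) 0 + wv (a * c 1) 0 := by rw [← wv_add, add_zero]
  rw [h0, E.i_add, T_spec, T_spec, ← E.R_iwv hθ a (c 0) (c 1), ← hc2]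
  have h4 : E.R hθ a' (E.A (Ug θ hθ 0 1) v) = E.i c + E.R hθ 1 (E.A (Ug θ hθ 0 1) w) := by rw [hc]; abel
  rw [h4]
  unfold R
  rw [E.A_add, add_comm]

theorem T_H (κ : Fˣ) (a y : F) : κ * θ.symm κ * E.T hθ hne a 1 1 (tv 0 y) =
    E.T hθ hne (κ * a) κ (κ * θ κ) (tv 0 ((κ * θ.symm κ)⁻¹ * y)) := by
  have hk0 : (κ : F) ≠ 0 := κ.ne_zero
  have hk : θ.symm (κ : F) ≠ 0 := by rw [map_ne_zero]; exact κ.ne_zero
  obtain ⟨v, hv⟩ := E.π_surj (tv 0 y)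
  have h1 : E.π (E.ρ (Hg θ hθ κ) v) = tv 0 ((κ * θ.symm κ)⁻¹ * y) := by
    rw [E.π_eq, hv, nm_H]; ext i; fin_cases i <;> simp [tv]
  rw [← h1, ← hv]
  apply E.iw_inj
  have h2 : (wv (κ * θ.symm κ * E.T hθ hne a 1 1 (E.π v)) 0 : Nm F) =
      nm (Hg θ hθ κ) (wv (E.T hθ hne a 1 1 (E.π v)) 0) := by rw [nm_H_wv, mul_zero]
  have hc : ∀ c d (w : V), E.ρ (Hg θ hθ κ) (E.ρ (Ug θ hθ c d) w) =
      E.ρ (Ug θ hθ (κ * c) (κ * θ κ * d)) (E.ρ (Hg θ hθ κ) w) := by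
    intro c d w
    rw [← E.ρ_mul, ← E.ρ_mul]
    have := Hg_conj θ hθ κ c d
    rw [mul_inv_eq_iff_eq_mul] at this
    rw [this]
  rw [h2, E.i_eq, T_spec, T_spec]
  unfold R A
  simp only [E.ρ_add, hc, mul_zero, mul_one]

theorem T_zero (a : F) (x : Nm F) : E.T hθ hne a 1 1 x = 0 := by
  rw [T_x3]
  have hcomm : ∀ b y, E.T hθ hne b 1 1 (tv 0 (b * y)) = b * E.T hθ hne b 1 1 (tv 0 y) := by
    intro b y
    obtain ⟨p, hp⟩ := E.T_M hθ hne b y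
    have h1 := hp 1
    have h2 := hp b
    rw [T_comm, T_self, zero_add, one_mul] at h1
    rw [T_self] at h2
    rw [h1]
    have := eq_neg_of_add_eq_zero_left h2.symm
    rw [this, CharTwo.neg_eq]
  apply d_zero hθ (d := fun a y => E.T hθ hne a 1 1 (tv 0 y)) (fun b c y => E.T_adda hθ hne b c 1 1 _)
    (fun b y z => by
      have : (tv 0 (y + z) : Nm F) = tv 0 y + tv 0 z := by rw [← tv_add, add_zero]
      show E.T hθ hne b 1 1 (tv 0 (y + z)) = _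
      rw [this, T_add]) (fun y => E.T_self hθ hne 1 1 _) hcomm
  intro κ a y
  have hk0 : (κ : F) ≠ 0 := κ.ne_zero
  have hk : θ.symm (κ : F) ≠ 0 := by rw [map_ne_zero]; exact κ.ne_zero
  show κ * θ.symm κ * E.T hθ hne a 1 1 (tv 0 y) = _
  rw [T_H, T_b]
  have e1 : (κ : F) * θ κ * ((κ * θ.symm κ)⁻¹ * y) = θ.symm κ * y := by
    rw [← symm_sq θ hθ (κ : F)]; field_simp
  rw [e1]
  obtain ⟨p, hp⟩ := E.T_M hθ hne κ (θ.symm κ * y)
  have h1 := hp (κ * a)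
  have h2 := hp κ
  rw [T_self] at h2
  have h3 := eq_neg_of_add_eq_zero_left h2.symm
  rw [CharTwo.neg_eq] at h3
  rw [h1, ← mul_assoc]
  show _ = E.T hθ hne (κ * a) 1 1 (tv 0 (κ * θ.symm κ * y)) + a * E.T hθ hne κ 1 1 (tv 0 (κ * θ.symm κ * y))
  rw [← mul_assoc] at h3
  rw [h3]; ring

/-- **vectors fixed by a Sylow 2-subgroup** -/
theorem N0_fix (v : V) (a c : F) : E.ρ (Ug θ hθ a c) (E.md.N0 hθ v) = E.md.N0 hθ v := by
  have hz := E.zf_A hθ hne 1 v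
  have hz2 : E.Zf hθ (E.md.N0 hθ v) := E.zf_AU hθ 1 0 hz
  rw [E.uu hθ a c hz2]
  have h1 := E.T_spec hθ hne a 1 1 v
  rw [T_zero, wv_zero, E.i_zero] at h1
  have h2 : ∀ v : V, -v = v := fun v => neg_eq_of_add_eq_zero_left (E.add_self hθ hne v)
  have h3 := eq_neg_of_add_eq_zero_left (show E.ρ (Ug θ hθ a 0) (E.md.N0 hθ v) +
    E.md.N0 hθ v = 0 from h1.symm)
  rw [h3, h2]

end Ex

end Cfsg.Agent.Lib.Mz
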