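import Cfsg.Agent.Lib.MzE
import Mathlib

/-!
Modules for the Suzuki groups in characteristic two, part F: extensions of the natural module by itself
split.
-/

set_option autoImplicit false
set_option linter.unusedSectionVars false
open scoped Matrix

namespace Cfsg.Agent.Lib.Mz

open Cfsg.Agent.Lib.SuzukiOvoid Cfsg.Agent.Lib.SuzukiGroup Cfsg.Agent.Lib.SuzukiSyl

variable {F : Type*} [Field F] [CharP F 2] {θ : F ≃+* F} (hθ : ∀ x, θ (θ x) = x ^ 2)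

theorem odd_nsmul {V : Type*} [AddCommGroup V] (h2 : ∀ v : V, v + v = 0) {n : ℕ} (hn : Odd n) (v : V) :
    n • v = v := by
  obtain ⟨k, rfl⟩ := hn
  have h3 : 2 • v = 0 := by rw [two_nsmul, h2]
  rw [add_nsmul, one_nsmul, mul_nsmul, h3, nsmul_zero, zero_add]

theorem odd_units [Fintype F] [Fintype Fˣ] : Odd (Fintype.card Fˣ) := by
  classical
  have h1 : Even (Fintype.card F) := by
    rw [even_iff_two_dvd]
    have := (CharP.cast_eq_zero_iff F 2 (Fintype.card F)).1 (by simp)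
    exact this
  have h2 : Fintype.card Fˣ = Fintype.card F - 1 := by
    rw [← Nat.card_eq_fintype_card, Nat.card_units, Nat.card_eq_fintype_card]
  have h3 : 0 < Fintype.card F := Fintype.card_pos
  rw [h2]
  exact Nat.Even.sub_odd h3 h1 odd_one

/-- additive sections exist when the group has exponent two -/
theorem exists_section {V W : Type*} [AddCommGroup V] [AddCommGroup W] (hV : ∀ v : V, v + v = 0)
    (hW : ∀ w : W, w + w = 0) (π : V →+ W) (hπ : Function.Surjective π) :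
    ∃ σ : W →+ V, ∀ w, π (σ w) = w := by
  letI : Module (ZMod 2) V := AddCommGroup.zmodModule (n := 2) (fun x => by rw [two_nsmul, hV])
  letI : Module (ZMod 2) W := AddCommGroup.zmodModule (n := 2) (fun x => by rw [two_nsmul, hW])
  let f : V →ₗ[ZMod 2] W := AddMonoidHom.toZModLinearMap 2 π
  obtain ⟨g, hg⟩ := LinearMap.exists_rightInverse_of_surjective f (LinearMap.range_eq_top.2 hπ)
  refine ⟨g.toAddMonoidHom, fun w => ?_⟩
  exact LinearMap.congr_fun hg w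

namespace Ex

variable {V : Type*} [AddCommGroup V] (E : Ex θ V)
variable [Finite F] (hne : ∃ x, θ x ≠ x ^ 2)

include hθ in
theorem five (v : V) (h : E.ρ (Wg θ hθ * Ug θ hθ 0 1) v = v) : v = 0 := by
  have h1 : E.π v = 0 := nat_five hθ _ (by rw [← E.π_eq, h])
  obtain ⟨a, rfl⟩ := (E.exact _).1 h1
  rw [← E.i_eq] at h
  rw [nat_five hθ a (E.i_inj h), E.i_zero]

include hne

theorem N0_U (a b : F) (v : V) : E.md.N0 hθ (E.ρ (Ug θ hθ a b) v) = E.md.N0 hθ v := by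
  have hz := E.zf_A hθ hne 1 v
  have h1 : E.A (Ug θ hθ 0 1) (E.ρ (Ug θ hθ a b) v) = E.ρ (Ug θ hθ a b) (E.A (Ug θ hθ 0 1) v) := by
    unfold A; rw [E.ρ_add, E.comm_U]
  have h2 : E.md.N0 hθ (E.ρ (Ug θ hθ a b) v) = E.A (Ug θ hθ 1 0) (E.A (Ug θ hθ 0 1) (E.ρ (Ug θ hθ a b) v)) := rfl
  have h3 : E.md.N0 hθ v = E.A (Ug θ hθ 1 0) (E.A (Ug θ hθ 0 1) v) := rfl
  rw [h2, h1, E.uu hθ a b hz]
  have h4 : E.A (Ug θ hθ 1 0) (E.ρ (Ug θ hθ a 0) (E.A (Ug θ hθ 0 1) v)) =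
      E.ρ (Ug θ hθ a 0) (E.A (Ug θ hθ 1 0) (E.A (Ug θ hθ 0 1) v)) := by
    rw [show E.A (Ug θ hθ 1 0) (E.ρ (Ug θ hθ a 0) (E.A (Ug θ hθ 0 1) v)) =
      E.ρ (Ug θ hθ 1 0) (E.ρ (Ug θ hθ a 0) (E.A (Ug θ hθ 0 1) v)) + E.ρ (Ug θ hθ a 0) (E.A (Ug θ hθ 0 1) v) from rfl,
      E.uu_mul hθ 1 a hz, add_comm 1 a, ← E.uu_mul hθ a 1 hz, ← E.ρ_add]
    rfl
  rw [h4, ← h3, E.N0_fix hθ hne]

theorem exists_l : ∃ l : F → V, (∀ y z, l (y + z) = l y + l z) ∧ (∀ y, E.π (l y) = wv y 0) ∧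
    (∀ a c y, E.ρ (Ug θ hθ a c) (l y) = l y) ∧
    (∀ (κ : Fˣ) y, E.ρ (Hg θ hθ κ) (l y) = l (κ * θ.symm κ * y)) := by
  classical
  haveI := Fintype.ofFinite F
  have h2 := E.add_self hθ hne
  obtain ⟨σ, hσ⟩ := exists_section h2 two
    { toFun := E.π, map_zero' := E.π_zero, map_add' := E.π_add : V →+ Nm F } E.π_surj
  have hσ' : ∀ w, E.π (σ w) = w := hσ
  set l0 : F → V := fun y => E.md.N0 hθ (σ (tv 0 y)) with hl0
  have l0_add : ∀ y z, l0 (y + z) = l0 y + l0 z := by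
    intro y z
    have : (tv 0 (y + z) : Nm F) = tv 0 y + tv 0 z := by rw [← tv_add, add_zero]
    simp only [hl0]
    rw [this, map_add, Md.N0_add]
  have l0_π : ∀ y, E.π (l0 y) = wv y 0 := by
    intro y
    show E.π (E.A (Ug θ hθ 1 0) (E.A (Ug θ hθ 0 1) (σ (tv 0 y)))) = wv y 0
    rw [E.π_A, E.π_A, nZ, nU_wv, hσ']
    simp
  have l0_U : ∀ a c y, E.ρ (Ug θ hθ a c) (l0 y) = l0 y := fun a c y => E.N0_fix hθ hne _ a c
  let ρh : Gz θ → V →+ V := fun g => { toFun := E.ρ g, map_zero' := E.ρ_zero g, map_add' := E.ρ_add g }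
  have hsum : ∀ (g : Gz θ) (f : Fˣ → V), E.ρ g (∑ κ, f κ) = ∑ κ, E.ρ g (f κ) := fun g f =>
    map_sum (ρh g) f _
  let πh : V →+ Nm F := { toFun := E.π, map_zero' := E.π_zero, map_add' := E.π_add }
  have hsumπ : ∀ (f : Fˣ → V), E.π (∑ κ, f κ) = ∑ κ, E.π (f κ) := fun f => map_sum πh f _
  have hne0 : ∀ κ : Fˣ, (κ : F) * θ.symm κ ≠ 0 := fun κ =>
    mul_ne_zero κ.ne_zero (by rw [map_ne_zero]; exact κ.ne_zero)
  refine ⟨fun y => ∑ κ : Fˣ, E.ρ (Hg θ hθ κ) (l0 ((κ * θ.symm κ)⁻¹ * y)), ?_, ?_, ?_, ?_⟩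
  · intro y z
    rw [← Finset.sum_add_distrib]
    refine Finset.sum_congr rfl fun κ _ => ?_
    rw [mul_add, l0_add, E.ρ_add]
  · intro y
    rw [hsumπ]
    have : ∀ κ : Fˣ, E.π (E.ρ (Hg θ hθ κ) (l0 ((κ * θ.symm κ)⁻¹ * y))) = wv y 0 := by
      intro κ
      rw [E.π_eq, l0_π, nm_H_wv, mul_zero, ← mul_assoc, mul_inv_cancel₀ (hne0 κ), one_mul]
    rw [Finset.sum_congr rfl (fun κ _ => this κ), Finset.sum_const, Finset.card_univ,
      odd_nsmul two odd_units]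
  · intro a c y
    show E.ρ (Ug θ hθ a c) (∑ κ : Fˣ, E.ρ (Hg θ hθ κ) (l0 ((κ * θ.symm κ)⁻¹ * y))) =
      ∑ κ : Fˣ, E.ρ (Hg θ hθ κ) (l0 ((κ * θ.symm κ)⁻¹ * y))
    rw [hsum]
    refine Finset.sum_congr rfl fun κ _ => ?_
    have h1 := Hg_conj θ hθ κ ((κ : F)⁻¹ * a) ((κ * θ κ : F)⁻¹ * c)
    have h3 : (κ : F) * θ κ ≠ 0 := mul_ne_zero κ.ne_zero ((map_ne_zero θ).2 κ.ne_zero)
    rw [mul_inv_eq_iff_eq_mul, ← mul_assoc, mul_inv_cancel₀ κ.ne_zero, one_mul,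
      ← mul_assoc ((κ : F) * θ κ), mul_inv_cancel₀ h3, one_mul] at h1
    rw [← E.ρ_mul, ← h1, E.ρ_mul, l0_U]
  · intro ν y
    show E.ρ (Hg θ hθ ν) (∑ κ : Fˣ, E.ρ (Hg θ hθ κ) (l0 ((κ * θ.symm κ)⁻¹ * y))) =
      ∑ κ : Fˣ, E.ρ (Hg θ hθ κ) (l0 ((κ * θ.symm κ)⁻¹ * (ν * θ.symm ν * y)))
    rw [hsum]
    refine Fintype.sum_equiv (Equiv.mulLeft ν) _ _ fun κ => ?_
    rw [← E.ρ_mul, Hg_mul, Equiv.coe_mulLeft]
    congr 2
    rw [Units.val_mul, map_mul]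
    have h3 := hne0 κ
    have h4 := hne0 ν
    have h5 : (ν : F) ≠ 0 := ν.ne_zero
    have h6 : (κ : F) ≠ 0 := κ.ne_zero
    have h7 : θ.symm (κ : F) ≠ 0 := by rw [map_ne_zero]; exact h6
    have h8 : θ.symm (ν : F) ≠ 0 := by rw [map_ne_zero]; exact h5
    field_simp

include hθ in
/-- **Extensions of the natural module by itself split.** -/
theorem split : ∃ σ : Nm F → V, (∀ x y, σ (x + y) = σ x + σ y) ∧ (∀ g x, σ (nm g x) = E.ρ g (σ x)) ∧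
    ∀ x, E.π (σ x) = x := by
  classical
  have h2 := E.add_self hθ hne
  have hneg : ∀ v : V, -v = v := fun v => neg_eq_of_add_eq_zero_left (h2 v)
  obtain ⟨l, l_add, l_π, l_U, l_H⟩ := E.exists_l hθ hne
  have l0 : l 0 = 0 := by simpa using l_add 0 0
  let V' : AddSubgroup V := AddSubgroup.closure {w | ∃ g y, w = E.ρ g (l y)}
  let ρh : Gz θ → V →+ V := fun g => { toFun := E.ρ g, map_zero' := E.ρ_zero g, map_add' := E.ρ_add g }
  let πh : V →+ Nm F := { toFun := E.π, map_zero' := E.π_zero, map_add' := E.π_add }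
  let ih : Nm F →+ V := { toFun := E.i, map_zero' := E.i_zero, map_add' := E.i_add }
  have hinv : ∀ g, ∀ w ∈ V', E.ρ g w ∈ V' := by
    intro g w hw
    have h3 : V' ≤ V'.comap (ρh g) := by
      rw [AddSubgroup.closure_le]
      rintro w ⟨h, y, rfl⟩
      apply AddSubgroup.subset_closure
      exact ⟨g * h, y, by show E.ρ g (E.ρ h (l y)) = _; rw [E.ρ_mul]⟩
    exact h3 hw
  have hN : ∀ w ∈ V', ∃ y, E.md.N0 hθ w = l y := by
    intro w hw
    induction hw using AddSubgroup.closure_induction with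
    | mem w hw =>
      obtain ⟨g, y, rfl⟩ := hw
      rcases bruhat hθ hne g with ⟨a, b, κ, rfl⟩ | ⟨a, b, c, d, κ, rfl⟩
      · refine ⟨0, ?_⟩
        rw [E.ρ_mul, l_H, l_U, l0]
        have h4 : E.A (Ug θ hθ 0 1) (l (κ * θ.symm κ * y)) = 0 := by
          unfold A; rw [l_U, h2]
        show E.A (Ug θ hθ 1 0) (E.A (Ug θ hθ 0 1) _) = 0
        rw [h4, E.A_zero]
      · refine ⟨κ * θ.symm κ * y, ?_⟩
        rw [E.ρ_mul, E.ρ_mul, E.ρ_mul, l_H, l_U, E.N0_U hθ hne]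
        exact E.md.star hθ h2 (fun v h => E.five hθ v h) (fun a c => l_U a c _)
    | zero =>
      refine ⟨0, ?_⟩
      rw [l0]
      show E.A (Ug θ hθ 1 0) (E.A (Ug θ hθ 0 1) 0) = 0
      rw [E.A_zero, E.A_zero]
    | add v w _ _ hv hw =>
      obtain ⟨y, hy⟩ := hv
      obtain ⟨z, hz⟩ := hw
      exact ⟨y + z, by rw [Md.N0_add, hy, hz, l_add]⟩
    | neg v _ hv =>
      obtain ⟨y, hy⟩ := hv
      exact ⟨y, by rw [hneg, hy]⟩
  have hint : ∀ a, E.i a ∈ V' → a = 0 := by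
    intro a ha
    by_contra ha0
    have htop := span_top hθ (K := V'.comap ih) (fun g x hx => by
      show E.i (nm g x) ∈ V'
      rw [E.i_eq]; exact hinv g _ hx) (v := a) ha ha0
    have h3 : tv 0 1 ∈ V'.comap ih := by rw [htop]; trivial
    obtain ⟨y, hy⟩ := hN _ (show E.i (tv 0 1) ∈ V' from h3)
    have h4 : E.md.N0 hθ (E.i (tv 0 1)) = E.i (wv 1 0) := by
      show E.A (Ug θ hθ 1 0) (E.A (Ug θ hθ 0 1) _) = _
      rw [E.A_i, E.A_i, nZ, nU_wv]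
      simp
    rw [h4] at hy
    have h5 := congrArg E.π hy
    rw [E.π_i, l_π] at h5
    have h6 : y = 0 := (congrFun h5 0).symm
    rw [h6, l0, ← E.i_zero] at hy
    have h7 := congrFun (E.i_inj hy) 0
    simp at h7
  have hsurj : ∀ x, ∃ w ∈ V', E.π w = x := by
    have htop := span_top hθ (K := V'.map πh) (fun g x hx => by
      obtain ⟨w, hw, rfl⟩ := hx
      exact ⟨E.ρ g w, hinv g w hw, E.π_eq g w⟩) (v := wv 1 0)
      ⟨l 1, AddSubgroup.subset_closure ⟨1, 1, (E.ρ_one _).symm⟩, l_π 1⟩ (by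
        intro h
        have := congrFun h 0
        simp at this)
    intro x
    have hx : x ∈ V'.map πh := by rw [htop]; trivial
    obtain ⟨w, hw, rfl⟩ := hx
    exact ⟨w, hw, rfl⟩
  have huniq : ∀ w ∈ V', ∀ w' ∈ V', E.π w = E.π w' → w = w' := by
    intro w hw w' hw' h
    obtain ⟨a, ha⟩ := E.sub_of_π h
    have h3 : E.i a ∈ V' := by rw [ha]; exact V'.sub_mem hw hw'
    rw [hint a h3, E.i_zero] at ha
    exact (sub_eq_zero.1 ha.symm)
  choose σ hσ1 hσ2 using hsurj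
  refine ⟨σ, fun x y => ?_, fun g x => ?_, hσ2⟩
  · apply huniq _ (hσ1 _) _ (V'.add_mem (hσ1 x) (hσ1 y))
    rw [E.π_add, hσ2, hσ2, hσ2]
  · apply huniq _ (hσ1 _) _ (hinv g _ (hσ1 x))
    rw [E.π_eq, hσ2, hσ2]

end Ex

end Cfsg.Agent.Lib.Mz
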