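import Cfsg.Agent.Lib.MzF
import Cfsg.Agent.Lib.SuzukiPts
import Mathlib

/-!
Modules for the Suzuki groups in characteristic two, part G: a finite irreducible module on which the
elements of order five act without fixed points is the natural module.
-/

set_option autoImplicit false
set_option linter.unusedSectionVars false
open scoped Matrix

namespace Cfsg.Agent.Lib.Mz

open Cfsg.Agent.Lib.SuzukiOvoid Cfsg.Agent.Lib.SuzukiGroup Cfsg.Agent.Lib.SuzukiSyl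

variable {F : Type*} [Field F] [CharP F 2] {θ : F ≃+* F} (hθ : ∀ x, θ (θ x) = x ^ 2)

theorem isPGroup_U [Finite F] : IsPGroup 2 (USub θ hθ) := by
  rintro ⟨g, hg⟩
  refine ⟨2, Subtype.ext ?_⟩
  exact U_pow4 θ hθ hg

/-- fixed points of a 2-group -/
theorem exists_fixed {P X : Type*} [Group P] [MulAction P X] (hP : IsPGroup 2 P)
    [Finite X] (h2 : 2 ∣ Nat.card X) {x : X} (hx : ∀ g : P, g • x = x) :
    ∃ y : X, y ≠ x ∧ ∀ g : P, g • y = y := by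
  have : Fact (Nat.Prime 2) := ⟨Nat.prime_two⟩
  obtain ⟨y, hy, hxy⟩ := hP.exists_fixed_point_of_prime_dvd_card_of_fixed_point X h2
    (a := x) hx
  exact ⟨y, hxy.symm, hy⟩

theorem even_card {V : Type*} [AddCommGroup V] [Finite V] (h2 : ∀ v : V, v + v = 0) {v : V} (hv : v ≠ 0) :
    2 ∣ Nat.card V := by
  have h1 : addOrderOf v = 2 := by
    apply addOrderOf_eq_prime (p := 2)
    · rw [two_nsmul, h2]
    · exact hv
  rw [← h1]; exact addOrderOf_dvd_natCard v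

namespace Md

variable {V : Type*} [AddCommGroup V] (M : Md θ V)

/-- the action of the group of unipotent elements -/
@[reducible] def actU : MulAction (USub θ hθ) V where
  smul u v := M.ρ u.1 v
  one_smul v := M.ρ_one v
  mul_smul u w v := M.ρ_mul u.1 w.1 v

theorem exists_fix [Finite F] [Finite V] (h2 : ∀ v : V, v + v = 0) (hV : ∃ v : V, v ≠ 0) :
    ∃ w : V, w ≠ 0 ∧ ∀ a c, M.ρ (Ug θ hθ a c) w = w := by
  obtain ⟨v, hv⟩ := hV
  letI := M.actU hθ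
  obtain ⟨w, hw, hw2⟩ := exists_fixed (isPGroup_U hθ) (even_card h2 hv) (x := (0 : V))
    (fun g => M.ρ_zero g.1)
  exact ⟨w, hw, fun a c => hw2 ⟨_, Ug_mem θ hθ a c⟩⟩

/-- an invariant functional -/
theorem exists_functional [Finite F] [Finite V] (h2 : ∀ v : V, v + v = 0) (hV : ∃ v : V, v ≠ 0) :
    ∃ ξ : V →+ ZMod 2, ξ ≠ 0 ∧ ∀ a c v, ξ (M.ρ (Ug θ hθ a c) v) = ξ v := by
  obtain ⟨v, hv⟩ := hV
  letI : Module (ZMod 2) V := AddCommGroup.zmodModule (n := 2) (fun x => by rw [two_nsmul, h2])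
  obtain ⟨φ, hφ⟩ : ∃ φ : Module.Dual (ZMod 2) V, φ v ≠ 0 := by
    by_contra hcon
    push Not at hcon
    exact hv ((Module.forall_dual_apply_eq_zero_iff (ZMod 2) v).1 hcon)
  haveI : Finite (V →+ ZMod 2) := Finite.of_injective (fun f : V →+ ZMod 2 => (f : V → ZMod 2))
    DFunLike.coe_injective
  let Md' : MulAction (USub θ hθ) (V →+ ZMod 2) :=
    { smul := fun u f => f.comp { toFun := M.ρ u.1⁻¹, map_zero' := M.ρ_zero _, map_add' := M.ρ_add _ }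
      one_smul := fun f => by
        ext x
        show f (M.ρ (1 : Gz θ)⁻¹ x) = f x
        rw [inv_one, M.ρ_one]
      mul_smul := fun u w f => by
        ext x
        show f (M.ρ (u.1 * w.1)⁻¹ x) = f (M.ρ w.1⁻¹ (M.ρ u.1⁻¹ x))
        rw [mul_inv_rev, M.ρ_mul] }
  letI := Md'
  have hφ0 : φ.toAddMonoidHom ≠ 0 := by
    intro h
    exact hφ (DFunLike.congr_fun h v)
  have hex : ∀ f : V →+ ZMod 2, f + f = 0 := by
    intro f; ext x
    show f x + f x = 0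
    exact CharTwo.add_self_eq_zero _
  obtain ⟨ξ, hξ, hξ2⟩ := exists_fixed (isPGroup_U hθ) (even_card hex hφ0) (x := (0 : V →+ ZMod 2))
    (fun g => by ext x; rfl)
  refine ⟨ξ, hξ, fun a c x => ?_⟩
  have h3 := DFunLike.congr_fun (hξ2 ⟨_, (USub θ hθ).inv_mem (Ug_mem θ hθ a c)⟩) x
  have h4 : ξ (M.ρ (Ug θ hθ a c)⁻¹⁻¹ x) = ξ x := h3
  rwa [inv_inv] at h4

/-- scalars -/
noncomputable def sc (c : F) (w : V) : V :=
  open Classical in
  if h : c = 0 then 0 else M.ρ (Hg θ hθ (ka_surj hθ h).choose) w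

theorem sc_zero (w : V) : M.sc hθ 0 w = 0 := by unfold sc; rw [dif_pos rfl]

theorem sc_H (κ : Fˣ) (w : V) : M.sc hθ (κ * θ.symm κ) w = M.ρ (Hg θ hθ κ) w := by
  have h0 : (κ : F) * θ.symm κ ≠ 0 := mul_ne_zero κ.ne_zero (by rw [map_ne_zero]; exact κ.ne_zero)
  unfold sc
  rw [dif_neg h0]
  congr 2
  exact ka_inj hθ (ka_surj hθ h0).choose_spec

theorem sc_one (w : V) : M.sc hθ 1 w = w := by
  have h1 := M.sc_H hθ 1 w
  rw [Hg_one, M.ρ_one] at h1
  simpa using h1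

theorem sc_add (c : F) (v w : V) : M.sc hθ c (v + w) = M.sc hθ c v + M.sc hθ c w := by
  by_cases h : c = 0
  · subst h; rw [sc_zero, sc_zero, sc_zero, add_zero]
  · obtain ⟨κ, rfl⟩ := ka_surj hθ h
    rw [sc_H, sc_H, sc_H, M.ρ_add]

theorem sc_z (c : F) : M.sc hθ c 0 = 0 := by simpa using M.sc_add hθ c 0 0

theorem sc_mul (c d : F) (w : V) : M.sc hθ c (M.sc hθ d w) = M.sc hθ (c * d) w := by
  by_cases h : c = 0
  · subst h; rw [sc_zero, zero_mul, sc_zero]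
  by_cases h' : d = 0
  · subst h'; rw [sc_zero, mul_zero, sc_zero, sc_z]
  obtain ⟨κ, rfl⟩ := ka_surj hθ h
  obtain ⟨κ', rfl⟩ := ka_surj hθ h'
  have : (κ : F) * θ.symm κ * (κ' * θ.symm κ') = (κ * κ' : Fˣ) * θ.symm ((κ * κ' : Fˣ) : F) := by
    rw [Units.val_mul, map_mul]; ring
  rw [this, sc_H, sc_H, sc_H, ← M.ρ_mul, Hg_mul]

/-- fixed by the unipotent elements -/
def Uf (w : V) : Prop := ∀ a c, M.ρ (Ug θ hθ a c) w = w

theorem Uf_zero : M.Uf hθ 0 := fun _ _ => M.ρ_zero _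
theorem Uf_add {v w : V} (hv : M.Uf hθ v) (hw : M.Uf hθ w) : M.Uf hθ (v + w) := fun a c => by
  rw [M.ρ_add, hv, hw]

theorem Uf_H (κ : Fˣ) {w : V} (hw : M.Uf hθ w) : M.Uf hθ (M.ρ (Hg θ hθ κ) w) := by
  intro a c
  have h1 := Hg_conj θ hθ κ ((κ : F)⁻¹ * a) ((κ * θ κ : F)⁻¹ * c)
  have h3 : (κ : F) * θ κ ≠ 0 := mul_ne_zero κ.ne_zero ((map_ne_zero θ).2 κ.ne_zero)
  rw [mul_inv_eq_iff_eq_mul, ← mul_assoc, mul_inv_cancel₀ κ.ne_zero, one_mul,
    ← mul_assoc ((κ : F) * θ κ), mul_inv_cancel₀ h3, one_mul] at h1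
  rw [← M.ρ_mul, ← h1, M.ρ_mul, hw]

theorem Uf_sc (c : F) {w : V} (hw : M.Uf hθ w) : M.Uf hθ (M.sc hθ c w) := by
  by_cases h : c = 0
  · subst h; rw [sc_zero]; exact M.Uf_zero hθ
  · obtain ⟨κ, rfl⟩ := ka_surj hθ h
    rw [sc_H]; exact M.Uf_H hθ κ hw

/-- commuting `s` past unipotent elements -/
theorem sus (hne : ∃ x, θ x ≠ x ^ 2) {a c : F} (h : ff θ a c ≠ 0) {w : V} (hw : M.Uf hθ w) :
    ∃ a' c', M.ρ (Wg θ hθ * Ug θ hθ a c * Wg θ hθ) w =
      M.ρ (Ug θ hθ a' c') (M.ρ (Wg θ hθ) (M.sc hθ (ff θ a c) w)) := by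
  obtain ⟨κ, hκ⟩ := ka_surj hθ h
  set g := Wg θ hθ * Ug θ hθ a c * Wg θ hθ with hg
  set a' := c / ff θ a c
  set c' := a / ff θ a c
  have h1 : (Wg θ hθ * (Ug θ hθ a' c')⁻¹ * g) • inf θ = inf θ := by
    rw [mul_smul, mul_smul, hg, mul_smul, mul_smul, Wg_inf, Ug_zero_pt, Wg_pt θ hθ h,
      ← Ug_zero_pt θ hθ (c / ff θ a c) (a / ff θ a c), inv_smul_smul, Wg_zero]
  obtain ⟨x, y, ν, h2⟩ := onePt θ hθ hne h1
  have hW := Wg_sq θ hθ
  have h3 : g = Ug θ hθ a' c' * (Wg θ hθ * (Ug θ hθ x y * Hg θ hθ ν)) := by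
    rw [← h2]
    have : Ug θ hθ a' c' * (Wg θ hθ * (Wg θ hθ * (Ug θ hθ a' c')⁻¹ * g)) =
      Ug θ hθ a' c' * ((Wg θ hθ * Wg θ hθ) * ((Ug θ hθ a' c')⁻¹ * g)) := by group
    rw [this, hW]; group
  -- the torus part
  have h4 : ν = κ := by
    have h5 := congrArg (fun k => (nm k (wv 1 0)) 3) h3
    simp only [hg, nm_mul] at h5
    rw [nm_H_wv, nm_U_wv] at h5
    simp only [nm_W, nm_U] at h5
    simp [wv] at h5
    apply ka_inj hθ
    rw [hκ, ← h5]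
  refine ⟨a', c', ?_⟩
  rw [h3, M.ρ_mul, M.ρ_mul, M.ρ_mul, h4, ← M.sc_H hθ κ, hκ, M.Uf_sc hθ _ hw]

/-- **Irreducible modules.** -/
theorem natural [Finite F] [Finite V] (hne : ∃ x, θ x ≠ x ^ 2) (h2 : ∀ v : V, v + v = 0) (hV : ∃ v : V, v ≠ 0)
    (h5 : ∀ v, M.ρ (Wg θ hθ * Ug θ hθ 0 1) v = v → v = 0)
    (hirr : ∀ K : AddSubgroup V, (∀ g, ∀ x ∈ K, M.ρ g x ∈ K) → K = ⊥ ∨ K = ⊤) :
    ∃ e : V → Nm F, Function.Bijective e ∧ (∀ v w, e (v + w) = e v + e w) ∧ ∀ g v, e (M.ρ g v) = nm g (e v) := by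
  classical
  obtain ⟨ξ, hξ0, hξ⟩ := M.exists_functional hθ h2 hV
  have c2 : ∀ x : ZMod 2, x + x = 0 := fun x => CharTwo.add_self_eq_zero _
  have hξN : ∀ v, ξ (M.N0 hθ v) = 0 := by
    intro v
    show ξ (M.ρ (Ug θ hθ 1 0) (M.A (Ug θ hθ 0 1) v) + M.A (Ug θ hθ 0 1) v) = 0
    rw [map_add, hξ, c2]
  have hξU : ∀ {w}, M.Uf hθ w → ξ w = 0 := by
    intro w hw
    rw [← M.star hθ h2 h5 hw, hξN]
  -- values of `ξ` on translates
  have hval : ∀ {w}, M.Uf hθ w → ∀ a c, ξ (M.ρ (Wg θ hθ * Ug θ hθ a c * Wg θ hθ) w) =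
      ξ (M.ρ (Wg θ hθ) (M.sc hθ (ff θ a c) w)) := by
    intro w hw a c
    by_cases h : ff θ a c = 0
    · obtain ⟨rfl, rfl⟩ := ff_eq_zero θ hθ h
      rw [h, sc_zero, M.ρ_zero, map_zero, Ug_zero, mul_one, Wg_sq, M.ρ_one, hξU hw]
    · obtain ⟨a', c', h1⟩ := M.sus hθ hne h hw
      rw [h1, hξ]
  -- nondegeneracy
  have hnd : ∀ {w}, M.Uf hθ w → (∀ c, ξ (M.ρ (Wg θ hθ) (M.sc hθ c w)) = 0) → w = 0 := by
    intro w hw hc
    by_contra hw0
    let K : AddSubgroup V := AddSubgroup.closure {x | ∃ g, x = M.ρ g w}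
    have hK : ∀ g, ∀ x ∈ K, M.ρ g x ∈ K := by
      intro g x hx
      let ρh : V →+ V := { toFun := M.ρ g, map_zero' := M.ρ_zero g, map_add' := M.ρ_add g }
      have h3 : K ≤ K.comap ρh := by
        rw [AddSubgroup.closure_le]
        rintro x ⟨h, rfl⟩
        apply AddSubgroup.subset_closure
        exact ⟨g * h, by show M.ρ g (M.ρ h w) = _; rw [M.ρ_mul]⟩
      exact h3 hx
    have hK1 : K = ⊤ := by
      rcases hirr K hK with h | h
      · exfalso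
        have : w ∈ K := AddSubgroup.subset_closure ⟨1, (M.ρ_one w).symm⟩
        rw [h] at this
        exact hw0 (by simpa using this)
      · exact h
    apply hξ0
    ext x
    have hx : x ∈ K := by rw [hK1]; trivial
    have h4 : K ≤ ξ.ker := by
      rw [AddSubgroup.closure_le]
      rintro x ⟨g, rfl⟩
      show ξ (M.ρ g w) = 0
      rcases bruhat hθ hne g with ⟨a, b, κ, rfl⟩ | ⟨a, b, c, d, κ, rfl⟩
      · rw [M.ρ_mul, hξ, hξU (M.Uf_H hθ κ hw)]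
      · rw [M.ρ_mul, M.ρ_mul, M.ρ_mul, hξ, M.Uf_H hθ κ hw, ← M.sc_H, hc]
    exact h4 hx
  -- additivity of the scalars
  have hadd1 : ∀ c {w}, M.Uf hθ w → w + M.sc hθ c w + M.sc hθ (c + 1) w = 0 := by
    intro c w hw
    obtain ⟨b, rfl⟩ := θ.surjective c
    have key : ∀ {w}, M.Uf hθ w → ξ (M.ρ (Wg θ hθ) (w + M.sc hθ (θ b) w + M.sc hθ (θ b + 1) w)) = 0 := by
      intro w hw
      have h0 := M.star0 hθ h5 hw
      have h1 := congrArg (fun v => ξ (M.ρ (Wg θ hθ * Ug θ hθ 0 b) v)) h0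
      simp only [M.ρ_add, ← M.ρ_mul, M.ρ_zero, map_add, map_zero] at h1
      have e0 : M.ρ (Wg θ hθ * Ug θ hθ 0 b) w = M.ρ (Wg θ hθ) w := by rw [M.ρ_mul, hw]
      have e2 : Wg θ hθ * Ug θ hθ 0 b * (Ug θ hθ 1 0 * Wg θ hθ) = Wg θ hθ * Ug θ hθ 1 b * Wg θ hθ := by
        rw [← mul_assoc, mul_assoc (Wg θ hθ), Ug_mul]; simp
      have e3 : Wg θ hθ * Ug θ hθ 0 b * (Ug θ hθ 1 1 * Wg θ hθ) = Wg θ hθ * Ug θ hθ 1 (b + 1) * Wg θ hθ := by
        rw [← mul_assoc, mul_assoc (Wg θ hθ), Ug_mul]; simp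
      have e4 : Wg θ hθ * Ug θ hθ 0 b * (Ug θ hθ 0 1 * Wg θ hθ) = Wg θ hθ * Ug θ hθ 0 (b + 1) * Wg θ hθ := by
        rw [← mul_assoc, mul_assoc (Wg θ hθ), Ug_mul]; simp
      have f1 : ff θ 0 b = θ b := by simp [ff]
      have f2 : ff θ 1 b = b + 1 + θ b := by simp [ff]
      have f3 : ff θ 1 (b + 1) = b + 1 + θ b := by
        simp [ff]
        linear_combination (1 : F) * (CharTwo.two_eq_zero : (2 : F) = 0)
      have f4 : ff θ 0 (b + 1) = θ b + 1 := by simp [ff]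
      rw [e0, e2, e3, e4, hval hw, hval hw, hval hw, hval hw, f1, f2, f3, f4] at h1
      rw [M.ρ_add, M.ρ_add, map_add, map_add]
      have h6 := c2 (ξ (M.ρ (Wg θ hθ) (M.sc hθ (b + 1 + θ b) w)))
      generalize ξ (M.ρ (Wg θ hθ) w) = x1 at *
      generalize ξ (M.ρ (Wg θ hθ) (M.sc hθ (θ b) w)) = x2 at *
      generalize ξ (M.ρ (Wg θ hθ) (M.sc hθ (b + 1 + θ b) w)) = x3 at *
      generalize ξ (M.ρ (Wg θ hθ) (M.sc hθ (θ b + 1) w)) = x4 at *
      linear_combination h1 - h6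
    apply hnd
    · exact M.Uf_add hθ (M.Uf_add hθ hw (M.Uf_sc hθ _ hw)) (M.Uf_sc hθ _ hw)
    · intro c
      rw [sc_add, sc_add, sc_mul, sc_mul, mul_comm c (θ b), mul_comm c (θ b + 1), ← sc_mul, ← sc_mul]
      exact key (M.Uf_sc hθ c hw)
  have hsadd : ∀ c d {w}, M.Uf hθ w → M.sc hθ (c + d) w = M.sc hθ c w + M.sc hθ d w := by
    have hneg : ∀ v : V, -v = v := fun v => neg_eq_of_add_eq_zero_left (h2 v)
    have h1 : ∀ c {w}, M.Uf hθ w → M.sc hθ (c + 1) w = w + M.sc hθ c w := by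
      intro c w hw
      have := eq_neg_of_add_eq_zero_left (hadd1 c hw)
      rw [hneg] at this; exact this.symm
    intro c d w hw
    by_cases hd : d = 0
    · subst hd; rw [add_zero, sc_zero, add_zero]
    have h3 : c + d = d * (c / d + 1) := by field_simp
    rw [h3, ← sc_mul, h1 _ hw, sc_add, sc_mul, mul_div_cancel₀ _ hd, add_comm]
  obtain ⟨w0, hw0, hw0U⟩ := M.exists_fix hθ h2 hV
  have hw0U' : M.Uf hθ w0 := hw0U
  let lam : F → ZMod 2 := fun c => ξ (M.ρ (Wg θ hθ) (M.sc hθ c w0))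
  have lam_add : ∀ c d, lam (c + d) = lam c + lam d := by
    intro c d
    show ξ (M.ρ (Wg θ hθ) (M.sc hθ (c + d) w0)) = _
    rw [hsadd c d hw0U', M.ρ_add, map_add]
  have lam_zero : lam 0 = 0 := by
    show ξ (M.ρ (Wg θ hθ) (M.sc hθ 0 w0)) = 0
    rw [sc_zero, M.ρ_zero, map_zero]
  let Γ : AddSubgroup (V × Nm F) :=
    AddSubgroup.closure {x | ∃ g c, x = (M.ρ g (M.sc hθ c w0), nm g (wv c 0))}
  have hΓ : ∀ g v f, (v, f) ∈ Γ → (M.ρ g v, nm g f) ∈ Γ := by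
    intro g v f hx
    let ρh : V × Nm F →+ V × Nm F :=
      { toFun := fun x => (M.ρ g x.1, nm g x.2)
        map_zero' := by
          show (M.ρ g 0, nm g 0) = (0, 0)
          rw [M.ρ_zero, nm_zero]
        map_add' := fun x y => by
          show (M.ρ g (x.1 + y.1), nm g (x.2 + y.2)) = (M.ρ g x.1 + M.ρ g y.1, nm g x.2 + nm g y.2)
          rw [M.ρ_add, nm_add] }
    have h3 : Γ ≤ Γ.comap ρh := by
      rw [AddSubgroup.closure_le]
      rintro x ⟨h, c, rfl⟩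
      apply AddSubgroup.subset_closure
      exact ⟨g * h, c, by
        show (M.ρ g (M.ρ h _), nm g (nm h _)) = _
        rw [M.ρ_mul, nm_mul]⟩
    exact h3 hx
  have hlam : ∀ x ∈ Γ, ξ x.1 = lam (x.2 3) := by
    intro x hx
    induction hx using AddSubgroup.closure_induction with
    | mem x hx =>
      obtain ⟨g, c, rfl⟩ := hx
      have hsU := M.Uf_sc hθ c hw0U'
      show ξ (M.ρ g (M.sc hθ c w0)) = lam (nm g (wv c 0) 3)
      rcases bruhat hθ hne g with ⟨a, b, κ, rfl⟩ | ⟨a, b, a', b', κ, rfl⟩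
      · rw [M.ρ_mul, hξ, hξU (M.Uf_H hθ κ hsU), nm_mul, nm_H_wv, nm_U_wv, wv3, lam_zero]
      · rw [M.ρ_mul, M.ρ_mul, M.ρ_mul, hξ, M.Uf_H hθ κ hsU, ← M.sc_H, sc_mul]
        rw [nm_mul, nm_mul, nm_mul, nm_H_wv, nm_U_wv, nm_W, nm_U]
        simp [wv, lam]
    | zero => rw [Prod.fst_zero, map_zero, Prod.snd_zero, Pi.zero_apply, lam_zero]
    | add x y _ _ hx hy => rw [Prod.fst_add, map_add, hx, hy, Prod.snd_add, Pi.add_apply, lam_add]
    | neg x _ hx =>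
      rw [Prod.fst_neg, map_neg, hx, Prod.snd_neg, Pi.neg_apply, CharTwo.neg_eq, CharTwo.neg_eq]
  -- the graph is a graph
  have hg1 : ∀ f, ((0 : V), f) ∈ Γ → f = 0 := by
    intro f hf
    by_contra hf0
    let K : AddSubgroup (Nm F) := Γ.comap (AddMonoidHom.inr V (Nm F))
    have htop := span_top hθ (K := K) (fun g x hx => by
      have hx' : ((0 : V), x) ∈ Γ := hx
      have := hΓ g _ _ hx'
      rw [M.ρ_zero] at this
      exact this) (v := f) hf hf0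
    apply hw0
    apply hnd hw0U'
    intro c
    have h4 : ((0 : V), (tv 0 c : Nm F)) ∈ Γ := by
      have : (tv 0 c : Nm F) ∈ K := by rw [htop]; trivial
      exact this
    have h5 := hlam _ h4
    simp only [map_zero, tv3] at h5
    exact h5.symm
  have hg2 : ∀ v, (v, (0 : Nm F)) ∈ Γ → v = 0 := by
    intro v hv
    by_contra hv0
    let K : AddSubgroup V := Γ.comap (AddMonoidHom.inl V (Nm F))
    have hK : ∀ g, ∀ x ∈ K, M.ρ g x ∈ K := by
      intro g x hx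
      have hx' : (x, (0 : Nm F)) ∈ Γ := hx
      have := hΓ g _ _ hx'
      rw [nm_zero] at this
      exact this
    rcases hirr K hK with h | h
    · have : v ∈ K := hv
      rw [h] at this
      exact hv0 (by simpa using this)
    · apply hξ0
      ext x
      have hx : x ∈ K := by rw [h]; trivial
      have h5 := hlam (x, 0) hx
      simp only [Pi.zero_apply, lam_zero] at h5
      exact h5
  have hp1 : ∀ v : V, ∃ f, (v, f) ∈ Γ := by
    let K : AddSubgroup V := Γ.map (AddMonoidHom.fst V (Nm F))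
    have hK : ∀ g, ∀ x ∈ K, M.ρ g x ∈ K := by
      rintro g _ ⟨⟨x, f⟩, hx, rfl⟩
      exact ⟨_, hΓ g x f hx, rfl⟩
    rcases hirr K hK with h | h
    · exfalso
      have : w0 ∈ K := ⟨(w0, wv 1 0), AddSubgroup.subset_closure ⟨1, 1, by
        rw [M.ρ_one, sc_one, nm_one]⟩, rfl⟩
      rw [h] at this
      exact hw0 (by simpa using this)
    · intro v
      have hv : v ∈ K := by rw [h]; trivial
      obtain ⟨⟨x, f⟩, hx, rfl⟩ := hv
      exact ⟨f, hx⟩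
  have hp2 : ∀ f : Nm F, ∃ v, (v, f) ∈ Γ := by
    let K : AddSubgroup (Nm F) := Γ.map (AddMonoidHom.snd V (Nm F))
    have htop := span_top hθ (K := K) (fun g x hx => by
      obtain ⟨⟨y, f⟩, hy, rfl⟩ := hx
      exact ⟨_, hΓ g y f hy, rfl⟩) (v := wv 1 0) ⟨(w0, wv 1 0), AddSubgroup.subset_closure ⟨1, 1, by
        rw [M.ρ_one, sc_one, nm_one]⟩, rfl⟩ (by
        intro h
        have := congrFun h 0
        simp at this)
    intro f
    have hf : f ∈ K := by rw [htop]; trivial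
    obtain ⟨⟨x, f⟩, hx, rfl⟩ := hf
    exact ⟨x, hx⟩
  have huniq1 : ∀ v f f', (v, f) ∈ Γ → (v, f') ∈ Γ → f = f' := by
    intro v f f' h h'
    have h3 := Γ.sub_mem h h'
    rw [Prod.mk_sub_mk, sub_self] at h3
    exact sub_eq_zero.1 (hg1 _ h3)
  have huniq2 : ∀ v v' f, (v, f) ∈ Γ → (v', f) ∈ Γ → v = v' := by
    intro v v' f h h'
    have h3 := Γ.sub_mem h h'
    rw [Prod.mk_sub_mk, sub_self] at h3
    exact sub_eq_zero.1 (hg2 _ h3)
  choose e he using hp1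
  refine ⟨e, ⟨fun v w h => ?_, fun f => ?_⟩, fun v w => ?_, fun g v => ?_⟩
  · have h1 := he v
    rw [h] at h1
    exact huniq2 _ _ _ h1 (he w)
  · obtain ⟨v, hv⟩ := hp2 f
    exact ⟨v, huniq1 _ _ _ (he v) hv⟩
  · exact huniq1 _ _ _ (he _) (Γ.add_mem (he v) (he w))
  · exact huniq1 _ _ _ (he _) (hΓ g _ _ (he v))

end Md

end Cfsg.Agent.Lib.Mz
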