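import Cfsg.Agent.Lib.MzG
import Cfsg.Agent.Lib.CITMod
import Mathlib

/-!
Modules for the Suzuki groups in characteristic two, part H: extensions of Suzuki groups by `2`-groups
in which elements of odd order act without fixed points.
-/

set_option autoImplicit false
set_option linter.unusedSectionVars false
open scoped Matrix

namespace Cfsg.Agent.Lib.Mz

open Cfsg.Agent.Lib.SuzukiOvoid Cfsg.Agent.Lib.SuzukiGroup Cfsg.Agent.Lib.SuzukiSyl Cfsg.Agent.Lib.CIT

universe u

variable {F : Type*} [Field F] [CharP F 2] {θ : F ≃+* F} (hθ : ∀ x, θ (θ x) = x ^ 2)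

theorem w_five : (Wg θ hθ * Ug θ hθ 0 1) ^ 5 = 1 := by
  set s := Wg θ hθ with hs
  set t := Ug θ hθ 0 1 with ht
  set y := Ug θ hθ 1 0 with hy
  have hty : t * y = Ug θ hθ 1 1 := by rw [ht, hy, Ug_mul]; simp
  have hyt : y * t = Ug θ hθ 1 1 := by rw [ht, hy, Ug_mul]; simp
  have hyi : y⁻¹ = Ug θ hθ 1 1 := y_inv hθ
  have htt : t * t = 1 := Ex.ZZ_self hθ 1
  have hss : s * s = 1 := Wg_sq θ hθ
  have h1 : s * t * s = y * s * y⁻¹ := by rw [hyi]; exact sts hθ
  have hyy : y⁻¹ * y⁻¹ = t := by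
    have : y⁻¹ = t * y := by rw [hyi, hty]
    rw [this]
    have h2 : t * y = y⁻¹ := this.symm
    rw [mul_assoc, ← mul_assoc y, hyt, ← hyi, inv_mul_cancel, mul_one]
  have hyy2 : y * y = t := by
    have h3 := congrArg (·⁻¹) hyy
    simp only [mul_inv_rev, inv_inv] at h3
    rw [h3]
    exact inv_eq_of_mul_eq_one_left htt
  have h4 : y⁻¹ * t * y = t := by
    rw [mul_assoc, hty, ← hyt, inv_mul_cancel_left]
  calc (s * t) ^ 5 = (s * t * s) * t * (s * t * s) * t * s * t := by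
        simp only [pow_succ, pow_zero, one_mul, mul_assoc]
    _ = y * (s * (y⁻¹ * t * y) * s) * y⁻¹ * t * s * t := by rw [h1]; group
    _ = y * (y * s * y⁻¹) * y⁻¹ * t * s * t := by rw [h4, h1]
    _ = (y * y) * s * (y⁻¹ * y⁻¹) * t * s * t := by group
    _ = t * s * (t * t) * s * t := by rw [hyy, hyy2]; group
    _ = 1 := by rw [htt, mul_one, mul_assoc t s s, hss, mul_one, htt]

theorem w_ne : Wg θ hθ * Ug θ hθ 0 1 ≠ 1 := by
  intro h
  have h1 := nm_mul (Wg θ hθ) (Ug θ hθ 0 1) (![1, 0, 0, 0] : Nm F)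
  rw [h, nm_one, nm_U, nm_W] at h1
  have h2 := congrFun h1 0
  simp at h2

section

variable {G : Type u} [Group G]

theorem conj_eq {φ : G →* Gz θ} {K : Subgroup G} (hK : ∀ q, φ q = 1 → ∀ k ∈ K, q * k = k * q)
    {g g' : G} (h : φ g = φ g') {k : G} (hk : k ∈ K) : g * k * g⁻¹ = g' * k * g'⁻¹ := by
  have h1 : φ (g'⁻¹ * g) = 1 := by rw [map_mul, map_inv, h, inv_mul_cancel]
  have h2 := hK _ h1 k hk
  calc g * k * g⁻¹ = g' * (g'⁻¹ * g * k) * g⁻¹ := by group
   _ = g' * (k * (g'⁻¹ * g)) * g⁻¹ := by rw [h2]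
   _ = _ := by group

/-- equivariant embeddings of the natural module -/
structure Emb (φ : G →* Gz θ) (f : Nm F → G) : Prop where
  add : ∀ a b, f (a + b) = f a * f b
  inj : Function.Injective f
  ker : ∀ a, φ (f a) = 1
  conj : ∀ g a, g * f a * g⁻¹ = f (nm (φ g) a)

omit [CharP F 2] in
theorem Emb.zero {φ : G →* Gz θ} {f : Nm F → G} (h : Emb φ f) : f 0 = 1 := by
  have := h.add 0 0
  rw [add_zero] at this
  exact left_eq_mul.1 this

include hθ in
theorem emb_of_min [Finite F] [Finite G] (hne : ∃ x, θ x ≠ x ^ 2) (hG : IsCIT G) (φ : G →* Gz θ)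
    (hφ : Function.Surjective φ) (K : Subgroup G) [hKn : K.Normal] (hK2 : IsPGroup 2 K)
    (hKc : ∀ q, φ q = 1 → ∀ k ∈ K, q * k = k * q) (hKk : ∀ k ∈ K, φ k = 1)
    (hKs : ∀ k ∈ K, k * k = 1) (hKb : K ≠ ⊥)
    (hmin : ∀ L : Subgroup G, L.Normal → L ≤ K → L = ⊥ ∨ L = K) :
    ∃ f : Nm F → G, Emb φ f ∧ ∀ x, x ∈ K ↔ ∃ a, f a = x := by
  classical
  letI cg : CommGroup K := { (inferInstance : Group K) with
    mul_comm := fun a b => Subtype.ext (hKc a (hKk a a.2) b b.2) }
  obtain ⟨lf, hlf⟩ : ∃ lf : Gz θ → G, ∀ g, φ (lf g) = g := ⟨Function.surjInv hφ, Function.surjInv_eq hφ⟩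
  let M : Md θ (Additive K) :=
    { ρ := fun g v => Additive.ofMul ⟨lf g * (v.toMul : G) * (lf g)⁻¹, hKn.conj_mem _ v.toMul.2 _⟩
      ρ_one := by
        intro v
        apply Additive.toMul.injective
        apply Subtype.ext
        show lf 1 * (v.toMul : G) * (lf 1)⁻¹ = v.toMul
        rw [conj_eq hKc (g' := 1) (by rw [hlf, map_one]) v.toMul.2]
        group
      ρ_mul := by
        intro g h v
        apply Additive.toMul.injective
        apply Subtype.ext
        show lf (g * h) * (v.toMul : G) * (lf (g * h))⁻¹ = lf g * (lf h * (v.toMul : G) * (lf h)⁻¹) * (lf g)⁻¹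
        rw [conj_eq hKc (g' := lf g * lf h) (by rw [map_mul, hlf, hlf, hlf]) v.toMul.2]
        group
      ρ_add := by
        intro g v w
        apply Additive.toMul.injective
        apply Subtype.ext
        show lf g * ((v.toMul : G) * (w.toMul : G)) * (lf g)⁻¹ =
          (lf g * (v.toMul : G) * (lf g)⁻¹) * (lf g * (w.toMul : G) * (lf g)⁻¹)
        group }
  have hM : ∀ g v, (((M.ρ g v).toMul : K) : G) = lf g * (v.toMul : G) * (lf g)⁻¹ := fun _ _ => rfl
  have h2 : ∀ v : Additive K, v + v = 0 := by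
    intro v
    apply Additive.toMul.injective
    apply Subtype.ext
    exact hKs _ v.toMul.2
  have hV : ∃ v : Additive K, v ≠ 0 := by
    obtain ⟨k, hk, hk1⟩ := exists_mem_ne_one hKb
    refine ⟨Additive.ofMul ⟨k, hk⟩, fun h => hk1 ?_⟩
    exact congrArg (fun v : Additive K => (v.toMul : G)) h
  have h5 : ∀ v, M.ρ (Wg θ hθ * Ug θ hθ 0 1) v = v → v = 0 := by
    intro v hv
    have h5o : Odd (orderOf (φ (lf (Wg θ hθ * Ug θ hθ 0 1)))) := by
      rw [hlf]
      exact Odd.of_dvd_nat (by decide) (orderOf_dvd_of_pow_eq_one (w_five hθ))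
    obtain ⟨e, he, hfe⟩ := exists_odd_lift φ _ h5o
    rw [hlf] at hfe
    have hx1 : lf (Wg θ hθ * Ug θ hθ 0 1) ^ e ≠ 1 := by
      intro h
      rw [h, map_one] at hfe
      exact w_ne hθ hfe.symm
    have h6 := hG.fpf hK2 he hx1 v.toMul.2 (by
      rw [conj_eq hKc (g' := lf (Wg θ hθ * Ug θ hθ 0 1)) (by rw [hfe, hlf]) v.toMul.2, ← hM, hv])
    apply Additive.toMul.injective
    exact Subtype.ext h6
  have hirr : ∀ L : AddSubgroup (Additive K), (∀ g, ∀ x ∈ L, M.ρ g x ∈ L) → L = ⊥ ∨ L = ⊤ := by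
    intro L hL
    let L' : Subgroup G :=
      { carrier := {x | ∃ h : x ∈ K, Additive.ofMul (⟨x, h⟩ : K) ∈ L}
        one_mem' := ⟨K.one_mem, L.zero_mem⟩
        mul_mem' := by
          rintro a b ⟨ha, ha'⟩ ⟨hb, hb'⟩
          exact ⟨K.mul_mem ha hb, L.add_mem ha' hb'⟩
        inv_mem' := by
          rintro a ⟨ha, ha'⟩
          exact ⟨K.inv_mem ha, L.neg_mem ha'⟩ }
    have hL'n : L'.Normal := by
      refine ⟨fun x hx g => ?_⟩
      obtain ⟨hx1, hx2⟩ := hx
      refine ⟨hKn.conj_mem _ hx1 _, ?_⟩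
      have h7 := hL (φ g) _ hx2
      convert h7 using 1
      apply Additive.toMul.injective
      apply Subtype.ext
      show g * x * g⁻¹ = lf (φ g) * x * (lf (φ g))⁻¹
      exact conj_eq hKc (by rw [hlf]) hx1
    rcases hmin L' hL'n (fun x hx => hx.1) with h | h
    · left
      rw [eq_bot_iff]
      intro v hv
      have h8 : (v.toMul : G) ∈ L' := ⟨v.toMul.2, hv⟩
      rw [h, Subgroup.mem_bot] at h8
      rw [AddSubgroup.mem_bot]
      apply Additive.toMul.injective
      exact Subtype.ext h8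
    · right
      rw [eq_top_iff]
      intro v _
      have h8 : (v.toMul : G) ∈ L' := by rw [h]; exact v.toMul.2
      exact h8.2
  obtain ⟨e, he1, he2, he3⟩ := M.natural hθ hne h2 hV h5 hirr
  let e' := Equiv.ofBijective e he1
  have he' : ∀ a, e (e'.symm a) = a := fun a => e'.apply_symm_apply a
  have he'' : ∀ v, e'.symm (e v) = v := fun v => e'.symm_apply_apply v
  refine ⟨fun a => ((e'.symm a).toMul : K), ⟨?_, ?_, ?_, ?_⟩, ?_⟩
  · intro a b
    have h9 : e'.symm (a + b) = e'.symm a + e'.symm b := by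
      apply he1.1
      rw [he', he2, he', he']
    show (((e'.symm (a + b)).toMul : K) : G) = _
    rw [h9]; rfl
  · intro a b hab
    apply e'.symm.injective
    apply Additive.toMul.injective
    exact Subtype.ext hab
  · intro a
    exact hKk _ (e'.symm a).toMul.2
  · intro g a
    have h9 : e'.symm (nm (φ g) a) = M.ρ (φ g) (e'.symm a) := by
      apply he1.1
      rw [he', he3, he']
    show g * (((e'.symm a).toMul : K) : G) * g⁻¹ = (((e'.symm (nm (φ g) a)).toMul : K) : G)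
    rw [h9, hM]
    exact conj_eq hKc (by rw [hlf]) (e'.symm a).toMul.2
  · intro x
    constructor
    · intro hx
      refine ⟨e (Additive.ofMul ⟨x, hx⟩), ?_⟩
      show (((e'.symm (e (Additive.ofMul ⟨x, hx⟩))).toMul : K) : G) = x
      rw [he'']; rfl
    · rintro ⟨a, rfl⟩
      exact (e'.symm a).toMul.2

end

end Cfsg.Agent.Lib.Mz
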