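import Cfsg.Agent.Lib.MzH
import Mathlib

/-!
Modules for the Suzuki groups in characteristic two, part I: extensions of Suzuki groups by `2`-groups
in which elements of odd order act without fixed points are by elementary abelian groups.
-/

set_option autoImplicit false
set_option linter.unusedSectionVars false
open scoped Matrix

namespace Cfsg.Agent.Lib.Mz

open Cfsg.Agent.Lib.SuzukiOvoid Cfsg.Agent.Lib.SuzukiGroup Cfsg.Agent.Lib.SuzukiSyl Cfsg.Agent.Lib.CIT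

universe u

variable {F : Type*} [Field F] [CharP F 2] {θ : F ≃+* F} (hθ : ∀ x, θ (θ x) = x ^ 2)
variable {G : Type u} [Group G]

include hθ in
theorem emb_lift [Finite F] (hne : ∃ x, θ x ≠ x ^ 2) (φ : G →* Gz θ)
    (hφ : Function.Surjective φ) (hab : ∀ x y, φ x = 1 → φ y = 1 → x * y = y * x)
    {f0 : Nm F → G} (h0 : Emb φ f0) {N : Subgroup G} [hN : N.Normal] (hf0 : ∀ x, x ∈ N ↔ ∃ a, f0 a = x)
    {φ' : G ⧸ N →* Gz θ} (hφ' : ∀ g : G, φ' (g : G ⧸ N) = φ g) {f : Nm F → G ⧸ N} (hf : Emb φ' f) :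
    ∃ s : Nm F → G, Emb φ s ∧ ∀ a, ((s a : G) : G ⧸ N) = f a := by
  classical
  let K : Subgroup G :=
    { carrier := {x | ∃ a, f a = (x : G ⧸ N)}
      one_mem' := ⟨0, hf.zero⟩
      mul_mem' := by
        rintro x y ⟨a, ha⟩ ⟨b, hb⟩
        exact ⟨a + b, by rw [hf.add, ha, hb]; rfl⟩
      inv_mem' := by
        rintro x ⟨a, ha⟩
        refine ⟨-a, ?_⟩
        have h1 : f (-a) * f a = 1 := by rw [← hf.add, neg_add_cancel, hf.zero]
        rw [eq_inv_of_mul_eq_one_left h1, ha]; rfl }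
  have hKk : ∀ k ∈ K, φ k = 1 := by
    rintro k ⟨a, ha⟩
    rw [← hφ', ← ha, hf.ker]
  have hKn : K.Normal := by
    refine ⟨fun x hx g => ?_⟩
    obtain ⟨a, ha⟩ := hx
    refine ⟨nm (φ' (g : G ⧸ N)) a, ?_⟩
    rw [← hf.conj, ha]; rfl
  have hKc : ∀ q, φ q = 1 → ∀ k ∈ K, q * k = k * q := fun q hq k hk => hab q k hq (hKk k hk)
  let cg : CommGroup K := { (inferInstance : Group K) with
    mul_comm := fun a b => Subtype.ext (hKc a (hKk a a.2) b b.2) }
  obtain ⟨lf, hlf⟩ : ∃ lf : Gz θ → G, ∀ g, φ (lf g) = g := ⟨Function.surjInv hφ, Function.surjInv_eq hφ⟩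
  obtain ⟨pr, hpr⟩ : ∃ pr : Additive K → Nm F, ∀ v, f (pr v) = ((v.toMul : G) : G ⧸ N) :=
    ⟨fun v => v.toMul.2.choose, fun v => v.toMul.2.choose_spec⟩
  have hN1 : ∀ x, x ∈ N ↔ (x : G ⧸ N) = 1 := fun x => (QuotientGroup.eq_one_iff x).symm
  let E : Ex θ (Additive K) :=
    { ρ := fun g v => Additive.ofMul ⟨lf g * (v.toMul : G) * (lf g)⁻¹, hKn.conj_mem _ v.toMul.2 _⟩
      ρ_one := by
        intro v
        apply Additive.toMul.injective
        apply Subtype.ext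
        show lf 1 * (v.toMul : G) * (lf 1)⁻¹ = v.toMul
        rw [conj_eq hKc (g' := 1) (by rw [hlf, map_one]) v.toMul.2]
        group
      ρ_mul := by
        intro g h v
        apply Additive.toMul.injective
        apply Subtype.ext
        show lf (g * h) * (v.toMul : G) * (lf (g * h))⁻¹ = lf g * (lf h * (v.toMul : G) * (lf h)⁻¹) * (lf g)⁻¹
        rw [conj_eq hKc (g' := lf g * lf h) (by rw [map_mul, hlf, hlf, hlf]) v.toMul.2]
        group
      ρ_add := by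
        intro g v w
        apply Additive.toMul.injective
        apply Subtype.ext
        show lf g * ((v.toMul : G) * (w.toMul : G)) * (lf g)⁻¹ =
          (lf g * (v.toMul : G) * (lf g)⁻¹) * (lf g * (w.toMul : G) * (lf g)⁻¹)
        group
      i := fun a => Additive.ofMul ⟨f0 a, 0, by rw [hf.zero, eq_comm, ← hN1, hf0]; exact ⟨a, rfl⟩⟩
      i_add := by
        intro a b
        apply Additive.toMul.injective
        apply Subtype.ext
        exact h0.add a b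
      i_inj := by
        intro a b hab'
        exact h0.inj (congrArg (fun v : Additive K => (v.toMul : G)) hab')
      π := pr
      π_add := by
        intro v w
        apply hf.inj
        rw [hpr, hf.add, hpr, hpr]; rfl
      π_surj := by
        intro a
        obtain ⟨x, hx⟩ := QuotientGroup.mk_surjective (f a)
        refine ⟨Additive.ofMul ⟨x, a, hx.symm⟩, ?_⟩
        apply hf.inj
        rw [hpr]; exact hx
      exact := by
        intro v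
        constructor
        · intro h
          have h1 := hpr v
          rw [h, hf.zero, eq_comm, ← hN1, hf0] at h1
          obtain ⟨a, ha⟩ := h1
          refine ⟨a, ?_⟩
          apply Additive.toMul.injective
          exact Subtype.ext ha
        · rintro ⟨a, rfl⟩
          apply hf.inj
          exact (hpr _).trans (((hN1 (f0 a)).1 ((hf0 _).2 ⟨a, rfl⟩)).trans hf.zero.symm)
      i_eq := by
        intro g a
        apply Additive.toMul.injective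
        apply Subtype.ext
        show f0 (nm g a) = lf g * f0 a * (lf g)⁻¹
        rw [h0.conj, hlf]
      π_eq := by
        intro g v
        apply hf.inj
        rw [hpr]
        have h1 := hf.conj (lf g : G ⧸ N) (pr v)
        rw [hφ', hlf, hpr] at h1
        rw [← h1]; rfl }
  obtain ⟨σ, hσ1, hσ2, hσ3⟩ := E.split hθ hne
  have hEπ : ∀ v, E.π v = pr v := fun _ => rfl
  have hEρ : ∀ g v, (((E.ρ g v).toMul : K) : G) = lf g * (v.toMul : G) * (lf g)⁻¹ := fun _ _ => rfl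
  refine ⟨fun a => ((σ a).toMul : K), ⟨?_, ?_, ?_, ?_⟩, ?_⟩
  · intro a b
    show (((σ (a + b)).toMul : K) : G) = _
    rw [hσ1]; rfl
  · intro a b h
    have h1 : σ a = σ b := Additive.toMul.injective (Subtype.ext h)
    rw [← hσ3 a, ← hσ3 b, h1]
  · intro a
    exact hKk _ (σ a).toMul.2
  · intro g a
    show g * (((σ a).toMul : K) : G) * g⁻¹ = (((σ (nm (φ g) a)).toMul : K) : G)
    rw [hσ2, hEρ]
    exact conj_eq hKc (by rw [hlf]) (σ a).toMul.2
  · intro a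
    show ((((σ a).toMul : K) : G) : G ⧸ N) = f a
    rw [← hpr, ← hEπ, hσ3]

include hθ in
theorem comm_lift (hne : ∃ x, θ x ≠ x ^ 2) (φ : G →* Gz θ) (hφ : Function.Surjective φ)
    {f0 : Nm F → G} (h0 : Emb φ f0) {N : Subgroup G} [hN : N.Normal] (hf0 : ∀ x, x ∈ N ↔ ∃ a, f0 a = x)
    (hNc : ∀ q, φ q = 1 → ∀ k ∈ N, q * k = k * q)
    {φ' : G ⧸ N →* Gz θ} (hφ' : ∀ g : G, φ' (g : G ⧸ N) = φ g)
    (hab : ∀ x y, φ' x = 1 → φ' y = 1 → x * y = y * x)
    {f1 f2 : Nm F → G ⧸ N} (hf1 : Emb φ' f1) (hf2 : Emb φ' f2) {a b : Nm F} {x y : G}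
    (hx : (x : G ⧸ N) = f1 a) (hy : (y : G ⧸ N) = f2 b) : x * y = y * x := by
  classical
  let C : G → G → G := fun x y => x * y * x⁻¹ * y⁻¹
  obtain ⟨l1, hl1⟩ : ∃ l1 : Nm F → G, ∀ a, ((l1 a : G) : G ⧸ N) = f1 a :=
    ⟨fun a => (QuotientGroup.mk_surjective (f1 a)).choose, fun a => (QuotientGroup.mk_surjective (f1 a)).choose_spec⟩
  obtain ⟨l2, hl2⟩ : ∃ l2 : Nm F → G, ∀ a, ((l2 a : G) : G ⧸ N) = f2 a :=
    ⟨fun a => (QuotientGroup.mk_surjective (f2 a)).choose, fun a => (QuotientGroup.mk_surjective (f2 a)).choose_spec⟩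
  have hN1 : ∀ x, x ∈ N ↔ (x : G ⧸ N) = 1 := fun x => (QuotientGroup.eq_one_iff x).symm
  have hk1 : ∀ {x : G} {a : Nm F}, (x : G ⧸ N) = f1 a → φ x = 1 := by
    intro x a h
    rw [← hφ', h, hf1.ker]
  have hk2 : ∀ {x : G} {a : Nm F}, (x : G ⧸ N) = f2 a → φ x = 1 := by
    intro x a h
    rw [← hφ', h, hf2.ker]
  have hCN : ∀ x y : G, φ x = 1 → φ y = 1 → C x y ∈ N := by
    intro x y hx hy
    rw [hN1]
    show (x : G ⧸ N) * y * (x : G ⧸ N)⁻¹ * (y : G ⧸ N)⁻¹ = 1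
    rw [hab (x : G ⧸ N) y (by rw [hφ', hx]) (by rw [hφ', hy])]
    group
  -- invariance
  have hinv1 : ∀ x y n : G, φ x = 1 → φ y = 1 → n ∈ N → C (x * n) y = C x y := by
    intro x y n hx hy hn
    have h1 : φ n = 1 := by
      obtain ⟨a, rfl⟩ := (hf0 n).1 hn
      exact h0.ker a
    show x * n * y * (x * n)⁻¹ * y⁻¹ = x * y * x⁻¹ * y⁻¹
    rw [mul_inv_rev, mul_assoc x n y, ← hNc y hy n hn]
    group
  have hinv2 : ∀ x y n : G, φ x = 1 → φ y = 1 → n ∈ N → C x (y * n) = C x y := by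
    intro x y n hx hy hn
    show x * (y * n) * x⁻¹ * (y * n)⁻¹ = x * y * x⁻¹ * y⁻¹
    have h2 : n * x⁻¹ = x⁻¹ * n := (hNc x⁻¹ (by rw [map_inv, hx, inv_one]) n hn).symm
    calc x * (y * n) * x⁻¹ * (y * n)⁻¹ = x * y * (n * x⁻¹) * n⁻¹ * y⁻¹ := by group
      _ = x * y * x⁻¹ * y⁻¹ := by rw [h2]; group
  have hCeq : ∀ {x x' y y' : G}, φ x = 1 → φ y = 1 → (x : G ⧸ N) = x' → (y : G ⧸ N) = y' →
      C x' y' = C x y := by
    intro x x' y y' hx hy h1 h2
    have h3 : x⁻¹ * x' ∈ N := QuotientGroup.eq.1 h1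
    have h4 : y⁻¹ * y' ∈ N := QuotientGroup.eq.1 h2
    have h5 : φ (y * (y⁻¹ * y')) = 1 := by
      obtain ⟨a, ha⟩ := (hf0 _).1 h4
      rw [map_mul, ← ha, h0.ker, hy, one_mul]
    have e1 : x' = x * (x⁻¹ * x') := by group
    have e2 : y' = y * (y⁻¹ * y') := by group
    rw [e1, e2, hinv1 _ _ _ hx h5 h3, hinv2 _ _ _ hx hy h4]
  have hC1 : ∀ a b, φ (l1 a) = 1 ∧ φ (l2 b) = 1 := fun a b => ⟨hk1 (hl1 a), hk2 (hl2 b)⟩
  have hβ : ∀ a b, ∃ c, f0 c = C (l1 a) (l2 b) := fun a b =>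
    (hf0 _).1 (hCN _ _ (hk1 (hl1 a)) (hk2 (hl2 b)))
  choose β hβ using hβ
  have hz : ∀ a b, β a b = 0 := by
    apply bilin_zero hθ hne
    · intro v v' w
      apply h0.inj
      rw [h0.add, hβ, hβ, hβ]
      rw [hCeq (x := l1 v * l1 v') (y := l2 w) (by rw [map_mul, hk1 (hl1 v), hk1 (hl1 v'), one_mul])
        (hk2 (hl2 w)) (by rw [hl1, hf1.add, ← hl1, ← hl1]; rfl) rfl]
      have h6 := hNc (l1 v) (hk1 (hl1 v)) _ (hCN (l1 v') (l2 w) (hk1 (hl1 v')) (hk2 (hl2 w)))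
      have h7 : C (l1 v * l1 v') (l2 w) = l1 v * C (l1 v') (l2 w) * (l1 v)⁻¹ * C (l1 v) (l2 w) := by
        show l1 v * l1 v' * l2 w * (l1 v * l1 v')⁻¹ * (l2 w)⁻¹ =
          l1 v * (l1 v' * l2 w * (l1 v')⁻¹ * (l2 w)⁻¹) * (l1 v)⁻¹ * (l1 v * l2 w * (l1 v)⁻¹ * (l2 w)⁻¹)
        group
      rw [h7, h6, mul_inv_cancel_right]
      exact (hNc _ (by
        obtain ⟨c, hc⟩ := (hf0 _).1 (hCN (l1 v') (l2 w) (hk1 (hl1 v')) (hk2 (hl2 w)))
        rw [← hc]; exact h0.ker c) _ (hCN (l1 v) (l2 w) (hk1 (hl1 v)) (hk2 (hl2 w))))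
    · intro v w w'
      apply h0.inj
      rw [h0.add, hβ, hβ, hβ]
      rw [hCeq (x := l1 v) (y := l2 w * l2 w') (hk1 (hl1 v))
        (by rw [map_mul, hk2 (hl2 w), hk2 (hl2 w'), one_mul]) rfl (by rw [hl2, hf2.add, ← hl2, ← hl2]; rfl)]
      have h6 := hNc (l2 w) (hk2 (hl2 w)) _ (hCN (l1 v) (l2 w') (hk1 (hl1 v)) (hk2 (hl2 w')))
      have h7 : C (l1 v) (l2 w * l2 w') = C (l1 v) (l2 w) * (l2 w * C (l1 v) (l2 w') * (l2 w)⁻¹) := by
        show l1 v * (l2 w * l2 w') * (l1 v)⁻¹ * (l2 w * l2 w')⁻¹ =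
          (l1 v * l2 w * (l1 v)⁻¹ * (l2 w)⁻¹) * (l2 w * (l1 v * l2 w' * (l1 v)⁻¹ * (l2 w')⁻¹) * (l2 w)⁻¹)
        group
      rw [h7, h6, mul_inv_cancel_right]
    · intro g v w
      apply h0.inj
      obtain ⟨h, hh⟩ := hφ g
      have h8 := h0.conj h (β v w)
      rw [hh] at h8
      rw [← h8, hβ, hβ]
      have h9 : h * C (l1 v) (l2 w) * h⁻¹ = C (h * l1 v * h⁻¹) (h * l2 w * h⁻¹) := by
        show h * (l1 v * l2 w * (l1 v)⁻¹ * (l2 w)⁻¹) * h⁻¹ =
          (h * l1 v * h⁻¹) * (h * l2 w * h⁻¹) * (h * l1 v * h⁻¹)⁻¹ * (h * l2 w * h⁻¹)⁻¹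
        group
      rw [h9]
      refine hCeq ?_ ?_ ?_ ?_
      · rw [map_mul, map_mul, hk1 (hl1 v), map_inv]; group
      · rw [map_mul, map_mul, hk2 (hl2 w), map_inv]; group
      · rw [hl1, ← hh, ← hφ', ← hf1.conj, ← hl1]; rfl
      · rw [hl2, ← hh, ← hφ', ← hf2.conj, ← hl2]; rfl
  have h10 : C x y = 1 := by
    rw [hCeq (x := l1 a) (y := l2 b) (hk1 (hl1 a)) (hk2 (hl2 b)) (by rw [hl1, hx]) (by rw [hl2, hy]),
      ← hβ, hz, h0.zero]
  have h11 : x * y * x⁻¹ * y⁻¹ = 1 := h10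
  rw [mul_inv_eq_one, mul_inv_eq_iff_eq_mul] at h11
  exact h11

end Cfsg.Agent.Lib.Mz
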