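import Cfsg.Agent.Lib.MzI
import Mathlib

/-!
Modules for the Suzuki groups in characteristic two, part J: the main theorem.
-/

set_option autoImplicit false
set_option linter.unusedSectionVars false
open scoped Matrix

namespace Cfsg.Agent.Lib.Mz

open Cfsg.Agent.Lib.SuzukiOvoid Cfsg.Agent.Lib.SuzukiGroup Cfsg.Agent.Lib.SuzukiSyl Cfsg.Agent.Lib.CIT

universe u

variable {F : Type*} [Field F] [CharP F 2] {θ : F ≃+* F} (hθ : ∀ x, θ (θ x) = x ^ 2)

/-- a nontrivial `2`-group kernel contains a minimal normal subgroup of central involutions -/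
theorem exists_min {G : Type u} [Group G] [Finite G] {X : Type*} [Group X] (φ : G →* X) (hQ : IsPGroup 2 φ.ker)
    (hb : φ.ker ≠ ⊥) : ∃ N : Subgroup G, N.Normal ∧ N ≤ φ.ker ∧ (∀ q, φ q = 1 → ∀ k ∈ N, q * k = k * q) ∧
      (∀ k ∈ N, k * k = 1) ∧ N ≠ ⊥ ∧ ∀ L : Subgroup G, L.Normal → L ≤ N → L = ⊥ ∨ L = N := by
  classical
  haveI : Fact (Nat.Prime 2) := ⟨Nat.prime_two⟩
  let Ω : Subgroup G :=
    { carrier := {x | φ x = 1 ∧ x * x = 1 ∧ ∀ q, φ q = 1 → q * x = x * q}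
      one_mem' := ⟨map_one φ, by simp, fun q _ => by simp⟩
      mul_mem' := by
        rintro a b ⟨ha1, ha2, ha3⟩ ⟨hb1, hb2, hb3⟩
        refine ⟨by rw [map_mul, ha1, hb1, one_mul], ?_, fun q hq => ?_⟩
        · have h1 := hb3 a ha1
          calc a * b * (a * b) = a * (b * a) * b := by group
            _ = (a * a) * (b * b) := by rw [← h1]; group
            _ = 1 := by rw [ha2, hb2, one_mul]
        · rw [← mul_assoc, ha3 q hq, mul_assoc, hb3 q hq, mul_assoc]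
      inv_mem' := by
        rintro a ⟨ha1, ha2, ha3⟩
        have h1 : a⁻¹ = a := inv_eq_of_mul_eq_one_left ha2
        show φ a⁻¹ = 1 ∧ a⁻¹ * a⁻¹ = 1 ∧ ∀ q, φ q = 1 → q * a⁻¹ = a⁻¹ * q
        rw [h1]
        exact ⟨ha1, ha2, ha3⟩ }
  have hΩn : Ω.Normal := by
    refine ⟨fun x hx g => ?_⟩
    obtain ⟨h1, h2, h3⟩ := hx
    refine ⟨by rw [map_mul, map_mul, h1, map_inv]; group, ?_, fun q hq => ?_⟩
    · calc g * x * g⁻¹ * (g * x * g⁻¹) = g * (x * x) * g⁻¹ := by group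
        _ = 1 := by rw [h2]; group
    · have h4 := h3 (g⁻¹ * q * g) (by rw [map_mul, map_mul, hq, map_inv]; group)
      calc q * (g * x * g⁻¹) = g * (g⁻¹ * q * g * x) * g⁻¹ := by group
        _ = g * (x * (g⁻¹ * q * g)) * g⁻¹ := by rw [h4]
        _ = g * x * g⁻¹ * q := by group
  have hΩb : Ω ≠ ⊥ := by
    haveI : Nontrivial φ.ker := (Subgroup.nontrivial_iff_ne_bot _).2 hb
    haveI := hQ.center_nontrivial
    obtain ⟨z, hz⟩ := exists_ne (1 : Subgroup.center φ.ker)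
    have hzQ : ((z : φ.ker) : G) ∈ φ.ker := (z : φ.ker).2
    obtain ⟨k, hk⟩ := pow_two_of_isPGroup hQ hzQ
    have hz1 : ((z : φ.ker) : G) ≠ 1 := by
      intro h
      apply hz
      apply Subtype.ext
      exact Subtype.ext h
    obtain ⟨m, hm⟩ := exists_pow_two hz1 hk
    intro hbot
    have hmem : ((z : φ.ker) : G) ^ m ∈ Ω := by
      refine ⟨?_, ?_, fun q hq => ?_⟩
      · rw [map_pow, show φ ((z : φ.ker) : G) = 1 from hzQ, one_pow]
      · rw [← pow_two, ← hm, pow_orderOf_eq_one]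
      · have h5 := (Subgroup.mem_center_iff.1 z.2) ⟨q, hq⟩
        have h6 : q * ((z : φ.ker) : G) = ((z : φ.ker) : G) * q := congrArg Subtype.val h5
        exact (show Commute q ((z : φ.ker) : G) from h6).pow_right m
    rw [hbot, Subgroup.mem_bot] at hmem
    rw [hmem, orderOf_one] at hm
    omega
  have hfin : ({L : Subgroup G | L.Normal ∧ L ≤ Ω ∧ L ≠ ⊥}).Finite := Set.toFinite _
  obtain ⟨N, ⟨hN1, hN2, hN3⟩, hN4⟩ := hfin.exists_minimal ⟨Ω, hΩn, le_rfl, hΩb⟩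
  refine ⟨N, hN1, fun x hx => (hN2 hx).1, fun q hq k hk => (hN2 hk).2.2 q hq, fun k hk => (hN2 hk).2.1, hN3,
    fun L hL hLN => ?_⟩
  by_cases h : L = ⊥
  · exact Or.inl h
  · right
    exact le_antisymm hLN (hN4 ⟨hL, hLN.trans hN2, h⟩ hLN)

include hθ in
/-- **the main theorem** -/
theorem ext_main [Finite F] (hne : ∃ x, θ x ≠ x ^ 2) : ∀ (n : ℕ) (G : Type u) [Group G] [Finite G],
    Nat.card G = n → IsCIT G → ∀ φ : G →* Gz θ, Function.Surjective φ → IsPGroup 2 φ.ker →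
    (∀ x y, φ x = 1 → φ y = 1 → x * y = y * x) ∧ (∀ x, φ x = 1 → x * x = 1) ∧
    φ.ker ≤ Subgroup.closure {x | ∃ f : Nm F → G, Emb φ f ∧ ∃ a, f a = x} := by
  classical
  intro n
  induction n using Nat.strong_induction_on with
  | _ n ih =>
  intro G _ _ hn hG φ hφ hQ
  by_cases hb : φ.ker = ⊥
  · have h1 : ∀ x, φ x = 1 → x = 1 := fun x hx => by
      have : x ∈ φ.ker := hx
      rwa [hb, Subgroup.mem_bot] at this
    refine ⟨fun x y hx hy => by rw [h1 x hx, h1 y hy], fun x hx => by rw [h1 x hx, one_mul], ?_⟩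
    rw [hb]; exact bot_le
  obtain ⟨N, hN, hNk, hNc, hNs, hNb, hmin⟩ := exists_min φ hQ hb
  obtain ⟨f0, h0, hf0⟩ := emb_of_min hθ hne hG φ hφ N (hQ.to_le hNk) hNc (fun k hk => hNk hk) hNs hNb hmin
  let φ' : G ⧸ N →* Gz θ := QuotientGroup.lift N φ (fun x hx => hNk hx)
  have hφ' : ∀ g : G, φ' (g : G ⧸ N) = φ g := fun g => rfl
  have hφ's : Function.Surjective φ' := fun x => by
    obtain ⟨g, hg⟩ := hφ x
    exact ⟨(g : G ⧸ N), hg⟩
  have hQ' : IsPGroup 2 φ'.ker := by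
    rintro ⟨x, hx⟩
    obtain ⟨g, rfl⟩ := QuotientGroup.mk_surjective x
    have hg : g ∈ φ.ker := hx
    obtain ⟨k, hk⟩ := pow_two_of_isPGroup hQ hg
    refine ⟨k, Subtype.ext ?_⟩
    show ((g : G ⧸ N)) ^ 2 ^ k = 1
    rw [← QuotientGroup.mk_pow, hk]; rfl
  have hcard : Nat.card (G ⧸ N) < n := by
    rw [← hn, Subgroup.card_eq_card_quotient_mul_card_subgroup N]
    have h1 : 1 < Nat.card N := by
      rw [Subgroup.one_lt_card_iff_ne_bot]; exact hNb
    have h2 : 0 < Nat.card (G ⧸ N) := Nat.card_pos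
    nlinarith
  obtain ⟨ih1, ih2, ih3⟩ := ih _ hcard (G ⧸ N) rfl (hG.quotient N (hQ.to_le hNk)) φ' hφ's hQ'
  -- lifting of generators
  have hgen : ∀ T : Set G, (∀ x : G ⧸ N, (∃ f : Nm F → G ⧸ N, Emb φ' f ∧ ∃ a, f a = x) →
      ∃ y ∈ T, (y : G ⧸ N) = x) → ∀ x, φ x = 1 → ∃ y ∈ Subgroup.closure T, ∃ z ∈ N, x = y * z := by
    intro T hT x hx
    have h1 : (x : G ⧸ N) ∈ φ'.ker := hx
    have h2 : Subgroup.closure {x | ∃ f : Nm F → G ⧸ N, Emb φ' f ∧ ∃ a, f a = x} ≤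
        (Subgroup.closure T).map (QuotientGroup.mk' N) := by
      rw [Subgroup.closure_le]
      intro y hy
      obtain ⟨t, ht, hty⟩ := hT y hy
      exact ⟨t, Subgroup.subset_closure ht, hty⟩
    obtain ⟨y, hy, hyx⟩ := h2 (ih3 h1)
    refine ⟨y, hy, y⁻¹ * x, ?_, by group⟩
    exact QuotientGroup.eq.1 hyx
  -- the kernel is abelian
  have hab : ∀ x y, φ x = 1 → φ y = 1 → x * y = y * x := by
    let T : Set G := {x | ∃ f : Nm F → G ⧸ N, Emb φ' f ∧ ∃ a, f a = (x : G ⧸ N)}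
    have hTT : ∀ x ∈ T, ∀ y ∈ T, x * y = y * x := by
      rintro x ⟨f1, hf1, a, ha⟩ y ⟨f2, hf2, b, hb⟩
      exact comm_lift hθ hne φ hφ h0 hf0 hNc hφ' ih1 hf1 hf2 ha.symm hb.symm
    have hTk : Subgroup.closure T ≤ φ.ker := by
      rw [Subgroup.closure_le]
      rintro x ⟨f1, hf1, a, ha⟩
      show φ x = 1
      rw [← hφ', ← ha, hf1.ker]
    have hc1 : Subgroup.closure T ≤ Subgroup.centralizer T := by
      rw [Subgroup.closure_le]
      intro x hx
      rw [SetLike.mem_coe, Subgroup.mem_centralizer_iff]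
      exact fun y hy => hTT y hy x hx
    have hc2 : Subgroup.closure T ≤ Subgroup.centralizer (Subgroup.closure T : Set G) := by
      rw [Subgroup.closure_le]
      intro x hx
      rw [SetLike.mem_coe, Subgroup.mem_centralizer_iff]
      intro y hy
      exact ((Subgroup.mem_centralizer_iff.1 (hc1 hy)) x hx).symm
    intro x y hx hy
    have hT : ∀ x : G ⧸ N, (∃ f : Nm F → G ⧸ N, Emb φ' f ∧ ∃ a, f a = x) → ∃ y ∈ T, (y : G ⧸ N) = x := by
      rintro x ⟨f, hf, a, ha⟩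
      obtain ⟨y, hy⟩ := QuotientGroup.mk_surjective x
      exact ⟨y, ⟨f, hf, a, by rw [ha]; exact hy.symm⟩, hy⟩
    obtain ⟨x1, hx1, z1, hz1, rfl⟩ := hgen T hT x hx
    obtain ⟨x2, hx2, z2, hz2, rfl⟩ := hgen T hT y hy
    have e1 : x1 * x2 = x2 * x1 := ((Subgroup.mem_centralizer_iff.1 (hc2 hx2)) x1 hx1)
    have e2 : (x2 * z2) * z1 = z1 * (x2 * z2) := hNc _ hy _ hz1
    have e3 : x1 * z2 = z2 * x1 := hNc _ (hTk hx1) _ hz2
    calc x1 * z1 * (x2 * z2) = x1 * (z1 * (x2 * z2)) := by group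
      _ = (x1 * x2) * z2 * z1 := by rw [← e2]; group
      _ = x2 * (x1 * z2) * z1 := by rw [e1]; group
      _ = x2 * z2 * (x1 * z1) := by rw [e3]; group
  have hclos : φ.ker ≤ Subgroup.closure {x | ∃ f : Nm F → G, Emb φ f ∧ ∃ a, f a = x} := by
    intro x hx
    obtain ⟨y, hy, z, hz, rfl⟩ := hgen {x | ∃ f : Nm F → G, Emb φ f ∧ ∃ a, f a = x} (by
      rintro x ⟨f, hf, a, ha⟩
      obtain ⟨s, hs, hs2⟩ := emb_lift hθ hne φ hφ hab h0 hf0 hφ' hf
      exact ⟨s a, ⟨s, hs, a, rfl⟩, by rw [hs2, ha]⟩) x hx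
    refine Subgroup.mul_mem _ hy ?_
    obtain ⟨a, ha⟩ := (hf0 z).1 hz
    exact Subgroup.subset_closure ⟨f0, h0, a, ha⟩
  refine ⟨hab, ?_, hclos⟩
  let Ω : Subgroup G :=
    { carrier := {x | φ x = 1 ∧ x * x = 1}
      one_mem' := ⟨map_one φ, by simp⟩
      mul_mem' := by
        rintro a b ⟨ha1, ha2⟩ ⟨hb1, hb2⟩
        refine ⟨by rw [map_mul, ha1, hb1, one_mul], ?_⟩
        have h1 := hab a b ha1 hb1
        calc a * b * (a * b) = a * (b * a) * b := by group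
          _ = (a * a) * (b * b) := by rw [← h1]; group
          _ = 1 := by rw [ha2, hb2, one_mul]
      inv_mem' := by
        rintro a ⟨ha1, ha2⟩
        have h1 : a⁻¹ = a := inv_eq_of_mul_eq_one_left ha2
        show φ a⁻¹ = 1 ∧ a⁻¹ * a⁻¹ = 1
        rw [h1]
        exact ⟨ha1, ha2⟩ }
  have hle : Subgroup.closure {x | ∃ f : Nm F → G, Emb φ f ∧ ∃ a, f a = x} ≤ Ω := by
    rw [Subgroup.closure_le]
    rintro _ ⟨f, hf, a, rfl⟩
    refine ⟨hf.ker a, ?_⟩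
    rw [← hf.add]
    have : a + a = 0 := by
      ext i
      exact CharTwo.add_self_eq_zero _
    rw [this, hf.zero]
  exact fun x hx => (hle (hclos hx)).2

end Cfsg.Agent.Lib.Mz
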