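import Cfsg.Agent.Lib.FischerHyp

/-!
helper27: 3-transposition groups in which the odd core of `⟨D_x⟩` is not central (part A).
-/

set_option autoImplicit false

namespace Cfsg.Agent.Lib.NCCore

open Cfsg Cfsg.Agent.Lib.ThreeRank3 Subgroup

variable {G : Type*} [Group G] {D : Set G}

theorem Dd_symm {a b : G} (ha : a ∈ D) (h : b ∈ Dd D a) : a ∈ Dd D b := ⟨ha, h.2.1.symm, h.2.2.symm⟩

/-- the members of `D_x` with the same commuting members of `D_x` as `d`. -/
def W (D : Set G) (x d : G) : Set G := {d' | d' ∈ Dd D x ∧ Dd D x ∩ Dd D d' = Dd D x ∩ Dd D d}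

theorem W_self {x d : G} (hd : d ∈ Dd D x) : d ∈ W D x d := ⟨hd, rfl⟩

theorem W_nc {x d a b : G} (ha : a ∈ W D x d) (hb : b ∈ W D x d) (hab : a ≠ b) : ¬ Commute a b := by
  intro h
  have h1 : a ∈ Dd D x ∩ Dd D b := ⟨ha.1, ha.1.1, hab, h.symm⟩
  rw [hb.2, ← ha.2] at h1
  exact h1.2.2.1 rfl

theorem W_eq {x d d' : G} (hd' : d' ∈ W D x d) : W D x d' = W D x d := by
  ext z
  simp only [W, Set.mem_setOf_eq, hd'.2]

theorem Dd_cj (hc : ∀ g : G, ∀ d ∈ D, g * d * g⁻¹ ∈ D) (g d : G) : Dd D (g * d * g⁻¹) = cj g (Dd D d) := by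
  ext z
  rw [mem_cj]
  have := Dd_conj_iff hc (g := g) (d := d) (x := g⁻¹ * z * g)
  have e : g * (g⁻¹ * z * g) * g⁻¹ = z := by group
  rw [e] at this
  exact this

theorem cj_inter (g : G) (A B : Set G) : cj g (A ∩ B) = cj g A ∩ cj g B := by
  ext z; simp only [mem_cj, Set.mem_inter_iff]

theorem cj_injective (g : G) : Function.Injective (cj g) := by
  intro A B h
  have := congrArg (cj g⁻¹) h
  rwa [← cj_mul, ← cj_mul, inv_mul_cancel, cj_one, cj_one] at this

theorem W_cj (hc : ∀ g : G, ∀ d ∈ D, g * d * g⁻¹ ∈ D) (g x d : G) :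
    W D (g * x * g⁻¹) (g * d * g⁻¹) = cj g (W D x d) := by
  ext z
  rw [mem_cj]
  have e : z = g * (g⁻¹ * z * g) * g⁻¹ := by group
  set w := g⁻¹ * z * g with hw
  rw [e]
  simp only [W, Set.mem_setOf_eq]
  rw [Dd_conj_iff hc, Dd_cj hc, Dd_cj hc, Dd_cj hc, ← cj_inter, ← cj_inter, (cj_injective g).eq_iff]

theorem cj_fix {g : G} {A : Set G} (h : ∀ a ∈ A, Commute g a) : cj g A = A := by
  ext z
  rw [mem_cj]
  constructor
  · intro hz
    have h1 := (h _ hz).eq
    have : g⁻¹ * z * g = z := by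
      have e : g * (g⁻¹ * z * g) = z * g := by group
      rw [e] at h1
      exact (mul_right_cancel h1).symm
    rwa [this] at hz
  · intro hz
    have h1 := (h _ hz).eq
    have : g⁻¹ * z * g = z := by
      calc g⁻¹ * z * g = g⁻¹ * (z * g) := by group
        _ = g⁻¹ * (g * z) := by rw [h1]
        _ = z := by group
    rwa [this]

/-- (iv) -/
theorem W_iv (hD : IsThreeTranspositionSet D) (hc : ∀ g : G, ∀ d ∈ D, g * d * g⁻¹ ∈ D) {x y e : G}
    (hx : x ∈ D) (hy : y ∈ D) (hxy : ¬ Commute x y) (he : e ∈ Dd D x) (hW : W D x e ⊆ Dd D y) :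
    W D y e = W D x e := by
  have hg : ∀ a ∈ W D x e, Commute (x * y) a := fun a ha => (ha.1.2.2.mul_left (hW ha).2.2)
  have h1 := W_cj hc (x * y) x e
  rw [conj_mul_of_not_commute hD hx hy hxy, cj_fix hg] at h1
  have h2 : x * y * e * (x * y)⁻¹ = e := by
    rw [(hg e (W_self he)).eq]; group
  rwa [h2] at h1

/-- (v) -/
theorem W_v (hD : IsThreeTranspositionSet D) (hc : ∀ g : G, ∀ d ∈ D, g * d * g⁻¹ ∈ D) {x c e y : G}
    (hx : x ∈ D) (hcD : c ∈ D) (heD : e ∈ D) (hcx : c ∈ Dd D x) (hex : e ∈ Dd D x) (hec : e ∈ Dd D c)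
    (hy : y ∈ W D c x) (hyx : y ≠ x) : y ∈ Dd D e ∧ W D y e = W D x e := by
  have hxc : x ∈ Dd D c := Dd_symm hx hcx
  have hxy : ¬ Commute x y := W_nc (W_self hxc) hy hyx.symm
  have hsub : W D x e ⊆ Dd D y := by
    intro e' he'
    have h1 : c ∈ Dd D x ∩ Dd D e := ⟨hcx, Dd_symm hcD hec⟩
    rw [← he'.2] at h1
    have h2 : e' ∈ Dd D c ∩ Dd D x := ⟨Dd_symm he'.1.1 h1.2, he'.1⟩
    rw [← hy.2] at h2
    exact h2.2
  exact ⟨Dd_symm hy.1.1 (hsub (W_self hex)), W_iv hD hc hx hy.1.1 hxy hex hsub⟩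

/-- (vi) -/
theorem W_vi (hD : IsThreeTranspositionSet D) (hc : ∀ g : G, ∀ d ∈ D, g * d * g⁻¹ ∈ D) {e y z u : G}
    (he : e ∈ D) (hy : y ∈ Dd D e) (hz : z ∈ Dd D e) (hyz : W D z e = W D y e) (hu : u ∈ Dd D e)
    (hub : W D u e ≠ W D y e) (hcom : Commute u y) : Commute u z := by
  by_contra hcon
  have huy : u ≠ y := fun h => hub (by rw [h])
  have hsub : W D z e ⊆ Dd D u := by
    rw [hyz]
    intro e' he'
    have h1 : u ∈ Dd D y ∩ Dd D e := ⟨⟨hu.1, huy, hcom.symm⟩, hu⟩
    rw [← he'.2] at h1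
    exact Dd_symm he'.1.1 h1.2
  apply hub
  rw [← hyz]
  exact W_iv hD hc hz.1 hu.1 (fun h => hcon h.symm) (Dd_symm he hz) hsub

/-- (vii) -/
theorem W_vii (hD : IsThreeTranspositionSet D) (hc : ∀ g : G, ∀ d ∈ D, g * d * g⁻¹ ∈ D) {x c e : G}
    (hx : x ∈ D) (hcD : c ∈ D) (heD : e ∈ D) (hcx : c ∈ Dd D x) (hex : e ∈ Dd D x) (hec : e ∈ Dd D c)
    (hne : W D x e ≠ W D c e) : W D c x ⊆ W D e x := by
  intro y hy
  by_cases hyx : y = x
  · rw [hyx]; exact W_self (Dd_symm hx hex)
  obtain ⟨hye, hW⟩ := W_v hD hc hx hcD heD hcx hex hec hy hyx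
  have hxe : x ∈ Dd D e := Dd_symm hx hex
  have hce : c ∈ Dd D e := Dd_symm hcD hec
  refine ⟨hye, ?_⟩
  ext u
  by_cases hue : u ∈ Dd D e
  · simp only [Set.mem_inter_iff, hue, true_and]
    by_cases hub : W D u e = W D x e
    · -- `u` is in the block of `x`
      have hcu : Commute c u := W_vi hD hc heD hxe hue hub hce hne.symm hcx.2.2.symm
      have hcne : u ≠ c := by
        intro h; apply hne; rw [← hub, h]
      have huc : u ∈ Dd D c := ⟨hue.1, hcne, hcu⟩
      constructor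
      · intro h
        have h1 : u ∈ Dd D c ∩ Dd D y := ⟨huc, h⟩
        rw [hy.2] at h1
        exact h1.2
      · intro h
        have h1 : u ∈ Dd D c ∩ Dd D x := ⟨huc, h⟩
        rw [← hy.2] at h1
        exact h1.2
    · have hux : u ≠ x := fun h => hub (by rw [h])
      have huy : u ≠ y := fun h => hub (by rw [h, hW])
      constructor
      · intro h
        refine ⟨hue.1, hux, ?_⟩
        exact (W_vi hD hc heD hye hxe hW.symm hue (by rw [hW]; exact hub) h.2.2.symm).symm
      · intro h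
        refine ⟨hue.1, huy, ?_⟩
        exact (W_vi hD hc heD hxe hye hW hue hub h.2.2.symm).symm
  · simp only [Set.mem_inter_iff, hue, false_and]

theorem comm_L1 (hD : IsThreeTranspositionSet D) {e e' a : G} (he : e ∈ D) (he' : e' ∈ D)
    (hee : ¬ Commute e e') (hea : Commute e a) : Commute e (e' * a * e'⁻¹) ↔ Commute e' a := by
  have hb := braid hD he he' hee
  rw [commute_conj_iff']
  have e1 : e'⁻¹ * e * e' = e * e' * e⁻¹ := by
    rw [inv_self hD he', inv_self hD he, hb]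
  have e2 : a = e * a * e⁻¹ := by rw [hea.eq]; group
  rw [e1]
  conv_lhs => rw [e2]
  exact commute_conj_iff

theorem d5 (hD : IsThreeTranspositionSet D) (hcl : ∀ g : G, ∀ d ∈ D, g * d * g⁻¹ ∈ D)
    {e e' u x c : G} (he : e ∈ D) (he' : e' ∈ D) (hu : u ∈ D) (hx : x ∈ D) (hc : c ∈ D)
    (hee' : ¬ Commute e e') (hue' : ¬ Commute u e') (hux : ¬ Commute u x) (huc : ¬ Commute u c)
    (hxc : Commute x c) (hex : Commute e x) (hec : Commute e c) (heu : Commute e u)
    (he'x : Commute e' x) (he'c : Commute e' c) (hne : x ≠ c) :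
    ∃ f ∈ D, Commute f x ∧ Commute f e ∧ f ≠ e ∧ ¬ Commute f e' := by
  set a := u * x * u⁻¹ with ha
  set b := u * c * u⁻¹ with hb
  have ha' : a = x * u * x⁻¹ := by
    rw [ha, inv_self hD hu, inv_self hD hx, braid hD hu hx hux]
  have hb' : b = c * u * c⁻¹ := by
    rw [hb, inv_self hD hu, inv_self hD hc, braid hD hu hc huc]
  have haD : a ∈ D := hcl _ _ hx
  have hbD : b ∈ D := hcl _ _ hc
  set m := e' * a * e'⁻¹ with hm
  set p := e' * b * e'⁻¹ with hp
  have hmD : m ∈ D := hcl _ _ haD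
  have hpD : p ∈ D := hcl _ _ hbD
  have hab : Commute a b := commute_conj_iff.2 hxc
  have hmp : Commute m p := commute_conj_iff.2 hab
  have hea : Commute e a := (heu.mul_right hex).mul_right heu.inv_right
  have heb : Commute e b := (heu.mul_right hec).mul_right heu.inv_right
  have he'a : ¬ Commute e' a := by
    rw [ha', commute_conj_iff']
    have : x⁻¹ * e' * x = e' := by rw [mul_assoc, he'x.eq]; group
    rw [this]
    exact fun h => hue' h.symm
  have he'b : ¬ Commute e' b := by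
    rw [hb', commute_conj_iff']
    have : c⁻¹ * e' * c = e' := by rw [mul_assoc, he'c.eq]; group
    rw [this]
    exact fun h => hue' h.symm
  have hem : ¬ Commute e m := by rw [hm, comm_L1 hD he he' hee' hea]; exact he'a
  have hep : ¬ Commute e p := by rw [hp, comm_L1 hD he he' hee' heb]; exact he'b
  -- `r`
  set r := e' * u * e'⁻¹ with hr
  have hrD : r ∈ D := hcl _ _ hu
  have hrx : ¬ Commute r x := by
    intro h
    apply hux
    have e1 : x = e' * x * e'⁻¹ := by rw [he'x.eq]; group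
    rw [hr, e1] at h
    exact commute_conj_iff.1 h
  have hrc : ¬ Commute r c := by
    intro h
    apply huc
    have e1 : c = e' * c * e'⁻¹ := by rw [he'c.eq]; group
    rw [hr, e1] at h
    exact commute_conj_iff.1 h
  have hmr : m = r * x * r⁻¹ := by
    rw [hm, hr, ha]
    have e1 : x = e'⁻¹ * x * e' := by rw [mul_assoc, ← he'x.eq]; group
    calc e' * (u * x * u⁻¹) * e'⁻¹ = e' * (u * (e'⁻¹ * x * e') * u⁻¹) * e'⁻¹ := by rw [← e1]
      _ = e' * u * e'⁻¹ * x * (e' * u * e'⁻¹)⁻¹ := by group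
  have hpr : p = r * c * r⁻¹ := by
    rw [hp, hr, hb]
    have e1 : c = e'⁻¹ * c * e' := by rw [mul_assoc, ← he'c.eq]; group
    calc e' * (u * c * u⁻¹) * e'⁻¹ = e' * (u * (e'⁻¹ * c * e') * u⁻¹) * e'⁻¹ := by rw [← e1]
      _ = e' * u * e'⁻¹ * c * (e' * u * e'⁻¹)⁻¹ := by group
  -- `m x m⁻¹ = r`
  have hmx : m * x * m⁻¹ = r := by
    have h1 := conj_mul_of_not_commute hD hx hrD (fun h => hrx h.symm)
    have h2 := braid hD hrD hx hrx
    rw [hmr]
    rw [inv_self hD hrD] at *
    have hrr := sq_one hD hrD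
    have hxx := sq_one hD hx
    have hxi := inv_self hD hx
    have e1 : (r * x * r)⁻¹ = r * x * r := by
      refine inv_self hD ?_
      have := hcl r x hx
      rwa [inv_self hD hrD] at this
    rw [e1, h2]
    calc x * r * x * x * (x * r * x) = x * r * (x * x) * x * r * x := by group
      _ = x * (r * x * r) * x := by rw [hxx]; group
      _ = x * (x * r * x) * x := by rw [h2]
      _ = (x * x) * r * (x * x) := by group
      _ = r := by rw [hxx]; group
  have hpr' : p * r * p⁻¹ = c := by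
    have h2 := braid hD hrD hc hrc
    have hrr := sq_one hD hrD
    have hcc := sq_one hD hc
    have hci := inv_self hD hc
    rw [hpr, inv_self hD hrD]
    have e1 : (r * c * r)⁻¹ = r * c * r := by
      refine inv_self hD ?_
      have := hcl r c hc
      rwa [inv_self hD hrD] at this
    rw [e1]
    calc r * c * r * r * (r * c * r) = r * c * (r * r) * r * c * r := by group
      _ = r * (c * r * c) * r := by rw [hrr]; group
      _ = r * (r * c * r) * r := by rw [h2]
      _ = (r * r) * c * (r * r) := by group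
      _ = c := by rw [hrr]; group
  refine ⟨(p * m) * e * (p * m)⁻¹, hcl _ _ he, ?_, ?_, ?_, ?_⟩
  · apply Commute.symm
    rw [commute_conj_iff']
    have e1 : (p * m)⁻¹ * x * (p * m) = c := by
      have h1 : (p * m)⁻¹ = m * p := by rw [mul_inv_rev, inv_self hD hmD, inv_self hD hpD]
      have h2 : p * m = (m * p) := hmp.eq.symm
      have h3 : m * p = p * m := hmp.eq
      have h4 : m * x * m = r := by rw [← hmx, inv_self hD hmD]
      have h5 : p * r * p = c := by rw [← hpr', inv_self hD hpD]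
      calc (p * m)⁻¹ * x * (p * m) = (m * p) * x * (m * p) := by rw [h1, h2]
        _ = (p * m) * x * (m * p) := by rw [h3]
        _ = p * (m * x * m) * p := by group
        _ = c := by rw [h4, h5]
    rw [e1]
    exact hec.symm
  · exact (commute_conj_prod hD hpD hmD he hmp.symm hep hem).symm
  · intro h
    have e1 : m * e * m = p * e * p := by
      have h1 : (p * m) * e * (p * m)⁻¹ = p * (m * e * m) * p := by
        rw [mul_inv_rev, inv_self hD hmD, inv_self hD hpD]; group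
      rw [h1] at h
      have hpp := sq_one hD hpD
      calc m * e * m = (p * p) * (m * e * m) * (p * p) := by rw [hpp]; group
        _ = p * (p * (m * e * m) * p) * p := by group
        _ = p * e * p := by rw [h]
    rw [← braid hD he hmD hem, ← braid hD he hpD hep] at e1
    have e2 : m = p := mul_left_cancel (mul_right_cancel e1)
    rw [hm, hp] at e2
    have e3 : a = b := mul_left_cancel (mul_right_cancel e2)
    rw [ha, hb] at e3
    exact hne (mul_left_cancel (mul_right_cancel e3))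
  · intro h
    -- `f p f⁻¹ = e m e⁻¹`
    have h1 := conj_prod_conj hD hpD hmD he hmp.symm hep hem
    set f := (p * m) * e * (p * m)⁻¹ with hf
    have h2 : Commute e' (e * m * e⁻¹) := by
      have e1 : e * m * e⁻¹ = (e * e') * a * (e * e')⁻¹ := by rw [hm]; group
      rw [e1, commute_conj_iff']
      have e2 : (e * e')⁻¹ * e' * (e * e') = e := by
        have hb1 := braid hD he he' hee'
        have hee := sq_one hD he
        have hee2 := sq_one hD he'
        rw [mul_inv_rev, inv_self hD he, inv_self hD he']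
        calc e' * e * e' * (e * e') = e' * (e * e' * e) * e' := by group
          _ = e' * (e' * e * e') * e' := by rw [hb1]
          _ = (e' * e') * e * (e' * e') := by group
          _ = e := by rw [hee2]; group
      rw [e2]
      exact hea
    rw [← h1, commute_conj_iff'] at h2
    have e3 : f⁻¹ * e' * f = e' := by rw [mul_assoc, ← h.eq]; group
    rw [e3, hp, commute_conj_iff'] at h2
    have e4 : e'⁻¹ * e' * e' = e' := by group
    rw [e4] at h2
    exact he'b h2

/-- (**) -/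
theorem W_D5 (hD : IsThreeTranspositionSet D) (hcl : ∀ g : G, ∀ d ∈ D, g * d * g⁻¹ ∈ D) {e x c e' u : G}
    (he : e ∈ D) (hx : x ∈ D) (hc : c ∈ D) (hex : e ∈ Dd D x) (hec : e ∈ Dd D c) (hcx : c ∈ Dd D x)
    (he' : e' ∈ W D x e) (hue : u ∈ Dd D e) (hux : ¬ Commute u x) (huc : ¬ Commute u c) : e' ∈ Dd D u := by
  by_cases hee : e' = e
  · rw [hee]; exact Dd_symm he hue
  have he'D : e' ∈ D := he'.1.1
  have hcc : c ∈ Dd D x ∩ Dd D e' := by rw [he'.2]; exact ⟨hcx, Dd_symm hc hec⟩
  have hune : e' ≠ u := fun h => hux (h ▸ he'.1.2.2.symm)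
  refine ⟨he'D, hune, ?_⟩
  by_contra hcon
  obtain ⟨f, hf, hfx, hfe, hfne, hfe'⟩ := d5 hD hcl he he'D hue.1 hx hc (fun h => W_nc (W_self hex) he' (Ne.symm hee) h)
    hcon hux huc hcx.2.2 hex.2.2.symm hec.2.2.symm hue.2.2 he'.1.2.2.symm hcc.2.2.2 (Ne.symm hcx.2.1)
  have h1 : f ∈ Dd D x ∩ Dd D e := by
    refine ⟨⟨hf, ?_, hfx.symm⟩, hf, hfne, hfe.symm⟩
    intro h
    apply hfe'
    rw [h]; exact he'.1.2.2
  rw [← he'.2] at h1
  exact hfe' h1.2.2.2.symm

theorem W_D5' (hD : IsThreeTranspositionSet D) (hcl : ∀ g : G, ∀ d ∈ D, g * d * g⁻¹ ∈ D) {e x c u : G}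
    (he : e ∈ D) (hx : x ∈ D) (hc : c ∈ D) (hex : e ∈ Dd D x) (hec : e ∈ Dd D c) (hcx : c ∈ Dd D x)
    (hue : u ∈ Dd D e) (hux : ¬ Commute u x) (huc : ¬ Commute u c) : W D u e = W D x e :=
  W_iv hD hcl hx hue.1 (fun h => hux h.symm) hex (fun _ he' => W_D5 hD hcl he hx hc hex hec hcx he' hue hux huc)

end Cfsg.Agent.Lib.NCCore
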