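import Mathlib
import Cfsg.Agent.Lib.ZStarU
import Cfsg.Agent.Lib.H23Basic
import Cfsg.Agent.Lib.BSWGrp

/-!
# Groups in which nontrivial subgroups of cyclic subgroups of even order have the same normalizer
(helper4, for S3730): local analysis of involution centralizers
-/

set_option autoImplicit false
set_option linter.all false

namespace Cfsg.Agent.Lib.NCyc

open Subgroup

universe u
variable {G : Type u} [Group G]

/-- hypothesis on normalizers -/
def HN (G : Type u) [Group G] : Prop :=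
  ∀ X : Subgroup G, IsCyclic ↥X → Even (Nat.card ↥X) → ∀ Y : Subgroup G, Y ≤ X → Y ≠ ⊥ →
    Subgroup.normalizer (X : Set G) = Subgroup.normalizer (Y : Set G)

/-- no nontrivial solvable normal subgroup -/
def HS (G : Type u) [Group G] : Prop :=
  ∀ N : Subgroup G, N.Normal → Group.IsSolvable ↥N → N = ⊥

theorem sq_of {t : G} (ht : orderOf t = 2) : t * t = 1 := by
  rw [← pow_two, ← ht]; exact pow_orderOf_eq_one t

theorem ne_one_of {t : G} (ht : orderOf t = 2) : t ≠ 1 := by
  rintro rfl; rw [orderOf_one] at ht; omega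

theorem inv_of {t : G} (ht : orderOf t = 2) : t⁻¹ = t := inv_eq_of_mul_eq_one_left (sq_of ht)

theorem ord_two {t : G} (h : t * t = 1) (h1 : t ≠ 1) : orderOf t = 2 :=
  orderOf_eq_prime (by rw [pow_two]; exact h) h1

theorem ord_conj (g x : G) : orderOf (g * x * g⁻¹) = orderOf x := by
  have : g * x * g⁻¹ = MulAut.conj g x := rfl
  rw [this, MulEquiv.orderOf_eq]

theorem mem_cent {t x : G} : x ∈ centralizer ({t} : Set G) ↔ x * t = t * x :=
  mem_centralizer_singleton_iff

theorem norm_t {t : G} (ht : orderOf t = 2) :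
    normalizer ((zpowers t : Subgroup G) : Set G) = centralizer ({t} : Set G) := by
  ext x
  rw [mem_cent, Subgroup.mem_normalizer_iff]
  have hz : ∀ y ∈ zpowers t, y = 1 ∨ y = t := by
    intro y hy
    obtain ⟨n, rfl⟩ := mem_zpowers_iff.1 hy
    rcases Int.even_or_odd n with ⟨m, rfl⟩ | ⟨m, rfl⟩
    · left; rw [← two_mul, zpow_mul, zpow_two, sq_of ht, one_zpow]
    · right; rw [zpow_add, zpow_mul, zpow_two, sq_of ht, one_zpow, one_mul, zpow_one]
  constructor
  · intro h
    rcases hz _ ((h t).1 (mem_zpowers t)) with h1 | h1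
    · exfalso
      apply ne_one_of ht
      have : t = x⁻¹ * (x * t * x⁻¹) * x := by group
      rw [this, h1]; group
    · exact mul_inv_eq_iff_eq_mul.1 h1
  · intro h y
    constructor
    · intro hy
      rcases hz y hy with rfl | rfl
      · simp
      · rw [h]; simp
    · intro hy
      have e : y = x⁻¹ * (x * y * x⁻¹) * x := by group
      rcases hz _ hy with h1 | h1
      · rw [e, h1]; simp
      · rw [e, h1, mul_assoc, ← h]; simp

variable [Finite G]

theorem pow_half {k : G} (h : Even (orderOf k)) : orderOf (k ^ (orderOf k / 2)) = 2 := by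
  have hpos : 0 < orderOf k := orderOf_pos k
  obtain ⟨m, hm⟩ := h
  have hm' : orderOf k / 2 = m := by omega
  rw [hm', orderOf_pow' k (by omega), hm, ← two_mul, Nat.gcd_mul_left_left]
  exact Nat.mul_div_cancel _ (by omega)

/-- the unique involution in a cyclic group -/
theorem eq_half {k a : G} (ha : a ∈ zpowers k) (oa : orderOf a = 2) :
    a = k ^ (orderOf k / 2) ∧ Even (orderOf k) := by
  classical
  rw [mem_zpowers_iff_mem_range_orderOf] at ha
  obtain ⟨i, hi, rfl⟩ := Finset.mem_image.1 ha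
  rw [Finset.mem_range] at hi
  have h1 : orderOf k ∣ i * 2 := by
    apply orderOf_dvd_of_pow_eq_one
    rw [pow_mul, ← oa]; exact pow_orderOf_eq_one _
  have h0 : i ≠ 0 := by
    rintro rfl
    rw [pow_zero, orderOf_one] at oa; omega
  obtain ⟨c, hc⟩ := h1
  have hc1 : c = 1 := by
    have h2 : c ≠ 0 := by rintro rfl; omega
    by_contra h3
    have : 2 ≤ c := by omega
    have h4 : orderOf k * 2 ≤ orderOf k * c := Nat.mul_le_mul_left _ this
    omega
  rw [hc1, mul_one] at hc
  exact ⟨by congr 1; omega, ⟨i, by omega⟩⟩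

theorem invol_unique {k a b : G} (ha : a ∈ zpowers k) (hb : b ∈ zpowers k) (oa : orderOf a = 2)
    (ob : orderOf b = 2) : a = b := by
  rw [(eq_half ha oa).1, (eq_half hb ob).1]

section HN

variable (hN : HN G)

include hN in
/-- the basic consequence of the hypothesis -/
theorem norm_zpowers {t x : G} (ht : orderOf t = 2) (hx1 : x ≠ 1) (hc : x * t = t * x)
    (h : Odd (orderOf x) ∨ t ∈ zpowers x) :
    normalizer ((zpowers x : Subgroup G) : Set G) = centralizer ({t} : Set G) := by
  rcases h with h | h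
  · have hcop : Nat.Coprime (orderOf x) (orderOf t) := by
      rw [ht]; exact Nat.coprime_two_right.2 h
    have hc' : Commute x t := hc
    have ho : orderOf (x * t) = orderOf x * orderOf t := hc'.orderOf_mul_eq_mul_orderOf_of_coprime hcop
    have hx : x ∈ zpowers (x * t) := by
      have h1 : (x * t) ^ (orderOf x + 1) = x := by
        rw [hc'.mul_pow, pow_succ, pow_orderOf_eq_one, one_mul]
        obtain ⟨m, hm⟩ := h
        rw [hm, show 2 * m + 1 + 1 = 2 * (m + 1) by ring, pow_mul, pow_two, sq_of ht, one_pow, mul_one]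
      have h2 := npow_mem_zpowers (x * t) (orderOf x + 1)
      rw [h1] at h2
      exact h2
    have htm : t ∈ zpowers (x * t) := by
      have h1 : (x * t) ^ (orderOf x) = t := by
        rw [hc'.mul_pow, pow_orderOf_eq_one, one_mul]
        obtain ⟨m, hm⟩ := h
        rw [hm, pow_succ, pow_mul, pow_two, sq_of ht, one_pow, one_mul]
      have h2 := npow_mem_zpowers (x * t) (orderOf x)
      rw [h1] at h2
      exact h2
    have heven : Even (Nat.card (zpowers (x * t))) := by
      rw [Nat.card_zpowers, ho, ht]; exact even_two.mul_left _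
    have h1 := hN (zpowers (x * t)) inferInstance heven (zpowers x) (zpowers_le.2 hx)
      (by rwa [ne_eq, zpowers_eq_bot])
    have h2 := hN (zpowers (x * t)) inferInstance heven (zpowers t) (zpowers_le.2 htm)
      (by rw [ne_eq, zpowers_eq_bot]; exact ne_one_of ht)
    rw [← h1, h2, norm_t ht]
  · have heven : Even (Nat.card (zpowers x)) := by
      rw [Nat.card_zpowers]; exact (eq_half h ht).2
    have h2 := hN (zpowers x) inferInstance heven (zpowers t) (zpowers_le.2 h)
      (by rw [ne_eq, zpowers_eq_bot]; exact ne_one_of ht)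
    rw [h2, norm_t ht]

include hN in
theorem conj_mem {t x h : G} (ht : orderOf t = 2) (hx1 : x ≠ 1) (hc : x * t = t * x)
    (hx : Odd (orderOf x) ∨ t ∈ zpowers x) (hh : h * t = t * h) : h * x * h⁻¹ ∈ zpowers x := by
  have h1 : h ∈ normalizer ((zpowers x : Subgroup G) : Set G) := by
    rw [norm_zpowers hN ht hx1 hc hx]; exact mem_cent.2 hh
  exact (Subgroup.mem_normalizer_iff.1 h1 x).1 (mem_zpowers x)

omit [Finite G] in
theorem ord_four {t y : G} (ht : orderOf t = 2) (hy : y * y = t) : orderOf y = 4 := by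
  have h1 : y ^ 4 = 1 := by
    rw [show (4 : ℕ) = 2 * 2 by norm_num, pow_mul, pow_two, pow_two, hy, sq_of ht]
  have h2 : ¬ y ^ 2 = 1 := by rw [pow_two, hy]; exact ne_one_of ht
  have := orderOf_eq_prime_pow (p := 2) (n := 1) (x := y) (by simpa using h2) (by simpa using h1)
  simpa using this

omit [Finite G] in
theorem t_mem {t y : G} (hy : y * y = t) : t ∈ zpowers y := by
  rw [← hy]; exact mul_mem (mem_zpowers y) (mem_zpowers y)

omit [Finite G] in
theorem y_comm {t y : G} (hy : y * y = t) : y * t = t * y := by rw [← hy]; group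

omit [Finite G] in
theorem y_inv {t y : G} (ht : orderOf t = 2) (hy : y * y = t) : y⁻¹ = y * t := by
  rw [inv_eq_iff_mul_eq_one, ← mul_assoc, hy, sq_of ht]

omit [Finite G] in
theorem y_ne {t y : G} (ht : orderOf t = 2) (hy : y * y = t) : y ≠ y⁻¹ := by
  intro h
  apply ne_one_of ht
  rw [← hy]; nth_rewrite 1 [h]; exact inv_mul_cancel y

omit [Finite G] in
theorem y_ne_one {t y : G} (ht : orderOf t = 2) (hy : y * y = t) : y ≠ 1 := by
  rintro rfl; apply ne_one_of ht; rw [← hy, one_mul]

omit [Finite G] in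
/-- elements of order four in the cyclic group `⟨y⟩`, `y² = t` -/
theorem mem_zp_four {t y w : G} (ht : orderOf t = 2) (hy : y * y = t) (hw : w ∈ zpowers y)
    (hwt : w * w = t) : w = y ∨ w = y⁻¹ := by
  obtain ⟨n, rfl⟩ := mem_zpowers_iff.1 hw
  have h4 : y ^ (4 : ℤ) = 1 := by
    rw [show (4 : ℤ) = 2 * 2 by norm_num, zpow_mul, zpow_two, zpow_two, hy, sq_of ht]
  have hn : n = 4 * (n / 4) + n % 4 := (Int.mul_ediv_add_emod n 4).symm
  have hpow : y ^ n = y ^ (n % 4) := by
    nth_rewrite 1 [hn]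
    rw [zpow_add, zpow_mul, h4, one_zpow, one_mul]
  rw [hpow] at hwt ⊢
  have h0 : 0 ≤ n % 4 := Int.emod_nonneg _ (by norm_num)
  have h1 : n % 4 < 4 := Int.emod_lt_of_pos _ (by norm_num)
  interval_cases h : n % 4
  · exfalso; apply ne_one_of ht; rw [← hwt]; simp
  · left; simp
  · exfalso; apply ne_one_of ht; rw [← hwt, zpow_two, hy, sq_of ht]
  · right
    rw [show (3 : ℤ) = 2 + 1 by norm_num, zpow_add, zpow_two, zpow_one, hy, y_inv ht hy, y_comm hy]

include hN in
theorem conj_four {t y h : G} (ht : orderOf t = 2) (hy : y * y = t) (hh : h * t = t * h) :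
    h * y * h⁻¹ = y ∨ h * y * h⁻¹ = y⁻¹ := by
  apply mem_zp_four ht hy
  · exact conj_mem hN ht (y_ne_one ht hy) (y_comm hy) (Or.inr (t_mem hy)) hh
  · calc h * y * h⁻¹ * (h * y * h⁻¹) = h * (y * y) * h⁻¹ := by group
      _ = t := by rw [hy, hh]; group

omit [Finite G] in
theorem comm_iff {h y : G} : h * y * h⁻¹ = y ↔ h * y = y * h := mul_inv_eq_iff_eq_mul

omit [Finite G] in
theorem pow_conj_inv {x y : G} (h : x * y * x⁻¹ = y⁻¹) (n : ℕ) :
    x ^ (2 * n) * y * (x ^ (2 * n))⁻¹ = y ∧ x ^ (2 * n + 1) * y * (x ^ (2 * n + 1))⁻¹ = y⁻¹ := by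
  have h2 : ∀ w : G, x * w * x⁻¹ = w⁻¹ → x * w⁻¹ * x⁻¹ = w := by
    intro w hw
    have : x * w⁻¹ * x⁻¹ = (x * w * x⁻¹)⁻¹ := by group
    rw [this, hw, inv_inv]
  induction n with
  | zero => simp [h]
  | succ n ih =>
    have e1 : x ^ (2 * (n + 1)) * y * (x ^ (2 * (n + 1)))⁻¹ =
        x * (x ^ (2 * n + 1) * y * (x ^ (2 * n + 1))⁻¹) * x⁻¹ := by
      rw [show 2 * (n + 1) = (2 * n + 1) + 1 by ring, pow_succ' x (2 * n + 1)]; group
    have e2 : x ^ (2 * (n + 1) + 1) * y * (x ^ (2 * (n + 1) + 1))⁻¹ =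
        x * (x ^ (2 * (n + 1)) * y * (x ^ (2 * (n + 1)))⁻¹) * x⁻¹ := by
      rw [pow_succ' x (2 * (n + 1))]; group
    have e3 : x ^ (2 * (n + 1)) * y * (x ^ (2 * (n + 1)))⁻¹ = y := by
      rw [e1, ih.2]; exact h2 y h
    exact ⟨e3, by rw [e2, e3, h]⟩

omit [Finite G] in
theorem odd_pow_conj_inv {x y : G} (h : x * y * x⁻¹ = y⁻¹) {n : ℕ} (hn : Odd n) :
    x ^ n * y * (x ^ n)⁻¹ = y⁻¹ := by
  obtain ⟨m, rfl⟩ := hn; exact (pow_conj_inv h m).2

omit [Finite G] in
theorem even_pow_conj_inv {x y : G} (h : x * y * x⁻¹ = y⁻¹) {n : ℕ} (hn : Even n) :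
    x ^ n * y * (x ^ n)⁻¹ = y := by
  obtain ⟨m, rfl⟩ := hn; rw [← two_mul]; exact (pow_conj_inv h m).1

include hN in
/-- elements of odd order in `C(t)` commute with `y`, `y² = t` -/
theorem odd_comm {t y x : G} (ht : orderOf t = 2) (hy : y * y = t) (hx : x * t = t * x)
    (ho : Odd (orderOf x)) : x * y = y * x := by
  rcases conj_four hN ht hy hx with h | h
  · exact comm_iff.1 h
  · exfalso
    have h1 := odd_pow_conj_inv h ho
    rw [pow_orderOf_eq_one] at h1
    apply y_ne ht hy
    simpa using h1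

include hN in
/-- commuting elements of order four with different squares -/
theorem comm_of_sq {t v y z : G} (ht : orderOf t = 2) (hv : orderOf v = 2) (htv : t ≠ v)
    (hy : y * y = t) (hz : z * z = v) (hyv : y * v = v * y) (hzt : z * t = t * z) :
    y * z = z * y := by
  rcases conj_four hN ht hy hzt with h | h
  · exact (comm_iff.1 h).symm
  rcases conj_four hN hv hz hyv with h' | h'
  · exact comm_iff.1 h'
  exfalso
  apply htv
  -- z y z⁻¹ = y⁻¹ , y z y⁻¹ = z⁻¹
  have h1 : z * y * z⁻¹ * y⁻¹ = y⁻¹ * y⁻¹ := by rw [h]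
  have h2 : z * y * z⁻¹ * y⁻¹ = z * (y * z * y⁻¹)⁻¹ := by group
  rw [h', inv_inv] at h2
  have h3 : y⁻¹ * y⁻¹ = t := by rw [← mul_inv_rev, hy, inv_of ht]
  rw [← h3, ← h1, h2, hz]

end HN

/-! ### the `Z*` theorem -/

/-- the odd order theorem as a hypothesis (S0205) -/
def FT : Prop := ∀ (H : Type u) [Group H] [Finite H], Odd (Nat.card H) → Group.IsSolvable H

theorem oddCore_eq_bot (hFT : FT.{u}) (hS : HS G) : oddCore G = ⊥ := by
  apply hS (oddCore G) inferInstance
  have hodd : Odd (Nat.card (oddCore G)) := H23Basic.odd_card_oddCore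
  exact hFT _ hodd

theorem exists_fused (hFT : FT.{u}) (hS : HS G) {t : G} (ht : orderOf t = 2) :
    ∃ g : G, g * t * g⁻¹ ≠ t ∧ (g * t * g⁻¹) * t = t * (g * t * g⁻¹) := by
  by_contra hcon
  push Not at hcon
  have hiso : IsIsolatedInvolution t := by
    refine ⟨ht, fun g hg => ?_⟩
    by_contra h
    exact hcon g h hg.eq.symm
  have h1 := ZStarU.inZStar_of_isolated hiso
  have h2 : pPrimeCore 2 G = ⊥ := oddCore_eq_bot hFT hS
  have h3 : ∀ g : G, g * t = t * g := by
    intro g
    have := h1 g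
    rw [h2, Subgroup.mem_bot] at this
    have h4 : g * t * g⁻¹ = t := mul_inv_eq_one.1 this
    exact mul_inv_eq_iff_eq_mul.1 h4
  have h5 : (zpowers t).Normal := by
    rw [← Subgroup.normalizer_eq_top_iff, norm_t ht, Subgroup.eq_top_iff']
    intro g
    exact mem_cent.2 (h3 g)
  have h6 := hS (zpowers t) h5 (by
    have : IsMulCommutative (zpowers t) := inferInstance
    infer_instance)
  rw [zpowers_eq_bot] at h6
  exact ne_one_of ht h6

end Cfsg.Agent.Lib.NCyc
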