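import Cfsg.Agent.Lib.ZassCoord
import Cfsg.Agent.Lib.PGLCoord
import Cfsg.Agent.Lib.ClSLn
import Cfsg.Agent.Lib.ClSL2

/-!
# Recognition of `PGL(2,q)` by the normalizer of an abelian subgroup of order `q` (helper4)
-/

set_option autoImplicit false
set_option linter.all false

namespace Cfsg.Agent.Lib.PGLFrob

open Subgroup MulAction OnePoint

theorem card_PGL2 {E : Type} [Field E] [Fintype E] :
    Nat.card (Matrix.ProjGenLinGroup (Fin 2) E) = Fintype.card E * (Fintype.card E ^ 2 - 1) := by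
  rw [ClSLn.card_PGL, ClSL2.card_SL2 rfl]

theorem pgl_of_frob {G : Type*} [Group G] [Finite G] (Q : Subgroup G) (q : ℕ) (hq : Nat.card Q = q) (hq1 : 1 < q)
    (hQc : ∀ x ∈ Q, ∀ y ∈ Q, x * y = y * x)
    (hN : Nat.card (normalizer (Q : Set G)) = q * (q - 1))
    (hG : Nat.card G = q * (q + 1) * (q - 1))
    (u : G) (hu : u * u = 1) (huN : u ∉ normalizer (Q : Set G))
    (hQu : ∀ x ∈ Q, u * x * u⁻¹ ∈ normalizer (Q : Set G) → x = 1)
    (hfree : ∀ g ∈ normalizer (Q : Set G), u * g * u⁻¹ ∈ normalizer (Q : Set G) →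
      ∀ x ∈ Q, x ≠ 1 → g * x = x * g → g = 1)
    (hHab : ∀ g ∈ normalizer (Q : Set G), u * g * u⁻¹ ∈ normalizer (Q : Set G) →
      ∀ h ∈ normalizer (Q : Set G), u * h * u⁻¹ ∈ normalizer (Q : Set G) → g * h = h * g)
    (hHinv : ∀ g ∈ normalizer (Q : Set G), u * g * u⁻¹ ∈ normalizer (Q : Set G) → u * g * u⁻¹ = g⁻¹) :
    ∃ (F : Type) (_ : Field F) (_ : Fintype F), Fintype.card F = q ∧
      Nonempty (G ≃* Matrix.ProjGenLinGroup (Fin 2) F) := by
  classical
  have hui : u⁻¹ = u := inv_eq_of_mul_eq_one_right hu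
  set N := normalizer (Q : Set G) with hNdef
  have hQN : Q ≤ N := Subgroup.le_normalizer
  have hcardΩ : Nat.card (G ⧸ N) = q + 1 := by
    have h1 := Subgroup.card_mul_index N
    rw [Subgroup.index, hN, hG] at h1
    have hpos : 0 < q * (q - 1) := Nat.mul_pos (by omega) (by omega)
    apply Nat.eq_of_mul_eq_mul_left hpos
    rw [h1]; ring
  have hfix : ∀ g h : G, g • (QuotientGroup.mk h : G ⧸ N) = QuotientGroup.mk h ↔ h⁻¹ * g * h ∈ N := by
    intro g h
    rw [MulAction.Quotient.smul_mk, eq_comm, QuotientGroup.eq, smul_eq_mul, mul_assoc]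
  set a : G ⧸ N := QuotientGroup.mk 1 with ha
  set b : G ⧸ N := QuotientGroup.mk u with hb
  have hua : u • a = b := by
    rw [ha, hb, MulAction.Quotient.smul_mk, smul_eq_mul, mul_one]
  have hub : u • b = a := by rw [← hua, smul_smul, hu, one_smul]
  have hga : ∀ g : G, g • a = a ↔ g ∈ N := by
    intro g
    rw [ha, hfix, inv_one, one_mul, mul_one]
  have hgb : ∀ g : G, g • b = b ↔ u * g * u⁻¹ ∈ N := by
    intro g
    rw [hb, hfix, hui]
  have hab : a ≠ b := by
    intro h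
    apply huN
    rw [← hga, hua, h]
  have hQa : ∀ x ∈ Q, x • a = a := fun x hx => (hga x).2 (hQN hx)
  have hinj : ∀ x ∈ Q, x • b = b → x = 1 := by
    intro x hx hxb
    exact hQu x hx ((hgb x).1 hxb)
  have hQb : ∀ x ∈ Q, x • b ≠ a := by
    intro x hx h
    rw [← hQa x hx] at h
    exact hab (smul_left_cancel _ h).symm
  have hex : ∀ c, c ≠ a → ∃ x ∈ Q, x • b = c := by
    let f : Option Q → G ⧸ N := fun o => o.elim a (fun x => x.1 • b)
    have hf : Function.Injective f := by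
      rintro (_ | x) (_ | y) h
      · rfl
      · exact absurd h.symm (hQb y.1 y.2)
      · exact absurd h (hQb x.1 x.2)
      · have h1 : x.1 • b = y.1 • b := h
        have h2 : (y.1⁻¹ * x.1) • b = b := by rw [mul_smul, h1, inv_smul_smul]
        have h3 := hinj _ (Q.mul_mem (Q.inv_mem y.2) x.2) h2
        have h4 : x = y := Subtype.ext (inv_mul_eq_one.1 h3).symm
        rw [h4]
    have hfb : Function.Bijective f := by
      rw [Nat.bijective_iff_injective_and_card]
      exact ⟨hf, by rw [Finite.card_option, hcardΩ, hq]⟩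
    intro c hc
    obtain ⟨o, ho⟩ := hfb.2 c
    rcases o with _ | x
    · exact absurd ho.symm hc
    · exact ⟨x.1, x.2, ho⟩
  have hQ1 : ∃ y ∈ Q, y ≠ 1 := by
    have : Nontrivial Q := by
      rw [← Finite.one_lt_card_iff_nontrivial]; omega
    obtain ⟨y, hy⟩ := exists_ne (1 : Q)
    exact ⟨y.1, y.2, fun h => hy (Subtype.ext h)⟩
  -- conjugation of `Q` by the elements fixing `a`
  have hconj : ∀ h : G, h • a = a → ∀ x ∈ Q, h * x * h⁻¹ ∈ Q := by
    intro h hh x hx
    exact (Subgroup.mem_normalizer_iff.1 ((hga h).1 hh) x).1 hx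
  -- an element fixing `a` and `b` commutes with `z ∈ Q` if it fixes `z • b`
  have hcomm : ∀ h : G, h • a = a → h • b = b → ∀ z ∈ Q, h • z • b = z • b → h * z = z * h := by
    intro h ha' hb' z hz hfz
    have h4 : (z⁻¹ * (h * z * h⁻¹)) • b = b := by
      rw [mul_smul, mul_smul, mul_smul]
      have : h⁻¹ • b = b := by rw [inv_smul_eq_iff, hb']
      rw [this, hfz, inv_smul_smul]
    have h5 := hinj _ (Q.mul_mem (Q.inv_mem hz) (hconj h ha' z hz)) h4
    have h6 : z = h * z * h⁻¹ := inv_mul_eq_one.1 h5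
    exact (eq_mul_inv_iff_mul_eq.1 h6).symm
  haveI : FaithfulSMul G (G ⧸ N) := by
    refine ⟨fun {g h} hgh => ?_⟩
    have key : ∀ k : G, (∀ c : G ⧸ N, k • c = c) → k = 1 := by
      intro k hk
      obtain ⟨y, hy, hy1⟩ := hQ1
      exact hfree k ((hga k).1 (hk a)) ((hgb k).1 (hk b)) y hy hy1
        (hcomm k (hk a) (hk b) y hy (hk _))
    have h1 := key (g⁻¹ * h) (fun c => by rw [mul_smul, ← hgh, inv_smul_smul])
    exact inv_mul_eq_one.1 h1
  -- the two point stabilizer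
  set H : Subgroup G := stabilizer G a ⊓ stabilizer G b with hH
  have hHmem : ∀ g, g ∈ H ↔ g ∈ N ∧ u * g * u⁻¹ ∈ N := by
    intro g
    rw [hH, Subgroup.mem_inf, mem_stabilizer_iff, mem_stabilizer_iff, hga, hgb]
  have hcardH : Nat.card H = q - 1 := by
    have h1 : Nat.card N = Nat.card Q * Nat.card H := by
      rw [← Nat.card_prod]
      symm
      apply Nat.card_congr
      apply Equiv.ofBijective (fun p : Q × H =>
        (⟨p.1.1 * p.2.1, N.mul_mem (hQN p.1.2) ((hHmem _).1 p.2.2).1⟩ : N))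
      constructor
      · rintro ⟨⟨x, hx⟩, ⟨d, hd⟩⟩ ⟨⟨y, hy⟩, ⟨e, he⟩⟩ h
        have h1 : x * d = y * e := congrArg Subtype.val h
        have h2 : y⁻¹ * x = e * d⁻¹ := by
          rw [inv_mul_eq_iff_eq_mul, ← mul_assoc, ← h1, mul_inv_cancel_right]
        have h3 : y⁻¹ * x = 1 := hinj _ (Q.mul_mem (Q.inv_mem hy) hx) (by
          rw [h2]; exact (H.mul_mem he (H.inv_mem hd)).2)
        have h4 : x = y := (inv_mul_eq_one.1 h3).symm
        subst h4
        have h5 : d = e := mul_left_cancel h1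
        subst h5
        rfl
      · rintro ⟨g, hg⟩
        have hg1 : g • b ≠ a := by
          intro h
          rw [← (hga g).2 hg] at h
          exact hab (smul_left_cancel _ h).symm
        obtain ⟨x, hx, hxb⟩ := hex _ hg1
        refine ⟨⟨⟨x, hx⟩, ⟨x⁻¹ * g, ?_⟩⟩, Subtype.ext ?_⟩
        · rw [hH, Subgroup.mem_inf, mem_stabilizer_iff, mem_stabilizer_iff]
          constructor
          · rw [mul_smul, (hga g).2 hg, inv_smul_eq_iff, hQa x hx]
          · rw [mul_smul, ← hxb, inv_smul_smul]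
        · show x * (x⁻¹ * g) = g
          group
    rw [hN, hq] at h1
    exact (Nat.eq_of_mul_eq_mul_left (by omega) h1).symm
  -- freeness
  have hfreeH : ∀ h ∈ H, ∀ x ∈ Q, x ≠ 1 → h * x = x * h → h = 1 := by
    intro h hh x hx hx1 hc
    exact hfree h ((hHmem h).1 hh).1 ((hHmem h).1 hh).2 x hx hx1 hc
  have irr : ∀ S : Subgroup G, S ≤ Q → (∀ h : G, h • a = a → h • b = b → ∀ k ∈ S, h * k * h⁻¹ ∈ S) →
      S = ⊥ ∨ S = Q := by
    intro S hSQ hS
    by_cases hS1 : S = ⊥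
    · exact Or.inl hS1
    right
    obtain ⟨s, hs, hs1⟩ : ∃ s ∈ S, s ≠ 1 := by
      by_contra hcon
      push Not at hcon
      exact hS1 ((Subgroup.eq_bot_iff_forall S).2 hcon)
    apply Subgroup.eq_of_le_of_card_ge hSQ
    have h1 : Nat.card (Option H) ≤ Nat.card S := by
      let f : Option H → S := fun o => o.elim 1 (fun h => ⟨h.1 * s * h.1⁻¹, hS h.1 h.2.1 h.2.2 s hs⟩)
      apply Nat.card_le_card_of_injective f
      have hne : ∀ h : H, h.1 * s * h.1⁻¹ ≠ 1 := by
        intro h hh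
        apply hs1
        have : s = h.1⁻¹ * (h.1 * s * h.1⁻¹) * h.1 := by group
        rw [this, hh]; group
      rintro (_ | x) (_ | y) h
      · rfl
      · exact absurd (congrArg Subtype.val h).symm (hne y)
      · exact absurd (congrArg Subtype.val h) (hne x)
      · have h1 : x.1 * s * x.1⁻¹ = y.1 * s * y.1⁻¹ := congrArg Subtype.val h
        have h2 : (y.1⁻¹ * x.1) * s = s * (y.1⁻¹ * x.1) := by
          calc (y.1⁻¹ * x.1) * s = y.1⁻¹ * (x.1 * s * x.1⁻¹) * x.1 := by group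
            _ = y.1⁻¹ * (y.1 * s * y.1⁻¹) * x.1 := by rw [h1]
            _ = s * (y.1⁻¹ * x.1) := by group
        have h3 := hfreeH _ (H.mul_mem (H.inv_mem y.2) x.2) s (hSQ hs) hs1 h2
        have h4 : x = y := Subtype.ext (inv_mul_eq_one.1 h3).symm
        rw [h4]
    rw [Finite.card_option, hcardH] at h1
    omega
  obtain ⟨y0, hy0, hy01⟩ := hQ1
  set c := y0 • b with hc
  have hca : c ≠ a := hQb y0 hy0
  have hcb : c ≠ b := fun h => hy01 (hinj y0 hy0 h)
  obtain ⟨E, hE, hEf, hEc, ⟨C⟩⟩ := ZassCoord.exists_coord (G := G) (Ω := G ⧸ N) hab hca hcb Q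
    (fun x hx => hQa x hx) (fun h h1 _ k hk => hconj h h1 k hk) hQc
    (by
      intro y hy
      obtain ⟨x, hx, hxy⟩ := hex y hy
      refine ⟨⟨x, hx⟩, hxy, ?_⟩
      rintro ⟨z, hz⟩ hzy
      have h2 : (x⁻¹ * z) • b = b := by
        have hzy' : z • b = y := hzy
        rw [mul_smul, hzy', ← hxy, inv_smul_smul]
      have h3 := hinj _ (Q.mul_mem (Q.inv_mem hx) hz) h2
      exact Subtype.ext (inv_mul_eq_one.1 h3).symm)
    (by
      intro h hh h' hh'
      exact hHab h ((hHmem h).1 hh).1 ((hHmem h).1 hh).2 h' ((hHmem h').1 hh').1 ((hHmem h').1 hh').2)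
    irr
  rw [hq] at hEc
  refine ⟨E, hE, hEf, hEc, ?_⟩
  -- the multipliers
  have hψ0 : ∀ h ∈ H, C.ψ h ≠ 0 := by
    intro h hh h0
    have h1 := C.ψ_smul h hh.1 hh.2 1
    rw [h0, zero_mul, C.one, C.zero] at h1
    have h2 : h • b = b := hh.2
    exact hcb (smul_left_cancel h (h1.trans h2.symm))
  have hψinj : ∀ h ∈ H, ∀ h' ∈ H, C.ψ h = C.ψ h' → h = h' := by
    intro h hh h' hh' he
    apply FaithfulSMul.eq_of_smul_eq_smul (α := G ⧸ N)
    intro y
    obtain ⟨x, rfl⟩ := C.bij.2 y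
    induction x using OnePoint.rec with
    | infty =>
      have h1 : h • a = a := hh.1
      have h2 : h' • a = a := hh'.1
      rw [C.inf, h1, h2]
    | coe x => rw [C.ψ_smul h hh.1 hh.2, C.ψ_smul h' hh'.1 hh'.2, he]
  have hψsurj : ∀ x : E, x ≠ 0 → ∃ h ∈ H, C.ψ h = x := by
    let f : H → {x : E // x ≠ 0} := fun h => ⟨C.ψ h, hψ0 h h.2⟩
    have hf : Function.Bijective f := by
      rw [Nat.bijective_iff_injective_and_card]
      refine ⟨fun x y hxy => Subtype.ext (hψinj x x.2 y y.2 (congrArg Subtype.val hxy)), ?_⟩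
      rw [hcardH, Nat.card_eq_fintype_card, Fintype.card_subtype_compl, Fintype.card_subtype_eq, hEc]
    intro x hx
    obtain ⟨h, hh⟩ := hf.2 ⟨x, hx⟩
    exact ⟨h, h.2, congrArg Subtype.val hh⟩
  -- the involution
  have huc : ∃ r0 : E, r0 ≠ 0 ∧ u • C.ι ((1 : E) : OnePoint E) = C.ι (r0 : OnePoint E) := by
    obtain ⟨x, hx⟩ := C.bij.2 (u • C.ι ((1 : E) : OnePoint E))
    induction x using OnePoint.rec with
    | infty =>
      exfalso
      rw [C.inf, C.one] at hx
      apply hcb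
      apply smul_left_cancel u
      rw [hub, ← hx]
    | coe x =>
      refine ⟨x, ?_, hx.symm⟩
      rintro rfl
      rw [C.zero, C.one] at hx
      apply hca
      apply smul_left_cancel u
      rw [hua, ← hx]
  obtain ⟨r0, hr0, hr⟩ := huc
  refine PGLCoord.pgl_of_lin (G := G) (Ω := G ⧸ N) C.ι C.bij Q ?_ ?_ ?_ u ?_ ?_ r0 hr0 ?_ ?_
  · intro y hy
    rw [C.inf] at hy
    obtain ⟨x, hx, hxy⟩ := hex y hy
    exact ⟨x, hx, by rw [C.zero]; exact hxy⟩
  · intro k hk
    obtain ⟨t, rfl⟩ := C.τ_surj k hk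
    exact ⟨by rw [C.inf]; exact C.τ_inf t, t, fun x => C.τ_smul t x⟩
  · intro h h1 h2
    rw [C.inf] at h1
    rw [C.zero] at h2
    exact ⟨C.ψ h, hψ0 h ⟨h1, h2⟩, fun x => C.ψ_smul h h1 h2 x⟩
  · rw [C.inf, C.zero]; exact hua
  · rw [C.inf, C.zero]; exact hub
  · intro x hx
    obtain ⟨h, hh, rfl⟩ := hψsurj x hx
    have h1 : C.ι ((C.ψ h : E) : OnePoint E) = h • C.ι ((1 : E) : OnePoint E) := by
      rw [C.ψ_smul h hh.1 hh.2, mul_one]
    rw [h1]
    have hinvh := hHinv h ((hHmem h).1 hh).1 ((hHmem h).1 hh).2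
    have h2 : u • h • C.ι ((1 : E) : OnePoint E) = h⁻¹ • C.ι (r0 : OnePoint E) := by
      rw [← hr, smul_smul, smul_smul, ← hinvh]
      congr 1; group
    rw [h2, inv_smul_eq_iff, C.ψ_smul h hh.1 hh.2]
    congr 2
    field_simp
  · rw [card_PGL2, hEc, hG]
    have : q ^ 2 - 1 = (q + 1) * (q - 1) := by
      obtain ⟨m, rfl⟩ : ∃ m, q = m + 1 := ⟨q - 1, by omega⟩
      rw [Nat.add_sub_cancel]
      have : (m + 1) ^ 2 = (m + 1 + 1) * m + 1 := by ring
      omega
    rw [this, mul_assoc]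

end Cfsg.Agent.Lib.PGLFrob
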