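import Cfsg.Agent.Lib.NCyc9
import Cfsg.Agent.Lib.PGLFrob
import Cfsg.Agent.Lib.H53Sub8b
import Cfsg.Agent.Lib.PSL2OfData

/-!
# NCyc, part 10 (helper4, for S3730): `PGL(2,q)`, the data
-/

set_option autoImplicit false
set_option linter.all false

namespace Cfsg.Agent.Lib.NCyc

open Subgroup

universe u

/-- the Frobenius data of `PSL(2,q)` in the overgroup -/
structure GD {G : Type u} [Group G] (M Q D : Subgroup G) (u : G) : Prop where
  nM : M.Normal
  iM : M.index = 2
  QM : Q ≤ M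
  DM : D ≤ M
  uM : u ∈ M
  cQ : ∀ x ∈ Q, x ≠ 1 → ∀ z ∈ M, z * x = x * z → z ∈ Q
  Qc : ∀ x ∈ Q, ∀ y ∈ Q, x * y = y * x
  Dc : ∀ x ∈ D, ∀ y ∈ D, x * y = y * x
  card : 2 * Nat.card D + 1 = Nat.card Q
  QD : ∀ x ∈ Q, x ∈ D → x = 1
  dn : D ≤ normalizer (Q : Set G)
  dec : ∀ z ∈ M, z ∈ normalizer (Q : Set G) → ∃ x ∈ Q, ∃ d ∈ D, z = x * d
  hu : u * u = 1
  ud : ∀ d ∈ D, u * d * u⁻¹ = d⁻¹
  uN : u ∉ normalizer (Q : Set G)
  frat : ∃ g ∈ normalizer (Q : Set G), g ∉ M
  cardG : Nat.card G = Nat.card Q * (Nat.card Q + 1) * (Nat.card Q - 1)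
  Dne : ∃ d ∈ D, d ≠ 1

variable {G : Type u} [Group G] [Finite G]

theorem PData.gd [Nontrivial G] (hS : HS G) {t v u : G} {K M : Subgroup G} (D : PData t v u K M) :
    ∃ (Q D' : Subgroup G) (u' : G), GD M Q D' u' := by
  classical
  have : Fintype M := Fintype.ofFinite M
  obtain ⟨Q, E, h1, h2', h3, h4, h5, h6, h7⟩ := D.setup.concl
  have hEc : ∀ x ∈ E, ∀ y ∈ E, x * y = y * x := by
    intro x hx y hy
    exact congrArg Subtype.val (h3.is_comm.comm (⟨x, hx⟩ : E) ⟨y, hy⟩)
  have hEpos : 0 < Nat.card E := Nat.card_pos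
  have hEN : E ≤ Subgroup.normalizer (Q : Set M) := by rw [h6]; exact le_sup_right
  have hQE' : ∀ y ∈ Q, y ∈ E → y = 1 := by
    intro y h1 h2
    have : y ∈ Q ⊓ E := ⟨h1, h2⟩
    rw [h5] at this
    exact Subgroup.mem_bot.1 this
  have hcardG : Nat.card G = Nat.card Q * (Nat.card Q + 1) * (Nat.card Q - 1) := by
    have := Subgroup.card_mul_index M
    rw [D.iM] at this
    rw [← h1, ← this, mul_comm]
  -- `D ≠ 1`
  have hE1 : E ≠ ⊥ := by
    intro hE
    have h8 : Nat.card E = 1 := by rw [hE]; exact Subgroup.card_bot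
    have h9 : Nat.card Q = 3 := by omega
    rw [h9] at hcardG
    apply not_solvable hS
    apply H53Sub8b.solvable_of_card
    · rw [hcardG]; norm_num
    · rw [hcardG]; norm_num
  obtain ⟨-, u', hu', huE, hinv, -⟩ := h7 E le_rfl hE1
  have huu : u' * u' = 1 := by rw [← sq, ← hu', pow_orderOf_eq_one]
  obtain ⟨e, he, he1⟩ : ∃ e ∈ E, e ≠ 1 := by
    by_contra hcon
    push Not at hcon
    exact hE1 ((Subgroup.eq_bot_iff_forall E).2 hcon)
  have hdec : ∀ g ∈ Subgroup.normalizer (Q : Set M), ∃ x ∈ Q, ∃ d ∈ E, g = x * d := by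
    intro g hg
    rw [h6, ← SetLike.mem_coe, Subgroup.coe_mul_of_right_le_normalizer_left Q E hEN, Set.mem_mul] at hg
    obtain ⟨x, hx, d, hd, h⟩ := hg
    exact ⟨x, hx, d, hd, h.symm⟩
  have huN : u' ∉ Subgroup.normalizer (Q : Set M) := by
    intro huN
    obtain ⟨x, hx, d, hd, hxd⟩ := hdec u' huN
    have h1 := hinv e he
    have h2 : x * e * x⁻¹ = e⁻¹ := by
      rw [← h1, hxd]
      calc x * e * x⁻¹ = x * (e * d * d⁻¹) * x⁻¹ := by group
        _ = x * (d * e * d⁻¹) * x⁻¹ := by rw [hEc e he d hd]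
        _ = x * d * e * (x * d)⁻¹ := by group
    have h3 : x * (e * x⁻¹ * e⁻¹) = e⁻¹ * e⁻¹ := by
      calc x * (e * x⁻¹ * e⁻¹) = x * e * x⁻¹ * e⁻¹ := by group
        _ = _ := by rw [h2]
    have h4 : e⁻¹ * e⁻¹ = 1 := by
      apply hQE' _ _ (E.mul_mem (E.inv_mem he) (E.inv_mem he))
      rw [← h3]
      exact Q.mul_mem hx ((Subgroup.mem_normalizer_iff.1 (hEN he) x⁻¹).1 (Q.inv_mem hx))
    have h5 : e⁻¹ = e := inv_eq_of_mul_eq_one_right (by
      have := congrArg (·⁻¹) h4
      simpa using this)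
    rw [h5] at h2
    have hx1 : x = 1 := by
      by_contra hx1
      apply he1
      apply hQE' e _ he
      rw [← h2' x hx hx1, Subgroup.mem_centralizer_singleton_iff]
      rw [mul_inv_eq_iff_eq_mul] at h2
      exact h2.symm
    apply huE
    rw [hxd, hx1, one_mul]
    exact hd
  -- Frattini
  have hfrat : ∃ g ∈ normalizer ((Q.map M.subtype : Subgroup G) : Set G), g ∉ M := by
    obtain ⟨F, hF, hFf, hFc, -⟩ := PSL2OfData.psl2_of_data Q E h1 h2' h3 h4 h5 h6 h7
    obtain ⟨p, -, n, hp, hpn⟩ := FiniteField.card' F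
    rw [hFc] at hpn
    have : Fact p.Prime := ⟨hp⟩
    have hpQ : p ∣ Nat.card Q := by rw [hpn]; exact dvd_pow_self p n.2.ne'
    have hidx : Q.index = (Nat.card Q + 1) * Nat.card E := by
      have h8 := Subgroup.card_mul_index Q
      have h9 : 2 * Nat.card M = Nat.card Q * (2 * ((Nat.card Q + 1) * Nat.card E)) := by
        rw [h1]
        have : Nat.card Q - 1 = 2 * Nat.card E := by omega
        rw [this]; ring
      have h10 : Nat.card Q * Q.index = Nat.card Q * ((Nat.card Q + 1) * Nat.card E) := by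
        rw [h8]; nlinarith
      exact Nat.eq_of_mul_eq_mul_left Nat.card_pos h10
    have hndvd : ¬ p ∣ Q.index := by
      rw [hidx, hp.dvd_mul]
      rintro (h | h)
      · have := (Nat.dvd_add_right hpQ).1 h
        exact hp.one_lt.ne' (Nat.dvd_one.1 this)
      · rw [← h4] at hpQ
        have := (Nat.dvd_add_right (Dvd.dvd.mul_left h 2)).1 hpQ
        exact hp.one_lt.ne' (Nat.dvd_one.1 this)
    let P : Sylow p M := (IsPGroup.of_card hpn).toSylow hndvd
    have hM := D.nM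
    have hsup := Sylow.normalizer_sup_eq_top P
    by_contra hcon
    push Not at hcon
    have h11 : normalizer ((Q.map M.subtype : Subgroup G) : Set G) ⊔ M ≤ M := sup_le hcon le_rfl
    have h12 : (⊤ : Subgroup G) ≤ M := by
      rw [← hsup]; exact h11
    exact D.uM (h12 (Subgroup.mem_top u))
  have hcQ : Nat.card (Q.map M.subtype : Subgroup G) = Nat.card Q := Nat.card_congr (Q.equivMapOfInjective M.subtype M.subtype_injective).symm.toEquiv
  have hcE : Nat.card (E.map M.subtype : Subgroup G) = Nat.card E := Nat.card_congr (E.equivMapOfInjective M.subtype M.subtype_injective).symm.toEquiv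
  have hmem : ∀ (X : Subgroup M) (z : M), (z : G) ∈ (X.map M.subtype : Subgroup G) ↔ z ∈ X := by
    intro X z
    constructor
    · rintro ⟨w, hw, hwz⟩
      have : w = z := Subtype.ext hwz
      rw [← this]; exact hw
    · intro hz; exact ⟨z, hz, rfl⟩
  have hmem' : ∀ (X : Subgroup M) (z : G), z ∈ (X.map M.subtype : Subgroup G) → ∃ hz : z ∈ M, (⟨z, hz⟩ : M) ∈ X := by
    rintro X _ ⟨w, hw, rfl⟩
    exact ⟨w.2, hw⟩
  have hnorm : ∀ z : M, (z : G) ∈ normalizer ((Q.map M.subtype : Subgroup G) : Set G) ↔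
      z ∈ normalizer (Q : Set M) := by
    intro z
    rw [Subgroup.mem_normalizer_iff, Subgroup.mem_normalizer_iff]
    constructor
    · intro h x
      have := h x
      rw [hmem] at this
      rw [this]
      exact hmem Q (z * x * z⁻¹)
    · intro h x
      constructor
      · intro hx
        obtain ⟨hxM, hxQ⟩ := hmem' Q x hx
        have := (h ⟨x, hxM⟩).1 hxQ
        exact (hmem Q _).2 this
      · intro hx
        obtain ⟨hxM, hxQ⟩ := hmem' Q _ hx
        have hxM' : x ∈ M := by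
          have e : x = (z : G)⁻¹ * (z * x * (z : G)⁻¹) * z := by group
          rw [e]
          exact M.mul_mem (M.mul_mem (M.inv_mem z.2) hxM) z.2
        have := (h ⟨x, hxM'⟩).2 (by
          have e : (⟨(z : G) * x * (z : G)⁻¹, hxM⟩ : M) = z * ⟨x, hxM'⟩ * z⁻¹ := Subtype.ext rfl
          rw [← e]; exact hxQ)
        exact (hmem Q ⟨x, hxM'⟩).2 this
  refine ⟨Q.map M.subtype, E.map M.subtype, u', ?_⟩
  exact
    { nM := D.nM
      iM := D.iM
      QM := by rintro _ ⟨w, hw, rfl⟩; exact w.2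
      DM := by rintro _ ⟨w, hw, rfl⟩; exact w.2
      uM := u'.2
      cQ := by
        rintro _ ⟨x, hx, rfl⟩ hx1 z hz hzx
        have h8 : (⟨z, hz⟩ : M) ∈ centralizer ({x} : Set M) := mem_cent.2 (Subtype.ext hzx)
        rw [h2' x hx (fun h => hx1 (by rw [h]; rfl))] at h8
        exact (hmem Q ⟨z, hz⟩).2 h8
      Qc := by
        rintro _ ⟨x, hx, rfl⟩ _ ⟨y, hy, rfl⟩
        by_cases hx1 : x = 1
        · rw [hx1]; simp
        · have h8 : y ∈ centralizer ({x} : Set M) := by rw [h2' x hx hx1]; exact hy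
          exact congrArg Subtype.val (mem_cent.1 h8).symm
      Dc := by
        rintro _ ⟨x, hx, rfl⟩ _ ⟨y, hy, rfl⟩
        exact congrArg Subtype.val (hEc x hx y hy)
      card := by rw [hcQ, hcE]; exact h4
      QD := by
        rintro _ ⟨x, hx, rfl⟩ hxE
        have := hQE' x hx ((hmem E x).1 hxE)
        rw [this]; rfl
      dn := by
        rintro _ ⟨x, hx, rfl⟩
        exact (hnorm x).2 (hEN hx)
      dec := by
        intro z hz hzn
        obtain ⟨x, hx, d, hd, h⟩ := hdec ⟨z, hz⟩ ((hnorm ⟨z, hz⟩).1 hzn)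
        exact ⟨x, ⟨x, hx, rfl⟩, d, ⟨d, hd, rfl⟩, congrArg Subtype.val h⟩
      hu := congrArg Subtype.val huu
      ud := by
        rintro _ ⟨x, hx, rfl⟩
        exact congrArg Subtype.val (hinv x hx)
      uN := fun h => huN ((hnorm u').1 h)
      frat := hfrat
      cardG := by rw [hcQ]; exact hcardG
      Dne := ⟨e, ⟨e, he, rfl⟩, fun h => he1 (Subtype.ext h)⟩ }

end Cfsg.Agent.Lib.NCyc
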