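import Cfsg.Agent.Lib.NCyc10

/-!
# NCyc, part 11 (helper4, for S3730): `PGL(2,q)`
-/

set_option autoImplicit false
set_option linter.all false

namespace Cfsg.Agent.Lib.NCyc

open Subgroup

universe u

variable {G : Type u} [Group G] [Finite G]

namespace GD

variable {M Q E : Subgroup G} {w : G} (d : GD M Q E w)

include d

omit [Finite G] in
theorem wi : w⁻¹ = w := inv_eq_of_mul_eq_one_right d.hu

omit [Finite G] in
theorem QN : Q ≤ normalizer (Q : Set G) := Subgroup.le_normalizer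

theorem hQw {x : G} (hx : x ∈ Q) (h : w * x * w⁻¹ ∈ normalizer (Q : Set G)) : x = 1 := by
  have hEQ : ∀ e ∈ E, ∀ x ∈ Q, e * x * e⁻¹ ∈ Q := fun e he x hx =>
    (Subgroup.mem_normalizer_iff.1 (d.dn he) x).1 hx
  have hpow : ∀ x ∈ Q, ∀ e ∈ E, ∀ n : ℕ, ∃ z ∈ Q, (x * e) ^ n = z * e ^ n := by
    intro x hx e he n
    induction n with
    | zero => exact ⟨1, Q.one_mem, by simp⟩
    | succ n ih =>
      obtain ⟨z, hz, h⟩ := ih
      refine ⟨z * (e ^ n * x * (e ^ n)⁻¹), Q.mul_mem hz (hEQ _ (E.pow_mem he n) x hx), ?_⟩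
      rw [pow_succ, h, pow_succ]
      group
  have hcop : Nat.Coprime (Nat.card E) (Nat.card Q) := by
    rw [← d.card]
    have : Nat.Coprime (Nat.card E) (2 * Nat.card E + 1) := by
      rw [Nat.coprime_mul_right_add_right]
      exact Nat.coprime_one_right _
    exact this
  have hmemQ : ∀ y ∈ normalizer (Q : Set G), y ∈ M → y ^ Nat.card Q = 1 → y ∈ Q := by
    intro y hy hyM hyQ
    obtain ⟨x, hx, e, he, rfl⟩ := d.dec y hyM hy
    obtain ⟨z, hz, h⟩ := hpow x hx e he (Nat.card Q)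
    rw [hyQ] at h
    have h1 : e ^ Nat.card Q = 1 := by
      apply d.QD _ _ (E.pow_mem he _)
      have : e ^ Nat.card Q = z⁻¹ := by
        have h' := congrArg (fun w => z⁻¹ * w) h
        simp only [inv_mul_cancel_left, mul_one] at h'
        exact h'.symm
      rw [this]; exact Q.inv_mem hz
    have h2 : e ^ Nat.card E = 1 := by
      have : (⟨e, he⟩ : E) ^ Nat.card E = 1 := pow_card_eq_one'
      exact congrArg Subtype.val this
    have h3 : orderOf e ∣ 1 := by
      rw [← Nat.Coprime.gcd_eq_one hcop]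
      exact Nat.dvd_gcd (orderOf_dvd_of_pow_eq_one h2) (orderOf_dvd_of_pow_eq_one h1)
    have h4 : e = 1 := orderOf_eq_one_iff.1 (Nat.dvd_one.1 h3)
    rw [h4, mul_one]; exact hx
  by_contra hx1
  have hwM : w * x * w⁻¹ ∈ M := M.mul_mem (M.mul_mem d.uM (d.QM hx)) (M.inv_mem d.uM)
  have h1 : w * x * w⁻¹ ∈ Q := by
    apply hmemQ _ h hwM
    rw [conj_pow]
    have h3 : (⟨x, hx⟩ : Q) ^ Nat.card Q = 1 := pow_card_eq_one'
    have h4 : x ^ Nat.card Q = 1 := congrArg Subtype.val h3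
    rw [h4, mul_one, mul_inv_cancel]
  have h2 : w * x * w⁻¹ ≠ 1 := by
    intro h
    apply hx1
    have : x = w⁻¹ * (w * x * w⁻¹) * w := by group
    rw [this, h, mul_one, inv_mul_cancel]
  apply d.uN
  have key : ∀ y ∈ Q, w * y * w⁻¹ ∈ Q := by
    intro y hy
    apply d.cQ _ h1 h2 _ (M.mul_mem (M.mul_mem d.uM (d.QM hy)) (M.inv_mem d.uM))
    calc w * y * w⁻¹ * (w * x * w⁻¹) = w * (y * x) * w⁻¹ := by group
      _ = w * (x * y) * w⁻¹ := by rw [d.Qc y hy x hx]
      _ = (w * x * w⁻¹) * (w * y * w⁻¹) := by group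
  rw [Subgroup.mem_normalizer_iff]
  intro y
  constructor
  · intro hy; exact key y hy
  · intro hy
    have h5 := key _ hy
    have e : w * (w * y * w⁻¹) * w⁻¹ = y := by
      calc w * (w * y * w⁻¹) * w⁻¹ = (w * w) * y * (w * w)⁻¹ := by group
        _ = y := by rw [d.hu]; group
    rwa [e] at h5

/-- the two point stabilizer -/
theorem mem_E {g : G} (h1 : g ∈ normalizer (Q : Set G)) (h2 : w * g * w⁻¹ ∈ normalizer (Q : Set G))
    (hM : g ∈ M) : g ∈ E := by
  obtain ⟨x, hx, e, he, rfl⟩ := d.dec g hM h1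
  have h3 : w * x * w⁻¹ ∈ normalizer (Q : Set G) := by
    have e1 : w * x * w⁻¹ = (w * (x * e) * w⁻¹) * (w * e * w⁻¹)⁻¹ := by group
    rw [e1, d.ud e he, inv_inv]
    exact mul_mem h2 (d.dn he)
  rw [d.hQw hx h3, one_mul]; exact he

theorem E_mem {g : G} (h : g ∈ E) : g ∈ normalizer (Q : Set G) ∧ w * g * w⁻¹ ∈ normalizer (Q : Set G) := by
  refine ⟨d.dn h, ?_⟩
  rw [d.ud g h]
  exact inv_mem (d.dn h)

theorem cardN : Nat.card (normalizer (Q : Set G)) = Nat.card Q * (Nat.card Q - 1) := by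
  set N := normalizer (Q : Set G) with hN
  have h1 : Nat.card (M.subgroupOf N) = Nat.card Q * Nat.card E := by
    rw [← Nat.card_prod]
    symm
    apply Nat.card_congr
    apply Equiv.ofBijective (fun p : Q × E =>
      (⟨⟨p.1.1 * p.2.1, N.mul_mem (d.QN p.1.2) (d.dn p.2.2)⟩, M.mul_mem (d.QM p.1.2) (d.DM p.2.2)⟩ : M.subgroupOf N))
    constructor
    · rintro ⟨⟨x, hx⟩, ⟨a, ha⟩⟩ ⟨⟨y, hy⟩, ⟨b, hb⟩⟩ h
      have h1 : x * a = y * b := congrArg (fun z : M.subgroupOf N => ((z : N) : G)) h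
      have h2 : y⁻¹ * x = b * a⁻¹ := by
        rw [inv_mul_eq_iff_eq_mul, ← mul_assoc, ← h1, mul_inv_cancel_right]
      have h3 : y⁻¹ * x = 1 := d.QD _ (Q.mul_mem (Q.inv_mem hy) hx) (by
        rw [h2]; exact E.mul_mem hb (E.inv_mem ha))
      have h4 : x = y := (inv_mul_eq_one.1 h3).symm
      subst h4
      have h5 : a = b := mul_left_cancel h1
      subst h5
      rfl
    · rintro ⟨⟨g, hg⟩, hgM⟩
      obtain ⟨x, hx, e, he, h⟩ := d.dec g hgM hg
      exact ⟨⟨⟨x, hx⟩, ⟨e, he⟩⟩, Subtype.ext (Subtype.ext h.symm)⟩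
  have h2 : (M.subgroupOf N).index = 2 := by
    obtain ⟨g, hg, hgM⟩ := d.frat
    rw [Subgroup.index_eq_two_iff]
    refine ⟨⟨g, hg⟩, fun b => ?_⟩
    have := Subgroup.mul_mem_iff_of_index_two d.iM (a := (b : G)) (b := g)
    have e1 : (b * ⟨g, hg⟩ : N) ∈ M.subgroupOf N ↔ (b : G) * g ∈ M := Iff.rfl
    have e2 : b ∈ M.subgroupOf N ↔ (b : G) ∈ M := Iff.rfl
    rw [e1, e2, this]
    by_cases hb : (b : G) ∈ M
    · right
      exact ⟨hb, fun h => hgM (h.1 hb)⟩
    · left
      exact ⟨⟨fun h => absurd h hb, fun h => absurd h hgM⟩, hb⟩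
  have h3 := Subgroup.card_mul_index (M.subgroupOf N)
  rw [h1, h2] at h3
  rw [← h3]
  have := d.card
  have : Nat.card Q - 1 = Nat.card E * 2 := by omega
  rw [this]; ring

/-- decomposition of the group -/
theorem decomp {g : G} (hg : g ∉ normalizer (Q : Set G)) :
    ∃ x ∈ Q, ∃ n ∈ normalizer (Q : Set G), g = x * w * n := by
  classical
  set N := normalizer (Q : Set G) with hN
  have hcard : Nat.card (G ⧸ N) = Nat.card Q + 1 := by
    have h1 := Subgroup.card_mul_index N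
    rw [Subgroup.index, d.cardN, d.cardG] at h1
    have h0 : 0 < Nat.card E := Nat.card_pos
    have h2 := d.card
    have hpos : 0 < Nat.card Q * (Nat.card Q - 1) := Nat.mul_pos (by omega) (by omega)
    apply Nat.eq_of_mul_eq_mul_left hpos
    rw [h1]; ring
  let f : Option Q → G ⧸ N := fun o => o.elim (QuotientGroup.mk 1) (fun x => QuotientGroup.mk (x.1 * w))
  have hne : ∀ x : Q, (QuotientGroup.mk 1 : G ⧸ N) ≠ QuotientGroup.mk (x.1 * w) := by
    intro x h
    rw [QuotientGroup.eq, inv_one, one_mul] at h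
    apply d.uN
    have e : w = x.1⁻¹ * (x.1 * w) := by group
    rw [e]
    exact mul_mem (inv_mem (d.QN x.2)) h
  have hf : Function.Injective f := by
    rintro (_ | x) (_ | y) h
    · rfl
    · exact absurd h (hne y)
    · exact absurd h.symm (hne x)
    · have h1 : (QuotientGroup.mk (x.1 * w) : G ⧸ N) = QuotientGroup.mk (y.1 * w) := h
      rw [QuotientGroup.eq] at h1
      have h2 := d.hQw (x := x.1⁻¹ * y.1) (Q.mul_mem (Q.inv_mem x.2) y.2) (by
        have e : w * (x.1⁻¹ * y.1) * w⁻¹ = (x.1 * w)⁻¹ * (y.1 * w) := by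
          calc w * (x.1⁻¹ * y.1) * w⁻¹ = w⁻¹ * (x.1⁻¹ * y.1) * w := by rw [d.wi]
            _ = _ := by group
        rw [e]; exact h1)
      have h3 : x = y := Subtype.ext (inv_mul_eq_one.1 h2)
      rw [h3]
  have hfb : Function.Bijective f := by
    rw [Nat.bijective_iff_injective_and_card]
    exact ⟨hf, by rw [Finite.card_option, hcard]⟩
  obtain ⟨o, ho⟩ := hfb.2 (QuotientGroup.mk g)
  rcases o with _ | x
  · exfalso
    have h1 : (QuotientGroup.mk 1 : G ⧸ N) = QuotientGroup.mk g := ho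
    rw [QuotientGroup.eq, inv_one, one_mul] at h1
    exact hg h1
  · have h1 : (QuotientGroup.mk (x.1 * w) : G ⧸ N) = QuotientGroup.mk g := ho
    rw [QuotientGroup.eq] at h1
    exact ⟨x.1, x.2, _, h1, by group⟩

theorem exists_Q : ∃ z ∈ Q, z ≠ 1 := by
  have : Nontrivial Q := by
    rw [← Finite.one_lt_card_iff_nontrivial, ← d.card]
    have : 0 < Nat.card E := Nat.card_pos
    omega
  obtain ⟨y, hy⟩ := exists_ne (1 : Q)
  exact ⟨y.1, y.2, fun h => hy (Subtype.ext h)⟩

/-- elements centralizing `Q` and fixing the second point are trivial -/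
theorem core (hS : HS G) {g : G} (h2 : w * g * w⁻¹ ∈ normalizer (Q : Set G))
    (hc : ∀ x ∈ Q, g * x = x * g) : g = 1 := by
  set N := normalizer (Q : Set G) with hN
  set R := N.normalCore with hR
  have hRN : R ≤ N := Subgroup.normalCore_le N
  have hRM : ∀ r ∈ R, r ∈ M → r = 1 := by
    intro r hr hrM
    obtain ⟨z, hz, hz1⟩ := d.exists_Q
    have hRE : ∀ r ∈ R, r ∈ M → r ∈ E := by
      intro r hr hrM
      exact d.mem_E (hRN hr) (hRN (Subgroup.Normal.conj_mem inferInstance r hr w)) hrM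
    have hrE := hRE r hr hrM
    have h3 : z⁻¹ * r * z⁻¹⁻¹ ∈ R := Subgroup.Normal.conj_mem inferInstance r hr z⁻¹
    have hzM := d.QM hz
    have h4 : z⁻¹ * r * z⁻¹⁻¹ ∈ E := hRE _ h3 (by
      rw [inv_inv]; exact M.mul_mem (M.mul_mem (M.inv_mem hzM) hrM) hzM)
    have h5 : z⁻¹ * (r * z * r⁻¹) = 1 := by
      apply d.QD
      · exact Q.mul_mem (Q.inv_mem hz) ((Subgroup.mem_normalizer_iff.1 (hRN hr) z).1 hz)
      · have e : z⁻¹ * (r * z * r⁻¹) = (z⁻¹ * r * z⁻¹⁻¹) * r⁻¹ := by group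
        rw [e]; exact E.mul_mem h4 (E.inv_mem hrE)
    have h6 : r * z = z * r := by
      have : z = r * z * r⁻¹ := inv_mul_eq_one.1 h5
      exact (eq_mul_inv_iff_mul_eq.1 this).symm
    exact d.QD r (d.cQ z hz hz1 r hrM h6) hrE
  have hR1 : R = ⊥ := by
    apply hS R inferInstance
    have hsq : ∀ r ∈ R, r * r = 1 := by
      intro r hr
      apply hRM _ (R.mul_mem hr hr)
      rw [← pow_two]; exact Subgroup.sq_mem_of_index_two d.iM r
    apply solvable_of_comm
    intro a ha b hb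
    have h3 := hsq _ (R.mul_mem ha hb)
    have h4 := inv_eq_of_mul_eq_one_left (hsq a ha)
    have h5 := inv_eq_of_mul_eq_one_left (hsq b hb)
    have h6 := inv_eq_of_mul_eq_one_left h3
    rw [← h6, mul_inv_rev, h4, h5]
  have hgN : g ∈ N := by
    rw [hN, Subgroup.mem_normalizer_iff]
    have hc' : ∀ x ∈ Q, g * x * g⁻¹ = x := fun x hx => comm_iff.2 (hc x hx)
    intro x
    constructor
    · intro hx; rw [hc' x hx]; exact hx
    · intro hx
      have h3 := hc' _ hx
      have h4 : g * x * g⁻¹ = x := mul_left_cancel (mul_right_cancel h3)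
      rw [h4] at hx; exact hx
  have hgR : g ∈ R := by
    show ∀ b : G, b * g * b⁻¹ ∈ N
    intro b
    by_cases hb : b⁻¹ ∈ N
    · have := inv_mem hb
      rw [inv_inv] at this
      exact mul_mem (mul_mem this hgN) hb
    · obtain ⟨x, hx, n, hn, hbe⟩ := d.decomp hb
      have hb' : b = n⁻¹ * w⁻¹ * x⁻¹ := by
        rw [← inv_inv b, hbe]; group
      have e : b * g * b⁻¹ = n⁻¹ * (w * g * w⁻¹) * n⁻¹⁻¹ := by
        have h3 := hc x hx
        have e2 : w⁻¹ * g * w = w * g * w⁻¹ := by rw [d.wi]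
        rw [← e2, hb']
        calc n⁻¹ * w⁻¹ * x⁻¹ * g * (n⁻¹ * w⁻¹ * x⁻¹)⁻¹ = n⁻¹ * w⁻¹ * x⁻¹ * (g * x) * w * n := by group
          _ = n⁻¹ * (w⁻¹ * g * w) * n⁻¹⁻¹ := by rw [h3]; group
      rw [e]
      exact mul_mem (mul_mem (inv_mem hn) h2) (inv_mem (inv_mem hn))
  rw [hR1] at hgR
  exact Subgroup.mem_bot.1 hgR

theorem odd_Q {x : G} (hx : x ∈ Q) : Odd (orderOf x) := by
  have h1 : Odd (Nat.card Q) := by rw [← d.card]; exact ⟨_, rfl⟩
  have h2 : orderOf x ∣ Nat.card Q := by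
    rw [← Subgroup.orderOf_mk x hx]; exact orderOf_dvd_natCard _
  obtain ⟨c, hc⟩ := h2
  rw [hc] at h1
  exact (Nat.odd_mul.1 h1).1

/-- the two point stabilizer acts freely -/
theorem free (hN : HN G) (hS : HS G) {g : G} (h1 : g ∈ normalizer (Q : Set G))
    (h2 : w * g * w⁻¹ ∈ normalizer (Q : Set G)) {x : G} (hx : x ∈ Q) (hx1 : x ≠ 1) (hc : g * x = x * g) :
    g = 1 := by
  have key : ∀ g : G, g ∈ normalizer (Q : Set G) → w * g * w⁻¹ ∈ normalizer (Q : Set G) → g ∈ M →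
      g * x = x * g → g = 1 := by
    intro g h1 h2 hM hc
    exact d.QD g (d.cQ x hx hx1 g hM hc) (d.mem_E h1 h2 hM)
  by_cases hgM : g ∈ M
  · exact key g h1 h2 hgM hc
  · have hgg : g * g = 1 := by
      apply key _ (mul_mem h1 h1)
      · have e : w * (g * g) * w⁻¹ = (w * g * w⁻¹) * (w * g * w⁻¹) := by group
        rw [e]; exact mul_mem h2 h2
      · rw [← pow_two]; exact Subgroup.sq_mem_of_index_two d.iM g
      · exact ((show Commute g x from hc).mul_left hc).eq
    have hg1 : g ≠ 1 := by rintro rfl; exact hgM (one_mem _)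
    have og := ord_two hgg hg1
    have h3 := norm_zpowers hN og hx1 hc.symm (Or.inl (d.odd_Q hx))
    apply d.core hS h2
    intro z hz
    have h4 : z ∈ normalizer ((zpowers x : Subgroup G) : Set G) := by
      rw [Subgroup.mem_normalizer_iff]
      have hzc : ∀ y ∈ zpowers x, z * y * z⁻¹ = y := by
        intro y hy
        obtain ⟨m, rfl⟩ := mem_zpowers_iff.1 hy
        exact comm_iff.2 ((show Commute z x from d.Qc z hz x hx).zpow_right m).eq
      intro y
      constructor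
      · intro hy; rw [hzc y hy]; exact hy
      · intro hy
        have h5 := hzc _ hy
        have h6 : z * y * z⁻¹ = y := mul_left_cancel (mul_right_cancel h5)
        rw [h6] at hy; exact hy
    rw [h3] at h4
    exact (mem_cent.1 h4).symm

end GD

end Cfsg.Agent.Lib.NCyc
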