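import Cfsg.Agent.Lib.NCyc11

/-!
# NCyc, part 12 (helper4, for S3730): `PGL(2,q)`, end
-/

set_option autoImplicit false
set_option linter.all false

namespace Cfsg.Agent.Lib.NCyc

open Subgroup

universe u

variable {G : Type u} [Group G] [Finite G]

theorem pgl_of_gd (hN : HN G) (hS : HS G) {t v u : G} {K M : Subgroup G} (D : PData t v u K M)
    {Q E : Subgroup G} {w : G} (d : GD M Q E w) :
    ∃ (F : Type) (_ : Field F) (_ : Fintype F), 3 < Fintype.card F ∧
      Nonempty (G ≃* Matrix.ProjGenLinGroup (Fin 2) F) := by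
  set N := normalizer (Q : Set G) with hNd
  have hww : w * w = 1 := d.hu
  have hwi : w⁻¹ = w := d.wi
  -- the two point stabilizer
  let H : Subgroup G :=
    { carrier := {g | g ∈ N ∧ w * g * w⁻¹ ∈ N}
      one_mem' := ⟨one_mem _, by rw [mul_one, mul_inv_cancel]; exact one_mem _⟩
      mul_mem' := by
        rintro a b ⟨h1, h2⟩ ⟨h3, h4⟩
        refine ⟨mul_mem h1 h3, ?_⟩
        have e : w * (a * b) * w⁻¹ = (w * a * w⁻¹) * (w * b * w⁻¹) := by group
        rw [e]; exact mul_mem h2 h4
      inv_mem' := by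
        rintro a ⟨h1, h2⟩
        refine ⟨inv_mem h1, ?_⟩
        have e : w * a⁻¹ * w⁻¹ = (w * a * w⁻¹)⁻¹ := by group
        rw [e]; exact inv_mem h2 }
  have hfree : ∀ g ∈ H, ∀ x ∈ Q, x ≠ 1 → g * x = x * g → g = 1 := fun g hg x hx hx1 hc =>
    d.free hN hS hg.1 hg.2 hx hx1 hc
  have hHE : ∀ g ∈ H, g ∈ M → g ∈ E := fun g hg hM => d.mem_E hg.1 hg.2 hM
  have hEH : ∀ g ∈ E, g ∈ H := fun g hg => d.E_mem hg
  have hHw : ∀ g ∈ H, w * g * w⁻¹ ∈ H := by
    rintro g ⟨h1, h2⟩
    refine ⟨h2, ?_⟩
    have e : w * (w * g * w⁻¹) * w⁻¹ = g := by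
      calc w * (w * g * w⁻¹) * w⁻¹ = (w * w) * g * (w * w)⁻¹ := by group
        _ = g := by rw [hww]; group
    rw [e]; exact h1
  have hsqM : ∀ g : G, g * g ∈ M := fun g => by rw [← pow_two]; exact Subgroup.sq_mem_of_index_two d.iM g
  -- an element outside `M`
  obtain ⟨h0, hh0, hh0M⟩ : ∃ h ∈ H, h ∉ M := by
    obtain ⟨n, hn, hnM⟩ := d.frat
    have h1 : n * w ∉ N := by
      intro h
      apply d.uN
      have e : w = n⁻¹ * (n * w) := by group
      rw [e]; exact mul_mem (inv_mem hn) h
    obtain ⟨x, hx, n', hn', e⟩ := d.decomp h1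
    refine ⟨x⁻¹ * n, ⟨mul_mem (inv_mem (d.QN hx)) hn, ?_⟩, ?_⟩
    · have e1 : w * (x⁻¹ * n) * w⁻¹ = n' := by
        have e2 : n = x * w * n' * w⁻¹ := by rw [← e]; group
        calc w * (x⁻¹ * n) * w⁻¹ = w * (x⁻¹ * (x * w * n' * w⁻¹)) * w⁻¹ := by rw [← e2]
          _ = (w * w) * n' * (w * w)⁻¹ := by group
          _ = n' := by rw [hww]; group
      rw [e1]; exact hn'
    · intro h
      apply hnM
      have e1 : n = x * (x⁻¹ * n) := by group
      rw [e1]; exact M.mul_mem (d.QM hx) h
  -- an involution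
  obtain ⟨j, hj, oj⟩ : ∃ j ∈ H, orderOf j = 2 := by
    by_cases hE : Even (Nat.card E)
    · have : Fact (Nat.Prime 2) := ⟨Nat.prime_two⟩
      obtain ⟨⟨j, hj⟩, oj⟩ := exists_prime_orderOf_dvd_card' (G := E) 2 (even_iff_two_dvd.1 hE)
      exact ⟨j, hEH j hj, by rwa [Subgroup.orderOf_mk] at oj⟩
    · rw [Nat.not_even_iff_odd] at hE
      refine ⟨h0 ^ Nat.card E, H.pow_mem hh0 _, ?_⟩
      apply ord_two
      · have h1 : h0 * h0 ∈ E := hHE _ (H.mul_mem hh0 hh0) (hsqM h0)
        have h2 : (⟨h0 * h0, h1⟩ : E) ^ Nat.card E = 1 := pow_card_eq_one'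
        have h3 : (h0 * h0) ^ Nat.card E = 1 := congrArg Subtype.val h2
        rw [← pow_two, ← pow_mul, mul_comm 2, pow_mul, pow_two] at h3
        exact h3
      · intro h
        apply hh0M
        obtain ⟨m, hm⟩ := hE
        have h4 : h0 ^ Nat.card E = (h0 * h0) ^ m * h0 := by
          rw [hm, pow_succ, pow_mul, pow_two]
        have h5 : (h0 * h0) ^ m ∈ M := M.pow_mem (hsqM h0) m
        have h6 : h0 = ((h0 * h0) ^ m)⁻¹ := by
          rw [h4] at h
          exact (inv_eq_of_mul_eq_one_right h).symm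
        rw [h6]; exact M.inv_mem h5
  obtain ⟨z0, hz0, hz01⟩ := d.exists_Q
  have hinvQ : ∀ j ∈ H, orderOf j = 2 → ∀ x ∈ Q, j * x * j⁻¹ = x⁻¹ := by
    intro j hj oj
    apply BSW.inverts_of_fpf oj
    · intro x hx
      exact (Subgroup.mem_normalizer_iff.1 hj.1 x).1 hx
    · intro x hx hjx
      by_contra hx1
      exact ne_one_of oj (hfree j hj x hx hx1 (comm_iff.1 hjx))
  have huniq : ∀ i ∈ H, orderOf i = 2 → i = j := by
    intro i hi oi
    have h1 : i * j = 1 := by
      apply hfree _ (H.mul_mem hi hj) z0 hz0 hz01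
      rw [← comm_iff]
      have e : i * j * z0 * (i * j)⁻¹ = i * (j * z0 * j⁻¹) * i⁻¹ := by group
      rw [e, hinvQ j hj oj z0 hz0, hinvQ i hi oi _ (Q.inv_mem hz0), inv_inv]
    have h2 := eq_inv_of_mul_eq_one_left h1
    rw [h2, inv_of oj]
  have hcen : ∀ h ∈ H, h * j = j * h := by
    intro h hh
    rw [← comm_iff]
    exact huniq _ (H.mul_mem (H.mul_mem hh hj) (H.inv_mem hh)) (by rw [ord_conj]; exact oj)
  have hwj : w * j = j * w := by
    rw [← comm_iff]
    exact huniq _ (hHw j hj) (by rw [ord_conj]; exact oj)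
  -- commutativity and inversion
  obtain ⟨hab, hinv⟩ : (∀ g ∈ H, ∀ h ∈ H, g * h = h * g) ∧ (∀ g ∈ H, w * g * w⁻¹ = g⁻¹) := by
    by_cases hjt : ∃ g, g * j * g⁻¹ = t
    · obtain ⟨g, hg⟩ := hjt
      have B := D.B
      have hK : ∀ h ∈ H, g * h * g⁻¹ ∈ K := by
        intro h hh
        have h1 : (g * h * g⁻¹) * t = t * (g * h * g⁻¹) := by
          rw [← hg]
          calc g * h * g⁻¹ * (g * j * g⁻¹) = g * (h * j) * g⁻¹ := by group
            _ = g * (j * h) * g⁻¹ := by rw [hcen h hh]
            _ = _ := by group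
        rcases B.cases _ h1 with h2 | h2
        · exact h2
        · set x := g * h * g⁻¹ with hx
          have hxx : x * x = 1 := by
            have h3 := B.inv _ h2
            have h4 : v * v = 1 := sq_of B.hb
            have h5 : v * (v * x) * v⁻¹ = x * v⁻¹ := by
              rw [← mul_assoc, h4, one_mul]
            rw [h5, mul_inv_rev] at h3
            have h6 : x = x⁻¹ := mul_right_cancel h3
            nth_rewrite 1 [h6]; exact inv_mul_cancel x
          have hhh : h * h = 1 := by
            have e : h * h = g⁻¹ * (x * x) * g := by rw [hx]; group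
            rw [e, hxx]; group
          by_cases hh1 : h = 1
          · rw [hx, hh1, mul_one, mul_inv_cancel]; exact one_mem _
          · have h7 := huniq h hh (ord_two hhh hh1)
            rw [hx, h7, hg]; exact B.tK
      constructor
      · intro a ha b hb
        have h1 := B.comm (hK a ha) (hK b hb)
        have h2 : g * (a * b) * g⁻¹ = g * (b * a) * g⁻¹ := by
          calc g * (a * b) * g⁻¹ = (g * a * g⁻¹) * (g * b * g⁻¹) := by group
            _ = (g * b * g⁻¹) * (g * a * g⁻¹) := h1
            _ = g * (b * a) * g⁻¹ := by group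
        exact mul_left_cancel (mul_right_cancel h2)
      · intro a ha
        have h1 : (g * w * g⁻¹) * t = t * (g * w * g⁻¹) := by
          rw [← hg]
          calc g * w * g⁻¹ * (g * j * g⁻¹) = g * (w * j) * g⁻¹ := by group
            _ = g * (j * w) * g⁻¹ := by rw [hwj]
            _ = _ := by group
        have h2 : v * (g * w * g⁻¹) ∈ K := by
          rcases B.cases _ h1 with h2 | h2
          · exfalso
            have h3 : (g * w * g⁻¹) * (g * w * g⁻¹) = 1 := by
              calc (g * w * g⁻¹) * (g * w * g⁻¹) = g * (w * w) * g⁻¹ := by group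
                _ = 1 := by rw [hww]; group
            rcases B.uniq _ h2 h3 with h4 | h4
            · apply d.uN
              have : w = g⁻¹ * (g * w * g⁻¹) * g := by group
              rw [this, h4]
              have : g⁻¹ * 1 * g = 1 := by group
              rw [this]; exact one_mem _
            · apply d.uN
              rw [← hg] at h4
              have : w = j := mul_left_cancel (mul_right_cancel h4)
              rw [this]; exact hj.1
          · exact h2
        set x := g * w * g⁻¹ with hx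
        set y := g * a * g⁻¹ with hy
        have hyK := hK a ha
        have h3 : x * y * x⁻¹ = y⁻¹ := by
          have e : x * y * x⁻¹ = v⁻¹ * ((v * x) * y * (v * x)⁻¹) * v := by group
          rw [e, B.comm h2 hyK, mul_inv_cancel_right]
          have h4 := B.inv y hyK
          have hvi : v⁻¹ = v := inv_of B.hb
          rw [← h4]
          nth_rewrite 1 [hvi]
          nth_rewrite 2 [← hvi]
          rfl
        have h4 : g * (w * a * w⁻¹) * g⁻¹ = g * a⁻¹ * g⁻¹ := by
          calc g * (w * a * w⁻¹) * g⁻¹ = x * y * x⁻¹ := by rw [hx, hy]; group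
            _ = y⁻¹ := h3
            _ = g * a⁻¹ * g⁻¹ := by rw [hy]; group
        exact mul_left_cancel (mul_right_cancel h4)
    · have hjM : j ∉ M := by
        intro h
        obtain ⟨g, _, hg⟩ := D.conj j h oj
        exact hjt ⟨g, hg⟩
      have hdec : ∀ g ∈ H, g ∈ E ∨ ∃ e ∈ E, g = j * e := by
        intro g hg
        by_cases hgM : g ∈ M
        · exact Or.inl (hHE g hg hgM)
        · right
          refine ⟨j * g, hHE _ (H.mul_mem hj hg) ?_, ?_⟩
          · rw [Subgroup.mul_mem_iff_of_index_two d.iM]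
            exact ⟨fun h => absurd h hjM, fun h => absurd h hgM⟩
          · rw [← mul_assoc, sq_of oj, one_mul]
      constructor
      · intro a ha b hb
        rcases hdec a ha with h1 | ⟨e, he, rfl⟩ <;> rcases hdec b hb with h2 | ⟨f, hf, rfl⟩
        · exact d.Dc a h1 b h2
        · rw [← mul_assoc, hcen a ha, mul_assoc, d.Dc a h1 f hf, ← mul_assoc]
        · rw [mul_assoc, d.Dc e he b h2, ← mul_assoc, ← mul_assoc, hcen b hb]
        · have h1 := hcen e (hEH e he)
          have h2 := hcen f (hEH f hf)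
          calc j * e * (j * f) = j * (e * j) * f := by group
            _ = j * j * (e * f) := by rw [h1]; group
            _ = j * j * (f * e) := by rw [d.Dc e he f hf]
            _ = j * (j * f) * e := by group
            _ = j * (f * j) * e := by rw [h2]
            _ = j * f * (j * e) := by group
      · intro a ha
        rcases hdec a ha with h1 | ⟨e, he, rfl⟩
        · exact d.ud a h1
        · have h1 := hcen e (hEH e he)
          calc w * (j * e) * w⁻¹ = (w * j) * e * w⁻¹ := by group
            _ = j * (w * e * w⁻¹) := by rw [hwj]; group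
            _ = j * e⁻¹ := by rw [d.ud e he]
            _ = (e * j⁻¹)⁻¹ := by group
            _ = (e * j)⁻¹ := by rw [inv_of oj]
            _ = (j * e)⁻¹ := by rw [h1]
  have hq3 : 3 < Nat.card Q := by
    rw [← d.card]
    have : Nontrivial E := by
      obtain ⟨e, he, he1⟩ := d.Dne
      exact ⟨⟨⟨e, he⟩, 1, fun h => he1 (congrArg Subtype.val h)⟩⟩
    have := Finite.one_lt_card (α := E)
    omega
  obtain ⟨F, hF, hFf, hFc, hi⟩ := PGLFrob.pgl_of_frob Q (Nat.card Q) rfl (by omega) d.Qc d.cardN d.cardG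
    w hww d.uN (fun x hx h => d.hQw hx h)
    (fun g h1 h2 x hx hx1 hc => hfree g ⟨h1, h2⟩ x hx hx1 hc)
    (fun g h1 h2 h h3 h4 => hab g ⟨h1, h2⟩ h ⟨h3, h4⟩)
    (fun g h1 h2 => hinv g ⟨h1, h2⟩)
  exact ⟨F, hF, hFf, by rw [hFc]; exact hq3, hi⟩

end Cfsg.Agent.Lib.NCyc
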