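import Cfsg.Agent.Lib.NCyc12

/-!
# NCyc, part 13 (helper4, for S3730): the main theorem
-/

set_option autoImplicit false
set_option linter.all false

namespace Cfsg.Agent.Lib.NCyc

open Subgroup

universe u

variable {G : Type u} [Group G] [Finite G]

theorem exists_central (hN : HN G) (P : Sylow 2 G) (h : ∃ x ∈ (P : Subgroup G), x * x ≠ 1) :
    ∃ y ∈ (P : Subgroup G), orderOf (y * y) = 2 ∧ (P : Subgroup G) ≤ centralizer ({y * y} : Set G) := by
  classical
  have : Fact (Nat.Prime 2) := ⟨Nat.prime_two⟩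
  -- squares of order two
  obtain ⟨y1, hy1⟩ : ∃ y : (P : Subgroup G), orderOf ((y : G) * y) = 2 := by
    obtain ⟨x, hx, hxx⟩ := h
    obtain ⟨n, hn⟩ := two_pow_of_mem hx
    rcases n with _ | _ | n
    · exfalso; apply hxx
      rw [pow_zero, orderOf_eq_one_iff] at hn; rw [hn, one_mul]
    · exfalso; apply hxx
      rw [zero_add, pow_one] at hn; exact sq_of hn
    · refine ⟨⟨x ^ 2 ^ n, pow_mem hx _⟩, ?_⟩
      have e : x ^ 2 ^ n * x ^ 2 ^ n = x ^ 2 ^ (n + 1) := by
        rw [← pow_add]; congr 1; ring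
      show orderOf (x ^ 2 ^ n * x ^ 2 ^ n) = 2
      rw [e, orderOf_pow' x (by positivity), hn, Nat.gcd_eq_right (pow_dvd_pow 2 (by omega)),
        Nat.pow_div (by omega) (by norm_num)]
      have : n + 1 + 1 - (n + 1) = 1 := by omega
      rw [this, pow_one]
  -- the maximal one
  let S : Set (P : Subgroup G) := {y | orderOf ((y : G) * y) = 2}
  obtain ⟨y, hyS, hmax⟩ := Set.exists_max_image S
    (fun y => Nat.card ((centralizer ({(y : G) * y} : Set G)).subgroupOf (P : Subgroup G)))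
    (Set.toFinite _) ⟨y1, hy1⟩
  refine ⟨y, y.2, hyS, ?_⟩
  set r : G := (y : G) * y with hr
  have ht : orderOf r = 2 := hyS
  set T := (centralizer ({r} : Set G)).subgroupOf (P : Subgroup G) with hT
  have hTm : ∀ z : (P : Subgroup G), z ∈ T ↔ (z : G) * r = r * z := by
    intro z
    rw [hT, Subgroup.mem_subgroupOf, mem_cent]
  by_contra hcon
  have hTne : T ≠ ⊤ := by
    intro h
    apply hcon
    intro z hz
    have h1 : (⟨z, hz⟩ : (P : Subgroup G)) ∈ T := by rw [h]; exact Subgroup.mem_top _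
    exact h1
  have hnil : Group.IsNilpotent (P : Subgroup G) := P.isPGroup'.isNilpotent
  have hnc := Group.normalizerCondition_of_isNilpotent (G := (P : Subgroup G)) T (lt_top_iff_ne_top.2 hTne)
  obtain ⟨l0, hl0N, hl0T⟩ := SetLike.exists_of_lt hnc
  -- an element with square in `T`
  obtain ⟨l, hlN, hlT, hll⟩ : ∃ l ∈ normalizer (T : Set (P : Subgroup G)), l ∉ T ∧ l * l ∈ T := by
    obtain ⟨n, hn⟩ := (IsPGroup.iff_orderOf.1 P.isPGroup') l0
    have hex : ∃ n, l0 ^ 2 ^ n ∈ T := ⟨n, by rw [← hn, pow_orderOf_eq_one]; exact one_mem _⟩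
    have h1 := Nat.find_spec hex
    set k := Nat.find hex with hk
    rcases hk0 : k with _ | m
    · exfalso; rw [hk0, pow_zero, pow_one] at h1; exact hl0T h1
    · refine ⟨l0 ^ 2 ^ m, pow_mem hl0N _, Nat.find_min hex (by omega), ?_⟩
      rw [← pow_add, ← two_mul, ← pow_succ', ← hk0]; exact h1
  have hconj : ∀ z ∈ T, l * z * l⁻¹ ∈ T := fun z hz => (Subgroup.mem_normalizer_iff.1 hlN z).1 hz
  have hyT : y ∈ T := by
    rw [hTm, hr]; group
  have hrP : r ∈ (P : Subgroup G) := mul_mem y.2 y.2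
  have hrT : (⟨r, hrP⟩ : (P : Subgroup G)) ∈ T := by rw [hTm]
  set r' : G := l * r * (l : G)⁻¹ with hr'
  have hr'T : (⟨r', mul_mem (mul_mem l.2 hrP) (inv_mem l.2)⟩ : (P : Subgroup G)) ∈ T := hconj _ hrT
  have hor' : orderOf r' = 2 := by rw [hr', ord_conj]; exact ht
  have hne : r ≠ r' := by
    intro h
    apply hlT
    rw [hTm, ← comm_iff]
    exact h.symm
  set z : (P : Subgroup G) := l * y * l⁻¹ with hz
  have hzT : z ∈ T := hconj y hyT
  have hzz : (z : G) * z = r' := by
    rw [hz, hr', hr]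
    show (l : G) * y * (l : G)⁻¹ * ((l : G) * y * (l : G)⁻¹) = _
    group
  have hTr' : ∀ w ∈ T, (w : G) * r' = r' * w := by
    intro w hw
    have h1 : l⁻¹ * w * l⁻¹⁻¹ ∈ T := (Subgroup.mem_normalizer_iff.1 (inv_mem hlN) w).1 hw
    rw [hTm] at h1
    have h2 : (l : G)⁻¹ * w * l * r = r * ((l : G)⁻¹ * w * l) := by simpa using h1
    rw [hr']
    calc (w : G) * (l * r * (l : G)⁻¹) = l * ((l : G)⁻¹ * w * l * r) * (l : G)⁻¹ := by group
      _ = l * (r * ((l : G)⁻¹ * w * l)) * (l : G)⁻¹ := by rw [h2]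
      _ = _ := by group
  have hyz : (y : G) * z = z * y := comm_of_sq hN ht hor' hne hr.symm hzz (hTr' y hyT) ((hTm z).1 hzT)
  have hsq : ((y * z : (P : Subgroup G)) : G) * ((y * z : (P : Subgroup G)) : G) = r * r' := by
    show (y : G) * z * (y * z) = r * r'
    calc (y : G) * z * (y * z) = y * (z * y) * z := by group
      _ = (y * y) * (z * z) := by rw [← hyz]; group
      _ = r * r' := by rw [hzz]
  have hr'r : r' * r = r * r' := (hTm _).1 hr'T
  have hor : orderOf (r * r') = 2 := ord_mul ht hor' hne hr'r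
  have h1 := hmax (y * z) (by
    show orderOf (((y * z : (P : Subgroup G)) : G) * ((y * z : (P : Subgroup G)) : G)) = 2
    rw [hsq]; exact hor)
  have h2 : T < (centralizer ({((y * z : (P : Subgroup G)) : G) * ((y * z : (P : Subgroup G)) : G)} : Set G)).subgroupOf (P : Subgroup G) := by
    rw [hsq]
    refine lt_of_le_of_ne ?_ ?_
    · intro w hw
      rw [Subgroup.mem_subgroupOf, mem_cent]
      exact ((show Commute (w : G) r from (hTm w).1 hw).mul_right (hTr' w hw)).eq
    · intro h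
      apply hlT
      rw [h, Subgroup.mem_subgroupOf, mem_cent]
      have h3 : (l : G) * r' * (l : G)⁻¹ = r := by
        have h4 := (hTm _).1 hll
        have h5 : ((l * l : (P : Subgroup G)) : G) = (l : G) * l := rfl
        rw [h5] at h4
        rw [hr']
        calc (l : G) * (l * r * (l : G)⁻¹) * (l : G)⁻¹ = ((l : G) * l * r) * ((l : G)⁻¹ * (l : G)⁻¹) := by group
          _ = (r * ((l : G) * l)) * ((l : G)⁻¹ * (l : G)⁻¹) := by rw [h4]
          _ = r := by group
      have h6 : (l : G) * (r * r') * (l : G)⁻¹ = r * r' := by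
        calc (l : G) * (r * r') * (l : G)⁻¹ = (l * r * (l : G)⁻¹) * (l * r' * (l : G)⁻¹) := by group
          _ = r' * r := by rw [h3]
          _ = r * r' := hr'r
      exact comm_iff.1 h6
  have h3 : Nat.card T < Nat.card ((centralizer ({((y * z : (P : Subgroup G)) : G) * ((y * z : (P : Subgroup G)) : G)} : Set G)).subgroupOf (P : Subgroup G)) := by
    by_contra h4
    push Not at h4
    exact h2.ne (Subgroup.eq_of_le_of_card_ge h2.le h4)
  exact absurd h1 (not_le.2 h3)

theorem psl_of_setup [Nontrivial G] (hS : HS G) {t b : G} {K : Subgroup G} (h : BSW.Setup t b K) :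
    ∃ (F : Type) (_ : Field F) (_ : Fintype F), 3 < Fintype.card F ∧
      Nonempty (G ≃* Matrix.ProjectiveSpecialLinearGroup (Fin 2) F) := by
  cases nonempty_fintype G
  obtain ⟨Q, D, h1, h2, h3, h4, h5, h6, h7⟩ := h.concl
  obtain ⟨F, hF, hFf, hc, hi⟩ := PSL2OfData.psl2_of_data Q D h1 h2 h3 h4 h5 h6 h7
  refine ⟨F, hF, hFf, ?_, hi⟩
  rw [hc, ← h4]
  have h8 : 0 < Nat.card D := Nat.card_pos
  by_contra hcon
  have h9 : Nat.card Q = 3 := by omega
  rw [h9] at h1
  apply not_solvable hS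
  have h10 : Nat.card G = 12 := by omega
  apply H53Sub8b.solvable_of_card
  · rw [h10]; norm_num
  · rw [h10]; norm_num

/-- **the main theorem** -/
theorem main [Nontrivial G] (hN : HN G) (hFT : FT.{u}) (hS : HS G) :
    ∃ (F : Type) (_ : Field F) (_ : Fintype F), 3 < Fintype.card F ∧
      (Nonempty (G ≃* Matrix.ProjectiveSpecialLinearGroup (Fin 2) F) ∨
        Nonempty (G ≃* Matrix.ProjGenLinGroup (Fin 2) F)) := by
  have : Fact (Nat.Prime 2) := ⟨Nat.prime_two⟩
  obtain ⟨P⟩ : Nonempty (Sylow 2 G) := inferInstance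
  by_cases hel : ∀ x ∈ (P : Subgroup G), x * x = 1
  · by_cases h0 : ∀ t x : G, orderOf t = 2 → x * t = t * x → Odd (orderOf x) → x = 1
    · obtain ⟨F, hF, hFf, hc, hi⟩ := caseA0 hel hFT hS h0
      exact ⟨F, hF, hFf, hc, Or.inl hi⟩
    · push Not at h0
      obtain ⟨t, x, ht, hx, hxo, hx1⟩ := h0
      obtain ⟨c, _, hc⟩ := conj_into_sylow (P := P) (H := ⊤) le_top (Subgroup.mem_top t)
        ⟨1, by rw [pow_one]; exact ht⟩
      obtain ⟨p, hp, hpd⟩ := Nat.exists_prime_and_dvd (n := orderOf x) (fun h => hx1 (orderOf_eq_one_iff.1 h))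
      obtain ⟨m, hm⟩ := hpd
      have hm0 : m ≠ 0 := by
        rintro rfl
        rw [mul_zero] at hm
        exact (orderOf_pos x).ne' hm
      have hop : orderOf (x ^ m) = p := by
        rw [orderOf_pow' x hm0, hm, Nat.gcd_mul_left_left]
        exact Nat.mul_div_cancel _ (Nat.pos_of_ne_zero hm0)
      have hpo : Odd p := by rw [hm] at hxo; exact (Nat.odd_mul.1 hxo).1
      have hxt : x ^ m * t = t * x ^ m := ((show Commute x t from hx).pow_left m).eq
      obtain ⟨b, K, hset⟩ := caseA1 hN hel hFT hS (t := c * t * c⁻¹) (x := c * x ^ m * c⁻¹)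
        (by rw [ord_conj]; exact ht) hc (by
          calc c * x ^ m * c⁻¹ * (c * t * c⁻¹) = c * (x ^ m * t) * c⁻¹ := by group
            _ = c * (t * x ^ m) * c⁻¹ := by rw [hxt]
            _ = _ := by group)
        (by rw [ord_conj, hop]; exact hp) (by rw [ord_conj, hop]; exact hpo)
      obtain ⟨F, hF, hFf, hc, hi⟩ := psl_of_setup hS hset
      exact ⟨F, hF, hFf, hc, Or.inl hi⟩
  · push Not at hel
    obtain ⟨y, hyP, ht, hP⟩ := exists_central hN P hel
    set t := y * y with htd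
    by_cases hII : ∀ g : G, g * t * g⁻¹ ≠ t → (g * t * g⁻¹) * t = t * (g * t * g⁻¹) →
      y * (g * t * g⁻¹) = (g * t * g⁻¹) * y
    · exact absurd (caseII hN hFT hS ht htd.symm hyP hP hII) id
    · push Not at hII
      obtain ⟨g, hg1, hg2, hg3⟩ := hII
      have hinv0 : (g * t * g⁻¹) * y * (g * t * g⁻¹)⁻¹ = y⁻¹ := by
        rcases conj_four hN ht htd.symm hg2 with h | h
        · exact absurd (comm_iff.1 h).symm hg3
        · exact h
      have D0 : Dih y t (g * t * g⁻¹) := ⟨ht, htd.symm, ⟨g, rfl⟩, hg1, hg2, hinv0⟩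
      obtain ⟨c, hc, hcP⟩ := conj_into_sylow hP (mem_cent.2 hg2) ⟨1, by rw [pow_one, ord_conj]; exact ht⟩
      have hct := mem_cent.1 hc
      have hct' : c⁻¹ * t * c = t := by
        rw [mul_assoc, ← hct, inv_mul_cancel_left]
      have D : Dih y t (c * (g * t * g⁻¹) * c⁻¹) :=
        { ht := ht
          hy := htd.symm
          ex := ⟨c * g, by group⟩
          hne := by
            intro h
            apply hg1
            have h1 : g * t * g⁻¹ = c⁻¹ * (c * (g * t * g⁻¹) * c⁻¹) * c := by group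
            rw [h1, h]; exact hct'
          hc := mem_cent.1 (hP hcP)
          hinv := by
            have h1 : (c⁻¹ * y * c) * (c⁻¹ * y * c) = t := by
              calc (c⁻¹ * y * c) * (c⁻¹ * y * c) = c⁻¹ * (y * y) * c := by group
                _ = t := hct'
            have h2 := D0.inv_root hN hFT hS h1
            calc c * (g * t * g⁻¹) * c⁻¹ * y * (c * (g * t * g⁻¹) * c⁻¹)⁻¹
                = c * ((g * t * g⁻¹) * (c⁻¹ * y * c) * (g * t * g⁻¹)⁻¹) * c⁻¹ := by group
              _ = c * (c⁻¹ * y * c)⁻¹ * c⁻¹ := by rw [h2]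
              _ = y⁻¹ := by group }
      rcases caseI hN hFT hS D hP hcP with ⟨b, K, h⟩ | ⟨u, K, M, h⟩
      · obtain ⟨F, hF, hFf, hc, hi⟩ := psl_of_setup hS h
        exact ⟨F, hF, hFf, hc, Or.inl hi⟩
      · obtain ⟨Q, E, w, d⟩ := h.gd hS
        obtain ⟨F, hF, hFf, hc, hi⟩ := pgl_of_gd hN hS h d
        exact ⟨F, hF, hFf, hc, Or.inr hi⟩

end Cfsg.Agent.Lib.NCyc
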