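import Cfsg.Agent.Lib.NCyc1

/-!
# NCyc, part 2 (helper4, for S3730): square roots of involutions
-/

set_option autoImplicit false
set_option linter.all false

namespace Cfsg.Agent.Lib.NCyc

open Subgroup

universe u
variable {G : Type u} [Group G] [Finite G] (hN : HN G)

include hN in
theorem sq_comm {t y h : G} (ht : orderOf t = 2) (hy : y * y = t) (hh : h * t = t * h) :
    (h * h) * y = y * (h * h) := by
  rw [← comm_iff]
  have e : (h * h) * y * (h * h)⁻¹ = h * (h * y * h⁻¹) * h⁻¹ := by group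
  rcases conj_four hN ht hy hh with h1 | h1
  · rw [e, h1, h1]
  · have := even_pow_conj_inv h1 (n := 2) even_two
    rwa [pow_two] at this

include hN in
theorem exists_fixed {t y1 y2 v : G} (ht : orderOf t = 2) (h1 : y1 * y1 = t) (h2 : y2 * y2 = t)
    (hq : (y1 * y2) * (y1 * y2) = t) (hvt : v * t = t * v) : ∃ c, c * c = t ∧ c * v = v * c := by
  rcases conj_four hN ht h1 hvt with h | h
  · exact ⟨y1, h1, (comm_iff.1 h).symm⟩
  rcases conj_four hN ht h2 hvt with h' | h'
  · exact ⟨y2, h2, (comm_iff.1 h').symm⟩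
  refine ⟨y1 * y2, hq, ?_⟩
  symm
  rw [← comm_iff]
  calc v * (y1 * y2) * v⁻¹ = (v * y1 * v⁻¹) * (v * y2 * v⁻¹) := by group
    _ = y1⁻¹ * y2⁻¹ := by rw [h, h']
    _ = y1 * t * (y2 * t) := by rw [y_inv ht h1, y_inv ht h2]
    _ = y1 * (t * y2) * t := by group
    _ = y1 * (y2 * t) * t := by rw [y_comm h2]
    _ = y1 * y2 * (t * t) := by group
    _ = y1 * y2 := by rw [sq_of ht, mul_one]

include hN in
/-- no quaternion groups -/
theorem noQ8 (hFT : FT.{u}) (hS : HS G) {t y1 y2 : G} (ht : orderOf t = 2) (h1 : y1 * y1 = t)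
    (h2 : y2 * y2 = t) : y1 * y2 = y2 * y1 := by
  by_contra hne
  have hq : y2 * y1 * y2⁻¹ = y1⁻¹ := by
    rcases conj_four hN ht h1 (y_comm h2) with h | h
    · exact absurd (comm_iff.1 h).symm hne
    · exact h
  have hqq : (y1 * y2) * (y1 * y2) = t := by
    calc (y1 * y2) * (y1 * y2) = y1 * (y2 * y1 * y2⁻¹) * (y2 * y2) := by group
      _ = t := by rw [hq, h2]; group
  obtain ⟨g, hg1, hg2⟩ := exists_fused hFT hS ht
  set v := g * t * g⁻¹ with hv
  have ov : orderOf v = 2 := by rw [hv, ord_conj]; exact ht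
  set z1 := g * y1 * g⁻¹ with hz1
  set z2 := g * y2 * g⁻¹ with hz2
  have k1 : z1 * z1 = v := by rw [hz1, hv, ← h1]; group
  have k2 : z2 * z2 = v := by rw [hz2, hv, ← h2]; group
  have kqq : (z1 * z2) * (z1 * z2) = v := by rw [hz1, hz2, hv, ← hqq]; group
  obtain ⟨c, hc1, hc2⟩ := exists_fixed hN ht h1 h2 hqq hg2
  obtain ⟨d, hd1, hd2⟩ := exists_fixed hN ov k1 k2 kqq hg2.symm
  have hy2v : y2 * v = v * y2 := by rw [← hd1]; exact (sq_comm hN ht h2 hd2).symm
  have hy1v : y1 * v = v * y1 := by rw [← hd1]; exact (sq_comm hN ht h1 hd2).symm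
  have hz1t : z1 * t = t * z1 := by rw [← hc1]; exact (sq_comm hN ov k1 hc2).symm
  have c1 : y1 * z1 = z1 * y1 := comm_of_sq hN ht ov (Ne.symm hg1) h1 k1 hy1v hz1t
  have c2 : y2 * z1 = z1 * y2 := comm_of_sq hN ht ov (Ne.symm hg1) h2 k1 hy2v hz1t
  have or : orderOf (t * v) = 2 := by
    apply ord_two
    · calc t * v * (t * v) = t * (v * t) * v := by group
        _ = (t * t) * (v * v) := by rw [hg2]; group
        _ = 1 := by rw [sq_of ht, sq_of ov, one_mul]
    · intro h
      apply hg1
      have := eq_inv_of_mul_eq_one_right h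
      rw [inv_of ht] at this; exact this
  have hw : (y1 * z1) * (y1 * z1) = t * v := by
    calc (y1 * z1) * (y1 * z1) = y1 * (z1 * y1) * z1 := by group
      _ = (y1 * y1) * (z1 * z1) := by rw [← c1]; group
      _ = t * v := by rw [h1, k1]
  have hy2r : y2 * (t * v) = (t * v) * y2 := by
    calc y2 * (t * v) = (y2 * t) * v := by group
      _ = t * (y2 * v) := by rw [y_comm h2]; group
      _ = (t * v) * y2 := by rw [hy2v]; group
  have hcomp : y2 * (y1 * z1) * y2⁻¹ = y1⁻¹ * z1 := by
    calc y2 * (y1 * z1) * y2⁻¹ = (y2 * y1 * y2⁻¹) * (y2 * z1) * y2⁻¹ := by group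
      _ = y1⁻¹ * z1 := by rw [hq, c2]; group
  rcases conj_four hN or hw hy2r with h | h
  · rw [hcomp] at h
    exact y_ne ht h1 (mul_right_cancel h).symm
  · rw [hcomp, mul_inv_rev] at h
    have h3 : z1⁻¹ * y1⁻¹ = y1⁻¹ * z1⁻¹ := by
      rw [← mul_inv_rev, ← mul_inv_rev, c1]
    rw [h3] at h
    exact y_ne ov k1 (mul_left_cancel h)

include hN in
theorem conj_invol {t y w h : G} (ht : orderOf t = 2) (hy : y * y = t) (hw : w * w = 1)
    (hwy : w * y = y * w) (hh : h * t = t * h) : h * w * h⁻¹ = w ∨ h * w * h⁻¹ = t * w := by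
  have hyw : (y * w) * (y * w) = t := by
    calc (y * w) * (y * w) = y * (w * y) * w := by group
      _ = (y * y) * (w * w) := by rw [hwy]; group
      _ = t := by rw [hy, hw, mul_one]
  have e : h * w * h⁻¹ = (h * y * h⁻¹)⁻¹ * (h * (y * w) * h⁻¹) := by group
  have hwi : w⁻¹ = w := inv_eq_of_mul_eq_one_left hw
  rcases conj_four hN ht hy hh with h1 | h1 <;> rcases conj_four hN ht hyw hh with h2 | h2
  · left; rw [e, h1, h2]; group
  · right; rw [e, h1, h2, mul_inv_rev, hwi, ← hwi]
    calc y⁻¹ * (w⁻¹ * y⁻¹) = y⁻¹ * (y * w)⁻¹ := by group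
      _ = y⁻¹ * (w * y)⁻¹ := by rw [hwy]
      _ = (y * y)⁻¹ * w⁻¹ := by group
      _ = t * w⁻¹ := by rw [hy, inv_of ht]
  · right; rw [e, h1, h2, inv_inv, ← mul_assoc, hy]
  · left; rw [e, h1, h2, inv_inv, mul_inv_rev, hwi]
    calc y * (w * y⁻¹) = (y * w) * y⁻¹ := by group
      _ = (w * y) * y⁻¹ := by rw [hwy]
      _ = w := by group

theorem exists_inv_of_two {k : G} (hk : ∃ n, orderOf k = 2 ^ n) (h1 : k ≠ 1) :
    ∃ r ∈ zpowers k, orderOf r = 2 := by
  obtain ⟨n, hn⟩ := hk
  have h2 : Even (orderOf k) := by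
    rcases n with _ | n
    · exfalso; apply h1; rw [pow_zero] at hn; exact orderOf_eq_one_iff.1 hn
    · rw [hn, pow_succ]; exact even_two.mul_left _
  exact ⟨_, npow_mem_zpowers _ _, pow_half h2⟩

theorem two_pow_sq {k : G} (hk : ∃ n, orderOf k = 2 ^ n) : ∃ n, orderOf (k * k) = 2 ^ n := by
  obtain ⟨n, hn⟩ := hk
  have h1 : orderOf (k * k) ∣ 2 ^ n := by
    rw [← hn, ← pow_two]; exact orderOf_pow_dvd 2
  obtain ⟨m, _, hm⟩ := (Nat.dvd_prime_pow Nat.prime_two).1 h1
  exact ⟨m, hm⟩

theorem exists_odd_part (k : G) : ∃ b : ℕ, Odd b ∧ ∃ n, orderOf (k ^ b) = 2 ^ n ∧ orderOf k = 2 ^ n * b := by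
  obtain ⟨n, b, hb, h⟩ := Nat.exists_eq_two_pow_mul_odd (orderOf_pos k).ne'
  refine ⟨b, hb, n, ?_, h⟩
  have hb0 : b ≠ 0 := by rintro rfl; exact absurd hb (by decide)
  rw [orderOf_pow' k hb0, h, Nat.gcd_mul_left_left]
  exact Nat.mul_div_cancel _ (Nat.pos_of_ne_zero hb0)

include hN in
/-- **Claim II** -/
theorem cent_le (hFT : FT.{u}) (hS : HS G) {t y g : G} (ht : orderOf t = 2) (hy : y * y = t)
    (hvt : g * t * g⁻¹ ≠ t) (hc : (g * t * g⁻¹) * t = t * (g * t * g⁻¹))
    (hyv : y * (g * t * g⁻¹) = (g * t * g⁻¹) * y) :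
    ∀ h : G, h * t = t * h → h * (g * t * g⁻¹) = (g * t * g⁻¹) * h := by
  set v := g * t * g⁻¹ with hv
  have ov : orderOf v = 2 := by rw [hv, ord_conj]; exact ht
  set z := g * y * g⁻¹ with hz
  have hzz : z * z = v := by rw [hz, hv, ← hy]; group
  have hzt : z * t = t * z := by rw [← hy]; exact (sq_comm hN ov hzz hyv).symm
  have hyz : y * z = z * y := comm_of_sq hN ht ov (Ne.symm hvt) hy hzz hyv hzt
  have htv : t * v ≠ 1 := by
    intro h
    apply hvt
    have := eq_inv_of_mul_eq_one_right h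
    rw [inv_of ht] at this; exact this
  have or : orderOf (t * v) = 2 := by
    apply ord_two _ htv
    calc t * v * (t * v) = t * (v * t) * v := by group
      _ = (t * t) * (v * v) := by rw [hc]; group
      _ = 1 := by rw [sq_of ht, sq_of ov, one_mul]
  have hyzz : (y * z) * (y * z) = t * v := by
    calc (y * z) * (y * z) = y * (z * y) * z := by group
      _ = (y * y) * (z * z) := by rw [← hyz]; group
      _ = t * v := by rw [hy, hzz]
  -- elements commuting with t and v act equally
  have hB : ∀ b : G, b * t = t * b → b * v = v * b →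
      (b * y = y * b ∧ b * z = z * b) ∨ (b * y * b⁻¹ = y⁻¹ ∧ b * z * b⁻¹ = z⁻¹) := by
    intro b hbt hbv
    have hbr : b * (t * v) = (t * v) * b := by
      calc b * (t * v) = (b * t) * v := by group
        _ = t * (b * v) := by rw [hbt]; group
        _ = (t * v) * b := by rw [hbv]; group
    have e : b * (y * z) * b⁻¹ = (b * y * b⁻¹) * (b * z * b⁻¹) := by group
    rcases conj_four hN ht hy hbt with h1 | h1 <;> rcases conj_four hN ov hzz hbv with h2 | h2
    · exact Or.inl ⟨comm_iff.1 h1, comm_iff.1 h2⟩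
    · exfalso
      rcases conj_four hN or hyzz hbr with h3 | h3
      · rw [e, h1, h2] at h3
        exact y_ne ov hzz (mul_left_cancel h3).symm
      · rw [e, h1, h2, hyz, mul_inv_rev z y] at h3
        exact y_ne ht hy (mul_right_cancel h3)
    · exfalso
      rcases conj_four hN or hyzz hbr with h3 | h3
      · rw [e, h1, h2] at h3
        exact y_ne ht hy (mul_right_cancel h3).symm
      · rw [e, h1, h2, hyz, mul_inv_rev z y] at h3
        exact y_ne ov hzz (mul_left_cancel h3)
    · exact Or.inr ⟨h1, h2⟩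
  intro h0 hh0
  by_contra hne0
  have hw0 : h0 * v * h0⁻¹ = t * v := by
    rcases conj_invol hN ht hy (sq_of ov) hyv.symm hh0 with h1 | h1
    · exact absurd (comm_iff.1 h1) hne0
    · exact h1
  have hsq0 : (h0 * h0) * v = v * (h0 * h0) := by
    rw [← comm_iff]
    calc (h0 * h0) * v * (h0 * h0)⁻¹ = h0 * (h0 * v * h0⁻¹) * h0⁻¹ := by group
      _ = (h0 * t) * v * h0⁻¹ := by rw [hw0]; group
      _ = t * (h0 * v * h0⁻¹) := by rw [hh0]; group
      _ = (t * t) * v := by rw [hw0]; group
      _ = v := by rw [sq_of ht, one_mul]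
  obtain ⟨b, hb, hb2⟩ := exists_odd_part h0
  set h := h0 ^ b with hh
  have hh2 : ∃ n, orderOf h = 2 ^ n := by obtain ⟨n, hn, _⟩ := hb2; exact ⟨n, hn⟩
  have hht : h * t = t * h := (Commute.pow_left (show Commute h0 t from hh0) b).eq
  have hw : h * v * h⁻¹ = t * v := by
    obtain ⟨m, hm⟩ := hb
    have h1 : h = h0 * (h0 * h0) ^ m := by
      rw [hh, hm, pow_succ', pow_mul, pow_two]
    have h2 : (h0 * h0) ^ m * v = v * (h0 * h0) ^ m :=
      (Commute.pow_left (show Commute (h0 * h0) v from hsq0) m).eq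
    rw [h1]
    calc h0 * (h0 * h0) ^ m * v * (h0 * (h0 * h0) ^ m)⁻¹
        = h0 * ((h0 * h0) ^ m * v) * ((h0 * h0) ^ m)⁻¹ * h0⁻¹ := by group
      _ = h0 * v * h0⁻¹ := by rw [h2]; group
      _ = t * v := hw0
  have hsq : (h * h) * v = v * (h * h) := by
    rw [← comm_iff]
    calc (h * h) * v * (h * h)⁻¹ = h * (h * v * h⁻¹) * h⁻¹ := by group
      _ = (h * t) * v * h⁻¹ := by rw [hw]; group
      _ = t * (h * v * h⁻¹) := by rw [hht]; group
      _ = (t * t) * v := by rw [hw]; group
      _ = v := by rw [sq_of ht, one_mul]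
  have hhht : (h * h) * t = t * (h * h) := by
    rw [mul_assoc, hht, ← mul_assoc, hht, mul_assoc]
  set z' := h * z * h⁻¹ with hz'
  have hz'z' : z' * z' = t * v := by
    rw [hz', ← hw, ← hzz]; group
  have hcz' : z' * (y * z) = (y * z) * z' := noQ8 hN hFT hS or hz'z' hyzz
  have hz't : z' * t = t * z' := by
    have h3 : h⁻¹ * t = t * h⁻¹ := by
      have := (Commute.inv_left (show Commute h t from hht)).eq
      exact this
    rw [hz']
    calc h * z * h⁻¹ * t = h * z * (h⁻¹ * t) := by group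
      _ = h * (z * t) * h⁻¹ := by rw [h3]; group
      _ = (h * t) * z * h⁻¹ := by rw [hzt]; group
      _ = t * (h * z * h⁻¹) := by rw [hht]; group
  have hz'v : z' * v = v * z' := by
    have h4 : z' * (t * v) = (t * v) * z' := by rw [← hz'z']; group
    have h5 : v = t * (t * v) := by rw [← mul_assoc, sq_of ht, one_mul]
    rw [h5]
    calc z' * (t * (t * v)) = (z' * t) * (t * v) := by group
      _ = t * (z' * (t * v)) := by rw [hz't]; group
      _ = (t * (t * v)) * z' := by rw [h4]; group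
  have hz'yz : z' * y = y * z' ∧ z' * z = z * z' := by
    rcases hB z' hz't hz'v with h1 | ⟨h1, h2⟩
    · exact h1
    · exfalso
      have h3 : z' * (y * z) * z'⁻¹ = y * z := comm_iff.2 hcz'
      have h4 : z' * (y * z) * z'⁻¹ = (z' * y * z'⁻¹) * (z' * z * z'⁻¹) := by group
      rw [h4, h1, h2, ← mul_inv_rev, ← hyz] at h3
      exact y_ne or hyzz h3.symm
  set w := z' * (y * z)⁻¹ with hwdef
  have hww : w * w = 1 := by
    have h3 : z' * (y * z)⁻¹ = (y * z)⁻¹ * z' := (Commute.inv_right (show Commute z' (y * z) from hcz')).eq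
    calc w * w = z' * ((y * z)⁻¹ * z') * (y * z)⁻¹ := by rw [hwdef]; group
      _ = (z' * z') * ((y * z) * (y * z))⁻¹ := by rw [← h3]; group
      _ = 1 := by rw [hz'z', hyzz]; group
  have hz'w : z' = w * (y * z) := by rw [hwdef]; group
  have hwy : w * y = y * w := by
    have h3 : Commute y (y * z) := by
      show y * (y * z) = (y * z) * y
      rw [mul_assoc, hyz]
    have h4 : Commute y w := by
      rw [hwdef]
      exact (show Commute y z' from hz'yz.1.symm).mul_right h3.inv_right
    exact h4.eq.symm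
  have hwz : w * z = z * w := by
    have h3 : Commute z (y * z) := by
      show z * (y * z) = (y * z) * z
      rw [← mul_assoc, ← hyz]
    have h4 : Commute z w := by
      rw [hwdef]
      exact (show Commute z z' from hz'yz.2.symm).mul_right h3.inv_right
    exact h4.eq.symm
  have hwv : w * v = v * w := by
    rw [← hzz]; exact ((show Commute w z from hwz).mul_right hwz).eq
  -- the square of `h` commutes with `y` and `z`
  have hhy : (h * h) * y = y * (h * h) := sq_comm hN ht hy hht
  have hhz : (h * h) * z = z * (h * h) := by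
    rcases hB (h * h) hhht hsq with h1 | ⟨h1, _⟩
    · exact h1.2
    · exfalso
      rw [comm_iff.2 hhy] at h1
      exact y_ne ht hy h1
  have hcomp : (h * w * h⁻¹) * (h * y * h⁻¹) * (w * (y * z)) = z := by
    have h1 : h * z' * h⁻¹ = z := by
      rw [hz']
      calc h * (h * z * h⁻¹) * h⁻¹ = (h * h) * z * (h * h)⁻¹ := by group
        _ = z := comm_iff.2 hhz
    have h2 : h * z' * h⁻¹ = (h * w * h⁻¹) * (h * y * h⁻¹) * (h * z * h⁻¹) := by
      nth_rewrite 1 [hz'w]; group
    rw [← hz'w, hz', ← h2, h1]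
  -- `y w` is moved by `h`
  have hmove : h * (w * y) ≠ (w * y) * h := by
    intro hcon
    have h3 : h * (w * y) * h⁻¹ = w * y := comm_iff.2 hcon
    have h4 : h * (w * y) * h⁻¹ = (h * w * h⁻¹) * (h * y * h⁻¹) := by group
    have h5 : w * y * (w * (y * z)) = z := by rw [← h3, h4]; exact hcomp
    have h6 : w * y * (w * (y * z)) = (w * w) * ((y * y) * z) := by
      calc w * y * (w * (y * z)) = w * (y * w) * (y * z) := by group
        _ = (w * w) * ((y * y) * z) := by rw [← hwy]; group
    rw [h6, hww, one_mul, hy] at h5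
    exact ne_one_of ht (mul_eq_right.1 h5)
  have hzh : z * h = (w * y)⁻¹ * (h * z) := by
    have h1 : h * z = w * (y * z) * h := by
      rw [← hz'w, hz']; group
    rw [h1]; group
  by_cases hh1 : h * h = 1
  · -- `h` is an involution
    have hhi : h⁻¹ = h := inv_eq_of_mul_eq_one_left hh1
    set k := h * z with hk
    have hkk : k * k = w * y * v := by
      calc k * k = (h * z * h⁻¹) * (h * h) * z := by rw [hk]; group
        _ = w * (y * z) * z := by rw [hh1, mul_one, ← hz', hz'w]
        _ = w * y * (z * z) := by group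
        _ = w * y * v := by rw [hzz]
    have hk4 : (k * k) * (k * k) = t := by
      rw [hkk]
      have c1 : v * w = w * v := hwv.symm
      calc w * y * v * (w * y * v) = w * y * (v * w) * y * v := by group
        _ = w * (y * w) * (v * y) * v := by rw [c1]; group
        _ = w * (w * y) * (y * v) * v := by rw [← hwy, ← hyv]
        _ = (w * w) * (y * y) * (v * v) := by group
        _ = t := by rw [hww, hy, sq_of ov, one_mul, mul_one]
    have htk : t ∈ zpowers k := by
      rw [← hk4]
      have := mul_mem (mem_zpowers k) (mem_zpowers k)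
      exact mul_mem this this
    have hkt : k * t = t * k := by
      rw [hk, mul_assoc, hzt, ← mul_assoc, hht, mul_assoc]
    have hk1 : k ≠ 1 := by
      intro h1
      rw [h1] at hk4
      apply ne_one_of ht
      rw [← hk4]; group
    have h1 : z * k * z⁻¹ ∈ zpowers k := conj_mem hN ht hk1 hkt (Or.inr htk) hzt
    have h2 : z * k * z⁻¹ = (w * y)⁻¹ * k := by
      rw [hk]
      calc z * (h * z) * z⁻¹ = z * h := by group
        _ = _ := hzh
    rw [h2] at h1
    have h3 : w * y ∈ zpowers k := by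
      have := mul_mem h1 (inv_mem (mem_zpowers k))
      rw [mul_inv_cancel_right] at this
      exact inv_mem_iff.1 this
    have h4 : v ∈ zpowers k := by
      have h5 : w * y * v ∈ zpowers k := by
        rw [← hkk]; exact mul_mem (mem_zpowers k) (mem_zpowers k)
      have := mul_mem (inv_mem h3) h5
      rwa [inv_mul_cancel_left] at this
    exact hvt (invol_unique h4 htk ov ht)
  · -- otherwise
    obtain ⟨r, hr, hr2⟩ := exists_inv_of_two (two_pow_sq hh2) hh1
    obtain ⟨n, hn⟩ := mem_zpowers_iff.1 hr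
    have hrz : z * r = r * z := by
      rw [← hn]; exact ((show Commute z (h * h) from hhz.symm).zpow_right n).eq
    have hrh : r ∈ zpowers h := by
      rw [← hn]; exact zpow_mem (mul_mem (mem_zpowers h) (mem_zpowers h)) n
    have hhr : h * r = r * h := by
      obtain ⟨m, hm⟩ := mem_zpowers_iff.1 hrh
      rw [← hm]; exact ((Commute.refl h).zpow_right m).eq
    have hh1' : h ≠ 1 := by
      intro h1; apply hh1; rw [h1, one_mul]
    have h1 : z * h * z⁻¹ ∈ zpowers h := conj_mem hN hr2 hh1' hhr (Or.inr hrh) hrz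
    have h2 : z * h * z⁻¹ = (w * y)⁻¹ * h := by
      rw [hzh]; group
    rw [h2] at h1
    have h3 : w * y ∈ zpowers h := by
      have := mul_mem h1 (inv_mem (mem_zpowers h))
      rw [mul_inv_cancel_right] at this
      exact inv_mem_iff.1 this
    apply hmove
    obtain ⟨m, hm⟩ := mem_zpowers_iff.1 h3
    rw [← hm]; exact ((Commute.refl h).zpow_right m).eq

include hN in
theorem cent_eq (hFT : FT.{u}) (hS : HS G) {t y g : G} (ht : orderOf t = 2) (hy : y * y = t)
    (hvt : g * t * g⁻¹ ≠ t) (hc : (g * t * g⁻¹) * t = t * (g * t * g⁻¹))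
    (hyv : y * (g * t * g⁻¹) = (g * t * g⁻¹) * y) :
    centralizer ({t} : Set G) = centralizer ({g * t * g⁻¹} : Set G) := by
  apply Subgroup.eq_of_le_of_card_ge
  · intro h hh
    exact mem_cent.2 (cent_le hN hFT hS ht hy hvt hc hyv h (mem_cent.1 hh))
  · rw [BSW.centralizer_conj, Subgroup.card_map_of_injective (MulAut.conj g).injective]

end Cfsg.Agent.Lib.NCyc
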