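import Cfsg.Agent.Lib.NCyc2

/-!
# NCyc, part 3 (helper4, for S3730): the dihedral case
-/

set_option autoImplicit false
set_option linter.all false

namespace Cfsg.Agent.Lib.NCyc

open Subgroup

universe u
variable {G : Type u} [Group G] [Finite G] (hN : HN G)

/-- the dihedral configuration: `y² = t`, `v = t^g` commutes with `t` and inverts `y` -/
structure Dih (y t v : G) : Prop where
  ht : orderOf t = 2
  hy : y * y = t
  ex : ∃ g : G, g * t * g⁻¹ = v
  hne : v ≠ t
  hc : v * t = t * v
  hinv : v * y * v⁻¹ = y⁻¹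

namespace Dih

variable {y t v : G} (D : Dih y t v)

include D

omit [Finite G] in
theorem ov : orderOf v = 2 := by
  obtain ⟨g, hg⟩ := D.ex
  rw [← hg, ord_conj]; exact D.ht

omit [Finite G] in
theorem vi : v⁻¹ = v := inv_of D.ov

include hN in
theorem inv_root (hFT : FT.{u}) (hS : HS G) {y' : G} (hy' : y' * y' = t) : v * y' * v⁻¹ = y'⁻¹ := by
  rcases conj_four hN D.ht hy' D.hc with h | h
  · exfalso
    obtain ⟨g, hg⟩ := D.ex
    have h1 := cent_eq hN hFT hS (g := g) D.ht hy' (by rw [hg]; exact D.hne) (by rw [hg]; exact D.hc)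
      (by rw [hg]; exact (comm_iff.1 h).symm)
    rw [hg] at h1
    have h2 : y ∈ centralizer ({v} : Set G) := by rw [← h1]; exact mem_cent.2 (y_comm D.hy)
    have h3 := D.hinv
    rw [← mem_cent.1 h2, mul_inv_cancel_right] at h3
    exact y_ne D.ht D.hy h3
  · exact h

include hN in
theorem invol (hFT : FT.{u}) (hS : HS G) {k : G} (hk2 : ∃ n, orderOf k = 2 ^ n)
    (hkt : k * t = t * k) (hky : k * y * k⁻¹ = y⁻¹) : k * k = 1 := by
  have ht := D.ht
  have hy := D.hy
  by_contra hkk
  have hk1 : k ≠ 1 := by rintro rfl; apply hkk; rw [one_mul]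
  obtain ⟨r, hr, hr2⟩ := exists_inv_of_two (two_pow_sq hk2) hkk
  have hkky : (k * k) * y = y * (k * k) := sq_comm hN ht hy hkt
  have hry : y * r = r * y := by
    obtain ⟨n, hn⟩ := mem_zpowers_iff.1 hr
    rw [← hn]; exact ((show Commute y (k * k) from hkky.symm).zpow_right n).eq
  have hrk : r ∈ zpowers k := by
    obtain ⟨n, hn⟩ := mem_zpowers_iff.1 hr
    rw [← hn]; exact zpow_mem (mul_mem (mem_zpowers k) (mem_zpowers k)) n
  have hkr : k * r = r * k := by
    obtain ⟨m, hm⟩ := mem_zpowers_iff.1 hrk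
    rw [← hm]; exact ((Commute.refl k).zpow_right m).eq
  have hyk : y * k * y⁻¹ = k * t := by
    have h1 : k * y = y⁻¹ * k := mul_inv_eq_iff_eq_mul.1 hky
    have h2 : k = y * k * y := by rw [mul_assoc, h1]; group
    have h3 : y * k * y⁻¹ = k * (y⁻¹ * y⁻¹) := by
      nth_rewrite 2 [h2]; group
    rw [h3, ← mul_inv_rev, hy, inv_of ht]
  have h1 : y * k * y⁻¹ ∈ zpowers k := conj_mem hN hr2 hk1 hkr (Or.inr hrk) hry
  have htk : t ∈ zpowers k := by
    rw [hyk] at h1
    have := mul_mem (inv_mem (mem_zpowers k)) h1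
    rwa [inv_mul_cancel_left] at this
  -- no square root of `t` is inverted or centralized strangely
  have hnoq : ∀ j f : G, j * j = t → f * f = t → j * f * j⁻¹ = f⁻¹ → False := by
    intro j f hj hf hjf
    have := noQ8 hN hFT hS ht hj hf
    rw [this, mul_inv_cancel_right] at hjf
    exact y_ne ht hf hjf
  -- an element of order four in `⟨k⟩`
  obtain ⟨f, hf, hfy, hfk⟩ : ∃ f, f * f = t ∧ f * y = y * f ∧ f ∈ zpowers k := by
    obtain ⟨n, hn⟩ := hk2
    rcases n with _ | _ | _ | n
    · exfalso; apply hk1; rw [pow_zero] at hn; exact orderOf_eq_one_iff.1 hn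
    · exfalso; apply hkk
      rw [zero_add, pow_one] at hn; exact sq_of hn
    · exfalso
      have h2 : orderOf (k * k) = 2 := by
        apply ord_two _ hkk
        have : k ^ 4 = 1 := by
          have h3 := pow_orderOf_eq_one k
          rw [hn] at h3; simpa using h3
        rw [← pow_two, ← pow_two, ← pow_mul]; exact this
      have h3 : k * k = t := invol_unique (mul_mem (mem_zpowers k) (mem_zpowers k)) htk h2 ht
      exact hnoq k y h3 hy hky
    · refine ⟨(k * k) ^ (2 ^ n), ?_, ?_, ?_⟩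
      · have h2 : orderOf ((k * k) ^ (2 ^ n) * (k * k) ^ (2 ^ n)) = 2 := by
          have e : (k * k) ^ (2 ^ n) * (k * k) ^ (2 ^ n) = k ^ (2 ^ (n + 2)) := by
            rw [← pow_add, ← pow_two, ← pow_mul]
            congr 1; ring
          rw [e, orderOf_pow' k (by positivity), hn,
            Nat.gcd_eq_right (pow_dvd_pow 2 (by omega)), Nat.pow_div (by omega) (by norm_num)]
          have : n + 1 + 1 + 1 - (n + 2) = 1 := by omega
          rw [this, pow_one]
        apply invol_unique (k := k) _ htk h2 ht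
        exact mul_mem (pow_mem (mul_mem (mem_zpowers k) (mem_zpowers k)) _)
          (pow_mem (mul_mem (mem_zpowers k) (mem_zpowers k)) _)
      · exact ((show Commute (k * k) y from hkky).pow_left _).eq
      · exact pow_mem (mul_mem (mem_zpowers k) (mem_zpowers k)) _
  have hvf : v * f * v⁻¹ = f⁻¹ := D.inv_root hN hFT hS hf
  have hkf : k * f = f * k := by
    obtain ⟨m, hm⟩ := mem_zpowers_iff.1 hfk
    rw [← hm]; exact ((Commute.refl k).zpow_right m).eq
  have hvk : v * k * v⁻¹ ∈ zpowers k := conj_mem hN ht hk1 hkt (Or.inr htk) D.hc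
  have hcomm : ∀ a ∈ zpowers k, ∀ b ∈ zpowers k, a * b = b * a := by
    intro a ha b hb
    obtain ⟨m, rfl⟩ := mem_zpowers_iff.1 ha
    obtain ⟨n, rfl⟩ := mem_zpowers_iff.1 hb
    exact ((Commute.refl k).zpow_zpow m n).eq
  have hvv : v * v = 1 := sq_of D.ov
  set δ := v * k * v⁻¹ * k with hδ
  have hδk : δ ∈ zpowers k := mul_mem hvk (mem_zpowers k)
  have hvδ : v * δ = δ * v := by
    rw [← comm_iff, hδ]
    calc v * (v * k * v⁻¹ * k) * v⁻¹ = (v * v) * k * v⁻¹ * k * v⁻¹ := by group
      _ = k * v⁻¹ * k * v⁻¹ := by rw [hvv, one_mul]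
      _ = k * (v * k * v⁻¹) := by rw [D.vi]; group
      _ = v * k * v⁻¹ * k := hcomm _ (mem_zpowers k) _ hvk
  have hδδ : δ * δ = 1 := by
    by_contra hδδ
    -- an element of order four in `⟨δ⟩`
    have hδ2 : ∃ n, orderOf δ = 2 ^ n := by
      obtain ⟨n, hn⟩ := hk2
      have : orderOf δ ∣ 2 ^ n := by rw [← hn]; exact orderOf_dvd_of_mem_zpowers hδk
      obtain ⟨m, _, hm⟩ := (Nat.dvd_prime_pow Nat.prime_two).1 this
      exact ⟨m, hm⟩
    obtain ⟨n, hn⟩ := hδ2
    rcases n with _ | _ | n
    · apply hδδ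
      rw [pow_zero, orderOf_eq_one_iff] at hn; rw [hn, one_mul]
    · apply hδδ
      rw [zero_add, pow_one] at hn; exact sq_of hn
    · have h2 : orderOf (δ ^ (2 ^ n) * δ ^ (2 ^ n)) = 2 := by
        have e : δ ^ (2 ^ n) * δ ^ (2 ^ n) = δ ^ (2 ^ (n + 1)) := by
          rw [← pow_add]; congr 1; ring
        rw [e, orderOf_pow' δ (by positivity), hn,
          Nat.gcd_eq_right (pow_dvd_pow 2 (by omega)), Nat.pow_div (by omega) (by norm_num)]
        have : n + 1 + 1 - (n + 1) = 1 := by omega
        rw [this, pow_one]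
      have h3 : δ ^ (2 ^ n) * δ ^ (2 ^ n) = t :=
        invol_unique (k := k) (mul_mem (pow_mem hδk _) (pow_mem hδk _)) htk h2 ht
      have h4 := D.inv_root hN hFT hS h3
      have h5 : v * δ ^ (2 ^ n) = δ ^ (2 ^ n) * v := ((show Commute v δ from hvδ).pow_right _).eq
      rw [h5, mul_inv_cancel_right] at h4
      exact y_ne ht h3 h4
  have hvkvk : (v * k) * (v * k) = δ := by
    rw [hδ, D.vi]; group
  have hvkf : (v * k) * f * (v * k)⁻¹ = f⁻¹ := by
    calc (v * k) * f * (v * k)⁻¹ = v * (k * f) * k⁻¹ * v⁻¹ := by group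
      _ = v * f * v⁻¹ := by rw [hkf]; group
      _ = f⁻¹ := hvf
  by_cases hδ1 : δ = 1
  · -- the second case
    obtain ⟨s, hs⟩ : ∃ s, s = y * f := ⟨_, rfl⟩
    have hss : s * s = 1 := by
      calc s * s = y * (f * y) * f := by rw [hs]; group
        _ = (y * y) * (f * f) := by rw [hfy]; group
        _ = 1 := by rw [hy, hf, sq_of ht]
    have hsi : s⁻¹ = s := inv_eq_of_mul_eq_one_left hss
    have hvs : v * s * v⁻¹ = s := by
      calc v * s * v⁻¹ = (v * y * v⁻¹) * (v * f * v⁻¹) := by rw [hs]; group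
        _ = y⁻¹ * f⁻¹ := by rw [D.hinv, hvf]
        _ = (f * y)⁻¹ := by rw [mul_inv_rev]
        _ = s := by rw [hfy, ← hs, hsi]
    have hsk : s * k * s⁻¹ = k * t := by
      calc s * k * s⁻¹ = y * (f * k) * f⁻¹ * y⁻¹ := by rw [hs]; group
        _ = y * k * y⁻¹ := by rw [← hkf]; group
        _ = k * t := hyk
    have hvkv : v * k * v⁻¹ = k⁻¹ := by
      rw [← mul_eq_one_iff_eq_inv]; exact hδ1
    have hvs' : s * v = v * s := (comm_iff.1 hvs).symm
    have hj : (v * k * s) * (v * k * s) = t := by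
      calc (v * k * s) * (v * k * s) = v * k * (s * v) * k * s := by group
        _ = (v * k * v) * (s * k * s) := by rw [hvs']; group
        _ = (v * k * v⁻¹) * (s * k * s⁻¹) := by rw [D.vi, hsi]
        _ = t := by rw [hvkv, hsk]; group
    have hsf : s * f = f * s := by rw [hs, mul_assoc, ← mul_assoc f, hfy, mul_assoc]
    have hjf : (v * k * s) * f * (v * k * s)⁻¹ = f⁻¹ := by
      calc (v * k * s) * f * (v * k * s)⁻¹ = (v * k) * (s * f) * s⁻¹ * (v * k)⁻¹ := by group
        _ = (v * k) * f * (v * k)⁻¹ := by rw [hsf]; group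
        _ = f⁻¹ := hvkf
    exact hnoq _ f hj hf hjf
  · have h2 : δ = t := invol_unique hδk htk (ord_two hδδ hδ1) ht
    exact hnoq _ f (hvkvk.trans h2) hf hvkf

include hN in
/-- the centralizer of `y` is inverted by `v` -/
theorem inv_cent (hFT : FT.{u}) (hS : HS G) {k : G} (hk : k * y = y * k) : v * k * v⁻¹ = k⁻¹ := by
  have ht := D.ht
  have hy := D.hy
  have hkt : k * t = t * k := by
    rw [← hy]; exact ((show Commute k y from hk).mul_right hk).eq
  set m := v * k with hm
  have hmt : m * t = t * m := by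
    rw [hm, mul_assoc, hkt, ← mul_assoc, D.hc, mul_assoc]
  have hmy : m * y * m⁻¹ = y⁻¹ := by
    calc m * y * m⁻¹ = v * (k * y) * k⁻¹ * v⁻¹ := by rw [hm]; group
      _ = v * y * v⁻¹ := by rw [hk]; group
      _ = y⁻¹ := D.hinv
  obtain ⟨b, hb, n, hb2, hob⟩ := exists_odd_part m
  set i := m ^ b with hi
  have hiy : i * y * i⁻¹ = y⁻¹ := odd_pow_conj_inv hmy hb
  have hit : i * t = t * i := ((show Commute m t from hmt).pow_left b).eq
  have hii : i * i = 1 := D.invol hN hFT hS ⟨n, hb2⟩ hit hiy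
  have hi1 : i ≠ 1 := by
    intro h
    rw [h] at hiy
    apply y_ne ht hy
    simpa using hiy
  have oi : orderOf i = 2 := ord_two hii hi1
  set x := m * m with hx
  have hxb : x ^ b = 1 := by
    rw [hx, ← pow_two, ← pow_mul, mul_comm, pow_mul, pow_two]; exact hii
  have hxo : Odd (orderOf x) := by
    obtain ⟨c, hc⟩ := orderOf_dvd_of_pow_eq_one hxb
    rw [hc] at hb
    exact (Nat.odd_mul.1 hb).1
  have hxi : x * i = i * x := by
    rw [hx, hi]
    exact (((Commute.refl m).mul_left (Commute.refl m)).pow_right b).eq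
  have hxt : x * t = t * x := by
    rw [hx]; exact ((show Commute m t from hmt).mul_left hmt).eq
  have hx1 : x = 1 := by
    by_contra hx1
    have h1 := norm_zpowers hN oi hx1 hxi (Or.inl hxo)
    have h2 := norm_zpowers hN ht hx1 hxt (Or.inl hxo)
    have h3 : y ∈ centralizer ({i} : Set G) := by
      rw [← h1, h2]; exact mem_cent.2 (y_comm hy)
    have h4 := mem_cent.1 h3
    rw [← h4, mul_inv_cancel_right] at hiy
    exact y_ne ht hy hiy
  rw [← mul_eq_one_iff_eq_inv, D.vi]
  calc v * k * v * k = m * m := by rw [hm]; group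
    _ = 1 := hx1

include hN in
theorem cent_comm (hFT : FT.{u}) (hS : HS G) {a b : G} (ha : a * y = y * a) (hb : b * y = y * b) :
    a * b = b * a := by
  apply BSW.comm_of_inverted (C := centralizer ({y} : Set G)) (a := v)
  · intro z hz
    exact D.inv_cent hN hFT hS (mem_cent.1 hz)
  · exact mem_cent.2 ha
  · exact mem_cent.2 hb

include hN in
theorem cases {h : G} (hh : h * t = t * h) : h * y = y * h ∨ (v * h) * y = y * (v * h) := by
  rcases conj_four hN D.ht D.hy hh with h1 | h1
  · exact Or.inl (comm_iff.1 h1)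
  · right
    rw [← comm_iff]
    have e : v * h * y * (v * h)⁻¹ = v * (h * y * h⁻¹) * v⁻¹ := by group
    have e2 : v * y⁻¹ * v⁻¹ = (v * y * v⁻¹)⁻¹ := by group
    rw [e, h1, e2, D.hinv, inv_inv]

include hN in
/-- the involutions of `C(y)` are central in `C(t)` -/
theorem central (hFT : FT.{u}) (hS : HS G) {e h : G} (he : e * y = y * e) (hee : e * e = 1)
    (hh : h * t = t * h) : e * h = h * e := by
  have hev : e * v = v * e := by
    have := D.inv_cent hN hFT hS he
    rw [inv_eq_of_mul_eq_one_left hee] at this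
    exact (comm_iff.1 this).symm
  rcases D.cases hN hh with h1 | h1
  · exact D.cent_comm hN hFT hS he h1
  · have h2 := D.cent_comm hN hFT hS he h1
    have h3 : v * (e * h) = v * (h * e) := by
      calc v * (e * h) = (v * e) * h := by group
        _ = e * (v * h) := by rw [← hev]; group
        _ = (v * h) * e := h2
        _ = v * (h * e) := by group
    exact mul_left_cancel h3

include hN in
/-- the configuration is symmetric -/
theorem symm (hFT : FT.{u}) (hS : HS G) : ∃ z : G, Dih z v t := by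
  obtain ⟨g, hg⟩ := D.ex
  have hzz : (g * y * g⁻¹) * (g * y * g⁻¹) = v := by rw [← hg, ← D.hy]; group
  set z := g * y * g⁻¹ with hz
  have hzc : z * t ≠ t * z := by
    intro hzt
    rcases conj_four hN D.ht D.hy hzt with h | h
    · have h1 : v * y = y * v := by
        rw [← hzz]; exact ((show Commute z y from comm_iff.1 h).mul_left (comm_iff.1 h)).eq
      have h2 := D.hinv
      rw [h1, mul_inv_cancel_right] at h2
      exact y_ne D.ht D.hy h2
    · have h1 : ∃ n, orderOf z = 2 ^ n := ⟨2, by rw [ord_four D.ov hzz]; norm_num⟩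
      have h2 := D.invol hN hFT hS h1 hzt h
      rw [hzz] at h2
      exact ne_one_of D.ov h2
  refine ⟨z, D.ov, hzz, ⟨g⁻¹, ?_⟩, Ne.symm D.hne, D.hc.symm, ?_⟩
  · rw [← hg]; group
  · rcases conj_four hN D.ov hzz D.hc.symm with h | h
    · exact absurd (comm_iff.1 h).symm hzc
    · exact h

end Dih

/-- a nilpotency argument -/
theorem no_pair {Q : Type*} [Group Q] [Group.IsNilpotent Q] {y z t v : Q} (hy : v * y * v⁻¹ * y⁻¹ = t)
    (hz : t * z * t⁻¹ * z⁻¹ = v) : t = 1 := by
  have key : ∀ n : ℕ, t ∈ Subgroup.lowerCentralSeries (⊤ : Subgroup Q) n ∧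
      v ∈ Subgroup.lowerCentralSeries (⊤ : Subgroup Q) n := by
    intro n
    induction n with
    | zero => simp [Subgroup.lowerCentralSeries_zero]
    | succ n ih =>
      rw [Subgroup.lowerCentralSeries_succ]
      refine ⟨?_, ?_⟩
      · rw [← hy]; exact Subgroup.commutator_mem_commutator ih.2 (Subgroup.mem_top y)
      · rw [← hz]; exact Subgroup.commutator_mem_commutator ih.1 (Subgroup.mem_top z)
  obtain ⟨n, hn⟩ := (Subgroup.nilpotent_iff_lowerCentralSeries (G := Q)).1 inferInstance
  have := (key n).1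
  rw [hn] at this
  exact Subgroup.mem_bot.1 this

include hN in
/-- modulo the odd core the centralizer of an involution is a 2-group -/
theorem isPGroup_quot {e : G} (he : orderOf e = 2) :
    IsPGroup 2 (↥(centralizer ({e} : Set G)) ⧸ oddCore ↥(centralizer ({e} : Set G))) := by
  rintro ⟨x⟩
  change ∃ k, (QuotientGroup.mk x : ↥(centralizer ({e} : Set G)) ⧸ oddCore ↥(centralizer ({e} : Set G))) ^ 2 ^ k = 1
  obtain ⟨n, b, hb, hn⟩ := Nat.exists_eq_two_pow_mul_odd (orderOf_pos x).ne'
  refine ⟨n, ?_⟩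
  rw [← QuotientGroup.mk_pow, QuotientGroup.eq_one_iff]
  set w := x ^ 2 ^ n with hw
  have how : Odd (orderOf w) := by
    rw [hw, orderOf_pow' x (by positivity), hn, Nat.gcd_mul_right_left, Nat.mul_div_cancel_left _ (by positivity)]
    exact hb
  by_cases hw1 : w = 1
  · rw [hw1]; exact one_mem _
  have hwG : (w : G) ≠ 1 := fun h => hw1 (Subtype.ext h)
  have howG : Odd (orderOf (w : G)) := by rwa [Subgroup.orderOf_coe]
  have h1 := norm_zpowers hN he hwG (mem_cent.1 w.2) (Or.inl howG)
  have hnorm : (zpowers w).Normal := by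
    constructor
    intro z hz c
    obtain ⟨m, rfl⟩ := mem_zpowers_iff.1 hz
    have h2 : (c : G) ∈ normalizer ((zpowers (w : G) : Subgroup G) : Set G) := by rw [h1]; exact c.2
    have h3 := (Subgroup.mem_normalizer_iff.1 h2 ((w : G) ^ m)).1 (zpow_mem (mem_zpowers _) m)
    obtain ⟨j, hj⟩ := mem_zpowers_iff.1 h3
    rw [mem_zpowers_iff]
    refine ⟨j, Subtype.ext ?_⟩
    simpa using hj
  have hle : zpowers w ≤ oddCore ↥(centralizer ({e} : Set G)) := by
    apply H23Basic.le_pPrimeCore hnorm
    rw [Nat.card_zpowers]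
    exact Nat.coprime_two_right.2 how
  exact hle (mem_zpowers w)

include hN in
theorem not_pair {e y z t v : G} (he : orderOf e = 2) (ht : orderOf t = 2)
    (hye : y * e = e * y) (hze : z * e = e * z) (hte : t * e = e * t) (hve : v * e = e * v)
    (h1 : v * y * v⁻¹ * y⁻¹ = t) (h2 : t * z * t⁻¹ * z⁻¹ = v) : False := by
  have : Fact (Nat.Prime 2) := ⟨Nat.prime_two⟩
  set L := centralizer ({e} : Set G) with hL
  have : Finite (L ⧸ oddCore L) := inferInstance
  have hnil : Group.IsNilpotent (L ⧸ oddCore L) := (isPGroup_quot hN he).isNilpotent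
  have h3 := no_pair (Q := L ⧸ oddCore L) (y := QuotientGroup.mk ⟨y, mem_cent.2 hye⟩)
    (z := QuotientGroup.mk ⟨z, mem_cent.2 hze⟩) (t := QuotientGroup.mk ⟨t, mem_cent.2 hte⟩)
    (v := QuotientGroup.mk ⟨v, mem_cent.2 hve⟩)
    (by
      rw [← QuotientGroup.mk_inv, ← QuotientGroup.mk_inv, ← QuotientGroup.mk_mul, ← QuotientGroup.mk_mul,
        ← QuotientGroup.mk_mul]
      congr 1
      exact Subtype.ext h1)
    (by
      rw [← QuotientGroup.mk_inv, ← QuotientGroup.mk_inv, ← QuotientGroup.mk_mul, ← QuotientGroup.mk_mul,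
        ← QuotientGroup.mk_mul]
      congr 1
      exact Subtype.ext h2)
  rw [QuotientGroup.eq_one_iff] at h3
  have h4 : Odd (Nat.card (oddCore L)) := H23Basic.odd_card_oddCore
  have h5 : orderOf (⟨t, mem_cent.2 hte⟩ : L) ∣ Nat.card (oddCore L) := by
    rw [← Subgroup.orderOf_mk _ h3]
    exact orderOf_dvd_natCard _
  rw [Subgroup.orderOf_mk, ht] at h5
  exact (Nat.not_even_iff_odd.2 h4) (even_iff_two_dvd.2 h5)

namespace Dih

variable {y t v : G} (D : Dih y t v)

include D hN in
/-- `t` is the only involution of `C(y)` -/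
theorem unique (hFT : FT.{u}) (hS : HS G) {e : G} (he : e * y = y * e) (hee : e * e = 1) :
    e = 1 ∨ e = t := by
  by_contra hcon
  push Not at hcon
  obtain ⟨z, E⟩ := D.symm hN hFT hS
  have hei : e⁻¹ = e := inv_eq_of_mul_eq_one_left hee
  have hev : e * v = v * e := by
    have := D.inv_cent hN hFT hS he
    rw [hei] at this
    exact (comm_iff.1 this).symm
  have ht := D.ht
  have het : e * t = t * e := by
    rw [← D.hy]; exact ((show Commute e y from he).mul_right he).eq
  -- a common involution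
  obtain ⟨e', he1, he2, he3, he4⟩ : ∃ e', e' ≠ 1 ∧ e' * e' = 1 ∧ e' * y = y * e' ∧ e' * z = z * e' := by
    rcases E.cases hN hev with h1 | h1
    · exact ⟨e, hcon.1, hee, he, h1⟩
    · refine ⟨t * e, ?_, ?_, ?_, h1⟩
      · intro h
        apply hcon.2
        have := eq_inv_of_mul_eq_one_right h
        rw [this, inv_of ht]
      · calc t * e * (t * e) = t * (e * t) * e := by group
          _ = (t * t) * (e * e) := by rw [het]; group
          _ = 1 := by rw [sq_of ht, hee, one_mul]
      · calc t * e * y = t * (e * y) := by group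
          _ = (t * y) * e := by rw [he]; group
          _ = y * (t * e) := by rw [← y_comm D.hy]; group
  have c1 : ∀ h : G, h * t = t * h → h * e' = e' * h := fun h hh =>
    (D.central hN hFT hS he3 he2 hh).symm
  have c2 : ∀ h : G, h * v = v * h → h * e' = e' * h := fun h hh =>
    (E.central hN hFT hS he4 he2 hh).symm
  refine not_pair hN (e := e') (y := y) (z := z) (t := t) (v := v) (ord_two he2 he1) ht he3.symm he4.symm
    (c1 t rfl) (c2 v rfl) ?_ ?_
  · rw [D.hinv, ← mul_inv_rev, D.hy, inv_of ht]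
  · rw [E.hinv, ← mul_inv_rev, E.hy, inv_of D.ov]

end Dih

end Cfsg.Agent.Lib.NCyc
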