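import Cfsg.Agent.Lib.NCyc3
import Cfsg.Agent.Lib.DedekindAb
import Cfsg.Agent.Lib.CAElem

/-!
# NCyc, part 4 (helper4, for S3730): the strongly embedded case
-/

set_option autoImplicit false
set_option linter.all false

namespace Cfsg.Agent.Lib.NCyc

open Subgroup

universe u
variable {G : Type u} [Group G] [Finite G] (hN : HN G)

omit [Finite G] in
theorem solvable_of_comm {H : Subgroup G} (h : ∀ a ∈ H, ∀ b ∈ H, a * b = b * a) :
    Group.IsSolvable ↥H := by
  exact Group.isSolvable_of_comm (fun a b => Subtype.ext (h a a.2 b b.2))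

omit [Finite G] in
theorem cent_conj_eq {t s : G} (g : G) (h : centralizer ({t} : Set G) = centralizer ({s} : Set G)) :
    centralizer ({g * t * g⁻¹} : Set G) = centralizer ({g * s * g⁻¹} : Set G) := by
  rw [BSW.centralizer_conj, BSW.centralizer_conj, h]

omit [Finite G] in
/-- if `C(g t g⁻¹) = C(t)` then `g` normalizes `C(t)` -/
theorem mem_norm_cent {t g : G} (h : centralizer ({g * t * g⁻¹} : Set G) = centralizer ({t} : Set G)) :
    g ∈ normalizer ((centralizer ({t} : Set G) : Subgroup G) : Set G) := by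
  rw [BSW.centralizer_conj] at h
  rw [Subgroup.mem_normalizer_iff]
  intro x
  constructor
  · intro hx
    have h3 : g * x * g⁻¹ ∈ (centralizer ({t} : Set G)).map (MulAut.conj g).toMonoidHom := ⟨x, hx, rfl⟩
    rwa [h] at h3
  · intro hx
    rw [← h] at hx
    obtain ⟨w, hw, hwx⟩ := hx
    have h4 : g * w * g⁻¹ = g * x * g⁻¹ := hwx
    have h5 : w = x := mul_left_cancel (mul_right_cancel h4)
    rw [← h5]; exact hw

include hN in
theorem norm_of_all {t : G} (ht : orderOf t = 2)
    (hE : ∀ e : G, orderOf e = 2 → e * t = t * e → centralizer ({e} : Set G) = centralizer ({t} : Set G))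
    {h : G} (hh : h * t = t * h) (h1 : h ≠ 1) :
    normalizer ((zpowers h : Subgroup G) : Set G) = centralizer ({t} : Set G) := by
  rcases Nat.even_or_odd (orderOf h) with he | ho
  · have h2 := pow_half he
    have h3 : h ^ (orderOf h / 2) ∈ zpowers h := npow_mem_zpowers _ _
    have h4 : h ^ (orderOf h / 2) * t = t * h ^ (orderOf h / 2) :=
      ((show Commute h t from hh).pow_left _).eq
    rw [norm_zpowers hN h2 h1 ((Commute.refl h).pow_right _).eq (Or.inr h3), hE _ h2 h4]
  · exact norm_zpowers hN ht h1 hh (Or.inl ho)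

include hN in
theorem comm_of_all (hFT : FT.{u}) (hS : HS G) {t : G} (ht : orderOf t = 2)
    (hE : ∀ e : G, orderOf e = 2 → e * t = t * e → centralizer ({e} : Set G) = centralizer ({t} : Set G)) :
    ∀ a ∈ centralizer ({t} : Set G), ∀ b ∈ centralizer ({t} : Set G), a * b = b * a := by
  intro a ha b hb
  have key := DedekindAb.comm (L := ↥(centralizer ({t} : Set G))) ?_ ?_ ⟨a, ha⟩ ⟨b, hb⟩
  · exact congrArg Subtype.val key
  · intro x y
    by_cases hy : y = 1
    · rw [hy]; simp
    have hy' : (y : G) ≠ 1 := fun h => hy (Subtype.ext h)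
    have h1 := norm_of_all hN ht hE (mem_cent.1 y.2) hy'
    have h2 : (x : G) ∈ normalizer ((zpowers (y : G) : Subgroup G) : Set G) := by rw [h1]; exact x.2
    obtain ⟨m, hm⟩ := mem_zpowers_iff.1 ((Subgroup.mem_normalizer_iff.1 h2 (y : G)).1 (mem_zpowers _))
    exact mem_zpowers_iff.2 ⟨m, Subtype.ext (by simpa using hm)⟩
  · intro y1 y2 ho he
    have ho' : orderOf ((y1 : G) * y1) = 2 := by
      have : orderOf ((y1 * y1 : ↥(centralizer ({t} : Set G))) : G) = 2 := by
        rw [Subgroup.orderOf_coe]; exact ho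
      simpa using this
    have he' : (y1 : G) * y1 = y2 * y2 := congrArg Subtype.val he
    exact Subtype.ext (noQ8 hN hFT hS ho' rfl he'.symm)

include hN in
theorem conj_of_all (hFT : FT.{u}) (hS : HS G) {t : G} (ht : orderOf t = 2)
    (hE : ∀ e : G, orderOf e = 2 → e * t = t * e → centralizer ({e} : Set G) = centralizer ({t} : Set G)) :
    ∀ s : G, orderOf s = 2 → IsConj t s := by
  have hcomm := comm_of_all hN hFT hS ht hE
  intro s hs
  by_contra hcon
  have h1 : ∀ g : G, g * s * g⁻¹ ∈ centralizer ({t} : Set G) := by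
    intro g
    have hs' : orderOf (g * s * g⁻¹) = 2 := by rw [ord_conj]; exact hs
    have hnc : ¬ IsConj t (g * s * g⁻¹) := by
      intro h
      apply hcon
      have h2 : IsConj (g * s * g⁻¹) s := (isConj_iff.2 ⟨g, rfl⟩ : IsConj s (g * s * g⁻¹)).symm
      exact h.trans h2
    rcases Nat.even_or_odd (orderOf (t * (g * s * g⁻¹))) with he | ho
    · obtain ⟨z, _, hz2, hzt, hzs⟩ := InvAct.exists_central_of_even ht hs' he
      rw [← hE z hz2 hzt]
      exact mem_cent.2 hzs.symm
    · exfalso
      obtain ⟨k, hk, _⟩ := InvAct.exists_conj_of_odd ht hs' ho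
      exact hnc (isConj_iff.2 ⟨_, hk⟩)
  have h2 : normalClosure ({s} : Set G) ≤ centralizer ({t} : Set G) := by
    rw [normalClosure, closure_le]
    intro x hx
    obtain ⟨y, hy, hyx⟩ := Group.mem_conjugatesOfSet_iff.1 hx
    rw [Set.mem_singleton_iff] at hy
    subst hy
    obtain ⟨c, hc⟩ := isConj_iff.1 hyx
    rw [← hc]
    exact h1 c
  have h3 := hS (normalClosure ({s} : Set G)) inferInstance
    (solvable_of_comm (fun a ha b hb => hcomm a (h2 ha) b (h2 hb)))
  have h4 : s ∈ normalClosure ({s} : Set G) := subset_normalClosure (Set.mem_singleton s)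
  rw [h3, Subgroup.mem_bot] at h4
  exact ne_one_of hs h4

include hN in
/-- **the strongly embedded case** -/
theorem sel (hFT : FT.{u}) (hS : HS G) {t : G} (ht : orderOf t = 2)
    (hE : ∀ e : G, orderOf e = 2 → e * t = t * e → centralizer ({e} : Set G) = centralizer ({t} : Set G)) :
    ∀ x : G, x * t = t * x → x * x = 1 := by
  cases nonempty_fintype G
  have hcomm := comm_of_all hN hFT hS ht hE
  have hconj := conj_of_all hN hFT hS ht hE
  set H := centralizer ({t} : Set G) with hH
  have htH : t ∈ H := mem_cent.2 rfl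
  have key : ∀ h ∈ H, h ≠ 1 → normalizer ((zpowers h : Subgroup G) : Set G) = H :=
    fun h hh h1 => norm_of_all hN ht hE (mem_cent.1 hh) h1
  have hcle : ∀ k ∈ H, k ≠ 1 → centralizer ({k} : Set G) ≤ H := by
    intro k hk hk1 c hc
    rw [← key k hk hk1, Subgroup.mem_normalizer_iff]
    have hck : c * k * c⁻¹ = k := comm_iff.2 (mem_cent.1 hc)
    intro y
    constructor
    · intro hy
      obtain ⟨m, rfl⟩ := mem_zpowers_iff.1 hy
      have e : c * k ^ m * c⁻¹ = (c * k * c⁻¹) ^ m := by
        rw [conj_zpow]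
      rw [e, hck]; exact zpow_mem (mem_zpowers k) m
    · intro hy
      obtain ⟨m, hm⟩ := mem_zpowers_iff.1 hy
      have e : y = c⁻¹ * k ^ m * c := by rw [hm]; group
      have hck' : c⁻¹ * k ^ m * c = k ^ m := by
        have h5 : Commute c (k ^ m) := (show Commute c k from mem_cent.1 hc).zpow_right m
        rw [mul_assoc, ← h5.eq, inv_mul_cancel_left]
      rw [e, hck']; exact zpow_mem (mem_zpowers k) m
  have hTI : ∀ g : G, g ∉ normalizer (H : Set G) → ∀ k ∈ H, g * k * g⁻¹ ∈ H → k = 1 := by
    intro g hg k hk hgk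
    by_contra hk1
    apply hg
    have h1 := key k hk hk1
    have hgk1 : g * k * g⁻¹ ≠ 1 := by
      intro h; apply hk1
      have : k = g⁻¹ * (g * k * g⁻¹) * g := by group
      rw [this, h]; group
    have h2 := key _ hgk hgk1
    -- C(k) = H since H abelian
    have h3 : centralizer ({k} : Set G) = H := by
      apply le_antisymm (hcle k hk hk1)
      intro x hx
      exact mem_cent.2 (hcomm x hx k hk)
    have h4 : centralizer ({g * k * g⁻¹} : Set G) = H := by
      apply le_antisymm (hcle _ hgk hgk1)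
      intro x hx
      exact mem_cent.2 (hcomm x hx _ hgk)
    have h5 : g ∈ normalizer ((centralizer ({k} : Set G) : Subgroup G) : Set G) :=
      mem_norm_cent (by rw [h4, h3])
    rwa [h3] at h5
  have hnn : ¬ H.Normal := by
    intro hn
    have := hS H hn (solvable_of_comm hcomm)
    rw [this, Subgroup.mem_bot] at htH
    exact ne_one_of ht htH
  have hd : 2 ≤ (H.subgroupOf (normalizer (H : Set G))).index := by
    obtain ⟨g, hg1, hg2⟩ := exists_fused hFT hS ht
    have h1 : g ∈ normalizer (H : Set G) := mem_norm_cent (hE _ (by rw [ord_conj]; exact ht) hg2)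
    have h2 : g ∉ H := by
      intro h
      exact hg1 (comm_iff.2 (mem_cent.1 h))
    have h3 : (H.subgroupOf (normalizer (H : Set G))).index ≠ 1 := by
      rw [ne_eq, Subgroup.index_eq_one, Subgroup.subgroupOf_eq_top]
      intro h; exact h2 (h h1)
    have h4 : (H.subgroupOf (normalizer (H : Set G))).index ≠ 0 := Subgroup.index_ne_zero_of_finite
    omega
  intro x hx
  have := CAElem.elementary H hTI hcle hcomm hnn t htH ht hconj hd x (mem_cent.2 hx)
  rwa [pow_two] at this

end Cfsg.Agent.Lib.NCyc
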