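import Cfsg.Agent.Lib.NCyc4
import Cfsg.Agent.Lib.SubgroupTools
import Cfsg.Agent.Lib.ThompsonTransfer

/-!
# NCyc, part 5 (helper4, for S3730): transfer, inheritance to normal subgroups
-/

set_option autoImplicit false
set_option linter.all false

namespace Cfsg.Agent.Lib.NCyc

open Subgroup

universe u
variable {G : Type u} [Group G]

theorem isSolvable_sup {X Y : Subgroup G} (hX : Group.IsSolvable X) (hY : Group.IsSolvable Y)
    (hn : Y ≤ normalizer (X : Set G)) : Group.IsSolvable ↥(X ⊔ Y) := by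
  have hXn : (X.subgroupOf (X ⊔ Y)).Normal := by
    apply normal_subgroupOf_of_le_normalizer
    exact sup_le le_normalizer hn
  have h3 : Group.IsSolvable ↥(X.subgroupOf (X ⊔ Y)) :=
    Group.isSolvable_of_isSolvable_injective
      (f := (Subgroup.subgroupOfEquivOfLe (le_sup_left : X ≤ X ⊔ Y)).toMonoidHom)
      (Subgroup.subgroupOfEquivOfLe (le_sup_left : X ≤ X ⊔ Y)).injective
  have h4 : Group.IsSolvable (↥(X ⊔ Y) ⧸ X.subgroupOf (X ⊔ Y)) := by
    have hsurj : Function.Surjective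
        ((QuotientGroup.mk' (X.subgroupOf (X ⊔ Y))).comp
          (Subgroup.inclusion (le_sup_right : Y ≤ X ⊔ Y))) := by
      intro q
      obtain ⟨z, rfl⟩ := QuotientGroup.mk'_surjective _ q
      have hz := z.2
      rw [SubgroupTools.mem_sup_of_le_normalizer hn] at hz
      obtain ⟨x, hx, y, hy, hxy⟩ := hz
      refine ⟨⟨y, hy⟩, ?_⟩
      simp only [MonoidHom.comp_apply, QuotientGroup.mk'_apply]
      rw [QuotientGroup.eq, mem_subgroupOf]
      have h5 : ((((Subgroup.inclusion (le_sup_right : Y ≤ X ⊔ Y)) ⟨y, hy⟩)⁻¹ * z :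
          ↥(X ⊔ Y)) : G) = y⁻¹ * x * y := by
        rw [Subgroup.coe_mul, ← hxy]
        simp [mul_assoc]
      rw [h5]
      have h6 := (Subgroup.mem_normalizer_iff.1 (inv_mem (hn hy)) x).1 hx
      rwa [inv_inv] at h6
    exact Group.isSolvable_of_surjective hsurj
  exact Group.isSolvable_of_ker_le_range (X.subgroupOf (X ⊔ Y)).subtype
    (QuotientGroup.mk' (X.subgroupOf (X ⊔ Y))) (by
      rw [QuotientGroup.ker_mk', Subgroup.range_subtype])

theorem isSolvable_map {H : Type*} [Group H] (f : G →* H) {X : Subgroup G} (hX : Group.IsSolvable X) :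
    Group.IsSolvable ↥(X.map f) := by
  have hsurj : Function.Surjective (f.subgroupMap X) := f.subgroupMap_surjective X
  exact Group.isSolvable_of_surjective hsurj

theorem hs_sub [Finite G] {M : Subgroup G} (hM : M.Normal) (hS : HS G) : HS ↥M := by
  classical
  let T := {X : Subgroup G // X ≤ M ∧ M ≤ normalizer (X : Set G) ∧ Group.IsSolvable X}
  have hne : Nonempty T := ⟨⟨⊥, bot_le, by
    intro m _; rw [Subgroup.mem_normalizer_iff]; intro h; simp [Subgroup.mem_bot], inferInstance⟩⟩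
  obtain ⟨⟨X, hX1, hX2, hX3⟩, hmax⟩ := Finite.exists_max (fun X : T => Nat.card X.1)
  have hXn : X.Normal := by
    rw [← Subgroup.normalizer_eq_top_iff, Subgroup.eq_top_iff']
    intro g
    set Y := X.map (MulAut.conj g).toMonoidHom with hY
    have hYm : ∀ y, y ∈ Y ↔ g⁻¹ * y * g ∈ X := by
      intro y
      rw [hY, Subgroup.mem_map_equiv]
      have : (MulAut.conj g).symm y = g⁻¹ * y * g := by simp
      rw [this]
    have hY1 : Y ≤ M := by
      intro y hy
      have h1 := hM.conj_mem _ (hX1 ((hYm y).1 hy)) g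
      have e : g * (g⁻¹ * y * g) * g⁻¹ = y := by group
      rwa [e] at h1
    have hY2 : M ≤ normalizer (Y : Set G) := by
      intro m hm
      have hm' : g⁻¹ * m * g ∈ M := by
        have := hM.conj_mem m hm g⁻¹
        rwa [inv_inv] at this
      have h1 := hX2 hm'
      rw [Subgroup.mem_normalizer_iff] at h1 ⊢
      intro y
      rw [hYm, hYm, h1 (g⁻¹ * y * g)]
      have e : g⁻¹ * m * g * (g⁻¹ * y * g) * (g⁻¹ * m * g)⁻¹ = g⁻¹ * (m * y * m⁻¹) * g := by group
      rw [e]
    have hY3 : Group.IsSolvable Y := isSolvable_map _ hX3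
    have hXY : Y ≤ normalizer (X : Set G) := hY1.trans hX2
    have h1 : Group.IsSolvable ↥(X ⊔ Y) := isSolvable_sup hX3 hY3 hXY
    have h2 : M ≤ normalizer ((X ⊔ Y : Subgroup G) : Set G) := by
      intro m hm
      rw [Subgroup.mem_normalizer_iff]
      have key : ∀ m ∈ M, ∀ z ∈ X ⊔ Y, m * z * m⁻¹ ∈ X ⊔ Y := by
        intro m hm z hz
        rw [SubgroupTools.mem_sup_of_le_normalizer hXY] at hz
        obtain ⟨x, hx, y, hy, rfl⟩ := hz
        have e : m * (x * y) * m⁻¹ = (m * x * m⁻¹) * (m * y * m⁻¹) := by group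
        rw [e]
        exact mul_mem (Subgroup.mem_sup_left ((Subgroup.mem_normalizer_iff.1 (hX2 hm) x).1 hx))
          (Subgroup.mem_sup_right ((Subgroup.mem_normalizer_iff.1 (hY2 hm) y).1 hy))
      intro z
      refine ⟨key m hm z, fun hz => ?_⟩
      have := key m⁻¹ (inv_mem hm) _ hz
      have e : m⁻¹ * (m * z * m⁻¹) * m⁻¹⁻¹ = z := by group
      rwa [e] at this
    have h3 := hmax ⟨X ⊔ Y, sup_le hX1 hY1, h2, h1⟩
    have h4 : X = X ⊔ Y := Subgroup.eq_of_le_of_card_ge le_sup_left h3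
    have h5 : Y ≤ X := by rw [h4]; exact le_sup_right
    have h6 : Y = X := Subgroup.eq_of_le_of_card_ge h5 (by
      rw [hY, Subgroup.card_map_of_injective (MulAut.conj g).injective])
    rw [Subgroup.mem_normalizer_iff]
    intro x
    nth_rewrite 2 [← h6]
    rw [hYm]
    have e : g⁻¹ * (g * x * g⁻¹) * g = x := by group
    rw [e]
  have hXbot : X = ⊥ := hS X hXn hX3
  intro R hR hRs
  have h1 : (R.map M.subtype) ≤ M := by
    rintro _ ⟨r, _, rfl⟩; exact r.2
  have h2 : M ≤ normalizer ((R.map M.subtype : Subgroup G) : Set G) := by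
    intro m hm
    rw [Subgroup.mem_normalizer_iff]
    have key : ∀ m ∈ M, ∀ z ∈ R.map M.subtype, m * z * m⁻¹ ∈ R.map M.subtype := by
      rintro m hm _ ⟨r, hr, rfl⟩
      exact ⟨⟨m, hm⟩ * r * ⟨m, hm⟩⁻¹, hR.conj_mem r hr ⟨m, hm⟩, rfl⟩
    intro z
    refine ⟨key m hm z, fun hz => ?_⟩
    have := key m⁻¹ (inv_mem hm) _ hz
    have e : m⁻¹ * (m * z * m⁻¹) * m⁻¹⁻¹ = z := by group
    rwa [e] at this
  have h3 := hmax ⟨R.map M.subtype, h1, h2, isSolvable_map _ hRs⟩
  simp only [hXbot, Subgroup.card_bot] at h3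
  have h4 : R.map M.subtype = ⊥ := Subgroup.card_eq_one.1 (le_antisymm h3 Nat.card_pos)
  exact (Subgroup.map_eq_bot_iff_of_injective R M.subtype_injective).1 h4

theorem hn_sub (hN : HN G) (M : Subgroup G) : HN ↥M := by
  intro X hX hXe Y hYX hY
  have hinj : Function.Injective M.subtype := M.subtype_injective
  have hcyc : IsCyclic ↥(X.map M.subtype) :=
    isCyclic_of_surjective (M.subtype.subgroupMap X) (M.subtype.subgroupMap_surjective X)
  have hcard : Nat.card ↥(X.map M.subtype) = Nat.card X := Subgroup.card_map_of_injective hinj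
  have h1 := hN (X.map M.subtype) hcyc (by rw [hcard]; exact hXe) (Y.map M.subtype)
    (Subgroup.map_mono hYX) (by rwa [ne_eq, Subgroup.map_eq_bot_iff_of_injective _ hinj])
  have key : ∀ Z : Subgroup ↥M, ∀ m : ↥M, m ∈ normalizer (Z : Set ↥M) ↔
      (m : G) ∈ normalizer ((Z.map M.subtype : Subgroup G) : Set G) := by
    intro Z m
    rw [Subgroup.mem_normalizer_iff, Subgroup.mem_normalizer_iff]
    constructor
    · intro h z
      constructor
      · rintro ⟨w, hw, rfl⟩
        exact ⟨m * w * m⁻¹, (h w).1 hw, rfl⟩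
      · rintro ⟨w, hw, hwz⟩
        refine ⟨m⁻¹ * w * m, ?_, ?_⟩
        · apply (h _).2
          have e : m * (m⁻¹ * w * m) * m⁻¹ = w := by group
          rw [e]; exact hw
        · have e : z = (m : G)⁻¹ * ((m : G) * z * (m : G)⁻¹) * m := by group
          rw [e, ← hwz]; rfl
    · intro h w
      have h2 := h (w : G)
      constructor
      · intro hw
        obtain ⟨w', hw', e⟩ := h2.1 ⟨w, hw, rfl⟩
        have : w' = m * w * m⁻¹ := Subtype.ext e
        rw [← this]; exact hw'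
      · intro hw
        obtain ⟨w', hw', e⟩ := h2.2 ⟨m * w * m⁻¹, hw, rfl⟩
        have : w' = w := Subtype.ext e
        rw [← this]; exact hw'
  ext m
  rw [key X m, key Y m, h1]

/-- transfer into a subgroup of index two of a Sylow 2-subgroup -/
theorem transfer_strong [Finite G] (P : Subgroup G) (hodd : ¬ 2 ∣ P.index) (Q : Subgroup G)
    (hQi : Q.relIndex P = 2)
    (hfus : ∀ a ∈ P, ∀ g : G, g * a * g⁻¹ ∈ P → (a ∈ Q ↔ g * a * g⁻¹ ∈ Q)) :
    ∃ M : Subgroup G, M.Normal ∧ M.index = 2 ∧ ∀ a ∈ P, (a ∈ M ↔ a ∈ Q) := by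
  set Q' : Subgroup P := Q.subgroupOf P with hQ'
  have hidx : Q'.index = 2 := hQi
  have hnorm : Q'.Normal := Subgroup.normal_of_index_eq_two hidx
  have hcard : Nat.card (P ⧸ Q') = 2 := by rw [← Subgroup.index_eq_card]; exact hidx
  have hcyc : IsCyclic (P ⧸ Q') := isCyclic_of_prime_card hcard
  letI : CommGroup (P ⧸ Q') :=
    { (inferInstance : Group (P ⧸ Q')) with
      mul_comm := fun a b => (IsCyclic.commGroup (α := P ⧸ Q')).mul_comm a b }
  let ϕ : P →* (P ⧸ Q') := QuotientGroup.mk' Q'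
  have hϕ : ∀ (v : G) (hv : v ∈ P), ϕ ⟨v, hv⟩ = 1 ↔ v ∈ Q := by
    intro v hv
    exact (QuotientGroup.eq_one_iff (N := Q') (⟨v, hv⟩ : P)).trans Subgroup.mem_subgroupOf
  have hval : ∀ (u : G) (hu : u ∈ P), MonoidHom.transfer ϕ u = ϕ ⟨u, hu⟩ := by
    intro u huP
    set t := ϕ ⟨u, huP⟩ with ht
    have ht2 : t ^ 2 = 1 := by rw [← hcard]; exact pow_card_eq_one'
    have hfac : ∀ (k : ℕ) (g₀ : G) (hk : g₀⁻¹ * u ^ k * g₀ ∈ P), ϕ ⟨g₀⁻¹ * u ^ k * g₀, hk⟩ = t ^ k := by
      intro k g₀ hk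
      have h1 : t ^ k = ϕ ⟨u ^ k, P.pow_mem huP k⟩ := by
        rw [ht, ← map_pow]; rfl
      rw [h1]
      have h2 := hfus (u ^ k) (P.pow_mem huP k) g₀⁻¹ (by rwa [inv_inv])
      rw [inv_inv] at h2
      have h3 := hϕ _ hk
      have h4 := hϕ _ (P.pow_mem huP k)
      by_cases h5 : u ^ k ∈ Q
      · rw [h3.2 (h2.1 h5), h4.2 h5]
      · exact ThompsonTransfer.eq_of_card_two hcard (fun h => h5 (h2.2 (h3.1 h))) (fun h => h5 (h4.1 h))
    have hV : MonoidHom.transfer ϕ u = t ^ P.index := by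
      have : Fintype (Quotient (MulAction.orbitRel (zpowers (u : G)) (G ⧸ P))) := Fintype.ofFinite _
      rw [MonoidHom.transfer_eq_prod_quotient_orbitRel_zpowers_quot, index_eq_sum_minimalPeriod P u,
        ← Finset.prod_pow_eq_pow_sum]
      apply Finset.prod_congr rfl
      intro q _
      exact hfac _ _ _
    rw [hV]
    obtain ⟨k, hk⟩ := Nat.odd_iff.mpr (Nat.two_dvd_ne_zero.mp hodd)
    rw [hk, pow_succ, pow_mul, ht2, one_pow, one_mul]
  refine ⟨(MonoidHom.transfer ϕ).ker, inferInstance, ?_, ?_⟩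
  · rw [Subgroup.index_ker]
    have h1 : Nat.card (MonoidHom.transfer ϕ).range ∣ 2 := by
      rw [← hcard]; exact Subgroup.card_subgroup_dvd_card _
    rcases (Nat.dvd_prime Nat.prime_two).mp h1 with h | h
    · exfalso
      rw [Subgroup.card_eq_one] at h
      obtain ⟨u, huP, huQ⟩ : ∃ u ∈ P, u ∉ Q := by
        by_contra hcon
        push Not at hcon
        have : Q.relIndex P = 1 := Subgroup.relIndex_eq_one.2 hcon
        omega
      have : MonoidHom.transfer ϕ u ∈ (MonoidHom.transfer ϕ).range := ⟨u, rfl⟩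
      rw [h, Subgroup.mem_bot, hval u huP] at this
      exact huQ ((hϕ u huP).1 this)
    · exact h
  · intro a ha
    rw [MonoidHom.mem_ker, hval a ha]
    exact hϕ a ha

end Cfsg.Agent.Lib.NCyc
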