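import Cfsg.Agent.Lib.NCyc5

/-!
# NCyc, part 6 (helper4, for S3730): the homocyclic configuration is impossible
-/

set_option autoImplicit false
set_option linter.all false

namespace Cfsg.Agent.Lib.NCyc

open Subgroup

universe u
variable {G : Type u} [Group G] [Finite G] (hN : HN G)

structure HomC (y t z v : G) : Prop where
  ht : orderOf t = 2
  hv : orderOf v = 2
  hne : t ≠ v
  hy : y * y = t
  hz : z * z = v
  heq : centralizer ({t} : Set G) = centralizer ({v} : Set G)

omit [Finite G] in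
theorem ord_mul {t v : G} (ht : orderOf t = 2) (hv : orderOf v = 2) (hne : t ≠ v)
    (hc : v * t = t * v) : orderOf (t * v) = 2 := by
  apply ord_two
  · calc t * v * (t * v) = t * (v * t) * v := by group
      _ = (t * t) * (v * v) := by rw [hc]; group
      _ = 1 := by rw [sq_of ht, sq_of hv, one_mul]
  · intro h
    apply hne
    have := eq_inv_of_mul_eq_one_left h
    rw [inv_of hv] at this; exact this

/-- Sylow subgroups inside an intermediate subgroup of odd index: conjugating 2-elements -/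
theorem conj_into_sylow {P : Sylow 2 G} {H : Subgroup G} (hPH : (P : Subgroup G) ≤ H) {x : G} (hx : x ∈ H)
    (hx2 : ∃ n, orderOf x = 2 ^ n) : ∃ c ∈ H, c * x * c⁻¹ ∈ (P : Subgroup G) := by
  have : Fact (Nat.Prime 2) := ⟨Nat.prime_two⟩
  let P' : Sylow 2 H := P.subtype hPH
  obtain ⟨n, hn⟩ := hx2
  have hz : IsPGroup 2 (zpowers (⟨x, hx⟩ : H)) := by
    apply IsPGroup.of_card (n := n)
    rw [Nat.card_zpowers, Subgroup.orderOf_mk, hn]
  obtain ⟨Q, hQ⟩ := hz.exists_le_sylow
  obtain ⟨c, hc⟩ := MulAction.exists_smul_eq H Q P'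
  refine ⟨c, c.2, ?_⟩
  have h1 : (⟨x, hx⟩ : H) ∈ (Q : Subgroup H) := hQ (mem_zpowers _)
  have h2 : c * ⟨x, hx⟩ * c⁻¹ ∈ ((c • Q : Sylow 2 H) : Subgroup H) := by
    rw [Sylow.coe_subgroup_smul, Subgroup.mem_pointwise_smul_iff_inv_smul_mem]
    simp only [MulAut.smul_def, MulAut.inv_apply]
    have : (MulAut.conj c).symm (c * ⟨x, hx⟩ * c⁻¹) = ⟨x, hx⟩ := by simp [mul_assoc]
    rw [this]
    exact h1
  rw [hc] at h2
  exact h2

namespace HomC

variable {y t z v : G} (D : HomC y t z v)

include D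

omit [Finite G] in
theorem hc : v * t = t * v := by
  have : v ∈ centralizer ({t} : Set G) := by rw [D.heq]; exact mem_cent.2 rfl
  exact mem_cent.1 this

omit [Finite G] in
theorem comm_of {h : G} (hh : h * t = t * h) : h * v = v * h := by
  have : h ∈ centralizer ({v} : Set G) := by rw [← D.heq]; exact mem_cent.2 hh
  exact mem_cent.1 this

omit [Finite G] in
theorem hyv : y * v = v * y := D.comm_of (y_comm D.hy)

omit [Finite G] in
theorem hzt : z * t = t * z := by
  have : z ∈ centralizer ({t} : Set G) := by rw [D.heq]; exact mem_cent.2 (y_comm D.hz)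
  exact mem_cent.1 this

include hN in
theorem hyz : y * z = z * y := comm_of_sq hN D.ht D.hv D.hne D.hy D.hz D.hyv D.hzt

omit [Finite G] in
theorem or : orderOf (t * v) = 2 := ord_mul D.ht D.hv D.hne D.hc

include hN in
theorem hyzz : (y * z) * (y * z) = t * v := by
  calc (y * z) * (y * z) = y * (z * y) * z := by group
    _ = (y * y) * (z * z) := by rw [← D.hyz hN]; group
    _ = t * v := by rw [D.hy, D.hz]

include hN in
theorem hyzz' : (y * z⁻¹) * (y * z⁻¹) = t * v := by
  have h1 : y * z⁻¹ = z⁻¹ * y := (Commute.inv_right (show Commute y z from D.hyz hN)).eq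
  calc (y * z⁻¹) * (y * z⁻¹) = y * (z⁻¹ * y) * z⁻¹ := by group
    _ = (y * y) * (z * z)⁻¹ := by rw [← h1]; group
    _ = t * v := by rw [D.hy, D.hz, inv_of D.hv]

include hN in
theorem same_sign {b : G} (hbt : b * t = t * b) :
    (b * y = y * b ∧ b * z = z * b) ∨ (b * y * b⁻¹ = y⁻¹ ∧ b * z * b⁻¹ = z⁻¹) := by
  have hbv := D.comm_of hbt
  have ht := D.ht
  have ov := D.hv
  have hyz := D.hyz hN
  have hbr : b * (t * v) = (t * v) * b := by
    calc b * (t * v) = (b * t) * v := by group
      _ = t * (b * v) := by rw [hbt]; group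
      _ = (t * v) * b := by rw [hbv]; group
  have e : b * (y * z) * b⁻¹ = (b * y * b⁻¹) * (b * z * b⁻¹) := by group
  rcases conj_four hN ht D.hy hbt with h1 | h1 <;> rcases conj_four hN ov D.hz hbv with h2 | h2
  · exact Or.inl ⟨comm_iff.1 h1, comm_iff.1 h2⟩
  · exfalso
    rcases conj_four hN D.or (D.hyzz hN) hbr with h3 | h3
    · rw [e, h1, h2] at h3
      exact y_ne ov D.hz (mul_left_cancel h3).symm
    · rw [e, h1, h2, hyz, mul_inv_rev z y] at h3
      exact y_ne ht D.hy (mul_right_cancel h3)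
  · exfalso
    rcases conj_four hN D.or (D.hyzz hN) hbr with h3 | h3
    · rw [e, h1, h2] at h3
      exact y_ne ht D.hy (mul_right_cancel h3).symm
    · rw [e, h1, h2, hyz, mul_inv_rev z y] at h3
      exact y_ne ov D.hz (mul_left_cancel h3)
  · exact Or.inr ⟨h1, h2⟩

include hN in
theorem invol_central {i h : G} (hi : i * i = 1) (hiy : i * y = y * i) (hh : h * t = t * h) :
    h * i = i * h := by
  have hit : i * t = t * i := by rw [← D.hy]; exact ((show Commute i y from hiy).mul_right hiy).eq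
  have hiz : i * z = z * i := by
    rcases D.same_sign hN hit with h1 | h1
    · exact h1.2
    · exfalso
      rw [hiy, mul_inv_cancel_right] at h1
      exact y_ne D.ht D.hy h1.1
  rw [← comm_iff]
  rcases conj_invol hN D.ht D.hy hi hiy hh with h1 | h1
  · exact h1
  rcases conj_invol hN D.hv D.hz hi hiz (D.comm_of hh) with h2 | h2
  · exact h2
  · exfalso
    rw [h1] at h2
    exact D.hne (mul_right_cancel h2)

include hN in
theorem odd_mem {i x : G} (hi : i * i = 1) (hi1 : i ≠ 1) (hiy : i * y = y * i) (hx : x * i = i * x)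
    (ho : Odd (orderOf x)) : x * t = t * x := by
  have oi := ord_two hi hi1
  have hit : i * t = t * i := by rw [← D.hy]; exact ((show Commute i y from hiy).mul_right hiy).eq
  have hiv : i * v = v * i := D.comm_of hit
  by_contra hxt
  have hx1 : x ≠ 1 := by rintro rfl; apply hxt; group
  -- an involution `s` with `C(s) = C(t)` inverts `x`
  have key : ∀ s : G, orderOf s = 2 → centralizer ({s} : Set G) = centralizer ({t} : Set G) →
      i * s = s * i → s * x * s⁻¹ = x⁻¹ := by
    intro s hs hCs his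
    have hsx : ∀ w ∈ zpowers x, s * w * s⁻¹ ∈ zpowers x := by
      intro w hw
      have h1 : s ∈ normalizer ((zpowers x : Subgroup G) : Set G) := by
        rw [norm_zpowers hN oi hx1 hx (Or.inl ho)]; exact mem_cent.2 his.symm
      exact (Subgroup.mem_normalizer_iff.1 h1 w).1 hw
    have h2 := BSW.inverts_of_fpf (C := zpowers x) (a := s) hs hsx (by
      intro w hw hws
      by_contra hw1
      apply hxt
      have hwo : Odd (orderOf w) := by
        obtain ⟨c, hc⟩ := orderOf_dvd_of_mem_zpowers hw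
        rw [hc] at ho; exact (Nat.odd_mul.1 ho).1
      have hwi : w * i = i * w := by
        obtain ⟨m, rfl⟩ := mem_zpowers_iff.1 hw
        exact ((show Commute x i from hx).zpow_left m).eq
      have h3 := norm_zpowers hN oi hw1 hwi (Or.inl hwo)
      have h4 := norm_zpowers hN hs hw1 (comm_iff.1 hws).symm (Or.inl hwo)
      have h5 : x ∈ centralizer ({t} : Set G) := by
        rw [← hCs, ← h4, h3]; exact mem_cent.2 hx
      exact mem_cent.1 h5)
    exact h2 x (mem_zpowers x)
  have h1 := key t D.ht rfl hit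
  have h2 := key v D.hv D.heq.symm hiv
  have h3 : x * (t * v) = (t * v) * x := by
    symm
    rw [← comm_iff]
    calc t * v * x * (t * v)⁻¹ = t * (v * x * v⁻¹) * t⁻¹ := by group
      _ = t * x⁻¹ * t⁻¹ := by rw [h2]
      _ = (t * x * t⁻¹)⁻¹ := by group
      _ = x := by rw [h1, inv_inv]
  have h4 := odd_comm hN D.or (D.hyzz hN) h3 ho
  have h5 := odd_comm hN D.or (D.hyzz' hN) h3 ho
  apply hxt
  have h6 : (y * z) * (y * z⁻¹) = t := by
    calc (y * z) * (y * z⁻¹) = y * (z * y) * z⁻¹ := by group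
      _ = y * y := by rw [← D.hyz hN]; group
      _ = t := D.hy
  rw [← h6]
  exact ((show Commute x (y * z) from h4).mul_right h5).eq

include hN in
/-- involutions commuting with `y` have the same centralizer as `t` -/
theorem cent_invol {P : Sylow 2 G} (hP : (P : Subgroup G) ≤ centralizer ({t} : Set G))
    {i : G} (hi : i * i = 1) (hi1 : i ≠ 1) (hiy : i * y = y * i) :
    centralizer ({i} : Set G) = centralizer ({t} : Set G) := by
  have oi := ord_two hi hi1
  have hle : centralizer ({t} : Set G) ≤ centralizer ({i} : Set G) := fun h hh =>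
    mem_cent.2 (D.invol_central hN hi hiy (mem_cent.1 hh))
  apply le_antisymm _ hle
  have : Fact (Nat.Prime 2) := ⟨Nat.prime_two⟩
  set L := centralizer ({i} : Set G) with hL
  set U := (oddCore L).map L.subtype with hU
  have hUL : U ≤ L := Subgroup.map_subtype_le _
  have hUt : U ≤ centralizer ({t} : Set G) := by
    rintro _ ⟨w, hw, rfl⟩
    have hodd : Odd (Nat.card (oddCore L)) := H23Basic.odd_card_oddCore
    have ho : Odd (orderOf (w : G)) := by
      rw [Subgroup.orderOf_coe]
      obtain ⟨c, hc⟩ : orderOf w ∣ Nat.card (oddCore L) := by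
        rw [← Subgroup.orderOf_mk w hw]; exact orderOf_dvd_natCard _
      rw [hc] at hodd; exact (Nat.odd_mul.1 hodd).1
    exact mem_cent.2 (D.odd_mem hN hi hi1 hiy (mem_cent.1 w.2) ho)
  have h1 : ∃ n, U.relIndex L = 2 ^ n := by
    have h2 := isPGroup_quot hN oi
    obtain ⟨n, hn⟩ := (IsPGroup.iff_card.1 h2)
    refine ⟨n, ?_⟩
    rw [← hn, hU, Subgroup.relIndex, Subgroup.subgroupOf, Subgroup.comap_map_eq_self_of_injective L.subtype_injective]
    rfl
  obtain ⟨n, hn⟩ := h1
  have h3 : (centralizer ({t} : Set G)).relIndex L ∣ 2 ^ n := by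
    rw [← hn, ← Subgroup.relIndex_mul_relIndex U _ L hUt hle]
    exact Dvd.intro_left _ rfl
  have h4 : ¬ 2 ∣ (centralizer ({t} : Set G)).relIndex L := by
    intro hd
    have h5 : (centralizer ({t} : Set G)).relIndex L ∣ (P : Subgroup G).index := by
      have h6 := Subgroup.relIndex_mul_index hle
      have h7 := Subgroup.relIndex_mul_index hP
      rw [← h7, ← h6]
      exact Dvd.dvd.mul_left (Dvd.intro _ rfl) _
    exact P.not_dvd_index (hd.trans h5)
  obtain ⟨m, _, hm⟩ := (Nat.dvd_prime_pow Nat.prime_two).1 h3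
  rcases m with _ | m
  · rw [pow_zero, Subgroup.relIndex_eq_one] at hm
    exact hm
  · exfalso; apply h4; rw [hm, pow_succ]; exact Dvd.intro_left _ rfl

include hN in
theorem invol {k : G} (hk2 : ∃ n, orderOf k = 2 ^ n) (hkt : k * t = t * k)
    (hky : ¬ k * y = y * k) : k * k = 1 := by
  obtain ⟨hky, hkz⟩ : k * y * k⁻¹ = y⁻¹ ∧ k * z * k⁻¹ = z⁻¹ := by
    rcases D.same_sign hN hkt with h | h
    · exact absurd h.1 hky
    · exact h
  by_contra hkk
  have hk1 : k ≠ 1 := by rintro rfl; apply hkk; rw [one_mul]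
  obtain ⟨r, hr, hr2⟩ := exists_inv_of_two (two_pow_sq hk2) hkk
  have hrk : r ∈ zpowers k := by
    obtain ⟨n, hn⟩ := mem_zpowers_iff.1 hr
    rw [← hn]; exact zpow_mem (mul_mem (mem_zpowers k) (mem_zpowers k)) n
  have hkr : k * r = r * k := by
    obtain ⟨m, hm⟩ := mem_zpowers_iff.1 hrk
    rw [← hm]; exact ((Commute.refl k).zpow_right m).eq
  have key : ∀ (s w : G), orderOf s = 2 → w * w = s → k * s = s * k → k * w * k⁻¹ = w⁻¹ → s ∈ zpowers k := by
    intro s w hs hw hks hkw
    have hkkw : (k * k) * w = w * (k * k) := sq_comm hN hs hw hks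
    have hrw : w * r = r * w := by
      obtain ⟨n, hn⟩ := mem_zpowers_iff.1 hr
      rw [← hn]; exact ((show Commute w (k * k) from hkkw.symm).zpow_right n).eq
    have hyk : w * k * w⁻¹ = k * s := by
      have h1 : k * w = w⁻¹ * k := mul_inv_eq_iff_eq_mul.1 hkw
      have h2 : k = w * k * w := by rw [mul_assoc, h1]; group
      have h3 : w * k * w⁻¹ = k * (w⁻¹ * w⁻¹) := by
        nth_rewrite 2 [h2]; group
      rw [h3, ← mul_inv_rev, hw, inv_of hs]
    have h1 : w * k * w⁻¹ ∈ zpowers k := conj_mem hN hr2 hk1 hkr (Or.inr hrk) hrw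
    rw [hyk] at h1
    have := mul_mem (inv_mem (mem_zpowers k)) h1
    rwa [inv_mul_cancel_left] at this
  have h1 := key t y D.ht D.hy hkt hky
  have h2 := key v z D.hv D.hz (D.comm_of hkt) hkz
  exact D.hne (invol_unique h1 h2 D.ht D.hv)

end HomC

omit [Finite G] in
/-- index two criterion inside a subgroup -/
theorem relIndex_two {P C : Subgroup G} (h0 : ∃ a ∈ P, a ∉ C)
    (h1 : ∀ a ∈ P, ∀ b ∈ P, a ∉ C → b ∉ C → a * b ∈ C) : (P ⊓ C).relIndex P = 2 := by
  rw [Subgroup.relIndex, Subgroup.index_eq_two_iff]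
  obtain ⟨a, ha, haC⟩ := h0
  refine ⟨⟨a, ha⟩, fun b => ?_⟩
  have e : ∀ w : P, w ∈ (P ⊓ C).subgroupOf P ↔ (w : G) ∈ C := by
    intro w
    rw [Subgroup.mem_subgroupOf, Subgroup.mem_inf]
    exact ⟨fun h => h.2, fun h => ⟨w.2, h⟩⟩
  rw [e, e]
  by_cases hb : (b : G) ∈ C
  · right
    refine ⟨hb, fun h => haC ?_⟩
    have h2 : (b : G) * a ∈ C := h
    exact (Subgroup.mul_mem_cancel_left _ hb).1 h2
  · left
    exact ⟨h1 b b.2 a ha hb haC, hb⟩

theorem two_pow_of_mem {P : Sylow 2 G} {k : G} (hk : k ∈ (P : Subgroup G)) : ∃ n, orderOf k = 2 ^ n := by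
  obtain ⟨n, hn⟩ := (IsPGroup.iff_orderOf.1 P.isPGroup') ⟨k, hk⟩
  exact ⟨n, by rwa [Subgroup.orderOf_mk] at hn⟩

include hN in
/-- **the homocyclic configuration is impossible** -/
theorem caseII (hFT : FT.{u}) (hS : HS G) {P : Sylow 2 G} {t y : G} (ht : orderOf t = 2)
    (hy : y * y = t) (hyP : y ∈ (P : Subgroup G)) (hP : (P : Subgroup G) ≤ centralizer ({t} : Set G))
    (hII : ∀ g : G, g * t * g⁻¹ ≠ t → (g * t * g⁻¹) * t = t * (g * t * g⁻¹) →
      y * (g * t * g⁻¹) = (g * t * g⁻¹) * y) : False := by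
  have : Fact (Nat.Prime 2) := ⟨Nat.prime_two⟩
  obtain ⟨g0, hg1, hg2⟩ := exists_fused hFT hS ht
  have heq := cent_eq hN hFT hS ht hy hg1 hg2 (hII g0 hg1 hg2)
  have D : HomC y t (g0 * y * g0⁻¹) (g0 * t * g0⁻¹) :=
    { ht := ht
      hv := by rw [ord_conj]; exact ht
      hne := Ne.symm hg1
      hy := hy
      hz := by rw [← hy]; group
      heq := heq }
  have hcent : ∀ g : G, (g * t * g⁻¹) * t = t * (g * t * g⁻¹) →
      centralizer ({g * t * g⁻¹} : Set G) = centralizer ({t} : Set G) := by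
    intro g hg
    by_cases h : g * t * g⁻¹ = t
    · rw [h]
    · exact (cent_eq hN hFT hS ht hy h hg (hII g h hg)).symm
  -- conjugation by elements of `C(t)` and commuting with `y`
  have hyconj : ∀ c e : G, c * t = t * c → (c * e * c⁻¹) * y = y * (c * e * c⁻¹) → e * y = y * e := by
    intro c e hc he
    have hc' : c⁻¹ * t = t * c⁻¹ := (Commute.inv_left (show Commute c t from hc)).eq
    have h1 : e * (c⁻¹ * y * c) = (c⁻¹ * y * c) * e := by
      have := congrArg (fun w => c⁻¹ * w * c) he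
      calc e * (c⁻¹ * y * c) = c⁻¹ * (c * e * c⁻¹ * y) * c := by group
        _ = c⁻¹ * (y * (c * e * c⁻¹)) * c := by rw [he]
        _ = (c⁻¹ * y * c) * e := by group
    rcases conj_four hN ht hy hc' with h2 | h2
    · rw [inv_inv] at h2; rwa [h2] at h1
    · rw [inv_inv] at h2; rw [h2] at h1
      exact (Commute.inv_right_iff.1 (show Commute e y⁻¹ from h1)).eq
  by_cases hPy : ∀ p ∈ (P : Subgroup G), p * y = y * p
  · -- strongly embedded
    have h1 := sel hN hFT hS ht (by
      intro e he het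
      obtain ⟨c, hc, hcP⟩ := conj_into_sylow hP (mem_cent.2 het) ⟨1, by rw [pow_one]; exact he⟩
      exact D.cent_invol hN hP (sq_of he) (ne_one_of he) (hyconj c e (mem_cent.1 hc) (hPy _ hcP)))
    have h2 := h1 y (y_comm hy)
    rw [hy] at h2
    exact ne_one_of ht h2
  · push Not at hPy
    obtain ⟨p0, hp0, hp0y⟩ := hPy
    set C := centralizer ({y} : Set G) with hC
    have hPt : ∀ p ∈ (P : Subgroup G), p * t = t * p := fun p hp => mem_cent.1 (hP hp)
    have hidx : ((P : Subgroup G) ⊓ C).relIndex (P : Subgroup G) = 2 := by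
      apply relIndex_two ⟨p0, hp0, fun h => hp0y (mem_cent.1 h)⟩
      intro a ha b hb haC hbC
      rw [mem_cent] at haC hbC ⊢
      have h1 : a * y * a⁻¹ = y⁻¹ := (conj_four hN ht hy (hPt a ha)).resolve_left
        (fun h => haC (comm_iff.1 h))
      have h2 : b * y * b⁻¹ = y⁻¹ := (conj_four hN ht hy (hPt b hb)).resolve_left
        (fun h => hbC (comm_iff.1 h))
      rw [← comm_iff]
      calc a * b * y * (a * b)⁻¹ = a * (b * y * b⁻¹) * a⁻¹ := by group
        _ = (a * y * a⁻¹)⁻¹ := by rw [h2]; group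
        _ = y := by rw [h1, inv_inv]
    -- fusion
    have hf1 : ∀ a ∈ (P : Subgroup G), ∀ g : G, g * a * g⁻¹ ∈ (P : Subgroup G) → a * y = y * a →
        (g * a * g⁻¹) * y = y * (g * a * g⁻¹) := by
      intro a ha g hga hay
      by_contra hb
      have hbb := D.invol hN (two_pow_of_mem hga) (hPt _ hga) hb
      have hb1 : g * a * g⁻¹ ≠ 1 := by intro h; apply hb; rw [h]; group
      have haa : a * a = 1 := by
        have : a * a = g⁻¹ * ((g * a * g⁻¹) * (g * a * g⁻¹)) * g := by group
        rw [this, hbb]; group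
      have ha1 : a ≠ 1 := by rintro rfl; apply hb1; group
      have h1 := D.cent_invol hN hP haa ha1 hay
      have h2 := cent_conj_eq g h1
      have h3 : t ∈ centralizer ({g * a * g⁻¹} : Set G) := mem_cent.2 (hPt _ hga).symm
      rw [h2] at h3
      have h4 := hcent g (mem_cent.1 h3).symm
      apply hb
      have h5 : y ∈ centralizer ({g * a * g⁻¹} : Set G) := by
        rw [h2, h4]; exact mem_cent.2 (y_comm hy)
      exact (mem_cent.1 h5).symm
    have hfus : ∀ a ∈ (P : Subgroup G), ∀ g : G, g * a * g⁻¹ ∈ (P : Subgroup G) →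
        (a ∈ (P : Subgroup G) ⊓ C ↔ g * a * g⁻¹ ∈ (P : Subgroup G) ⊓ C) := by
      intro a ha g hga
      rw [Subgroup.mem_inf, Subgroup.mem_inf, hC, mem_cent, mem_cent]
      constructor
      · rintro ⟨_, h⟩; exact ⟨hga, hf1 a ha g hga h⟩
      · rintro ⟨_, h⟩
        have e : g⁻¹ * (g * a * g⁻¹) * g⁻¹⁻¹ = a := by group
        have := hf1 _ hga g⁻¹ (by rw [e]; exact ha) h
        rw [e] at this
        exact ⟨ha, this⟩
    obtain ⟨M, hM, _, hMP⟩ := transfer_strong (P : Subgroup G) P.not_dvd_index _ hidx hfus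
    have hyM : y ∈ M := (hMP y hyP).2 ⟨hyP, mem_cent.2 rfl⟩
    have htP : t ∈ (P : Subgroup G) := by rw [← hy]; exact mul_mem hyP hyP
    have htM : t ∈ M := by rw [← hy]; exact mul_mem hyM hyM
    have h1 := sel (G := ↥M) (hn_sub hN M) hFT (hs_sub hM hS) (t := ⟨t, htM⟩)
      (by rw [Subgroup.orderOf_mk]; exact ht) (by
      intro e he het
      have he' : orderOf (e : G) = 2 := by rw [Subgroup.orderOf_coe]; exact he
      have het' : (e : G) * t = t * e := congrArg Subtype.val het
      obtain ⟨c, hc, hcP⟩ := conj_into_sylow hP (mem_cent.2 het') ⟨1, by rw [pow_one]; exact he'⟩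
      have h2 : c * e * c⁻¹ ∈ M := hM.conj_mem _ e.2 c
      have h3 := ((hMP _ hcP).1 h2).2
      have h4 := hyconj c e (mem_cent.1 hc) (mem_cent.1 h3)
      have h5 := D.cent_invol hN hP (sq_of he') (ne_one_of he') h4
      ext x
      rw [mem_cent, mem_cent]
      have h6 : (x : G) ∈ centralizer ({(e : G)} : Set G) ↔ (x : G) ∈ centralizer ({t} : Set G) := by rw [h5]
      rw [mem_cent, mem_cent] at h6
      constructor
      · intro h; exact Subtype.ext (h6.1 (congrArg Subtype.val h))
      · intro h; exact Subtype.ext (h6.2 (congrArg Subtype.val h)))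
    have h2 := congrArg Subtype.val (h1 ⟨y, hyM⟩ (Subtype.ext (y_comm hy)))
    have h3 : y * y = 1 := h2
    rw [hy] at h3
    exact ne_one_of ht h3

end Cfsg.Agent.Lib.NCyc
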