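import Cfsg.Agent.Lib.NCyc6
import Cfsg.Agent.Lib.DihBSW
import Cfsg.Agent.Lib.ElemCent3

/-!
# NCyc, part 7 (helper4, for S3730): elementary abelian Sylow 2-subgroups
-/

set_option autoImplicit false
set_option linter.all false

namespace Cfsg.Agent.Lib.NCyc

open Subgroup

universe u
variable {G : Type u} [Group G] [Finite G] (hN : HN G)

/-- generalized dihedral centralizer of an involution -/
structure BK (t b : G) (K : Subgroup G) : Prop where
  ht : orderOf t = 2
  hb : orderOf b = 2
  le : ∀ k ∈ K, k * t = t * k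
  tK : t ∈ K
  bt : b * t = t * b
  bK : b ∉ K
  cases : ∀ h : G, h * t = t * h → h ∈ K ∨ b * h ∈ K
  inv : ∀ k ∈ K, b * k * b⁻¹ = k⁻¹
  uniq : ∀ k ∈ K, k * k = 1 → k = 1 ∨ k = t
  big : ∃ k ∈ K, k * k ≠ 1

namespace BK

variable {t b : G} {K : Subgroup G} (D : BK t b K)

include D

omit [Finite G] in
theorem comm {x y : G} (hx : x ∈ K) (hy : y ∈ K) : x * y = y * x :=
  BSW.comm_of_inverted D.inv x hx y hy

include hN in
theorem norm_K {k : G} (hk : k ∈ K) (hk1 : k ≠ 1) :
    normalizer ((zpowers k : Subgroup G) : Set G) = centralizer ({t} : Set G) := by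
  rcases Nat.even_or_odd (orderOf k) with he | ho
  · have h2 := pow_half he
    have h3 : k ^ (orderOf k / 2) ∈ zpowers k := npow_mem_zpowers _ _
    have h4 : k ^ (orderOf k / 2) = t := by
      rcases D.uniq _ (pow_mem hk _) (sq_of h2) with h | h
      · rw [h, orderOf_one] at h2; omega
      · exact h
    rw [h4] at h3
    exact norm_zpowers hN D.ht hk1 (D.le k hk) (Or.inr h3)
  · exact norm_zpowers hN D.ht hk1 (D.le k hk) (Or.inl ho)

omit [Finite G] in
/-- an involution with the same centralizer as `t` is `t` -/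
theorem eq_of_cent {s : G} (hs : orderOf s = 2) (h : centralizer ({s} : Set G) = centralizer ({t} : Set G)) :
    s = t := by
  have hst : s * t = t * s := by
    have : s ∈ centralizer ({t} : Set G) := by rw [← h]; exact mem_cent.2 rfl
    exact mem_cent.1 this
  have hcen : ∀ k ∈ K, s * k = k * s := by
    intro k hk
    have : k ∈ centralizer ({s} : Set G) := by rw [h]; exact mem_cent.2 (D.le k hk)
    exact (mem_cent.1 this).symm
  rcases D.cases s hst with h1 | h1
  · rcases D.uniq s h1 (sq_of hs) with h2 | h2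
    · exact absurd h2 (ne_one_of hs)
    · exact h2
  · exfalso
    obtain ⟨k, hk, hkk⟩ := D.big
    apply hkk
    have h2 := D.comm h1 hk
    -- `b s k = k b s`, `s k = k s`, so `b k = k b`
    have h3 : b * k = k * b := by
      have h4 : (b * k) * s = (k * b) * s := by
        calc (b * k) * s = b * (k * s) := by group
          _ = b * s * k := by rw [← hcen k hk]; group
          _ = k * (b * s) := h2
          _ = (k * b) * s := by group
      exact mul_right_cancel h4
    have h4 := D.inv k hk
    rw [h3, mul_inv_cancel_right] at h4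
    nth_rewrite 1 [h4]; exact inv_mul_cancel k

include hN in
theorem ti {g : G} (hg : ¬ g * t = t * g) {k : G} (hk : k ∈ K) (hgk : g * k * g⁻¹ ∈ K) : k = 1 := by
  by_contra hk1
  have hgk1 : g * k * g⁻¹ ≠ 1 := by
    intro h; apply hk1
    have : k = g⁻¹ * (g * k * g⁻¹) * g := by group
    rw [this, h]; group
  have h1 := D.norm_K hN hk hk1
  have h2 := D.norm_K hN hgk hgk1
  have h3 : centralizer ({g * t * g⁻¹} : Set G) = centralizer ({t} : Set G) := by
    rw [← h2, BSW.centralizer_conj, ← h1]
    ext x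
    rw [Subgroup.mem_map_equiv]
    have e0 : (MulAut.conj g).symm x = g⁻¹ * x * g := by simp
    rw [e0, Subgroup.mem_normalizer_iff, Subgroup.mem_normalizer_iff]
    have ez : ∀ w : G, w ∈ zpowers (g * k * g⁻¹) ↔ g⁻¹ * w * g ∈ zpowers k := by
      intro w
      rw [mem_zpowers_iff, mem_zpowers_iff]
      constructor
      · rintro ⟨m, rfl⟩; exact ⟨m, by rw [conj_zpow]; group⟩
      · rintro ⟨m, hm⟩; exact ⟨m, by rw [conj_zpow, hm]; group⟩
    constructor
    · intro h w
      rw [ez, ez, h (g⁻¹ * w * g)]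
      have e : g⁻¹ * x * g * (g⁻¹ * w * g) * (g⁻¹ * x * g)⁻¹ = g⁻¹ * (x * w * x⁻¹) * g := by group
      rw [e]
    · intro h w
      have := h (g * w * g⁻¹)
      rw [ez, ez] at this
      have e1 : g⁻¹ * (g * w * g⁻¹) * g = w := by group
      have e2 : g⁻¹ * (x * (g * w * g⁻¹) * x⁻¹) * g = g⁻¹ * x * g * w * (g⁻¹ * x * g)⁻¹ := by group
      rw [e1, e2] at this
      exact this
  have h4 := D.eq_of_cent (by rw [ord_conj]; exact D.ht) h3
  exact hg (comm_iff.1 h4)

omit [Finite G] in
/-- the Brauer-Suzuki-Wall configuration -/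
theorem setup_of (htiK : ∀ g : G, ¬ g * t = t * g → ∀ k ∈ K, g * k * g⁻¹ ∈ K → k = 1)
    (hconj : ∀ x y : G, orderOf x = 2 → orderOf y = 2 → IsConj x y) : BSW.Setup t b K where
  ht := D.ht
  comm := fun x hx y hy => D.comm hx hy
  le := fun k hk => mem_cent.2 (D.le k hk)
  tK := D.tK
  hs := D.hb
  sH := mem_cent.2 D.bt
  sK := D.bK
  sup := by
    apply le_antisymm
    · exact sup_le (fun k hk => mem_cent.2 (D.le k hk)) (zpowers_le.2 (mem_cent.2 D.bt))
    · intro h hh
      rcases D.cases h (mem_cent.1 hh) with h1 | h1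
      · exact mem_sup_left h1
      · have e : h = b⁻¹ * (b * h) := by group
        rw [e]
        exact mul_mem (inv_mem (mem_sup_right (mem_zpowers b))) (mem_sup_left h1)
  inf := by
    apply le_antisymm
    · rintro k ⟨hk, hkb⟩
      have h1 := D.inv k hk
      rw [← mem_cent.1 hkb, mul_inv_cancel_right] at h1
      have h2 : k * k = 1 := by nth_rewrite 1 [h1]; exact inv_mul_cancel k
      rcases D.uniq k hk h2 with h3 | h3
      · rw [h3]; exact one_mem _
      · rw [h3]; exact mem_zpowers t
    · rw [zpowers_le]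
      exact ⟨D.tK, mem_cent.2 D.bt.symm⟩
  inv := D.inv
  TI := by
    intro g hg
    rw [eq_bot_iff]
    rintro x ⟨hx, hx'⟩
    obtain ⟨w, hw, hwx⟩ := hx'
    have hwx' : g * w * g⁻¹ = x := hwx
    have h1 := htiK g (fun h => hg (mem_cent.2 h)) w hw (by rw [hwx']; exact hx)
    rw [Subgroup.mem_bot, ← hwx', h1]; group
  conj := hconj

end BK

theorem not_solvable [Nontrivial G] (hS : HS G) : ¬ Group.IsSolvable G := by
  intro h
  have h1 : Group.IsSolvable ↥(⊤ : Subgroup G) :=
    Group.isSolvable_of_isSolvable_injective (f := (⊤ : Subgroup G).subtype) (Subgroup.subtype_injective _)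
  have h2 := hS ⊤ inferInstance h1
  obtain ⟨x, hx⟩ := exists_ne (1 : G)
  have h3 : x ∈ (⊤ : Subgroup G) := trivial
  rw [h2, Subgroup.mem_bot] at h3
  exact hx h3

theorem even_card [Nontrivial G] (hFT : FT.{u}) (hS : HS G) : Even (Nat.card G) := by
  by_contra h
  rw [Nat.not_even_iff_odd] at h
  exact not_solvable hS (hFT G h)

/-- existence of involutions in a Sylow 2-subgroup -/
theorem exists_inv_sylow [Nontrivial G] (hFT : FT.{u}) (hS : HS G) (P : Sylow 2 G) :
    ∃ t ∈ (P : Subgroup G), orderOf t = 2 := by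
  have : Fact (Nat.Prime 2) := ⟨Nat.prime_two⟩
  obtain ⟨s, hs⟩ := exists_prime_orderOf_dvd_card' (G := G) 2 (even_iff_two_dvd.1 (even_card hFT hS))
  obtain ⟨c, _, hc⟩ := conj_into_sylow (P := P) (H := ⊤) le_top (Subgroup.mem_top s) ⟨1, by rw [pow_one]; exact hs⟩
  exact ⟨_, hc, by rw [ord_conj]; exact hs⟩

section caseA

variable {P : Sylow 2 G} (hel : ∀ x ∈ (P : Subgroup G), x * x = 1)

include hel

omit [Finite G] in
theorem P_comm {x y : G} (hx : x ∈ (P : Subgroup G)) (hy : y ∈ (P : Subgroup G)) : x * y = y * x := by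
  have h1 := hel _ (mul_mem hx hy)
  have h2 := inv_eq_of_mul_eq_one_left (hel x hx)
  have h3 := inv_eq_of_mul_eq_one_left (hel y hy)
  have h4 := inv_eq_of_mul_eq_one_left h1
  rw [← h4, mul_inv_rev, h2, h3]

theorem sq_of_two {x : G} (hx : ∃ n, orderOf x = 2 ^ n) : x * x = 1 := by
  obtain ⟨c, _, hc⟩ := conj_into_sylow (P := P) (H := ⊤) le_top (Subgroup.mem_top x) hx
  have h1 := hel _ hc
  have e : x * x = c⁻¹ * ((c * x * c⁻¹) * (c * x * c⁻¹)) * c := by group
  rw [e, h1]; group

/-- no elements of odd order in the centralizers: `PSL(2, 2^n)` -/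
theorem caseA0 [Nontrivial G] (hFT : FT.{u}) (hS : HS G)
    (h0 : ∀ t x : G, orderOf t = 2 → x * t = t * x → Odd (orderOf x) → x = 1) :
    ∃ (F : Type) (_ : Field F) (_ : Fintype F), 3 < Fintype.card F ∧
      Nonempty (G ≃* Matrix.ProjectiveSpecialLinearGroup (Fin 2) F) := by
  have : Fact (Nat.Prime 2) := ⟨Nat.prime_two⟩
  obtain ⟨t, htP, ht⟩ := exists_inv_sylow hFT hS P
  obtain ⟨g, hg1, hg2⟩ := exists_fused hFT hS ht
  have hPt : (P : Subgroup G) ≤ centralizer ({t} : Set G) := fun x hx => mem_cent.2 (P_comm hel hx htP)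
  obtain ⟨c, hc, hcP⟩ := conj_into_sylow hPt (mem_cent.2 hg2) ⟨1, by rw [pow_one, ord_conj]; exact ht⟩
  have hne : c * (g * t * g⁻¹) * c⁻¹ ≠ t := by
    intro h
    apply hg1
    have h1 : g * t * g⁻¹ = c⁻¹ * (c * (g * t * g⁻¹) * c⁻¹) * c := by group
    rw [h1, h, mul_assoc, ← mem_cent.1 hc, inv_mul_cancel_left]
  have hnc : ¬ IsCyclic (P : Subgroup G) := by
    intro hcyc
    obtain ⟨⟨p, hp⟩, hgen⟩ := hcyc.exists_generator
    have key : ∀ x ∈ (P : Subgroup G), x ∈ zpowers p := by
      intro x hx
      obtain ⟨m, hm⟩ := mem_zpowers_iff.1 (hgen ⟨x, hx⟩)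
      exact mem_zpowers_iff.2 ⟨m, congrArg Subtype.val hm⟩
    exact hne (invol_unique (key _ hcP) (key _ htP) (by rw [ord_conj, ord_conj]; exact ht) ht)
  have hnn : ¬ (P : Subgroup G).Normal := by
    intro hn
    have := hS (P : Subgroup G) hn (solvable_of_comm (fun a ha b hb => P_comm hel ha hb))
    rw [this, Subgroup.mem_bot] at htP
    exact ne_one_of ht htP
  have hsq : ∀ s : G, orderOf s = 2 → ∀ c ∈ centralizer ({s} : Set G), c * c = 1 := by
    intro s hs c hc
    apply sq_of_two hel
    obtain ⟨b, hb, n, hn1, hn2⟩ := exists_odd_part c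
    have h1 : c ^ 2 ^ n = 1 := by
      apply h0 s _ hs
      · exact ((show Commute c s from mem_cent.1 hc).pow_left _).eq
      · rw [orderOf_pow' c (by positivity), hn2, Nat.gcd_mul_right_left, Nat.mul_div_cancel_left _ (by positivity)]
        exact hb
    obtain ⟨m, _, hm⟩ := (Nat.dvd_prime_pow Nat.prime_two).1 (orderOf_dvd_of_pow_eq_one h1)
    exact ⟨m, hm⟩
  obtain ⟨F, hF, hFf, hFc, hFi⟩ := ElemCent.psl_two P hnc hnn (fun s hs => by
    refine ⟨⟨⟨fun a b => Subtype.ext ?_⟩⟩, fun c hc => by rw [pow_two]; exact hsq s hs c hc⟩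
    have h1 := hsq s hs _ (mul_mem a.2 b.2)
    have h2 := inv_eq_of_mul_eq_one_left (hsq s hs _ a.2)
    have h3 := inv_eq_of_mul_eq_one_left (hsq s hs _ b.2)
    have h4 := inv_eq_of_mul_eq_one_left h1
    show (a : G) * b = b * a
    rw [← h4, mul_inv_rev, h2, h3])
  refine ⟨F, hF, hFf, ?_, hFi⟩
  rw [hFc]
  obtain ⟨n, hn⟩ := IsPGroup.iff_card.1 P.isPGroup'
  rw [hn]
  rcases n with _ | _ | n
  · exfalso
    apply hnc
    rw [pow_zero] at hn
    have : Subsingleton (P : Subgroup G) := (Nat.card_eq_one_iff_unique.1 hn).1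
    infer_instance
  · exfalso
    apply hnc
    rw [zero_add, pow_one] at hn
    exact isCyclic_of_prime_card hn
  · rw [pow_add, pow_add]
    have : 0 < 2 ^ n := by positivity
    omega

include hN in
/-- elements of odd order in centralizers: `PSL(2,q)`, `q` odd -/
theorem caseA1 (hFT : FT.{u}) (hS : HS G) {t x : G} (ht : orderOf t = 2)
    (htP : t ∈ (P : Subgroup G)) (hx : x * t = t * x) (hxp : (orderOf x).Prime) (hxo : Odd (orderOf x)) :
    ∃ (b : G) (K : Subgroup G), BSW.Setup t b K := by
  have : Fact (Nat.Prime 2) := ⟨Nat.prime_two⟩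
  have hx1 : x ≠ 1 := by rintro rfl; rw [orderOf_one] at hxp; exact Nat.not_prime_one hxp
  have hxx : x * x ≠ 1 := by
    intro h
    have h1 := orderOf_dvd_of_pow_eq_one (by rw [pow_two]; exact h : x ^ 2 = 1)
    rcases (Nat.dvd_prime Nat.prime_two).1 h1 with h2 | h2
    · exact hx1 (orderOf_eq_one_iff.1 h2)
    · rw [h2] at hxo; exact absurd hxo (by decide)
  have hPt : (P : Subgroup G) ≤ centralizer ({t} : Set G) := fun z hz => mem_cent.2 (P_comm hel hz htP)
  have hNx := norm_zpowers hN ht hx1 hx (Or.inl hxo)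
  have hE1 : ∀ e : G, orderOf e = 2 → e * x = x * e →
      centralizer ({e} : Set G) = centralizer ({t} : Set G) := by
    intro e he hex
    rw [← norm_zpowers hN he hx1 hex.symm (Or.inl hxo), hNx]
  -- conjugation inside `⟨x⟩`
  have hconjx : ∀ h : G, h * t = t * h → ∀ w ∈ zpowers x, h * w * h⁻¹ ∈ zpowers x := by
    intro h hh w hw
    have h1 : h ∈ normalizer ((zpowers x : Subgroup G) : Set G) := by rw [hNx]; exact mem_cent.2 hh
    exact (Subgroup.mem_normalizer_iff.1 h1 w).1 hw
  have hodd_w : ∀ w ∈ zpowers x, Odd (orderOf w) := by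
    intro w hw
    obtain ⟨c, hc⟩ := orderOf_dvd_of_mem_zpowers hw
    rw [hc] at hxo; exact (Nat.odd_mul.1 hxo).1
  have hwt : ∀ w ∈ zpowers x, w * t = t * w := by
    intro w hw
    obtain ⟨m, rfl⟩ := mem_zpowers_iff.1 hw
    exact ((show Commute x t from hx).zpow_left m).eq
  -- involutions not commuting with `x` invert `⟨x⟩`
  have hinvx : ∀ p : G, orderOf p = 2 → p * t = t * p → p * x ≠ x * p → ∀ w ∈ zpowers x,
      p * w * p⁻¹ = w⁻¹ := by
    intro p hp hpt hpx
    apply BSW.inverts_of_fpf hp (hconjx p hpt)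
    intro w hw hpw
    by_contra hw1
    apply hpx
    have h1 := norm_zpowers hN hp hw1 (comm_iff.1 hpw).symm (Or.inl (hodd_w w hw))
    have h2 := norm_zpowers hN ht hw1 (hwt w hw) (Or.inl (hodd_w w hw))
    have h3 : x ∈ centralizer ({p} : Set G) := by rw [← h1, h2]; exact mem_cent.2 hx
    exact (mem_cent.1 h3).symm
  -- transport of "commutes with x" under conjugation in `C(t)`
  have hgen : ∀ c : G, c * t = t * c → ∀ e : G, (c * e * c⁻¹) * x = x * (c * e * c⁻¹) → e * x = x * e := by
    intro c hc e he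
    have hc' : c⁻¹ * t = t * c⁻¹ := (Commute.inv_left (show Commute c t from hc)).eq
    have h1 : ∀ w ∈ zpowers x, (c * e * c⁻¹) * w = w * (c * e * c⁻¹) := by
      intro w hw
      obtain ⟨m, rfl⟩ := mem_zpowers_iff.1 hw
      exact ((show Commute (c * e * c⁻¹) x from he).zpow_right m).eq
    have h2 := h1 _ (hconjx c hc x (mem_zpowers x))
    have h3 : c * (e * x) * c⁻¹ = c * (x * e) * c⁻¹ := by
      calc c * (e * x) * c⁻¹ = (c * e * c⁻¹) * (c * x * c⁻¹) := by group
        _ = (c * x * c⁻¹) * (c * e * c⁻¹) := h2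
        _ = c * (x * e) * c⁻¹ := by group
    exact mul_left_cancel (mul_right_cancel h3)
  -- all involutions `e` of `C(t)` conjugate to elements commuting with `x`
  have hE2 : ∀ e : G, orderOf e = 2 → e * t = t * e →
      (∀ c : G, c * t = t * c → c * e * c⁻¹ ∈ (P : Subgroup G) → (c * e * c⁻¹) * x = x * (c * e * c⁻¹)) →
      centralizer ({e} : Set G) = centralizer ({t} : Set G) := by
    intro e he het h
    obtain ⟨c, hc, hcP⟩ := conj_into_sylow hPt (mem_cent.2 het) ⟨1, by rw [pow_one]; exact he⟩
    exact hE1 e he (hgen c (mem_cent.1 hc) e (h c (mem_cent.1 hc) hcP))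
  by_cases hPx : ∀ p ∈ (P : Subgroup G), p * x = x * p
  · exfalso
    have h1 := sel hN hFT hS ht (fun e he het => hE2 e he het (fun c _ hcP => hPx _ hcP))
    exact hxx (h1 x hx)
  push Not at hPx
  obtain ⟨b, hbP, hbx⟩ := hPx
  have hb1 : b ≠ 1 := by rintro rfl; apply hbx; group
  have hb : orderOf b = 2 := ord_two (hel b hbP) hb1
  have hbt : b * t = t * b := P_comm hel hbP htP
  have hbinv := hinvx b hb hbt hbx
  by_cases huniq : ∀ e ∈ (P : Subgroup G), e * x = x * e → e = 1 ∨ e = t
  · -- the Brauer-Suzuki-Wall case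
    refine ⟨b, centralizer ({x} : Set G), ?_⟩
    have hKt : ∀ k ∈ centralizer ({x} : Set G), k * t = t * k := by
      intro k hk
      have : k ∈ normalizer ((zpowers x : Subgroup G) : Set G) := by
        rw [Subgroup.mem_normalizer_iff]
        have hkc : ∀ w ∈ zpowers x, k * w * k⁻¹ = w := by
          intro w hw
          obtain ⟨m, rfl⟩ := mem_zpowers_iff.1 hw
          exact comm_iff.2 ((show Commute k x from mem_cent.1 hk).zpow_right m).eq
        intro w
        constructor
        · intro hw; rw [hkc w hw]; exact hw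
        · intro hw
          have h1 := hkc _ hw
          have h2 : k * w * k⁻¹ = w := by
            have e : k * (k * w * k⁻¹) * k⁻¹ = k * w * k⁻¹ := h1
            have := mul_left_cancel (mul_right_cancel e)
            exact this
          rw [h2] at hw; exact hw
      rw [hNx] at this
      exact mem_cent.1 this
    -- involutions of `C(x)`
    have huK : ∀ k ∈ centralizer ({x} : Set G), k * k = 1 → k = 1 ∨ k = t := by
      intro k hk hkk
      by_cases hk1 : k = 1
      · exact Or.inl hk1
      right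
      have hko := ord_two hkk hk1
      have hkt := hKt k hk
      obtain ⟨c, hc, hcP⟩ := conj_into_sylow hPt (mem_cent.2 hkt) ⟨1, by rw [pow_one]; exact hko⟩
      have hct := mem_cent.1 hc
      have hc' : c⁻¹ * t = t * c⁻¹ := (Commute.inv_left (show Commute c t from hct)).eq
      have h1 : (c * k * c⁻¹) * x = x * (c * k * c⁻¹) := by
        apply hgen c⁻¹ hc'
        have e : c⁻¹ * (c * k * c⁻¹) * c⁻¹⁻¹ = k := by group
        rw [e]; exact mem_cent.1 hk
      rcases huniq _ hcP h1 with h2 | h2
      · exfalso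
        apply hk1
        have e : k = c⁻¹ * (c * k * c⁻¹) * c := by group
        rw [e, h2]; group
      · have e : k = c⁻¹ * (c * k * c⁻¹) * c := by group
        rw [e, h2, mul_assoc, ← hct, inv_mul_cancel_left]
    -- odd elements of `C(t)` commute with `x`
    have hoddx : ∀ w : G, w * t = t * w → Odd (orderOf w) → w * x = x * w := by
      intro w hw hwo
      by_cases hw1 : w = 1
      · rw [hw1]; group
      by_contra hne
      have h1 : w * x * w⁻¹ ∈ zpowers x := hconjx w hw x (mem_zpowers x)
      have h2 : x * w⁻¹ * x⁻¹ ∈ zpowers w := by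
        have h3 : x ∈ normalizer ((zpowers w : Subgroup G) : Set G) := by
          rw [norm_zpowers hN ht hw1 hw (Or.inl hwo)]; exact mem_cent.2 hx
        exact (Subgroup.mem_normalizer_iff.1 h3 w⁻¹).1 (inv_mem (mem_zpowers w))
      set c := w * x * w⁻¹ * x⁻¹ with hc
      have hc1 : c ≠ 1 := by
        intro h
        apply hne
        have : w * x * w⁻¹ = x := mul_inv_eq_one.1 h
        exact comm_iff.1 this
      have hcx : c ∈ zpowers x := mul_mem h1 (inv_mem (mem_zpowers x))
      have hcw : c ∈ zpowers w := by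
        have e : c = w * (x * w⁻¹ * x⁻¹) := by rw [hc]; group
        rw [e]; exact mul_mem (mem_zpowers w) h2
      have hco : orderOf c = orderOf x := by
        rcases (Nat.dvd_prime hxp).1 (orderOf_dvd_of_mem_zpowers hcx) with h | h
        · exact absurd (orderOf_eq_one_iff.1 h) hc1
        · exact h
      have hzc : zpowers c = zpowers x := by
        apply Subgroup.eq_of_le_of_card_ge (zpowers_le.2 hcx)
        rw [Nat.card_zpowers, Nat.card_zpowers, hco]
      have hxw : x ∈ zpowers w := by
        have : x ∈ zpowers c := by rw [hzc]; exact mem_zpowers x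
        exact (zpowers_le.2 hcw) this
      apply hne
      obtain ⟨m, rfl⟩ := mem_zpowers_iff.1 hxw
      exact ((Commute.refl w).zpow_right m).eq
    -- 2-elements of `C(t)`
    have htwo : ∀ k : G, k * t = t * k → (∃ n, orderOf k = 2 ^ n) →
        k * k = 1 := fun k _ hk2 => sq_of_two hel hk2
    have htwox : ∀ k : G, k * t = t * k → (∃ n, orderOf k = 2 ^ n) →
        k * x * k⁻¹ = x ∨ k * x * k⁻¹ = x⁻¹ := by
      intro k hkt hk2
      by_cases hkx : k * x = x * k
      · left; exact comm_iff.2 hkx
      · right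
        have hk1 : k ≠ 1 := by rintro rfl; apply hkx; group
        exact hinvx k (ord_two (htwo k hkt hk2) hk1) hkt hkx x (mem_zpowers x)
    have hall : ∀ h : G, h * t = t * h → h * x * h⁻¹ = x ∨ h * x * h⁻¹ = x⁻¹ := by
      intro h hh
      obtain ⟨n, m, hm, ho⟩ := Nat.exists_eq_two_pow_mul_odd (orderOf_pos h).ne'
      have hm0 : m ≠ 0 := by rintro rfl; exact absurd hm (by decide)
      have h1 : orderOf (h ^ m) = 2 ^ n := by
        rw [orderOf_pow' h hm0, ho, Nat.gcd_mul_left_left]
        exact Nat.mul_div_cancel _ (Nat.pos_of_ne_zero hm0)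
      have h2 : Odd (orderOf (h ^ 2 ^ n)) := by
        rw [orderOf_pow' h (by positivity), ho, Nat.gcd_mul_right_left, Nat.mul_div_cancel_left _ (by positivity)]
        exact hm
      have h3 : h ^ 2 ^ n * x = x * h ^ 2 ^ n :=
        hoddx _ ((show Commute h t from hh).pow_left _).eq h2
      have h4 := htwox (h ^ m) ((show Commute h t from hh).pow_left _).eq ⟨n, h1⟩
      -- Bezout
      have hcop : Nat.Coprime m (2 ^ n) := (Nat.Coprime.pow_right n (Nat.coprime_two_right.2 hm))
      obtain ⟨a, c, hac⟩ : ∃ a c : ℤ, (m : ℤ) * a + (2 ^ n : ℕ) * c = 1 := by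
        have := Nat.gcd_eq_gcd_ab m (2 ^ n)
        rw [hcop.gcd_eq_one] at this
        exact ⟨_, _, by exact_mod_cast this.symm⟩
      have h5 : h = (h ^ m) ^ a * (h ^ 2 ^ n) ^ c := by
        rw [← zpow_natCast, ← zpow_natCast, ← zpow_mul, ← zpow_mul, ← zpow_add, hac, zpow_one]
      have h6 : (h ^ 2 ^ n) ^ c * x * ((h ^ 2 ^ n) ^ c)⁻¹ = x :=
        comm_iff.2 ((show Commute (h ^ 2 ^ n) x from h3).zpow_left c).eq
      have h7 : ∀ a : ℤ, (h ^ m) ^ a * x * ((h ^ m) ^ a)⁻¹ = x ∨ (h ^ m) ^ a * x * ((h ^ m) ^ a)⁻¹ = x⁻¹ := by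
        intro a
        have hsq : (h ^ m) * (h ^ m) = 1 := htwo _ ((show Commute h t from hh).pow_left _).eq ⟨n, h1⟩
        rcases Int.even_or_odd a with ⟨j, rfl⟩ | ⟨j, rfl⟩
        · left; rw [← two_mul, zpow_mul, zpow_two, hsq, one_zpow]; group
        · rw [zpow_add, zpow_mul, zpow_two, hsq, one_zpow, one_mul, zpow_one]; exact h4
      rw [h5]
      have e : (h ^ m) ^ a * (h ^ 2 ^ n) ^ c * x * ((h ^ m) ^ a * (h ^ 2 ^ n) ^ c)⁻¹ =
          (h ^ m) ^ a * ((h ^ 2 ^ n) ^ c * x * ((h ^ 2 ^ n) ^ c)⁻¹) * ((h ^ m) ^ a)⁻¹ := by group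
      rw [e, h6]
      exact h7 a
    have D : BK t b (centralizer ({x} : Set G)) :=
      { ht := ht
        hb := hb
        le := hKt
        tK := mem_cent.2 hx.symm
        bt := hbt
        bK := fun h => hbx (mem_cent.1 h)
        cases := by
          intro h hh
          rcases hall h hh with h1 | h1
          · left; exact mem_cent.2 (comm_iff.1 h1)
          · right
            rw [mem_cent, ← comm_iff]
            have e : b * h * x * (b * h)⁻¹ = b * (h * x * h⁻¹) * b⁻¹ := by group
            rw [e, h1, hbinv _ (inv_mem (mem_zpowers x)), inv_inv]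
        inv := by
          intro k hk
          have hkt := hKt k hk
          set m := b * k with hm
          have hmt : m * t = t * m := by
            rw [hm, mul_assoc, hkt, ← mul_assoc, hbt, mul_assoc]
          have hmx : m * x * m⁻¹ = x⁻¹ := by
            calc m * x * m⁻¹ = b * (k * x) * k⁻¹ * b⁻¹ := by rw [hm]; group
              _ = b * x * b⁻¹ := by rw [mem_cent.1 hk]; group
              _ = x⁻¹ := hbinv x (mem_zpowers x)
          obtain ⟨a, ha, n, ha2, hoa⟩ := exists_odd_part m
          set i := m ^ a with hi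
          have hix : i * x * i⁻¹ = x⁻¹ := odd_pow_conj_inv hmx ha
          have hii : i * i = 1 := sq_of_two hel ⟨n, ha2⟩
          have hix' : i * x ≠ x * i := by
            intro h
            rw [h, mul_inv_cancel_right] at hix
            apply hxx
            nth_rewrite 1 [hix]; exact inv_mul_cancel x
          have hi1 : i ≠ 1 := by
            intro h; apply hix'; rw [h]; group
          have oi : orderOf i = 2 := ord_two hii hi1
          set w := m * m with hw
          have hwa : w ^ a = 1 := by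
            rw [hw, ← pow_two, ← pow_mul, mul_comm, pow_mul, pow_two]; exact hii
          have hwo : Odd (orderOf w) := by
            obtain ⟨c, hc⟩ := orderOf_dvd_of_pow_eq_one hwa
            rw [hc] at ha
            exact (Nat.odd_mul.1 ha).1
          have hwi : w * i = i * w := by
            rw [hw, hi]
            exact (((Commute.refl m).mul_left (Commute.refl m)).pow_right a).eq
          have hwt' : w * t = t * w := by
            rw [hw]; exact ((show Commute m t from hmt).mul_left hmt).eq
          have hw1 : w = 1 := by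
            by_contra hw1
            have h1 := norm_zpowers hN oi hw1 hwi (Or.inl hwo)
            have h2 := norm_zpowers hN ht hw1 hwt' (Or.inl hwo)
            have h3 : x ∈ centralizer ({i} : Set G) := by
              rw [← h1, h2]; exact mem_cent.2 hx
            exact hix' (mem_cent.1 h3).symm
          rw [← mul_eq_one_iff_eq_inv, inv_of hb]
          calc b * k * b * k = m * m := by rw [hm]; group
            _ = 1 := hw1
        uniq := huK
        big := ⟨x, mem_cent.2 rfl, hxx⟩ }
    apply D.setup_of (fun g hg k hk hgk => D.ti hN hg hk hgk)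
    -- all involutions are conjugate
    have hfus : ∀ w ∈ (P : Subgroup G), orderOf w = 2 → ∃ w' ∈ (P : Subgroup G), w' ≠ w ∧ w' ≠ 1 ∧ IsConj w w' := by
      intro w hwP hw
      obtain ⟨g, hg1, hg2⟩ := exists_fused hFT hS hw
      have hPw : (P : Subgroup G) ≤ centralizer ({w} : Set G) := fun z hz => mem_cent.2 (P_comm hel hz hwP)
      obtain ⟨c, hc, hcP⟩ := conj_into_sylow hPw (mem_cent.2 hg2) ⟨1, by rw [pow_one, ord_conj]; exact hw⟩
      refine ⟨_, hcP, ?_, ?_, ?_⟩
      · intro h
        apply hg1
        have h1 : g * w * g⁻¹ = c⁻¹ * (c * (g * w * g⁻¹) * c⁻¹) * c := by group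
        rw [h1, h, mul_assoc, ← mem_cent.1 hc, inv_mul_cancel_left]
      · intro h
        have h1 : orderOf (c * (g * w * g⁻¹) * c⁻¹) = 2 := by rw [ord_conj, ord_conj]; exact hw
        rw [h, orderOf_one] at h1; omega
      · exact isConj_iff.2 ⟨c * g, by group⟩
    have hP4 : ∀ w ∈ (P : Subgroup G), w = 1 ∨ w = t ∨ w = b ∨ w = b * t := by
      intro w hw
      by_cases hwx : w * x = x * w
      · rcases huniq w hw hwx with h | h
        · exact Or.inl h
        · exact Or.inr (Or.inl h)
      · have hw1 : w ≠ 1 := by rintro rfl; apply hwx; group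
        have h1 := hinvx w (ord_two (hel w hw) hw1) (P_comm hel hw htP) hwx x (mem_zpowers x)
        have h2 : (b * w) * x = x * (b * w) := by
          rw [← comm_iff]
          have e : b * w * x * (b * w)⁻¹ = b * (w * x * w⁻¹) * b⁻¹ := by group
          rw [e, h1, hbinv _ (inv_mem (mem_zpowers x)), inv_inv]
        rcases huniq _ (mul_mem hbP hw) h2 with h | h
        · right; right; left
          have := eq_inv_of_mul_eq_one_right h
          rw [inv_of hb] at this; exact this
        · right; right; right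
          rw [← h, ← mul_assoc, sq_of hb, one_mul]
    have hbt1 : orderOf (b * t) = 2 := by
      apply ord_two
      · calc b * t * (b * t) = b * (t * b) * t := by group
          _ = (b * b) * (t * t) := by rw [← hbt]; group
          _ = 1 := by rw [sq_of ht, sq_of hb, one_mul]
      · intro h
        have h1 := eq_inv_of_mul_eq_one_left h
        rw [inv_of ht] at h1
        exact hbx (by rw [h1]; exact hx.symm)
    have hbtP : b * t ∈ (P : Subgroup G) := mul_mem hbP htP
    obtain ⟨a1, ha1, ha2, ha3, ha4⟩ := hfus t htP ht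
    obtain ⟨b1, hb1', hb2, hb3, hb4⟩ := hfus b hbP hb
    obtain ⟨c1, hc1, hc2, hc3, hc4⟩ := hfus (b * t) hbtP hbt1
    have hone : IsConj t b ∧ IsConj t (b * t) := by
      rcases hP4 a1 ha1 with h | h | h | h
      · exact absurd h ha3
      · exact absurd h ha2
      · rw [h] at ha4
        refine ⟨ha4, ?_⟩
        rcases hP4 c1 hc1 with h' | h' | h' | h'
        · exact absurd h' hc3
        · rw [h'] at hc4; exact hc4.symm
        · rw [h'] at hc4; exact ha4.trans hc4.symm
        · exact absurd h' hc2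
      · rw [h] at ha4
        refine ⟨?_, ha4⟩
        rcases hP4 b1 hb1' with h' | h' | h' | h'
        · exact absurd h' hb3
        · rw [h'] at hb4; exact hb4.symm
        · exact absurd h' hb2
        · rw [h'] at hb4; exact ha4.trans hb4.symm
    have hall' : ∀ s : G, orderOf s = 2 → IsConj t s := by
      intro s hs
      obtain ⟨c, _, hc⟩ := conj_into_sylow (P := P) (H := ⊤) le_top (Subgroup.mem_top s)
        ⟨1, by rw [pow_one]; exact hs⟩
      have h1 : IsConj (c * s * c⁻¹) s := (isConj_iff.2 ⟨c, rfl⟩ : IsConj s (c * s * c⁻¹)).symm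
      refine IsConj.trans ?_ h1
      rcases hP4 _ hc with h | h | h | h
      · exfalso
        have h2 : orderOf (c * s * c⁻¹) = 2 := by rw [ord_conj]; exact hs
        rw [h, orderOf_one] at h2; omega
      · rw [h]
      · rw [h]; exact hone.1
      · rw [h]; exact hone.2
    intro u w hu hw
    exact (hall' u hu).symm.trans (hall' w hw)
  · -- larger `E`: transfer
    exfalso
    push Not at huniq
    obtain ⟨e1, he1P, he1x, he11, he1t⟩ := huniq
    have hidx : ((P : Subgroup G) ⊓ centralizer ({x} : Set G)).relIndex (P : Subgroup G) = 2 := by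
      apply relIndex_two ⟨b, hbP, fun h => hbx (mem_cent.1 h)⟩
      intro a ha c hc haC hcC
      rw [mem_cent] at haC hcC ⊢
      have ha1 : a ≠ 1 := by rintro rfl; apply haC; group
      have hc1 : c ≠ 1 := by rintro rfl; apply hcC; group
      have h1 := hinvx a (ord_two (hel a ha) ha1) (P_comm hel ha htP) haC x (mem_zpowers x)
      have h2 := hinvx c (ord_two (hel c hc) hc1) (P_comm hel hc htP) hcC x (mem_zpowers x)
      rw [← comm_iff]
      calc a * c * x * (a * c)⁻¹ = a * (c * x * c⁻¹) * a⁻¹ := by group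
        _ = (a * x * a⁻¹)⁻¹ := by rw [h2]; group
        _ = x := by rw [h1, inv_inv]
    have hf1 : ∀ a ∈ (P : Subgroup G), ∀ g : G, g * a * g⁻¹ ∈ (P : Subgroup G) → a * x = x * a →
        (g * a * g⁻¹) * x = x * (g * a * g⁻¹) := by
      intro a ha g hga hax
      by_contra hbx'
      have ha1 : a ≠ 1 := by rintro rfl; apply hbx'; group
      have hga1 : g * a * g⁻¹ ≠ 1 := by intro h; apply hbx'; rw [h]; group
      have hoa := ord_two (hel a ha) ha1
      have hoga := ord_two (hel _ hga) hga1
      have hCa := hE1 a hoa hax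
      set x1 := g * x * g⁻¹ with hx1def
      have hx11 : x1 ≠ 1 := by
        intro h; apply hx1
        have : x = g⁻¹ * x1 * g := by rw [hx1def]; group
        rw [this, h]; group
      have hx1o : orderOf x1 = orderOf x := ord_conj g x
      have hx1c : x1 * (g * a * g⁻¹) = (g * a * g⁻¹) * x1 := by
        rw [hx1def]
        calc g * x * g⁻¹ * (g * a * g⁻¹) = g * (x * a) * g⁻¹ := by group
          _ = g * (a * x) * g⁻¹ := by rw [hax]
          _ = _ := by group
      have key : ∀ e ∈ (P : Subgroup G), e ≠ 1 → e * x = x * e → e * x1 * e⁻¹ = x1⁻¹ := by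
        intro e heP he1 hex
        have hoe := ord_two (hel e heP) he1
        have hNx1 := norm_zpowers hN hoga hx11 hx1c (Or.inl (by rw [hx1o]; exact hxo))
        have hstab : ∀ w ∈ zpowers x1, e * w * e⁻¹ ∈ zpowers x1 := by
          intro w hw
          have h1 : e ∈ normalizer ((zpowers x1 : Subgroup G) : Set G) := by
            rw [hNx1]; exact mem_cent.2 (P_comm hel heP hga)
          exact (Subgroup.mem_normalizer_iff.1 h1 w).1 hw
        apply BSW.inverts_of_fpf hoe hstab _ x1 (mem_zpowers x1)
        intro w hw hew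
        by_contra hw1
        have hwo : Odd (orderOf w) := by
          obtain ⟨c, hc⟩ := orderOf_dvd_of_mem_zpowers hw
          have : Odd (orderOf x1) := by rw [hx1o]; exact hxo
          rw [hc] at this; exact (Nat.odd_mul.1 this).1
        have hwga : w * (g * a * g⁻¹) = (g * a * g⁻¹) * w := by
          obtain ⟨m, rfl⟩ := mem_zpowers_iff.1 hw
          exact ((show Commute x1 _ from hx1c).zpow_left m).eq
        have h1 := norm_zpowers hN hoe hw1 (comm_iff.1 hew).symm (Or.inl hwo)
        have h2 := norm_zpowers hN hoga hw1 hwga (Or.inl hwo)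
        have h3 : x ∈ centralizer ({g * a * g⁻¹} : Set G) := by
          rw [← h2, h1, hE1 e hoe hex]; exact mem_cent.2 hx
        exact hbx' (mem_cent.1 h3).symm
      have k1 := key t htP (ne_one_of ht) hx.symm
      have k2 := key e1 he1P he11 he1x
      have k3 := key (t * e1) (mul_mem htP he1P) (by
        intro h
        apply he1t
        have := eq_inv_of_mul_eq_one_right h
        rw [inv_of ht] at this; exact this) (by
        calc t * e1 * x = t * (e1 * x) := by group
          _ = (t * x) * e1 := by rw [he1x]; group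
          _ = x * (t * e1) := by rw [← hx]; group)
      have k4 : t * e1 * x1 * (t * e1)⁻¹ = x1 := by
        calc t * e1 * x1 * (t * e1)⁻¹ = t * (e1 * x1 * e1⁻¹) * t⁻¹ := by group
          _ = (t * x1 * t⁻¹)⁻¹ := by rw [k2]; group
          _ = x1 := by rw [k1, inv_inv]
      rw [k4] at k3
      have k5 : x1 * x1 = 1 := by nth_rewrite 1 [k3]; exact inv_mul_cancel x1
      apply hxx
      have : x * x = g⁻¹ * (x1 * x1) * g := by rw [hx1def]; group
      rw [this, k5]; group
    have hfus : ∀ a ∈ (P : Subgroup G), ∀ g : G, g * a * g⁻¹ ∈ (P : Subgroup G) →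
        (a ∈ (P : Subgroup G) ⊓ centralizer ({x} : Set G) ↔
          g * a * g⁻¹ ∈ (P : Subgroup G) ⊓ centralizer ({x} : Set G)) := by
      intro a ha g hga
      rw [Subgroup.mem_inf, Subgroup.mem_inf, mem_cent, mem_cent]
      constructor
      · rintro ⟨_, h⟩; exact ⟨hga, hf1 a ha g hga h⟩
      · rintro ⟨_, h⟩
        have e : g⁻¹ * (g * a * g⁻¹) * g⁻¹⁻¹ = a := by group
        have := hf1 _ hga g⁻¹ (by rw [e]; exact ha) h
        rw [e] at this
        exact ⟨ha, this⟩
    obtain ⟨M, hM, hM2, hMP⟩ := transfer_strong (P : Subgroup G) P.not_dvd_index _ hidx hfus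
    have htM : t ∈ M := (hMP t htP).2 ⟨htP, mem_cent.2 hx.symm⟩
    have hxM : x ∈ M := by
      have h1 : x ^ 2 ∈ M := Subgroup.sq_mem_of_index_two hM2 x
      obtain ⟨m, hm⟩ := hxo
      have h2 : x = (x ^ 2) ^ (m + 1) := by
        rw [← pow_mul, show 2 * (m + 1) = (2 * m + 1) + 1 by ring, ← hm, pow_succ, pow_orderOf_eq_one, one_mul]
      rw [h2]; exact pow_mem h1 _
    have h1 := sel (G := ↥M) (hn_sub hN M) hFT (hs_sub hM hS) (t := ⟨t, htM⟩)
      (by rw [Subgroup.orderOf_mk]; exact ht) (by
      intro e he het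
      have he' : orderOf (e : G) = 2 := by rw [Subgroup.orderOf_coe]; exact he
      have het' : (e : G) * t = t * e := congrArg Subtype.val het
      have h5 := hE2 (e : G) he' het' (by
        intro c hc hcP
        have h2 : c * e * c⁻¹ ∈ M := hM.conj_mem _ e.2 c
        exact mem_cent.1 ((hMP _ hcP).1 h2).2)
      ext z
      rw [mem_cent, mem_cent]
      have h6 : (z : G) ∈ centralizer ({(e : G)} : Set G) ↔ (z : G) ∈ centralizer ({t} : Set G) := by rw [h5]
      rw [mem_cent, mem_cent] at h6
      constructor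
      · intro h; exact Subtype.ext (h6.1 (congrArg Subtype.val h))
      · intro h; exact Subtype.ext (h6.2 (congrArg Subtype.val h)))
    have h2 := congrArg Subtype.val (h1 ⟨x, hxM⟩ (Subtype.ext hx))
    exact hxx h2

end caseA

end Cfsg.Agent.Lib.NCyc
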