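import Cfsg.Agent.Lib.NCyc7

/-!
# NCyc, part 8 (helper4, for S3730): the dihedral case, transfer
-/

set_option autoImplicit false
set_option linter.all false

namespace Cfsg.Agent.Lib.NCyc

open Subgroup

universe u

/-- building the Brauer-Suzuki-Wall configuration -/
theorem mk_setup {H : Type*} [Group H] {t b : H} {K : Subgroup H} (ht : orderOf t = 2) (hb : orderOf b = 2)
    (le : ∀ k ∈ K, k * t = t * k) (tK : t ∈ K) (bt : b * t = t * b) (bK : b ∉ K)
    (cases : ∀ h : H, h * t = t * h → h ∈ K ∨ b * h ∈ K)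
    (inv : ∀ k ∈ K, b * k * b⁻¹ = k⁻¹) (uniq : ∀ k ∈ K, k * k = 1 → k = 1 ∨ k = t)
    (htiK : ∀ g : H, ¬ g * t = t * g → ∀ k ∈ K, g * k * g⁻¹ ∈ K → k = 1)
    (hconj : ∀ x y : H, orderOf x = 2 → orderOf y = 2 → IsConj x y) : BSW.Setup t b K where
  ht := ht
  comm := fun x hx y hy => BSW.comm_of_inverted inv x hx y hy
  le := fun k hk => mem_cent.2 (le k hk)
  tK := tK
  hs := hb
  sH := mem_cent.2 bt
  sK := bK
  sup := by
    apply le_antisymm
    · exact sup_le (fun k hk => mem_cent.2 (le k hk)) (zpowers_le.2 (mem_cent.2 bt))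
    · intro h hh
      rcases cases h (mem_cent.1 hh) with h1 | h1
      · exact mem_sup_left h1
      · have e : h = b⁻¹ * (b * h) := by group
        rw [e]
        exact mul_mem (inv_mem (mem_sup_right (mem_zpowers b))) (mem_sup_left h1)
  inf := by
    apply le_antisymm
    · rintro k ⟨hk, hkb⟩
      have h1 := inv k hk
      rw [← mem_cent.1 hkb, mul_inv_cancel_right] at h1
      have h2 : k * k = 1 := by nth_rewrite 1 [h1]; exact inv_mul_cancel k
      rcases uniq k hk h2 with h3 | h3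
      · rw [h3]; exact one_mem _
      · rw [h3]; exact mem_zpowers t
    · rw [zpowers_le]
      exact ⟨tK, mem_cent.2 bt.symm⟩
  inv := inv
  TI := by
    intro g hg
    rw [eq_bot_iff]
    rintro x ⟨hx, hx'⟩
    obtain ⟨w, hw, hwx⟩ := hx'
    have hwx' : g * w * g⁻¹ = x := hwx
    have h1 := htiK g (fun h => hg (mem_cent.2 h)) w hw (by rw [hwx']; exact hx)
    rw [Subgroup.mem_bot, ← hwx', h1]; group
  conj := hconj

variable {G : Type u} [Group G] [Finite G] (hN : HN G)

namespace BK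

variable {t b : G} {K : Subgroup G} (D : BK t b K)

omit [Finite G] in
include D in
theorem bi : b⁻¹ = b := inv_of D.hb

/-- the subgroup of squares -/
def sqs (D : BK t b K) : Subgroup G where
  carrier := {z | ∃ k ∈ K, k * k = z}
  one_mem' := ⟨1, K.one_mem, one_mul 1⟩
  mul_mem' := by
    rintro _ _ ⟨k, hk, rfl⟩ ⟨l, hl, rfl⟩
    refine ⟨k * l, K.mul_mem hk hl, ?_⟩
    calc k * l * (k * l) = k * (l * k) * l := by group
      _ = k * k * (l * l) := by rw [D.comm hl hk]; group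
  inv_mem' := by
    rintro _ ⟨k, hk, rfl⟩
    exact ⟨k⁻¹, K.inv_mem hk, by group⟩

omit [Finite G] in
theorem sqs_le : D.sqs ≤ K := by
  rintro _ ⟨k, hk, rfl⟩; exact K.mul_mem hk hk

include D in
theorem sqs_index : D.sqs.relIndex K = 2 := by
  let _ : CommGroup K := { (inferInstance : Group K) with
    mul_comm := fun x y => Subtype.ext (D.comm x.2 y.2) }
  let f : K →* K := powMonoidHom 2
  have hf : ∀ k : K, f k = k * k := fun k => pow_two k
  have hr : D.sqs.subgroupOf K = f.range := by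
    ext x
    rw [Subgroup.mem_subgroupOf]
    constructor
    · rintro ⟨k, hk, h⟩
      exact ⟨⟨k, hk⟩, Subtype.ext (by rw [hf]; exact h)⟩
    · rintro ⟨k, hk⟩
      refine ⟨k, k.2, ?_⟩
      rw [← hk, hf]; rfl
  have hker : Nat.card f.ker = 2 := by
    rw [Nat.card_eq_two_iff]
    have h1 : (⟨t, D.tK⟩ : K) ∈ f.ker := by
      rw [MonoidHom.mem_ker, hf]
      exact Subtype.ext (sq_of D.ht)
    refine ⟨1, ⟨_, h1⟩, ?_, ?_⟩
    · intro h
      have h2 : (1 : G) = t := congrArg (fun x : f.ker => ((x : K) : G)) h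
      exact ne_one_of D.ht h2.symm
    · ext ⟨x, hx⟩
      simp only [Set.mem_insert_iff, Set.mem_singleton_iff, Set.mem_univ, iff_true]
      rw [MonoidHom.mem_ker, hf] at hx
      rcases D.uniq x x.2 (congrArg Subtype.val hx) with h | h
      · left; exact Subtype.ext (Subtype.ext h)
      · right; exact Subtype.ext (Subtype.ext h)
  rw [Subgroup.relIndex, hr]
  have h1 := Subgroup.index_ker f
  have h2 := Subgroup.card_mul_index f.ker
  have h3 := Subgroup.card_mul_index f.range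
  rw [h1, hker] at h2
  have h4 : 0 < Nat.card f.range := Nat.card_pos
  have h5 : Nat.card f.range * f.range.index = Nat.card f.range * 2 := by
    rw [h3, ← h2, mul_comm]
  exact Nat.eq_of_mul_eq_mul_left h4 h5

include D in
theorem mul_mem_sqs {a c : G} (ha : a ∈ K) (hc : c ∈ K) (ha' : a ∉ D.sqs) (hc' : c ∉ D.sqs) :
    a * c ∈ D.sqs := by
  have h := Subgroup.mul_mem_iff_of_index_two (H := D.sqs.subgroupOf K) D.sqs_index
    (a := ⟨a, ha⟩) (b := ⟨c, hc⟩)
  have h1 : (⟨a, ha⟩ * ⟨c, hc⟩ : K) ∈ D.sqs.subgroupOf K := by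
    rw [h]
    constructor
    · intro h2; exact absurd h2 ha'
    · intro h2; exact absurd h2 hc'
  exact h1

include D in
theorem exists_not_sqs {P : Sylow 2 G} (hP : (P : Subgroup G) ≤ centralizer ({t} : Set G)) :
    ∃ k ∈ K, k ∉ D.sqs ∧ k ∈ (P : Subgroup G) := by
  obtain ⟨k, hk, hk'⟩ : ∃ k ∈ K, k ∉ D.sqs := by
    by_contra hcon
    push Not at hcon
    have h1 : D.sqs.relIndex K = 1 := Subgroup.relIndex_eq_one.2 hcon
    rw [D.sqs_index] at h1
    omega
  obtain ⟨n, m, hm, ho⟩ := Nat.exists_eq_two_pow_mul_odd (orderOf_pos k).ne'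
  have hm0 : m ≠ 0 := by rintro rfl; exact absurd hm (by decide)
  have h1 : orderOf (k ^ m) = 2 ^ n := by
    rw [orderOf_pow' k hm0, ho, Nat.gcd_mul_left_left]
    exact Nat.mul_div_cancel _ (Nat.pos_of_ne_zero hm0)
  have h2 : k ^ m ∉ D.sqs := by
    intro h
    apply hk'
    obtain ⟨j, rfl⟩ := hm
    have e : k = k ^ (2 * j + 1) * ((k ^ j)⁻¹ * (k ^ j)⁻¹) := by
      rw [pow_succ, pow_mul', pow_two]; group
    rw [e]
    exact D.sqs.mul_mem h ⟨(k ^ j)⁻¹, K.inv_mem (K.pow_mem hk j), rfl⟩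
  have h3 : k ^ m ∈ K := K.pow_mem hk m
  obtain ⟨c, hc, hcP⟩ := conj_into_sylow hP (mem_cent.2 (D.le _ h3)) ⟨n, h1⟩
  refine ⟨k ^ m, h3, h2, ?_⟩
  rcases D.cases c (mem_cent.1 hc) with h | h
  · rw [D.comm h h3, mul_inv_cancel_right] at hcP
    exact hcP
  · have e : c * k ^ m * c⁻¹ = b * ((b * c) * k ^ m * (b * c)⁻¹) * b⁻¹ := by
      have : b * b = 1 := sq_of D.hb
      calc c * k ^ m * c⁻¹ = (b * b) * c * k ^ m * c⁻¹ * (b * b)⁻¹ := by rw [this]; group
        _ = _ := by group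
    rw [e, D.comm h h3, mul_inv_cancel_right, D.inv _ h3] at hcP
    have := inv_mem hcP
    rwa [inv_inv] at this

end BK

/-- the group between -/
def mid {t b : G} {K : Subgroup G} (D : BK t b K) : Subgroup G where
  carrier := {h | h ∈ D.sqs ∨ b * h ∈ D.sqs}
  one_mem' := Or.inl (one_mem _)
  mul_mem' := by
    have hinv : ∀ z ∈ D.sqs, b * z * b⁻¹ ∈ D.sqs := by
      intro z hz
      rw [D.inv z (D.sqs_le hz)]; exact inv_mem hz
    have hbb : b * b = 1 := sq_of D.hb
    rintro x y (hx | hx) (hy | hy)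
    · exact Or.inl (mul_mem hx hy)
    · right
      have e : b * (x * y) = (b * x * b⁻¹) * (b * y) := by group
      rw [e]; exact mul_mem (hinv x hx) hy
    · right
      have e : b * (x * y) = (b * x) * y := by group
      rw [e]; exact mul_mem hx hy
    · left
      have e : x * y = (b⁻¹ * (b * x) * b⁻¹⁻¹) * (b⁻¹ * b⁻¹ * (b * y)) := by group
      have e2 : b⁻¹ * b⁻¹ = 1 := by rw [← mul_inv_rev, hbb, inv_one]
      rw [e, e2, one_mul, D.bi]
      exact mul_mem (hinv _ hx) hy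
  inv_mem' := by
    rintro x (hx | hx)
    · exact Or.inl (inv_mem hx)
    · right
      have hbb : b * b = 1 := sq_of D.hb
      have e : b * x⁻¹ = b * (b * x)⁻¹ * b⁻¹ * (b * b) := by group
      show b * x⁻¹ ∈ D.sqs
      rw [e, hbb, mul_one, D.inv _ (inv_mem (D.sqs_le hx)), inv_inv]
      exact hx

omit [Finite G] in
/-- `b k k` is conjugate to `b` -/
theorem conj_of_sqs {t b : G} {K : Subgroup G} (D : BK t b K) {a x : G} (ha : a ∈ K) (hx : (b * a)⁻¹ * x ∈ D.sqs) :
    ∃ g : G, g * (b * a) * g⁻¹ = x := by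
  obtain ⟨k, hk, hkk⟩ := hx
  refine ⟨k⁻¹, ?_⟩
  have h1 : x = b * a * (k * k) := by rw [hkk]; group
  have h2 : k⁻¹ * b = b * k := by
    have := D.inv k hk
    rw [← this]; group
  rw [h1]
  calc k⁻¹ * (b * a) * k⁻¹⁻¹ = (k⁻¹ * b) * a * k := by group
    _ = b * (k * a) * k := by rw [h2]; group
    _ = b * a * (k * k) := by rw [D.comm hk ha]; group

end Cfsg.Agent.Lib.NCyc
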