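import Cfsg.Agent.Lib.NCyc8
import Cfsg.Agent.Lib.ThompsonTransfer

/-!
# NCyc, part 9 (helper4, for S3730): the dihedral case, the subgroup of index two
-/

set_option autoImplicit false
set_option linter.all false

namespace Cfsg.Agent.Lib.NCyc

open Subgroup

universe u

/-- a subgroup of index two with BSW structure -/
structure PData {G : Type u} [Group G] (t v u : G) (K M : Subgroup G) : Prop where
  B : BK t v K
  ti : ∀ g : G, ¬ g * t = t * g → ∀ k ∈ K, g * k * g⁻¹ ∈ K → k = 1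
  nM : M.Normal
  iM : M.index = 2
  tM : t ∈ M
  vM : v ∈ M
  uM : u ∉ M
  ut : u * t = t * u
  conj : ∀ s ∈ M, orderOf s = 2 → ∃ g ∈ M, g * s * g⁻¹ = t

variable {G : Type u} [Group G] [Finite G] (hN : HN G)

namespace PData

variable {t v u : G} {K M : Subgroup G} (D : PData t v u K M)

include D

theorem setup : BSW.Setup (⟨t, D.tM⟩ : M) ⟨v, D.vM⟩ (K.subgroupOf M) := by
  apply mk_setup
  · rw [Subgroup.orderOf_mk]; exact D.B.ht
  · rw [Subgroup.orderOf_mk]; exact D.B.hb
  · intro k hk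
    exact Subtype.ext (D.B.le k hk)
  · exact D.B.tK
  · exact Subtype.ext D.B.bt
  · exact D.B.bK
  · intro h hh
    exact D.B.cases h (congrArg Subtype.val hh)
  · intro k hk
    exact Subtype.ext (D.B.inv k hk)
  · intro k hk hkk
    rcases D.B.uniq k hk (congrArg Subtype.val hkk) with h | h
    · left; exact Subtype.ext h
    · right; exact Subtype.ext h
  · intro g hg k hk hgk
    have := D.ti g (fun h => hg (Subtype.ext h)) k hk hgk
    exact Subtype.ext this
  · intro x y hx hy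
    obtain ⟨a, haM, ha⟩ := D.conj x x.2 (by rw [Subgroup.orderOf_coe]; exact hx)
    obtain ⟨b, hbM, hb⟩ := D.conj y y.2 (by rw [Subgroup.orderOf_coe]; exact hy)
    apply isConj_iff.2
    refine ⟨⟨b, hbM⟩⁻¹ * ⟨a, haM⟩, Subtype.ext ?_⟩
    show (b⁻¹ * a) * x * (b⁻¹ * a)⁻¹ = y
    calc (b⁻¹ * a) * x * (b⁻¹ * a)⁻¹ = b⁻¹ * (a * x * a⁻¹) * b := by group
      _ = b⁻¹ * (b * y * b⁻¹) * b := by rw [ha, hb]
      _ = y := by group

end PData

theorem bk_of_dih (hN : HN G) (hFT : FT.{u}) (hS : HS G) {y t v : G} (D : Dih y t v) :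
    BK t v (centralizer ({y} : Set G)) where
  ht := D.ht
  hb := D.ov
  le := by
    intro k hk
    have h1 := mem_cent.1 hk
    rw [← D.hy]
    exact ((show Commute k y from h1).mul_right h1).eq
  tK := mem_cent.2 (y_comm D.hy).symm
  bt := D.hc
  bK := by
    intro h
    have h1 := mem_cent.1 h
    have h2 := D.hinv
    rw [h1, mul_inv_cancel_right] at h2
    exact y_ne D.ht D.hy h2
  cases := by
    intro h hh
    rcases D.cases hN hh with h1 | h1
    · exact Or.inl (mem_cent.2 h1)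
    · exact Or.inr (mem_cent.2 h1)
  inv := fun k hk => D.inv_cent hN hFT hS (mem_cent.1 hk)
  uniq := fun k hk hkk => D.unique hN hFT hS (mem_cent.1 hk) hkk
  big := ⟨y, mem_cent.2 rfl, by rw [D.hy]; exact ne_one_of D.ht⟩

include hN in
/-- **Case I** -/
theorem caseI (hFT : FT.{u}) (hS : HS G) {P : Sylow 2 G} {y t v : G} (D : Dih y t v)
    (hP : (P : Subgroup G) ≤ centralizer ({t} : Set G)) (hvP : v ∈ (P : Subgroup G)) :
    (∃ (b : G) (K : Subgroup G), BSW.Setup t b K) ∨
      ∃ (u : G) (K M : Subgroup G), PData t v u K M := by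
  have B := bk_of_dih hN hFT hS D
  set K := centralizer ({y} : Set G) with hK
  obtain ⟨k1, hk1, hk1s, hk1P⟩ := B.exists_not_sqs hP
  set w := v * k1 with hw
  have hwP : w ∈ (P : Subgroup G) := mul_mem hvP hk1P
  have hvv : v * v = 1 := sq_of D.ov
  have hww : w * w = 1 := by
    rw [hw]
    have h1 := B.inv k1 hk1
    calc v * k1 * (v * k1) = (v * k1 * v⁻¹) * (v * v) * k1 := by group
      _ = 1 := by rw [h1, hvv]; group
  have hwK : w ∉ K := by
    intro h
    apply B.bK
    have e : v = w * k1⁻¹ := by rw [hw]; group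
    rw [e]; exact mul_mem h (inv_mem hk1)
  have hw1 : w ≠ 1 := by intro h; apply hwK; rw [h]; exact one_mem _
  have ow := ord_two hww hw1
  have hwt : w * t = t * w := by
    rw [hw, mul_assoc, B.le k1 hk1, ← mul_assoc, D.hc, mul_assoc]
  have hvw : v * w = k1 := by rw [hw, ← mul_assoc, hvv, one_mul]
  -- classification of the involutions
  have hclass : ∀ s : G, orderOf s = 2 → s * t = t * s → s = t ∨ (∃ g, g * v * g⁻¹ = s) ∨ (∃ g, g * w * g⁻¹ = s) := by
    intro s hs hst
    rcases B.cases s hst with h | h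
    · left
      rcases B.uniq s h (sq_of hs) with h1 | h1
      · exact absurd h1 (ne_one_of hs)
      · exact h1
    · by_cases h2 : v * s ∈ B.sqs
      · right; left
        obtain ⟨g, hg⟩ := conj_of_sqs B (a := 1) (x := s) (one_mem _) (by
          rw [mul_one, B.bi]; exact h2)
        exact ⟨g, by rw [← hg]; group⟩
      · right; right
        have h3 : k1⁻¹ * (v * s) ∈ B.sqs := by
          apply B.mul_mem_sqs (inv_mem hk1) h _ h2
          intro h4
          apply hk1s
          have := inv_mem h4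
          rwa [inv_inv] at this
        obtain ⟨g, hg⟩ := conj_of_sqs B (a := k1) (x := s) hk1 (by
          have e : (v * k1)⁻¹ * s = k1⁻¹ * (v⁻¹ * s) := by group
          rw [e, B.bi]; exact h3)
        exact ⟨g, hg⟩
  obtain ⟨g0, hg0⟩ := D.ex
  have hwC : w ∉ mid B := by
    rintro (h | h)
    · exact hwK (B.sqs_le h)
    · rw [hvw] at h; exact hk1s h
  by_cases hwt' : ∃ g, g * w * g⁻¹ = t
  · -- all involutions are conjugate
    left
    obtain ⟨g1, hg1⟩ := hwt'
    refine ⟨v, K, B.setup_of (fun g hg k hk hgk => B.ti hN hg hk hgk) ?_⟩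
    have hall : ∀ s : G, orderOf s = 2 → IsConj t s := by
      intro s hs
      obtain ⟨c, _, hc⟩ := conj_into_sylow (P := P) (H := ⊤) le_top (Subgroup.mem_top s)
        ⟨1, by rw [pow_one]; exact hs⟩
      have h1 : IsConj (c * s * c⁻¹) s := (isConj_iff.2 ⟨c, rfl⟩ : IsConj s (c * s * c⁻¹)).symm
      refine IsConj.trans ?_ h1
      rcases hclass (c * s * c⁻¹) (by rw [ord_conj]; exact hs) (mem_cent.1 (hP hc)) with h | ⟨g, h⟩ | ⟨g, h⟩
      · rw [h]
      · exact (isConj_iff.2 ⟨g0, hg0⟩).trans (isConj_iff.2 ⟨g, h⟩)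
      · exact (isConj_iff.2 ⟨g1, hg1⟩ : IsConj w t).symm.trans (isConj_iff.2 ⟨g, h⟩)
    intro x z hx hz
    exact (hall x hx).symm.trans (hall z hz)
  · right
    have hidx : ((P : Subgroup G) ⊓ mid B).relIndex (P : Subgroup G) = 2 := by
      apply relIndex_two ⟨w, hwP, hwC⟩
      have hpos : ∀ a ∈ (P : Subgroup G), a ∉ mid B → a ∈ K ∧ a ∉ B.sqs ∨ v * a ∈ K ∧ v * a ∉ B.sqs := by
        intro a ha haC
        rcases B.cases a (mem_cent.1 (hP ha)) with h | h
        · exact Or.inl ⟨h, fun h' => haC (Or.inl h')⟩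
        · exact Or.inr ⟨h, fun h' => haC (Or.inr h')⟩
      have hinv : ∀ z ∈ B.sqs, v * z * v⁻¹ ∈ B.sqs := by
        intro z hz
        rw [B.inv z (B.sqs_le hz)]; exact inv_mem hz
      intro a ha c hc haC hcC
      rcases hpos a ha haC with ⟨h1, h2⟩ | ⟨h1, h2⟩ <;> rcases hpos c hc hcC with ⟨h3, h4⟩ | ⟨h3, h4⟩
      · exact Or.inl (B.mul_mem_sqs h1 h3 h2 h4)
      · right
        have e : v * (a * c) = (v * a * v⁻¹) * (v * c) := by group
        rw [e, B.inv a h1]
        exact B.mul_mem_sqs (inv_mem h1) h3 (fun h => h2 (by have := inv_mem h; rwa [inv_inv] at this)) h4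
      · right
        have e : v * (a * c) = (v * a) * c := by group
        rw [e]
        exact B.mul_mem_sqs h1 h3 h2 h4
      · left
        have e : a * c = (v⁻¹ * (v * a) * v⁻¹⁻¹) * (v⁻¹ * v⁻¹ * (v * c)) := by group
        have e2 : v⁻¹ * v⁻¹ = 1 := by rw [← mul_inv_rev, hvv, inv_one]
        rw [e, e2, one_mul, B.bi, B.inv _ h1]
        exact B.mul_mem_sqs (inv_mem h1) h3 (fun h => h2 (by have := inv_mem h; rwa [inv_inv] at this)) h4
    have hno : ∀ g : G, g * w * g⁻¹ ∉ (P : Subgroup G) ⊓ mid B := by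
      rintro g ⟨hgP, hg⟩
      have hog : orderOf (g * w * g⁻¹) = 2 := by rw [ord_conj]; exact ow
      have key : ∀ x : G, x = t ∨ (∃ g, g * v * g⁻¹ = x) → g * w * g⁻¹ = x → False := by
        intro x hx hgx
        apply hwt'
        rcases hx with h | ⟨h, hh⟩
        · exact ⟨g, hgx.trans h⟩
        · refine ⟨g0⁻¹ * h⁻¹ * g, ?_⟩
          calc g0⁻¹ * h⁻¹ * g * w * (g0⁻¹ * h⁻¹ * g)⁻¹ = g0⁻¹ * (h⁻¹ * (g * w * g⁻¹) * h) * g0 := by group
            _ = g0⁻¹ * (h⁻¹ * (h * v * h⁻¹) * h) * g0 := by rw [hgx, hh]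
            _ = g0⁻¹ * v * g0 := by group
            _ = g0⁻¹ * (g0 * t * g0⁻¹) * g0 := by rw [hg0]
            _ = t := by group
      rcases hg with h | h
      · rcases B.uniq _ (B.sqs_le h) (sq_of hog) with h1 | h1
        · exact absurd h1 (ne_one_of hog)
        · exact key _ (Or.inl rfl) h1
      · obtain ⟨g', hg'⟩ := conj_of_sqs B (a := 1) (x := g * w * g⁻¹) (one_mem _) (by
          rw [mul_one, B.bi]; exact h)
        exact key _ (Or.inr ⟨g', by rw [← hg']; group⟩) rfl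
    obtain ⟨M, hM, hM2, hwM⟩ := ThompsonTransfer.thompson_transfer P _ hidx w ow hwP hno
    have hsqM : ∀ z ∈ B.sqs, z ∈ M := by
      rintro _ ⟨k, hk, rfl⟩
      rw [← pow_two]; exact Subgroup.sq_mem_of_index_two hM2 k
    have htM : t ∈ M := by
      rw [← D.hy, ← pow_two]; exact Subgroup.sq_mem_of_index_two hM2 y
    have hvM : v ∈ M := by rw [← hg0]; exact hM.conj_mem _ htM g0
    refine ⟨w, K, M, B, fun g hg k hk hgk => B.ti hN hg hk hgk, hM, hM2, htM, hvM, hwM, hwt, ?_⟩
    intro s hsM hs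
    -- conjugate to `t` in `G`
    obtain ⟨g, hg⟩ : ∃ g, g * s * g⁻¹ = t := by
      obtain ⟨c, _, hc⟩ := conj_into_sylow (P := P) (H := ⊤) le_top (Subgroup.mem_top s)
        ⟨1, by rw [pow_one]; exact hs⟩
      have hcM : c * s * c⁻¹ ∈ M := hM.conj_mem _ hsM c
      rcases hclass (c * s * c⁻¹) (by rw [ord_conj]; exact hs) (mem_cent.1 (hP hc)) with h | ⟨g, h⟩ | ⟨g, h⟩
      · exact ⟨c, h⟩
      · refine ⟨g0⁻¹ * g⁻¹ * c, ?_⟩
        calc g0⁻¹ * g⁻¹ * c * s * (g0⁻¹ * g⁻¹ * c)⁻¹ = g0⁻¹ * (g⁻¹ * (c * s * c⁻¹) * g) * g0 := by group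
          _ = g0⁻¹ * (g⁻¹ * (g * v * g⁻¹) * g) * g0 := by rw [h]
          _ = g0⁻¹ * v * g0 := by group
          _ = g0⁻¹ * (g0 * t * g0⁻¹) * g0 := by rw [hg0]
          _ = t := by group
      · exfalso
        apply hwM
        have e : w = g⁻¹ * (c * s * c⁻¹) * g⁻¹⁻¹ := by rw [← h]; group
        rw [e]
        exact hM.conj_mem _ hcM g⁻¹
    by_cases hgM : g ∈ M
    · exact ⟨g, hgM, hg⟩
    · refine ⟨w * g, ?_, ?_⟩
      · rw [Subgroup.mul_mem_iff_of_index_two hM2]
        constructor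
        · intro h; exact absurd h hwM
        · intro h; exact absurd h hgM
      · calc w * g * s * (w * g)⁻¹ = w * (g * s * g⁻¹) * w⁻¹ := by group
          _ = w * t * w⁻¹ := by rw [hg]
          _ = t := by rw [hwt, mul_inv_cancel_right]

end Cfsg.Agent.Lib.NCyc
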