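import Cfsg.Agent.Lib.NDGraph

set_option autoImplicit false

/-!
# No divisibility among character degrees: the subgroup `K` (helper85)
-/

open Cfsg Cfsg.Agent.Lib Cfsg.Agent.Lib.CharBasic Cfsg.Agent.Lib.Clifford
open Cfsg.Agent.Lib.CliffordCorr Cfsg.Agent.Lib.RelDeg Cfsg.Agent.Lib.NDGrp Subgroup
open Cfsg.Agent.Lib.H10DegGraph Cfsg.Agent.Lib.NDDat Cfsg.Agent.Lib.DegTools
open scoped commutatorElement

namespace Cfsg.Agent.Lib.NDEnd

universe u

variable {G : Type u} [Group G] [Finite G] {K : Subgroup G} [hK : K.Normal] {r : ℕ}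

theorem lcj_val (g : G) (lam : Lin K) (k : K) :
    (lcj g lam).val k = lam.val ⟨g * k * g⁻¹, hK.conj_mem _ k.2 g⟩ := rfl

/-- the hypothesis on `K` and its linear character -/
structure Hyp (K : Subgroup G) [hK : K.Normal] (r : ℕ) (lam : Lin K) : Prop where
  hr : r.Prime
  comm_le : commutator G ≤ K
  nd : ∀ a ∈ charDegrees G, ∀ b ∈ charDegrees G, 1 < a → a < b → ¬ a ∣ b
  hV : IsV r lam
  hKP : ∀ g : G, (∀ n : K, (n : G) ∈ commutator G → lam.val ⟨g * n * g⁻¹, hK.conj_mem _ n.2 g⟩ = lam.val n) → g ∈ K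
  hf : K.index ∈ charDegrees G
  hrf : ¬ r ∣ K.index
  hf1 : K.index ≠ 1
  hcop : ∀ a ∈ charDegrees G, a ≠ 1 → r ∣ a → a.Coprime K.index

variable {lam : Lin K}

theorem mem_of_lcj (h : Hyp K r lam) {g : G} (hg : lcj g lam = lam) : g ∈ K := by
  apply h.hKP
  intro n _
  rw [← lcj_val, hg]

theorem deg_pos {X : Type u} [Group X] [Finite X] {a : ℕ} (ha : a ∈ charDegrees X) : 0 < a := by
  obtain ⟨χ, rfl⟩ := ha
  obtain ⟨n, hn, he⟩ := χ.2.exists_degree
  have h1 : charDegree (χ : X → ℂ) = n := by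
    have h2 := Cfsg.Agent.Lib.BlockDeg.charDegree_cast χ.2.isCharacter
    rw [he] at h2
    exact_mod_cast h2
  rw [h1]
  exact hn

/-- Nonlinear degrees of `K` are divisible by `r`. -/
theorem r_dvd (h : Hyp K r lam) {ψ : K → ℂ} (hψ : IsIrrCharacter K ψ) (hd : charDegree ψ ≠ 1) : r ∣ charDegree ψ := by
  classical
  have := Fintype.ofFinite G
  have := Fintype.ofFinite K
  by_contra hrd
  set ψ0 := tw (nu r ψ)⁻¹ ψ with hψ0
  have hψ0i : IsIrrCharacter K ψ0 := irr_tw _ hψ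
  have hd0 : charDegree ψ0 = charDegree ψ := charDegree_tw _ _
  have hnu : nu r ψ0 = 1 := by
    rw [hψ0, nu_tw h.hr hψ.isCharacter hrd (isV_nu h.hr hrd).inv, inv_mul_cancel]
  obtain ⟨h1, h2⟩ := inertia_tw_le h.hr hψ0i.isCharacter (by rwa [hd0]) hnu h.hV
  have h3 : inertia K (tw lam ψ0) = K := by
    apply le_antisymm
    · intro g hg
      exact mem_of_lcj h (mem_LI.1 (h2 hg))
    · exact le_inertia (irr_tw lam hψ0i).isClassFunction
  obtain ⟨ζ, hζ⟩ := exists_over (G := G) K (irr_tw lam hψ0i)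
  have h4 := deg_dvd ζ.2 (irr_tw lam hψ0i) hζ
  rw [h3, charDegree_tw, hd0] at h4
  have hf0 : 0 < K.index := deg_pos h.hf
  have hf1 : 1 < K.index := by
    have := h.hf1
    omega
  have hp : 0 < charDegree ψ := deg_pos ⟨⟨ψ, hψ⟩, rfl⟩
  have hζ0 : 0 < charDegree (ζ : G → ℂ) := deg_pos ⟨ζ, rfl⟩
  have h5 : K.index < charDegree (ζ : G → ℂ) := by
    have h6 := Nat.le_of_dvd hζ0 h4
    have h7 : K.index * 2 ≤ K.index * charDegree ψ := Nat.mul_le_mul_left _ (by omega)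
    omega
  exact h.nd _ h.hf _ ⟨ζ, rfl⟩ hf1 h5 ((Dvd.intro _ rfl).trans h4)

/-- Nonlinear characters of `K` extend to `G`. -/
theorem exists_ov (h : Hyp K r lam) {ψ : K → ℂ} (hψ : IsIrrCharacter K ψ) (hd : charDegree ψ ≠ 1) :
    ∃ χ : IrrCharacter G, (fun k : K => (χ : G → ℂ) k) = ψ := by
  classical
  have := Fintype.ofFinite G
  have := Fintype.ofFinite K
  obtain ⟨χ, hχ⟩ := exists_over (G := G) K hψ
  have h1 : charDegree ψ ∣ charDegree (χ : G → ℂ) := charDegree_dvd_of_constituent K χ.2 hψ hχ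
  have h2 : r ∣ charDegree (χ : G → ℂ) := (r_dvd h hψ hd).trans h1
  have h3 : charDegree (χ : G → ℂ) ≠ 1 := by
    intro h4
    rw [h4] at h2
    exact h.hr.one_lt.ne' (Nat.dvd_one.1 h2)
  have h4 := h.hcop _ ⟨χ, rfl⟩ h3 h2
  have h5 := res_irr_of_coprime K χ.2 h4
  refine ⟨χ, ?_⟩
  by_contra hne
  exact hχ (h5.classInner_eq_zero hψ hne)

theorem degree_res {χ : G → ℂ} {ψ : K → ℂ} (he : (fun k : K => χ k) = ψ) : charDegree ψ = charDegree χ := by
  rw [← he]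
  simp only [charDegree, OneMemClass.coe_one]

theorem inv (h : Hyp K r lam) (ψ : K → ℂ) (hψ : IsIrrCharacter K ψ) (hd : charDegree ψ ≠ 1) (g : G) :
    cj K g ψ = ψ := by
  obtain ⟨χ, he⟩ := exists_ov h hψ hd
  rw [← he]
  exact cj_res χ.2.isClassFunction g

theorem mem_G (h : Hyp K r lam) {a : ℕ} (ha : a ∈ charDegrees K) : a ∈ charDegrees G := by
  obtain ⟨ψ, rfl⟩ := ha
  by_cases hd : charDegree (ψ : K → ℂ) = 1
  · rw [hd]
    refine ⟨⟨1, isIrrCharacter_one⟩, ?_⟩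
    have h2 := Cfsg.Agent.Lib.BlockDeg.charDegree_cast (isIrrCharacter_one (G := G)).isCharacter
    have h3 : ((1 : G → ℂ)) 1 = 1 := rfl
    rw [h3] at h2
    exact_mod_cast h2
  · obtain ⟨χ, he⟩ := exists_ov h ψ.2 hd
    exact ⟨χ, (degree_res he).symm⟩

theorem nd' (h : Hyp K r lam) : ∀ a ∈ charDegrees G, ∀ b ∈ charDegrees G, 1 < a → a ∣ b → a = b := by
  intro a ha b hb h1 h2
  by_contra hne
  have h3 := Nat.le_of_dvd (deg_pos hb) h2
  exact h.nd a ha b hb h1 (lt_of_le_of_ne h3 hne) h2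

theorem cop (h : Hyp K r lam) : ∀ a ∈ charDegrees K, a.Coprime K.index := by
  intro a ha
  by_cases ha1 : a = 1
  · rw [ha1]
    exact Nat.coprime_one_left _
  · refine h.hcop a (mem_G h ha) ha1 ?_
    obtain ⟨ψ, rfl⟩ := ha
    exact r_dvd h ψ.2 ha1

theorem mem_K (h : Hyp K r lam) {a : ℕ} (ha : a ∈ charDegrees G) (ha1 : a ≠ 1) (haf : a ≠ K.index) :
    a ∈ charDegrees K := by
  classical
  have := Fintype.ofFinite G
  have := Fintype.ofFinite K
  by_cases hra : r ∣ a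
  · have h4 := h.hcop a ha ha1 hra
    obtain ⟨χ, rfl⟩ := ha
    have h5 := res_irr_of_coprime K χ.2 h4
    exact ⟨⟨_, h5⟩, degree_res rfl⟩
  · exfalso
    obtain ⟨χ, rfl⟩ := ha
    obtain ⟨ψ, hψ⟩ := exists_constituent (χ.2.isCharacter.restrict K) (by
      intro h0
      have h1 := congrFun h0 1
      exact χ.2.one_ne_zero h1)
    have h1 : charDegree (ψ : K → ℂ) ∣ charDegree (χ : G → ℂ) := charDegree_dvd_of_constituent K χ.2 ψ.2 hψ
    have h2 : charDegree (ψ : K → ℂ) = 1 := by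
      by_contra hd
      exact hra ((r_dvd h ψ.2 hd).trans h1)
    have hc := Cfsg.Agent.Lib.BlockDeg.charDegree_cast χ.2.isCharacter
    have hcψ := Cfsg.Agent.Lib.BlockDeg.charDegree_cast ψ.2.isCharacter
    obtain ⟨f, hf, hfd⟩ := DegRatio.degree_ratio χ.2 ψ.2 hψ hc.symm hcψ.symm
    rw [h2, mul_one] at hf
    rw [← hf] at hfd
    have h3 : 1 < charDegree (χ : G → ℂ) := by
      have := deg_pos (X := G) ⟨χ, rfl⟩
      omega
    exact haf (nd' h _ ⟨χ, rfl⟩ _ h.hf h3 hfd)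

theorem lin_comm {x y : K} (h : (x : G) * (y : G)⁻¹ ∈ (⁅K, K⁆ : Subgroup G)) : lam.val x = lam.val y :=
  lin_eq_of_commutator lam.val (mem_comm.2 h)

/-- (P2) -/
theorem P2 (h : Hyp K r lam) : ∃ x ∈ commutator G, (∃ n : ℕ, x ^ r ^ n = 1) ∧
    ∃ g : G, g * x * g⁻¹ * x⁻¹ ∉ (⁅K, K⁆ : Subgroup G) := by
  by_contra hcon
  push Not at hcon
  apply h.hf1
  rw [index_eq_one, eq_top_iff]
  intro g _
  apply h.hKP
  intro n hn
  obtain ⟨m, hm1, hm2, hm3⟩ := NDGraph.r_part h.hr h.hV n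
  have h1 := hcon ((n : G) ^ m) (pow_mem hn m) ⟨(Nat.card K).factorization r, by
    have := congrArg Subtype.val hm1
    exact this⟩ g
  have h2 : lam.val ((⟨g * n * g⁻¹, hK.conj_mem _ n.2 g⟩ : K) ^ m) = lam.val (n ^ m) := by
    apply lin_comm
    change (g * (n : G) * g⁻¹) ^ m * ((n : G) ^ m)⁻¹ ∈ _
    rwa [conj_pow]
  rw [hm3, hm3] at h2
  exact h2

/-- (P1) -/
theorem P1 (h : Hyp K r lam) (L : Subgroup G) (hL : L.Normal) (hLK : ¬ L ≤ K) : ∃ x ∈ L, x ∈ K ∧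
    (∃ n : ℕ, x ^ r ^ n = 1) ∧ ∃ g : G, g * x * g⁻¹ * x⁻¹ ∉ (⁅K, K⁆ : Subgroup G) := by
  by_contra hcon
  push Not at hcon
  obtain ⟨g, hgL, hgK⟩ := SetLike.not_le_iff_exists.1 hLK
  -- `lam` is invariant on `L ∩ K`
  have hinv : ∀ l : K, (l : G) ∈ L → lam.val ⟨g * l * g⁻¹, hK.conj_mem _ l.2 g⟩ = lam.val l := by
    intro l hl
    obtain ⟨m, hm1, hm2, hm3⟩ := NDGraph.r_part h.hr h.hV l
    have h1 := hcon ((l : G) ^ m) (pow_mem hl m) (pow_mem l.2 m) ⟨(Nat.card K).factorization r, by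
      have := congrArg Subtype.val hm1
      exact this⟩ g
    have h2 : lam.val ((⟨g * l * g⁻¹, hK.conj_mem _ l.2 g⟩ : K) ^ m) = lam.val (l ^ m) := by
      apply lin_comm
      change (g * (l : G) * g⁻¹) ^ m * ((l : G) ^ m)⁻¹ ∈ _
      rwa [conj_pow]
    rw [hm3, hm3] at h2
    exact h2
  set mu : Lin K := lcj g lam * lam⁻¹ with hmu
  have hmuval : ∀ k : K, mu.val k = lam.val (⟨g * k * g⁻¹, hK.conj_mem _ k.2 g⟩ * k⁻¹) := by
    intro k
    rw [map_mul, map_inv]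
    rfl
  have hmuinv : lcj g mu = mu := by
    apply Lin.ext'
    intro k
    rw [lcj_val, hmuval, hmuval]
    have hl : (((⟨g * k * g⁻¹, hK.conj_mem _ k.2 g⟩ * k⁻¹ : K)) : G) ∈ L := by
      change g * (k : G) * g⁻¹ * (k : G)⁻¹ ∈ L
      have h1 : g * (k : G) * g⁻¹ * (k : G)⁻¹ = g * ((k : G) * g⁻¹ * (k : G)⁻¹) := by group
      rw [h1]
      exact mul_mem hgL (hL.conj_mem _ (inv_mem hgL) k)
    rw [← hinv _ hl]
    congr 1
    apply Subtype.ext
    change g * (g * (k : G) * g⁻¹) * g⁻¹ * (g * (k : G) * g⁻¹)⁻¹ = g * (g * (k : G) * g⁻¹ * (k : G)⁻¹) * g⁻¹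
    group
  have hpow : ∀ n : ℕ, lcj (g ^ n) lam = mu ^ n * lam := by
    intro n
    induction n with
    | zero => rw [pow_zero, pow_zero, one_mul, one_lcj]
    | succ n ih =>
      have h1 : lcj (g ^ (n + 1)) lam = lcj g (lcj (g ^ n) lam) := by
        rw [lcj_lcj, pow_succ]
      rw [h1, ih, lcj_mul, lcj_pow, hmuinv, pow_succ]
      have h2 : lcj g lam = mu * lam := by rw [hmu, inv_mul_cancel_right]
      rw [h2]
      exact (mul_assoc _ _ _).symm
  have hK1 : lcj (g ^ K.index) lam = lam := by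
    have hm : g ^ K.index ∈ K := Cfsg.Agent.Lib.LinExt.pow_index_mem g
    apply Lin.ext'
    intro k
    rw [lcj_val]
    apply lin_comm
    change g ^ K.index * (k : G) * (g ^ K.index)⁻¹ * (k : G)⁻¹ ∈ _
    rw [← commutatorElement_def]
    exact commutator_mem_commutator hm k.2
  have h1 : mu ^ K.index = 1 := by
    have h2 := hpow K.index
    rw [hK1] at h2
    exact (mul_eq_right.1 h2.symm)
  have hmuV : IsV r mu := (lcj_isV h.hV g).mul h.hV.inv
  have h2 : mu = 1 := by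
    have h3 : orderOf mu ∣ K.index := orderOf_dvd_of_pow_eq_one h1
    have h4 : orderOf mu ∣ r ^ (Nat.card K).factorization r := orderOf_dvd_of_pow_eq_one hmuV
    have h5 : (r ^ (Nat.card K).factorization r).Coprime K.index :=
      Nat.Coprime.pow_left _ ((Nat.Prime.coprime_iff_not_dvd h.hr).2 h.hrf)
    exact orderOf_eq_one_iff.1 (Nat.eq_one_of_dvd_coprimes h5.symm h3 h4)
  apply hgK
  apply mem_of_lcj h
  rw [hmu] at h2
  exact mul_inv_eq_one.1 h2

end Cfsg.Agent.Lib.NDEnd
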