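import Cfsg.Agent.Lib.NDDat
import Cfsg.Agent.Lib.H10DegGraph
import Cfsg.Agent.Lib.DegRatio
import Cfsg.Agent.Lib.ClassGraph3

set_option autoImplicit false

/-!
# No divisibility among character degrees: the disconnected graph (helper85)
-/

open Cfsg Cfsg.Agent.Lib Cfsg.Agent.Lib.CharBasic Cfsg.Agent.Lib.Clifford
open Cfsg.Agent.Lib.CliffordCorr Cfsg.Agent.Lib.RelDeg Cfsg.Agent.Lib.NDGrp Subgroup
open Cfsg.Agent.Lib.H10DegGraph Cfsg.Agent.Lib.NDDat Cfsg.Agent.Lib.DegTools
open scoped commutatorElement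

namespace Cfsg.Agent.Lib.NDGraph

universe u

/-- the `r`-part of an element, seen by an `r`-power linear character -/
theorem r_part {X : Type u} [Group X] [Finite X] {r : ℕ} (hr : r.Prime) {lam : Lin X} (hlam : IsV r lam)
    (x : X) : ∃ m : ℕ, (x ^ m) ^ r ^ (Nat.card X).factorization r = 1 ∧ lam.val (x ^ m) = lam.val x ∧
      ∀ y : X, lam.val (y ^ m) = lam.val y := by
  have hn : Nat.card X ≠ 0 := Nat.card_pos.ne'
  have h1 := dvd_ex hr (d := 1) hn (by intro h; exact hr.one_lt.ne' (Nat.dvd_one.1 h))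
  have h2 := ex_modEq hr (d := 1) hn (by intro h; exact hr.one_lt.ne' (Nat.dvd_one.1 h))
  set e := ex r 1 (Nat.card X) with he
  set N := r ^ (Nat.card X).factorization r with hN
  have hval : ∀ y : X, lam.val (y ^ e) = lam.val y := by
    intro y
    rw [map_pow]
    have h3 : (lam.val y) ^ N = 1 := by
      have h4 : (lam ^ N).val y = 1 := by rw [hlam]; rfl
      rwa [val_pow'] at h4
    rw [one_mul] at h2
    have h5 : (lam.val y) ^ e = (lam.val y) ^ 1 := by
      rw [pow_eq_pow_iff_modEq]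
      exact h2.of_dvd (orderOf_dvd_of_pow_eq_one h3)
    rw [h5, pow_one]
  refine ⟨e, ?_, hval x, hval⟩
  obtain ⟨c, hc⟩ := h1
  rw [← pow_mul]
  have h3 : e * N = Nat.card X * c := by
    rw [hc]
    have h4 : Nat.card X / N * N = Nat.card X := Nat.div_mul_cancel (Nat.ordProj_dvd _ _)
    calc Nat.card X / N * c * N = (Nat.card X / N * N) * c := by ring
      _ = Nat.card X * c := by rw [h4]
  rw [h3, pow_mul, pow_card_eq_one', one_pow]

/-- degrees: the two classes -/
theorem setup {G : Type u} [Group G] [Finite G] [Group.IsSolvable G]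
    (htwo : Nat.card ((degreeGraph G).induce (degreePrimes G)).ConnectedComponent = 2) :
    ∃ (r : ℕ) (lam : Lin (commutator G)) (H : Subgroup G) (hNH : commutator G ≤ H), r.Prime ∧ IsV r lam ∧ lam ≠ 1 ∧
      ¬ r ∣ H.index ∧ Ext hNH lam ∧
      (inertia (commutator G) (lf lam)).index ∈ charDegrees G ∧ ¬ r ∣ (inertia (commutator G) (lf lam)).index ∧
      (inertia (commutator G) (lf lam)).index ≠ 1 ∧
      (∀ a ∈ charDegrees G, a ≠ 1 → r ∣ a → a.Coprime (inertia (commutator G) (lf lam)).index) ∧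
      ∃ a ∈ charDegrees G, a ≠ 1 ∧ r ∣ a := by
  classical
  have := Fintype.ofFinite G
  have := Fintype.ofFinite (commutator G)
  have hbot : commutator G ≠ ⊥ := by
    intro hbot
    have : IsEmpty ((degreeGraph G).induce (degreePrimes G)).ConnectedComponent := by
      refine ⟨fun c => ?_⟩
      obtain ⟨hp, d, ⟨χ, rfl⟩, hd⟩ := c.out.2
      rw [charDegree_eq_one_of_bot hbot χ] at hd
      exact hp.one_lt.ne' (Nat.dvd_one.1 hd)
    rw [Nat.card_of_isEmpty] at htwo
    omega
  obtain ⟨r, hr, hrm⟩ := exists_prime_relIndex (commutator_lt hbot)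
  -- two unreachable degrees
  obtain ⟨a0, ha0, b0, hb0, hab⟩ : ∃ a0 ∈ relCharDegrees (commutator G), ∃ b0 ∈ relCharDegrees (commutator G),
      ¬ Rch (commutator G) a0 b0 := by
    let Γ := (degreeGraph G).induce (degreePrimes G)
    have hex : ∀ c : Γ.ConnectedComponent, ∃ d ∈ relCharDegrees (commutator G), (c.out : ℕ) ∣ d := by
      intro c
      obtain ⟨hp, d, hd, hpd⟩ := c.out.2
      refine ⟨d, mem_rel.2 ⟨hd, ?_⟩, hpd⟩
      rintro rfl
      exact hp.one_lt.ne' (Nat.dvd_one.1 hpd)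
    have hnt : Nontrivial Γ.ConnectedComponent := by
      have hfin : Finite Γ.ConnectedComponent := Nat.finite_of_card_ne_zero (by rw [htwo]; decide)
      exact Finite.one_lt_card_iff_nontrivial.1 (by rw [htwo]; decide)
    obtain ⟨c, d, hcd⟩ := exists_pair_ne Γ.ConnectedComponent
    obtain ⟨a, ha, hca⟩ := hex c
    obtain ⟨b, hb, hdb⟩ := hex d
    refine ⟨a, ha, b, hb, ?_⟩
    intro h
    obtain ⟨_, _, h'⟩ := pr_of_rch h c.out.2.1 d.out.2.1 hca hdb
    apply hcd
    have h2 := SimpleGraph.ConnectedComponent.sound h'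
    have h3 : Γ.connectedComponentMk c.out = c := Quot.out_eq c
    have h4 : Γ.connectedComponentMk d.out = d := Quot.out_eq d
    have h5 : Γ.connectedComponentMk c.out = Γ.connectedComponentMk d.out := h2
    rw [h3, h4] at h5
    exact h5
  obtain ⟨H, hNH, hH, k, hk⟩ := exists_syl hr (commutator G)
  have hrr : ∀ a ∈ relCharDegrees (commutator G), ∀ b ∈ relCharDegrees (commutator G), r ∣ a → r ∣ b →
      Rch (commutator G) a b := by
    intro a ha b hb hra hrb
    refine rch_of_gcd ha hb ?_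
    exact lt_of_lt_of_le hr.one_lt (Nat.le_of_dvd (Nat.gcd_pos_of_pos_left _ (pos_of_mem ha)) (Nat.dvd_gcd hra hrb))
  obtain ⟨lam, hlam, hext, hne⟩ : ∃ lam : Lin (commutator G), IsV r lam ∧ Ext hNH lam ∧ lam ≠ 1 := by
    by_contra hcon
    push Not at hcon
    obtain ⟨mu, hmu, hmu1⟩ := exists_V hr hrm
    have hstep : ∀ a ∈ relCharDegrees (commutator G), ∃ x ∈ relCharDegrees (commutator G),
        Rch (commutator G) a x ∧ r ∣ x := by
      intro a ha
      by_cases hra : r ∣ a
      · exact ⟨a, ha, hrr a ha a ha hra hra, hra⟩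
      · obtain ⟨x, hx, h1, h2⟩ := RelDeg.case_two le_rfl hr hNH hk hmu hmu1 (fun μ h1 h2 => hcon μ h1 h2) ha hra
        exact ⟨x, hx, rch_of_gcd ha hx h1, h2⟩
    obtain ⟨x, hx, h1, h2⟩ := hstep a0 ha0
    obtain ⟨y, hy, h3, h4⟩ := hstep b0 hb0
    exact hab ((h1.trans (hrr x hx y hy h2 h4)).trans h3.symm)
  obtain ⟨h1, h2, h3⟩ := ext_degree le_rfl hr hH hlam hext hne
  have hone := fun a ha hra => case_one (N := commutator G) le_rfl hr hNH hH hk hlam hne hext (a := a) ha hra
  have hnr : ∀ a ∈ relCharDegrees (commutator G), r ∣ a → ¬ Rch (commutator G) a (dg lam) := by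
    intro a ha hra hR
    have hto : ∀ b ∈ relCharDegrees (commutator G), Rch (commutator G) b (dg lam) := by
      intro b hb
      by_cases hrb : r ∣ b
      · exact (hrr b hb a ha hrb hra).trans hR
      · exact hone b hb hrb
    exact hab ((hto a0 ha0).trans (hto b0 hb0).symm)
  refine ⟨r, lam, H, hNH, hr, hlam, hne, hH, hext, (mem_rel.1 h1).1, h2, h3, ?_, ?_⟩
  · intro a ha ha1 hra
    by_contra hc
    have ha' := mem_rel.2 ⟨ha, ha1⟩
    refine hnr a ha' hra (rch_of_gcd ha' h1 ?_)
    have := Nat.gcd_pos_of_pos_left (inertia (commutator G) (lf lam)).index (pos_of_mem ha')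
    unfold Nat.Coprime at hc
    change 1 < a.gcd (inertia (commutator G) (lf lam)).index
    omega
  · by_contra hcon
    push Not at hcon
    have hto : ∀ b ∈ relCharDegrees (commutator G), Rch (commutator G) b (dg lam) := by
      intro b hb
      exact hone b hb (hcon b (mem_rel.1 hb).1 (mem_rel.1 hb).2)
    exact hab ((hto a0 ha0).trans (hto b0 hb0).symm)

end Cfsg.Agent.Lib.NDGraph
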