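import Cfsg.Agent.Lib.NDEnd
import Cfsg.Agent.Lib.NDP1
import Cfsg.Agent.Lib.NDFin4
import Cfsg.Agent.S4456

set_option autoImplicit false

/-!
# No divisibility among character degrees: three degrees (helper85)
-/

open Cfsg Cfsg.Agent.Lib Cfsg.Agent.Lib.CharBasic Cfsg.Agent.Lib.Clifford
open Cfsg.Agent.Lib.CliffordCorr Cfsg.Agent.Lib.RelDeg Cfsg.Agent.Lib.NDGrp Subgroup
open Cfsg.Agent.Lib.H10DegGraph Cfsg.Agent.Lib.NDDat Cfsg.Agent.Lib.NDEnd
open scoped commutatorElement

namespace Cfsg.Agent.Lib.NDMain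

universe u

theorem exists_hyp {G : Type u} [Group G] [Finite G] [Group.IsSolvable G]
    (hnd : ∀ a ∈ charDegrees G, ∀ b ∈ charDegrees G, 1 < a → a < b → ¬ a ∣ b)
    (htwo : Nat.card ((degreeGraph G).induce (degreePrimes G)).ConnectedComponent = 2) :
    ∃ (K : Subgroup G) (hK : K.Normal) (r : ℕ) (lam : Lin K), Hyp K r lam ∧ ∃ a ∈ charDegrees G, a ≠ 1 ∧ r ∣ a := by
  obtain ⟨r, lam, H, hNH, hr, hlam, hne, hH, hext, hfd, hrf, hf1, hcop, hex⟩ := NDGraph.setup htwo
  set K := inertia (commutator G) (lf lam) with hKd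
  have hNK : commutator G ≤ K := le_inertia (irr_lf lam).isClassFunction
  have hK : K.Normal := Cfsg.Agent.Lib.ClassGraph.normal_of_commutator_le hNK
  have hHK : H ≤ K := hext.le
  obtain ⟨Lam, hLam⟩ := Ext.extend hr hHK hH hlam hext (fun g hg => mem_LI.1 hg)
  have hKc : Nat.card K ≠ 0 := Nat.card_pos.ne'
  have hd1 : ¬ r ∣ 1 := fun h => hr.one_lt.ne' (Nat.dvd_one.1 h)
  have hmod := ex_modEq hr (d := 1) hKc hd1
  have hdv := dvd_ex hr (d := 1) hKc hd1
  set e := ex r 1 (Nat.card K) with he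
  have hval : ∀ n : commutator G, (Lam ^ e).val ⟨(n : G), hNK n.2⟩ = lam.val n := by
    intro n
    rw [val_pow']
    change (Lam.val ⟨(n : G), hNK n.2⟩) ^ e = lam.val n
    have h1 : Lam.val ⟨(n : G), hNK n.2⟩ = lam.val n := by
      rw [← hLam]; rfl
    rw [h1]
    have h2 : (lam.val n) ^ r ^ (Nat.card (commutator G)).factorization r = 1 := by
      have h3 : (lam ^ (r ^ (Nat.card (commutator G)).factorization r)).val n = 1 := by
        rw [hlam]; rfl
      rwa [val_pow'] at h3
    have h4 : r ^ (Nat.card (commutator G)).factorization r ∣ r ^ (Nat.card K).factorization r := by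
      apply pow_dvd_pow
      exact (Nat.factorization_le_iff_dvd Nat.card_pos.ne' hKc).2 (card_dvd_of_le hNK) r
    rw [one_mul] at hmod
    have h5 : (lam.val n) ^ e = (lam.val n) ^ 1 := by
      rw [pow_eq_pow_iff_modEq]
      exact hmod.of_dvd ((orderOf_dvd_of_pow_eq_one h2).trans h4)
    rw [h5, pow_one]
  have hV : IsV r (Lam ^ e) := by
    unfold IsV
    rw [← pow_mul]
    obtain ⟨c, hc⟩ := hdv
    have h3 : e * r ^ (Nat.card K).factorization r = Nat.card K * c := by
      rw [hc]
      have h4 : Nat.card K / r ^ (Nat.card K).factorization r * r ^ (Nat.card K).factorization r = Nat.card K :=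
        Nat.div_mul_cancel (Nat.ordProj_dvd _ _)
      calc Nat.card K / r ^ (Nat.card K).factorization r * c * r ^ (Nat.card K).factorization r
          = (Nat.card K / r ^ (Nat.card K).factorization r * r ^ (Nat.card K).factorization r) * c := by ring
        _ = Nat.card K * c := by rw [h4]
    rw [h3, pow_mul, lin_pow_card, one_pow]
  refine ⟨K, hK, r, Lam ^ e, ⟨hr, hNK, hnd, hV, ?_, hfd, hrf, hf1, hcop⟩, hex⟩
  intro g hg
  rw [hKd, mem_LI]
  apply Lin.ext'
  intro n
  have h1 := hg ⟨(n : G), hNK n.2⟩ n.2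
  rw [hval n] at h1
  rw [← h1]
  exact (hval ⟨g * n * g⁻¹, (inferInstance : (commutator G).Normal).conj_mem _ n.2 g⟩).symm

theorem three {G : Type u} [Group G] [Finite G] [Group.IsSolvable G]
    (hnd : ∀ a ∈ charDegrees G, ∀ b ∈ charDegrees G, 1 < a → a < b → ¬ a ∣ b)
    (htwo : Nat.card ((degreeGraph G).induce (degreePrimes G)).ConnectedComponent = 2) :
    Nat.card ↥(charDegrees G) = 3 := by
  classical
  obtain ⟨K, hK, r, lam, h, a, ha, ha1, hra⟩ := exists_hyp hnd htwo
  have hndK : ∀ a ∈ charDegrees K, ∀ b ∈ charDegrees K, 1 < a → a ∣ b → a = b := fun a ha b hb =>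
    nd' h a (mem_G h ha) b (mem_G h hb)
  have hdK : ∀ a ∈ charDegrees K, a ≠ 1 → r ∣ a := by
    rintro _ ⟨ψ, rfl⟩ h1
    exact r_dvd h ψ.2 h1
  have heq : ∀ a ∈ charDegrees K, ∀ b ∈ charDegrees K, a ≠ 1 → b ≠ 1 → a = b := by
    obtain ⟨H, hHn, hHc, k, hk⟩ := Cfsg.Agent.S4456.result (G := K) r h.hr (fun χ hχ => hdK _ ⟨χ, rfl⟩ hχ)
    by_cases hna : commutator K ≤ H
    · have hrJ : ¬ r ∣ Nat.card ↥(⁅K, K⁆ : Subgroup G) := by
        intro hr'
        have h1 : Nat.card ↥(⁅K, K⁆ : Subgroup G) = Nat.card (commutator K) := by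
          have h2 : (⁅K, K⁆ : Subgroup G) = (commutator K).map K.subtype := by
            rw [← subgroupOf_commutator K, subgroupOf_map_subtype, inf_eq_left.2 (commutator_le_self K)]
          rw [h2]
          exact (Nat.card_congr ((commutator K).equivMapOfInjective _ K.subtype_injective).toEquiv).symm
        rw [h1] at hr'
        have h3 := hr'.trans (card_dvd_of_le hna)
        exact h.hr.one_lt.ne' (Nat.eq_one_of_dvd_coprimes hHc h3 dvd_rfl)
      have D : Dat K r := ⟨h.hr, h.comm_le, by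
        intro ht
        apply h.hf1
        rw [ht, index_top], fun ψ hψ hd g => inv h ψ hψ hd g, hndK, cop h, hrJ, fun L hL hLK => P1 h L hL hLK, P2 h⟩
      exact degrees_eq D
    · exact NDP1.nonab_case h.hr H hHc hk hna hndK hdK
  have hr1 : ∀ b : ℕ, r ∣ b → b ≠ K.index := fun b hb he => h.hrf (he ▸ hb)
  have haK := mem_K h ha ha1 (hr1 a hra)
  have hset : charDegrees G = ({1, K.index, a} : Finset ℕ) := by
    ext b
    simp only [Finset.coe_insert, Finset.coe_singleton, Set.mem_insert_iff, Set.mem_singleton_iff]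
    constructor
    · intro hb
      by_cases hb1 : b = 1
      · exact Or.inl hb1
      · by_cases hbf : b = K.index
        · exact Or.inr (Or.inl hbf)
        · exact Or.inr (Or.inr (heq b (mem_K h hb hb1 hbf) a haK hb1 ha1))
    · rintro (rfl | rfl | rfl)
      · refine ⟨⟨1, isIrrCharacter_one⟩, ?_⟩
        have h2 := Cfsg.Agent.Lib.BlockDeg.charDegree_cast (isIrrCharacter_one (G := G)).isCharacter
        have h3 : ((1 : G → ℂ)) 1 = 1 := rfl
        rw [h3] at h2
        exact_mod_cast h2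
      · exact h.hf
      · exact ha
  rw [hset]
  rw [Nat.card_coe_set_eq, Set.ncard_coe_finset]
  rw [Finset.card_insert_of_notMem, Finset.card_insert_of_notMem, Finset.card_singleton]
  · rw [Finset.mem_singleton]
    exact (hr1 a hra).symm
  · rw [Finset.mem_insert, Finset.mem_singleton]
    rintro (h1 | h1)
    · exact h.hf1 h1.symm
    · exact ha1 h1.symm

end Cfsg.Agent.Lib.NDMain
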