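import Cfsg.Agent.Lib.FrobAction
import Cfsg.Agent.Lib.H55Quat
import Mathlib.GroupTheory.Nilpotent
import Mathlib.GroupTheory.Solvable
import Mathlib.Tactic

/-!
Solvable groups acting fixed point freely all of whose proper characteristic subgroups are central:
the quaternion group of order 8 (helper12).
-/

set_option autoImplicit false

namespace Cfsg.Agent.Lib.NFQuat

open Cfsg.Agent.Lib.FrobAction

/-- an automorphism of a large generalised quaternion group preserves the cyclic subgroup of index 2. -/
theorem aut_a_one {n : ℕ} [NeZero n] (hn : 3 ≤ n) (φ : QuaternionGroup n ≃* QuaternionGroup n) :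
    φ (QuaternionGroup.a 1) ∈ Subgroup.zpowers (QuaternionGroup.a 1 : QuaternionGroup n) := by
  have h1 : orderOf (φ (QuaternionGroup.a 1)) = 2 * n := by
    rw [MulEquiv.orderOf_eq, QuaternionGroup.orderOf_a_one]
  rcases h : φ (QuaternionGroup.a 1) with j | j
  · obtain ⟨k, rfl⟩ := ZMod.natCast_zmod_surjective j
    exact ⟨k, by simp only [zpow_natCast, QuaternionGroup.a_one_pow]⟩
  · rw [h, QuaternionGroup.orderOf_xa] at h1
    omega

variable {G : Type*} [Group G]

/-- a finite group with all Sylow subgroups normal, not abelian, has a non-abelian Sylow subgroup. -/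
theorem exists_sylow_eq_top [Finite G] (hna : ¬ ∀ a b : G, a * b = b * a)
    (hnil : Group.IsNilpotent G)
    (hch : ∀ M : Subgroup G, M.Characteristic → M ≠ ⊤ → M ≤ Subgroup.center G) :
    ∃ p : ℕ, p.Prime ∧ IsPGroup p G := by
  by_contra hcon
  push Not at hcon
  apply hna
  have hsyl : ∀ (p : ℕ) (hp : Fact p.Prime) (P : Sylow p G), (P : Subgroup G).Normal :=
    (Group.isNilpotent_of_finite_tfae.out 0 3).mp hnil
  have hdvd : Nat.card G ∣ Nat.card (Subgroup.center G) := by
    rw [Nat.dvd_iff_prime_pow_dvd_dvd]
    intro p k hp hk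
    have := Fact.mk hp
    obtain ⟨P⟩ : Nonempty (Sylow p G) := inferInstance
    have hPn := hsyl p this P
    have hPc : (P : Subgroup G).Characteristic := Sylow.characteristic_of_normal P hPn
    have hPt : (P : Subgroup G) ≠ ⊤ := by
      intro h
      apply hcon p hp
      intro g
      obtain ⟨k, hk⟩ := P.2 ⟨g, h ▸ Subgroup.mem_top g⟩
      exact ⟨k, congrArg Subtype.val hk⟩
    have h1 := Subgroup.card_dvd_of_le (hch P hPc hPt)
    have h2 := P.card_eq_multiplicity
    refine dvd_trans ?_ h1
    rw [h2]
    exact pow_dvd_pow p ((hp.pow_dvd_iff_le_factorization Nat.card_pos.ne').mp hk)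
  have htop : Subgroup.center G = ⊤ := by
    apply Subgroup.eq_top_of_card_eq
    exact Nat.dvd_antisymm (Subgroup.card_subgroup_dvd_card _) hdvd
  intro a b
  have ha : b ∈ Subgroup.center G := htop ▸ Subgroup.mem_top b
  exact Subgroup.mem_center_iff.mp ha a

theorem isNilpotent_of_solvable [Finite G] (hs : Group.IsSolvable G) (hna : ¬ ∀ a b : G, a * b = b * a)
    (hch : ∀ M : Subgroup G, M.Characteristic → M ≠ ⊤ → M ≤ Subgroup.center G) :
    Group.IsNilpotent G := by
  have hnt : Nontrivial G := by
    by_contra h
    rw [not_nontrivial_iff_subsingleton] at h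
    exact hna fun a b => Subsingleton.elim _ _
  have h1 := Group.IsSolvable.commutator_lt_top_of_nontrivial G
  have h2 := hch (commutator G) inferInstance h1.ne
  apply Subgroup.isNilpotent_of_ker_le_center (Abelianization.of (G := G))
  rw [Abelianization.ker_of]
  exact h2

/-- a solvable group acting fixed point freely, all of whose proper characteristic subgroups are
central, is abelian or quaternion of order 8. -/
theorem quat_of_char [Finite G] {V : Type*} [CommGroup V] [Finite V] [Nontrivial V] {act : G →* MulAut V}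
    (hf : IsFPF act) (hs : Group.IsSolvable G) (hna : ¬ ∀ a b : G, a * b = b * a)
    (hch : ∀ M : Subgroup G, M.Characteristic → M ≠ ⊤ → M ≤ Subgroup.center G) :
    Nonempty (G ≃* QuaternionGroup 2) := by
  obtain ⟨p, hp, hP⟩ := exists_sylow_eq_top hna (isNilpotent_of_solvable hs hna hch) hch
  have := Fact.mk hp
  rcases pgroup_cyclic_or_quaternion hf hP with h | ⟨hp2, n, hn, ⟨e⟩⟩
  · exact absurd (fun a b => (IsCyclic.commGroup (α := G)).mul_comm a b) hna
  · obtain rfl | hn2 : n = 1 ∨ 2 ≤ n := by omega
    · exact ⟨e⟩
    · exfalso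
      have hn4 : 4 ≤ 2 ^ n := by
        calc 4 = 2 ^ 2 := by norm_num
          _ ≤ 2 ^ n := Nat.pow_le_pow_right (by norm_num) hn2
      have hne : NeZero (2 ^ n) := ⟨by positivity⟩
      let M : Subgroup G := (Subgroup.zpowers (QuaternionGroup.a 1 : QuaternionGroup (2 ^ n))).comap
        e.toMonoidHom
      have hMmem : ∀ x, x ∈ M ↔ e x ∈ Subgroup.zpowers (QuaternionGroup.a 1 : QuaternionGroup (2 ^ n)) :=
        fun x => Iff.rfl
      have hMc : M.Characteristic := by
        rw [Subgroup.characteristic_iff_map_le]
        intro φ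
        rintro _ ⟨x, hx, rfl⟩
        have hx' := (hMmem x).mp hx
        rw [hMmem]
        let ψ : QuaternionGroup (2 ^ n) ≃* QuaternionGroup (2 ^ n) := (e.symm.trans φ).trans e
        have h1 := aut_a_one (by omega) ψ
        obtain ⟨k, hk⟩ := hx'
        have h2 : e (φ x) = ψ (e x) := by
          show _ = e (φ (e.symm (e x)))
          rw [e.symm_apply_apply]
        show e (φ x) ∈ _
        rw [h2, ← hk]
        show ψ ((QuaternionGroup.a 1) ^ k) ∈ _
        rw [map_zpow]
        exact Subgroup.zpow_mem _ h1 k
      have hMt : M ≠ ⊤ := by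
        intro h
        have h1 : e.symm (QuaternionGroup.xa 0) ∈ M := h ▸ Subgroup.mem_top _
        rw [hMmem, e.apply_symm_apply] at h1
        obtain ⟨k, hk⟩ := (mem_powers_iff_mem_zpowers).mpr h1
        simp only at hk
        rw [QuaternionGroup.a_one_pow] at hk
        exact absurd hk (by simp)
      have hMz := hch M hMc hMt
      have h1 : e.symm (QuaternionGroup.a 1) ∈ M := by
        rw [hMmem, e.apply_symm_apply]
        exact Subgroup.mem_zpowers _
      have h2 := Subgroup.mem_center_iff.mp (hMz h1) (e.symm (QuaternionGroup.xa 0))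
      have h3 := congrArg e h2
      rw [map_mul, map_mul, e.apply_symm_apply, e.apply_symm_apply, QuaternionGroup.xa_mul_a,
        QuaternionGroup.a_mul_xa] at h3
      have h4 : (0 : ZMod (2 * 2 ^ n)) + 1 = 0 - 1 := QuaternionGroup.xa.inj h3
      have h5 : ((2 : ℕ) : ZMod (2 * 2 ^ n)) = 0 := by
        have : (1 : ZMod (2 * 2 ^ n)) + 1 = 0 := by
          rw [zero_add, zero_sub] at h4
          nth_rewrite 1 [h4]
          ring
        push_cast
        rw [← this]; ring
      rw [ZMod.natCast_eq_zero_iff] at h5
      have := Nat.le_of_dvd (by norm_num) h5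
      omega

/-- an automorphism of order 3 of `Q_8`. -/
def rot (x : QuaternionGroup 2) : QuaternionGroup 2 :=
  if x = .a 0 then .a 0 else if x = .a 1 then .xa 0 else if x = .a 2 then .a 2 else
  if x = .a 3 then .xa 2 else if x = .xa 0 then .xa 3 else if x = .xa 1 then .a 3 else
  if x = .xa 2 then .xa 1 else .a 1

theorem rot_mul : ∀ x y : QuaternionGroup 2, rot (x * y) = rot x * rot y := by decide +kernel

theorem rot_rot : ∀ x : QuaternionGroup 2, rot (rot (rot x)) = x := by decide +kernel

def rotAut : MulAut (QuaternionGroup 2) where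
  toFun := rot
  invFun := fun x => rot (rot x)
  left_inv := rot_rot
  right_inv := rot_rot
  map_mul' := rot_mul

theorem dvd_card_mulAut_q8 : Nat.card (MulAut (QuaternionGroup 2)) ∣ 24 := by
  classical
  have hle := Cfsg.Agent.Lib.H55Quat.card_mulAut_quaternion_two
  have hfin : Finite (MulAut (QuaternionGroup 2)) :=
    Finite.of_injective (fun f : MulAut (QuaternionGroup 2) => (f : QuaternionGroup 2 → QuaternionGroup 2))
      DFunLike.coe_injective
  have h3 : 3 ∣ Nat.card (MulAut (QuaternionGroup 2)) := by
    have h1 : orderOf rotAut = 3 := by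
      have := Fact.mk Nat.prime_three
      apply orderOf_eq_prime
      · ext x
        exact rot_rot x
      · intro h
        have := congrArg (fun f : MulAut (QuaternionGroup 2) => f (.a 1)) h
        exact absurd this (by decide +kernel)
    rw [← h1]
    exact orderOf_dvd_natCard _
  have h4 : 4 ∣ Nat.card (MulAut (QuaternionGroup 2)) := by
    have h1 : Nat.card (MulAut.conj (G := QuaternionGroup 2)).ker = 2 := by
      have h2 : ((MulAut.conj (G := QuaternionGroup 2)).ker : Set (QuaternionGroup 2)) =
          (({.a 0, .a 2} : Finset (QuaternionGroup 2)) : Set (QuaternionGroup 2)) := by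
        ext x
        have h3 : ∀ x : QuaternionGroup 2, (∀ y, x * y * x⁻¹ = y) ↔ x ∈ ({.a 0, .a 2} : Finset (QuaternionGroup 2)) := by
          decide +kernel
        rw [Finset.mem_coe, ← h3, SetLike.mem_coe, MonoidHom.mem_ker]
        constructor
        · intro h y
          exact congrArg (fun f : MulAut (QuaternionGroup 2) => f y) h
        · intro h
          ext y
          exact h y
      rw [← SetLike.coe_sort_coe, h2, Nat.card_coe_set_eq, Set.ncard_coe_finset]
      rfl
    have h2 := Subgroup.card_mul_index (MulAut.conj (G := QuaternionGroup 2)).ker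
    have h5 : Nat.card (QuaternionGroup 2) = 8 := by
      rw [Nat.card_eq_fintype_card, QuaternionGroup.card]
    rw [h1, h5, Subgroup.index_ker] at h2
    have h6 : Nat.card (MulAut.conj (G := QuaternionGroup 2)).range = 4 := by omega
    rw [← h6]
    exact Subgroup.card_subgroup_dvd_card _
  have hpos : 0 < Nat.card (MulAut (QuaternionGroup 2)) := Nat.card_pos
  have h12 : 12 ∣ Nat.card (MulAut (QuaternionGroup 2)) :=
    Nat.Coprime.mul_dvd_of_dvd_of_dvd (by norm_num : Nat.Coprime 3 4) h3 h4
  obtain ⟨k, hk⟩ := h12
  have hk2 : k = 1 ∨ k = 2 := by omega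
  rcases hk2 with rfl | rfl
  · rw [hk]; norm_num
  · rw [hk]

end Cfsg.Agent.Lib.NFQuat
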