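import Mathlib

/-!
# Normal partitions of finite groups (for S4248)
-/

set_option autoImplicit false

namespace Cfsg.Agent.Lib

/-- `X g` is the component of `g` in a conjugation invariant nontrivial partition of `G`
(`X 1` is irrelevant). -/
structure NP {G : Type*} [Group G] (X : G → Subgroup G) : Prop where
  mem : ∀ g, g ∈ X g
  eq : ∀ {g h}, h ≠ 1 → h ∈ X g → X h = X g
  conj : ∀ g h, X (g * h * g⁻¹) = (X h).map (MulAut.conj g).toMonoidHom
  ne_top : ∀ g, X g ≠ ⊤

namespace NP

variable {G : Type*} [Group G]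

/-- The normal refinement of a nontrivial partition. -/
theorem exists_of_partition (S : Set (Subgroup G)) (hS2 : ∃ H ∈ S, ∃ K ∈ S, H ≠ K)
    (hS1 : ∀ H ∈ S, H ≠ ⊥) (hpart : ∀ g : G, g ≠ 1 → ∃! H : Subgroup G, H ∈ S ∧ g ∈ H) :
    ∃ X : G → Subgroup G, NP X := by
  classical
  have hY : ∀ g : G, ∃ H : Subgroup G, g ∈ H ∧ (g = 1 → H = ⊥) ∧
      (g ≠ 1 → H ∈ S ∧ ∀ K ∈ S, g ∈ K → K = H) := by
    intro g
    by_cases hg : g = 1
    · exact ⟨⊥, by rw [hg]; exact one_mem _, fun _ => rfl, fun h => absurd hg h⟩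
    · obtain ⟨H, ⟨h1, h2⟩, h3⟩ := hpart g hg
      exact ⟨H, h2, fun h => absurd h hg, fun _ => ⟨h1, fun K hK hgK => h3 K ⟨hK, hgK⟩⟩⟩
  choose Y hYm hY1 hYS using hY
  have hex : ∀ H ∈ S, ∃ x ∈ H, x ≠ 1 := by
    intro H hH
    obtain ⟨a, ha⟩ := (Subgroup.ne_bot_iff_exists_ne_one).1 (hS1 H hH)
    exact ⟨a, a.2, fun h => ha (Subtype.ext h)⟩
  have hYne : ∀ g, Y g ≠ ⊤ := by
    intro g hg
    obtain ⟨H, hH, K, hK, hne⟩ := hS2
    by_cases h1 : g = 1
    · have h2 := hY1 g h1
      obtain ⟨x, hx, hx1⟩ := hex H hH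
      have : x ∈ Y g := by rw [hg]; trivial
      rw [h2] at this
      exact hx1 (by simpa using this)
    · obtain ⟨h2, _⟩ := hYS g h1
      have key : ∀ H ∈ S, H = Y g := by
        intro H hH
        obtain ⟨x, hx, hx1⟩ := hex H hH
        rw [(hYS x hx1).2 H hH hx, (hYS x hx1).2 (Y g) h2 (by rw [hg]; trivial)]
      exact hne ((key H hH).trans (key K hK).symm)
  have hYeq : ∀ g h, h ≠ 1 → h ∈ Y g → Y h = Y g := by
    intro g h hh hm
    have hg : g ≠ 1 := by
      intro h1
      rw [hY1 g h1] at hm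
      exact hh (by simpa using hm)
    exact ((hYS h hh).2 (Y g) (hYS g hg).1 hm).symm
  refine ⟨fun g => ⨅ k : G, (Y (k * g * k⁻¹)).comap (MulAut.conj k).toMonoidHom, ?_, ?_, ?_, ?_⟩
  · intro g
    rw [Subgroup.mem_iInf]
    intro k
    rw [Subgroup.mem_comap]
    exact hYm _
  · intro g h hh hm
    rw [Subgroup.mem_iInf] at hm
    refine iInf_congr fun k => ?_
    have h1 := hm k
    rw [Subgroup.mem_comap] at h1
    change k * h * k⁻¹ ∈ _ at h1
    rw [hYeq _ _ (by simpa using hh) h1]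
  · intro g h
    ext x
    rw [Subgroup.mem_iInf, Subgroup.mem_map_equiv, Subgroup.mem_iInf]
    constructor
    · intro hx k
      have h1 := hx (k * g⁻¹)
      rw [Subgroup.mem_comap] at h1 ⊢
      have e1 : (MulAut.conj k).toMonoidHom ((MulAut.conj g).symm x) =
          (MulAut.conj (k * g⁻¹)).toMonoidHom x := by
        change k * ((MulAut.conj g).symm x) * k⁻¹ = k * g⁻¹ * x * (k * g⁻¹)⁻¹
        rw [MulAut.conj_symm_apply]
        group
      have e2 : k * h * k⁻¹ = k * g⁻¹ * (g * h * g⁻¹) * (k * g⁻¹)⁻¹ := by group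
      rw [e1, e2]
      exact h1
    · intro hx k
      have h1 := hx (k * g)
      rw [Subgroup.mem_comap] at h1 ⊢
      have e1 : (MulAut.conj k).toMonoidHom x =
          (MulAut.conj (k * g)).toMonoidHom ((MulAut.conj g).symm x) := by
        change k * x * k⁻¹ = k * g * ((MulAut.conj g).symm x) * (k * g)⁻¹
        rw [MulAut.conj_symm_apply]
        group
      have e2 : k * (g * h * g⁻¹) * k⁻¹ = k * g * h * (k * g)⁻¹ := by group
      rw [e1, e2]
      exact h1
  · intro g h
    apply hYne g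
    rw [eq_top_iff] at h ⊢
    refine h.trans (le_trans (iInf_le _ 1) ?_)
    intro x hx
    rw [Subgroup.mem_comap] at hx
    simpa using hx

variable {X : G → Subgroup G}

theorem eq' (h : NP X) {a b : G} (ha : a ≠ 1) (h1 : a ∈ X b) : X a = X b := h.eq ha h1

theorem disj (h : NP X) {a b c : G} (hc : c ≠ 1) (h1 : c ∈ X a) (h2 : c ∈ X b) : X a = X b := by
  rw [← h.eq hc h1, ← h.eq hc h2]

theorem inf_eq_bot (h : NP X) {a b : G} (hne : X a ≠ X b) : X a ⊓ X b = ⊥ := by
  rw [eq_bot_iff]
  intro c hc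
  rw [Subgroup.mem_inf] at hc
  by_contra h1
  exact hne (h.disj (fun h2 => h1 (by rw [h2]; exact one_mem _)) hc.1 hc.2)

theorem mem_conj (h : NP X) {g a x : G} (hx : x ∈ X a) : g * x * g⁻¹ ∈ X (g * a * g⁻¹) := by
  rw [h.conj]
  exact ⟨x, hx, rfl⟩

theorem mem_conj_iff (h : NP X) {g a x : G} : g * x * g⁻¹ ∈ X (g * a * g⁻¹) ↔ x ∈ X a := by
  refine ⟨fun h1 => ?_, h.mem_conj⟩
  have := h.mem_conj (g := g⁻¹) h1
  simpa [mul_assoc] using this

/-- An element commuting with a nontrivial element normalizes its component. -/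
theorem conj_mem_of_commute (h : NP X) {a c x : G} (hc : c * a = a * c) (hx : x ∈ X a) :
    c * x * c⁻¹ ∈ X a := by
  have h1 : c * a * c⁻¹ = a := by rw [hc]; group
  have := h.mem_conj (g := c) hx
  rwa [h1] at this

theorem commute_mem_normalizer (h : NP X) {a c : G} (hc : c * a = a * c) :
    c ∈ Subgroup.normalizer (X a : Set G) := by
  have h1 : c * a * c⁻¹ = a := by rw [hc]; group
  rw [Subgroup.mem_normalizer_iff]
  intro x
  have := h.mem_conj_iff (g := c) (a := a) (x := x)
  rw [h1] at this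
  exact this.symm

/-- `n` normalizes `X a` iff it maps some (equivalently every) nontrivial element of `X a`
into `X a`. -/
theorem mem_normalizer_of (h : NP X) {a c x : G} (hx1 : x ≠ 1) (hx : x ∈ X a)
    (hc : c * x * c⁻¹ ∈ X a) : c ∈ Subgroup.normalizer (X a : Set G) := by
  have h1 : X (c * x * c⁻¹) = X a := h.eq (by simpa using hx1) hc
  have h2 : X x = X a := h.eq hx1 hx
  rw [Subgroup.mem_normalizer_iff]
  intro y
  have := h.mem_conj_iff (g := c) (a := x) (x := y)
  rw [h1, h2] at this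
  exact this.symm

theorem mem_normalizer_iff' (h : NP X) {a c : G} (ha : a ≠ 1) :
    c ∈ Subgroup.normalizer (X a : Set G) ↔ X (c * a * c⁻¹) = X a := by
  constructor
  · intro hc
    exact h.eq (by simpa using ha) ((Subgroup.mem_normalizer_iff.1 hc a).1 (h.mem a))
  · intro hc
    exact h.mem_normalizer_of ha (h.mem a) (hc ▸ h.mem _)

/-- Distinct conjugates of a component meet trivially. -/
theorem ti (h : NP X) {a g : G} (hg : g ∉ Subgroup.normalizer (X a : Set G)) :
    X a ⊓ (X a).map (MulAut.conj g).toMonoidHom = ⊥ := by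
  rw [← h.conj]
  apply h.inf_eq_bot
  intro h1
  apply hg
  by_cases ha : a = 1
  · subst ha
    have h2 : g * 1 * g⁻¹ = 1 := by group
    exact h.commute_mem_normalizer (by group)
  · rw [h.mem_normalizer_iff' ha, ← h1]

variable [Finite G]

/-- Commuting nontrivial elements in different components have the same prime order. -/
theorem F0 (h : NP X) {a b : G} (ha : a ≠ 1) (hb : b ≠ 1) (hc : a * b = b * a)
    (hne : X a ≠ X b) : ∃ p, p.Prime ∧ orderOf a = p ∧ orderOf b = p := by
  have key : ∀ a b : G, a ≠ 1 → b ≠ 1 → a * b = b * a → X a ≠ X b → orderOf b ∣ orderOf a := by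
    intro a b ha hb hc hne
    rw [orderOf_dvd_iff_pow_eq_one]
    by_contra h1
    have h2 : (a * b) ^ orderOf a = b ^ orderOf a := by
      rw [(show Commute a b from hc).mul_pow, pow_orderOf_eq_one, one_mul]
    have h3 : a * b ≠ 1 := by
      intro h4
      rw [h4, one_pow] at h2
      exact h1 h2.symm
    have h4 : b ^ orderOf a ∈ X (a * b) := by
      rw [← h2]; exact pow_mem (h.mem _) _
    have h5 : b ^ orderOf a ∈ X b := pow_mem (h.mem _) _
    have h6 : X (a * b) = X b := h.disj h1 h4 h5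
    have h7 : a ∈ X b := by
      have h8 : a * b ∈ X b := h6 ▸ h.mem _
      have := mul_mem h8 (inv_mem (h.mem b))
      simpa using this
    exact hne (h.eq ha h7)
  have hop : ∀ a b : G, a ≠ 1 → b ≠ 1 → a * b = b * a → X a ≠ X b → orderOf a = orderOf b :=
    fun a b ha hb hc hne => Nat.dvd_antisymm (key b a hb ha hc.symm hne.symm) (key a b ha hb hc hne)
  refine ⟨orderOf a, ?_, rfl, (hop a b ha hb hc hne).symm⟩
  rw [Nat.prime_def]
  refine ⟨?_, ?_⟩
  · have h1 : 0 < orderOf a := orderOf_pos a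
    have h2 : orderOf a ≠ 1 := by rw [Ne, orderOf_eq_one_iff]; exact ha
    omega
  · intro m hm
    by_contra hcon
    push Not at hcon
    have h1 : a ^ m ≠ 1 := by
      intro h2
      rw [← orderOf_dvd_iff_pow_eq_one] at h2
      exact hcon.2 (Nat.dvd_antisymm hm h2)
    have h2 : a ^ m ∈ X a := pow_mem (h.mem _) _
    have h3 : X (a ^ m) = X a := h.eq h1 h2
    have h4 : a ^ m * b = b * a ^ m := ((show Commute a b from hc).pow_left m).eq
    have h5 := hop (a ^ m) b h1 hb h4 (by rw [h3]; exact hne)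
    have h6 := hop a b ha hb hc hne
    rw [← h6, orderOf_pow_of_dvd (by
      intro h7; rw [h7] at h1; simp at h1) hm] at h5
    have hpos : 0 < orderOf a := orderOf_pos a
    obtain ⟨k, hk⟩ := hm
    have hm0 : 0 < m := by
      rcases Nat.eq_zero_or_pos m with h7 | h7
      · rw [h7, zero_mul] at hk; omega
      · exact h7
    rw [hk, Nat.mul_div_cancel_left _ hm0] at h5
    have hk0 : 0 < k := by
      rcases Nat.eq_zero_or_pos k with h7 | h7
      · rw [h7, mul_zero] at hk; omega
      · exact h7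
    have : m = 1 := by
      have h8 : 1 * k = m * k := by omega
      exact (Nat.eq_of_mul_eq_mul_right hk0 h8).symm
    exact hcon.1 this

/-- commuting elements with different orders are in the same component -/
theorem same_of_order_ne (h : NP X) {a b : G} (ha : a ≠ 1) (hb : b ≠ 1) (hc : a * b = b * a)
    (ho : orderOf a ≠ orderOf b) : X a = X b := by
  by_contra h1
  obtain ⟨p, _, h2, h3⟩ := h.F0 ha hb hc h1
  exact ho (h2.trans h3.symm)

theorem same_of_not_prime (h : NP X) {a b : G} (ha : a ≠ 1) (hb : b ≠ 1) (hc : a * b = b * a)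
    (ho : ¬ (orderOf a).Prime) : X a = X b := by
  by_contra h1
  obtain ⟨p, hp, h2, h3⟩ := h.F0 ha hb hc h1
  exact ho (h2 ▸ hp)

omit [Finite G] in
/-- If `y` is not in `X a`, and `y ^ p` is in it, then `y ^ p = 1`. -/
theorem pow_eq_one (h : NP X) {a y : G} {p : ℕ} (hy : y ∉ X a)
    (hyp : y ^ p ∈ X a) : y ^ p = 1 := by
  by_contra h1
  have h2 : X (y ^ p) = X a := h.eq h1 hyp
  have h3 : X y = X (y ^ p) := (h.eq h1 (pow_mem (h.mem y) p)).symm
  exact hy (by rw [← h2, ← h3]; exact h.mem y)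

end NP

end Cfsg.Agent.Lib
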