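import Cfsg.Agent.Lib.NPartA2
import Cfsg.Agent.Lib.CentD8

/-!
Finite groups with a partition and an abelian normal subgroup (for S4248, part A).
-/
set_option autoImplicit false
set_option linter.all false

namespace Cfsg.Agent.Lib.NPA

open Finset Cfsg Cfsg.Agent.Lib

section ab
variable {G : Type*} [Group G] [Finite G] {X : G → Subgroup G}

/-- the alternatives -/
def Alt (G : Type*) [Group G] : Prop :=
  Nonempty (G ≃* Equiv.Perm (Fin 4)) ∨ (∃ p : ℕ, p.Prime ∧ Subgroup.closure {g : G | g ^ p ≠ 1} ≠ ⊤) ∨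
    (∃ H : Subgroup G, Cfsg.IsFrobeniusComplement H)

/-- no bad components -/
theorem case_none (h : NP X) {p : ℕ} (hp : p.Prime) (A : Subgroup G) [hAn : A.Normal] (hA : A ≠ ⊥)
    (hab : ∀ a ∈ A, ∀ b ∈ A, a * b = b * a) (hAp : ∀ a ∈ A, a ^ p = 1)
    (hgood : ∀ a ∈ A, a ≠ 1 → ∀ x ∈ X a, x ^ p = 1) : Alt G := by
  classical
  haveI := Fact.mk hp
  letI : CommGroup A := { (inferInstance : Group A) with
    mul_comm := fun a b => Subtype.ext (hab a a.2 b b.2) }
  haveI : Nontrivial A := (Subgroup.nontrivial_iff_ne_bot A).2 hA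
  have hpA : p ∣ Nat.card A := by
    obtain ⟨a, ha⟩ := (Subgroup.ne_bot_iff_exists_ne_one).1 hA
    have h1 : orderOf a = p := orderOf_eq_prime (Subtype.ext (hAp a a.2)) ha
    rw [← h1]
    exact orderOf_dvd_natCard a
  -- the `p`-elements
  have hpel : ∀ y : G, (∃ k, y ^ p ^ k = 1) → y ^ p = 1 := by
    rintro y ⟨k, hk⟩
    by_cases hy1 : y = 1
    · rw [hy1, one_pow]
    obtain ⟨z, hz, hz1, hzc⟩ := exists_fixed hp (Subgroup.zpowers y) (zpowers_isPGroup hk) A hpA
    have hyz := hzc y (Subgroup.mem_zpowers y)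
    by_cases hne : X y = X z
    · exact hgood z hz hz1 y (hne ▸ h.mem y)
    · obtain ⟨q, hq, h1, h2⟩ := h.F0 hy1 hz1 hyz hne
      have h3 : orderOf z = p := orderOf_eq_prime (hAp z hz) hz1
      rw [← h3, h2, ← h1]
      exact pow_orderOf_eq_one y
  have hN3 : ∀ y c : G, orderOf y = p → y * c = c * y → c ^ p = 1 := by
    intro y c hy hyc
    by_contra hcp
    have hc1 : c ≠ 1 := by rintro rfl; exact hcp (one_pow p)
    have hy1 : y ≠ 1 := by rintro rfl; rw [orderOf_one] at hy; exact hp.one_lt.ne hy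
    have hyp : y ^ p = 1 := by rw [← hy]; exact pow_orderOf_eq_one y
    have hXc : X c = X y := by
      by_contra hne
      obtain ⟨q, hq, h1, h2⟩ := h.F0 hc1 hy1 hyc.symm hne
      apply hcp
      rw [← hy, h2, ← h1]
      exact pow_orderOf_eq_one c
    have hYA : ∀ a ∈ A, a ∈ X y → a = 1 := by
      intro a ha haY
      by_contra ha1
      apply hcp
      apply hgood a ha ha1
      rw [h.eq ha1 haY, ← hXc]
      exact h.mem c
    obtain ⟨z, hz, hz1, hzc⟩ := exists_fixed hp (Subgroup.zpowers y)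
      (zpowers_isPGroup (k := 1) (by rw [pow_one]; exact hyp)) A hpA
    have hyz := hzc y (Subgroup.mem_zpowers y)
    have h1 : z * c * z⁻¹ ∈ X y := h.conj_mem_of_commute hyz.symm (hXc ▸ h.mem c)
    have h2 : z * c * z⁻¹ * c⁻¹ = 1 := by
      apply hYA
      · have : z * c * z⁻¹ * c⁻¹ = z * (c * z⁻¹ * c⁻¹) := by group
        rw [this]
        exact A.mul_mem hz (hAn.conj_mem _ (A.inv_mem hz) c)
      · exact mul_mem h1 (inv_mem (hXc ▸ h.mem c))
    have h3 : z * c = c * z := by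
      calc z * c = (z * c * z⁻¹ * c⁻¹) * (c * z) := by group
        _ = c * z := by rw [h2, one_mul]
    by_cases hne : X c = X z
    · apply hz1
      apply hYA z hz
      rw [← hXc, hne]
      exact h.mem z
    · obtain ⟨q, hq, h4, h5⟩ := h.F0 hc1 hz1 h3.symm hne
      have h6 : orderOf z = p := orderOf_eq_prime (hAp z hz) hz1
      apply hcp
      rw [← h6, h5, ← h4]
      exact pow_orderOf_eq_one c
  let φ : G →* MulAut A := MulAut.conjNormal (H := A)
  have hφ : ∀ (x : G) (w : A), ((φ x w : A) : G) = x * w * x⁻¹ := fun x w => MulAut.conjNormal_apply x w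
  obtain ⟨P, hPn, hPp, hPall⟩ := lemN (W := A) hp (fun w => Subtype.ext (hAp w w.2)) φ (by
      intro y hy1 hyp w hw
      by_contra hw1
      have hw1' : (w : G) ≠ 1 := fun h3 => hw1 (Subtype.ext h3)
      have h1 : y * w * y⁻¹ = w := by rw [← hφ, hw]
      have h2 : y * w = w * y := mul_inv_eq_iff_eq_mul.1 h1
      have h3 : orderOf (w : G) = p := orderOf_eq_prime (hAp w w.2) hw1'
      have h4 : X y = X w := h.same_of_order_ne hy1 hw1' h2 (by
        rw [h3]
        intro h4
        rw [h4, Nat.coprime_self] at hyp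
        exact hp.one_lt.ne' hyp)
      have h5 := hgood w w.2 hw1' y (h4 ▸ h.mem y)
      exact hy1 (eq_one_of_coprime hp h5 (pow_orderOf_eq_one y) hyp)) (by
      intro y hy
      have h1 := hpel y hy
      refine ⟨h1, fun w => ?_⟩
      have h2 : ((w : G) * y) ^ p = 1 := by
        apply hpel
        obtain ⟨k, hk⟩ := hy
        refine ⟨k + 1, ?_⟩
        have h3 : ((w : G) * y) ^ p ^ k ∈ A := by
          rw [← QuotientGroup.eq_one_iff, QuotientGroup.mk_pow, QuotientGroup.mk_mul,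
            (QuotientGroup.eq_one_iff (w : G)).2 w.2, one_mul, ← QuotientGroup.mk_pow, hk, QuotientGroup.mk_one]
        rw [pow_succ, pow_mul]
        exact hAp _ h3
      rw [mul_pow_eq, h1, mul_one] at h2
      have h3 : ∀ n : ℕ, ((∏ i ∈ range n, φ (y ^ i) w : A) : G) =
          ((List.range n).map fun i => y ^ i * (w : G) * (y ^ i)⁻¹).prod := by
        intro n
        induction n with
        | zero => rfl
        | succ n ih =>
          rw [prod_range_succ, List.range_succ, List.map_append, List.prod_append, ← ih]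
          show ((∏ i ∈ range n, φ (y ^ i) w : A) : G) * ((φ (y ^ n) w : A) : G) = _
          rw [hφ]
          simp
      apply Subtype.ext
      rw [h3, h2]
      rfl) hN3
  have hPp1 : ∀ k ∈ P, k ^ p = 1 := by
    intro k hk
    obtain ⟨j, hj⟩ := hPp ⟨k, hk⟩
    exact hpel k ⟨j, congrArg Subtype.val hj⟩
  by_cases hPt : P = ⊤
  · right; left
    refine ⟨p, hp, ?_⟩
    have : {g : G | g ^ p ≠ 1} = ∅ := by
      ext g
      simp only [Set.mem_setOf_eq, Set.mem_empty_iff_false, iff_false, not_not]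
      exact hPp1 g (by rw [hPt]; trivial)
    rw [this, Subgroup.closure_empty]
    intro hbt
    apply hA
    rw [eq_bot_iff, hbt]
    exact le_top
  · right; right
    refine lemF P ?_ hPt ?_
    · intro h1
      apply hA
      rw [eq_bot_iff, ← h1]
      intro a ha
      exact hPall a (hAp a ha)
    · intro k hk hk1 u huk
      exact hPall u (hN3 k u (orderOf_eq_prime (hPp1 k hk) hk1) huk.symm)

end ab

section two
variable {G : Type*} [Group G] [Finite G] {X : G → Subgroup G}

theorem card_lem {A : Type*} [Group A] [Finite A] (δ : A →* A) (U : Subgroup A) (h1 : δ.ker ≤ U) (h2 : δ.range ≤ U) :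
    Nat.card A ≤ Nat.card U * Nat.card U ∧
    (Nat.card U * Nat.card U ≤ Nat.card A → δ.ker = U ∧ δ.range = U) := by
  have h3 : Nat.card δ.ker * Nat.card δ.range = Nat.card A := by
    have := Subgroup.card_mul_index δ.ker
    rwa [Subgroup.index_ker] at this
  have h4 : Nat.card δ.ker ≤ Nat.card U := Subgroup.card_le_of_le h1
  have h5 : Nat.card δ.range ≤ Nat.card U := Subgroup.card_le_of_le h2
  have h6 : 0 < Nat.card U := Nat.card_pos
  refine ⟨by rw [← h3]; exact Nat.mul_le_mul h4 h5, fun h7 => ?_⟩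
  rw [← h3] at h7
  constructor
  · apply Subgroup.eq_of_le_of_card_ge h1
    by_contra hlt
    push Not at hlt
    have h8 : Nat.card δ.ker * Nat.card δ.range < Nat.card U * Nat.card U :=
      lt_of_le_of_lt (Nat.mul_le_mul_left _ h5) (Nat.mul_lt_mul_of_pos_right hlt h6)
    omega
  · apply Subgroup.eq_of_le_of_card_ge h2
    by_contra hlt
    push Not at hlt
    have h8 : Nat.card δ.ker * Nat.card δ.range < Nat.card U * Nat.card U :=
      lt_of_le_of_lt (Nat.mul_le_mul_right _ h4) (Nat.mul_lt_mul_of_pos_left hlt h6)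
    omega

/-- the setting: an elementary abelian normal `p`-subgroup -/
structure EA (A : Subgroup G) (p : ℕ) : Prop where
  hp : p.Prime
  hn : A.Normal
  ab : ∀ a ∈ A, ∀ b ∈ A, a * b = b * a
  ex : ∀ a ∈ A, a ^ p = 1

/-- `b ↦ b⁻¹ x b x⁻¹` -/
def dl {A : Subgroup G} {p : ℕ} (hA : EA A p) (x : G) : A →* A where
  toFun b := ⟨(b : G)⁻¹ * (x * b * x⁻¹), A.mul_mem (A.inv_mem b.2) (hA.hn.conj_mem b b.2 x)⟩
  map_one' := Subtype.ext (by simp)
  map_mul' := by
    intro b c
    apply Subtype.ext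
    show ((b : G) * c)⁻¹ * (x * (b * c) * x⁻¹) = ((b : G)⁻¹ * (x * b * x⁻¹)) * ((c : G)⁻¹ * (x * c * x⁻¹))
    have h1 : (c : G)⁻¹ * ((b : G)⁻¹ * (x * b * x⁻¹)) = ((b : G)⁻¹ * (x * b * x⁻¹)) * (c : G)⁻¹ :=
      hA.ab _ (A.inv_mem c.2) _ (A.mul_mem (A.inv_mem b.2) (hA.hn.conj_mem b b.2 x))
    calc ((b : G) * c)⁻¹ * (x * (b * c) * x⁻¹) = ((c : G)⁻¹ * ((b : G)⁻¹ * (x * b * x⁻¹))) * (x * c * x⁻¹) := by group
      _ = _ := by rw [h1]; group

theorem dl_coe {A : Subgroup G} {p : ℕ} (hA : EA A p) (x : G) (b : A) :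
    ((dl hA x b : A) : G) = (b : G)⁻¹ * (x * b * x⁻¹) := rfl

structure Bad (X : G → Subgroup G) (A : Subgroup G) (p : ℕ) (a x : G) : Prop where
  ha : a ∈ A
  ha1 : a ≠ 1
  hx : x ∈ X a
  hxp : x ^ p ≠ 1

variable {A : Subgroup G} {p : ℕ}

theorem Bad.x1 {a x : G} (hb : Bad X A p a x) : x ≠ 1 := by
  intro h1
  apply hb.hxp
  rw [h1, one_pow]

theorem Bad.cent (h : NP X) (hA : EA A p) {a x : G} (hb : Bad X A p a x) {b : G} (hbA : b ∈ A)
    (hbx : b * x = x * b) : b ∈ X a := by
  by_cases hb1 : b = 1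
  · rw [hb1]; exact one_mem _
  have h1 : X x = X a := h.eq hb.x1 hb.hx
  haveI := Fact.mk hA.hp
  have h2 : orderOf b = p := orderOf_eq_prime (hA.ex b hbA) hb1
  rw [← h1, ← h.same_of_order_ne hb1 hb.x1 hbx (by
    rw [h2]
    intro h3
    exact hb.hxp (by rw [h3]; exact pow_orderOf_eq_one x))]
  exact h.mem b

theorem Bad.comm_mem (h : NP X) (hA : EA A p) {a x : G} (hb : Bad X A p a x) {b : G} (hbA : b ∈ A) :
    b⁻¹ * (x * b * x⁻¹) ∈ X a := by
  have h1 : b⁻¹ * x * b⁻¹⁻¹ ∈ X a := h.conj_mem_of_commute (hA.ab _ (A.inv_mem hbA) _ hb.ha) hb.hx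
  have h2 : b⁻¹ * (x * b * x⁻¹) = (b⁻¹ * x * b⁻¹⁻¹) * x⁻¹ := by group
  rw [h2]
  exact mul_mem h1 (inv_mem hb.hx)

theorem Bad.dl_le (h : NP X) (hA : EA A p) {a x : G} (hb : Bad X A p a x) :
    (dl hA x).ker ≤ (X a).subgroupOf A ∧ (dl hA x).range ≤ (X a).subgroupOf A := by
  constructor
  · intro b hbk
    rw [MonoidHom.mem_ker] at hbk
    have h1 : (b : G)⁻¹ * (x * b * x⁻¹) = 1 := congrArg Subtype.val hbk
    rw [inv_mul_eq_one] at h1
    exact hb.cent h hA b.2 (by rw [eq_mul_inv_iff_mul_eq] at h1; exact h1)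
  · rintro _ ⟨b, rfl⟩
    exact hb.comm_mem h hA b.2

theorem two_card (h : NP X) (hA : EA A p) {a1 x1 a2 x2 : G} (hb1 : Bad X A p a1 x1) (hb2 : Bad X A p a2 x2)
    (hne : X a1 ≠ X a2) :
    (dl hA x1).ker = (X a1).subgroupOf A ∧ (dl hA x1).range = (X a1).subgroupOf A ∧
    Nat.card A = Nat.card ((X a1).subgroupOf A) * Nat.card ((X a1).subgroupOf A) := by
  obtain ⟨h1, h2⟩ := hb1.dl_le h hA
  obtain ⟨h3, h4⟩ := hb2.dl_le h hA
  obtain ⟨k1, k2⟩ := card_lem _ _ h1 h2
  obtain ⟨k3, k4⟩ := card_lem _ _ h3 h4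
  have hdis : Disjoint ((X a1).subgroupOf A) ((X a2).subgroupOf A) := by
    rw [disjoint_iff, eq_bot_iff]
    intro b hb
    have : (b : G) ∈ X a1 ⊓ X a2 := ⟨hb.1, hb.2⟩
    rw [h.inf_eq_bot hne, Subgroup.mem_bot] at this
    exact Subgroup.mem_bot.2 (Subtype.ext this)
  have k5 : Nat.card ((X a1).subgroupOf A) * Nat.card ((X a2).subgroupOf A) ≤ Nat.card A := by
    rw [← Nat.card_prod]
    exact Nat.card_le_card_of_injective _ (Subgroup.mul_injective_of_disjoint hdis)
  have k6 : 0 < Nat.card ((X a2).subgroupOf A) := Nat.card_pos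
  have k7 : Nat.card ((X a1).subgroupOf A) ≤ Nat.card ((X a2).subgroupOf A) := by
    by_contra hlt
    push Not at hlt
    have := Nat.mul_lt_mul_of_pos_right hlt k6
    omega
  have k8 : Nat.card ((X a1).subgroupOf A) * Nat.card ((X a1).subgroupOf A) ≤ Nat.card A :=
    (Nat.mul_le_mul_left _ k7).trans k5
  obtain ⟨k9, k10⟩ := k2 k8
  exact ⟨k9, k10, le_antisymm k1 k8⟩

/-- powers of `x` acting on `A` -/
theorem pow_act (h : NP X) (hA : EA A p) {a1 x1 a2 x2 : G} (hb1 : Bad X A p a1 x1) (hb2 : Bad X A p a2 x2)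
    (hne : X a1 ≠ X a2) {b : G} (hbA : b ∈ A) (n : ℕ) :
    x1 ^ n * b * (x1 ^ n)⁻¹ = b * (b⁻¹ * (x1 * b * x1⁻¹)) ^ n := by
  obtain ⟨h1, h2, h3⟩ := two_card h hA hb1 hb2 hne
  set u := b⁻¹ * (x1 * b * x1⁻¹) with hu
  have huA : u ∈ A := A.mul_mem (A.inv_mem hbA) (hA.hn.conj_mem b hbA x1)
  have hux : x1 * u * x1⁻¹ = u := by
    have h4 : (⟨u, huA⟩ : A) ∈ (X a1).subgroupOf A := hb1.comm_mem h hA hbA
    rw [← h1, MonoidHom.mem_ker] at h4
    have h5 : u⁻¹ * (x1 * u * x1⁻¹) = 1 := congrArg Subtype.val h4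
    rw [inv_mul_eq_one] at h5
    exact h5.symm
  have hb : x1 * b * x1⁻¹ = b * u := by rw [hu]; group
  induction n with
  | zero => simp
  | succ n ih =>
    calc x1 ^ (n + 1) * b * (x1 ^ (n + 1))⁻¹ = x1 * (x1 ^ n * b * (x1 ^ n)⁻¹) * x1⁻¹ := by rw [pow_succ']; group
      _ = x1 * (b * u ^ n) * x1⁻¹ := by rw [ih]
      _ = (x1 * b * x1⁻¹) * (x1 * u ^ n * x1⁻¹) := by group
      _ = (x1 * b * x1⁻¹) * (x1 * u * x1⁻¹) ^ n := by rw [conj_pow]
      _ = b * u ^ (n + 1) := by rw [hb, hux, pow_succ']; group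

theorem pow_p_comm (h : NP X) (hA : EA A p) {a1 x1 a2 x2 : G} (hb1 : Bad X A p a1 x1) (hb2 : Bad X A p a2 x2)
    (hne : X a1 ≠ X a2) {b : G} (hbA : b ∈ A) : x1 ^ p * b = b * x1 ^ p := by
  have h1 := pow_act h hA hb1 hb2 hne hbA p
  rw [hA.ex _ (A.mul_mem (A.inv_mem hbA) (hA.hn.conj_mem b hbA x1)), mul_one] at h1
  exact mul_inv_eq_iff_eq_mul.1 h1

/-- key: if `(b x)^p ≠ 1` lies in `X a1` then `b ∈ X a1` -/
theorem mem_of_pow (h : NP X) {a1 x1 b : G} {n : ℕ} (hx : x1 ∈ X a1) (h1 : (b * x1) ^ n ≠ 1) (h2 : (b * x1) ^ n ∈ X a1) :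
    b ∈ X a1 := by
  have h3 : X (b * x1) = X a1 := h.disj h1 (pow_mem (h.mem _) n) h2
  have h4 : b * x1 ∈ X a1 := h3 ▸ h.mem _
  have := mul_mem h4 (inv_mem hx)
  simpa using this

theorem two_odd (h : NP X) (hA : EA A p) {a1 x1 a2 x2 : G} (hb1 : Bad X A p a1 x1) (hb2 : Bad X A p a2 x2)
    (hne : X a1 ≠ X a2) : p = 2 := by
  by_contra hp2
  have hodd : Odd p := hA.hp.odd_of_ne_two hp2
  set u := a2⁻¹ * (x1 * a2 * x1⁻¹) with hu
  have huA : u ∈ A := A.mul_mem (A.inv_mem hb2.ha) (hA.hn.conj_mem a2 hb2.ha x1)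
  have hprod : ∀ n : ℕ, ((List.range n).map fun i => x1 ^ i * a2 * (x1 ^ i)⁻¹).prod = a2 ^ n * u ^ (∑ i ∈ range n, i) := by
    intro n
    induction n with
    | zero => simp
    | succ n ih =>
      rw [List.range_succ, List.map_append, List.prod_append, ih, sum_range_succ]
      simp only [List.map_cons, List.map_nil, List.prod_cons, List.prod_nil, mul_one]
      rw [pow_act h hA hb1 hb2 hne hb2.ha n, ← hu, pow_succ, pow_add]
      have hc : Commute a2 u := hA.ab _ hb2.ha _ huA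
      have h5 : u ^ (∑ i ∈ range n, i) * a2 = a2 * u ^ (∑ i ∈ range n, i) := (hc.symm.pow_left _).eq
      calc a2 ^ n * u ^ (∑ i ∈ range n, i) * (a2 * u ^ n) = a2 ^ n * (u ^ (∑ i ∈ range n, i) * a2) * u ^ n := by group
        _ = _ := by rw [h5]; group
  have hsum : p ∣ ∑ i ∈ range p, i := by
    have h6 := Finset.sum_range_id_mul_two p
    have h7 : p ∣ (∑ i ∈ range p, i) * 2 := by rw [h6]; exact dvd_mul_right _ _
    exact (Nat.Coprime.dvd_mul_right ((Nat.coprime_primes hA.hp Nat.prime_two).2 hp2)).1 h7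
  have hpow : (a2 * x1) ^ p = x1 ^ p := by
    rw [mul_pow_eq, hprod, hA.ex _ hb2.ha, one_mul]
    obtain ⟨m, hm⟩ := hsum
    rw [hm, pow_mul, hA.ex _ huA, one_pow, one_mul]
  have h8 := mem_of_pow h hb1.hx (n := p) (b := a2) (by rw [hpow]; exact hb1.hxp) (by rw [hpow]; exact pow_mem hb1.hx p)
  exact hne (h.eq hb2.ha1 h8).symm

theorem two_four (h : NP X) (hA : EA A 2) {a1 x1 a2 x2 : G} (hb1 : Bad X A 2 a1 x1) (hb2 : Bad X A 2 a2 x2)
    (hne : X a1 ≠ X a2) : Nat.card A = 4 := by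
  classical
  obtain ⟨h1, h2, h3⟩ := two_card h hA hb1 hb2 hne
  have hle : Nat.card ((X a1).subgroupOf A) ≤ 2 := by
    have hx2A : ∀ b : A, b ∉ (X a1).subgroupOf A → ((dl hA x1 b : A) : G) * x1 ^ 2 = 1 := by
      intro b hb
      have h4 : ((b : G) * x1) ^ 2 = ((dl hA x1 b : A) : G) * x1 ^ 2 := by
        have h5 : (b : G) = (b : G)⁻¹ := by
          have := hA.ex b b.2
          rw [pow_two] at this
          exact (inv_eq_of_mul_eq_one_left this).symm
        rw [dl_coe, ← h5]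
        rw [pow_two, pow_two]
        group
      by_contra h5
      apply hb
      refine mem_of_pow h hb1.hx (n := 2) (b := b) ?_ ?_
      · rw [h4]; exact h5
      · rw [h4]
        exact mul_mem (hb1.comm_mem h hA b.2) (pow_mem hb1.hx 2)
    -- the range has at most two elements
    have h6 : ∀ c : (X a1).subgroupOf A, (c : A) = 1 ∨ ((c : A) : G) = (x1 ^ 2)⁻¹ := by
      rintro ⟨c, hc⟩
      rw [← h2] at hc
      obtain ⟨b, rfl⟩ := hc
      by_cases hb : b ∈ (X a1).subgroupOf A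
      · left
        rw [← h1] at hb
        exact hb
      · right
        exact eq_inv_of_mul_eq_one_left (hx2A b hb)
    have h7 : Function.Injective (fun c : (X a1).subgroupOf A => decide ((c : A) = 1)) := by
      intro c d hcd
      simp only [decide_eq_decide] at hcd
      rcases h6 c with hc | hc
      · exact Subtype.ext (hc.trans (hcd.1 hc).symm)
      · rcases h6 d with hd | hd
        · exact Subtype.ext ((hcd.2 hd).trans hd.symm)
        · exact Subtype.ext (Subtype.ext (hc.trans hd.symm))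
    have := Nat.card_le_card_of_injective _ h7
    simpa using this
  have hge : 2 ≤ Nat.card ((X a1).subgroupOf A) := by
    have : Nontrivial ((X a1).subgroupOf A) := by
      refine ⟨⟨⟨⟨a1, hb1.ha⟩, h.mem a1⟩, 1, ?_⟩⟩
      intro h4
      exact hb1.ha1 (congrArg (fun c : (X a1).subgroupOf A => ((c : A) : G)) h4)
    exact Finite.one_lt_card
  have h4 : Nat.card ((X a1).subgroupOf A) = 2 := le_antisymm hle hge
  rw [h3, h4]

end two

section s4
variable {G : Type*} [Group G] [Finite G] {X : G → Subgroup G} {A : Subgroup G}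

/-- the final case: `G ≃ S₄` -/
theorem perm4 (h : NP X) (hA : EA A 2) {a1 x1 a2 x2 : G} (hb1 : Bad X A 2 a1 x1) (hb2 : Bad X A 2 a2 x2)
    (hne : X a1 ≠ X a2) : Nonempty (G ≃* Equiv.Perm (Fin 4)) := by
  classical
  haveI := Fact.mk Nat.prime_two
  haveI hAn : A.Normal := hA.hn
  have hA4 := two_four h hA hb1 hb2 hne
  -- the centralizer of `A`
  have hCsq : ∀ c ∈ Subgroup.centralizer (A : Set G), c ^ 2 = 1 := by
    intro c hc
    by_contra hc2
    have hc1 : c ≠ 1 := by rintro rfl; exact hc2 (one_pow 2)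
    rw [Subgroup.mem_centralizer_iff] at hc
    have key : ∀ a ∈ A, a ≠ 1 → X c = X a := by
      intro a ha ha1
      by_contra hne'
      obtain ⟨q, hq, h1, h2⟩ := h.F0 hc1 ha1 (hc a ha).symm hne'
      have h3 : orderOf a = 2 := orderOf_eq_prime (hA.ex a ha) ha1
      apply hc2
      rw [← h3, h2, ← h1]
      exact pow_orderOf_eq_one c
    exact hne ((key a1 hb1.ha hb1.ha1).symm.trans (key a2 hb2.ha hb2.ha1))
  have hCn : (Subgroup.centralizer (A : Set G)).Normal := inferInstance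
  have hAC : A ≤ Subgroup.centralizer (A : Set G) := by
    intro a ha
    rw [Subgroup.mem_centralizer_iff]
    intro b hb
    exact hA.ab b hb a ha
  have hEC : EA (Subgroup.centralizer (A : Set G)) 2 := by
    refine ⟨Nat.prime_two, hCn, ?_, hCsq⟩
    intro a ha b hb
    have h1 := hCsq a ha
    have h2 := hCsq b hb
    have h3 := hCsq (a * b) (mul_mem ha hb)
    rw [pow_two] at h1 h2 h3
    calc a * b = a⁻¹ * (a * b * (a * b)) * b⁻¹ * (a * a) * (b * b) := by
          rw [h3, h1, h2]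
          have e1 : a⁻¹ = a := inv_eq_of_mul_eq_one_left h1
          have e2 : b⁻¹ = b := inv_eq_of_mul_eq_one_left h2
          rw [e1, e2]; group
      _ = b * a := by
          rw [h3, h1, h2]
          have e1 : a⁻¹ = a := inv_eq_of_mul_eq_one_left h1
          have e2 : b⁻¹ = b := inv_eq_of_mul_eq_one_left h2
          have e3 : (a * b)⁻¹ = a * b := inv_eq_of_mul_eq_one_left h3
          rw [e1, e2]
          rw [mul_inv_rev, e1, e2] at e3
          rw [e3]; group
  have hC4 : Nat.card (Subgroup.centralizer (A : Set G)) = 4 :=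
    two_four h hEC ⟨hAC hb1.ha, hb1.ha1, hb1.hx, hb1.hxp⟩ ⟨hAC hb2.ha, hb2.ha1, hb2.hx, hb2.hxp⟩ hne
  have hCA : Subgroup.centralizer (A : Set G) = A :=
    (Subgroup.eq_of_le_of_card_ge hAC (by rw [hC4, hA4])).symm
  -- elements of A
  have ha12 : a1 ≠ a2 := by rintro rfl; exact hne rfl
  have hx11 : a1 * a1 = 1 := by rw [← pow_two]; exact hA.ex a1 hb1.ha
  have hx22 : a2 * a2 = 1 := by rw [← pow_two]; exact hA.ex a2 hb2.ha
  have ha3 : a1 * a2 ≠ 1 := by
    intro h1
    apply ha12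
    calc a1 = a1 * (a2 * a2) := by rw [hx22, mul_one]
      _ = a2 := by rw [← mul_assoc, h1, one_mul]
  have hall : ∀ b ∈ A, b = 1 ∨ b = a1 ∨ b = a2 ∨ b = a1 * a2 := by
    intro b hb
    haveI : Fintype ((A : Set G) : Type _) := Fintype.ofFinite _
    have hsub : ({1, a1, a2, a1 * a2} : Finset G) = (A : Set G).toFinset := by
      apply Finset.eq_of_subset_of_card_le
      · intro c hc
        rw [Set.mem_toFinset]
        simp only [Finset.mem_insert, Finset.mem_singleton] at hc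
        rcases hc with rfl | rfl | rfl | rfl
        · exact A.one_mem
        · exact hb1.ha
        · exact hb2.ha
        · exact A.mul_mem hb1.ha hb2.ha
      · have h1 : (A : Set G).toFinset.card = 4 := by
          rw [← Set.ncard_eq_toFinset_card']
          exact hA4
        rw [h1]
        have h2 : ({1, a1, a2, a1 * a2} : Finset G).card = 4 := by
          rw [Finset.card_insert_of_notMem, Finset.card_insert_of_notMem, Finset.card_insert_of_notMem,
            Finset.card_singleton]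
          · simp only [Finset.mem_singleton]
            intro h3
            exact hb1.ha1 (by simpa using h3.symm)
          · simp only [Finset.mem_insert, Finset.mem_singleton, not_or]
            exact ⟨ha12, fun h3 => hb2.ha1 (by simpa using h3.symm)⟩
          · simp only [Finset.mem_insert, Finset.mem_singleton, not_or]
            exact ⟨hb1.ha1.symm, hb2.ha1.symm, ha3.symm⟩
        rw [h2]
    have h1 : b ∈ (A : Set G).toFinset := by rw [Set.mem_toFinset]; exact hb
    rw [← hsub] at h1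
    simpa only [Finset.mem_insert, Finset.mem_singleton] using h1
  -- the action on the three involutions
  let S := {a : G // a ∈ A ∧ a ≠ 1}
  letI act : MulAction G S :=
    { smul := fun x a => ⟨x * a * x⁻¹, hAn.conj_mem _ a.2.1 x, fun h1 => a.2.2 (by simpa using h1)⟩
      one_smul := fun a => Subtype.ext (by show (1 : G) * a * 1⁻¹ = a; simp)
      mul_smul := fun x y a => Subtype.ext (by show (x * y) * (a : G) * (x * y)⁻¹ = x * (y * a * y⁻¹) * x⁻¹; group) }
  have hsm : ∀ (x : G) (a : S), ((x • a : S) : G) = x * a * x⁻¹ := fun _ _ => rfl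
  have hS : Nat.card S = 3 := by
    have e : S ≃ {a : A // a ≠ 1} :=
      { toFun := fun a => ⟨⟨a.1, a.2.1⟩, fun h1 => a.2.2 (congrArg Subtype.val h1)⟩
        invFun := fun a => ⟨a.1.1, a.1.2, fun h1 => a.2 (Subtype.ext h1)⟩
        left_inv := fun a => rfl
        right_inv := fun a => rfl }
    rw [Nat.card_congr e]
    haveI := Fintype.ofFinite A
    rw [Nat.card_eq_fintype_card, Fintype.card_subtype_compl, Fintype.card_subtype_eq, ← Nat.card_eq_fintype_card, hA4]
  let ψ : G →* Equiv.Perm S := MulAction.toPermHom G S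
  have hψ : ∀ x : G, ψ x = 1 ↔ x ∈ A := by
    intro x
    constructor
    · intro h1
      rw [← hCA, Subgroup.mem_centralizer_iff]
      intro a ha
      by_cases ha1 : a = 1
      · rw [ha1, one_mul, mul_one]
      have h2 : x • (⟨a, ha, ha1⟩ : S) = ⟨a, ha, ha1⟩ := congrFun (congrArg (fun σ : Equiv.Perm S => (σ : S → S)) h1) ⟨a, ha, ha1⟩
      have h3 : x * a * x⁻¹ = a := congrArg Subtype.val h2
      exact (mul_inv_eq_iff_eq_mul.1 h3).symm
    · intro hx
      ext a
      show ((x • a : S) : G) = a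
      rw [hsm, hA.ab x hx a a.2.1]
      group
  have hker : ψ.ker = A := by
    ext x
    rw [MonoidHom.mem_ker, hψ]
  have hcard1 : 4 * Nat.card ψ.range = Nat.card G := by
    have h1 := Subgroup.card_mul_index ψ.ker
    rw [Subgroup.index_ker, hker, hA4] at h1
    exact h1
  have hcardS : Nat.card (Equiv.Perm S) = 6 := by
    haveI := Fintype.ofFinite S
    rw [Nat.card_eq_fintype_card, Fintype.card_perm, ← Nat.card_eq_fintype_card, hS]
    rfl
  have hdvd : Nat.card ψ.range ∣ 6 := by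
    rw [← hcardS]; exact Subgroup.card_subgroup_dvd_card _
  -- the transpositions
  have hxA : ∀ {a x b y : G}, Bad X A 2 a x → Bad X A 2 b y → X a ≠ X b → x ∉ A ∧ x * a = a * x ∧ x * b ≠ b * x ∧ ψ x * ψ x = 1 := by
    intro a x b y hbx hby hab
    refine ⟨fun h1 => hbx.hxp (hA.ex x h1), ?_, ?_, ?_⟩
    · obtain ⟨h1, -, -⟩ := two_card h hA hbx hby hab
      have h2 : (⟨a, hbx.ha⟩ : A) ∈ (dl hA x).ker := by
        rw [h1]; exact h.mem a
      have h3 : a⁻¹ * (x * a * x⁻¹) = 1 := congrArg Subtype.val (MonoidHom.mem_ker.1 h2)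
      rw [inv_mul_eq_one] at h3
      exact (mul_inv_eq_iff_eq_mul.1 h3.symm)
    · intro h1
      exact hab (h.eq hby.ha1 (hbx.cent h hA hby.ha h1.symm)).symm
    · rw [← map_mul, hψ, ← hCA, Subgroup.mem_centralizer_iff, ← pow_two]
      intro c hc
      exact (pow_p_comm h hA hbx hby hab hc).symm
  obtain ⟨p1, p2, p3, p4⟩ := hxA hb1 hb2 hne
  obtain ⟨q1, q2, q3, q4⟩ := hxA hb2 hb1 hne.symm
  have hψne : ψ x1 ≠ ψ x2 := by
    intro h1
    have h2 : (ψ x1) ⟨a1, hb1.ha, hb1.ha1⟩ = (ψ x2) ⟨a1, hb1.ha, hb1.ha1⟩ := by rw [h1]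
    have h3 : x1 * a1 * x1⁻¹ = x2 * a1 * x2⁻¹ := congrArg Subtype.val h2
    rw [p2, mul_inv_cancel_right] at h3
    exact q3 (mul_inv_eq_iff_eq_mul.1 h3.symm)
  have hr6 : Nat.card ψ.range = 6 := by
    have hm1 : ψ x1 ∈ ψ.range := ⟨x1, rfl⟩
    have hm2 : ψ x2 ∈ ψ.range := ⟨x2, rfl⟩
    have hne1 : ψ x1 ≠ 1 := fun h1 => p1 ((hψ x1).1 h1)
    have hne2 : ψ x2 ≠ 1 := fun h1 => q1 ((hψ x2).1 h1)
    have h2 : 2 ∣ Nat.card ψ.range := by
      have h3 : orderOf (ψ x1) = 2 := orderOf_eq_prime (by rw [pow_two]; exact p4) hne1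
      rw [← h3]
      exact Subgroup.orderOf_dvd_natCard _ hm1
    have h3 : 3 ≤ Nat.card ψ.range := by
      have h4 : ({1, ψ x1, ψ x2} : Finset (Equiv.Perm S)).card = 3 := by
        rw [Finset.card_insert_of_notMem, Finset.card_insert_of_notMem, Finset.card_singleton]
        · simpa using hψne
        · simp only [Finset.mem_insert, Finset.mem_singleton, not_or]
          exact ⟨hne1.symm, hne2.symm⟩
      have h5 : ((({1, ψ x1, ψ x2} : Finset (Equiv.Perm S)) : Set (Equiv.Perm S))).ncard ≤ ((ψ.range : Set (Equiv.Perm S))).ncard := by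
        apply Set.ncard_le_ncard _ (Set.toFinite _)
        intro σ hσ
        simp only [Finset.coe_insert, Finset.coe_singleton, Set.mem_insert_iff, Set.mem_singleton_iff] at hσ
        rcases hσ with rfl | rfl | rfl
        · exact ψ.range.one_mem
        · exact hm1
        · exact hm2
      rw [Set.ncard_coe_finset, h4] at h5
      exact h5
    have h4 := Nat.le_of_dvd (by norm_num) hdvd
    interval_cases hh : Nat.card ψ.range <;> omega
  have hG : Nat.card G = 24 := by rw [← hcard1, hr6]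
  -- elements of order 3
  have hno3 : ∀ x : G, orderOf x = 3 → ∀ b ∈ A, b ≠ 1 → x * b ≠ b * x := by
    intro x hx b hb hb1' hxb
    have hx3 : x ^ 3 = 1 := by rw [← hx]; exact pow_orderOf_eq_one x
    have hx1' : x ≠ 1 := by rintro rfl; rw [orderOf_one] at hx; omega
    -- `x` permutes the two cosets of `⟨b⟩`
    have h1 : (ψ x) ⟨b, hb, hb1'⟩ = ⟨b, hb, hb1'⟩ := by
      apply Subtype.ext
      show x * b * x⁻¹ = b
      rw [hxb]; group
    have h3 : (ψ x) ^ 3 = 1 := by rw [← map_pow, hx3, map_one]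
    -- a permutation of three points of order dividing 3 with a fixed point is trivial
    have h4 : ψ x = 1 := by
      haveI := Fintype.ofFinite S
      by_contra hne1
      haveI := Fact.mk Nat.prime_three
      have h5 : orderOf (ψ x) = 3 := orderOf_eq_prime h3 hne1
      have h6 : (ψ x).support.card < 3 := by
        have h7 : (ψ x).support ⊂ Finset.univ := by
          rw [Finset.ssubset_univ_iff]
          intro h8
          have : (⟨b, hb, hb1'⟩ : S) ∈ (ψ x).support := by rw [h8]; exact Finset.mem_univ _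
          exact (Equiv.Perm.mem_support.1 this) h1
        have := Finset.card_lt_card h7
        rw [Finset.card_univ, ← Nat.card_eq_fintype_card, hS] at this
        exact this
      have h7 : 3 ∣ (ψ x).support.card ∨ True := Or.inr trivial
      have h8 : ∀ n ∈ (ψ x).cycleType, n = 3 := by
        intro n hn
        have h9 := Equiv.Perm.dvd_of_mem_cycleType hn
        rw [h5] at h9
        have h10 := Equiv.Perm.two_le_of_mem_cycleType hn
        rcases (Nat.dvd_prime Nat.prime_three).1 h9 with h11 | h11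
        · omega
        · exact h11
      have h9 := Equiv.Perm.sum_cycleType (ψ x)
      have h10 : (ψ x).cycleType ≠ 0 := by
        intro h11
        exact hne1 (Equiv.Perm.cycleType_eq_zero.1 h11)
      obtain ⟨n, hn⟩ := Multiset.exists_mem_of_ne_zero h10
      have h11 := Multiset.le_sum_of_mem hn
      rw [h8 n hn, h9] at h11
      omega
    have h5 := hA.ex x ((hψ x).1 h4)
    exact hx1' (eq_one_of_coprime Nat.prime_two h5 hx3 (by norm_num))
  refine CentD8.perm4_of hG a1 a2 ?_ ?_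
  · intro x hx
    exact ⟨hno3 x hx a1 hb1.ha hb1.ha1, hno3 x hx a2 hb2.ha hb2.ha1, hno3 x hx (a1 * a2) (A.mul_mem hb1.ha hb2.ha) ha3⟩
  · intro t ht
    by_contra hcon
    push Not at hcon
    have ht1 : t ≠ 1 := by rintro rfl; rw [orderOf_one] at ht; omega
    have htA : t ∈ A := by
      rw [← hCA, Subgroup.mem_centralizer_iff]
      intro a _
      exact hcon a
    -- central elements of `A` commute with x1 and x2
    have e1 := hb1.cent h hA htA (hcon x1).symm
    have e2 := hb2.cent h hA htA (hcon x2).symm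
    exact hne (h.disj ht1 e1 e2)

end s4

section final2
variable {G : Type*} [Group G] [Finite G] {X : G → Subgroup G}

theorem abelian_aux (h : NP X) {p : ℕ} {A : Subgroup G} (hA : EA A p) (hne : A ≠ ⊥) : Alt G := by
  classical
  by_cases hall : ∀ a ∈ A, a ≠ 1 → ∀ x ∈ X a, x ^ p = 1
  · haveI := hA.hn
    exact case_none h hA.hp A hne hA.ab hA.ex hall
  push Not at hall
  obtain ⟨a1, ha1, ha11, x1, hx1, hx1p⟩ := hall
  have hb1 : Bad X A p a1 x1 := ⟨ha1, ha11, hx1, hx1p⟩
  by_cases huniq : ∀ a x, Bad X A p a x → X a = X a1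
  · right
    refine normal_comp h ha11 ?_
    have h1 : ∀ g : G, X (g * a1 * g⁻¹) = X a1 := by
      intro g
      apply huniq (g * a1 * g⁻¹) (g * x1 * g⁻¹)
      refine ⟨hA.hn.conj_mem a1 ha1 g, fun h1 => ha11 (by simpa using h1), h.mem_conj hx1, ?_⟩
      rw [conj_pow]
      intro h2
      apply hx1p
      simpa using h2
    refine ⟨?_⟩
    intro u hu g
    have h2 := h.mem_conj (g := g) hu
    rwa [h1 g] at h2
  push Not at huniq
  obtain ⟨a2, x2, hb2, hne2⟩ := huniq
  have hp2 := two_odd h hA hb1 hb2 hne2.symm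
  subst hp2
  exact Or.inl (perm4 h hA hb1 hb2 hne2.symm)

/-- **Abelian normal subgroups** -/
theorem abelian_normal (h : NP X) (A : Subgroup G) [hAn : A.Normal] (hA : A ≠ ⊥)
    (hab : ∀ a ∈ A, ∀ b ∈ A, a * b = b * a) :
    Nonempty (G ≃* Equiv.Perm (Fin 4)) ∨ (∃ p : ℕ, p.Prime ∧ Subgroup.closure {g : G | g ^ p ≠ 1} ≠ ⊤) ∨
      (∃ H : Subgroup G, Cfsg.IsFrobeniusComplement H) := by
  classical
  obtain ⟨a, ha⟩ := (Subgroup.ne_bot_iff_exists_ne_one).1 hA
  have h1 : Nat.card A ≠ 1 := by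
    intro h2
    exact hA (Subgroup.card_eq_one.1 h2)
  obtain ⟨p, hp, hpd⟩ := Nat.exists_prime_and_dvd h1
  haveI := Fact.mk hp
  obtain ⟨c, hc⟩ := exists_prime_orderOf_dvd_card' p hpd
  let B : Subgroup G :=
    { carrier := {x | x ∈ A ∧ x ^ p = 1}
      one_mem' := ⟨A.one_mem, one_pow p⟩
      mul_mem' := by
        rintro x y ⟨hx, hx1⟩ ⟨hy, hy1⟩
        exact ⟨A.mul_mem hx hy, by rw [(show Commute x y from hab x hx y hy).mul_pow, hx1, hy1, one_mul]⟩
      inv_mem' := by
        rintro x ⟨hx, hx1⟩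
        exact ⟨A.inv_mem hx, by rw [inv_pow, hx1, inv_one]⟩ }
  have hBn : B.Normal := by
    refine ⟨?_⟩
    rintro x ⟨hx, hx1⟩ g
    exact ⟨hAn.conj_mem x hx g, by rw [conj_pow, hx1]; group⟩
  have hE : EA B p := ⟨hp, hBn, fun x hx y hy => hab x hx.1 y hy.1, fun x hx => hx.2⟩
  refine abelian_aux h hE ?_
  intro hbot
  have h2 : (c : G) ∈ B := ⟨c.2, by
    rw [← Subgroup.coe_pow, ← hc, pow_orderOf_eq_one, Subgroup.coe_one]⟩
  rw [hbot, Subgroup.mem_bot] at h2
  have h3 : c = 1 := Subtype.ext h2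
  rw [h3, orderOf_one] at hc
  exact hp.one_lt.ne hc

end final2

end Cfsg.Agent.Lib.NPA
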