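import Cfsg.Agent.Lib.Cores
import Cfsg.Agent.S0205

/-!
A lemma on fixed point free actions (for S4248, part A).
-/
set_option autoImplicit false
set_option linter.all false

namespace Cfsg.Agent.Lib.NPA

open Finset Cfsg Cfsg.Agent.Lib

section lemQ
variable {Γ : Type*} [Group Γ] [Finite Γ] {W : Type*} [CommGroup W] {p : ℕ}

theorem eq_one_of_coprime {x : Γ} {m : ℕ} (hp : p.Prime) (h1 : x ^ p = 1) (h2 : x ^ m = 1) (hm : m.Coprime p) : x = 1 := by
  have h3 : orderOf x ∣ p := orderOf_dvd_of_pow_eq_one h1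
  have h4 : orderOf x ∣ m := orderOf_dvd_of_pow_eq_one h2
  rw [← orderOf_eq_one_iff, ← Nat.dvd_one, ← hm]
  exact Nat.dvd_gcd h4 h3

/-- no element of order `p` normalizes a nontrivial `p'`-subgroup -/
theorem lemQ [Nontrivial W] (hp : p.Prime) (hW : ∀ w : W, w ^ p = 1) (φ : Γ →* MulAut W)
    (N1 : ∀ y : Γ, y ≠ 1 → (orderOf y).Coprime p → ∀ w, φ y w = w → w = 1)
    (N2 : ∀ y : Γ, (∃ k, y ^ p ^ k = 1) → y ^ p = 1 ∧ ∀ w, ∏ i ∈ range p, φ (y ^ i) w = 1)
    (N3 : ∀ y c : Γ, orderOf y = p → y * c = c * y → c ^ p = 1)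
    (R : Subgroup Γ) (hR : R ≠ ⊥) (hRp : (Nat.card R).Coprime p) (y : Γ) (hy : orderOf y = p)
    (hn : ∀ r ∈ R, y * r * y⁻¹ ∈ R) : False := by
  classical
  haveI := Fintype.ofFinite R
  have hyp : y ^ p = 1 := by rw [← hy]; exact pow_orderOf_eq_one y
  have hRc : ∀ r ∈ R, r ^ Nat.card R = 1 := by
    intro r hr
    have h9 := congrArg (Subtype.val : R → Γ) (pow_card_eq_one' (G := R) (x := ⟨r, hr⟩))
    rwa [Subgroup.coe_pow, Subgroup.coe_one] at h9
  have hcent : ∀ r ∈ R, y * r = r * y → r = 1 := fun r hr hc =>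
    eq_one_of_coprime hp (N3 y r hy hc) (hRc r hr) hRp
  -- `r * y` is conjugate to `y`
  let f : R → R := fun s => ⟨(s : Γ) * (y * (s : Γ)⁻¹ * y⁻¹), R.mul_mem s.2 (hn _ (R.inv_mem s.2))⟩
  have hf : Function.Injective f := by
    intro s s' h
    have h1 : (s : Γ) * (y * (s : Γ)⁻¹ * y⁻¹) = (s' : Γ) * (y * (s' : Γ)⁻¹ * y⁻¹) := congrArg Subtype.val h
    have h2 : y * ((s' : Γ)⁻¹ * s) = ((s' : Γ)⁻¹ * s) * y := by
      have h3 : (s : Γ) * y * (s : Γ)⁻¹ = (s' : Γ) * y * (s' : Γ)⁻¹ := by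
        have := congrArg (fun t => t * y) h1
        simpa [mul_assoc] using this
      calc y * ((s' : Γ)⁻¹ * s) = (s' : Γ)⁻¹ * ((s' : Γ) * y * (s' : Γ)⁻¹) * s := by group
        _ = (s' : Γ)⁻¹ * ((s : Γ) * y * (s : Γ)⁻¹) * s := by rw [h3]
        _ = _ := by group
    have h3 := hcent _ (R.mul_mem (R.inv_mem s'.2) s.2) h2
    rw [inv_mul_eq_one] at h3
    exact (Subtype.ext h3).symm
  have hfs : Function.Surjective f := Finite.surjective_of_injective hf
  have hry : ∀ r ∈ R, (r * y) ^ p = 1 := by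
    intro r hr
    obtain ⟨s, hs⟩ := hfs ⟨r, hr⟩
    have h1 : (s : Γ) * (y * (s : Γ)⁻¹ * y⁻¹) = r := congrArg Subtype.val hs
    rw [← h1, show (s : Γ) * (y * (s : Γ)⁻¹ * y⁻¹) * y = (s : Γ) * y * (s : Γ)⁻¹ by group, conj_pow, hyp]
    group
  -- powers
  have hmem : ∀ i : ℕ, ∀ r ∈ R, (r * y) ^ i * (y ^ i)⁻¹ ∈ R := by
    intro i
    induction i with
    | zero => intro r hr; simp
    | succ i ih =>
      intro r hr
      have h1 : ∀ j : ℕ, ∀ x ∈ R, y ^ j * x * (y ^ j)⁻¹ ∈ R := by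
        intro j
        induction j with
        | zero => intro x hx; simpa using hx
        | succ j ihj =>
          intro x hx
          have := hn _ (ihj x hx)
          rw [pow_succ']
          simpa [mul_assoc] using this
      have h2 : (r * y) ^ (i + 1) * (y ^ (i + 1))⁻¹ = ((r * y) ^ i * (y ^ i)⁻¹) * (y ^ i * r * (y ^ i)⁻¹) := by
        rw [pow_succ, pow_succ y i]; group
      rw [h2]
      exact R.mul_mem (ih r hr) (h1 i r hr)
  have hbij : ∀ i ∈ Finset.Ico 1 p, Function.Bijective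
      (fun r : R => (⟨((r : Γ) * y) ^ i * (y ^ i)⁻¹, hmem i r r.2⟩ : R)) := by
    intro i hi
    rw [Finset.mem_Ico] at hi
    apply Finite.injective_iff_bijective.1
    intro r r' h
    have h1 : ((r : Γ) * y) ^ i * (y ^ i)⁻¹ = ((r' : Γ) * y) ^ i * (y ^ i)⁻¹ := congrArg Subtype.val h
    have h2 : ((r : Γ) * y) ^ i = ((r' : Γ) * y) ^ i := mul_right_cancel h1
    have hco : i.Coprime p := by
      apply Nat.Coprime.symm
      rw [Nat.Prime.coprime_iff_not_dvd hp]
      intro hd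
      have := Nat.le_of_dvd (by omega) hd
      omega
    have hinj : ∀ x : Γ, x ^ p = 1 → (x ^ i) ^ (Nat.gcdA i p).natMod p = x := by
      intro x hx
      have hp0 : (p : ℤ) ≠ 0 := by exact_mod_cast hp.ne_zero
      have h3 : (i : ℤ) * Nat.gcdA i p ≡ 1 [ZMOD p] := by
        have := Nat.gcd_eq_gcd_ab i p
        rw [hco.gcd_eq_one] at this
        rw [Int.modEq_iff_dvd]
        refine ⟨Nat.gcdB i p, ?_⟩
        push_cast at this
        linarith
      rw [← pow_mul]
      have h4 : ((i * (Nat.gcdA i p).natMod p : ℕ) : ℤ) ≡ ((1 : ℕ) : ℤ) [ZMOD p] := by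
        push_cast
        rw [Int.natMod, Int.toNat_of_nonneg (Int.emod_nonneg _ hp0)]
        exact ((Int.mod_modEq _ _).mul_left _).trans h3
      have h5 : i * (Nat.gcdA i p).natMod p ≡ 1 [MOD p] := (Int.natCast_modEq_iff).1 h4
      have h6 : x ^ (i * (Nat.gcdA i p).natMod p) = x ^ 1 := by
        rw [pow_eq_pow_iff_modEq]
        exact h5.of_dvd (orderOf_dvd_of_pow_eq_one hx)
      rw [h6, pow_one]
    have h3 := hinj _ (hry r r.2)
    rw [h2, hinj _ (hry r' r'.2)] at h3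
    exact (Subtype.ext (mul_right_cancel h3)).symm
  -- sums over R vanish
  obtain ⟨s0, hs0⟩ := (Subgroup.ne_bot_iff_exists_ne_one).1 hR
  have hs0' : (s0 : Γ) ≠ 1 := fun h => hs0 (Subtype.ext h)
  have hsumR : ∀ w : W, ∏ r : R, φ (r : Γ) w = 1 := by
    intro w
    apply N1 (s0 : Γ) hs0' (Nat.Coprime.coprime_dvd_left (orderOf_dvd_of_pow_eq_one (hRc _ s0.2)) hRp)
    rw [map_prod]
    rw [← Equiv.prod_comp (Equiv.mulLeft s0) (fun r : R => φ (r : Γ) w)]
    refine prod_congr rfl fun r _ => ?_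
    show _ = φ ((s0 * r : R) : Γ) w
    rw [Subgroup.coe_mul, map_mul, MulAut.mul_apply]
  have hall : ∀ w : W, w = 1 := by
    intro w
    have h1 : ∏ r : R, ∏ i ∈ range p, φ (((r : Γ) * y) ^ i) w = 1 := by
      refine prod_eq_one fun r _ => ?_
      exact (N2 ((r : Γ) * y) ⟨1, by rw [pow_one]; exact hry r r.2⟩).2 w
    rw [prod_comm, Finset.range_eq_Ico, Finset.prod_eq_prod_Ico_succ_bot hp.pos] at h1
    have h2 : ∏ i ∈ Finset.Ico (0 + 1) p, ∏ r : R, φ (((r : Γ) * y) ^ i) w = 1 := by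
      refine prod_eq_one fun i hi => ?_
      have h3 := (hbij i (by simpa using hi))
      have h4 := hsumR (φ (y ^ i) w)
      rw [← (Equiv.ofBijective _ h3).prod_comp] at h4
      rw [← h4]
      refine prod_congr rfl fun r _ => ?_
      show _ = φ (((r : Γ) * y) ^ i * (y ^ i)⁻¹) (φ (y ^ i) w)
      rw [← MulAut.mul_apply, ← map_mul]
      congr 3
      group
    rw [h2, mul_one] at h1
    simp only [pow_zero, map_one, MulAut.one_apply, prod_const, card_univ] at h1
    rw [← Nat.card_eq_fintype_card] at h1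
    exact (show w = 1 from by
      have h3 : orderOf w ∣ p := orderOf_dvd_of_pow_eq_one (hW w)
      have h4 : orderOf w ∣ Nat.card R := orderOf_dvd_of_pow_eq_one h1
      rw [← orderOf_eq_one_iff, ← Nat.dvd_one, ← hRp]
      exact Nat.dvd_gcd h4 h3)
  obtain ⟨w, hw⟩ := exists_ne (1 : W)
  exact hw (hall w)

end lemQ

section lemN
variable {Γ : Type*} [Group Γ] [Finite Γ] {W : Type*} [CommGroup W] {p : ℕ}

/-- the `p'`-part -/
theorem ppart (hp : p.Prime) (x : Γ) : ∃ a m : ℕ, ¬ p ∣ m ∧ orderOf x = p ^ a * m ∧ orderOf (x ^ p ^ a) = m := by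
  obtain ⟨a, m, hm, h⟩ := Nat.exists_eq_pow_mul_and_not_dvd (orderOf_pos x).ne' p hp.ne_one
  refine ⟨a, m, hm, h, ?_⟩
  rw [orderOf_pow_of_dvd (pow_ne_zero _ hp.ne_zero) ⟨m, h⟩, h, Nat.mul_div_cancel_left _ (pow_pos hp.pos a)]

theorem lemN [Nontrivial W] (hp : p.Prime) (hW : ∀ w : W, w ^ p = 1) (φ : Γ →* MulAut W)
    (N1 : ∀ y : Γ, y ≠ 1 → (orderOf y).Coprime p → ∀ w, φ y w = w → w = 1)
    (N2 : ∀ y : Γ, (∃ k, y ^ p ^ k = 1) → y ^ p = 1 ∧ ∀ w, ∏ i ∈ range p, φ (y ^ i) w = 1)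
    (N3 : ∀ y c : Γ, orderOf y = p → y * c = c * y → c ^ p = 1) :
    ∃ P : Subgroup Γ, P.Normal ∧ IsPGroup p P ∧ ∀ y, y ^ p = 1 → y ∈ P := by
  classical
  haveI := Fact.mk hp
  obtain ⟨w0, hw0⟩ := exists_ne (1 : W)
  have hKp : IsPGroup p φ.ker := by
    rintro ⟨k, hk⟩
    obtain ⟨a, m, hm, h1, h2⟩ := ppart hp k
    refine ⟨a, ?_⟩
    apply Subtype.ext
    show k ^ p ^ a = 1
    by_contra h3
    apply hw0
    apply N1 _ h3
    · rw [h2]; exact ((Nat.Prime.coprime_iff_not_dvd hp).2 hm).symm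
    · rw [map_pow, MonoidHom.mem_ker.1 hk, one_pow, MulAut.one_apply]
  by_cases hp2 : p = 2
  · subst hp2
    refine ⟨φ.ker, inferInstance, hKp, ?_⟩
    intro y hy
    rw [MonoidHom.mem_ker]
    ext w
    have h1 := (N2 y ⟨1, by rwa [pow_one]⟩).2 w
    rw [prod_range_succ, prod_range_succ, prod_range_zero, pow_zero, pow_one, map_one, MulAut.one_apply, one_mul] at h1
    have h2 := hW w
    rw [pow_two] at h2
    rw [MulAut.one_apply]
    exact mul_left_cancel (h1.trans h2.symm)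
  by_cases hinv : ∃ τ : Γ, orderOf τ = 2
  · obtain ⟨τ, hτ⟩ := hinv
    have hτ2 : τ * τ = 1 := by rw [← pow_two, ← hτ]; exact pow_orderOf_eq_one τ
    have hτ1 : τ ≠ 1 := by rintro rfl; rw [orderOf_one] at hτ; omega
    have hτi : τ⁻¹ = τ := inv_eq_of_mul_eq_one_left hτ2
    have hcop2 : Nat.Coprime 2 p := (Nat.coprime_primes Nat.prime_two hp).2 (Ne.symm hp2)
    have hinvw : ∀ w, φ τ w = w⁻¹ := by
      intro w
      have h1 : φ τ (w * φ τ w) = w * φ τ w := by
        rw [map_mul, ← MulAut.mul_apply, ← map_mul, hτ2, map_one, MulAut.one_apply, mul_comm]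
      have h2 := N1 τ hτ1 (by rw [hτ]; exact hcop2) _ h1
      exact (inv_eq_of_mul_eq_one_right h2).symm
    refine ⟨φ.ker, inferInstance, hKp, ?_⟩
    intro y hy
    by_contra hyK
    have hk : y * τ * y⁻¹ * τ⁻¹ ∈ φ.ker := by
      rw [MonoidHom.mem_ker]
      ext w
      simp [hτi, hinvw]
    set k := y * τ * y⁻¹ * τ⁻¹ with hkd
    obtain ⟨m, hm⟩ := hKp ⟨k, hk⟩
    have hkm : k ^ p ^ m = 1 := congrArg Subtype.val hm
    have hodd : Odd (p ^ m) := (hp.odd_of_ne_two hp2).pow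
    obtain ⟨l, hl⟩ := hodd
    -- inverted by τ
    have hkt : τ * k * τ⁻¹ = k⁻¹ := by
      have h1 : (k * τ) * (k * τ) = 1 := by
        have : k * τ = y * τ * y⁻¹ := by rw [hkd]; group
        rw [this]
        calc y * τ * y⁻¹ * (y * τ * y⁻¹) = y * (τ * τ) * y⁻¹ := by group
          _ = 1 := by rw [hτ2]; group
      rw [hτi]
      apply eq_inv_of_mul_eq_one_left
      calc τ * k * τ * k = τ * (k * τ * (k * τ)) * τ⁻¹ := by group
        _ = 1 := by rw [h1]; group
    set s := k ^ (l + 1) with hs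
    have hsK : s ∈ φ.ker := pow_mem hk _
    have hss : s * s = k := by
      rw [hs, ← pow_add]
      have : l + 1 + (l + 1) = p ^ m + 1 := by omega
      rw [this, pow_succ, hkm, one_mul]
    have hst : τ * s⁻¹ * τ⁻¹ = s := by
      have h1 : τ * s * τ⁻¹ = s⁻¹ := by
        rw [hs, ← conj_pow, hkt, inv_pow]
      calc τ * s⁻¹ * τ⁻¹ = (τ * s * τ⁻¹)⁻¹ := by group
        _ = s := by rw [h1, inv_inv]
    have hsy : s * τ * s⁻¹ = y * τ * y⁻¹ := by
      calc s * τ * s⁻¹ = s * (τ * s⁻¹ * τ⁻¹) * τ := by group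
        _ = k * τ := by rw [hst, hss]
        _ = y * τ * y⁻¹ := by rw [hkd]; group
    set c := s⁻¹ * y with hc
    have hct : c * τ = τ * c := by
      calc c * τ = s⁻¹ * (y * τ * y⁻¹) * y := by rw [hc]; group
        _ = s⁻¹ * (s * τ * s⁻¹) * y := by rw [hsy]
        _ = τ * c := by rw [hc]; group
    have hcK : c ∉ φ.ker := by
      intro h
      apply hyK
      have : y = s * c := by rw [hc]; group
      rw [this]
      exact φ.ker.mul_mem hsK h
    have hcp : c ^ p ∈ φ.ker := by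
      rw [MonoidHom.mem_ker, map_pow, hc, map_mul, map_inv, MonoidHom.mem_ker.1 hsK, inv_one, one_mul, ← map_pow, hy, map_one]
    obtain ⟨m', hm'⟩ := hKp ⟨c ^ p, hcp⟩
    have hcpm : (c ^ p) ^ p ^ m' = 1 := congrArg Subtype.val hm'
    have hc1 : c ^ p = 1 := (N2 c ⟨m' + 1, by rw [pow_succ', pow_mul]; exact hcpm⟩).1
    have hco : orderOf c = p := orderOf_eq_prime hc1 (by rintro h; apply hcK; rw [h]; exact one_mem _)
    have h1 := N3 c τ hco hct
    exact hτ1 (eq_one_of_coprime hp h1 (by rw [← hτ]; exact pow_orderOf_eq_one τ) hcop2)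
  · -- odd order
    have hodd : Odd (Nat.card Γ) := by
      rw [← Nat.not_even_iff_odd]
      intro h
      exact hinv (exists_prime_orderOf_dvd_card' 2 (even_iff_two_dvd.1 h))
    have hsolv : Group.IsSolvable Γ := Cfsg.Agent.S0205.result hodd
    refine ⟨pCore p Γ, inferInstance, Cores.isPGroup_pCore p Γ, ?_⟩
    intro y0 hy0
    by_contra hy0P
    haveI : Nontrivial (Γ ⧸ pCore p Γ) := by
      refine ⟨⟨QuotientGroup.mk y0, 1, ?_⟩⟩
      rw [Ne, QuotientGroup.eq_one_iff]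
      exact hy0P
    obtain ⟨r, hr, hT⟩ : ∃ r : ℕ, r.Prime ∧ pCore r (Γ ⧸ pCore p Γ) ≠ ⊥ := by
      have h1 : Cfsg.fittingSubgroup (Γ ⧸ pCore p Γ) ≠ ⊥ := Cores.fittingSubgroup_ne_bot
      by_contra hcon
      push Not at hcon
      apply h1
      rw [Cores.fittingSubgroup_eq_iSup, eq_bot_iff]
      apply iSup_le
      intro r
      rw [hcon r r.2]
    haveI := Fact.mk hr
    have hrp : r ≠ p := by
      rintro rfl
      exact hT (Cores.pCore_quotient_pCore r Γ)
    set P0 := pCore p Γ with hP0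
    set T := pCore r (Γ ⧸ P0) with hTd
    set M := T.comap (QuotientGroup.mk' P0) with hM
    obtain ⟨R⟩ : Nonempty (Sylow r M) := inferInstance
    have hfrat := Sylow.normalizer_sup_eq_top R
    set R' := (R : Subgroup M).map M.subtype with hR'
    have hR'M : R' ≤ M := by
      rintro _ ⟨x, -, rfl⟩
      exact x.2
    have hcR' : Nat.card R' = Nat.card (R : Subgroup M) := Cores.card_map_subtype _
    obtain ⟨b, hb⟩ := IsPGroup.iff_card.1 (Cores.isPGroup_pCore r (Γ ⧸ P0))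
    obtain ⟨e, he⟩ := IsPGroup.iff_card.1 (Cores.isPGroup_pCore p Γ)
    have hcM : Nat.card M = r ^ b * p ^ e := by
      rw [hM, Cores.card_comap_mk, ← hb, ← he, mul_comm]
    have hcR : Nat.card (R : Subgroup M) = r ^ b := by
      rw [R.card_eq_multiplicity, hcM]
      congr 1
      rw [Nat.factorization_mul (pow_ne_zero _ hr.ne_zero) (pow_ne_zero _ hp.ne_zero), Finsupp.add_apply,
        hr.factorization_pow, hp.factorization_pow, Finsupp.single_eq_same, Finsupp.single_eq_of_ne hrp, add_zero]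
    have hcopR : (Nat.card R').Coprime p := by
      rw [hcR', hcR]
      exact ((Nat.coprime_primes hr hp).2 hrp).pow_left b
    have hdisj : R' ⊓ P0 = ⊥ := by
      apply Subgroup.inf_eq_bot_of_coprime
      rw [he, hP0] at *
      exact hcopR.pow_right e
    have hmap : R'.map (QuotientGroup.mk' P0) = T := by
      apply Subgroup.eq_of_le_of_card_ge
      · rw [Subgroup.map_le_iff_le_comap]; exact hR'M
      · have hinj : Function.Injective ((QuotientGroup.mk' P0).comp R'.subtype) := by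
          rw [← MonoidHom.ker_eq_bot_iff, eq_bot_iff]
          intro x hx
          rw [MonoidHom.mem_ker, MonoidHom.comp_apply, QuotientGroup.mk'_apply, QuotientGroup.eq_one_iff] at hx
          have : (x : Γ) ∈ R' ⊓ P0 := ⟨x.2, hx⟩
          rw [hdisj, Subgroup.mem_bot] at this
          rw [Subgroup.mem_bot]
          exact Subtype.ext this
        have h1 : R'.map (QuotientGroup.mk' P0) = ((QuotientGroup.mk' P0).comp R'.subtype).range := by
          rw [MonoidHom.range_comp, Subgroup.range_subtype]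
        rw [h1, ← Nat.card_congr (MonoidHom.ofInjective hinj).toEquiv, hcR', hcR, hb]
    have hR'ne : R' ≠ ⊥ := by
      intro h
      apply hT
      rw [← hmap, h, Subgroup.map_bot]
    have hy0top : y0 ∈ Subgroup.normalizer (R' : Set Γ) ⊔ M := by
      rw [hfrat]; exact Subgroup.mem_top _
    obtain ⟨n, hn, x, hx, hnx⟩ := Subgroup.mem_sup_of_normal_right.1 hy0top
    obtain ⟨ρ, hρ, hρx⟩ : ∃ ρ ∈ R', (QuotientGroup.mk' P0) ρ = (QuotientGroup.mk' P0) x := by
      have h1 : (QuotientGroup.mk' P0) x ∈ T := hx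
      rw [← hmap] at h1
      exact h1
    have hn' : n * ρ ∈ Subgroup.normalizer (R' : Set Γ) :=
      (Subgroup.normalizer (R' : Set Γ)).mul_mem hn (Subgroup.le_normalizer hρ)
    have hmk : (QuotientGroup.mk' P0) (n * ρ) = (QuotientGroup.mk' P0) y0 := by
      rw [← hnx, map_mul, map_mul, hρx]
    have hnP : (n * ρ) ^ p ∈ P0 := by
      rw [← QuotientGroup.eq_one_iff, ← QuotientGroup.mk'_apply, map_pow, hmk, ← map_pow, hy0, map_one]
    obtain ⟨k, hk⟩ := Cores.isPGroup_pCore p Γ ⟨_, hnP⟩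
    have hk' : ((n * ρ) ^ p) ^ p ^ k = 1 := congrArg Subtype.val hk
    have h1 := (N2 (n * ρ) ⟨k + 1, by rw [pow_succ', pow_mul]; exact hk'⟩).1
    have h2 : n * ρ ≠ 1 := by
      intro h
      rw [h, map_one] at hmk
      apply hy0P
      rw [← QuotientGroup.eq_one_iff, ← QuotientGroup.mk'_apply, ← hmk]
    exact lemQ hp hW φ N1 N2 N3 R' hR'ne hcopR (n * ρ) (orderOf_eq_prime h1 h2)
      (fun r hr => (Subgroup.mem_normalizer_iff.1 hn' r).1 hr)
end lemN

end Cfsg.Agent.Lib.NPA
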