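import Cfsg.Agent.Lib.NPart
import Cfsg.Agent.Lib.NPartA1
import Cfsg.Agent.Lib.FrobGroup
import Cfsg.Agent.Lib.TIFN
import Cfsg.Agent.Lib.Cores3
import Cfsg.Agent.S4249

/-!
Finite groups with a normal component of a partition (for S4248, part A).
-/
set_option autoImplicit false
set_option linter.all false

namespace Cfsg.Agent.Lib.NPA

open Finset Cfsg Cfsg.Agent.Lib

section gen
variable {G : Type*} [Group G] [Finite G]

/-- Lemma F -/
theorem lemF (K : Subgroup G) [K.Normal] (h1 : K ≠ ⊥) (h2 : K ≠ ⊤)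
    (hC : ∀ k ∈ K, k ≠ 1 → ∀ u, u * k = k * u → u ∈ K) : ∃ H : Subgroup G, IsFrobeniusComplement H := by
  have hcop := TIFN.coprime_card_index K (by
    intro k hk hk1 u hu
    rw [Subgroup.mem_centralizer_singleton_iff] at hu
    exact hC k hk hk1 u hu)
  obtain ⟨H, hH⟩ := Subgroup.exists_right_complement'_of_coprime hcop
  have hdisj : K ⊓ H = ⊥ := hH.disjoint.eq_bot
  have hHne : H ≠ ⊥ := by
    rintro rfl
    apply h2
    exact Subgroup.isComplement'_bot_right.1 hH
  refine ⟨H, (FrobGroup.isFrobeniusComplement_iff hH h1 hHne).2 ?_⟩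
  intro x hx hx1
  rw [eq_bot_iff]
  rintro k ⟨hk, hkx⟩
  rw [Subgroup.mem_bot]
  by_contra hk1
  apply hx1
  have h3 : x ∈ K := hC k hk hk1 x (by
    have := Subgroup.mem_centralizer_singleton_iff.1 hkx
    exact this.symm)
  have h4 : x ∈ K ⊓ H := ⟨h3, hx⟩
  rw [hdisj] at h4
  exact Subgroup.mem_bot.1 h4

/-- a `p`-group acting on a normal subgroup of order divisible by `p` -/
theorem exists_fixed {p : ℕ} (hp : p.Prime) (Y : Subgroup G) (hY : IsPGroup p Y) (H : Subgroup G) [hH : H.Normal]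
    (hpH : p ∣ Nat.card H) : ∃ z ∈ H, z ≠ 1 ∧ ∀ y ∈ Y, y * z = z * y := by
  haveI := Fact.mk hp
  letI act : MulAction Y H := MulAction.compHom H ((MulAut.conjNormal (H := H)).comp Y.subtype)
  obtain ⟨z, hz, hz1⟩ := hY.exists_fixed_point_of_prime_dvd_card_of_fixed_point H hpH
    (a := (1 : H)) (by
      intro u
      show (MulAut.conjNormal (u : G)) (1 : H) = 1
      exact map_one _)
  refine ⟨z, z.2, fun h => hz1 (Subtype.ext h.symm), ?_⟩
  intro y hy
  have h1 : (MulAut.conjNormal (⟨y, hy⟩ : Y).1) z = z := hz ⟨y, hy⟩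
  have h2 := congrArg (Subtype.val : H → G) h1
  rw [MulAut.conjNormal_apply] at h2
  exact (mul_inv_eq_iff_eq_mul.1 h2)

theorem zpowers_isPGroup {p : ℕ} {y : G} {k : ℕ} (h : y ^ p ^ k = 1) : IsPGroup p (Subgroup.zpowers y) := by
  rintro ⟨_, j, rfl⟩
  refine ⟨k, Subtype.ext ?_⟩
  show (y ^ j) ^ p ^ k = 1
  rw [← zpow_natCast, ← zpow_mul, mul_comm, zpow_mul, zpow_natCast, h, one_zpow]

end gen

section norm
variable {G : Type*} [Group G] {X : G → Subgroup G}

/-- product of conjugates -/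
theorem mul_pow_eq (w y : G) (n : ℕ) : (w * y) ^ n = ((List.range n).map fun i => y ^ i * w * (y ^ i)⁻¹).prod * y ^ n := by
  induction n with
  | zero => simp
  | succ n ih =>
    rw [pow_succ, ih, List.range_succ, List.map_append, List.prod_append, pow_succ y n]
    simp only [List.map_cons, List.map_nil, List.prod_cons, List.prod_nil, mul_one]
    group

end norm

section normal
variable {G : Type*} [Group G] [Finite G] {X : G → Subgroup G} (h : NP X) {g : G} (hg : g ≠ 1) (hn : (X g).Normal)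
include h hg hn

theorem rep_out {p : ℕ} {y : G} (hy : y ∉ X g) {k : ℕ} (hk : y ^ p ^ k ∈ X g) : y ^ p ^ k = 1 := by
  classical
  induction k with
  | zero => rw [pow_zero, pow_one] at hk; exact absurd hk hy
  | succ k ih =>
    by_cases h1 : y ^ p ^ k ∈ X g
    · rw [pow_succ, pow_mul, ih h1, one_pow]
    · rw [pow_succ, pow_mul] at hk ⊢
      exact h.pow_eq_one h1 hk

theorem comp_ne {y x : G} (hy : y ∉ X g) (hx : x ∈ X g) (hx1 : x ≠ 1) : X y ≠ X x := by
  intro h1
  rw [h.eq hx1 hx] at h1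
  exact hy (h1 ▸ h.mem y)

theorem commF0 {y x : G} (hy : y ∉ X g) (hx : x ∈ X g) (hx1 : x ≠ 1) (hc : y * x = x * y) :
    ∃ p, p.Prime ∧ orderOf y = p ∧ orderOf x = p :=
  h.F0 (fun h1 => hy (h1 ▸ one_mem _)) hx1 hc (comp_ne h hg hn hy hx hx1)

theorem factE {p : ℕ} (hp : p.Prime) (hpH : p ∣ Nat.card (X g)) {y : G} (hy : y ∉ X g) {k : ℕ}
    (hk : y ^ p ^ k = 1) : ∀ w ∈ X y, w ^ p = 1 := by
  have hy1 : y ≠ 1 := fun h1 => hy (h1 ▸ one_mem _)
  obtain ⟨z, hz, hz1, hzc⟩ := exists_fixed hp (Subgroup.zpowers y) (zpowers_isPGroup hk) (X g) hpH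
  have hyz := hzc y (Subgroup.mem_zpowers y)
  obtain ⟨q, hq, h1, h2⟩ := commF0 h hg hn hy hz hz1 hyz
  have hqp : q = p := by
    have h3 : orderOf y ∣ p ^ k := orderOf_dvd_of_pow_eq_one hk
    rw [h1] at h3
    exact (Nat.prime_dvd_prime_iff_eq hq hp).1 (hq.dvd_of_dvd_pow h3)
  subst hqp
  intro w hw
  by_cases hw1 : w = 1
  · rw [hw1, one_pow]
  have hXw : X w = X y := h.eq hw1 hw
  have hne : X y ≠ X g := fun h3 => hy (h3 ▸ h.mem y)
  have h3 : z * w⁻¹ * z⁻¹ ∈ X y := h.conj_mem_of_commute hyz.symm (inv_mem hw)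
  have h4 : w * (z * w⁻¹ * z⁻¹) ∈ X y := mul_mem hw h3
  have h5 : w * (z * w⁻¹ * z⁻¹) ∈ X g := by
    have : w * (z * w⁻¹ * z⁻¹) = (w * z * w⁻¹) * z⁻¹ := by group
    rw [this]
    exact mul_mem (hn.conj_mem z hz w) (inv_mem hz)
  have h6 : w * (z * w⁻¹ * z⁻¹) ∈ X y ⊓ X g := ⟨h4, h5⟩
  rw [h.inf_eq_bot hne, Subgroup.mem_bot] at h6
  have h7 : w * z = z * w := by
    calc w * z = (w * (z * w⁻¹ * z⁻¹)) * (z * w) := by group
      _ = z * w := by rw [h6, one_mul]
  have hwH : w ∉ X g := by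
    intro h8
    exact hne (hXw.symm.trans (h.eq hw1 h8))
  obtain ⟨q', hq', h8, h9⟩ := commF0 h hg hn hwH hz hz1 h7
  rw [← h2, h9, ← h8]
  exact pow_orderOf_eq_one w

theorem rep_pow {p : ℕ} (hp : p.Prime) (hpH : p ∣ Nat.card (X g)) {y : G} (hy : y ∉ X g) {k : ℕ}
    (hk : y ^ p ^ k ∈ X g) : y ^ p = 1 :=
  factE h hg hn hp hpH hy (rep_out h hg hn hy hk) y (h.mem y)

theorem noMix {p : ℕ} (hp : p.Prime) (hpH : p ∣ Nat.card (X g)) {q : ℕ} (hq : q.Prime) (hqp : q ≠ p)
    {y c : G ⧸ X g} (hy : orderOf y = p) (hc : orderOf c = q) (hyc : y * c = c * y) : False := by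
  obtain ⟨d, hd⟩ := QuotientGroup.mk_surjective (y * c)
  have hyp : y ^ p = 1 := by rw [← hy]; exact pow_orderOf_eq_one y
  have hcq : c ^ q = 1 := by rw [← hc]; exact pow_orderOf_eq_one c
  have hcop : Nat.Coprime q p := (Nat.coprime_primes hq hp).2 hqp
  have hy1 : y ≠ 1 := by rintro rfl; rw [orderOf_one] at hy; exact hp.one_lt.ne hy
  have hc1 : c ≠ 1 := by rintro rfl; rw [orderOf_one] at hc; exact hq.one_lt.ne hc
  have e1 : ((d ^ q : G) : G ⧸ X g) = y ^ q := by
    rw [QuotientGroup.mk_pow, hd, (show Commute y c from hyc).mul_pow, hcq, mul_one]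
  have e2 : ((d ^ p : G) : G ⧸ X g) = c ^ p := by
    rw [QuotientGroup.mk_pow, hd, (show Commute y c from hyc).mul_pow, hyp, one_mul]
  have h1 : d ^ q ∉ X g := by
    rw [← QuotientGroup.eq_one_iff, e1]
    intro h2
    exact hy1 (eq_one_of_coprime hp hyp h2 hcop)
  have h2 : d ^ p ∉ X g := by
    rw [← QuotientGroup.eq_one_iff, e2]
    intro h2
    exact hc1 (eq_one_of_coprime hq hcq h2 hcop.symm)
  have h3 : (d ^ q) ^ p = 1 := by
    apply h.pow_eq_one h1
    rw [← QuotientGroup.eq_one_iff, QuotientGroup.mk_pow, e1, ← pow_mul, mul_comm, pow_mul, hyp, one_pow]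
  have h4 : (d ^ p) ^ q = 1 := by
    apply h.pow_eq_one h2
    rw [← QuotientGroup.eq_one_iff, QuotientGroup.mk_pow, e2, ← pow_mul, mul_comm, pow_mul, hcq, one_pow]
  have h5 : d ^ q ≠ 1 := fun h6 => h1 (h6 ▸ one_mem _)
  have h6 : d ^ p ≠ 1 := fun h6 => h2 (h6 ▸ one_mem _)
  have h7 : X (d ^ q) = X (d ^ p) := by
    apply h.same_of_order_ne h5 h6
    · exact (Commute.pow_pow_self d q p).eq
    · haveI := Fact.mk hp
      haveI := Fact.mk hq
      rw [orderOf_eq_prime h3 h5, orderOf_eq_prime h4 h6]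
      exact hqp.symm
  have h8 := factE h hg hn hp hpH h1 (k := 1) (by rw [pow_one]; exact h3) (d ^ p) (h7 ▸ h.mem _)
  exact h6 (eq_one_of_coprime hp h8 h4 hcop)

end normal

section nilp
variable {G : Type*} [Group G] [Finite G] {X : G → Subgroup G} (h : NP X) {g : G} (hg : g ≠ 1) (hn : (X g).Normal)
include h hg hn

theorem nilp {p : ℕ} (hp : p.Prime) {y : G} (hy : y ∉ X g) (hyp : y ^ p = 1) : Group.IsNilpotent (X g) := by
  classical
  haveI := Fact.mk hp
  set H := X g with hH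
  set L := H ⊔ Subgroup.zpowers y with hL
  have hHL : H ≤ L := le_sup_left
  have hyL : y ∈ L := le_sup_right (α := Subgroup G) (Subgroup.mem_zpowers y)
  -- elements outside H
  have hout : ∀ z ∈ L, z ∉ H → z ^ p = 1 := by
    intro z hz hzH
    apply h.pow_eq_one hzH
    obtain ⟨x, hx, c, ⟨j, rfl⟩, rfl⟩ := Subgroup.mem_sup_of_normal_left.1 hz
    rw [← hH, ← QuotientGroup.eq_one_iff, QuotientGroup.mk_pow, QuotientGroup.mk_mul,
      (QuotientGroup.eq_one_iff x).2 hx, one_mul]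
    show (((y ^ j : G) : G ⧸ H)) ^ p = 1
    rw [← QuotientGroup.mk_pow, ← zpow_natCast, ← zpow_mul, mul_comm, zpow_mul, zpow_natCast, hyp, one_zpow, QuotientGroup.mk_one]
  set H' := H.subgroupOf L with hH'
  have hH'n : H'.Normal := inferInstance
  have hle : Subgroup.closure {x : L | x ^ p ≠ 1} ≤ H' := by
    rw [Subgroup.closure_le]
    intro x hx
    by_contra h1
    apply hx
    apply Subtype.ext
    exact hout x x.2 h1
  have hne : H' ≠ ⊤ := by
    intro h1
    have : (⟨y, hyL⟩ : L) ∈ H' := by rw [h1]; trivial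
    exact hy this
  have e : H' ≃* H := Subgroup.subgroupOfEquivOfLe hHL
  by_cases hLp : IsPGroup p L
  · haveI : IsPGroup p H := hLp.to_le hHL
    exact this.isNilpotent
  · obtain ⟨h1, h2⟩ := Cfsg.Agent.S4249.result (G := L) p hp hLp (fun h1 => hne (top_le_iff.1 (h1 ▸ hle)))
    have h3 : H'.index ∣ p := by
      rw [← h2]; exact Subgroup.index_dvd_of_le hle
    have h4 : H'.index = p := by
      rcases (Nat.dvd_prime hp).1 h3 with h5 | h5
      · exact absurd (Subgroup.index_eq_one.1 h5) hne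
      · exact h5
    have h5 := Subgroup.relIndex_mul_index hle
    rw [h4, h2] at h5
    have h6 : (Subgroup.closure {x : L | x ^ p ≠ 1}).relIndex H' = 1 := by
      have := hp.pos
      exact Nat.eq_of_mul_eq_mul_right this (by rw [h5, one_mul])
    have h7 : H' ≤ Subgroup.closure {x : L | x ^ p ≠ 1} := Subgroup.relIndex_eq_one.1 h6
    have h8 : Subgroup.closure {x : L | x ^ p ≠ 1} = H' := le_antisymm hle h7
    rw [h8] at h1
    exact (Group.isNilpotent_congr e).1 h1

/-- the elements of order `p` of the center -/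
def WW (H : Subgroup G) (p : ℕ) : Subgroup G where
  carrier := {w | w ∈ H ∧ (∀ x ∈ H, x * w = w * x) ∧ w ^ p = 1}
  one_mem' := ⟨H.one_mem, fun x _ => by simp, one_pow p⟩
  mul_mem' := by
    rintro a b ⟨ha, ha1, ha2⟩ ⟨hb, hb1, hb2⟩
    refine ⟨H.mul_mem ha hb, ?_, ?_⟩
    · intro x hx
      rw [← mul_assoc, ha1 x hx, mul_assoc, hb1 x hx, mul_assoc]
    · rw [(show Commute a b from hb1 a ha).mul_pow, ha2, hb2, one_mul]
  inv_mem' := by
    rintro a ⟨ha, ha1, ha2⟩
    refine ⟨H.inv_mem ha, ?_, ?_⟩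
    · intro x hx
      exact ((show Commute x a from ha1 x hx).inv_right).eq
    · rw [inv_pow, ha2, inv_one]

omit h hg hn in
theorem WW_normal (H : Subgroup G) [hH : H.Normal] (p : ℕ) : (WW H p).Normal := by
  refine ⟨?_⟩
  rintro a ⟨ha, ha1, ha2⟩ x
  refine ⟨hH.conj_mem a ha x, ?_, ?_⟩
  · intro u hu
    have h1 : x⁻¹ * u * x ∈ H := by simpa using hH.conj_mem u hu x⁻¹
    have h2 := ha1 _ h1
    calc u * (x * a * x⁻¹) = x * ((x⁻¹ * u * x) * a) * x⁻¹ := by group
      _ = x * (a * (x⁻¹ * u * x)) * x⁻¹ := by rw [h2]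
      _ = _ := by group
  · rw [conj_pow, ha2]; group

omit h hg hn in
theorem WW_ne_bot {H : Subgroup G} {p : ℕ} (hp : p.Prime) (hnil : Group.IsNilpotent H) (hpH : p ∣ Nat.card H) :
    WW H p ≠ ⊥ := by
  haveI := Fact.mk hp
  haveI := hnil
  obtain ⟨P⟩ : Nonempty (Sylow p H) := inferInstance
  have hPn : (P : Subgroup H).Normal := (Group.isNilpotent_of_finite_tfae.out 0 3 rfl rfl).1 hnil p ⟨hp⟩ P
  have hPne : (P : Subgroup H) ≠ ⊥ := P.ne_bot_of_dvd_card hpH
  obtain ⟨z, hzP, hzc, hz1⟩ := Cores.exists_mem_center_of_normal hPn hPne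
  obtain ⟨k, hk⟩ := IsPGroup.iff_orderOf.1 P.2 ⟨z, hzP⟩
  have hk' : orderOf z = p ^ k := by
    rw [← hk]
    exact Subgroup.orderOf_coe (⟨z, hzP⟩ : (P : Subgroup H))
  have hk0 : k ≠ 0 := by
    rintro rfl
    rw [pow_zero, orderOf_eq_one_iff] at hk'
    exact hz1 hk'
  obtain ⟨j, rfl⟩ := Nat.exists_eq_succ_of_ne_zero hk0
  intro hbot
  have h1 : ((z ^ p ^ j : H) : G) ∈ WW H p := by
    refine ⟨(z ^ p ^ j).2, ?_, ?_⟩
    · intro x hx
      have h2 := Subgroup.mem_center_iff.1 ((Subgroup.center H).pow_mem hzc (p ^ j)) ⟨x, hx⟩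
      exact congrArg Subtype.val h2
    · rw [← Subgroup.coe_pow, ← pow_mul, ← pow_succ, ← hk', pow_orderOf_eq_one, Subgroup.coe_one]
  rw [hbot, Subgroup.mem_bot] at h1
  have h2 : z ^ p ^ j = 1 := Subtype.ext h1
  have h3 : orderOf z ∣ p ^ j := orderOf_dvd_of_pow_eq_one h2
  rw [hk'] at h3
  have := (Nat.pow_dvd_pow_iff_le_right hp.one_lt).1 h3
  omega

theorem appN {p : ℕ} (hp : p.Prime) (hpH : p ∣ Nat.card (X g)) (hnil : Group.IsNilpotent (X g)) :
    (∃ P : Subgroup (G ⧸ X g), P.Normal ∧ IsPGroup p P ∧ ∀ y, y ^ p = 1 → y ∈ P) := by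
  classical
  set H := X g with hH
  set W := WW H p with hW
  haveI hWn : W.Normal := WW_normal H p
  letI : CommGroup W := { (inferInstance : Group W) with
    mul_comm := fun a b => Subtype.ext (b.2.2.1 a a.2.1) }
  haveI : Nontrivial W := (Subgroup.nontrivial_iff_ne_bot W).2 (WW_ne_bot hp hnil hpH)
  have hlift : ∀ x ∈ H, (MulAut.conjNormal (H := W)) x = 1 := by
    intro x hx
    ext w
    rw [MulAut.conjNormal_apply, MulAut.one_apply, w.2.2.1 x hx]
    group
  let φ : G ⧸ H →* MulAut W := QuotientGroup.lift H (MulAut.conjNormal (H := W)) hlift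
  have hφ : ∀ (x : G) (w : W), ((φ (x : G ⧸ H) w : W) : G) = x * w * x⁻¹ := by
    intro x w
    show (((MulAut.conjNormal (H := W)) x w : W) : G) = _
    rw [MulAut.conjNormal_apply]
  have hWp : ∀ w : W, w ^ p = 1 := fun w => Subtype.ext w.2.2.2
  have hrep : ∀ y : G ⧸ H, (∃ k, y ^ p ^ k = 1) → y ≠ 1 → ∀ x : G, (x : G ⧸ H) = y → x ^ p = 1 := by
    rintro y ⟨k, hk⟩ hy1 x rfl
    refine rep_pow h hg hn hp hpH (fun h1 => hy1 ((QuotientGroup.eq_one_iff x).2 h1)) (k := k) ?_
    rw [← QuotientGroup.mk_pow, QuotientGroup.eq_one_iff] at hk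
    exact hk
  refine lemN (W := W) hp hWp φ ?_ ?_ ?_
  · intro y hy1 hyp w hw
    obtain ⟨x, rfl⟩ := QuotientGroup.mk_surjective y
    by_contra hw1
    have h1 : x * w * x⁻¹ = w := by rw [← hφ, hw]
    have h2 : x * w = w * x := mul_inv_eq_iff_eq_mul.1 h1
    have hx : x ∉ H := fun h3 => hy1 ((QuotientGroup.eq_one_iff x).2 h3)
    obtain ⟨q, hq, h3, h4⟩ := commF0 h hg hn hx w.2.1 (fun h3 => hw1 (Subtype.ext h3)) h2
    have h5 : q = p := by
      have h6 : orderOf (w : G) ∣ p := orderOf_dvd_of_pow_eq_one w.2.2.2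
      rw [h4] at h6
      exact (Nat.prime_dvd_prime_iff_eq hq hp).1 h6
    have h6 : orderOf (x : G ⧸ H) ∣ p := by
      apply orderOf_dvd_of_pow_eq_one
      rw [← QuotientGroup.mk_pow, ← h5, ← h3, pow_orderOf_eq_one, QuotientGroup.mk_one]
    apply hy1
    rw [← orderOf_eq_one_iff, ← Nat.dvd_one, ← hyp]
    exact Nat.dvd_gcd dvd_rfl h6
  · intro y hy
    by_cases hy1 : y = 1
    · subst hy1
      refine ⟨one_pow p, fun w => ?_⟩
      simp only [one_pow, map_one, MulAut.one_apply, prod_const, card_range]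
      exact hWp w
    · obtain ⟨x, hx⟩ := QuotientGroup.mk_surjective y
      have h1 := hrep y hy hy1 x hx
      refine ⟨by rw [← hx, ← QuotientGroup.mk_pow, h1, QuotientGroup.mk_one], fun w => ?_⟩
      have h2 := hrep y hy hy1 (w * x) (by
        rw [QuotientGroup.mk_mul, (QuotientGroup.eq_one_iff (w : G)).2 w.2.1, one_mul, hx])
      rw [mul_pow_eq, h1, mul_one] at h2
      have h3 : ∀ n : ℕ, ((∏ i ∈ range n, φ (y ^ i) w : W) : G) =
          ((List.range n).map fun i => x ^ i * (w : G) * (x ^ i)⁻¹).prod := by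
        intro n
        induction n with
        | zero => rfl
        | succ n ih =>
          rw [prod_range_succ, List.range_succ, List.map_append, List.prod_append, ← ih]
          show ((∏ i ∈ range n, φ (y ^ i) w : W) : G) * ((φ (y ^ n) w : W) : G) = _
          rw [← hx, ← QuotientGroup.mk_pow, hφ]
          simp
      apply Subtype.ext
      rw [h3, h2]
      rfl
  · intro y c hy hyc
    by_contra hcp
    have h1 : ¬ ∃ k, c ^ p ^ k = 1 := by
      intro hc
      apply hcp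
      obtain ⟨x, hx⟩ := QuotientGroup.mk_surjective c
      have hc1 : c ≠ 1 := by rintro rfl; exact hcp (one_pow p)
      rw [← hx, ← QuotientGroup.mk_pow, hrep c hc hc1 x hx, QuotientGroup.mk_one]
    obtain ⟨a, m, hm, h2, h3⟩ := ppart hp c
    have hm1 : m ≠ 1 := by
      rintro rfl
      exact h1 ⟨a, orderOf_eq_one_iff.1 h3⟩
    obtain ⟨q, hq, hqm⟩ := Nat.exists_prime_and_dvd hm1
    have hqp : q ≠ p := by rintro rfl; exact hm hqm
    obtain ⟨l, hl⟩ := hqm
    have hl0 : l ≠ 0 := by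
      rintro rfl
      rw [mul_zero] at hl
      rw [hl, mul_zero] at h2
      exact (orderOf_pos c).ne' h2
    have h4 : orderOf ((c ^ p ^ a) ^ l) = q := by
      rw [orderOf_pow_of_dvd hl0 (by rw [h3, hl]; exact dvd_mul_left _ _), h3, hl,
        Nat.mul_div_cancel _ (Nat.pos_of_ne_zero hl0)]
    refine noMix h hg hn hp hpH hq hqp hy h4 ?_
    rw [← pow_mul]
    exact ((show Commute y c from hyc).pow_right _).eq

end nilp

section final
variable {G : Type*} [Group G] [Finite G] {X : G → Subgroup G}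

/-- **Normal components** -/
theorem normal_comp (h : NP X) {g : G} (hg : g ≠ 1) (hn : (X g).Normal) :
    (∃ p : ℕ, p.Prime ∧ Subgroup.closure {g : G | g ^ p ≠ 1} ≠ ⊤) ∨ (∃ H : Subgroup G, Cfsg.IsFrobeniusComplement H) := by
  classical
  have hHne : X g ≠ ⊥ := by
    intro h1
    have := h.mem g
    rw [h1, Subgroup.mem_bot] at this
    exact hg this
  by_cases hC : ∀ k ∈ X g, k ≠ 1 → ∀ u, u * k = k * u → u ∈ X g
  · exact Or.inr (lemF (X g) hHne (h.ne_top g) hC)
  push Not at hC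
  obtain ⟨x, hx, hx1, y, hyx, hy⟩ := hC
  obtain ⟨p, hp, hyo, hxo⟩ := commF0 h hg hn hy hx hx1 hyx
  haveI := Fact.mk hp
  have hyp : y ^ p = 1 := by rw [← hyo]; exact pow_orderOf_eq_one y
  have hpH : p ∣ Nat.card (X g) := by
    rw [← hxo]
    exact Subgroup.orderOf_dvd_natCard (X g) hx
  have hnil := nilp h hg hn hp hy hyp
  obtain ⟨P, hPn, hPp, hPall⟩ := appN h hg hn hp hpH hnil
  have hy1 : (y : G ⧸ X g) ≠ 1 := fun h1 => hy ((QuotientGroup.eq_one_iff y).1 h1)
  have hyo' : orderOf (y : G ⧸ X g) = p := orderOf_eq_prime (by rw [← QuotientGroup.mk_pow, hyp, QuotientGroup.mk_one]) hy1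
  -- other primes
  have hother : ∀ r : ℕ, r.Prime → r ∣ Nat.card (X g) → r ∣ Nat.card (G ⧸ X g) → r = p := by
    intro r hr hr1 hr2
    by_contra hrp
    haveI := Fact.mk hr
    obtain ⟨c, hc⟩ := exists_prime_orderOf_dvd_card' (G := G ⧸ X g) r hr2
    obtain ⟨R, hRn, hRp, hRall⟩ := appN h hg hn hr hr1 hnil
    have hcR : c ∈ R := hRall c (by rw [← hc]; exact pow_orderOf_eq_one c)
    have hyP : (y : G ⧸ X g) ∈ P := hPall _ (by rw [← QuotientGroup.mk_pow, hyp, QuotientGroup.mk_one])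
    have hdis : Disjoint P R := IsPGroup.disjoint_of_ne p r (Ne.symm hrp) P R hPp hRp
    have hcomm := Subgroup.commute_of_normal_of_disjoint P R hPn hRn hdis _ _ hyP hcR
    exact noMix h hg hn hp hpH hr hrp hyo' hc hcomm.eq
  by_cases hPt : P = ⊤
  · left
    refine ⟨p, hp, ?_⟩
    intro htop
    apply h.ne_top g
    rw [eq_top_iff, ← htop, Subgroup.closure_le]
    intro u hu
    by_contra huH
    apply hu
    have h1 : (u : G ⧸ X g) ∈ P := by rw [hPt]; trivial
    obtain ⟨k, hk⟩ := hPp ⟨_, h1⟩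
    have hk' : (u : G ⧸ X g) ^ p ^ k = 1 := congrArg Subtype.val hk
    rw [← QuotientGroup.mk_pow, QuotientGroup.eq_one_iff] at hk'
    exact rep_pow h hg hn hp hpH huH hk'
  · right
    set K := P.comap (QuotientGroup.mk' (X g)) with hK
    have hKH : X g ≤ K := by
      intro u hu
      rw [hK, Subgroup.mem_comap, QuotientGroup.mk'_apply, (QuotientGroup.eq_one_iff u).2 hu]
      exact one_mem _
    refine lemF K ?_ ?_ ?_
    · intro h1
      exact hHne (le_bot_iff.1 (h1 ▸ hKH))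
    · intro h1
      apply hPt
      rw [eq_top_iff]
      intro u _
      obtain ⟨v, rfl⟩ := QuotientGroup.mk_surjective u
      have : v ∈ K := by rw [h1]; trivial
      exact this
    · intro k hk hk1 u huk
      by_contra huK
      have huP : (u : G ⧸ X g) ∉ P := huK
      -- the order of `u` mod `H` is not a power of `p`
      obtain ⟨a, m, hm, h2, h3⟩ := ppart hp (u : G ⧸ X g)
      have hm1 : m ≠ 1 := by
        rintro rfl
        apply huP
        apply hPall
        have huH : u ∉ X g := fun h4 => huK (hKH h4)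
        have h4 : ((u ^ p ^ a : G) : G ⧸ X g) = 1 := by
          rw [QuotientGroup.mk_pow]; exact orderOf_eq_one_iff.1 h3
        rw [QuotientGroup.eq_one_iff] at h4
        rw [← QuotientGroup.mk_pow, rep_pow h hg hn hp hpH huH h4, QuotientGroup.mk_one]
      obtain ⟨r, hr, hrm⟩ := Nat.exists_prime_and_dvd hm1
      have hrp : r ≠ p := by rintro rfl; exact hm hrm
      have hru : r ∣ orderOf (u : G ⧸ X g) := by rw [h2]; exact Dvd.dvd.mul_left hrm _
      have hru' : r ∣ Nat.card (G ⧸ X g) := hru.trans (orderOf_dvd_natCard _)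
      -- the `r`-part of `u`
      obtain ⟨b, l, hl, h5⟩ := Nat.exists_eq_pow_mul_and_not_dvd (orderOf_pos u).ne' r hr.ne_one
      set v := u ^ l with hv
      have hl0 : l ≠ 0 := by
        rintro rfl
        exact hl (dvd_zero r)
      have hvo : orderOf v = r ^ b := by
        rw [hv, orderOf_pow_of_dvd hl0 (by rw [h5]; exact dvd_mul_left _ _), h5, Nat.mul_div_cancel _ (Nat.pos_of_ne_zero hl0)]
      have hvH : v ∉ X g := by
        intro h6
        rw [← QuotientGroup.eq_one_iff, hv, QuotientGroup.mk_pow] at h6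
        exact hl (hru.trans (orderOf_dvd_of_pow_eq_one h6))
      have hv1 : v ≠ 1 := fun h6 => hvH (h6 ▸ one_mem _)
      have hvk : v * k = k * v := ((show Commute u k from huk).pow_left l).eq
      by_cases hkH : k ∈ X g
      · obtain ⟨q, hq, h6, h7⟩ := commF0 h hg hn hvH hkH hk1 hvk
        have h8 : q = r := by
          have h9 : q ∣ r ^ b := by rw [← hvo, h6]
          exact (Nat.prime_dvd_prime_iff_eq hq hr).1 (hq.dvd_of_dvd_pow h9)
        have h9 : r ∣ Nat.card (X g) := by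
          rw [← h8, ← h7]
          exact Subgroup.orderOf_dvd_natCard (X g) hkH
        exact hrp (hother r hr h9 hru')
      · obtain ⟨j, hj⟩ := hPp ⟨_, hk⟩
        have hj' : (k : G ⧸ X g) ^ p ^ j = 1 := congrArg Subtype.val hj
        rw [← QuotientGroup.mk_pow, QuotientGroup.eq_one_iff] at hj'
        have hkp := rep_pow h hg hn hp hpH hkH hj'
        have hko : orderOf k = p := orderOf_eq_prime hkp hk1
        have hcop : (r ^ b).Coprime p := ((Nat.coprime_primes hr hp).2 hrp).pow_left b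
        have hne : orderOf v ≠ orderOf k := by
          rw [hvo, hko]
          intro h6
          rw [h6, Nat.coprime_self] at hcop
          exact hp.one_lt.ne' hcop
        have h6 : X v = X k := h.same_of_order_ne hv1 hk1 hvk hne
        have h7 := factE h hg hn hp hpH hkH (k := 1) (by rw [pow_one]; exact hkp) v (h6 ▸ h.mem v)
        exact hv1 (eq_one_of_coprime hp h7 (by rw [← hvo]; exact pow_orderOf_eq_one v) hcop)

end final

end Cfsg.Agent.Lib.NPA
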