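import Cfsg.Agent.Lib.NPart
import Cfsg.Agent.Lib.SylowRel
import Cfsg.Agent.S0205
import Cfsg.Agent.S0215

/-!
# Groups without abelian normal subgroups; involutions in partitioned groups (for S4248)
-/

set_option autoImplicit false

namespace Cfsg.Agent.Lib.NPartB

open Subgroup SylowRel

universe u

/-- no nontrivial abelian normal subgroup -/
def NoAb (G : Type*) [Group G] : Prop :=
  ∀ A : Subgroup G, A.Normal → (∀ a ∈ A, ∀ b ∈ A, a * b = b * a) → A = ⊥

section NoAb

variable {G : Type u} [Group G] [Finite G]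

omit [Finite G] in
theorem NoAb.solv (h : NoAb G) {N : Subgroup G} (hN : N.Normal) (hsol : Group.IsSolvable N) :
    N = ⊥ := by
  classical
  by_contra hN1
  obtain ⟨m, hm⟩ := hsol.solvable
  have hex : ∃ m, derivedSeries N m = ⊥ := ⟨m, hm⟩
  set j := Nat.find hex with hj
  have hj0 : j ≠ 0 := by
    intro h0
    have h1 := Nat.find_spec hex
    rw [← hj, h0, derivedSeries_zero] at h1
    apply hN1
    rw [eq_bot_iff]
    intro x hx
    have h2 : (⟨x, hx⟩ : N) ∈ (⊤ : Subgroup N) := trivial
    rw [h1, Subgroup.mem_bot] at h2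
    exact congrArg Subtype.val h2
  obtain ⟨i, hi⟩ : ∃ i, j = i + 1 := ⟨j - 1, by omega⟩
  have hi1 : derivedSeries N i ≠ ⊥ := Nat.find_min hex (by omega)
  have hi2 : derivedSeries N (i + 1) = ⊥ := by rw [← hi]; exact Nat.find_spec hex
  have := hN
  have : (derivedSeries N i).Characteristic := derivedSeries_characteristic _ _
  have h1 := h ((derivedSeries N i).map N.subtype) inferInstance (by
    rintro _ ⟨x, hx, rfl⟩ _ ⟨y, hy, rfl⟩
    rw [derivedSeries_succ, Subgroup.commutator_eq_bot_iff_le_centralizer] at hi2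
    have h1 := Subgroup.mem_centralizer_iff.1 (hi2 hx) y hy
    exact (congrArg Subtype.val h1).symm)
  apply hi1
  rwa [Subgroup.map_eq_bot_iff_of_injective _ N.subtype_injective] at h1

theorem NoAb.odd (h : NoAb G) {N : Subgroup G} (hN : N.Normal) (ho : Odd (Nat.card N)) : N = ⊥ :=
  h.solv hN (Cfsg.Agent.S0205.result ho)

omit [Finite G] in
theorem NoAb.not_solvable (h : NoAb G) [Nontrivial G] : ¬ Group.IsSolvable G := by
  intro hs
  have h1 : (⊤ : Subgroup G) = ⊥ := h.solv inferInstance inferInstance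
  exact top_ne_bot h1

theorem NoAb.even (h : NoAb G) [Nontrivial G] : Even (Nat.card G) := by
  rw [← Nat.not_odd_iff_even]
  intro ho
  exact h.not_solvable (Cfsg.Agent.S0205.result ho)

omit [Finite G] in
theorem NoAb.not_central (h : NoAb G) {z : G} (hz : z ≠ 1) : ∃ g : G, g * z ≠ z * g := by
  by_contra hcon
  push Not at hcon
  have h1 := h (zpowers z) ⟨by
    rintro _ ⟨k, rfl⟩ g
    refine ⟨k, ?_⟩
    have h2 : Commute g (z ^ k) := (show Commute g z from hcon g).zpow_right k
    show z ^ k = g * z ^ k * g⁻¹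
    rw [h2.eq]; group⟩ (by
    rintro _ ⟨k, rfl⟩ _ ⟨l, rfl⟩
    exact ((Commute.refl z).zpow_zpow k l).eq)
  exact hz (Subgroup.zpowers_eq_bot.1 h1)

theorem NoAb.fused (h : NoAb G) (T : Sylow 2 G) {z : G} (hz : orderOf z = 2)
    (hzT : z ∈ (T : Subgroup G)) : ∃ g : G, g * z * g⁻¹ ∈ (T : Subgroup G) ∧ g * z * g⁻¹ ≠ z := by
  by_contra hcon
  push Not at hcon
  obtain ⟨N, hN, hodd, hN2⟩ := Cfsg.Agent.S0215.result T z hz hzT hcon
  have h1 := h.odd hN hodd
  obtain ⟨g, hg⟩ := h.not_central (z := z) (by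
    rintro rfl; rw [orderOf_one] at hz; exact absurd hz (by norm_num))
  have h2 := hN2 g
  rw [h1, mem_bot] at h2
  apply hg
  have : z * g * z⁻¹ * g⁻¹ * (g * z) = g * z := by rw [h2, one_mul]
  rw [← this]; group

theorem NoAb.burnside (h : NoAb G) [Nontrivial G] (T : Sylow 2 G) :
    ∃ n ∈ normalizer ((T : Subgroup G) : Set G), ∃ t ∈ (T : Subgroup G), n * t ≠ t * n := by
  by_contra hcon
  push Not at hcon
  have hle : normalizer ((T : Subgroup G) : Set G) ≤ centralizer ((T : Subgroup G) : Set G) := by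
    intro n hn
    rw [mem_centralizer_iff]
    intro t ht
    exact (hcon n hn t ht).symm
  have h1 := MonoidHom.ker_transferSylow_isComplement' T hle
  have h2 := MonoidHom.not_dvd_card_ker_transferSylow T hle
  have h3 := h.odd (N := (MonoidHom.transferSylow T hle).ker) inferInstance (by
    rw [← Nat.not_even_iff_odd]
    intro h4
    exact h2 h4.two_dvd)
  rw [h3] at h1
  have h4 : (T : Subgroup G) = ⊤ := Subgroup.isComplement'_bot_left.1 h1
  have h5 : IsPGroup 2 G := by
    have := T.2
    rw [h4] at this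
    exact this.of_equiv Subgroup.topEquiv
  have h6 : Group.IsNilpotent G := h5.isNilpotent
  exact h.not_solvable inferInstance

end NoAb

section inv

variable {G : Type u} [Group G] [Finite G] {X : G → Subgroup G}

omit [Finite G] in
theorem ne_one {z : G} (hz : orderOf z = 2) : z ≠ 1 := by
  rintro rfl; rw [orderOf_one] at hz; exact absurd hz (by norm_num)

omit [Finite G] in
theorem sq {z : G} (hz : orderOf z = 2) : z * z = 1 := by
  have := pow_orderOf_eq_one z
  rwa [hz, pow_two] at this

omit [Finite G] in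
theorem orderOf_conj (g z : G) : orderOf (g * z * g⁻¹) = orderOf z := by
  have := orderOf_injective (MulAut.conj g).toMonoidHom (MulAut.conj g).injective z
  simpa using this

/-- an element commuting with an involution `z` but outside its component is an involution
inverting the component -/
theorem inv_of_comm (h : NP X) {z c : G} (hz : orderOf z = 2) (hc : c * z = z * c)
    (hcX : c ∉ X z) : orderOf c = 2 ∧ ∀ x ∈ X z, c * x * c⁻¹ = x⁻¹ := by
  have hc1 : c ≠ 1 := by rintro rfl; exact hcX (one_mem _)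
  have hne : X c ≠ X z := fun h1 => hcX (h1 ▸ h.mem c)
  obtain ⟨p, -, h1, h2⟩ := h.F0 hc1 (ne_one hz) hc hne
  have hco : orderOf c = 2 := by rw [h1, ← h2, hz]
  refine ⟨hco, fun x hx => ?_⟩
  have hci : c⁻¹ = c := inv_eq_of_mul_eq_one_left (sq hco)
  have h3 : c * x * c⁻¹ ∈ X z := h.conj_mem_of_commute hc hx
  have h4 : c * x ∉ X z := by
    intro h5
    have := mul_mem h5 (inv_mem hx)
    rw [mul_inv_cancel_right] at this
    exact hcX this
  have h5 : (c * x) ^ 2 ∈ X z := by
    have : (c * x) ^ 2 = (c * x * c⁻¹) * x := by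
      rw [hci, pow_two]; group
    rw [this]
    exact mul_mem h3 hx
  have h6 := h.pow_eq_one h4 h5
  have h7 : (c * x * c⁻¹) * x = 1 := by
    rw [hci, ← h6, pow_two]; group
  exact eq_inv_of_mul_eq_one_left h7

/-- if `C(z)` is not contained in the component of `z`, the component is abelian. -/
theorem comm_of_comm (h : NP X) {z c : G} (hz : orderOf z = 2) (hc : c * z = z * c)
    (hcX : c ∉ X z) : ∀ x ∈ X z, ∀ y ∈ X z, x * y = y * x := by
  obtain ⟨-, h1⟩ := inv_of_comm h hz hc hcX
  intro x hx y hy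
  have h2 := h1 (x * y) (mul_mem hx hy)
  have h3 : c * (x * y) * c⁻¹ = (c * x * c⁻¹) * (c * y * c⁻¹) := by group
  rw [h3, h1 x hx, h1 y hy] at h2
  have h4 := congrArg (fun w => w⁻¹) h2
  simpa using h4.symm

end inv

end Cfsg.Agent.Lib.NPartB
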