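import Cfsg.Agent.Lib.NPartR
import Cfsg.Agent.Lib.SylowRel

/-!
# Strongly embedded normalizers of TI subgroups `X = C(v)`: concrete form (for S4248)
-/

set_option autoImplicit false

namespace Cfsg.Agent.Lib.NPartR

open MulAction InvAct Subgroup SylowRel

variable {G : Type*} [Group G]

/-- the family of conjugates of `X` indexed by the cosets of its normalizer -/
noncomputable def fam (X : Subgroup G) (a : G ⧸ normalizer (X : Set G)) : Subgroup G :=
  cj a.out X

theorem mem_fam {X : Subgroup G} {g x : G} :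
    x ∈ fam X (QuotientGroup.mk g) ↔ g⁻¹ * x * g ∈ X := by
  obtain ⟨n, hn⟩ := QuotientGroup.mk_out_eq_mul (normalizer (X : Set G)) g
  rw [fam, hn, mem_cj]
  have h1 := Subgroup.mem_normalizer_iff.1 (inv_mem n.2) (g⁻¹ * x * g)
  rw [h1]
  have h2 : (g * (n : G))⁻¹ * x * (g * n) = (n : G)⁻¹ * (g⁻¹ * x * g) * ((n : G)⁻¹)⁻¹ := by group
  rw [h2]

variable [Finite G]

theorem stronglyEmbedded {X : Subgroup G} (hN : normalizer (X : Set G) ≠ ⊤)
    (hti : ∀ g, g ∉ normalizer (X : Set G) → X ⊓ cj g X = ⊥)
    (hinv : ∀ v ∈ normalizer (X : Set G), orderOf v = 2 → v ∈ X)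
    (hex : ∃ v ∈ X, orderOf v = 2) : Cfsg.IsStronglyEmbedded (normalizer (X : Set G)) := by
  obtain ⟨v, hv, hvo⟩ := hex
  refine StrongEmbPt.of_fix hN ?_ ?_
  · have h1 : orderOf (⟨v, Subgroup.le_normalizer hv⟩ : normalizer (X : Set G)) ∣ _ :=
      orderOf_dvd_natCard _
    rw [Subgroup.orderOf_mk, hvo] at h1
    exact even_iff_two_dvd.2 h1
  · intro x g hx hxN hg
    by_contra hgN
    have h1 : g * x * g⁻¹ ∈ X := by
      apply hinv _ hg
      have := orderOf_injective (MulAut.conj g).toMonoidHom (MulAut.conj g).injective x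
      rw [← hx]
      simpa using this
    have h2 : g * x * g⁻¹ ∈ (X ⊓ cj g X : Subgroup G) := ⟨h1, conj_mem_cj (hinv x hxN hx)⟩
    rw [hti g hgN, Subgroup.mem_bot] at h2
    have h3 : x = 1 := by
      have := congrArg (fun y => g⁻¹ * y * g) h2
      simpa [mul_assoc] using this
    rw [h3, orderOf_one] at hx
    exact absurd hx (by norm_num)

theorem rf {X : Subgroup G} (hN : normalizer (X : Set G) ≠ ⊤)
    (hti : ∀ g, g ∉ normalizer (X : Set G) → X ⊓ cj g X = ⊥)
    (hinv : ∀ v ∈ normalizer (X : Set G), orderOf v = 2 → v ∈ X)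
    (hcen : ∀ v ∈ X, orderOf v = 2 → centralizer ({v} : Set G) = X)
    (hex : ∃ v ∈ X, orderOf v = 2) : RF (fam X) := by
  have hse := stronglyEmbedded hN hti hinv hex
  constructor
  · intro g a x
    induction a using QuotientGroup.induction_on with
    | H k =>
    intro hx
    rw [mem_fam] at hx
    have h1 : g • (QuotientGroup.mk k : G ⧸ normalizer (X : Set G)) = QuotientGroup.mk (g * k) := rfl
    rw [h1, mem_fam]
    have h2 : (g * k)⁻¹ * (g * x * g⁻¹) * (g * k) = k⁻¹ * x * k := by group
    rwa [h2]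
  · intro a x
    induction a using QuotientGroup.induction_on with
    | H k =>
    intro hx
    rw [mem_fam] at hx
    rw [StrongEmbPt.smul_mk_eq_iff]
    exact Subgroup.le_normalizer hx
  · intro a b x
    induction a using QuotientGroup.induction_on with
    | H k =>
    induction b using QuotientGroup.induction_on with
    | H l =>
    intro h1 h2 hx
    rw [mem_fam] at h1 h2
    rw [QuotientGroup.eq]
    by_contra hne
    have h3 : k⁻¹ * x * k ∈ (X ⊓ cj (k⁻¹ * l) X : Subgroup G) := by
      refine ⟨h1, mem_cj.2 ?_⟩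
      have h4 : (k⁻¹ * l)⁻¹ * (k⁻¹ * x * k) * (k⁻¹ * l) = l⁻¹ * x * l := by group
      rwa [h4]
    rw [hti _ hne, Subgroup.mem_bot] at h3
    apply hx
    have := congrArg (fun y => k * y * k⁻¹) h3
    simpa [mul_assoc] using this
  · exact StrongEmbPt.uniqueFix hse
  · intro v a
    induction a using QuotientGroup.induction_on with
    | H k =>
    intro hv hfix
    rw [StrongEmbPt.smul_mk_eq_iff] at hfix
    rw [mem_fam]
    apply hinv _ hfix
    have := orderOf_injective (MulAut.conj k⁻¹).toMonoidHom (MulAut.conj k⁻¹).injective v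
    rw [← hv]
    simpa using this
  · intro v a c
    induction a using QuotientGroup.induction_on with
    | H k =>
    intro hv hfix
    rw [StrongEmbPt.smul_mk_eq_iff] at hfix
    have ho : orderOf (k⁻¹ * v * k) = 2 := by
      have := orderOf_injective (MulAut.conj k⁻¹).toMonoidHom (MulAut.conj k⁻¹).injective v
      rw [← hv]
      simpa using this
    have h1 := hcen _ (hinv _ hfix ho) ho
    rw [mem_fam, ← h1, Subgroup.mem_centralizer_singleton_iff]
    constructor
    · intro h2
      calc k⁻¹ * c * k * (k⁻¹ * v * k) = k⁻¹ * (c * v) * k := by group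
        _ = k⁻¹ * (v * c) * k := by rw [h2]
        _ = k⁻¹ * v * k * (k⁻¹ * c * k) := by group
    · intro h2
      have h3 := congrArg (fun y => k * y * k⁻¹) h2
      simpa [mul_assoc] using h3
  · exact inferInstance
  · intro a
    induction a using QuotientGroup.induction_on with
    | H k =>
    obtain ⟨v, hv, hvo⟩ := hex
    refine ⟨k * v * k⁻¹, ?_, ?_⟩
    · have := orderOf_injective (MulAut.conj k).toMonoidHom (MulAut.conj k).injective v
      rw [← hvo]
      simpa using this
    · rw [StrongEmbPt.smul_mk_eq_iff]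
      apply Subgroup.le_normalizer
      simpa [mul_assoc] using hv

/-- A TI subgroup `X` which is the centralizer of each of its involutions and contains the
involutions of its normalizer `≠ G` contains the centralizers of all its nonidentity elements. -/
theorem cent_le {X : Subgroup G} (hN : normalizer (X : Set G) ≠ ⊤)
    (hti : ∀ g, g ∉ normalizer (X : Set G) → X ⊓ cj g X = ⊥)
    (hinv : ∀ v ∈ normalizer (X : Set G), orderOf v = 2 → v ∈ X)
    (hcen : ∀ v ∈ X, orderOf v = 2 → centralizer ({v} : Set G) = X)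
    (hex : ∃ v ∈ X, orderOf v = 2) {x : G} (hx : x ∈ X) (hx1 : x ≠ 1) :
    centralizer ({x} : Set G) ≤ X := by
  have h := rf hN hti hinv hcen hex
  intro y hy
  replace hy := Subgroup.mem_centralizer_singleton_iff.1 hy
  obtain ⟨g, hg⟩ : ∃ g, g ∉ normalizer (X : Set G) := by
    by_contra hcon
    push Not at hcon
    exact hN (eq_top_iff.2 fun g _ => hcon g)
  have hab : (QuotientGroup.mk 1 : G ⧸ normalizer (X : Set G)) ≠ QuotientGroup.mk g := by
    rw [Ne, QuotientGroup.eq]
    simpa using hg
  have h1 : x ∈ fam X (QuotientGroup.mk 1) := by rw [mem_fam]; simpa using hx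
  have h2 := h.mem_of_comm hab h1 hx1 hy
  rw [mem_fam] at h2
  simpa using h2

end Cfsg.Agent.Lib.NPartR
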