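import Cfsg.Agent.Lib.CNMain
import Cfsg.Agent.Lib.CITSuz
import Cfsg.Agent.Lib.InvAct

set_option autoImplicit false
set_option linter.all false

/-!
# TI subgroups containing their centralizers (helper6): simplicity
-/

namespace Cfsg.Agent.Lib.CIT

open Subgroup SylowRel StrongEmbPt

variable {G : Type*} [Group G] [Finite G]

/-- two involutions, one in `M`, one outside, are conjugate -/
theorem conj_of_se {M : Subgroup G} (hM : Cfsg.IsStronglyEmbedded M) {s u : G} (hs : s ∈ M) (hso : orderOf s = 2)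
    (hu : u ∉ M) (huo : orderOf u = 2) : ∃ g : G, g * s * g⁻¹ = u := by
  rcases Nat.even_or_odd (orderOf (s * u)) with hev | hodd
  · exfalso
    obtain ⟨z, -, hzo, hz1, hz2⟩ := InvAct.exists_central_of_even hso huo hev
    have hzM : z ∈ M := StrongEmbPt.centralizer_le hM hso hs (mem_cent.2 hz1)
    exact hu (StrongEmbPt.centralizer_le hM hzo hzM (mem_cent.2 hz2.symm))
  · obtain ⟨k, hk, -⟩ := InvAct.exists_conj_of_odd hso huo hodd
    exact ⟨_, hk⟩

theorem exists_outside {M : Subgroup G} (hM : Cfsg.IsStronglyEmbedded M) : ∃ u : G, u ∉ M ∧ orderOf u = 2 := by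
  obtain ⟨g, hg⟩ : ∃ g, g ∉ M := by
    by_contra h
    push Not at h
    exact hM.1 (eq_top_iff.2 fun g _ => h g)
  obtain ⟨t, ht, hto⟩ := exists_involution hM.2.1
  refine ⟨g * t * g⁻¹, fun h => ?_, ?_⟩
  · have h1 : g * t * g⁻¹ ∈ (M ⊓ cj g M : Subgroup G) := ⟨h, conj_mem_cj ht⟩
    have h2 := odd_orderOf (hM.2.2 g hg) h1
    have h3 : orderOf (g * t * g⁻¹) = orderOf t := by
      have := orderOf_injective (MulAut.conj g).toMonoidHom (MulAut.conj g).injective t
      simpa using this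
    rw [h3, hto] at h2
    exact absurd h2 (by decide)
  · have := orderOf_injective (MulAut.conj g).toMonoidHom (MulAut.conj g).injective t
    rw [← hto]
    simpa using this

/-- a normal subgroup of even order contains all involutions -/
theorem all_inv {M : Subgroup G} (hM : Cfsg.IsStronglyEmbedded M) {N : Subgroup G} (hN : N.Normal)
    (hev : Even (Nat.card N)) (t : G) (ht : orderOf t = 2) : t ∈ N := by
  obtain ⟨s, hs, hso⟩ := exists_involution hev
  obtain ⟨u, hu, huo⟩ := exists_outside hM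
  obtain ⟨m, hm, hmo⟩ := exists_involution hM.2.1
  have hcj : ∀ a g : G, g * a * g⁻¹ ∈ N ↔ a ∈ N := by
    intro a g
    constructor
    · intro h'
      have := hN.conj_mem _ h' g⁻¹
      have h2 : g⁻¹ * (g * a * g⁻¹) * g⁻¹⁻¹ = a := by group
      rwa [h2] at this
    · intro h'; exact hN.conj_mem _ h' g
  have key : ∀ a b : G, orderOf a = 2 → orderOf b = 2 → a ∈ M → b ∉ M → (b ∈ N ↔ a ∈ N) := by
    intro a b ha hb haM hbM
    obtain ⟨g, hg⟩ := conj_of_se hM haM ha hbM hb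
    rw [← hg]; exact hcj a g
  have hmN : m ∈ N := by
    by_cases hsM : s ∈ M
    · exact (key m u hmo huo hm hu).1 ((key s u hso huo hsM hu).2 hs)
    · exact (key m s hmo hso hm hsM).1 hs
  have huN : u ∈ N := (key m u hmo huo hm hu).2 hmN
  by_cases htM : t ∈ M
  · exact (key t u ht huo htM hu).1 huN
  · exact (key m t hmo ht hm htM).2 hmN

theorem odd_of_not_even {N : Subgroup G} (h : ¬ Even (Nat.card N)) : Group.IsSolvable N :=
  Cfsg.Agent.S0205.result (Nat.not_even_iff_odd.1 h)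

theorem NTI.n_ne_one' {M H : Subgroup G} (h : NTI M H) (hns : ¬ Group.IsSolvable G)
    (hsol : ∀ N : Subgroup G, N.Normal → Group.IsSolvable N → N = ⊥) {n : ℕ} (hn : NData M H n) : n ≠ 1 := by
  rintro rfl
  have hf := h.frob hn
  obtain ⟨N, -, hN, hc⟩ := FrobThm.exists_kernel hf
  have hidx := StrongEmbPt.odd_index h.se
  have hcN : Nat.card N = M.index := by
    have h1 := hc.card_mul
    have h2 := M.card_mul_index
    rw [← h2, mul_comm (Nat.card M)] at h1
    exact Nat.eq_of_mul_eq_mul_right Nat.card_pos h1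
  have hNs : Group.IsSolvable N := Cfsg.Agent.S0205.result (by rw [hcN]; exact hidx)
  have hNb := hsol N hN hNs
  rw [hNb, Subgroup.card_bot] at hcN
  exact h.ne_top (Subgroup.index_eq_one.1 hcN.symm)

/-- **simplicity** -/
theorem NTI.simple {M H : Subgroup G} (h : NTI M H) (hns : ¬ Group.IsSolvable G)
    (hsol : ∀ N : Subgroup G, N.Normal → Group.IsSolvable N → N = ⊥) : IsSimpleGroup G := by
  classical
  have hSE := h.se
  obtain ⟨n, hn⟩ := h.nData
  have hn1 := h.n_ne_one' hns hsol hn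
  have hz := h.nZ hn hn1
  obtain ⟨u, huM, huo⟩ := exists_outside hSE
  set D : Subgroup G := M ⊓ cj u M with hD
  have hui := inv_eq_self huo
  have huu := mul_self huo
  -- `D` is inverted by `u`
  have hDn : Nat.card D = n := by
    obtain ⟨v, -, -, h2, -⟩ := hn.swap u huM
    exact h2
  haveI : Nontrivial G := by
    refine ⟨⟨u, 1, ?_⟩⟩
    rintro rfl
    exact huM M.one_mem
  have hDH : D ⊓ H = ⊥ := h.inf_bot huM huo
  have hcM : Nat.card M = Nat.card H * n := by
    have h1 := card_mul_rel h.le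
    rw [hn.relIndex] at h1
    exact h1.symm
  have hMDH : M = D ⊔ H := by
    apply le_antisymm _ (sup_le inf_le_left h.le)
    have hle : D ⊔ H ≤ M := sup_le inf_le_left h.le
    have hDN : D ≤ normalizer (H : Set G) := inf_le_left.trans h.nor
    have h1 : Nat.card D * Nat.card H ≤ Nat.card (D ⊔ H : Subgroup G) := by
      have hinj : Function.Injective (fun x : D × H => (⟨(x.1 : G) * x.2, (D ⊔ H).mul_mem
          (mem_sup_left x.1.2) (mem_sup_right x.2.2)⟩ : (D ⊔ H : Subgroup G))) := by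
        rintro ⟨a, b⟩ ⟨c, d⟩ hab
        have h2 : (a : G) * b = c * d := congrArg Subtype.val hab
        have h3 : (c : G)⁻¹ * a = d * (b : G)⁻¹ := by
          rw [inv_mul_eq_iff_eq_mul, ← mul_assoc, eq_mul_inv_iff_mul_eq, h2]
        have h4 : (c : G)⁻¹ * a ∈ (D ⊓ H : Subgroup G) :=
          ⟨D.mul_mem (D.inv_mem c.2) a.2, by rw [h3]; exact H.mul_mem d.2 (H.inv_mem b.2)⟩
        rw [hDH, mem_bot] at h4
        have h5 : (a : G) = c := (inv_mul_eq_one.1 h4).symm
        have h6 : (b : G) = d := by rw [h5] at h2; exact mul_left_cancel h2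
        exact Prod.ext (Subtype.ext h5) (Subtype.ext h6)
      have := Nat.card_le_card_of_injective _ hinj
      rwa [Nat.card_prod] at this
    have h2 : D ⊔ H = M := eq_of_le_of_card_ge hle (by rw [hcM, mul_comm, ← hDn]; exact h1)
    exact h2.symm.le
  refine ⟨fun N hN => ?_⟩
  by_cases hNs : Group.IsSolvable N
  · exact Or.inl (hsol N hN hNs)
  right
  have hev : Even (Nat.card N) := by
    by_contra h1
    exact hNs (odd_of_not_even h1)
  have hinv := all_inv hSE hN hev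
  have huN : u ∈ N := hinv u huo
  have hDN : D ≤ N := by
    intro d hd
    have h0 : cj u D = D := by
      rw [hD, cj_inf, ← cj_mul, huu, cj_one, inf_comm]
    -- `u d u⁻¹ = d⁻¹`
    obtain ⟨v, hvo, hv1, hv2, hv3⟩ := hn.swap u huM
    have hvN : v ∈ N := hinv v hvo
    have h1 := hv3 d hd
    have h2 : d * d ∈ N := by
      have h3 : v * d * v⁻¹ * d⁻¹ ∈ N := by
        have : v * d * v⁻¹ * d⁻¹ = v * (d * v⁻¹ * d⁻¹) := by group
        rw [this]
        exact N.mul_mem hvN (hN.conj_mem _ (N.inv_mem hvN) d)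
      rw [h1] at h3
      have h4 := N.inv_mem h3
      simpa using h4
    have hodd := odd_orderOf (by rw [hDn]; exact hn.odd : Odd (Nat.card D)) hd
    obtain ⟨c, hc⟩ := hodd
    have h3 : d = (d * d) ^ (c + 1) := by
      have h4 : d ^ (2 * c + 1) = 1 := by rw [← hc, pow_orderOf_eq_one]
      calc d = d ^ (2 * c + 1) * d := by rw [h4, one_mul]
        _ = (d * d) ^ (c + 1) := by rw [← pow_two, ← pow_mul, ← pow_succ]; congr 1
    rw [h3]; exact N.pow_mem h2 _
  have hHN : H ≤ N := by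
    have hD1 : D ≠ ⊥ := by
      intro h1; rw [h1, Subgroup.card_bot] at hDn; exact hn1 hDn.symm
    obtain ⟨d, hd, hd1⟩ := exists_mem_ne_one hD1
    have hdH : ∀ x ∈ H, d * x * d⁻¹ ∈ H := fun x hx => (mem_normalizer_iff.1 (h.nor hd.1) x).1 hx
    have hinj : Function.Injective (fun x : H => (⟨(x : G)⁻¹ * (d * x * d⁻¹), H.mul_mem (H.inv_mem x.2) (hdH x x.2)⟩ : H)) := by
      intro a b hab
      have h1 : (a : G)⁻¹ * (d * a * d⁻¹) = (b : G)⁻¹ * (d * b * d⁻¹) := congrArg Subtype.val hab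
      have h2 : d * ((a : G) * (b : G)⁻¹) * d⁻¹ = (a : G) * (b : G)⁻¹ := by
        calc d * ((a : G) * (b : G)⁻¹) * d⁻¹ = a * ((a : G)⁻¹ * (d * a * d⁻¹)) * (d * b * d⁻¹)⁻¹ := by group
          _ = a * ((b : G)⁻¹ * (d * b * d⁻¹)) * (d * b * d⁻¹)⁻¹ := by rw [h1]
          _ = _ := by group
      by_contra hne
      have h3 : (a : G) * (b : G)⁻¹ ≠ 1 := by
        intro h4; exact hne (Subtype.ext (mul_inv_eq_one.1 h4))
      have h4 : d ∈ H := h.cent _ (H.mul_mem a.2 (H.inv_mem b.2)) h3 (mem_cent.2 (by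
        rwa [mul_inv_eq_iff_eq_mul] at h2))
      have h5 : d ∈ (D ⊓ H : Subgroup G) := ⟨hd, h4⟩
      rw [hDH, mem_bot] at h5
      exact hd1 h5
    have hsurj := Finite.surjective_of_injective hinj
    intro y hy
    obtain ⟨x, hx⟩ := hsurj ⟨y, hy⟩
    have h1 : (x : G)⁻¹ * (d * x * d⁻¹) = y := congrArg Subtype.val hx
    rw [← h1]
    have h2 : (x : G)⁻¹ * (d * x * d⁻¹) = ((x : G)⁻¹ * d * (x : G)⁻¹⁻¹) * d⁻¹ := by group
    rw [h2]
    exact N.mul_mem (hN.conj_mem _ (hDN hd) _) (N.inv_mem (hDN hd))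
  have hMN : M ≤ N := by rw [hMDH]; exact sup_le hDN hHN
  rw [eq_top_iff]
  intro g _
  by_cases hg : g ∈ M
  · exact hMN hg
  · obtain ⟨s, hs, hsg⟩ := hz.reg 1 (QuotientGroup.mk u) (QuotientGroup.mk g)
      (by rw [Ne, QuotientGroup.eq]; intro h; apply huM; simpa using M.inv_mem h)
      (by rw [Ne, QuotientGroup.eq]; intro h; apply hg; simpa using M.inv_mem h)
    rw [cj_one] at hs
    have h1 : (s * u)⁻¹ * g ∈ M := QuotientGroup.eq.1 hsg
    have h2 : g = s * u * ((s * u)⁻¹ * g) := by group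
    rw [h2]
    exact N.mul_mem (N.mul_mem (hHN hs) huN) (hMN h1)

theorem NTI.isSyl {M H : Subgroup G} (h : NTI M H) (hH : IsPGroup 2 H) : ∃ S : Sylow 2 G, (S : Subgroup G) = H := by
  haveI : Fact (Nat.Prime 2) := ⟨Nat.prime_two⟩
  obtain ⟨S, hS⟩ := hH.exists_le_sylow
  refine ⟨S, ?_⟩
  have h1 : H.relIndex (S : Subgroup G) ∣ H.index := relIndex_dvd_index_of_le hS
  have h2 : H.index = H.relIndex M * M.index := (relIndex_mul_index h.le).symm
  have h3 : Odd H.index := by rw [h2]; exact h.odd_index.mul (StrongEmbPt.odd_index h.se)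
  have h4 := h3.of_dvd_nat h1
  obtain ⟨k, hk⟩ := IsPGroup.iff_card.1 S.isPGroup'
  have h5 : H.relIndex (S : Subgroup G) ∣ 2 ^ k := by
    rw [← hk]; exact Dvd.intro_left _ (card_mul_rel hS)
  obtain ⟨j, -, hj⟩ := (Nat.dvd_prime_pow Nat.prime_two).1 h5
  rw [hj] at h4
  have hj0 : j = 0 := by
    by_contra h0
    exact (Nat.not_odd_iff_even.2 ((Nat.even_pow' h0).2 even_two)) h4
  rw [hj0, pow_zero, relIndex_eq_one] at hj
  exact le_antisymm hj hS

theorem NTI.cit {M H : Subgroup G} (h : NTI M H) (hH : IsPGroup 2 H) : IsCIT G := by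
  haveI : Fact (Nat.Prime 2) := ⟨Nat.prime_two⟩
  obtain ⟨S, hS⟩ := h.isSyl hH
  intro t ht
  have h1 : IsPGroup 2 (zpowers t) := isPGroup_zpowers (k := 1) (by rw [pow_one, ← ht, pow_orderOf_eq_one])
  obtain ⟨T, hT⟩ := h1.exists_le_sylow
  obtain ⟨g, hg⟩ := MulAction.exists_smul_eq G S T
  have h2 : (T : Subgroup G) = cj g H := by
    rw [← hg, ← hS]; rfl
  have h3 : t ∈ cj g H := by rw [← h2]; exact hT (mem_zpowers t)
  refine (isPGroup_cj (g := g) hH).to_le ?_
  have h4 : g⁻¹ * t * g ∈ H := mem_cj.1 h3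
  have h5 : g⁻¹ * t * g ≠ 1 := by
    intro h5
    have : t = g * (g⁻¹ * t * g) * g⁻¹ := by group
    rw [h5, mul_one, mul_inv_cancel] at this
    rw [this, orderOf_one] at ht; omega
  intro y hy
  rw [mem_cent] at hy
  rw [mem_cj]
  apply h.cent _ h4 h5
  rw [mem_cent]
  calc g⁻¹ * y * g * (g⁻¹ * t * g) = g⁻¹ * (y * t) * g := by group
    _ = g⁻¹ * (t * y) * g := by rw [hy]
    _ = _ := by group

theorem NTI.ti2 {M H : Subgroup G} (h : NTI M H) (hH : IsPGroup 2 H) : TI2 G := by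
  haveI : Fact (Nat.Prime 2) := ⟨Nat.prime_two⟩
  obtain ⟨S, hS⟩ := h.isSyl hH
  intro P Q hP hQ hPQ
  obtain ⟨P', hP'⟩ := hP.exists_sylow_top
  obtain ⟨Q', hQ'⟩ := hQ.exists_sylow_top
  obtain ⟨a, ha⟩ := MulAction.exists_smul_eq G S P'
  obtain ⟨b, hb⟩ := MulAction.exists_smul_eq G S Q'
  have hPa : P = cj a H := by rw [← hP', ← ha, ← hS]; rfl
  have hQb : Q = cj b H := by rw [← hQ', ← hb, ← hS]; rfl
  rw [hPa, hQb]
  have h1 : cj a H ⊓ cj b H = cj a (H ⊓ cj (a⁻¹ * b) H) := by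
    rw [cj_inf, ← cj_mul]; congr 2; group
  rw [h1]
  have h2 : a⁻¹ * b ∉ M := by
    intro h2
    apply hPQ
    rw [hPa, hQb]
    have h3 := mem_normalizer_iff_cj.1 (h.nor h2)
    have h4 : cj b H = cj a (cj (a⁻¹ * b) H) := by rw [← cj_mul]; congr 1; group
    rw [h4, h3]
  rw [h.ti _ h2, cj_bot]

/-- **groups with a nilpotent TI subgroup of even order containing its centralizers** -/
theorem NTI.main {M H : Subgroup G} (h : NTI M H) (hH : Group.IsNilpotent H) (hns : ¬ Group.IsSolvable G)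
    (hsol : ∀ N : Subgroup G, N.Normal → Group.IsSolvable N → N = ⊥) :
    IsSimpleGroup G ∧ IsPGroup 2 H ∧ IsCIT G ∧ TI2 G ∧
    ((∃ (F : Type) (_ : Field F) (_ : Fintype F), CharP F 2 ∧ 4 ≤ Fintype.card F ∧
      Nonempty (G ≃* Matrix.ProjectiveSpecialLinearGroup (Fin 2) F)) ∨ Cfsg.Lie.IsoSuzuki G) := by
  haveI hs := h.simple hns hsol
  have h2 := h.isPGroup hH
  exact ⟨hs, h2, h.cit h2, h.ti2 h2, ti_suz (not_comm_of_not_solvable hns) (h.cit h2) (h.ti2 h2)⟩

end Cfsg.Agent.Lib.CIT
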