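import Cfsg.Agent.Lib.NPartB
import Cfsg.Agent.Lib.NPartR2
import Cfsg.Agent.Lib.NTISimple
import Cfsg.Agent.Lib.Hughes2
import Cfsg.Agent.Lib.CN2

/-!
# Partitioned groups: a Sylow 2-subgroup inside a component (for S4248)
-/

set_option autoImplicit false

namespace Cfsg.Agent.Lib.NPartB

open Subgroup SylowRel

universe u

variable {G : Type u} [Group G] [Finite G] {X : G → Subgroup G}

/-- a component different from its normalizer is nilpotent -/
theorem nilp_of_normalizer (h : NP X) {g : G} (hN : normalizer (X g : Set G) ≠ X g) :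
    Group.IsNilpotent (X g) := by
  classical
  set N := normalizer (X g : Set G) with hNdef
  have hle : X g ≤ N := Subgroup.le_normalizer
  let H' : Subgroup N := (X g).subgroupOf N
  have hH'n : H'.Normal := Subgroup.normal_in_normalizer
  have hcard : Nat.card (N ⧸ H') ≠ 1 := by
    intro h1
    apply hN
    rw [← Subgroup.index_eq_card] at h1
    have h2 : H' = ⊤ := Subgroup.index_eq_one.1 h1
    exact le_antisymm (Subgroup.subgroupOf_eq_top.1 h2) hle
  obtain ⟨p, hp, hpd⟩ := Nat.exists_prime_and_dvd hcard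
  have : Fact p.Prime := ⟨hp⟩
  obtain ⟨q, hq⟩ := exists_prime_orderOf_dvd_card' (G := N ⧸ H') p hpd
  let K' : Subgroup N := (zpowers q).comap (QuotientGroup.mk' H')
  have hHK : H' ≤ K' := by
    intro x hx
    show (QuotientGroup.mk' H') x ∈ zpowers q
    have : (QuotientGroup.mk' H') x = 1 := (QuotientGroup.eq_one_iff x).2 hx
    rw [this]; exact one_mem _
  let H'' : Subgroup K' := H'.subgroupOf K'
  have hH''n : H''.Normal := by
    constructor
    intro x hx y
    exact hH'n.conj_mem _ hx _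
  have hidx : H''.index = p := by
    have h1 : H''.index = H'.relIndex K' := rfl
    have h2 : H' = (⊥ : Subgroup (N ⧸ H')).comap (QuotientGroup.mk' H') := by
      rw [MonoidHom.comap_bot, QuotientGroup.ker_mk']
    have h3 : K'.map (QuotientGroup.mk' H') = zpowers q :=
      Subgroup.map_comap_eq_self_of_surjective (QuotientGroup.mk'_surjective H') _
    rw [h1]
    conv_lhs => rw [h2]
    rw [Subgroup.relIndex_comap, h3, Subgroup.relIndex_bot_left, Nat.card_zpowers, hq]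
  have hout : ∀ y : K', y ∉ H'' → y ^ p = 1 := by
    intro y hy
    have h1 : ((y : N) : G) ∉ X g := fun h2 => hy h2
    have h2 : ((y : N) : G) ^ p ∈ X g := by
      have h3 : (QuotientGroup.mk' H') (y : N) ∈ zpowers q := y.2
      have h4 : ((QuotientGroup.mk' H') (y : N)) ^ p = 1 := by
        obtain ⟨k, hk⟩ := h3
        rw [← hk]
        show (q ^ k) ^ p = 1
        rw [← zpow_natCast, ← zpow_mul, mul_comm, zpow_mul, zpow_natCast, ← hq, pow_orderOf_eq_one,
          one_zpow]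
      rw [← map_pow] at h4
      have h5 : (y : N) ^ p ∈ H' := (QuotientGroup.eq_one_iff _).1 h4
      exact h5
    have h3 := h.pow_eq_one h1 h2
    apply Subtype.ext
    apply Subtype.ext
    exact h3
  have hnil : Group.IsNilpotent H'' := Lib.Hughes.kegel H'' hidx hout
  have e1 : H'' ≃* H' := Subgroup.subgroupOfEquivOfLe hHK
  have e2 : H' ≃* X g := Subgroup.subgroupOfEquivOfLe hle
  have : Group.IsNilpotent H' := Group.nilpotent_of_mulEquiv e1
  exact Group.nilpotent_of_mulEquiv e2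

/-- the two families of Lemma R -/
def PS (G : Type u) [Group G] : Prop :=
  (∃ (F : Type) (_ : Field F) (_ : Fintype F), 4 ≤ Fintype.card F ∧
      Nonempty (G ≃* Matrix.ProjectiveSpecialLinearGroup (Fin 2) F)) ∨ Cfsg.Lie.IsoSuzuki G

theorem ps_of_nti (hab : NoAb G) [Nontrivial G] {M H : Subgroup G} (hN : CIT.NTI M H)
    (hnil : Group.IsNilpotent H) : PS G := by
  obtain ⟨-, -, -, -, h1⟩ := hN.main hnil hab.not_solvable (fun N hN hs => hab.solv hN hs)
  rcases h1 with ⟨F, i1, i2, -, h2, h3⟩ | h1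
  · exact Or.inl ⟨F, i1, i2, h2, h3⟩
  · exact Or.inr h1

theorem exists_inv_mem {T : Sylow 2 G} (hev : Even (Nat.card G)) :
    ∃ z ∈ (T : Subgroup G), orderOf z = 2 := by
  have h1 : 2 ∣ Nat.card (T : Subgroup G) := T.dvd_card_of_dvd_card hev.two_dvd
  obtain ⟨z, hz⟩ := exists_prime_orderOf_dvd_card' (G := (T : Subgroup G)) 2 h1
  exact ⟨z, z.2, by rw [Subgroup.orderOf_coe]; exact hz⟩

/-- case (I) -/
theorem caseI (h : NP X) (hab : NoAb G) [Nontrivial G] (T : Sylow 2 G) {g : G}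
    (hT : (T : Subgroup G) ≤ X g) :
    (∃ z : G, z ≠ 1 ∧ (X z).Normal) ∨ (∃ H : Subgroup G, Cfsg.IsFrobeniusComplement H) ∨ PS G := by
  obtain ⟨z₁, hz₁T, hz₁⟩ := exists_inv_mem (T := T) hab.even
  have hg : X z₁ = X g := h.eq (ne_one hz₁) (hT hz₁T)
  rw [← hg] at hT
  by_cases hnor : (X z₁).Normal
  · exact Or.inl ⟨z₁, ne_one hz₁, hnor⟩
  right
  by_cases hself : normalizer (X z₁ : Set G) = X z₁
  · left
    refine ⟨X z₁, ?_, h.ne_top _, ?_⟩
    · intro h1
      have := h.mem z₁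
      rw [h1, mem_bot] at this
      exact ne_one hz₁ this
    · intro x hx
      rw [← hself] at hx
      exact h.ti hx
  right
  have hnil := nilp_of_normalizer h hself
  set N := normalizer (X z₁ : Set G) with hNdef
  have hle : X z₁ ≤ N := Subgroup.le_normalizer
  have hNtop : N ≠ ⊤ := by
    intro h1
    exact hnor (Subgroup.normalizer_eq_top_iff.1 h1)
  have hidx : Odd (X z₁).index := by
    rw [← Nat.not_even_iff_odd]
    intro h1
    exact T.not_dvd_index (h1.two_dvd.trans (Subgroup.index_dvd_of_le hT))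
  have hrel : Odd ((X z₁).relIndex N) :=
    Odd.of_dvd_nat hidx (Subgroup.relIndex_dvd_index_of_le hle)
  have hinv : ∀ v ∈ N, orderOf v = 2 → v ∈ X z₁ := by
    intro v hv hvo
    exact CIT.mem_of_odd_relIndex hle le_rfl hrel hv (k := 1)
      (by rw [pow_one, ← hvo, pow_orderOf_eq_one])
  have hcen1 : ∀ v ∈ X z₁, orderOf v = 2 → centralizer ({v} : Set G) ≤ X z₁ := by
    intro v hv hvo c hc
    replace hc := mem_centralizer_singleton_iff.1 hc
    have hvX : X v = X z₁ := h.eq (ne_one hvo) hv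
    by_contra hcX
    rw [← hvX] at hcX
    obtain ⟨hco, -⟩ := inv_of_comm h hvo hc hcX
    have hcN : c ∈ N := by
      rw [hNdef, ← hvX]
      exact h.commute_mem_normalizer hc
    rw [hvX] at hcX
    exact hcX (hinv c hcN hco)
  have hti : ∀ x, x ∉ N → X z₁ ⊓ cj x (X z₁) = ⊥ := fun x hx => h.ti hx
  have hex : ∃ v ∈ X z₁, orderOf v = 2 := ⟨z₁, h.mem _, hz₁⟩
  have hse := NPartR.stronglyEmbedded hNtop hti hinv hex
  have h2d : 2 ∣ Nat.card (X z₁) := by
    have := orderOf_dvd_natCard (⟨z₁, h.mem z₁⟩ : X z₁)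
    rwa [Subgroup.orderOf_mk, hz₁] at this
  obtain ⟨z₀, hz₀, hz₀o, hz₀c⟩ := CN.exists_central_of_dvd hnil h2d
  have hcen : ∀ v ∈ X z₁, orderOf v = 2 → centralizer ({v} : Set G) = X z₁ := by
    intro v hv hvo
    refine le_antisymm (hcen1 v hv hvo) ?_
    -- `v` is conjugate to `z₀`
    obtain ⟨r, hr, hro⟩ := CIT.exists_outside hse
    obtain ⟨a, ha⟩ := CIT.conj_of_se hse (hle hz₀) hz₀o hr hro
    obtain ⟨b, hb⟩ := CIT.conj_of_se hse (hle hv) hvo hr hro
    have h1 : (b⁻¹ * a) * z₀ * (b⁻¹ * a)⁻¹ = v := by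
      calc (b⁻¹ * a) * z₀ * (b⁻¹ * a)⁻¹ = b⁻¹ * (a * z₀ * a⁻¹) * b := by group
        _ = b⁻¹ * (b * v * b⁻¹) * b := by rw [ha, hb]
        _ = v := by group
    have h2 : b⁻¹ * a ∈ N := h.mem_normalizer_of (ne_one hz₀o) hz₀ (by rw [h1]; exact hv)
    intro x hx
    rw [mem_centralizer_singleton_iff, ← h1]
    have h3 : (b⁻¹ * a)⁻¹ * x * (b⁻¹ * a) ∈ X z₁ := by
      have := (Subgroup.mem_normalizer_iff.1 (inv_mem h2) x).1 hx
      simpa using this
    have h4 := hz₀c _ h3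
    calc x * ((b⁻¹ * a) * z₀ * (b⁻¹ * a)⁻¹)
        = (b⁻¹ * a) * (((b⁻¹ * a)⁻¹ * x * (b⁻¹ * a)) * z₀) * (b⁻¹ * a)⁻¹ := by group
      _ = (b⁻¹ * a) * (z₀ * ((b⁻¹ * a)⁻¹ * x * (b⁻¹ * a))) * (b⁻¹ * a)⁻¹ := by rw [h4]
      _ = (b⁻¹ * a) * z₀ * (b⁻¹ * a)⁻¹ * x := by group
  refine ps_of_nti hab (M := N) (H := X z₁) ⟨hle, le_rfl, hti, ?_, hrel, ?_, hNtop⟩ hnil
  · intro x hx hx1
    exact NPartR.cent_le hNtop hti hinv hcen hex hx hx1
  · exact even_iff_two_dvd.2 h2d

end Cfsg.Agent.Lib.NPartB
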