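import Cfsg.Agent.Lib.NPartB2

/-!
# Partitioned groups: no Sylow 2-subgroup inside a component (for S4248)
-/

set_option autoImplicit false

namespace Cfsg.Agent.Lib.NPartB

open Subgroup SylowRel

universe u

variable {G : Type u} [Group G] [Finite G] {X : G → Subgroup G}

theorem fixpt {T Y : Subgroup G} (hT : IsPGroup 2 T)
    (hidx : ∀ c ∈ T, ∀ c' ∈ T, c ∉ Y → c' ∉ Y → c * c' ∈ Y) {t : G} (ht : t ∈ T) (htY : t ∉ Y)
    {y : G} {p : ℕ} (hp : p.Prime) (hp2 : p ≠ 2) (hy : orderOf y = p)
    (hyT : ∀ v, y * v * y⁻¹ ∈ T ↔ v ∈ T) (hyY : ∀ v ∈ T, (y * v * y⁻¹ ∈ Y ↔ v ∈ Y)) :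
    ∃ v ∈ T, v ∉ Y ∧ y * v = v * y := by
  classical
  have : Fact p.Prime := ⟨hp⟩
  have := Fintype.ofFinite G
  let P : G → Prop := fun v => v ∈ T ∧ v ∉ Y
  have hP : ∀ v, P ((MulAut.conj y).toEquiv v) ↔ P v := by
    intro v
    show (y * v * y⁻¹ ∈ T ∧ y * v * y⁻¹ ∉ Y) ↔ (v ∈ T ∧ v ∉ Y)
    rw [hyT]
    constructor
    · rintro ⟨h1, h2⟩
      exact ⟨h1, fun h3 => h2 ((hyY v h1).2 h3)⟩
    · rintro ⟨h1, h2⟩
      exact ⟨h1, fun h3 => h2 ((hyY v h1).1 h3)⟩
  let f : Equiv.Perm G := (MulAut.conj y).toEquiv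
  let σ : Equiv.Perm {v // P v} := Equiv.Perm.subtypePerm f hP
  have hcard : Fintype.card {v // P v} = Nat.card ↥(T ⊓ Y : Subgroup G) := by
    rw [← Nat.card_eq_fintype_card]
    refine Nat.card_congr ⟨fun v => ⟨(v : G) * t, ⟨mul_mem v.2.1 ht, hidx _ v.2.1 _ ht v.2.2 htY⟩⟩,
      fun u => ⟨(u : G) * t⁻¹, ⟨mul_mem u.2.1 (inv_mem ht), fun h1 => htY ?_⟩⟩, ?_, ?_⟩
    · have h2 := mul_mem (inv_mem h1) u.2.2
      simpa using h2
    · intro v; apply Subtype.ext; simp
    · intro v; apply Subtype.ext; simp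
  have hnd : ¬ p ∣ Fintype.card {v // P v} := by
    rw [hcard]
    have h1 : IsPGroup 2 (T ⊓ Y : Subgroup G) := hT.to_le inf_le_left
    obtain ⟨n, hn⟩ := IsPGroup.iff_card.1 h1
    rw [hn]
    intro h2
    exact hp2 ((Nat.prime_dvd_prime_iff_eq hp Nat.prime_two).1 (hp.dvd_of_dvd_pow h2))
  have hfp : f ^ p = 1 := by
    ext v
    have h1 : ∀ n : ℕ, (f ^ n) v = y ^ n * v * (y ^ n)⁻¹ := by
      intro n
      induction n with
      | zero => simp
      | succ n ih =>
        rw [pow_succ', Equiv.Perm.mul_apply, ih]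
        show y * (y ^ n * v * (y ^ n)⁻¹) * y⁻¹ = _
        rw [pow_succ']
        group
    rw [h1, ← hy, pow_orderOf_eq_one]
    simp
  have hσ : σ ^ p ^ 1 = 1 := by
    rw [pow_one]
    apply Equiv.ext
    intro v
    apply Subtype.ext
    rw [Equiv.Perm.subtypePerm_pow]
    show (f ^ p) (v : G) = v
    rw [hfp]
    rfl
  obtain ⟨v, hv⟩ := Equiv.Perm.exists_fixed_point_of_prime hnd hσ
  refine ⟨v, v.2.1, v.2.2, ?_⟩
  have h1 : y * (v : G) * y⁻¹ = v := congrArg Subtype.val hv
  have h2 : y * (v : G) * y⁻¹ * y = v * y := by rw [h1]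
  simpa using h2

/-- the exponent of the centralizer of an involution whose component is elementary abelian -/
theorem sq_of_cent (h : NP X) {z : G} (hz : orderOf z = 2) (h1 : ∀ x ∈ X z, x * x = 1) {c : G}
    (hc : c * z = z * c) : c * c = 1 := by
  by_cases hcX : c ∈ X z
  · exact h1 c hcX
  · exact sq (inv_of_comm h hz hc hcX).1

/-- two elements of `C(z)` outside the component -/
theorem mul_mem_of (h : NP X) {z : G} (hz : orderOf z = 2) (h1 : ∃ x ∈ X z, x * x ≠ 1) {c c' : G}
    (hc : c * z = z * c) (hcX : c ∉ X z) (hc' : c' * z = z * c') (hcX' : c' ∉ X z) :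
    c * c' ∈ X z := by
  by_contra hcon
  obtain ⟨x, hx, hxx⟩ := h1
  have h2 : (c * c') * z = z * (c * c') := by rw [mul_assoc, hc', ← mul_assoc, hc, mul_assoc]
  have h3 := (inv_of_comm h hz h2 hcon).2 x hx
  have h4 := (inv_of_comm h hz hc hcX).2 x⁻¹ (inv_mem hx)
  have h5 := (inv_of_comm h hz hc' hcX').2 x hx
  have h6 : c * c' * x * (c * c')⁻¹ = c * (c' * x * c'⁻¹) * c⁻¹ := by group
  rw [h6, h5, h4, inv_inv] at h3
  apply hxx
  nth_rewrite 1 [h3]
  exact inv_mul_cancel x

omit [Finite G] in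
theorem isPGroup_of_sq {K : Subgroup G} (hK : ∀ c ∈ K, c * c = 1) : IsPGroup 2 K := by
  intro c
  refine ⟨1, ?_⟩
  rw [pow_one, pow_two]
  exact Subtype.ext (hK c c.2)

/-- odd prime order elements in powers of an element not of 2-power order -/
theorem exists_odd_power {n : G} (hn : ¬ ∃ k : ℕ, n ^ 2 ^ k = 1) :
    ∃ (m p : ℕ), p.Prime ∧ p ≠ 2 ∧ orderOf (n ^ m) = p := by
  have hpos : 0 < orderOf n := orderOf_pos n
  obtain ⟨k, r, hr, hk⟩ := Nat.exists_eq_two_pow_mul_odd (n := orderOf n) (by omega)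
  have hr1 : r ≠ 1 := by
    rintro rfl
    apply hn
    refine ⟨k, ?_⟩
    rw [mul_one] at hk
    rw [← hk, pow_orderOf_eq_one]
  obtain ⟨p, hp, hpr⟩ := Nat.exists_prime_and_dvd hr1
  have hpn : p ∣ orderOf n := by rw [hk]; exact hpr.mul_left _
  refine ⟨orderOf n / p, p, hp, ?_, ?_⟩
  · rintro rfl
    exact (Nat.not_even_iff_odd.2 hr) (even_iff_two_dvd.2 hpr)
  · rw [orderOf_pow_of_dvd (Nat.div_pos (Nat.le_of_dvd hpos hpn) hp.pos).ne' (Nat.div_dvd_of_dvd hpn)]
    exact Nat.div_div_self hpn hpos.ne'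

theorem mem_sylow_of_normalizer {T : Sylow 2 G} {n : G}
    (hn : n ∈ normalizer ((T : Subgroup G) : Set G)) {k : ℕ} (hk : n ^ 2 ^ k = 1) :
    n ∈ (T : Subgroup G) := by
  have h1 : ¬ 2 ∣ (T : Subgroup G).relIndex (normalizer ((T : Subgroup G) : Set G)) := by
    intro h1
    exact T.not_dvd_index (h1.trans (Subgroup.relIndex_dvd_index_of_le Subgroup.le_normalizer))
  exact CIT.mem_of_odd_relIndex Subgroup.le_normalizer le_rfl
    (Nat.not_even_iff_odd.1 (fun h2 => h1 h2.two_dvd)) hn hk

omit [Finite G] in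
theorem conj_mem_iff_of_normalizer {T : Subgroup G} {y : G} (hy : y ∈ normalizer (T : Set G)) (v : G) :
    y * v * y⁻¹ ∈ T ↔ v ∈ T := (Subgroup.mem_normalizer_iff.1 hy v).symm

/-- case (II), type β -/
theorem caseBeta (h : NP X) (hab : NoAb G) [Nontrivial G] (T : Sylow 2 G)
    (hT : ∀ g, ¬ (T : Subgroup G) ≤ X g) {z : G} (hz : orderOf z = 2)
    (hzT : z ∈ (T : Subgroup G)) (hTz : ∀ c ∈ (T : Subgroup G), c * z = z * c)
    (hβ : ∀ x ∈ X z, x * x = 1) : PS G := by
  classical
  -- T = C(z)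
  have hgood : ∀ w : G, orderOf w = 2 → (∀ c ∈ (T : Subgroup G), c * w = w * c) →
      (∀ x ∈ X w, x * x = 1) → ∀ c, c * w = w * c → c ∈ (T : Subgroup G) := by
    intro w hw hTw hβw c hc
    have h1 : IsPGroup 2 (centralizer ({w} : Set G)) := isPGroup_of_sq (fun c hc =>
      sq_of_cent h hw hβw (mem_centralizer_singleton_iff.1 hc))
    have h2 : (T : Subgroup G) ≤ centralizer ({w} : Set G) := fun c hc =>
      mem_centralizer_singleton_iff.2 (hTw c hc)
    have h3 := T.3 h1 h2
    rw [← h3]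
    exact mem_centralizer_singleton_iff.2 hc
  have hCz : ∀ c, c * z = z * c → c ∈ (T : Subgroup G) := hgood z hz hTz hβ
  have hTsq : ∀ c ∈ (T : Subgroup G), c * c = 1 := fun c hc => sq_of_cent h hz hβ (hTz c hc)
  have hTab : ∀ c ∈ (T : Subgroup G), ∀ d ∈ (T : Subgroup G), c * d = d * c := by
    intro c hc d hd
    have h1 := hTsq _ (mul_mem hc hd)
    have h2 := hTsq c hc
    have h3 := hTsq d hd
    calc c * d = c * d * ((c * c) * (d * d)) := by rw [h2, h3]; group
      _ = c * d * (c * c * d * d) := by group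
      _ = c * ((d * c) * (c * d)) * d := by group
      _ = c * ((d * c) * (c * d)) * d := rfl
      _ = c * (d * (c * c) * d) * d := by group
      _ = d * c := by
        rw [h2, mul_one, h3, mul_one]
        have h4 : c * d = (c * d)⁻¹ := eq_inv_of_mul_eq_one_left h1
        rw [h4, mul_inv_rev, inv_eq_of_mul_eq_one_left h2, inv_eq_of_mul_eq_one_left h3]
  have hord : ∀ w ∈ (T : Subgroup G), w ≠ 1 → orderOf w = 2 := by
    intro w hw hw1
    exact orderOf_eq_prime (by rw [pow_two]; exact hTsq w hw) hw1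
  by_cases hall : ∀ w ∈ (T : Subgroup G), w ≠ 1 → ∀ c, c * w = w * c → c ∈ (T : Subgroup G)
  · -- NTI
    set N := normalizer ((T : Subgroup G) : Set G) with hNdef
    have hle : (T : Subgroup G) ≤ N := Subgroup.le_normalizer
    refine ps_of_nti hab (M := N) (H := (T : Subgroup G)) ⟨hle, le_rfl, ?_, ?_, ?_, ?_, ?_⟩ ?_
    · intro g hg
      rw [eq_bot_iff]
      intro x hx
      rw [Subgroup.mem_inf, mem_cj] at hx
      obtain ⟨hx1, hx2⟩ := hx
      rw [mem_bot]
      by_contra hx0
      apply hg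
      have hy0 : g⁻¹ * x * g ≠ 1 := by
        intro h1
        apply hx0
        have := congrArg (fun w => g * w * g⁻¹) h1
        simpa [mul_assoc] using this
      rw [hNdef, Subgroup.mem_normalizer_iff]
      intro v
      constructor
      · intro hv
        apply hall x hx1 hx0
        have h1 : v * (g⁻¹ * x * g) = (g⁻¹ * x * g) * v := hTab v hv _ hx2
        calc g * v * g⁻¹ * x = g * (v * (g⁻¹ * x * g)) * g⁻¹ := by group
          _ = g * ((g⁻¹ * x * g) * v) * g⁻¹ := by rw [h1]
          _ = x * (g * v * g⁻¹) := by group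
      · intro hv
        apply hall _ hx2 hy0
        have h1 : (g * v * g⁻¹) * x = x * (g * v * g⁻¹) := hTab _ hv _ hx1
        calc v * (g⁻¹ * x * g) = g⁻¹ * ((g * v * g⁻¹) * x) * g := by group
          _ = g⁻¹ * (x * (g * v * g⁻¹)) * g := by rw [h1]
          _ = g⁻¹ * x * g * v := by group
    · intro x hx hx1 c hc
      exact hall x hx hx1 c (mem_centralizer_singleton_iff.1 hc)
    · rw [← Nat.not_even_iff_odd]
      intro h1
      exact T.not_dvd_index (h1.two_dvd.trans (Subgroup.relIndex_dvd_index_of_le hle))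
    · exact even_iff_two_dvd.2 (T.dvd_card_of_dvd_card hab.even.two_dvd)
    · intro h1
      have h2 := hab (T : Subgroup G) (Subgroup.normalizer_eq_top_iff.1 h1) hTab
      rw [h2, mem_bot] at hzT
      exact ne_one hz hzT
    · exact T.2.isNilpotent
  · exfalso
    push Not at hall
    obtain ⟨w, hwT, hw1, c₀, hc₀, hc₀T⟩ := hall
    have hwo := hord w hwT hw1
    have hTw : ∀ c ∈ (T : Subgroup G), c * w = w * c := fun c hc => hTab c hc w hwT
    have hnw : ∃ x ∈ X w, x * x ≠ 1 := by
      by_contra hcon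
      push Not at hcon
      exact hc₀T (hgood w hwo hTw hcon c₀ hc₀)
    obtain ⟨t, htT, htX⟩ : ∃ t ∈ (T : Subgroup G), t ∉ X w := by
      have := hT w
      rw [SetLike.not_le_iff_exists] at this
      exact this
    have hwab := comm_of_comm h hwo (hTw t htT) htX
    have hzw : z ∉ X w := by
      intro h1
      obtain ⟨x, hx, hxx⟩ := hnw
      rw [← h.eq (ne_one hz) h1] at hx
      exact hxx (hβ x hx)
    -- good elements
    have hbad : ∀ v ∈ X w, v ≠ 1 → ∃ x, x * v = v * x ∧ x * x ≠ 1 := by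
      intro v hv hv1
      obtain ⟨x, hx, hxx⟩ := hnw
      exact ⟨x, hwab x hx v hv, hxx⟩
    have hconj : ∀ (y v : G), (∀ x, x * v = v * x → x * x = 1) →
        (∀ x, x * (y * v * y⁻¹) = (y * v * y⁻¹) * x → x * x = 1) := by
      intro y v hv x hx
      have h1 := hv (y⁻¹ * x * y) (by
        calc y⁻¹ * x * y * v = y⁻¹ * (x * (y * v * y⁻¹)) * y := by group
          _ = y⁻¹ * ((y * v * y⁻¹) * x) * y := by rw [hx]
          _ = v * (y⁻¹ * x * y) := by group)
      have h2 : y⁻¹ * (x * x) * y = 1 := by rw [← h1]; group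
      have := congrArg (fun w => y * w * y⁻¹) h2
      simpa [mul_assoc] using this
    have hzgood : ∀ x, x * z = z * x → x * x = 1 := fun x hx => hTsq x (hCz x hx)
    -- an odd order element of N(T)
    obtain ⟨y, hyN, p, hp, hp2, hy⟩ : ∃ y ∈ normalizer ((T : Subgroup G) : Set G), ∃ p : ℕ,
        p.Prime ∧ p ≠ 2 ∧ orderOf y = p := by
      obtain ⟨n, hn, t', ht', hne⟩ := hab.burnside T
      have h1 : ¬ ∃ k : ℕ, n ^ 2 ^ k = 1 := by
        rintro ⟨k, hk⟩
        exact hne (hTab n (mem_sylow_of_normalizer hn hk) t' ht')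
      obtain ⟨m, p, hp, hp2, hm⟩ := exists_odd_power h1
      exact ⟨n ^ m, pow_mem hn m, p, hp, hp2, hm⟩
    have hynT : ∀ v, y * v = v * y → (∀ x, x * v = v * x → x * x = 1) → False := by
      intro v hv hgv
      have h1 := hgv y hv
      have h2 : orderOf y ∣ 2 := orderOf_dvd_of_pow_eq_one (by rw [pow_two]; exact h1)
      rw [hy] at h2
      exact hp2 ((Nat.prime_dvd_prime_iff_eq hp Nat.prime_two).1 h2)
    by_cases hfour : ∀ v ∈ (T : Subgroup G), v ∉ X w → ∀ x, x * v = v * x → x * x = 1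
    · -- fixed point on T \ X w
      obtain ⟨v, hv, hvX, hyv⟩ := fixpt (T := (T : Subgroup G)) (Y := X w) T.2
        (fun c hc c' hc' hcX hcX' => mul_mem_of h hwo hnw (hTw c hc) hcX (hTw c' hc') hcX')
        htT htX hp hp2 hy (conj_mem_iff_of_normalizer hyN) (by
          intro v hv
          have hv' : y * v * y⁻¹ ∈ (T : Subgroup G) := (conj_mem_iff_of_normalizer hyN v).2 hv
          by_cases hv1 : v = 1
          · subst hv1; simp
          have hyv1 : y * v * y⁻¹ ≠ 1 := by simpa using hv1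
          constructor
          · intro h1
            by_contra h2
            obtain ⟨x, hx1, hx2⟩ := hbad _ h1 hyv1
            exact hx2 (hconj y v (hfour v hv h2) x hx1)
          · intro h1
            by_contra h2
            obtain ⟨x, hx1, hx2⟩ := hbad _ h1 hv1
            have h3 := hconj y⁻¹ _ (hfour _ hv' h2)
            have h4 : y⁻¹ * (y * v * y⁻¹) * y⁻¹⁻¹ = v := by group
            rw [h4] at h3
            exact hx2 (h3 x hx1))
      exact hynT v hyv (hfour v hv hvX)
    · -- |T| ≤ 4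
      push Not at hfour
      obtain ⟨v, hvT, hvX, x₀, hx₀, hx₀2⟩ := hfour
      have hv1 : v ≠ 1 := by rintro rfl; exact hvX (one_mem _)
      have hvo := hord v hvT hv1
      have hTv : ∀ c ∈ (T : Subgroup G), c * v = v * c := fun c hc => hTab c hc v hvT
      have hnv : ∃ x ∈ X v, x * x ≠ 1 := by
        by_contra hcon
        push Not at hcon
        exact hx₀2 (hTsq x₀ (hgood v hvo hTv hcon x₀ hx₀))
      obtain ⟨s, hsT, hsX⟩ : ∃ t ∈ (T : Subgroup G), t ∉ X v := by
        have := hT v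
        rw [SetLike.not_le_iff_exists] at this
        exact this
      have hvw : X v ≠ X w := fun h1 => hvX (h1 ▸ h.mem v)
      have hrel : ∀ {u : G} (huo : orderOf u = 2) (huT : u ∈ (T : Subgroup G))
          (hnu : ∃ x ∈ X u, x * x ≠ 1) {t : G} (ht : t ∈ (T : Subgroup G)) (htu : t ∉ X u),
          (X u).relIndex (T : Subgroup G) ≤ 2 := by
        intro u huo huT hnu t ht htu
        have h1 : (X u).relIndex (T : Subgroup G) = ((X u).subgroupOf (T : Subgroup G)).index := rfl
        rw [h1]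
        have h2 := Subgroup.index_eq_two_iff (H := (X u).subgroupOf (T : Subgroup G))
        have h3 : ((X u).subgroupOf (T : Subgroup G)).index = 2 := by
          rw [h2]
          refine ⟨⟨t, ht⟩, fun b => ?_⟩
          by_cases hb : (b : G) ∈ X u
          · right
            refine ⟨hb, fun h3 => htu ?_⟩
            have h4 : (b : G) * t ∈ X u := h3
            have := mul_mem (inv_mem hb) h4
            simpa using this
          · left
            exact ⟨mul_mem_of h huo hnu (hTab _ b.2 _ huT) hb (hTab _ ht _ huT) htu, hb⟩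
        exact h3.le
      have hT4 : Nat.card (T : Subgroup G) ≤ 4 := by
        have h1 := Subgroup.relIndex_inf_le (H := X v) (K := X w) (L := (T : Subgroup G))
        rw [h.inf_eq_bot hvw, Subgroup.relIndex_bot_left] at h1
        exact h1.trans (Nat.mul_le_mul (hrel hvo hvT hnv hsT hsX) (hrel hwo hwT hnw htT htX))
      -- z, yzy⁻¹, y²zy⁻² , w, 1 are distinct
      set z₁ := y * z * y⁻¹ with hz₁
      set z₂ := y * z₁ * y⁻¹ with hz₂
      have hz₁T : z₁ ∈ (T : Subgroup G) := (conj_mem_iff_of_normalizer hyN z).2 hzT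
      have hz₂T : z₂ ∈ (T : Subgroup G) := (conj_mem_iff_of_normalizer hyN z₁).2 hz₁T
      have hg1 := hconj y z hzgood
      rw [← hz₁] at hg1
      have hg2 := hconj y z₁ hg1
      rw [← hz₂] at hg2
      have hwbad : ¬ (∀ x, x * w = w * x → x * x = 1) := by
        intro h1
        obtain ⟨x, hx1, hx2⟩ := hbad w (h.mem w) hw1
        exact hx2 (h1 x hx1)
      have e1 : z ≠ z₁ := by
        intro h1
        refine hynT z ?_ hzgood
        have h2 : y * z * y⁻¹ * y = z * y := by rw [← hz₁, ← h1]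
        simpa using h2
      have e2 : z₁ ≠ z₂ := by
        intro h1
        refine hynT z₁ ?_ hg1
        have h2 : y * z₁ * y⁻¹ * y = z₁ * y := by rw [← hz₂, ← h1]
        simpa using h2
      have e3 : z ≠ z₂ := by
        intro h1
        have h2 : (y * y) * z = z * (y * y) := by
          have h3 : (y * y) * z * (y * y)⁻¹ = z₂ := by rw [hz₂, hz₁]; group
          rw [← h1] at h3
          have h4 : (y * y) * z = (y * y) * z * (y * y)⁻¹ * (y * y) := by group
          rw [h4, h3]
        have h3 := hzgood (y * y) h2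
        have h4 : orderOf y ∣ 4 := orderOf_dvd_of_pow_eq_one (by
          have : y ^ 4 = (y * y) * (y * y) := by simp [pow_succ, mul_assoc]
          rw [this]; exact h3)
        rw [hy] at h4
        have h5 : p ∣ 2 ^ 2 := by simpa using h4
        exact hp2 ((Nat.prime_dvd_prime_iff_eq hp Nat.prime_two).1 (hp.dvd_of_dvd_pow h5))
      have e4 : z ≠ w := fun h1 => hwbad (h1 ▸ hzgood)
      have e5 : z₁ ≠ w := fun h1 => hwbad (h1 ▸ hg1)
      have e6 : z₂ ≠ w := fun h1 => hwbad (h1 ▸ hg2)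
      have f0 : z ≠ 1 := ne_one hz
      have f1 : z₁ ≠ 1 := by rw [hz₁]; simpa using f0
      have f2 : z₂ ≠ 1 := by rw [hz₂]; simpa using f1
      have h5 : ({1, z, z₁, z₂, w} : Finset G).card = 5 := by
        rw [Finset.card_insert_of_notMem, Finset.card_insert_of_notMem,
          Finset.card_insert_of_notMem, Finset.card_insert_of_notMem, Finset.card_singleton]
        · simpa using e6
        · simp [e2, e5]
        · simp [e1, e3, e4]
        · simp [f0.symm, f1.symm, f2.symm, hw1.symm]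
      have h6 : (({1, z, z₁, z₂, w} : Finset G) : Set G).ncard ≤ ((T : Subgroup G) : Set G).ncard := by
        apply Set.ncard_le_ncard _ (Set.toFinite _)
        intro a ha
        simp only [Finset.coe_insert, Finset.coe_singleton, Set.mem_insert_iff,
          Set.mem_singleton_iff] at ha
        rcases ha with rfl | rfl | rfl | rfl | rfl
        · exact one_mem _
        · exact hzT
        · exact hz₁T
        · exact hz₂T
        · exact hwT
      rw [Set.ncard_coe_finset, h5] at h6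
      have h7 : ((T : Subgroup G) : Set G).ncard = Nat.card (T : Subgroup G) := rfl
      omega

end Cfsg.Agent.Lib.NPartB
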