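import Cfsg.Agent.Lib.NPartB3

/-!
# Partitioned groups: reduction to the dihedral case (for S4248)
-/

set_option autoImplicit false

namespace Cfsg.Agent.Lib.NPartB

open Subgroup SylowRel

universe u

variable {G : Type u} [Group G] [Finite G]

/-- the dihedral configuration -/
structure CData (X : G → Subgroup G) (T : Sylow 2 G) (z t : G) : Prop where
  hz : orderOf z = 2
  ht : orderOf t = 2
  tY : t ∉ X z
  Yab : ∀ x ∈ X z, ∀ y ∈ X z, x * y = y * x
  Yinv : ∀ x ∈ X z, x * x = 1 → x = 1 ∨ x = z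
  Y1 : ∃ x ∈ X z, x * x ≠ 1
  tinv : ∀ x ∈ X z, t * x * t⁻¹ = x⁻¹
  cen : ∀ c, c * z = z * c → c ∉ X z → c * t ∈ X z
  cenY : ∀ c ∈ X z, c * z = z * c
  ct : t * z = z * t
  nor : ∀ g, (∀ x ∈ X z, g * x * g⁻¹ ∈ X z) → g * z = z * g
  zT : z ∈ (T : Subgroup G)
  tT : t ∈ (T : Subgroup G)
  TC : ∀ c ∈ (T : Subgroup G), c * z = z * c

variable {X : G → Subgroup G}

/-- case (II), type γ -/
theorem caseGamma (h : NP X) (hab : NoAb G) [Nontrivial G] (T : Sylow 2 G) {z t : G}
    (hz : orderOf z = 2) (hzT : z ∈ (T : Subgroup G))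
    (hTz : ∀ c ∈ (T : Subgroup G), c * z = z * c) (htT : t ∈ (T : Subgroup G)) (htX : t ∉ X z)
    (hγ : ∃ x ∈ X z, x * x ≠ 1) : CData X T z t := by
  classical
  have hct := hTz t htT
  obtain ⟨ht, htinv⟩ := inv_of_comm h hz hct htX
  have hYab := comm_of_comm h hz hct htX
  have hcenY : ∀ c ∈ X z, c * z = z * c := fun c hc => hYab c hc z (h.mem z)
  -- characterization of C(z)
  have hCz : ∀ c, c * z = z * c → c ∉ X z → ∀ x ∈ X z, c * x * c⁻¹ = x⁻¹ :=
    fun c hc hcX => (inv_of_comm h hz hc hcX).2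
  have hinvC : ∀ c, (∀ x ∈ X z, c * x * c⁻¹ = x⁻¹) → c * z = z * c := by
    intro c hc
    have h1 := hc z (h.mem z)
    rw [inv_eq_of_mul_eq_one_left (sq hz)] at h1
    have h2 : c * z * c⁻¹ * c = z * c := by rw [h1]
    simpa using h2
  have hcen : ∀ c, c * z = z * c → c ∉ X z → c * t ∈ X z := fun c hc hcX =>
    mul_mem_of h hz hγ hc hcX hct htX
  -- unique involution
  have hYinv : ∀ x ∈ X z, x * x = 1 → x = 1 ∨ x = z := by
    by_contra hcon
    push Not at hcon
    obtain ⟨e, heY, hee, he1, hez⟩ := hcon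
    have heo : orderOf e = 2 := orderOf_eq_prime (by rw [pow_two]; exact hee) he1
    have hXe : X e = X z := h.eq he1 heY
    -- (c)
    have hβ : ∀ v, v * z = z * v → v ∉ X z → ∀ c, c * v = v * c → c * c = 1 := by
      intro v hv hvX
      obtain ⟨hvo, hvinv⟩ := inv_of_comm h hz hv hvX
      have hvX' : ∀ u ∈ X z, u ≠ 1 → u ∉ X v := by
        intro u hu hu1 hcon
        have h1 : X z = X v := h.disj hu1 hu hcon
        exact hvX (h1 ▸ h.mem v)
      have hev : e * v = v * e := by
        have h1 := hvinv e heY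
        rw [inv_eq_of_mul_eq_one_left hee] at h1
        have h2 : v * e * v⁻¹ * v = e * v := by rw [h1]
        simpa using h2.symm
      have hzv : z * v = v * z := hv.symm
      have hze1 : z * e ≠ 1 := by
        intro h1
        apply hez
        have h2 := eq_inv_of_mul_eq_one_right h1
        rw [h2, inv_eq_of_mul_eq_one_left (sq hz)]
      have hzev : (z * e) * v = v * (z * e) := by
        rw [mul_assoc, hev, ← mul_assoc, hzv, mul_assoc]
      have hall : ∀ x ∈ X v, x * x = 1 := by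
        intro x hx
        have h1 := (inv_of_comm h hvo hzv (hvX' z (h.mem z) (ne_one hz))).2
        have h2 := (inv_of_comm h hvo hev (hvX' e heY he1)).2
        have h3 := (inv_of_comm h hvo hzev (hvX' (z * e) (mul_mem (h.mem z) heY) hze1)).2 x hx
        have h4 : z * e * x * (z * e)⁻¹ = z * (e * x * e⁻¹) * z⁻¹ := by group
        rw [h4, h2 x hx, h1 _ (inv_mem hx), inv_inv] at h3
        nth_rewrite 1 [h3]
        exact inv_mul_cancel x
      intro c hc
      exact sq_of_cent h hvo hall hc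
    -- N(Y) ≤ C(z)
    have hNY : ∀ g, (∀ x, g * x * g⁻¹ ∈ X z ↔ x ∈ X z) → g * z = z * g := by
      intro g hg
      have hgC : ∀ c, c * z = z * c → (g * c * g⁻¹) * z = z * (g * c * g⁻¹) := by
        intro c hc
        by_cases hcX : c ∈ X z
        · exact hcenY _ ((hg c).2 hcX)
        · apply hinvC
          intro x hx
          have h1 : g⁻¹ * x * g ∈ X z := by
            rw [← hg]
            have : g * (g⁻¹ * x * g) * g⁻¹ = x := by group
            rwa [this]
          have h2 := hCz c hc hcX _ h1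
          calc g * c * g⁻¹ * x * (g * c * g⁻¹)⁻¹ = g * (c * (g⁻¹ * x * g) * c⁻¹) * g⁻¹ := by group
            _ = g * (g⁻¹ * x * g)⁻¹ * g⁻¹ := by rw [h2]
            _ = x⁻¹ := by group
      have hT1 : IsSyl 2 (T : Subgroup G) (centralizer ({z} : Set G)) := by
        refine ⟨fun c hc => mem_centralizer_singleton_iff.2 (hTz c hc), T.2, ?_⟩
        intro Q hQ hTQ _
        exact T.3 hQ hTQ
      have hT2 : IsSyl 2 (cj g (T : Subgroup G)) (centralizer ({z} : Set G)) := by
        refine ⟨?_, isPGroup_cj T.2, ?_⟩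
        · rintro _ ⟨c, hc, rfl⟩
          exact mem_centralizer_singleton_iff.2 (hgC c (hTz c hc))
        · intro Q hQ hTQ _
          have h1 : (T : Subgroup G) ≤ cj g⁻¹ Q := by
            have := cj_mono (g := g⁻¹) hTQ
            rwa [cj_inv_cj] at this
          have h2 := T.3 (isPGroup_cj (g := g⁻¹) hQ) h1
          rw [← h2, cj_cj_inv]
      obtain ⟨c, hc, hcT⟩ := hT2.exists_cj_eq hT1
      replace hc := mem_centralizer_singleton_iff.1 hc
      rw [← cj_mul] at hcT
      set n := c * g with hn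
      have hnN : n ∈ normalizer ((T : Subgroup G) : Set G) := mem_normalizer_iff_cj.2 hcT
      have hcY : ∀ x, c * x * c⁻¹ ∈ X z ↔ x ∈ X z := fun x =>
        (Subgroup.mem_normalizer_iff.1 (h.commute_mem_normalizer hc) x).symm
      have hnY : ∀ x, n * x * n⁻¹ ∈ X z ↔ x ∈ X z := by
        intro x
        have h1 : n * x * n⁻¹ = c * (g * x * g⁻¹) * c⁻¹ := by rw [hn]; group
        rw [h1, hcY, hg]
      have hnN2 : n ∈ normalizer (X z : Set G) := by
        rw [Subgroup.mem_normalizer_iff]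
        intro x; exact (hnY x).symm
      have hnz : n * z = z * n := by
        by_cases h2 : ∃ k : ℕ, n ^ 2 ^ k = 1
        · obtain ⟨k, hk⟩ := h2
          exact hTz n (mem_sylow_of_normalizer hnN hk)
        · exfalso
          obtain ⟨m, p, hp, hp2, hm⟩ := exists_odd_power h2
          obtain ⟨v, hv, hvX, hyv⟩ := fixpt (T := (T : Subgroup G)) (Y := X z) T.2
            (fun c hc c' hc' hcX hcX' => mul_mem_of h hz hγ (hTz c hc) hcX (hTz c' hc') hcX')
            htT htX hp hp2 hm (conj_mem_iff_of_normalizer (pow_mem hnN m))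
            (fun v _ => (Subgroup.mem_normalizer_iff.1 (pow_mem hnN2 m) v).symm)
          have h3 := hβ v (hTz v hv) hvX _ hyv
          have h4 : orderOf (n ^ m) ∣ 2 := orderOf_dvd_of_pow_eq_one (by rw [pow_two]; exact h3)
          rw [hm] at h4
          exact hp2 ((Nat.prime_dvd_prime_iff_eq hp Nat.prime_two).1 h4)
      have hci : c⁻¹ * z = z * c⁻¹ := by
        have h1 : c⁻¹ * (c * z) * c⁻¹ = c⁻¹ * (z * c) * c⁻¹ := by rw [hc]
        simpa [mul_assoc] using h1.symm
      have h5 : g = c⁻¹ * n := by rw [hn]; group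
      rw [h5, mul_assoc, hnz, ← mul_assoc, hci, mul_assoc]
    -- `z` is isolated in `T`
    obtain ⟨g, hg1, hg2⟩ := hab.fused T hz hzT
    apply hg2
    have hzY : g * z * g⁻¹ ∈ X z := by
      by_contra hcon
      have h1 := hβ _ (hTz _ hg1) hcon
      obtain ⟨x, hx, hxx⟩ := hγ
      have h2 := h1 (g * x * g⁻¹) (by
        have h3 := hcenY x hx
        calc g * x * g⁻¹ * (g * z * g⁻¹) = g * (x * z) * g⁻¹ := by group
          _ = g * (z * x) * g⁻¹ := by rw [h3]
          _ = g * z * g⁻¹ * (g * x * g⁻¹) := by group)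
      apply hxx
      have h3 : g * (x * x) * g⁻¹ = 1 := by rw [← h2]; group
      have := congrArg (fun w => g⁻¹ * w * g) h3
      simpa [mul_assoc] using this
    have hgN := h.mem_normalizer_of (ne_one hz) (h.mem z) hzY
    have h1 := hNY g (fun x => (Subgroup.mem_normalizer_iff.1 hgN x).symm)
    rw [h1]; group
  refine ⟨hz, ht, htX, hYab, hYinv, hγ, htinv, hcen, hcenY, hct, ?_, hzT, htT, hTz⟩
  intro g hg
  have h1 := hg z (h.mem z)
  have h2 : (g * z * g⁻¹) * (g * z * g⁻¹) = 1 := by
    have : (g * z * g⁻¹) * (g * z * g⁻¹) = g * (z * z) * g⁻¹ := by group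
    rw [this, sq hz]; group
  rcases hYinv _ h1 h2 with h3 | h3
  · exfalso
    apply ne_one hz
    have := congrArg (fun w => g⁻¹ * w * g) h3
    simpa [mul_assoc] using this
  · have h4 : g * z * g⁻¹ * g = z * g := by rw [h3]
    simpa using h4

/-- a central involution of a Sylow 2-subgroup -/
theorem exists_central_inv (hab : NoAb G) [Nontrivial G] (T : Sylow 2 G) :
    ∃ z ∈ (T : Subgroup G), orderOf z = 2 ∧ ∀ c ∈ (T : Subgroup G), c * z = z * c := by
  have h2 : 2 ∣ Nat.card (T : Subgroup G) := T.dvd_card_of_dvd_card hab.even.two_dvd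
  exact CN.exists_central_of_dvd T.2.isNilpotent h2

/-- part B of S4248 -/
theorem partB (h : NP X) (hab : NoAb G) [Nontrivial G] :
    (∃ z : G, z ≠ 1 ∧ (X z).Normal) ∨ (∃ H : Subgroup G, Cfsg.IsFrobeniusComplement H) ∨ PS G ∨
      ∃ (T : Sylow 2 G) (z t : G), CData X T z t := by
  obtain ⟨T⟩ : Nonempty (Sylow 2 G) := inferInstance
  by_cases hT : ∃ g, (T : Subgroup G) ≤ X g
  · obtain ⟨g, hg⟩ := hT
    rcases caseI h hab T hg with h1 | h1 | h1
    · exact Or.inl h1
    · exact Or.inr (Or.inl h1)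
    · exact Or.inr (Or.inr (Or.inl h1))
  · push Not at hT
    obtain ⟨z, hzT, hz, hTz⟩ := exists_central_inv hab T
    by_cases hβ : ∀ x ∈ X z, x * x = 1
    · exact Or.inr (Or.inr (Or.inl (caseBeta h hab T hT hz hzT hTz hβ)))
    · push Not at hβ
      obtain ⟨t, htT, htX⟩ : ∃ t ∈ (T : Subgroup G), t ∉ X z := by
        have := hT z
        rw [SetLike.not_le_iff_exists] at this
        exact this
      exact Or.inr (Or.inr (Or.inr ⟨T, z, t, caseGamma h hab T hz hzT hTz htT htX hβ⟩))

end Cfsg.Agent.Lib.NPartB
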