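import Cfsg.Agent.Lib.NPartC62g

/-!
# Partitioned groups with dihedral Sylow 2-subgroups (for S4248, part C)
-/

set_option autoImplicit false
set_option maxHeartbeats 400000

namespace Cfsg.Agent.Lib.NPartC62

open Subgroup NPartB

universe u

variable {G : Type u} [Group G] [Finite G] {X : G → Subgroup G}

theorem Dih.exists_two {z t r : G} {q n : ℕ} {T : Sylow 2 G} (hd : Dih X z t)
    (h : DihSylow.DH (T : Subgroup G) r t q n) (hr : r ∈ X z) (hrz : r ^ (q : ℤ) = z)
    (hq : 2 ∣ q) (hzt : IsConj z t) (hzu : ¬ IsConj z (r * t)) : ∃ L, Two X z t L (r * t) := by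
  have hu : orderOf (r * t) = 2 := by
    have := DihClasses.ord_y h 1
    rwa [zpow_one] at this
  obtain ⟨L, hL⟩ : ∃ L : Subgroup G, L.index = 2 := by
    by_contra hcon
    push Not at hcon
    have h1 := h.conj_z_of_no_index_two hcon hu
    rw [hrz] at h1
    exact hzu h1.symm
  have hLn : L.Normal := normal_of_index_eq_two hL
  have hzL : z ∈ L := by
    obtain ⟨m, hm⟩ := hq
    have h1 : z = (r ^ 2) ^ m := by
      rw [← hrz, hm, ← pow_mul, zpow_natCast]
    rw [h1]
    exact pow_mem (Subgroup.sq_mem_of_index_two hL r) m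
  have htL : t ∈ L := by
    obtain ⟨g, hg⟩ := isConj_iff.1 hzt
    rw [← hg]; exact hLn.conj_mem _ hzL g
  refine ⟨L, { toDih := hd, Ln := hLn, Li := hL, zL := hzL, tL := htL, vt := ?_, vL := ?_, vo := hu, cls := ?_ }⟩
  · rw [mul_assoc, sq hd.ht, mul_one]; exact hr
  · intro h1
    have hrL : r ∈ L := by
      have := mul_mem h1 (inv_mem htL)
      rwa [mul_inv_cancel_right] at this
    have hTL : (T : Subgroup G) ≤ L := by
      intro s hs
      rcases h.exists_rep hs with ⟨i, rfl⟩ | ⟨i, rfl⟩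
      · exact zpow_mem hrL i
      · exact mul_mem (zpow_mem hrL i) htL
    have h2 := Subgroup.index_dvd_of_le hTL
    rw [hL] at h2
    exact T.not_dvd_index h2
  · intro w hw
    rcases DihClasses.conj_three h hw with h3 | h3 | h3
    · rw [hrz] at h3; exact Or.inl h3
    · exact Or.inl (hzt.trans h3)
    · exact Or.inr h3

theorem fusion (hab : NoAb G) (T : Sylow 2 G) {a : G} (haT : a ∈ (T : Subgroup G))
    (ha : orderOf a = 2) : ∃ b ∈ (T : Subgroup G), orderOf b = 2 ∧ b ≠ a ∧ IsConj a b := by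
  obtain ⟨g, hg1, hg2⟩ := hab.fused T ha haT
  exact ⟨_, hg1, by rw [orderOf_conj]; exact ha, hg2, isConj_iff.2 ⟨g, rfl⟩⟩

theorem Dih.of_zt {z t r : G} {q n : ℕ} {T : Sylow 2 G} (hd : Dih X z t) (hab : NoAb G)
    (h : DihSylow.DH (T : Subgroup G) r t q n) (hr : r ∈ X z) (hrz : r ^ (q : ℤ) = z)
    (hzt : IsConj z t) : PG G := by
  have hnt : Nontrivial G := ⟨⟨z, 1, ne_one hd.hz⟩⟩
  by_cases h2 : IsConj z (r * t)
  · left
    apply hd.one_class hab
    have hall : ∀ a : G, orderOf a = 2 → IsConj z a := by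
      intro a ha
      rcases DihClasses.conj_three h ha with h3 | h3 | h3
      · rwa [hrz] at h3
      · exact hzt.trans h3
      · exact h2.trans h3
    exact fun a b ha hb => (hall a ha).symm.trans (hall b hb)
  by_cases hq : 2 ∣ q
  · obtain ⟨L, hL⟩ := hd.exists_two h hr hrz hq hzt h2
    exact hL.main hab
  exfalso
  -- `|T| = 4`
  have hq1 : q = 1 := by
    rcases Nat.eq_zero_or_pos n with h3 | h3
    · rw [h.hq, h3, pow_zero]
    · exact absurd (by rw [h.hq]; exact dvd_pow_self 2 h3.ne') hq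
  subst hq1
  have hrz' : r = z := by simpa using hrz
  have hu : orderOf (r * t) = 2 := by
    have := DihClasses.ord_y h 1
    rwa [zpow_one] at this
  obtain ⟨b, hbT, hbo, hbne, hbc⟩ := fusion hab T (mul_mem h.xS h.yS) hu
  rcases h.involution hbT (sq hbo) (ne_one hbo) with h3 | ⟨i, h3⟩
  · rw [hrz] at h3
    rw [h3] at hbc
    exact h2 hbc.symm
  · have hr2 : r * r = 1 := by rw [hrz']; exact sq hd.hz
    rcases Int.even_or_odd' i with ⟨j, hj | hj⟩
    · have h4 : r ^ i = 1 := by rw [hj, zpow_mul, zpow_two, hr2, one_zpow]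
      rw [h4, one_mul] at h3
      rw [h3] at hbc
      exact h2 (hzt.trans hbc.symm)
    · have h4 : r ^ i = r := by
        rw [hj, zpow_add, zpow_mul, zpow_two, hr2, one_zpow, one_mul, zpow_one]
      rw [h4] at h3
      exact hbne h3

/-- **part C** of S4248 -/
theorem dih_main {z t : G} (hd : Dih X z t) (hab : NoAb G) (T : Sylow 2 G)
    (htT : t ∈ (T : Subgroup G)) (hzT : z ∈ (T : Subgroup G))
    (hTC : (T : Subgroup G) ≤ centralizer ({z} : Set G)) : PG G := by
  obtain ⟨r, q, n, h, hr, hrz⟩ := hd.exists_dh T htT hzT hTC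
  obtain ⟨b, hbT, hbo, hbne, hbc⟩ := fusion hab T hzT hd.hz
  rcases h.involution hbT (sq hbo) (ne_one hbo) with h3 | ⟨i, h3⟩
  · rw [hrz] at h3
    exact absurd h3 hbne
  · rw [h3] at hbc
    rcases DihClasses.conj_y_or h i with h4 | h4
    · exact hd.of_zt hab h hr hrz (hbc.trans h4.symm)
    · have hd' := hd.change hr
      have h' : DihSylow.DH (T : Subgroup G) r (r * t) q n :=
        ⟨h.hq, h.card, h.xS, mul_mem h.xS h.yS, h.hx, sq hd'.ht, hd'.inv r hr, fun h5 =>
          hd'.tY ((zpowers_le.2 hr) h5)⟩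
      exact hd'.of_zt hab h' hr hrz (hbc.trans h4.symm)

/-- part C of S4248, in the form of the stub -/
theorem partC (h : NP X) (hab : ∀ A : Subgroup G, A.Normal → (∀ a ∈ A, ∀ b ∈ A, a * b = b * a) →
      A = ⊥) {z t : G} (hz : orderOf z = 2) (hYab : ∀ x ∈ X z, ∀ y ∈ X z, x * y = y * x)
    (hYz : ∀ x ∈ X z, x ^ 2 = 1 → x = 1 ∨ x = z) (hY1 : ∃ x ∈ X z, x ^ 2 ≠ 1)
    (ht : orderOf t = 2) (htY : t ∉ X z) (hinv : ∀ x ∈ X z, t * x * t⁻¹ = x⁻¹)
    (hC : centralizer ({z} : Set G) = X z ⊔ zpowers t)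
    (hN : normalizer (X z : Set G) = centralizer ({z} : Set G)) (T : Sylow 2 G)
    (htT : t ∈ (T : Subgroup G)) (hzT : z ∈ (T : Subgroup G))
    (hTC : (T : Subgroup G) ≤ centralizer ({z} : Set G)) :
    (∃ (F : Type) (_ : Field F) (_ : Fintype F), 4 ≤ Fintype.card F ∧
      Nonempty (G ≃* Matrix.ProjectiveSpecialLinearGroup (Fin 2) F)) ∨
    (∃ (F : Type) (_ : Field F) (_ : Fintype F), 5 ≤ Fintype.card F ∧ Odd (Fintype.card F) ∧
      Nonempty (G ≃* (GL (Fin 2) F ⧸ Subgroup.center (GL (Fin 2) F)))) :=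
  dih_main ⟨h, hz, hYab, hYz, hY1, ht, htY, hinv, hC, hN⟩ hab T htT hzT hTC

end Cfsg.Agent.Lib.NPartC62
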