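import Cfsg.Agent.Lib.NPartC62f
import Cfsg.Agent.S3043

/-!
# Partitioned groups with dihedral Sylow 2-subgroups (for S4248, part C): the main theorem
-/

set_option autoImplicit false
set_option maxHeartbeats 400000

namespace Cfsg.Agent.Lib.NPartC62

open Subgroup NPartB

universe u

variable {G : Type u} [Group G] [Finite G] {X : G → Subgroup G}

/-- the conclusion: the two families -/
def PG (G : Type u) [Group G] : Prop :=
  (∃ (F : Type) (_ : Field F) (_ : Fintype F), 4 ≤ Fintype.card F ∧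
      Nonempty (G ≃* Matrix.ProjectiveSpecialLinearGroup (Fin 2) F)) ∨
  (∃ (F : Type) (_ : Field F) (_ : Fintype F), 5 ≤ Fintype.card F ∧ Odd (Fintype.card F) ∧
      Nonempty (G ≃* (GL (Fin 2) F ⧸ Subgroup.center (GL (Fin 2) F))))

namespace Two

variable {z t v : G} {L Q : Subgroup G} {p f q k : ℕ}

theorem odd_cent (hd : Two X z t L v) (hab : NoAb G) (hQ : QD L (X z) Q p f q k) {x : G}
    (hx : x ∈ Q) (hx1 : x ≠ 1) : Odd (Nat.card (centralizer ({x} : Set G))) := by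
  rw [← Nat.not_even_iff_odd]
  intro h1
  obtain ⟨⟨w, hw⟩, hwo⟩ := exists_prime_orderOf_dvd_card' 2 h1.two_dvd
  rw [Subgroup.orderOf_mk] at hwo
  exact hd.not_comm hab hQ hx hx1 hwo (mem_centralizer_singleton_iff.1 hw)

theorem ti_Q (hd : Two X z t L v) (hQ : QD L (X z) Q p f q k) (g : G)
    (h : Q ⊓ Q.map (MulAut.conj g).toMonoidHom ≠ ⊥) : Q.map (MulAut.conj g).toMonoidHom = Q := by
  obtain ⟨⟨y, hyQ, x, hx, hxy⟩, hy1⟩ := (Subgroup.ne_bot_iff_exists_ne_one).1 h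
  have hxy' : g * x * g⁻¹ = y := hxy
  have hy1' : (y : G) ≠ 1 := fun h => hy1 (Subtype.ext h)
  have hx1 : x ≠ 1 := by
    rintro rfl
    apply hy1'
    rw [← hxy']; group
  ext c
  constructor
  · rintro ⟨d, hdQ, rfl⟩
    refine hQ.cent y hyQ hy1' _ (hd.Ln.conj_mem _ (hQ.le hdQ) g) ?_
    show g * d * g⁻¹ * y = y * (g * d * g⁻¹)
    rw [← hxy']
    calc g * d * g⁻¹ * (g * x * g⁻¹) = g * (d * x) * g⁻¹ := by group
      _ = _ := by rw [hQ.comm d hdQ x hx]; group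
  · intro hc
    refine ⟨g⁻¹ * c * g, ?_, ?_⟩
    · have h1 : g⁻¹ * c * g ∈ L := by
        have := hd.Ln.conj_mem _ (hQ.le hc) g⁻¹
        rwa [inv_inv] at this
      refine hQ.cent x hx hx1 _ h1 ?_
      have h2 : x = g⁻¹ * y * g := by rw [← hxy']; group
      rw [h2]
      calc g⁻¹ * c * g * (g⁻¹ * y * g) = g⁻¹ * (c * y) * g := by group
        _ = _ := by rw [hQ.comm c hc y hyQ]; group
    · show g * (g⁻¹ * c * g) * g⁻¹ = c
      group

theorem inverts (hd : Two X z t L v) (hab : NoAb G) (hQ : QD L (X z) Q p f q k) {τ : G}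
    (hτ : orderOf τ = 2) (hτN : τ ∈ normalizer (Q : Set G)) {y : G} (hy : y ∈ Q) :
    τ * y * τ⁻¹ = y⁻¹ := by
  have h1 : τ * y * τ⁻¹ ∈ Q := (mem_normalizer_iff.1 hτN y).1 hy
  have hττ := sq hτ
  have hτi : τ⁻¹ = τ := inv_eq_of_mul_eq_one_left hττ
  by_contra hcon
  have h2 : y * (τ * y * τ⁻¹) ≠ 1 := fun h => hcon (eq_inv_of_mul_eq_one_right h)
  refine hd.not_comm hab hQ (mul_mem hy h1) h2 hτ ?_
  have h3 := hQ.comm y hy _ h1
  rw [h3, hτi]
  calc τ * (τ * y * τ * y) = (τ * τ) * y * τ * y := by group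
    _ = y * (τ * y) * 1 := by rw [hττ]; group
    _ = y * (τ * y) * (τ * τ) := by rw [hττ]
    _ = y * (τ * y * τ) * τ := by group
    _ = (τ * y * τ * y) * τ := by
      have h4 := h3
      rw [hτi] at h4
      rw [h4]

theorem fac (hd : Two X z t L v) (hab : NoAb G) (hQ : QD L (X z) Q p f q k) {τ : G}
    (hτ : orderOf τ = 2) (hτN : τ ∈ normalizer (Q : Set G)) :
    Q ⊔ (normalizer (Q : Set G) ⊓ centralizer ({τ} : Set G)) = normalizer (Q : Set G) := by
  apply le_antisymm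
  · exact sup_le Subgroup.le_normalizer inf_le_left
  intro n hn
  set τ' := n * τ * n⁻¹ with hτ'
  have hτ'o : orderOf τ' = 2 := by rw [hτ', orderOf_conj]; exact hτ
  have hτ'N : τ' ∈ normalizer (Q : Set G) := mul_mem (mul_mem hn hτN) (inv_mem hn)
  have hcongr : τ' ∈ L ↔ τ ∈ L := (hd.mem_iff_of_isConj (isConj_iff.2 ⟨n, rfl⟩)).symm
  have hL : τ' * τ ∈ L := hd.mul_mem_iff.2 hcongr
  obtain ⟨x, hx, hx1⟩ : ∃ x ∈ Q, x ≠ 1 := by
    by_contra hcon
    push Not at hcon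
    have h1 : Q = ⊥ := by
      rw [eq_bot_iff]; intro x hx; exact mem_bot.2 (hcon x hx)
    have h2 := hQ.card
    rw [h1] at h2
    have h3 := hQ.q5
    simp at h2
    omega
  have hw : τ' * τ ∈ Q := by
    refine hQ.cent x hx hx1 _ hL ?_
    have h1 := hd.inverts hab hQ hτ hτN hx
    have h2 := hd.inverts hab hQ hτ'o hτ'N (inv_mem hx)
    rw [inv_inv] at h2
    calc τ' * τ * x = τ' * (τ * x * τ⁻¹) * τ := by group
      _ = (τ' * x⁻¹ * τ'⁻¹) * τ' * τ := by rw [h1]; group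
      _ = x * (τ' * τ) := by rw [h2]; group
  -- a square root
  have hodd := odd_of_mem hQ hw
  obtain ⟨a, ha⟩ := hodd
  set y := (τ' * τ) ^ (a + 1) with hy
  have hyQ : y ∈ Q := pow_mem hw _
  have hyy : y * y = τ' * τ := by
    rw [hy, ← pow_add]
    have h1 : a + 1 + (a + 1) = orderOf (τ' * τ) + 1 := by omega
    rw [h1, pow_succ, pow_orderOf_eq_one, one_mul]
  have h3 : y⁻¹ * n ∈ centralizer ({τ} : Set G) := by
    rw [mem_centralizer_singleton_iff]
    have h1 := hd.inverts hab hQ hτ hτN hyQ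
    have h2 : τ' = y * τ * y⁻¹ := by
      have h4 : τ' = (τ' * τ) * τ := by rw [mul_assoc, sq hτ, mul_one]
      rw [h4, ← hyy]
      have h5 : τ * y⁻¹ = y * τ := by
        have h6 := hd.inverts hab hQ hτ hτN (inv_mem hyQ)
        rw [inv_inv] at h6
        calc τ * y⁻¹ = τ * y⁻¹ * τ⁻¹ * τ := by group
          _ = y * τ := by rw [h6]
      rw [mul_assoc y τ, h5]; group
    have h7 : n * τ = y * τ * y⁻¹ * n := by
      rw [← h2, hτ']; group
    calc y⁻¹ * n * τ = y⁻¹ * (n * τ) := by group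
      _ = τ * (y⁻¹ * n) := by rw [h7]; group
  have h4 : n = y * (y⁻¹ * n) := by group
  rw [h4]
  have hyN : y⁻¹ ∈ normalizer (Q : Set G) := inv_mem (Subgroup.le_normalizer (H := Q) hyQ)
  exact mul_mem (mem_sup_left hyQ) (mem_sup_right ⟨mul_mem hyN hn, h3⟩)

theorem main (hd : Two X z t L v) (hab : NoAb G) [Nontrivial G] : PG G := by
  classical
  obtain ⟨Q, p, f, q, k, hQ⟩ := hd.exists_Q hab
  have hq5 := hQ.q5
  have hpF : Fact (Nat.Prime 2) := ⟨Nat.prime_two⟩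
  have hQ1 : Q ≠ ⊥ := by
    intro h1
    have h2 := hQ.card
    rw [h1] at h2
    simp at h2
    omega
  have h2N : 2 ∣ Nat.card (normalizer (Q : Set G)) := by
    rw [hQ.cardN]
    obtain ⟨a, ha⟩ := hQ.qodd
    have : q - 1 = 2 * a := by omega
    rw [this]
    exact ⟨q * a, by ring⟩
  obtain ⟨⟨τ, hτN⟩, hτ⟩ := exists_prime_orderOf_dvd_card' 2 h2N
  rw [Subgroup.orderOf_mk] at hτ
  have hidx : Q.index = (q + 1) * (q - 1) := by
    have h1 := Q.card_mul_index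
    rw [hQ.card, hd.card_G hQ, mul_assoc] at h1
    exact Nat.eq_of_mul_eq_mul_left (by omega) h1
  have hinv := hd.card_inv_ge hab hQ
  rcases Cfsg.Agent.S3043.result Q hQ1 (hd.ti_Q hQ) τ hτ hτN (hd.fac hab hQ hτ hτN)
    (fun x hx hx1 => hd.odd_cent hab hQ hx hx1) with h | h | h | h | h
  · exact absurd (hab Q h hQ.comm) hQ1
  · exfalso
    rw [hidx] at h
    obtain ⟨s, rfl⟩ : ∃ s, q = s + 1 := ⟨q - 1, by omega⟩
    rw [Nat.add_sub_cancel] at h
    nlinarith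
  · obtain ⟨F, i1, i2, p', i3, i4, hF, -, h1 | ⟨-, h1⟩⟩ := h
    · right
      refine ⟨F, i1, i2, by rw [hF, hQ.card]; exact hq5, by rw [hF, hQ.card]; exact hQ.qodd, h1⟩
    · left
      exact ⟨F, i1, i2, by rw [hF, hQ.card]; omega, h1⟩
  · obtain ⟨F, i1, i2, e, he, hF, -, -, h1⟩ := h
    left
    refine ⟨F, i1, i2, ?_, h1⟩
    rw [hF]
    calc 4 = 2 ^ 2 := by norm_num
      _ ≤ 2 ^ e := Nat.pow_le_pow_right (by norm_num) he
  · exfalso
    obtain ⟨d, E, hd1, hE, hEab, hEc, -, -, -⟩ := h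
    have h1 : E = ⊥ := hab E hE (by
      intro a ha b hb
      exact congrArg Subtype.val (hEab.1.is_comm.comm ⟨a, ha⟩ ⟨b, hb⟩))
    rw [h1, Subgroup.card_bot] at hEc
    have h2 : 1 < 2 ^ (2 * d) := Nat.one_lt_two_pow (by omega)
    omega

end Two

end Cfsg.Agent.Lib.NPartC62
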