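import Cfsg.Agent.Lib.InvAct
import Cfsg.Agent.Lib.StrongEmbPt
import Mathlib.GroupTheory.FixedPointFree

/-!
# Strongly embedded normalizers of TI subgroups `X = C(v)` (for S4248)
-/

set_option autoImplicit false

namespace Cfsg.Agent.Lib.NPartR

open MulAction InvAct

variable {G Ω : Type*} [Group G] [Finite G] [MulAction G Ω] [Finite Ω]

/-- A family of TI subgroups `X a ≤ G_a`, each the centralizer of each of its involutions. -/
structure RF (X : Ω → Subgroup G) : Prop where
  conj : ∀ (g : G) (a : Ω) (x : G), x ∈ X a → g * x * g⁻¹ ∈ X (g • a)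
  fix : ∀ (a : Ω) (x : G), x ∈ X a → x • a = a
  ti : ∀ (a b : Ω) (x : G), x ∈ X a → x ∈ X b → x ≠ 1 → a = b
  uniq : UniqueFix G Ω
  inv : ∀ (v : G) (a : Ω), orderOf v = 2 → v • a = a → v ∈ X a
  cen : ∀ (v : G) (a : Ω) (c : G), orderOf v = 2 → v • a = a → (c * v = v * c ↔ c ∈ X a)
  trans : IsPretransitive G Ω
  ex : ∀ a : Ω, ∃ v : G, orderOf v = 2 ∧ v • a = a

namespace RF

variable {X : Ω → Subgroup G} (h : RF X)

include h

omit [Finite G] [Finite Ω] in
theorem fix_of_comm {a : Ω} {e c : G} (he : e ∈ X a) (he1 : e ≠ 1) (hc : c * e = e * c) :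
    c • a = a := by
  have h1 := h.conj c a e he
  have h2 : c * e * c⁻¹ = e := by rw [hc]; group
  rw [h2] at h1
  exact h.ti _ _ e h1 he he1

omit [Finite Ω] in
theorem exists_sw {a b : Ω} (hab : a ≠ b) : ∃ s : G, orderOf s = 2 ∧ s • a = b ∧ s • b = a := by
  obtain ⟨t, ht, hta⟩ := h.ex a
  obtain ⟨u, hu, hub⟩ := h.ex b
  obtain ⟨s, hs, -, hs2⟩ := exists_swap h.uniq ht hu hta hub hab
  exact ⟨s, hs, hs2, smul_of_swap hs hs2⟩

omit [Finite Ω] in
/-- (i) -/
theorem one {a b : Ω} (hab : a ≠ b) {d : G} (hd : d ∈ X a) (hdb : d • b = b) : d = 1 := by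
  obtain ⟨s, hs, hsa, hsb⟩ := h.exists_sw hab
  have hss : s * s = 1 := (orderOf_two_iff.1 hs).1
  have hsi : s⁻¹ = s := inv_eq_self_of_orderOf_eq_two hs
  have hda : d • a = a := h.fix a d hd
  set d' := s * d * s⁻¹ with hd'
  have hd'b : d' ∈ X b := by
    have := h.conj s a d hd
    rwa [hsa] at this
  have hd'a : d' • a = a := by
    rw [hd', hsi, mul_smul, mul_smul, hsa, hdb, hsb]
  have hcomm : d * d' * d⁻¹ * d'⁻¹ = 1 := by
    by_contra hne
    have h1 : d * d' * d⁻¹ * d'⁻¹ ∈ X b := by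
      apply mul_mem _ (inv_mem hd'b)
      have := h.conj d b d' hd'b
      rwa [hdb] at this
    have h2 : d * d' * d⁻¹ * d'⁻¹ ∈ X a := by
      have h3 : d' * d⁻¹ * d'⁻¹ ∈ X a := by
        have := h.conj d' a d⁻¹ (inv_mem hd)
        rwa [hd'a] at this
      have := mul_mem hd h3
      have e : d * (d' * d⁻¹ * d'⁻¹) = d * d' * d⁻¹ * d'⁻¹ := by group
      rwa [e] at this
    exact hab (h.ti a b _ h2 h1 hne)
  have hc : d * d' = d' * d := by
    have : d * d' * d⁻¹ * d'⁻¹ * (d' * d) = 1 * (d' * d) := by rw [hcomm]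
    simpa [mul_assoc] using this
  by_contra hd1
  have hd'1 : d' ≠ 1 := by
    rw [hd']; simpa using hd1
  have he1 : d * d' ≠ 1 := by
    intro h1
    have h2 : d' = d⁻¹ := (inv_eq_of_mul_eq_one_right h1).symm
    have h3 : d' ∈ X a := by rw [h2]; exact inv_mem hd
    exact hab (h.ti a b d' h3 hd'b hd'1)
  have hse : s * (d * d') = (d * d') * s := by
    have h1 : s * d' = d * s := by
      rw [hd', hsi]
      calc s * (s * d * s) = (s * s) * d * s := by group
        _ = d * s := by rw [hss, one_mul]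
    have h2 : s * d = d' * s := by
      rw [hd']; group
    calc s * (d * d') = (s * d) * d' := by group
      _ = d' * (s * d') := by rw [h2]; group
      _ = d' * d * s := by rw [h1]; group
      _ = (d * d') * s := by rw [hc]
  obtain ⟨c, hsc, -⟩ := h.uniq s hs
  have hec : d * d' ∈ X c := (h.cen s c (d * d') hs hsc).1 hse.symm
  have hdc : d • c = c := h.fix_of_comm hec he1 (by rw [mul_assoc, hc])
  have hdi : d⁻¹ • c = c := by rw [inv_smul_eq_iff, hdc]
  -- the conjugate involution
  set u := d⁻¹ * s * d with hu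
  have huo : orderOf u = 2 := by
    have := orderOf_injective (MulAut.conj d⁻¹).toMonoidHom (MulAut.conj d⁻¹).injective s
    simpa [hs, hu] using this
  have huc : u • c = c := by rw [hu, mul_smul, mul_smul, hdc, hsc, hdi]
  have huX : u ∈ X c := h.inv u c huo huc
  have hus : u * s = s * u := (h.cen s c u hs hsc).2 huX
  have huu : u * u = 1 := (orderOf_two_iff.1 huo).1
  have hw2 : (s * u) * (s * u) = 1 := by
    calc (s * u) * (s * u) = s * (u * s) * u := by group
      _ = (s * s) * (u * u) := by rw [hus]; group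
      _ = 1 := by rw [hss, huu, one_mul]
  have hdai : d⁻¹ • a = a := by rw [inv_smul_eq_iff, hda]
  have hdbi : d⁻¹ • b = b := by rw [inv_smul_eq_iff, hdb]
  have hwa : (s * u) • a = a := by
    rw [hu, mul_smul, mul_smul, mul_smul, hda, hsa, hdbi, hsb]
  have hwb : (s * u) • b = b := by
    rw [hu, mul_smul, mul_smul, mul_smul, hdb, hsb, hdai, hsa]
  by_cases hw : s * u = 1
  · have h1 : u = s := by
      have := inv_eq_of_mul_eq_one_right hw
      rw [hsi] at this
      exact this.symm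
    have h2 : s * d = d * s := by
      have h3 : d * u = s * d := by rw [hu]; group
      rw [← h3, h1]
    have h4 : d' = d := by
      rw [hd', h2]; group
    rw [h4] at hd'b
    exact hab (h.ti a b d hd hd'b hd1)
  · exact not_mem_both h.uniq hab (orderOf_two_iff.2 ⟨hw2, hw⟩) hwa hwb

omit [Finite Ω] in
/-- step A -/
theorem no_inv_comm {a b : Ω} (hab : a ≠ b) {d : G} (hd1 : d ≠ 1) (hda : d • a = a)
    (hdb : d • b = b) {v : G} (hv : orderOf v = 2) (hc : d * v = v * d) : False := by
  obtain ⟨e, hve, -⟩ := h.uniq v hv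
  have hdX : d ∈ X e := (h.cen v e d hv hve).1 hc
  by_cases hea : e = a
  · subst hea
    exact hd1 (h.one hab hdX hdb)
  · exact hd1 (h.one hea hdX hda)

omit [Finite Ω] in
/-- (ii) -/
theorem inverts {a b : Ω} (hab : a ≠ b) {s : G} (hs : orderOf s = 2) (hsa : s • a = b)
    {d : G} (hda : d • a = a) (hdb : d • b = b) : s * d * s⁻¹ = d⁻¹ := by
  have hss : s * s = 1 := (orderOf_two_iff.1 hs).1
  have hsi : s⁻¹ = s := inv_eq_self_of_orderOf_eq_two hs
  have hsb : s • b = a := smul_of_swap hs hsa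
  let D : Subgroup G := stabilizer G a ⊓ stabilizer G b
  have hmem : ∀ x : D, s * (x : G) * s⁻¹ ∈ D := by
    rintro ⟨x, hx1, hx2⟩
    replace hx1 : x • a = a := hx1
    replace hx2 : x • b = b := hx2
    refine ⟨?_, ?_⟩
    · show (s * x * s⁻¹) • a = a
      rw [hsi, mul_smul, mul_smul, hsa, hx2, hsb]
    · show (s * x * s⁻¹) • b = b
      rw [hsi, mul_smul, mul_smul, hsb, hx1, hsa]
  let φ : D →* D :=
    { toFun := fun x => ⟨s * (x : G) * s⁻¹, hmem x⟩
      map_one' := by ext; simp
      map_mul' := by intro x y; ext; simp }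
  have hfpf : MonoidHom.FixedPointFree φ := by
    intro x hx
    by_contra hx1
    have h1 : s * (x : G) * s⁻¹ = x := congrArg Subtype.val hx
    have h2 : (x : G) * s = s * x := by
      have := congrArg (fun y => y * s) h1
      simpa [mul_assoc] using this.symm
    exact h.no_inv_comm hab (fun h3 => hx1 (Subtype.ext h3)) x.2.1 x.2.2 hs h2
  have hinv : Function.Involutive φ := by
    intro x
    apply Subtype.ext
    show s * (s * (x : G) * s⁻¹) * s⁻¹ = x
    rw [hsi]
    calc s * (s * (x : G) * s) * s = (s * s) * x * (s * s) := by group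
      _ = x := by rw [hss]; group
  have := hfpf.coe_eq_inv_of_involutive hinv
  have h2 := congrFun this ⟨d, hda, hdb⟩
  exact congrArg Subtype.val h2

omit [Finite Ω] in
/-- step B -/
theorem no_inv_inverting {a b f : Ω} (hab : a ≠ b) {d : G} (hd1 : d ≠ 1) (hda : d • a = a)
    (hdb : d • b = b) (hdf : d • f = f) {s : G} (hs : orderOf s = 2) (hsf : s • f = f)
    (hinv : s * d * s⁻¹ = d⁻¹) : False := by
  have hss : s * s = 1 := (orderOf_two_iff.1 hs).1
  have hsi : s⁻¹ = s := inv_eq_self_of_orderOf_eq_two hs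
  have h1 : s ∈ X f := h.inv s f hs hsf
  have h2 : d * s * d⁻¹ ∈ X f := by
    have := h.conj d f s h1
    rwa [hdf] at this
  have h3 : d * d ∈ X f := by
    have h4 : d * s * d⁻¹ * s = d * d := by
      have h5 : s * d⁻¹ * s = d := by
        have h6 : s * d⁻¹ * s⁻¹ = d := by
          have := congrArg (fun y => y⁻¹) hinv
          simpa [mul_assoc] using this
        rwa [hsi] at h6
      calc d * s * d⁻¹ * s = d * (s * d⁻¹ * s) := by group
        _ = d * d := by rw [h5]
    rw [← h4]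
    exact mul_mem h2 h1
  have h4 : d * d = 1 := by
    have h5 : (d * d) • a = a := by rw [mul_smul, hda, hda]
    have h6 : (d * d) • b = b := by rw [mul_smul, hdb, hdb]
    by_cases hfa : f = a
    · subst hfa
      exact h.one hab h3 h6
    · exact h.one hfa h3 h5
  exact not_mem_both h.uniq hab (orderOf_two_iff.2 ⟨h4, hd1⟩) hda hdb

omit [Finite Ω] in
/-- step C -/
theorem comm_fix {a b f g : Ω} (hab : a ≠ b) {d : G} (hd1 : d ≠ 1) (hda : d • a = a)
    (hdb : d • b = b) (hdf : d • f = f) (hdg : d • g = g) {m : G} (hm : m * d = d * m)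
    (hmf : m • f = g) : f = g := by
  by_contra hfg
  obtain ⟨s, hs, hsf, hsg⟩ := h.exists_sw hfg
  have hss : s * s = 1 := (orderOf_two_iff.1 hs).1
  have hsi : s⁻¹ = s := inv_eq_self_of_orderOf_eq_two hs
  have hinv : s * d * s⁻¹ = d⁻¹ := h.inverts hfg hs hsf hdf hdg
  have hmd : m * d * m⁻¹ = d := by rw [hm]; group
  set u := s * m with hu
  have huf : u • f = f := by rw [hu, mul_smul, hmf, hsg]
  have hud : u * d * u⁻¹ = d⁻¹ := by
    calc u * d * u⁻¹ = s * (m * d * m⁻¹) * s⁻¹ := by rw [hu]; group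
      _ = d⁻¹ := by rw [hmd, hinv]
  have hu1 : u * d = d⁻¹ * u := by
    rw [← hud]; group
  have hu2 : u * d⁻¹ = d * u := by
    have h1 : u * d⁻¹ * u⁻¹ = d := by
      have := congrArg (fun y => y⁻¹) hud
      simpa [mul_assoc] using this
    have h2 : u * d⁻¹ * u⁻¹ * u = d * u := by rw [h1]
    simpa [mul_assoc] using h2
  have hu2c : d * (u * u) = (u * u) * d := by
    calc d * (u * u) = (d * u) * u := by group
      _ = u * (d⁻¹ * u) := by rw [← hu2]; group
      _ = (u * u) * d := by rw [← hu1]; group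
  -- the order of `u * u` is odd
  have hodd : Odd (orderOf (u * u)) := by
    rw [← Nat.not_even_iff_odd]
    intro hev
    obtain ⟨k, hk⟩ := hev
    have hpos : 0 < orderOf (u * u) := orderOf_pos _
    have hv : orderOf ((u * u) ^ k) = 2 := by
      rw [orderOf_two_iff]
      refine ⟨?_, ?_⟩
      · rw [← pow_add, ← hk, pow_orderOf_eq_one]
      · apply pow_ne_one_of_lt_orderOf <;> omega
    exact h.no_inv_comm hab hd1 hda hdb hv ((show Commute d (u * u) from hu2c).pow_right k).eq
  obtain ⟨k, hk⟩ := hodd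
  -- the odd power of u
  set w := u ^ (2 * k + 1) with hw
  have hww : w * w = 1 := by
    rw [hw, ← (Commute.refl u).mul_pow, ← hk, pow_orderOf_eq_one]
  have hwd : w * d * w⁻¹ = d⁻¹ := by
    have h1 : (u * u) ^ k * d = d * (u * u) ^ k :=
      (((show Commute d (u * u) from hu2c).pow_right k).eq).symm
    have h2 : w = u * (u * u) ^ k := by
      rw [hw, pow_succ', pow_mul, sq]
    rw [h2]
    calc u * (u * u) ^ k * d * (u * (u * u) ^ k)⁻¹
        = u * ((u * u) ^ k * d) * ((u * u) ^ k)⁻¹ * u⁻¹ := by group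
      _ = u * d * u⁻¹ := by rw [h1]; group
      _ = d⁻¹ := hud
  have hwf : w • f = f := by
    have : w ∈ stabilizer G f := pow_mem (show u ∈ stabilizer G f from huf) _
    exact this
  have hw1 : w ≠ 1 := by
    intro h1
    rw [h1] at hwd
    have h2 : d * d = 1 := by
      have h3 : d = d⁻¹ := by simpa using hwd
      nth_rewrite 1 [h3]; simp
    exact not_mem_both h.uniq hab (orderOf_two_iff.2 ⟨h2, hd1⟩) hda hdb
  exact h.no_inv_inverting hab hd1 hda hdb hdf (orderOf_two_iff.2 ⟨hww, hw1⟩) hwf hwd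

omit [Finite Ω] in
/-- (iii) -/
theorem fix_two {a b c : Ω} (hab : a ≠ b) {d : G} (hd1 : d ≠ 1) (hda : d • a = a)
    (hdb : d • b = b) (hdc : d • c = c) : c = a ∨ c = b := by
  by_contra hcon
  push Not at hcon
  obtain ⟨hca, hcb⟩ := hcon
  obtain ⟨s, hs, hsa, hsb⟩ := h.exists_sw hab
  obtain ⟨r, hr, hrb, hrc⟩ := h.exists_sw (Ne.symm hcb)
  -- m = s * r : c ↦ b ↦ a
  have h1 : s * d * s⁻¹ = d⁻¹ := h.inverts hab hs hsa hda hdb
  have h2 : r * d⁻¹ * r⁻¹ = d := by
    have := h.inverts (Ne.symm hcb) hr hrb hdb hdc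
    have h3 := congrArg (fun y => y⁻¹) this
    simpa [mul_assoc] using h3
  have h3 : (s * r) * d = d * (s * r) := by
    have h4 : r * d = d⁻¹ * r := by
      have := h.inverts (Ne.symm hcb) hr hrb hdb hdc
      rw [← this]; group
    have h5 : s * d⁻¹ = d * s := by
      have h6 := congrArg (fun y => y⁻¹) h1
      have h7 : s * d⁻¹ * s⁻¹ = d := by simpa [mul_assoc] using h6
      have h8 : s * d⁻¹ * s⁻¹ * s = d * s := by rw [h7]
      simpa [mul_assoc] using h8
    calc (s * r) * d = s * (r * d) := by group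
      _ = s * d⁻¹ * r := by rw [h4]; group
      _ = d * (s * r) := by rw [h5]; group
  have h4 : (s * r) • c = a := by rw [mul_smul, hrc, hsb]
  exact hca (h.comm_fix hab hd1 hda hdb hdc hda h3 h4)

theorem card_two {a b : Ω} (hab : a ≠ b) :
    Nat.card ↥(stabilizer G a ⊓ stabilizer G b) = (invSwap G a a).ncard := by
  have := h.trans
  obtain ⟨s, hs, hsa, hsb⟩ := h.exists_sw hab
  rw [card_two_point h.uniq hab (u := s) ⟨hs, hsa⟩, ncard_invSwap_eq h.uniq a b]
  have h1 : stabilizer G a ⊓ Subgroup.centralizer ({s} : Set G) = ⊥ := by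
    rw [eq_bot_iff]
    rintro d ⟨hd1, hd2⟩
    replace hd1 : d • a = a := hd1
    replace hd2 := Subgroup.mem_centralizer_singleton_iff.1 hd2
    rw [Subgroup.mem_bot]
    by_contra hd
    refine h.no_inv_comm hab hd hd1 ?_ hs hd2
    rw [← hsa, ← mul_smul, hd2, mul_smul, hd1]
  rw [h1, Subgroup.card_bot, mul_one]

omit [Finite Ω] in
theorem card_stab_le (a : Ω) :
    Nat.card (stabilizer G a) ≤ (invSwap G a a).ncard * Nat.card (X a) := by
  obtain ⟨t, ht, hta⟩ := h.ex a
  rw [card_conj_orbit (stabilizer G a) t]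
  have h1 : stabilizer G a ⊓ Subgroup.centralizer ({t} : Set G) = X a := by
    ext c
    constructor
    · rintro ⟨-, hc⟩
      exact (h.cen t a c ht hta).1 (Subgroup.mem_centralizer_singleton_iff.1 hc)
    · intro hc
      exact ⟨h.fix a c hc, Subgroup.mem_centralizer_singleton_iff.2 ((h.cen t a c ht hta).2 hc)⟩
  rw [h1]
  apply Nat.mul_le_mul_right
  apply Set.ncard_le_ncard _ (Set.toFinite _)
  rintro v ⟨k, hk, rfl⟩
  refine ⟨?_, ?_⟩
  · have := orderOf_injective (MulAut.conj k).toMonoidHom (MulAut.conj k).injective t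
    simpa [ht] using this
  · have hk1 : k • a = a := hk
    have hk2 : k⁻¹ • a = a := by rw [inv_smul_eq_iff, hk1]
    rw [mul_smul, mul_smul, hk2, hta, hk1]

theorem card_X_le {a b : Ω} (hab : a ≠ b) : Nat.card (X a) ≤ Nat.card {c : Ω // c ≠ a} := by
  have hinj : Function.Injective (fun x : X a => (⟨(x : G) • b, fun hx => by
    have h1 := h.fix a x x.2
    exact hab (smul_left_cancel _ (hx.trans h1.symm)).symm⟩ : {c : Ω // c ≠ a})) := by
    intro x y hxy
    have h1 : (x : G) • b = (y : G) • b := congrArg Subtype.val hxy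
    have h2 : ((x : G)⁻¹ * y) • b = b := by
      rw [mul_smul, inv_smul_eq_iff, h1]
    have h3 := h.one hab (mul_mem (inv_mem x.2) y.2) h2
    exact Subtype.ext (inv_mul_eq_one.1 h3)
  exact Nat.card_le_card_of_injective _ hinj

/-- (iv) every element of `G_a` outside `X a` fixes a second point -/
theorem exists_second {a b : Ω} (hab : a ≠ b) {y : G} (hya : y • a = a) (hy : y ∉ X a) :
    ∃ c, c ≠ a ∧ y • c = c := by
  classical
  have := Fintype.ofFinite Ω
  set n := (invSwap G a a).ncard with hn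
  let A : {c : Ω // c ≠ a} → Set G :=
    fun c => ((stabilizer G a ⊓ stabilizer G (c : Ω) : Subgroup G) : Set G) \ {1}
  let B : Set G := ((stabilizer G a : Subgroup G) : Set G) \ (X a : Set G)
  have hXs : (X a : Set G) ⊆ ((stabilizer G a : Subgroup G) : Set G) := fun x hx => h.fix a x hx
  have hcB : Nat.card B ≤ (n - 1) * Nat.card (X a) := by
    have h1 : B.ncard = ((stabilizer G a : Subgroup G) : Set G).ncard - (X a : Set G).ncard :=
      Set.ncard_sdiff hXs (Set.toFinite _)
    have h2 : ((stabilizer G a : Subgroup G) : Set G).ncard = Nat.card (stabilizer G a) := rfl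
    have h3 : (X a : Set G).ncard = Nat.card (X a) := rfl
    have h4 : Nat.card B = B.ncard := rfl
    have h5 := h.card_stab_le a
    rw [h4, h1, h2, h3, Nat.sub_mul, one_mul]
    exact Nat.sub_le_sub_right h5 _
  have hcA : ∀ c, Nat.card (A c) = n - 1 := by
    intro c
    have h1 : Nat.card (A c) = (A c).ncard := rfl
    rw [h1, Set.ncard_sdiff_singleton_of_mem (one_mem _)]
    have h2 := h.card_two (a := a) (b := (c : Ω)) (Ne.symm c.2)
    have h3 : (((stabilizer G a ⊓ stabilizer G (c : Ω) : Subgroup G) : Set G)).ncard =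
      Nat.card ↥(stabilizer G a ⊓ stabilizer G (c : Ω)) := rfl
    rw [h3, h2]
  have hcS : Nat.card (Σ c, A c) = Nat.card {c : Ω // c ≠ a} * (n - 1) := by
    rw [Nat.card_sigma, Finset.sum_congr rfl (fun c _ => hcA c), Finset.sum_const, smul_eq_mul,
      Finset.card_univ, Nat.card_eq_fintype_card]
  have hmem : ∀ (c : {c : Ω // c ≠ a}) (y : G), y ∈ A c → y ∈ B := by
    rintro c y ⟨⟨hy1, hy2⟩, hy3⟩
    refine ⟨hy1, fun hyX => hy3 ?_⟩
    exact h.one (Ne.symm c.2) hyX hy2
  let f : (Σ c, A c) → B := fun p => ⟨p.2, hmem p.1 p.2 p.2.2⟩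
  have hf : Function.Injective f := by
    rintro ⟨c, ⟨y, hy⟩⟩ ⟨c', ⟨y', hy'⟩⟩ heq
    have h1 : y = y' := congrArg Subtype.val heq
    subst h1
    have h2 : c' = c := by
      have hy1 : y • a = a := hy.1.1
      have hy2 : y • (c : Ω) = c := hy.1.2
      have hy3 : y • (c' : Ω) = c' := hy'.1.2
      have hyne : y ≠ 1 := fun h0 => hy.2 (by rw [h0]; rfl)
      rcases h.fix_two (Ne.symm c.2) hyne hy1 hy2 hy3 with h3 | h3
      · exact absurd h3 c'.2
      · exact Subtype.ext h3
    subst h2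
    rfl
  have hle : Nat.card B ≤ Nat.card (Σ c, A c) := by
    rw [hcS]
    refine hcB.trans ?_
    rw [mul_comm]
    exact Nat.mul_le_mul_right _ (h.card_X_le hab)
  have hbij := hf.bijective_of_nat_card_le hle
  obtain ⟨⟨c, z⟩, hc⟩ := hbij.2 ⟨y, hya, hy⟩
  have h1 : (z : G) = y := congrArg Subtype.val hc
  have hz : (z : G) • (c : Ω) = c := z.2.1.2
  exact ⟨c, c.2, by rw [← h1]; exact hz⟩

/-- (v) -/
theorem mem_of_comm {a b : Ω} (hab : a ≠ b) {x y : G} (hx : x ∈ X a) (hx1 : x ≠ 1)
    (hy : y * x = x * y) : y ∈ X a := by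
  by_contra hyX
  have hya : y • a = a := h.fix_of_comm hx hx1 hy
  obtain ⟨c, hca, hyc⟩ := h.exists_second hab hya hyX
  have hy1 : y ≠ 1 := by
    rintro rfl
    exact hyX (one_mem _)
  have h1 : y • (x • c) = x • c := by
    rw [← mul_smul, hy, mul_smul, hyc]
  rcases h.fix_two (Ne.symm hca) hy1 hya hyc h1 with h2 | h2
  · have h3 := h.fix a x hx
    rw [← h3] at h2
    exact hca (smul_left_cancel _ h2)
  · exact hx1 (h.one (Ne.symm hca) hx h2)

end RF

end Cfsg.Agent.Lib.NPartR
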