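import Cfsg.Agent.Lib.NPartB4
import Cfsg.Agent.Lib.StrongEmbPt
import Mathlib.GroupTheory.FixedPointFree

/-!
# Partitioned groups: the case of two classes of involutions (for S4248)
-/

set_option autoImplicit false

namespace Cfsg.Agent.Lib.NPartT

open Subgroup SylowRel NPartB

universe u

/-- The configuration after Brauer-Suzuki-Wall: a normal subgroup `L` of index 2 with the structure
of `PSL₂(q)`. -/
structure Two {G : Type u} [Group G] [Finite G] (X : G → Subgroup G) (T : Sylow 2 G) (z t : G)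
    (L Q : Subgroup G) (q : ℕ) : Prop where
  C : CData X T z t
  Ln : L.Normal
  Li : L.index = 2
  zL : z ∈ L
  out : ∃ u, u ∉ L ∧ orderOf u = 2
  conjL : ∀ w ∈ L, orderOf w = 2 → ∃ l ∈ L, l * w * l⁻¹ = z
  QL : Q ≤ L
  cQ : Nat.card Q = q
  odd : Odd q
  five : 5 ≤ q
  cardL : 2 * Nat.card L = q * (q + 1) * (q - 1)
  Qab : ∀ x ∈ Q, ∀ y ∈ Q, x * y = y * x
  centQ : ∀ x ∈ Q, x ≠ 1 → ∀ c ∈ L, c * x = x * c → c ∈ Q
  NQ : 2 * Nat.card ↥(normalizer (Q : Set G) ⊓ L : Subgroup G) = q * (q - 1)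

namespace Two

variable {G : Type u} [Group G] [Finite G] {X : G → Subgroup G} {T : Sylow 2 G} {z t : G}
  {L Q : Subgroup G} {q : ℕ}

theorem mulL (W : Two X T z t L Q q) {a b : G} (ha : a ∉ L) (hb : b ∉ L) : a * b ∈ L := by
  rw [Subgroup.mul_mem_iff_of_index_two W.Li]
  exact ⟨fun h => absurd h ha, fun h => absurd h hb⟩

theorem sqL (W : Two X T z t L Q q) (a : G) : a * a ∈ L := by
  rw [Subgroup.mul_mem_iff_of_index_two W.Li]

theorem eq_one_of_sq (W : Two X T z t L Q q) {x : G} (hx : x ∈ Q) (h : x * x = 1) : x = 1 := by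
  have h1 : orderOf x ∣ q := by
    have := orderOf_dvd_natCard (⟨x, hx⟩ : Q)
    rwa [Subgroup.orderOf_mk, W.cQ] at this
  have h2 : orderOf x ∣ 2 := orderOf_dvd_of_pow_eq_one (by rw [pow_two]; exact h)
  have h3 : orderOf x = 1 := Nat.eq_one_of_dvd_coprimes (Nat.coprime_two_right.2 W.odd) h1 h2
  exact orderOf_eq_one_iff.1 h3

theorem powq (W : Two X T z t L Q q) {x : G} (hx : x ∈ Q) : x ^ q = 1 := by
  have h1 : orderOf x ∣ q := by
    have := orderOf_dvd_natCard (⟨x, hx⟩ : Q)
    rwa [Subgroup.orderOf_mk, W.cQ] at this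
  exact orderOf_dvd_iff_pow_eq_one.1 h1

theorem ti (W : Two X T z t L Q q) {x g : G} (hx : x ∈ Q) (hx1 : x ≠ 1)
    (hg : g⁻¹ * x * g ∈ Q) : g ∈ normalizer (Q : Set G) := by
  have hy1 : g⁻¹ * x * g ≠ 1 := by
    intro h1
    apply hx1
    have := congrArg (fun w => g * w * g⁻¹) h1
    simpa [mul_assoc] using this
  rw [Subgroup.mem_normalizer_iff]
  intro v
  constructor
  · intro hv
    apply W.centQ x hx hx1
    · exact W.Ln.conj_mem _ (W.QL hv) g
    · have h1 := W.Qab v hv _ hg
      calc g * v * g⁻¹ * x = g * (v * (g⁻¹ * x * g)) * g⁻¹ := by group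
        _ = g * ((g⁻¹ * x * g) * v) * g⁻¹ := by rw [h1]
        _ = x * (g * v * g⁻¹) := by group
  · intro hv
    apply W.centQ _ hg hy1
    · have := W.Ln.conj_mem _ (W.QL hv) g⁻¹
      have e : g⁻¹ * (g * v * g⁻¹) * g⁻¹⁻¹ = v := by group
      rwa [e] at this
    · have h1 := W.Qab _ hv x hx
      calc v * (g⁻¹ * x * g) = g⁻¹ * ((g * v * g⁻¹) * x) * g := by group
        _ = g⁻¹ * (x * (g * v * g⁻¹)) * g := by rw [h1]
        _ = g⁻¹ * x * g * v := by group

theorem cardG (W : Two X T z t L Q q) : Nat.card G = q * (q + 1) * (q - 1) := by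
  rw [← W.cardL, ← Subgroup.card_mul_index L, W.Li, mul_comm]

theorem q_pos (W : Two X T z t L Q q) : 0 < q := by have := W.five; omega

theorem relIndexQL (W : Two X T z t L Q q) : 2 * Q.relIndex L = (q + 1) * (q - 1) := by
  have h1 := CIT.card_mul_rel W.QL
  rw [W.cQ] at h1
  have h2 := W.cardL
  rw [← h1] at h2
  have h3 : q * (2 * Q.relIndex L) = q * ((q + 1) * (q - 1)) := by
    rw [← mul_assoc q (q + 1), ← h2]; ring
  exact Nat.eq_of_mul_eq_mul_left W.q_pos h3

theorem frattini (W : Two X T z t L Q q) (g : G) :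
    ∃ l ∈ L, l⁻¹ * g ∈ normalizer (Q : Set G) := by
  have hq1 : q ≠ 1 := by have := W.five; omega
  obtain ⟨p, hp, hpq⟩ := Nat.exists_prime_and_dvd hq1
  have : Fact p.Prime := ⟨hp⟩
  obtain ⟨P, hPQ, hP⟩ : ∃ P : Subgroup G, P ≤ Q ∧ IsSyl p P Q := by
    obtain ⟨P, hP, -⟩ := exists_isSyl (p := p) (Q := (⊥ : Subgroup G)) (H := Q)
      (IsPGroup.of_bot) bot_le
    exact ⟨P, hP.le, hP⟩
  have hP1 : ∃ x ∈ P, x ≠ 1 := by
    by_contra hcon
    push Not at hcon
    have h1 : P = ⊥ := by
      rw [eq_bot_iff]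
      intro x hx
      rw [mem_bot]; exact hcon x hx
    apply hP.not_dvd_relIndex
    rw [h1, Subgroup.relIndex_bot_left, W.cQ]
    exact hpq
  have hPL : IsSyl p P L := by
    apply isSyl_of_not_dvd hP.isPGroup (hPQ.trans W.QL)
    intro h1
    rw [← Subgroup.relIndex_mul_relIndex P Q L hPQ W.QL, hp.dvd_mul] at h1
    rcases h1 with h1 | h1
    · exact hP.not_dvd_relIndex h1
    · have h2 : p ∣ (q + 1) * (q - 1) := by
        rw [← W.relIndexQL]; exact h1.mul_left _
      rw [hp.dvd_mul] at h2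
      have h3 : p ∣ 1 := by
        rcases h2 with h2 | h2
        · exact (Nat.dvd_add_right hpq).1 h2
        · have h4 : p ∣ (q - 1) + 1 := by
            rw [Nat.sub_add_cancel W.q_pos]; exact hpq
          exact (Nat.dvd_add_right h2).1 h4
      exact hp.one_lt.ne' (Nat.dvd_one.1 h3)
  have hgPL : IsSyl p (cj g P) L := by
    have := hPL.cj g
    rwa [cj_eq_of_normal W.Ln] at this
  obtain ⟨l, hl, hlP⟩ := hPL.exists_cj_eq hgPL
  refine ⟨l, hl, ?_⟩
  obtain ⟨x, hx, hx1⟩ := hP1
  have h1 : l * x * l⁻¹ ∈ cj g P := by rw [← hlP]; exact conj_mem_cj hx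
  rw [mem_cj] at h1
  -- (l⁻¹ g)⁻¹ x (l⁻¹ g) ∈ P
  apply W.ti (hPQ hx) hx1
  apply hPQ
  have e : (l⁻¹ * g)⁻¹ * x * (l⁻¹ * g) = g⁻¹ * (l * x * l⁻¹) * g := by group
  rwa [e]

theorem cardN (W : Two X T z t L Q q) :
    Nat.card ↥(normalizer (Q : Set G)) = q * (q - 1) := by
  have := W.Ln
  have h1 : normalizer (Q : Set G) ⊔ L = ⊤ := by
    rw [eq_top_iff]
    intro g _
    obtain ⟨l, hl, hn⟩ := W.frattini g
    have h2 : g = l * (l⁻¹ * g) := by group
    rw [h2]
    exact mul_mem (Subgroup.mem_sup_right hl) (Subgroup.mem_sup_left hn)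
  have h2 : L.relIndex (normalizer (Q : Set G)) = 2 := by
    rw [← Subgroup.relIndex_sup_right, h1, Subgroup.relIndex_top_right, W.Li]
  have h3 : Nat.card ↥(normalizer (Q : Set G) ⊓ L : Subgroup G) *
      L.relIndex (normalizer (Q : Set G)) = Nat.card ↥(normalizer (Q : Set G)) := by
    have := CIT.card_mul_rel
      (inf_le_left : normalizer (Q : Set G) ⊓ L ≤ normalizer (Q : Set G))
    rwa [inf_comm, Subgroup.inf_relIndex_right, inf_comm] at this
  rw [← h3, h2, mul_comm, W.NQ]

theorem indexN (W : Two X T z t L Q q) : (normalizer (Q : Set G)).index = q + 1 := by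
  have h1 := Subgroup.card_mul_index (normalizer (Q : Set G))
  rw [W.cardN, W.cardG] at h1
  have hpos : 0 < q * (q - 1) := by
    have := W.five
    exact Nat.mul_pos W.q_pos (by omega)
  apply Nat.eq_of_mul_eq_mul_left hpos
  rw [h1]; ring

theorem mem_of_pow (W : Two X T z t L Q q) {y : G} (hyL : y ∈ L)
    (hyN : y ∈ normalizer (Q : Set G)) (hy : y ^ q = 1) : y ∈ Q := by
  set K : Subgroup G := normalizer (Q : Set G) ⊓ L with hK
  have hQK : Q ≤ K := le_inf Subgroup.le_normalizer W.QL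
  have hrel : 2 * Q.relIndex K = q - 1 := by
    have h1 := CIT.card_mul_rel hQK
    rw [W.cQ] at h1
    have h2 := W.NQ
    rw [← hK, ← h1] at h2
    apply Nat.eq_of_mul_eq_mul_left W.q_pos
    rw [← h2]; ring
  have hn : (Q.subgroupOf K).Normal := by
    rw [Subgroup.normal_subgroupOf_iff_le_normalizer hQK]
    exact inf_le_left
  have h1 : (⟨y, hyN, hyL⟩ : K) ^ (Q.subgroupOf K).index ∈ Q.subgroupOf K :=
    Subgroup.pow_index_mem _ _
  have h2 : y ^ Q.relIndex K ∈ Q := h1
  have hcop : Nat.Coprime q (Q.relIndex K) := by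
    have h3 : Q.relIndex K ∣ q - 1 := ⟨2, by rw [← hrel]; ring⟩
    apply Nat.Coprime.coprime_dvd_right h3
    have h4 := W.q_pos
    rw [Nat.coprime_comm]
    have : Nat.Coprime (q - 1) ((q - 1) + 1) := by simp
    rwa [Nat.sub_add_cancel h4] at this
  have h3 := Nat.gcd_eq_gcd_ab q (Q.relIndex K)
  rw [Nat.Coprime] at hcop
  rw [hcop] at h3
  have h4 : y = (y ^ q) ^ (Nat.gcdA q (Q.relIndex K)) * (y ^ Q.relIndex K) ^ (Nat.gcdB q (Q.relIndex K)) := by
    rw [← zpow_natCast, ← zpow_natCast, ← zpow_mul, ← zpow_mul, ← zpow_add, ← h3]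
    simp
  rw [h4, hy, one_zpow, one_mul]
  exact zpow_mem h2 _

/-- nontrivial elements of `Q` fix only one point of `G / N(Q)` -/
theorem semireg (W : Two X T z t L Q q) {x g : G} (hx : x ∈ Q) (hx1 : x ≠ 1)
    (hg : g⁻¹ * x * g ∈ normalizer (Q : Set G)) : g ∈ normalizer (Q : Set G) := by
  apply W.ti hx hx1
  apply W.mem_of_pow _ hg
  · have : (g⁻¹ * x * g) ^ q = g⁻¹ * x ^ q * g := by
      have := conj_pow (i := q) (a := g⁻¹) (b := x)
      simpa using this
    rw [this, W.powq hx]; group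
  · have := W.Ln.conj_mem _ (W.QL hx) g⁻¹
    simpa using this

/-- an involution outside `L` commutes with an involution of `L` with small component -/
theorem exists_conj_z (W : Two X T z t L Q q) {u : G} (hu : orderOf u = 2) :
    ∃ g : G, u * (g * z * g⁻¹) = (g * z * g⁻¹) * u := by
  obtain ⟨P, hP⟩ := (IsPGroup.of_card (p := 2) (n := 1) (by
    rw [Nat.card_zpowers, hu, pow_one]) : IsPGroup 2 (zpowers u)).exists_le_sylow
  obtain ⟨g, hg⟩ := MulAction.exists_smul_eq G T P
  refine ⟨g, ?_⟩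
  have h1 : u ∈ (P : Subgroup G) := hP (mem_zpowers u)
  rw [← hg] at h1
  have h2 : g⁻¹ * u * g ∈ (T : Subgroup G) := by
    rw [Sylow.coe_subgroup_smul, Subgroup.mem_pointwise_smul_iff_inv_smul_mem] at h1
    have h3 : (MulAut.conj g)⁻¹ • u = g⁻¹ * u * g := by
      rw [MulAut.smul_def, MulAut.conj_inv_apply]
    rwa [h3] at h1
  have h3 := W.C.TC _ h2
  calc u * (g * z * g⁻¹) = g * ((g⁻¹ * u * g) * z) * g⁻¹ := by group
    _ = g * (z * (g⁻¹ * u * g)) * g⁻¹ := by rw [h3]
    _ = g * z * g⁻¹ * u := by group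

/-- the component of an involution of `L` has only one involution -/
theorem uniqL (h : NP X) (W : Two X T z t L Q q) {w : G} (hw : w ∈ L) (hwo : orderOf w = 2)
    {y : G} (hy : y ∈ X w) (hyy : y * y = 1) (hy1 : y ≠ 1) : y = w := by
  obtain ⟨l, -, hl⟩ := W.conjL w hw hwo
  have h1 : l * y * l⁻¹ ∈ X z := by
    rw [← hl]; exact h.mem_conj hy
  have h2 : (l * y * l⁻¹) * (l * y * l⁻¹) = 1 := by
    have : (l * y * l⁻¹) * (l * y * l⁻¹) = l * (y * y) * l⁻¹ := by group
    rw [this, hyy]; group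
  rcases W.C.Yinv _ h1 h2 with h3 | h3
  · exfalso
    apply hy1
    have := congrArg (fun w => l⁻¹ * w * l) h3
    simpa [mul_assoc] using this
  · rw [← hl] at h3
    have := congrArg (fun w => l⁻¹ * w * l) h3
    simpa [mul_assoc] using this

/-- (U) the component of an involution has only one involution -/
theorem uniq (h : NP X) (W : Two X T z t L Q q) {v : G} (hvo : orderOf v = 2)
    {y : G} (hy : y ∈ X v) (hyy : y * y = 1) (hy1 : y ≠ 1) : y = v := by
  by_cases hv : v ∈ L
  · exact W.uniqL h hv hvo hy hyy hy1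
  have hXy : X y = X v := h.eq hy1 hy
  have hyo : orderOf y = 2 := orderOf_eq_prime (by rw [pow_two]; exact hyy) hy1
  by_cases hyL : y ∈ L
  · exact (W.uniqL h hyL hyo (hXy ▸ h.mem v) (sq hvo) (ne_one hvo)).symm
  · obtain ⟨g, hg⟩ := W.exists_conj_z hvo
    set c := g * z * g⁻¹ with hc
    have hcL : c ∈ L := W.Ln.conj_mem _ W.zL g
    have hco : orderOf c = 2 := by rw [hc, orderOf_conj, W.C.hz]
    have hcX : c ∉ X v := by
      intro h1
      have h2 : X c = X v := h.eq (ne_one hco) h1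
      have h3 := W.uniqL h hcL hco (h2 ▸ h.mem v) (sq hvo) (ne_one hvo)
      exact hv (h3 ▸ hcL)
    have hab := comm_of_comm h hvo hg.symm hcX
    by_contra hne
    have h1 : (v * y) * (v * y) = 1 := by
      have h2 := hab v (h.mem v) y hy
      calc (v * y) * (v * y) = (v * y) * (y * v) := by rw [← h2]
        _ = v * (y * y) * v := by group
        _ = 1 := by rw [hyy, mul_one, sq hvo]
    have h2 : v * y ≠ 1 := by
      intro h3
      apply hne
      have h4 := eq_inv_of_mul_eq_one_right h3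
      rw [h4, inv_eq_of_mul_eq_one_left (sq hvo)]
    have h3 : v * y ∈ L := W.mulL hv hyL
    have h4 : v * y ∈ X v := mul_mem (h.mem v) hy
    have h5 : X (v * y) = X v := h.eq h2 h4
    have h6 := W.uniqL h h3 (orderOf_eq_prime (by rw [pow_two]; exact h1) h2)
      (h5 ▸ h.mem v) (sq hvo) (ne_one hvo)
    exact hv (h6 ▸ h3)

/-- the points -/
theorem card_pts (W : Two X T z t L Q q) : Nat.card (G ⧸ normalizer (Q : Set G)) = q + 1 := by
  rw [← Subgroup.index_eq_card, W.indexN]

theorem fix_base (W : Two X T z t L Q q) {x g : G} (hx : x ∈ Q) (hx1 : x ≠ 1)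
    (hg : x • (QuotientGroup.mk g : G ⧸ normalizer (Q : Set G)) = QuotientGroup.mk g) :
    g ∈ normalizer (Q : Set G) :=
  W.semireg hx hx1 ((StrongEmbPt.smul_mk_eq_iff x g).1 hg)

theorem fix_base' (W : Two X T z t L Q q) {x : G} {b : G ⧸ normalizer (Q : Set G)}
    (hb : b ≠ QuotientGroup.mk 1) (hx : x ∈ Q) (hg : x • b = b) : x = 1 := by
  induction b using QuotientGroup.induction_on with
  | H g =>
  by_contra hx1
  apply hb
  rw [QuotientGroup.eq]
  have := W.fix_base hx hx1 hg
  simpa using this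

omit [Finite G] in
theorem base_fix {x : G} (hx : x ∈ normalizer (Q : Set G)) :
    x • (QuotientGroup.mk 1 : G ⧸ normalizer (Q : Set G)) = QuotientGroup.mk 1 :=
  (StrongEmbPt.smul_one_eq_iff x).2 hx

/-- `Q` is transitive on the points different from the base point -/
theorem trans_pts (W : Two X T z t L Q q) {b c : G ⧸ normalizer (Q : Set G)}
    (hb : b ≠ QuotientGroup.mk 1) (hc : c ≠ QuotientGroup.mk 1) : ∃ x ∈ Q, x • b = c := by
  classical
  have := Fintype.ofFinite (G ⧸ normalizer (Q : Set G))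
  have hne : ∀ x : Q, (x : G) • b ≠ QuotientGroup.mk 1 := by
    intro x h1
    apply hb
    have h2 := base_fix (Subgroup.le_normalizer x.2)
    rw [← h2] at h1
    exact smul_left_cancel _ h1
  let f : Q → {p : G ⧸ normalizer (Q : Set G) // p ≠ QuotientGroup.mk 1} :=
    fun x => ⟨(x : G) • b, hne x⟩
  have hf : Function.Injective f := by
    intro x y hxy
    have h1 : (x : G) • b = (y : G) • b := congrArg Subtype.val hxy
    have h2 : ((x : G)⁻¹ * y) • b = b := by rw [mul_smul, inv_smul_eq_iff, h1]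
    have h3 := W.fix_base' hb (mul_mem (inv_mem x.2) y.2) h2
    exact Subtype.ext (inv_mul_eq_one.1 h3)
  have hcard : Nat.card {p : G ⧸ normalizer (Q : Set G) // p ≠ QuotientGroup.mk 1} ≤ Nat.card Q := by
    rw [W.cQ, Nat.card_eq_fintype_card, Fintype.card_subtype_compl, Fintype.card_subtype_eq,
      ← Nat.card_eq_fintype_card, W.card_pts]
    simp
  have := (hf.bijective_of_nat_card_le hcard).2 ⟨c, hc⟩
  obtain ⟨x, hx⟩ := this
  exact ⟨x, x.2, congrArg Subtype.val hx⟩

theorem exists_ne (W : Two X T z t L Q q) : ∃ b : G ⧸ normalizer (Q : Set G),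
    b ≠ QuotientGroup.mk 1 := by
  have h1 := W.card_pts
  have : 1 < Nat.card (G ⧸ normalizer (Q : Set G)) := by rw [h1]; have := W.five; omega
  have := (Finite.one_lt_card_iff_nontrivial).1 this
  exact _root_.exists_ne _

/-- the claim: no involution commutes with a nontrivial element of `Q` -/
theorem no_inv (h : NP X) (hab : NoAb G) (W : Two X T z t L Q q) {x u : G} (hx : x ∈ Q)
    (hx1 : x ≠ 1) (hu : orderOf u = 2) (hc : u * x = x * u) : False := by
  have huL : u ∉ L := by
    intro h1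
    exact ne_one hu (W.eq_one_of_sq (W.centQ x hx hx1 u h1 hc) (sq hu))
  have hXx : X x = X u := by
    apply h.same_of_order_ne hx1 (ne_one hu) hc.symm
    rw [hu]
    intro h1
    exact hx1 (W.eq_one_of_sq hx (sq h1))
  -- `u` centralizes `Q`
  have hcen : ∀ v ∈ Q, u * v = v * u := by
    intro v hv
    have h1 : v * u * v⁻¹ ∈ X u := by
      have := h.conj_mem_of_commute (c := v) (a := x) (x := u) (W.Qab v hv x hx)
        (by rw [hXx]; exact h.mem u)
      rwa [hXx] at this
    have h2 : (v * u * v⁻¹) * (v * u * v⁻¹) = 1 := by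
      have : (v * u * v⁻¹) * (v * u * v⁻¹) = v * (u * u) * v⁻¹ := by group
      rw [this, sq hu]; group
    have h3 : v * u * v⁻¹ ≠ 1 := by
      have := ne_one hu
      simpa using this
    have h4 := W.uniq h hu h1 h2 h3
    have h5 : v * u * v⁻¹ * v = u * v := by rw [h4]
    simpa using h5.symm
  have huN : u ∈ normalizer (Q : Set G) := by
    rw [Subgroup.mem_normalizer_iff]
    intro v
    constructor
    · intro hv
      have : u * v * u⁻¹ = v := by rw [hcen v hv]; group
      rwa [this]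
    · intro hv
      have h1 := hcen _ hv
      have h2 : u * v * u⁻¹ = v := by
        have h3 : u⁻¹ * (u * (u * v * u⁻¹)) * u = u⁻¹ * ((u * v * u⁻¹) * u) * u := by rw [h1]
        have h4 : u * v = v * u := by simpa [mul_assoc] using h3
        rw [h4]; group
      rwa [h2] at hv
  -- `u` fixes all points
  have hfix : ∀ b : G ⧸ normalizer (Q : Set G), u • b = b := by
    intro b
    by_cases hb : b = QuotientGroup.mk 1
    · rw [hb]; exact base_fix huN
    have hub : u • b ≠ QuotientGroup.mk 1 := by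
      intro h1
      apply hb
      rw [← base_fix huN] at h1
      exact smul_left_cancel _ h1
    obtain ⟨y, hy, hyb⟩ := W.trans_pts hb hub
    have h1 : (y * y) • b = b := by
      have h2 : u • (u • b) = b := by rw [← mul_smul, sq hu, one_smul]
      rw [← hyb] at h2
      rw [← mul_smul, hcen y hy, mul_smul, ← hyb, ← mul_smul] at h2
      exact h2
    have h2 := W.fix_base' hb (mul_mem hy hy) h1
    have h3 := W.eq_one_of_sq hy h2
    rw [← hyb, h3, one_smul]
  -- the kernel
  set R := (normalizer (Q : Set G)).normalCore with hR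
  have hRfix : ∀ r ∈ R, ∀ b : G ⧸ normalizer (Q : Set G), r • b = b := by
    intro r hr b
    induction b using QuotientGroup.induction_on with
    | H g =>
    rw [StrongEmbPt.smul_mk_eq_iff]
    have := (Subgroup.normalCore_normal (normalizer (Q : Set G))).conj_mem r hr g⁻¹
    have h1 := Subgroup.normalCore_le _ this
    simpa using h1
  have hRmem : ∀ r : G, (∀ b : G ⧸ normalizer (Q : Set G), r • b = b) → r ∈ R := by
    intro r hr g
    have := (StrongEmbPt.smul_mk_eq_iff r g⁻¹).1 (hr _)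
    simpa using this
  have huR : u ∈ R := hRmem u hfix
  obtain ⟨b, hb⟩ := W.exists_ne
  have hRQ : ∀ r ∈ R, r ∈ Q → r = 1 := fun r hr hrQ => W.fix_base' hb hrQ (hRfix r hr b)
  have hRn : R.Normal := Subgroup.normalCore_normal _
  have hRL : ∀ r ∈ R, r ∈ L → r = 1 := by
    intro r hr hrL
    apply hRQ r hr
    apply W.centQ x hx hx1 r hrL
    have h1 : r * x * r⁻¹ * x⁻¹ ∈ R := by
      have := hRn.conj_mem _ (inv_mem hr) x
      have h2 := mul_mem hr this
      have e : r * (x * r⁻¹ * x⁻¹) = r * x * r⁻¹ * x⁻¹ := by group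
      rwa [e] at h2
    have h2 : r * x * r⁻¹ * x⁻¹ ∈ Q := by
      have h3 := (Subgroup.mem_normalizer_iff.1 (Subgroup.normalCore_le _ hr) x).1 hx
      exact mul_mem h3 (inv_mem hx)
    have h3 := hRQ _ h1 h2
    have h4 : r * x * r⁻¹ * x⁻¹ * (x * r) = x * r := by rw [h3, one_mul]
    simpa [mul_assoc] using h4
  have hRab : ∀ r ∈ R, ∀ s ∈ R, r * s = s * r := by
    have key : ∀ r ∈ R, r = 1 ∨ r = u := by
      intro r hr
      by_cases hrL : r ∈ L
      · exact Or.inl (hRL r hr hrL)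
      · right
        have h1 := hRL (r * u) (mul_mem hr huR) (W.mulL hrL huL)
        have h2 := eq_inv_of_mul_eq_one_left h1
        rw [h2, inv_eq_of_mul_eq_one_left (sq hu)]
    intro r hr s hs
    rcases key r hr with rfl | rfl
    · simp
    · rcases key s hs with rfl | rfl
      · simp
      · rfl
  have h1 := hab R hRn hRab
  rw [h1, mem_bot] at huR
  exact ne_one hu huR

end Two

end Cfsg.Agent.Lib.NPartT
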