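import Cfsg.Agent.Lib.NPartT
import Cfsg.Agent.S3043

/-!
# Partitioned groups: the case of two classes of involutions, counting (for S4248)
-/

set_option autoImplicit false

namespace Cfsg.Agent.Lib.NPartT

open Subgroup SylowRel NPartB

universe u

/-- orbit counting -/
theorem card_le_of_orbit {G Ω : Type*} [Group G] [Finite G] [MulAction G Ω] [Finite Ω]
    (C : Subgroup G) (A : Set Ω) (b : Ω) (hA : ∀ c ∈ C, c • b ∈ A) {m n : ℕ} (hm : A.ncard ≤ m)
    (hn : Nat.card ↥(C ⊓ MulAction.stabilizer G b) ≤ n) : Nat.card C ≤ m * n := by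
  have h1 := MulAction.index_stabilizer C b
  have h2 := Subgroup.card_mul_index (MulAction.stabilizer C b)
  have h3 : (MulAction.orbit C b) ⊆ A := by
    rintro _ ⟨c, rfl⟩
    exact hA c c.2
  have h4 : (MulAction.orbit C b).ncard ≤ m := (Set.ncard_le_ncard h3 (Set.toFinite _)).trans hm
  have h5 : Nat.card (MulAction.stabilizer C b) = Nat.card ↥(C ⊓ MulAction.stabilizer G b) := by
    have h6 : (MulAction.stabilizer C b).map C.subtype = C ⊓ MulAction.stabilizer G b := by
      ext v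
      constructor
      · rintro ⟨k, hk, rfl⟩
        exact ⟨k.2, hk⟩
      · rintro ⟨hv, hv2⟩
        exact ⟨⟨v, hv⟩, hv2, rfl⟩
    rw [← h6, Subgroup.card_map_of_injective C.subtype_injective]
  rw [← h2, h5, h1, mul_comm]
  exact Nat.mul_le_mul h4 hn

namespace Two

variable {G : Type u} [Group G] [Finite G] {X : G → Subgroup G} {T : Sylow 2 G} {z t : G}
  {L Q : Subgroup G} {q : ℕ}

/-- a square root in `Q` -/
theorem exists_sqrt (W : Two X T z t L Q q) {y : G} (hy : y ∈ Q) : ∃ x ∈ Q, x * x = y := by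
  obtain ⟨k, hk⟩ := W.odd
  refine ⟨y ^ (k + 1), pow_mem hy _, ?_⟩
  have h1 := W.powq hy
  rw [← pow_add]
  have : k + 1 + (k + 1) = q + 1 := by omega
  rw [this, pow_succ, h1, one_mul]

theorem exists_ne_one (W : Two X T z t L Q q) : ∃ x ∈ Q, x ≠ 1 := by
  by_contra hcon
  push Not at hcon
  have h1 : Q = ⊥ := by
    rw [eq_bot_iff]
    intro x hx
    rw [mem_bot]; exact hcon x hx
  have h2 := W.cQ
  rw [h1, Subgroup.card_bot] at h2
  have := W.five
  omega

theorem centG (h : NP X) (hab : NoAb G) (W : Two X T z t L Q q) {x c : G} (hx : x ∈ Q)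
    (hx1 : x ≠ 1) (hc : c * x = x * c) : c ∈ Q := by
  have hcx : Commute c x := hc
  have h1 : c * c ∈ Q := W.centQ x hx hx1 _ (W.sqL c) (hcx.mul_left hcx).eq
  have h2 : c ^ q * c ^ q = 1 := by
    rw [← (Commute.refl c).mul_pow, W.powq h1]
  have h3 : c ^ q = 1 := by
    by_contra hne
    exact W.no_inv h hab hx hx1 (orderOf_eq_prime (by rw [pow_two]; exact h2) hne)
      (hcx.pow_left q).eq
  obtain ⟨k, hk⟩ := W.odd
  have h4 : c = (c * c) ^ (k + 1) := by
    rw [(Commute.refl c).mul_pow, ← pow_add]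
    have : k + 1 + (k + 1) = q + 1 := by omega
    rw [this, pow_succ, h3, one_mul]
  rw [h4]
  exact pow_mem h1 _

theorem inverts (h : NP X) (hab : NoAb G) (W : Two X T z t L Q q) {τ : G}
    (hτN : τ ∈ normalizer (Q : Set G)) (hτ : orderOf τ = 2) {x : G} (hx : x ∈ Q) :
    τ * x * τ⁻¹ = x⁻¹ := by
  have hss : τ * τ = 1 := sq hτ
  have hsi : τ⁻¹ = τ := inv_eq_of_mul_eq_one_left hss
  have hmem : ∀ x : Q, τ * (x : G) * τ⁻¹ ∈ Q := fun x =>
    (Subgroup.mem_normalizer_iff.1 hτN x).1 x.2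
  let φ : Q →* Q :=
    { toFun := fun x => ⟨τ * (x : G) * τ⁻¹, hmem x⟩
      map_one' := by ext; simp
      map_mul' := by intro x y; ext; simp }
  have hfpf : MonoidHom.FixedPointFree φ := by
    intro x hx
    by_contra hx1
    have h1 : τ * (x : G) * τ⁻¹ = x := congrArg Subtype.val hx
    have h2 : τ * (x : G) = x * τ := by
      have : τ * (x : G) * τ⁻¹ * τ = x * τ := by rw [h1]
      simpa using this
    exact W.no_inv h hab x.2 (fun h3 => hx1 (Subtype.ext h3)) hτ h2
  have hinv : Function.Involutive φ := by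
    intro x
    apply Subtype.ext
    show τ * (τ * (x : G) * τ⁻¹) * τ⁻¹ = x
    rw [hsi]
    calc τ * (τ * (x : G) * τ) * τ = (τ * τ) * x * (τ * τ) := by group
      _ = x := by rw [hss]; group
  have h1 := hfpf.coe_eq_inv_of_involutive hinv
  have h2 := congrFun h1 ⟨x, hx⟩
  exact congrArg Subtype.val h2

/-- product of two involutions of `N(Q)` -/
theorem mul_mem_Q (h : NP X) (hab : NoAb G) (W : Two X T z t L Q q) {σ τ : G}
    (hτN : τ ∈ normalizer (Q : Set G)) (hτ : orderOf τ = 2)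
    (hσN : σ ∈ normalizer (Q : Set G)) (hσ : orderOf σ = 2) : τ * σ ∈ Q := by
  obtain ⟨x, hx, hx1⟩ := W.exists_ne_one
  apply W.centG h hab hx hx1
  have h1 := W.inverts h hab hτN hτ (inv_mem hx)
  have h2 := W.inverts h hab hσN hσ hx
  rw [inv_inv] at h1
  have h3 : τ * σ * x * (τ * σ)⁻¹ = x := by
    calc τ * σ * x * (τ * σ)⁻¹ = τ * (σ * x * σ⁻¹) * τ⁻¹ := by group
      _ = x := by rw [h2, h1]
  have h4 : τ * σ * x = τ * σ * x * (τ * σ)⁻¹ * (τ * σ) := by group
  rw [h4, h3]

/-- the involutions of `N(Q)` are conjugate under `Q` -/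
theorem conj_inv (h : NP X) (hab : NoAb G) (W : Two X T z t L Q q) {σ τ : G}
    (hτN : τ ∈ normalizer (Q : Set G)) (hτ : orderOf τ = 2)
    (hσN : σ ∈ normalizer (Q : Set G)) (hσ : orderOf σ = 2) : ∃ x ∈ Q, x * τ * x⁻¹ = σ := by
  obtain ⟨x, hx, hxy⟩ := W.exists_sqrt (W.mul_mem_Q h hab hτN hτ hσN hσ)
  refine ⟨x⁻¹, inv_mem hx, ?_⟩
  have h1 := W.inverts h hab hτN hτ hx
  have hsi : τ⁻¹ = τ := inv_eq_of_mul_eq_one_left (sq hτ)
  have h2 : x⁻¹ * τ = τ * x := by rw [← h1]; group
  calc x⁻¹ * τ * x⁻¹⁻¹ = τ * (x * x) := by rw [h2]; group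
    _ = (τ * τ) * σ := by rw [hxy]; group
    _ = σ := by rw [sq hτ, one_mul]

theorem exists_tau (W : Two X T z t L Q q) : ∃ τ ∈ normalizer (Q : Set G), orderOf τ = 2 := by
  apply StrongEmbPt.exists_involution
  rw [W.cardN]
  obtain ⟨k, hk⟩ := W.odd
  refine ⟨q * k, ?_⟩
  have : q - 1 = k + k := by omega
  rw [this]; ring

omit [Finite G] in
theorem ne_base {b : G ⧸ normalizer (Q : Set G)} (hb : b ≠ QuotientGroup.mk 1) {n : G}
    (hn : n ∈ normalizer (Q : Set G)) : n • b ≠ QuotientGroup.mk 1 := by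
  intro h1
  apply hb
  rw [← base_fix hn] at h1
  exact smul_left_cancel _ h1

/-- an involution of `N(Q)` fixing a given second point -/
theorem exists_tau_fix (h : NP X) (hab : NoAb G) (W : Two X T z t L Q q)
    {b : G ⧸ normalizer (Q : Set G)} (hb : b ≠ QuotientGroup.mk 1) :
    ∃ τ ∈ normalizer (Q : Set G), orderOf τ = 2 ∧ τ • b = b := by
  obtain ⟨τ, hτN, hτ⟩ := W.exists_tau
  obtain ⟨x, hx, hxb⟩ := W.trans_pts hb (ne_base hb hτN)
  obtain ⟨y, hy, hyx⟩ := W.exists_sqrt hx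
  have h1 := W.inverts h hab hτN hτ hy
  have hsi : τ⁻¹ = τ := inv_eq_of_mul_eq_one_left (sq hτ)
  have h2 : τ * y = y⁻¹ * τ := by rw [← h1]; group
  have h3 : τ • (y • b) = y • b := by
    rw [← mul_smul, h2, mul_smul, ← hxb, ← mul_smul, ← hyx]
    congr 1
    group
  refine ⟨y⁻¹ * τ * y, ?_, ?_, ?_⟩
  · exact mul_mem (mul_mem (inv_mem (Subgroup.le_normalizer hy)) hτN) (Subgroup.le_normalizer hy)
  · have := orderOf_conj y⁻¹ τ
    rw [inv_inv] at this
    rw [this, hτ]
  · rw [mul_smul, mul_smul, h3, ← mul_smul, inv_mul_cancel, one_smul]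

/-- two involutions of `N(Q)` fixing a common second point are equal -/
theorem tau_unique (h : NP X) (hab : NoAb G) (W : Two X T z t L Q q)
    {b : G ⧸ normalizer (Q : Set G)} (hb : b ≠ QuotientGroup.mk 1) {σ τ : G}
    (hτN : τ ∈ normalizer (Q : Set G)) (hτ : orderOf τ = 2) (hτb : τ • b = b)
    (hσN : σ ∈ normalizer (Q : Set G)) (hσ : orderOf σ = 2) (hσb : σ • b = b) : σ = τ := by
  have h1 := W.mul_mem_Q h hab hτN hτ hσN hσ
  have h2 := W.fix_base' hb h1 (by rw [mul_smul, hσb, hτb])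
  have h3 := eq_inv_of_mul_eq_one_right h2
  rw [h3, inv_eq_of_mul_eq_one_left (sq hτ)]

/-- centralizer of an involution without fixed points -/
theorem card_cent_v (h : NP X) (hab : NoAb G) (W : Two X T z t L Q q) {v : G} (hv : orderOf v = 2)
    (hvf : ∀ b : G ⧸ normalizer (Q : Set G), v • b ≠ b) :
    Nat.card (centralizer ({v} : Set G)) ≤ (q + 1) * 2 := by
  set a : G ⧸ normalizer (Q : Set G) := QuotientGroup.mk 1 with ha
  refine card_le_of_orbit _ Set.univ a (fun _ _ => Set.mem_univ _) ?_ ?_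
  · rw [Set.ncard_univ, W.card_pts]
  obtain ⟨τ, hτN, hτ, hτb⟩ := W.exists_tau_fix h hab (hvf a)
  have key : ∀ s ∈ centralizer ({v} : Set G) ⊓ MulAction.stabilizer G a, s = 1 ∨ s = τ := by
    rintro s ⟨hs1, hs2⟩
    replace hs1 := mem_centralizer_singleton_iff.1 hs1
    have hsN : s ∈ normalizer (Q : Set G) := (StrongEmbPt.smul_one_eq_iff s).1 hs2
    have hsb : s • (v • a) = v • a := by
      rw [← mul_smul, hs1, mul_smul]
      congr 1
    by_cases hs : s = 1
    · exact Or.inl hs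
    right
    by_cases hso : orderOf s = 2
    · exact W.tau_unique h hab (hvf a) hτN hτ hτb hsN hso hsb
    exfalso
    have hsτ : s * τ = τ * s := by
      have h1 : s * τ * s⁻¹ = τ := by
        refine W.tau_unique h hab (hvf a) hτN hτ hτb ?_ ?_ ?_
        · exact mul_mem (mul_mem hsN hτN) (inv_mem hsN)
        · rw [orderOf_conj, hτ]
        · have h2 : s⁻¹ • (v • a) = v • a := by rw [inv_smul_eq_iff, hsb]
          rw [mul_smul, mul_smul, h2, hτb, hsb]
      have h2 : s * τ * s⁻¹ * s = τ * s := by rw [h1]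
      simpa using h2
    have h1 : X s = X v := h.same_of_order_ne hs (ne_one hv) hs1 (by rw [hv]; exact hso)
    have h2 : X s = X τ := h.same_of_order_ne hs (ne_one hτ) hsτ (by rw [hτ]; exact hso)
    have h3 : τ ∈ X v := by rw [← h1, h2]; exact h.mem τ
    have h4 := W.uniq h hv h3 (sq hτ) (ne_one hτ)
    apply hvf a
    rw [← h4]
    exact base_fix hτN
  have h1 : ((centralizer ({v} : Set G) ⊓ MulAction.stabilizer G a : Subgroup G) : Set G) ⊆
      {1, τ} := by
    intro s hs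
    rcases key s hs with h1 | h1 <;> simp [h1]
  have h2 := Set.ncard_le_ncard h1 (Set.toFinite _)
  have h3 : ({1, τ} : Set G).ncard ≤ 2 := Set.ncard_insert_le _ _ |>.trans (by simp)
  exact h2.trans h3

/-- centralizer of an involution of `N(Q)` -/
theorem card_cent_tau (h : NP X) (hab : NoAb G) (W : Two X T z t L Q q) {τ : G}
    (hτN : τ ∈ normalizer (Q : Set G)) (hτ : orderOf τ = 2) :
    Nat.card (centralizer ({τ} : Set G)) ≤ 2 * (q - 1) := by
  classical
  set a : G ⧸ normalizer (Q : Set G) := QuotientGroup.mk 1 with ha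
  have hfix : ∀ b c : G ⧸ normalizer (Q : Set G), b ≠ a → c ≠ a → τ • b = b → τ • c = c → b = c := by
    intro b c hb hc hτb hτc
    obtain ⟨x, hx, hxb⟩ := W.trans_pts hb hc
    have h1 := W.inverts h hab hτN hτ hx
    have h2 : τ * x = x⁻¹ * τ := by rw [← h1]; group
    rw [← hxb, ← mul_smul, h2, mul_smul, hτb, inv_smul_eq_iff, ← mul_smul] at hτc
    have h3 := W.fix_base' hb (mul_mem hx hx) hτc.symm
    have h4 := W.eq_one_of_sq hx h3
    rw [← hxb, h4, one_smul]
  refine card_le_of_orbit _ {b | τ • b = b} a ?_ ?_ ?_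
  · intro c hc
    replace hc := mem_centralizer_singleton_iff.1 hc
    show τ • (c • a) = c • a
    rw [← mul_smul, ← hc, mul_smul]
    congr 1
    exact base_fix hτN
  · by_contra hcon
    push Not at hcon
    rw [Set.two_lt_ncard (Set.toFinite _)] at hcon
    obtain ⟨b, hb, c, hc, d, hd, hbc, hbd, hcd⟩ := hcon
    by_cases h1 : b = a
    · subst h1
      exact hcd (hfix c d hbc.symm hbd.symm hc hd)
    · by_cases h2 : c = a
      · subst h2
        exact hbd (hfix b d hbc hcd.symm hb hd)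
      · exact hbc (hfix b c h1 h2 hb hc)
  · set D : Subgroup G := centralizer ({τ} : Set G) ⊓ MulAction.stabilizer G a with hD
    have hDN : D ≤ normalizer (Q : Set G) := by
      rintro s ⟨-, hs⟩
      exact (StrongEmbPt.smul_one_eq_iff s).1 hs
    have hDQ : Q ⊓ D = ⊥ := by
      rw [eq_bot_iff]
      rintro s ⟨hs1, hs2, -⟩
      replace hs2 := mem_centralizer_singleton_iff.1 hs2
      rw [mem_bot]
      by_contra hs
      exact W.no_inv h hab hs1 hs hτ hs2.symm
    have h1 : Q.relIndex D ≤ Q.relIndex (normalizer (Q : Set G)) :=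
      Subgroup.relIndex_le_of_le_right hDN (Subgroup.index_ne_zero_of_finite)
    have h2 : Q.relIndex D = Nat.card D := by
      rw [← Subgroup.inf_relIndex_right, hDQ, Subgroup.relIndex_bot_left]
    have h3 : Q.relIndex (normalizer (Q : Set G)) = q - 1 := by
      have h4 := CIT.card_mul_rel (Subgroup.le_normalizer : Q ≤ normalizer (Q : Set G))
      rw [W.cQ, W.cardN] at h4
      exact Nat.eq_of_mul_eq_mul_left W.q_pos h4
    rw [h2, h3] at h1
    exact h1

omit [Finite G] in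
theorem card_class (u : G) :
    Nat.card G = Set.ncard {v : G | ∃ k : G, k * u * k⁻¹ = v} *
      Nat.card (centralizer ({u} : Set G)) := by
  have h1 := InvAct.card_conj_orbit (⊤ : Subgroup G) u
  rw [top_inf_eq, Subgroup.card_top] at h1
  rw [h1]
  congr 2
  ext v
  simp

/-- there are more than `|G : Q|` involutions -/
theorem card_inv (h : NP X) (hab : NoAb G) (W : Two X T z t L Q q) :
    Q.index < Nat.card {g : G // orderOf g = 2} := by
  obtain ⟨τ, hτN, hτ⟩ := W.exists_tau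
  -- a fixed point free involution
  obtain ⟨v, hv, hvf⟩ : ∃ v : G, orderOf v = 2 ∧ ∀ b : G ⧸ normalizer (Q : Set G), v • b ≠ b := by
    by_contra hcon
    push Not at hcon
    have key : ∀ w : G, orderOf w = 2 → ∃ k : G, k * τ * k⁻¹ = w := by
      intro w hw
      obtain ⟨b, hb⟩ := hcon w hw
      induction b using QuotientGroup.induction_on with
      | H g =>
      rw [StrongEmbPt.smul_mk_eq_iff] at hb
      obtain ⟨x, hx, hxx⟩ := W.conj_inv h hab hτN hτ hb (by
        have := orderOf_conj g⁻¹ w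
        rw [inv_inv] at this
        rw [this, hw])
      refine ⟨g * x, ?_⟩
      calc g * x * τ * (g * x)⁻¹ = g * (x * τ * x⁻¹) * g⁻¹ := by group
        _ = w := by rw [hxx]; group
    obtain ⟨u, huL, hu⟩ := W.out
    obtain ⟨k, hk⟩ := key u hu
    obtain ⟨l, hl⟩ := key z W.C.hz
    apply huL
    have h1 : (k * l⁻¹) * z * (k * l⁻¹)⁻¹ = u := by rw [← hk, ← hl]; group
    rw [← h1]
    exact W.Ln.conj_mem _ W.zL _
  set A : Set G := {w : G | ∃ k : G, k * τ * k⁻¹ = w} with hA
  set B : Set G := {w : G | ∃ k : G, k * v * k⁻¹ = w} with hB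
  have hdisj : Disjoint A B := by
    rw [Set.disjoint_left]
    rintro w ⟨k, hk⟩ ⟨l, hl⟩
    apply hvf (QuotientGroup.mk (l⁻¹ * k))
    rw [StrongEmbPt.smul_mk_eq_iff]
    have h1 : (l⁻¹ * k)⁻¹ * v * (l⁻¹ * k) = τ := by
      calc (l⁻¹ * k)⁻¹ * v * (l⁻¹ * k) = k⁻¹ * (l * v * l⁻¹) * k := by group
        _ = k⁻¹ * (k * τ * k⁻¹) * k := by rw [hl, hk]
        _ = τ := by group
    rw [h1]; exact hτN
  have hsub : A ∪ B ⊆ {g : G | orderOf g = 2} := by
    rintro w (⟨k, rfl⟩ | ⟨k, rfl⟩)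
    · show orderOf _ = 2
      rw [orderOf_conj, hτ]
    · show orderOf _ = 2
      rw [orderOf_conj, hv]
  have h1 : A.ncard + B.ncard ≤ Nat.card {g : G // orderOf g = 2} := by
    rw [← Set.ncard_union_eq hdisj (Set.toFinite _) (Set.toFinite _)]
    exact Set.ncard_le_ncard hsub (Set.toFinite _)
  have hA1 := card_class τ
  have hB1 := card_class v
  rw [← hA] at hA1
  rw [← hB] at hB1
  have hA2 : q * (q + 1) ≤ 2 * A.ncard := by
    have h2 := Nat.mul_le_mul_left A.ncard (W.card_cent_tau h hab hτN hτ)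
    rw [← hA1, W.cardG] at h2
    have h3 : 0 < q - 1 := by have := W.five; omega
    apply Nat.le_of_mul_le_mul_right _ h3
    calc q * (q + 1) * (q - 1) ≤ A.ncard * (2 * (q - 1)) := h2
      _ = 2 * A.ncard * (q - 1) := by ring
  have hB2 : q * (q - 1) ≤ 2 * B.ncard := by
    have h2 := Nat.mul_le_mul_left B.ncard (W.card_cent_v h hab hv hvf)
    rw [← hB1, W.cardG] at h2
    have h3 : 0 < q + 1 := by omega
    apply Nat.le_of_mul_le_mul_right _ h3
    calc q * (q - 1) * (q + 1) = q * (q + 1) * (q - 1) := by ring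
      _ ≤ B.ncard * ((q + 1) * 2) := h2
      _ = 2 * B.ncard * (q + 1) := by ring
  have hidx : Q.index = (q + 1) * (q - 1) := by
    have h2 := Subgroup.card_mul_index Q
    rw [W.cQ, W.cardG] at h2
    apply Nat.eq_of_mul_eq_mul_left W.q_pos
    rw [h2]; ring
  rw [hidx]
  refine lt_of_lt_of_le ?_ h1
  obtain ⟨k, hk⟩ : ∃ k, q = k + 1 := ⟨q - 1, by have := W.five; omega⟩
  subst hk
  simp only [Nat.add_sub_cancel] at *
  nlinarith

/-- the conclusion of case (III) -/
def PG (G : Type u) [Group G] : Prop :=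
  (∃ (F : Type) (_ : Field F) (_ : Fintype F), 4 ≤ Fintype.card F ∧
      Nonempty (G ≃* Matrix.ProjectiveSpecialLinearGroup (Fin 2) F)) ∨
  (∃ (F : Type) (_ : Field F) (_ : Fintype F), 5 ≤ Fintype.card F ∧ Odd (Fintype.card F) ∧
      Nonempty (G ≃* (GL (Fin 2) F ⧸ Subgroup.center (GL (Fin 2) F))))

theorem main (h : NP X) (hab : NoAb G) (W : Two X T z t L Q q) : PG G := by
  obtain ⟨τ, hτN, hτ⟩ := W.exists_tau
  have hQ1 : Q ≠ ⊥ := by
    intro h1
    obtain ⟨x, hx, hx1⟩ := W.exists_ne_one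
    rw [h1, mem_bot] at hx
    exact hx1 hx
  have hTI : ∀ g : G, Q ⊓ Q.map (MulAut.conj g).toMonoidHom ≠ ⊥ →
      Q.map (MulAut.conj g).toMonoidHom = Q := by
    intro g hg
    obtain ⟨x, hx, hx1⟩ : ∃ x ∈ Q ⊓ Q.map (MulAut.conj g).toMonoidHom, x ≠ 1 := by
      by_contra hcon
      push Not at hcon
      apply hg
      rw [eq_bot_iff]
      intro x hx
      rw [mem_bot]; exact hcon x hx
    exact mem_normalizer_iff_cj.1 (W.ti hx.1 hx1 (mem_cj.1 hx.2))
  have hfac : Q ⊔ (normalizer (Q : Set G) ⊓ centralizer ({τ} : Set G)) = normalizer (Q : Set G) := by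
    apply le_antisymm
    · exact sup_le Subgroup.le_normalizer inf_le_left
    · intro n hn
      have h1 : n * τ * n⁻¹ ∈ normalizer (Q : Set G) := mul_mem (mul_mem hn hτN) (inv_mem hn)
      obtain ⟨x, hx, hxx⟩ := W.conj_inv h hab hτN hτ h1 (by rw [orderOf_conj, hτ])
      have h2 : n = x * (x⁻¹ * n) := by group
      rw [h2]
      refine mul_mem (Subgroup.mem_sup_left hx) (Subgroup.mem_sup_right (Subgroup.mem_inf.2 ⟨?_, ?_⟩))
      · exact mul_mem (inv_mem (Subgroup.le_normalizer hx)) hn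
      · rw [mem_centralizer_singleton_iff]
        have h3 : x⁻¹ * (x * τ * x⁻¹) * n = x⁻¹ * (n * τ * n⁻¹) * n := by rw [hxx]
        have h4 : τ * (x⁻¹ * n) = x⁻¹ * n * τ := by
          calc τ * (x⁻¹ * n) = x⁻¹ * (x * τ * x⁻¹) * n := by group
            _ = x⁻¹ * (n * τ * n⁻¹) * n := h3
            _ = x⁻¹ * n * τ := by group
        exact h4.symm
  have hodd : ∀ x ∈ Q, x ≠ 1 → Odd (Nat.card ↥(centralizer ({x} : Set G))) := by
    intro x hx hx1
    have h1 : centralizer ({x} : Set G) = Q := by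
      ext c
      rw [mem_centralizer_singleton_iff]
      constructor
      · intro hc; exact W.centG h hab hx hx1 hc
      · intro hc; exact W.Qab c hc x hx
    rw [h1, W.cQ]
    exact W.odd
  rcases Cfsg.Agent.S3043.result Q hQ1 hTI τ hτ hτN hfac hodd with h1 | h1 | h1 | h1 | h1
  · exact absurd (hab Q h1 W.Qab) hQ1
  · exact absurd h1 (not_le_of_gt (W.card_inv h hab))
  · obtain ⟨F, i1, i2, p, i3, i4, hF, -, h1 | ⟨-, h1⟩⟩ := h1
    · refine Or.inr ⟨F, i1, i2, ?_, ?_, h1⟩
      · rw [hF, W.cQ]; exact W.five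
      · rw [hF, W.cQ]; exact W.odd
    · refine Or.inl ⟨F, i1, i2, ?_, h1⟩
      rw [hF, W.cQ]
      have := W.five
      omega
  · obtain ⟨F, i1, i2, e, he, hF, -, -, h1⟩ := h1
    refine Or.inl ⟨F, i1, i2, ?_, h1⟩
    rw [hF]
    calc 4 = 2 ^ 2 := by norm_num
      _ ≤ 2 ^ e := Nat.pow_le_pow_right (by norm_num) he
  · exfalso
    obtain ⟨d, E, hd, hE, hE2, hcE, -⟩ := h1
    have h2 : E = ⊥ := hab.solv hE (by
      have h3 : IsPGroup 2 E := IsPGroup.of_card hcE
      have := h3.isNilpotent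
      infer_instance)
    rw [h2, Subgroup.card_bot] at hcE
    have h3 : 1 < 2 ^ (2 * d) := Nat.one_lt_two_pow (by omega)
    omega

end Two

end Cfsg.Agent.Lib.NPartT
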