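import Cfsg.Agent.Lib.NPartT
import Cfsg.Agent.Lib.ThompsonTransfer
import Cfsg.Agent.S3282
import Cfsg.Agent.S0144

/-!
# Partitioned groups: two classes of involutions, construction of the subgroup of index 2 (for S4248)
-/

set_option autoImplicit false

namespace Cfsg.Agent.Lib.NPartU

open Subgroup SylowRel NPartB NPartT

universe u

variable {G : Type u} [Group G] [Finite G] {X : G → Subgroup G} {T : Sylow 2 G} {z t : G}

theorem change (h : NP X) (C : CData X T z t) {t' : G} (ht' : t' ∈ (T : Subgroup G))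
    (htY : t' ∉ X z) : CData X T z t' := by
  obtain ⟨h1, h2⟩ := inv_of_comm h C.hz (C.TC t' ht') htY
  exact ⟨C.hz, h1, htY, C.Yab, C.Yinv, C.Y1, h2,
    fun c hc hcX => mul_mem_of h C.hz C.Y1 hc hcX (C.TC t' ht') htY, C.cenY, C.TC t' ht', C.nor,
    C.zT, ht', C.TC⟩

/-- after changing `t` we may assume that `t` is conjugate to `z` -/
theorem exists_fused (h : NP X) (hab : NoAb G) (C : CData X T z t) :
    ∃ t', CData X T z t' ∧ ∃ g, g * z * g⁻¹ = t' := by
  obtain ⟨g, hg, hne⟩ := hab.fused T C.hz C.zT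
  refine ⟨g * z * g⁻¹, change h C hg ?_, g, rfl⟩
  intro h1
  have h2 : (g * z * g⁻¹) * (g * z * g⁻¹) = 1 := by
    have : (g * z * g⁻¹) * (g * z * g⁻¹) = g * (z * z) * g⁻¹ := by group
    rw [this, sq C.hz]; group
  rcases C.Yinv _ h1 h2 with h3 | h3
  · apply ne_one C.hz
    have := congrArg (fun w => g⁻¹ * w * g) h3
    simpa [mul_assoc] using this
  · exact hne h3

/-- the squares of `T ∩ Y` -/
def S0 (C : CData X T z t) : Subgroup G where
  carrier := {y | ∃ x ∈ (T : Subgroup G), x ∈ X z ∧ x * x = y}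
  one_mem' := ⟨1, one_mem _, one_mem _, by simp⟩
  mul_mem' := by
    rintro _ _ ⟨x, hx, hxY, rfl⟩ ⟨y, hy, hyY, rfl⟩
    refine ⟨x * y, mul_mem hx hy, mul_mem hxY hyY, ?_⟩
    have := C.Yab x hxY y hyY
    calc (x * y) * (x * y) = x * (y * x) * y := by group
      _ = x * (x * y) * y := by rw [this]
      _ = x * x * (y * y) := by group
  inv_mem' := by
    rintro _ ⟨x, hx, hxY, rfl⟩
    exact ⟨x⁻¹, inv_mem hx, inv_mem hxY, by group⟩

omit [Finite G] in
theorem S0_le_T (C : CData X T z t) : S0 C ≤ (T : Subgroup G) := by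
  rintro _ ⟨x, hx, -, rfl⟩
  exact mul_mem hx hx

omit [Finite G] in
theorem S0_le_Y (C : CData X T z t) : S0 C ≤ X z := by
  rintro _ ⟨x, -, hx, rfl⟩
  exact mul_mem hx hx

omit [Finite G] in
/-- the squares have index 2 in `T ∩ Y` -/
theorem card_S0 (h : NP X) (C : CData X T z t) :
    2 * Nat.card (S0 C) = Nat.card ↥((T : Subgroup G) ⊓ X z : Subgroup G) := by
  let f : ↥((T : Subgroup G) ⊓ X z : Subgroup G) →* G :=
    { toFun := fun x => (x : G) * x
      map_one' := by simp
      map_mul' := by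
        rintro ⟨x, hx, hxY⟩ ⟨y, hy, hyY⟩
        show (x * y) * (x * y) = (x * x) * (y * y)
        have := C.Yab x hxY y hyY
        calc (x * y) * (x * y) = x * (y * x) * y := by group
          _ = x * (x * y) * y := by rw [this]
          _ = x * x * (y * y) := by group }
  have h1 : f.range = S0 C := by
    ext y
    constructor
    · rintro ⟨x, rfl⟩
      exact ⟨x, x.2.1, x.2.2, rfl⟩
    · rintro ⟨x, hx, hxY, rfl⟩
      exact ⟨⟨x, hx, hxY⟩, rfl⟩
  have hzz : z * z = 1 := sq C.hz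
  have h2 : Nat.card f.ker = 2 := by
    rw [Nat.card_eq_two_iff]
    refine ⟨⟨1, one_mem _⟩, ⟨⟨z, C.zT, h.mem z⟩, hzz⟩, ?_, ?_⟩
    · intro h4
      have h5 : (1 : G) = z := congrArg (fun w => ((w : f.ker) : ↥((T : Subgroup G) ⊓ X z : Subgroup G)).1) h4
      exact ne_one C.hz h5.symm
    · rw [Set.eq_univ_iff_forall]
      rintro ⟨⟨x, hx, hxY⟩, hxk⟩
      have h6 : x * x = 1 := hxk
      rcases C.Yinv x hxY h6 with h7 | h7
      · left
        apply Subtype.ext
        apply Subtype.ext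
        exact h7
      · right
        apply Subtype.ext
        apply Subtype.ext
        exact h7
  have h3 := Subgroup.card_mul_index f.ker
  rw [Subgroup.index_ker, h1, h2] at h3
  exact h3

theorem S0_two (h : NP X) (C : CData X T z t) {x y : G} (hxT : x ∈ (T : Subgroup G)) (hxY : x ∈ X z)
    (hyT : y ∈ (T : Subgroup G)) (hyY : y ∈ X z) :
    x * y ∈ S0 C ↔ (x ∈ S0 C ↔ y ∈ S0 C) := by
  have hle : S0 C ≤ (T : Subgroup G) ⊓ X z := le_inf (S0_le_T C) (S0_le_Y C)
  have h1 := CIT.card_mul_rel hle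
  rw [← card_S0 h C, mul_comm] at h1
  have h2 : ((S0 C).subgroupOf ((T : Subgroup G) ⊓ X z)).index = 2 :=
    Nat.eq_of_mul_eq_mul_right Nat.card_pos h1
  exact Subgroup.mul_mem_iff_of_index_two h2 (a := ⟨x, hxT, hxY⟩) (b := ⟨y, hyT, hyY⟩)

omit [Finite G] in
theorem tt (C : CData X T z t) : t * t = 1 := sq C.ht

omit [Finite G] in
theorem tinv' (C : CData X T z t) {x : G} (hx : x ∈ X z) : t * x = x⁻¹ * t := by
  rw [← C.tinv x hx]; group

omit [Finite G] in
theorem mul_t_mem (C : CData X T z t) {w : G} (hw : w ∈ (T : Subgroup G)) (hwY : w ∉ X z) :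
    w * t ∈ X z := C.cen w (C.TC w hw) hwY

/-- the subgroup `S0 ⟨t⟩` of index 2 -/
def T1 (C : CData X T z t) : Subgroup G where
  carrier := {y | y ∈ S0 C ∨ y * t ∈ S0 C}
  one_mem' := Or.inl (one_mem _)
  mul_mem' := by
    have key : ∀ b ∈ S0 C, t * b = b⁻¹ * t := fun b hb => tinv' C (S0_le_Y C hb)
    rintro a b (ha | ha) (hb | hb)
    · exact Or.inl (mul_mem ha hb)
    · right; rw [mul_assoc]; exact mul_mem ha hb
    · right
      have h1 : a * b * t = (a * t) * b⁻¹ := by
        have h2 := key b⁻¹ (inv_mem hb)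
        rw [inv_inv] at h2
        rw [mul_assoc a t, h2, mul_assoc]
      rw [h1]
      exact mul_mem ha (inv_mem hb)
    · left
      have h1 : a * b = (a * t) * (b * t)⁻¹ := by
        have h2 := key _ (inv_mem hb)
        rw [inv_inv] at h2
        have h3 : a = (a * t) * t := by rw [mul_assoc, tt C, mul_one]
        have h4 : b = (b * t) * t := by rw [mul_assoc, tt C, mul_one]
        calc a * b = (a * t) * (t * b) := by
              rw [mul_assoc a t, ← mul_assoc t t, tt C, one_mul]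
          _ = (a * t) * (t * ((b * t) * t)) := by rw [← h4]
          _ = (a * t) * ((t * (b * t)) * t) := by group
          _ = (a * t) * (((b * t)⁻¹ * t) * t) := by rw [key _ hb]
          _ = (a * t) * (b * t)⁻¹ := by rw [mul_assoc _ t t, tt C, mul_one]
      rw [h1]
      exact mul_mem ha (inv_mem hb)
  inv_mem' := by
    rintro a (ha | ha)
    · exact Or.inl (inv_mem ha)
    · right
      have key := tinv' C (S0_le_Y C ha)
      have hti : t⁻¹ = t := inv_eq_of_mul_eq_one_left (tt C)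
      have h1 : a⁻¹ * t = a * t := by
        have h2 : t * (a * t) = t⁻¹ * a⁻¹ * t := by rw [key]; group
        rw [hti] at h2
        have h3 : t * (t * (a * t)) = t * (t * a⁻¹ * t) := by rw [h2]
        calc a⁻¹ * t = (t * t) * a⁻¹ * t := by rw [tt C, one_mul]
          _ = t * (t * a⁻¹ * t) := by group
          _ = t * (t * (a * t)) := h3.symm
          _ = (t * t) * (a * t) := by group
          _ = a * t := by rw [tt C, one_mul]
      rw [h1]; exact ha

theorem mem_T1 (C : CData X T z t) {y : G} : y ∈ T1 C ↔ y ∈ S0 C ∨ y * t ∈ S0 C := Iff.rfl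

theorem ttinv (C : CData X T z t) : t⁻¹ = t := inv_eq_of_mul_eq_one_left (tt C)

/-- `T1` has index 2 in `T` -/
theorem T1_index (h : NP X) (C : CData X T z t) {u : G} (huT : u ∈ (T : Subgroup G))
    (huY : u ∉ X z) (hu : u * t ∉ S0 C) : (T1 C).relIndex (T : Subgroup G) = 2 := by
  have hutT : u * t ∈ (T : Subgroup G) := mul_mem huT C.tT
  have hutY : u * t ∈ X z := mul_t_mem C huT huY
  have hYt : ∀ y ∈ X z, y * t ∉ X z := fun y hy hyt => by
    have := mul_mem (inv_mem hy) hyt
    rw [inv_mul_cancel_left] at this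
    exact C.tY this
  have huu : u * u = 1 := sq (inv_of_comm h C.hz (C.TC u huT) huY).1
  have huinv : u⁻¹ = u := inv_eq_of_mul_eq_one_left huu
  show ((T1 C).subgroupOf (T : Subgroup G)).index = 2
  rw [Subgroup.index_eq_two_iff]
  refine ⟨⟨u, huT⟩, fun b => ?_⟩
  obtain ⟨b, hb⟩ := b
  show Xor (b * u ∈ T1 C) (b ∈ T1 C)
  rw [mem_T1, mem_T1]
  by_cases hbY : b ∈ X z
  · have h1 : b * u ∉ S0 C := by
      intro h2
      have h3 := mul_mem (inv_mem hbY) (S0_le_Y C h2)
      rw [inv_mul_cancel_left] at h3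
      exact huY h3
    have h2 : b * t ∉ S0 C := fun h3 => hYt b hbY (S0_le_Y C h3)
    have h3 : b * u * t ∈ S0 C ↔ b ∉ S0 C := by
      rw [mul_assoc, S0_two h C hb hbY hutT hutY]
      tauto
    unfold Xor
    tauto
  · have h1 : b ∉ S0 C := fun h2 => hbY (S0_le_Y C h2)
    have hbt := mul_t_mem C hb hbY
    have h2 : b * u = (b * t) * (u * t)⁻¹ := by
      rw [mul_inv_rev, ttinv C, huinv]
      calc b * u = b * (t * t) * u := by rw [tt C, mul_one]
        _ = b * t * (t * u) := by group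
    have h3 : b * u ∈ S0 C ↔ ¬ (b * t ∈ S0 C) := by
      rw [h2, S0_two h C (mul_mem hb C.tT) hbt (inv_mem hutT) (inv_mem hutY), inv_mem_iff]
      tauto
    have h4 : b * u * t ∉ S0 C := by
      intro h5
      have h6 : b * u ∈ X z := by rw [h2]; exact mul_mem hbt (inv_mem hutY)
      exact hYt _ h6 (S0_le_Y C h5)
    unfold Xor
    tauto

/-- `T`-conjugacy of the involutions outside `Y` -/
theorem conjT (h : NP X) (C : CData X T z t) {w w' : G} (hw' : w' ∈ (T : Subgroup G))
    (hwY' : w' ∉ X z) (hww : w * w' ∈ S0 C) : ∃ k, k * w' * k⁻¹ = w := by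
  obtain ⟨hwo, hwinv⟩ := inv_of_comm h C.hz (C.TC w' hw') hwY'
  obtain ⟨x, hxT, hxY, hxx⟩ := hww
  have hwi : w'⁻¹ = w' := inv_eq_of_mul_eq_one_left (sq hwo)
  refine ⟨x, ?_⟩
  have h1 : w' * x⁻¹ = x * w' := by
    have := hwinv x⁻¹ (inv_mem hxY)
    rw [inv_inv] at this
    calc w' * x⁻¹ = w' * x⁻¹ * w'⁻¹ * w' := by group
      _ = x * w' := by rw [this]
  calc x * w' * x⁻¹ = x * (w' * x⁻¹) := by group
    _ = (x * x) * w' := by rw [h1]; group
    _ = w := by rw [hxx, mul_assoc, sq hwo, mul_one]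

theorem conj_into {w : G} (T : Sylow 2 G) (hw : orderOf w = 2) : ∃ g, g * w * g⁻¹ ∈ (T : Subgroup G) := by
  obtain ⟨P, hP⟩ := (IsPGroup.of_card (p := 2) (n := 1) (by
    rw [Nat.card_zpowers, hw, pow_one]) : IsPGroup 2 (zpowers w)).exists_le_sylow
  obtain ⟨g, hg⟩ := MulAction.exists_smul_eq G P T
  refine ⟨g, ?_⟩
  have h1 : w ∈ (P : Subgroup G) := hP (mem_zpowers w)
  rw [← hg, Sylow.coe_subgroup_smul]
  exact ⟨w, h1, rfl⟩

/-- the case `|T| = 4` -/
theorem false_of_four (h : NP X) (hab : NoAb G) [Nontrivial G] (C : CData X T z t)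
    {g : G} (hg : g * z * g⁻¹ = t) {u : G} (huT : u ∈ (T : Subgroup G)) (huY : u ∉ X z)
    (huz : ∀ k, k * z * k⁻¹ ≠ u) (hsq : ∀ x ∈ (T : Subgroup G), x ∈ X z → x * x = 1) : False := by
  have hzz : z * z = 1 := sq C.hz
  have hTY : ∀ x ∈ (T : Subgroup G), x ∈ X z → x = 1 ∨ x = z := fun x hx hxY =>
    C.Yinv x hxY (hsq x hx hxY)
  have hut : u * t = z := by
    rcases hTY (u * t) (mul_mem huT C.tT) (mul_t_mem C huT huY) with h1 | h1
    · exfalso
      have h2 := eq_inv_of_mul_eq_one_left h1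
      rw [ttinv C] at h2
      exact huz g (by rw [hg, h2])
    · exact h1
  have hTel : ∀ w ∈ (T : Subgroup G), w = 1 ∨ w = z ∨ w = t ∨ w = u := by
    intro w hw
    by_cases hwY : w ∈ X z
    · rcases hTY w hw hwY with h1 | h1
      · exact Or.inl h1
      · exact Or.inr (Or.inl h1)
    · rcases hTY (w * t) (mul_mem hw C.tT) (mul_t_mem C hw hwY) with h1 | h1
      · have h2 := eq_inv_of_mul_eq_one_left h1
        rw [ttinv C] at h2
        exact Or.inr (Or.inr (Or.inl h2))
      · rw [← hut] at h1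
        exact Or.inr (Or.inr (Or.inr (mul_right_cancel h1)))
  have hTsq : ∀ w ∈ (T : Subgroup G), w * w = 1 := by
    intro w hw
    by_cases hwY : w ∈ X z
    · exact hsq w hw hwY
    · exact sq (inv_of_comm h C.hz (C.TC w hw) hwY).1
  have hTab : ∀ a ∈ (T : Subgroup G), ∀ b ∈ (T : Subgroup G), a * b = b * a := by
    intro a ha b hb
    have h1 := hTsq _ (mul_mem ha hb)
    have h4 : a * b = (a * b)⁻¹ := eq_inv_of_mul_eq_one_left h1
    rw [h4, mul_inv_rev, inv_eq_of_mul_eq_one_left (hTsq a ha), inv_eq_of_mul_eq_one_left (hTsq b hb)]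
  obtain ⟨n, hn, s, hs, hne⟩ := hab.burnside T
  have h1 : ¬ ∃ k : ℕ, n ^ 2 ^ k = 1 := by
    rintro ⟨k, hk⟩
    exact hne (hTab n (mem_sylow_of_normalizer hn hk) s hs)
  obtain ⟨m, p, hp, hp2, hy⟩ := exists_odd_power h1
  have hyN : n ^ m ∈ normalizer ((T : Subgroup G) : Set G) := pow_mem hn m
  generalize n ^ m = y at hy hyN
  have hyT : ∀ v ∈ (T : Subgroup G), y * v * y⁻¹ ∈ (T : Subgroup G) := fun v hv =>
    (conj_mem_iff_of_normalizer hyN v).2 hv
  have hu1 : u ≠ 1 := by rintro rfl; exact huY (one_mem _)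
  have hyu : y * u * y⁻¹ = u := by
    rcases hTel _ (hyT u huT) with h2 | h2 | h2 | h2
    · exact absurd h2 (by simpa using hu1)
    · exfalso
      apply huz y⁻¹
      rw [← h2]; group
    · exfalso
      apply huz (y⁻¹ * g)
      calc y⁻¹ * g * z * (y⁻¹ * g)⁻¹ = y⁻¹ * (g * z * g⁻¹) * y := by group
        _ = u := by rw [hg, ← h2]; group
    · exact h2
  have hyzt : ∀ w, (∃ k, k * z * k⁻¹ = w) → w ∈ (T : Subgroup G) → w = z ∨ w = t := by
    rintro w ⟨k, hk⟩ hw
    rcases hTel w hw with h2 | h2 | h2 | h2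
    · exfalso
      rw [← hk] at h2
      exact ne_one C.hz (by simpa using h2)
    · exact Or.inl h2
    · exact Or.inr h2
    · exact absurd (hk.trans h2) (huz k)
  have hzt : z ≠ t := fun h2 => C.tY (h2 ▸ h.mem z)
  have hy2 : (y * y) * z * (y * y)⁻¹ = z := by
    rcases hyzt (y * z * y⁻¹) ⟨y, rfl⟩ (hyT z C.zT) with h2 | h2
    · calc (y * y) * z * (y * y)⁻¹ = y * (y * z * y⁻¹) * y⁻¹ := by group
        _ = z := by rw [h2, h2]
    · rcases hyzt (y * t * y⁻¹) ⟨y * g, by rw [← hg]; group⟩ (hyT t C.tT) with h3 | h3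
      · calc (y * y) * z * (y * y)⁻¹ = y * (y * z * y⁻¹) * y⁻¹ := by group
          _ = z := by rw [h2, h3]
      · exfalso
        rw [← h3] at h2
        have h4 : z = t := by
          have := congrArg (fun w => y⁻¹ * w * y) h2
          simpa [mul_assoc] using this
        exact hzt h4
  have hodd : ∃ k, p = 2 * k + 1 := by
    rcases hp.eq_two_or_odd' with h2 | ⟨k, hk⟩
    · exact absurd h2 hp2
    · exact ⟨k, hk⟩
  obtain ⟨k, hk⟩ := hodd
  have hyz : y * z = z * y := by
    have h2 : Commute (y * y) z := by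
      show (y * y) * z = z * (y * y)
      have : (y * y) * z = (y * y) * z * (y * y)⁻¹ * (y * y) := by group
      rw [this, hy2]
    have h3 : (y * y) ^ (k + 1) = y := by
      rw [(Commute.refl y).mul_pow, ← pow_add]
      have : k + 1 + (k + 1) = p + 1 := by omega
      rw [this, pow_succ, ← hy, pow_orderOf_eq_one, one_mul]
    have h4 := h2.pow_left (k + 1)
    rw [h3] at h4
    exact h4
  have hyY : y ∈ X z := by
    by_contra h2
    have := (inv_of_comm h C.hz hyz h2).1
    exact hp2 (hy.symm.trans this)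
  have h5 := (inv_of_comm h C.hz (C.TC u huT) huY).2 y hyY
  have h6 : u * y * u⁻¹ = y := by
    have h7 : y * u = u * y := by
      have : y * u * y⁻¹ * y = u * y := by rw [hyu]
      simpa using this
    rw [← h7]; group
  rw [h6] at h5
  have h7 : y * y = 1 := by nth_rewrite 1 [h5]; exact inv_mul_cancel y
  have h8 : orderOf y ∣ 2 := orderOf_dvd_of_pow_eq_one (by rw [pow_two]; exact h7)
  rw [hy] at h8
  exact hp2 ((Nat.prime_dvd_prime_iff_eq hp Nat.prime_two).1 h8)

/-- the subgroup of index 2 -/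
theorem exists_L (h : NP X) (hab : NoAb G) [Nontrivial G] (C₀ : CData X T z t)
    (hne : ¬ ∀ u v : G, orderOf u = 2 → orderOf v = 2 → IsConj u v) :
    ∃ (t' : G) (L : Subgroup G), CData X T z t' ∧ L.Normal ∧ L.index = 2 ∧ z ∈ L ∧ t' ∈ L ∧
      (∃ u, u ∉ L ∧ orderOf u = 2) ∧
      (∀ w ∈ L, orderOf w = 2 → ∃ l ∈ L, l * w * l⁻¹ = z) := by
  obtain ⟨t', C, g, hg⟩ := exists_fused h hab C₀
  -- an involution of `T` not conjugate to `z`
  obtain ⟨u, huT, huY, huz⟩ : ∃ u ∈ (T : Subgroup G), u ∉ X z ∧ ∀ k, k * z * k⁻¹ ≠ u := by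
    by_contra hcon
    push Not at hcon
    have key : ∀ w : G, orderOf w = 2 → IsConj z w := by
      intro w hw
      obtain ⟨k, hk⟩ := conj_into T hw
      by_cases hY : k * w * k⁻¹ ∈ X z
      · have h1 : (k * w * k⁻¹) * (k * w * k⁻¹) = 1 := by
          have : (k * w * k⁻¹) * (k * w * k⁻¹) = k * (w * w) * k⁻¹ := by group
          rw [this, sq hw]; group
        rcases C.Yinv _ hY h1 with h2 | h2
        · exact absurd h2 (by simpa using ne_one hw)
        · rw [isConj_iff]
          exact ⟨k⁻¹, by rw [← h2]; group⟩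
      · obtain ⟨l, hl⟩ := hcon _ hk hY
        rw [isConj_iff]
        exact ⟨k⁻¹ * l, by
          calc k⁻¹ * l * z * (k⁻¹ * l)⁻¹ = k⁻¹ * (l * z * l⁻¹) * k := by group
            _ = w := by rw [hl]; group⟩
    exact hne fun a b ha hb => (key a ha).symm.trans (key b hb)
  have hut : u * t' ∉ S0 C := by
    intro h1
    obtain ⟨k, hk⟩ := conjT h C C.tT C.tY h1
    apply huz (k * g)
    calc k * g * z * (k * g)⁻¹ = k * (g * z * g⁻¹) * k⁻¹ := by group
      _ = u := by rw [hg, hk]
  have huo := (inv_of_comm h C.hz (C.TC u huT) huY).1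
  obtain ⟨L, hLn, hLi, huL⟩ := ThompsonTransfer.thompson_transfer T (T1 C) (T1_index h C huT huY hut)
    u huo huT (by
      intro k hk
      have h1 : (k * u * k⁻¹) * (k * u * k⁻¹) = 1 := by
        have : (k * u * k⁻¹) * (k * u * k⁻¹) = k * (u * u) * k⁻¹ := by group
        rw [this, sq huo]; group
      rcases (mem_T1 C).1 hk with h2 | h2
      · rcases C.Yinv _ (S0_le_Y C h2) h1 with h3 | h3
        · exact ne_one huo (by simpa using h3)
        · apply huz k⁻¹
          rw [← h3]; group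
      · obtain ⟨l, hl⟩ := conjT h C C.tT C.tY h2
        apply huz (k⁻¹ * l * g)
        calc k⁻¹ * l * g * z * (k⁻¹ * l * g)⁻¹ = k⁻¹ * (l * (g * z * g⁻¹) * l⁻¹) * k := by group
          _ = u := by rw [hg, hl]; group)
  have hsqL : ∀ a : G, a * a ∈ L := by
    intro a
    rw [Subgroup.mul_mem_iff_of_index_two hLi]
  have hmulL : ∀ a b : G, a ∉ L → b ∉ L → a * b ∈ L := by
    intro a b ha hb
    rw [Subgroup.mul_mem_iff_of_index_two hLi]
    exact ⟨fun h => absurd h ha, fun h => absurd h hb⟩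
  have hzL : z ∈ L := by
    by_cases hsq : ∀ x ∈ (T : Subgroup G), x ∈ X z → x * x = 1
    · exact (false_of_four h hab C hg huT huY huz hsq).elim
    · push Not at hsq
      obtain ⟨x, hxT, hxY, hxx⟩ := hsq
      have h1 : x * x ∈ S0 C := ⟨x, hxT, hxY, rfl⟩
      -- the 2-group S0 contains an involution
      have h2 : ∃ w ∈ S0 C, orderOf w = 2 := by
        have h3 : IsPGroup 2 (S0 C) := T.2.to_le (S0_le_T C)
        have h4 : Nat.card (S0 C) ≠ 1 := by
          intro h5
          rw [Subgroup.card_eq_one] at h5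
          rw [h5, mem_bot] at h1
          exact hxx h1
        obtain ⟨k, hk⟩ := IsPGroup.iff_card.1 h3
        apply StrongEmbPt.exists_involution
        rw [hk]
        have : k ≠ 0 := by rintro rfl; exact h4 (by rw [hk, pow_zero])
        exact (Nat.even_pow.2 ⟨even_two, this⟩)
      obtain ⟨w, hw, hwo⟩ := h2
      rcases C.Yinv w (S0_le_Y C hw) (sq hwo) with h3 | h3
      · exact absurd h3 (ne_one hwo)
      · obtain ⟨a, -, -, ha⟩ := hw
        rw [← h3, ← ha]
        exact hsqL a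
  refine ⟨t', L, C, hLn, hLi, hzL, ?_, ⟨u, huL, huo⟩, ?_⟩
  · rw [← hg]; exact hLn.conj_mem _ hzL g
  · intro w hwL hwo
    -- `w` is conjugate to `z` in `G`
    obtain ⟨k, hk⟩ : ∃ k, k * w * k⁻¹ = z := by
      obtain ⟨a, ha⟩ := conj_into T hwo
      by_cases hY : a * w * a⁻¹ ∈ X z
      · have h1 : (a * w * a⁻¹) * (a * w * a⁻¹) = 1 := by
          have : (a * w * a⁻¹) * (a * w * a⁻¹) = a * (w * w) * a⁻¹ := by group
          rw [this, sq hwo]; group
        rcases C.Yinv _ hY h1 with h2 | h2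
        · exact absurd h2 (by simpa using ne_one hwo)
        · exact ⟨a, h2⟩
      · have hwL' : a * w * a⁻¹ ∈ L := hLn.conj_mem _ hwL a
        by_cases hS : a * w * a⁻¹ * t' ∈ S0 C
        · obtain ⟨l, hl⟩ := conjT h C C.tT C.tY hS
          refine ⟨g⁻¹ * l⁻¹ * a, ?_⟩
          calc g⁻¹ * l⁻¹ * a * w * (g⁻¹ * l⁻¹ * a)⁻¹ = g⁻¹ * l⁻¹ * (a * w * a⁻¹) * l * g := by group
            _ = g⁻¹ * l⁻¹ * (l * t' * l⁻¹) * l * g := by rw [hl]
            _ = g⁻¹ * t' * g := by group
            _ = z := by rw [← hg]; group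
        · exfalso
          -- conjugate to `u`
          have h1 : (a * w * a⁻¹) * u ∈ S0 C := by
            have h2 : (a * w * a⁻¹) * u = (a * w * a⁻¹ * t') * (u * t')⁻¹ := by
              rw [mul_inv_rev, ttinv C, inv_eq_of_mul_eq_one_left (sq huo)]
              calc (a * w * a⁻¹) * u = (a * w * a⁻¹) * (t' * t') * u := by rw [tt C, mul_one]
                _ = a * w * a⁻¹ * t' * (t' * u) := by group
            rw [h2, S0_two h C (mul_mem ha C.tT) (mul_t_mem C ha hY)
              (inv_mem (mul_mem huT C.tT)) (inv_mem (mul_t_mem C huT huY)), inv_mem_iff]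
            tauto
          obtain ⟨l, hl⟩ := conjT h C huT huY h1
          apply huL
          have h3 : u = l⁻¹ * (a * w * a⁻¹) * l⁻¹⁻¹ := by rw [← hl]; group
          rw [h3]
          exact hLn.conj_mem _ hwL' _
    by_cases hkL : k ∈ L
    · exact ⟨k, hkL, hk⟩
    · refine ⟨u * k, hmulL u k huL hkL, ?_⟩
      have h1 := C.TC u huT
      calc u * k * w * (u * k)⁻¹ = u * (k * w * k⁻¹) * u⁻¹ := by group
        _ = z := by rw [hk, h1]; group

end Cfsg.Agent.Lib.NPartU
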