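import Cfsg.Agent.Lib.NPartU
import Cfsg.Agent.Lib.SubgroupTools

/-!
# Partitioned groups: two classes of involutions, Brauer-Suzuki-Wall for the subgroup of index 2
(for S4248)
-/

set_option autoImplicit false

namespace Cfsg.Agent.Lib.NPartU

open Subgroup SylowRel NPartB NPartT

universe u

variable {G : Type u} [Group G] [Finite G] {X : G → Subgroup G} {T : Sylow 2 G} {z t : G}

theorem exists_two (h : NP X) (hab : NoAb G) [Nontrivial G] (C₀ : CData X T z t)
    (hne : ¬ ∀ u v : G, orderOf u = 2 → orderOf v = 2 → IsConj u v) :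
    ∃ (t' : G) (L Q : Subgroup G) (q : ℕ), Two X T z t' L Q q := by
  obtain ⟨t', L, C, hLn, hLi, hzL, htL, hout, hconjL⟩ := exists_L h hab C₀ hne
  let zL : L := ⟨z, hzL⟩
  let s : L := ⟨t', htL⟩
  let K : Subgroup L := (X z).subgroupOf L
  have hKab : IsMulCommutative ↥K :=
    ⟨⟨fun a b => Subtype.ext (Subtype.ext (C.Yab _ a.2 _ b.2))⟩⟩
  have hKH : K ≤ centralizer ({zL} : Set L) := by
    intro x hx
    rw [mem_centralizer_singleton_iff]
    exact Subtype.ext (C.cenY _ hx)
  have hzK : zL ∈ K := h.mem z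
  have hsH : s ∈ centralizer ({zL} : Set L) := by
    rw [mem_centralizer_singleton_iff]
    exact Subtype.ext C.ct
  have hsK : s ∉ K := C.tY
  have hH : K ⊔ zpowers s = centralizer ({zL} : Set L) := by
    apply le_antisymm
    · rw [sup_le_iff, zpowers_le]
      exact ⟨hKH, hsH⟩
    · intro c hc
      rw [mem_centralizer_singleton_iff] at hc
      have hc' : (c : G) * z = z * c := congrArg Subtype.val hc
      by_cases hcY : (c : G) ∈ X z
      · exact Subgroup.mem_sup_left hcY
      · have h1 : (c : G) * t' ∈ X z := C.cen _ hc' hcY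
        have h2 : c = (c * s) * s⁻¹ := by group
        rw [h2]
        exact mul_mem (Subgroup.mem_sup_left h1)
          (Subgroup.mem_sup_right (inv_mem (mem_zpowers s)))
  have hCK : K ⊓ centralizer ({s} : Set L) = zpowers zL := by
    apply le_antisymm
    · rintro x ⟨hx, hxs⟩
      replace hxs := mem_centralizer_singleton_iff.1 hxs
      have h1 : (x : G) * t' = t' * x := congrArg Subtype.val hxs
      have h2 := C.tinv _ (show (x : G) ∈ X z from hx)
      have h3 : t' * (x : G) * t'⁻¹ = x := by rw [← h1]; group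
      rw [h3] at h2
      have h4 : (x : G) * x = 1 := by nth_rewrite 1 [h2]; exact inv_mul_cancel _
      rcases C.Yinv _ hx h4 with h5 | h5
      · have : x = 1 := Subtype.ext h5
        rw [this]; exact one_mem _
      · have : x = zL := Subtype.ext h5
        rw [this]; exact mem_zpowers _
    · rw [zpowers_le]
      refine Subgroup.mem_inf.2 ⟨hzK, ?_⟩
      rw [mem_centralizer_singleton_iff]
      exact Subtype.ext C.ct.symm
  have hinv : ∀ x ∈ K, s * x * s⁻¹ = x⁻¹ := fun x hx => Subtype.ext (C.tinv _ hx)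
  have hTI : ∀ g : L, g ∉ centralizer ({zL} : Set L) →
      K ⊓ K.map (MulAut.conj g).toMonoidHom = ⊥ := by
    intro g hg
    rw [eq_bot_iff]
    intro x hx
    rw [mem_inf] at hx
    obtain ⟨hx1, hx2⟩ := hx
    rw [mem_bot]
    by_contra hx0
    obtain ⟨y, hy, hyx⟩ := hx2
    have hyx' : (g : G) * y * (g : G)⁻¹ = x := congrArg Subtype.val hyx
    have hy1 : (y : G) ≠ 1 := by
      intro h1
      rw [h1] at hyx'
      apply hx0
      apply Subtype.ext
      rw [← hyx']; simp
    have hgN : (g : G) ∈ normalizer (X z : Set G) :=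
      h.mem_normalizer_of hy1 hy (by rw [hyx']; exact hx1)
    apply hg
    rw [mem_centralizer_singleton_iff]
    apply Subtype.ext
    exact C.nor g fun y hy => (Subgroup.mem_normalizer_iff.1 hgN y).1 hy
  have hord : ∀ x : L, orderOf (x : G) = orderOf x := fun x => Subgroup.orderOf_coe x
  have hconj : ∀ x y : L, orderOf x = 2 → orderOf y = 2 → IsConj x y := by
    have key : ∀ x : L, orderOf x = 2 → IsConj x zL := by
      intro x hx
      obtain ⟨l, hl, hlx⟩ := hconjL x x.2 (by rw [hord, hx])
      rw [isConj_iff]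
      exact ⟨⟨l, hl⟩, Subtype.ext hlx⟩
    intro x y hx hy
    exact (key x hx).trans (key y hy).symm
  obtain ⟨Q, D, h1, h2, h3, h4, h5, h6, -⟩ := Cfsg.Agent.S3282.result zL
    (by rw [← hord]; exact C.hz) K hKab hKH hzK s (by rw [← hord]; exact C.ht) hsH hsK hH hCK
    hinv hTI hconj
  have hD : 0 < Nat.card D := Nat.card_pos
  have hfive : 5 ≤ Nat.card Q := by
    by_contra hcon
    have h7 : Nat.card Q = 3 := by omega
    rw [h7] at h1
    have h8 : Nat.card L = 12 := by omega
    have h9 : Group.IsSolvable L := Cfsg.Agent.S0144.result 2 3 2 1 Nat.prime_two Nat.prime_three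
      (by rw [h8]; norm_num)
    have h10 := hab.solv hLn h9
    rw [h10, Subgroup.card_bot] at h8
    omega
  refine ⟨t', L, Q.map L.subtype, Nat.card Q, C, hLn, hLi, hzL, hout, hconjL, ?_, ?_, ?_, hfive,
    h1, ?_, ?_, ?_⟩
  · rintro _ ⟨x, -, rfl⟩; exact x.2
  · exact Subgroup.card_map_of_injective L.subtype_injective
  · exact ⟨Nat.card D, h4.symm⟩
  · rintro _ ⟨x, hx, rfl⟩ _ ⟨y, hy, rfl⟩
    by_cases hx1 : x = 1
    · subst hx1; simp
    · have h7 := h2 x hx hx1
      rw [SetLike.mem_coe] at hy
      rw [← h7, mem_centralizer_singleton_iff] at hy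
      exact (congrArg Subtype.val hy).symm
  · rintro _ ⟨x, hx, rfl⟩ hx1 c hc hcx
    refine ⟨⟨c, hc⟩, ?_, rfl⟩
    have h7 := h2 x hx (by rintro rfl; exact hx1 rfl)
    rw [SetLike.mem_coe, ← h7, mem_centralizer_singleton_iff]
    exact Subtype.ext hcx
  · have h7 : normalizer ((Q.map L.subtype : Subgroup G) : Set G) ⊓ L =
        (normalizer (Q : Set L)).map L.subtype := by
      ext n
      constructor
      · rintro ⟨hn, hnL⟩
        refine ⟨⟨n, hnL⟩, ?_, rfl⟩
        rw [SetLike.mem_coe, Subgroup.mem_normalizer_iff]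
        intro x
        have h8 := Subgroup.mem_normalizer_iff.1 hn (x : G)
        constructor
        · intro hx
          obtain ⟨y, hy, hyx⟩ := h8.1 ⟨x, hx, rfl⟩
          have : y = (⟨n, hnL⟩ : L) * x * (⟨n, hnL⟩ : L)⁻¹ := Subtype.ext hyx
          rw [← this]; exact hy
        · intro hx
          obtain ⟨y, hy, hyx⟩ := h8.2 ⟨_, hx, rfl⟩
          have : y = x := Subtype.ext hyx
          rw [← this]; exact hy
      · rintro ⟨n, hn, rfl⟩
        refine Subgroup.mem_inf.2 ⟨?_, n.2⟩
        rw [SetLike.mem_coe, Subgroup.mem_normalizer_iff] at hn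
        rw [Subgroup.mem_normalizer_iff]
        intro x
        constructor
        · rintro ⟨y, hy, rfl⟩
          exact ⟨_, (hn y).1 hy, rfl⟩
        · rintro ⟨y, hy, hyx⟩
          refine ⟨n⁻¹ * y * n, ?_, ?_⟩
          · rw [SetLike.mem_coe, hn]
            have : n * (n⁻¹ * y * n) * n⁻¹ = y := by group
            rw [this]; exact hy
          · show (n : G)⁻¹ * y * n = x
            have h9 : (y : G) = n * x * (n : G)⁻¹ := hyx
            rw [h9]; group
    rw [h7, Subgroup.card_map_of_injective L.subtype_injective, h6]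
    have h8 : D ≤ normalizer (Q : Set L) := by rw [h6]; exact le_sup_right
    have h9 := SubgroupTools.card_sup_mul_card_inf h8
    rw [h5, Subgroup.card_bot, mul_one] at h9
    rw [h9]
    have h10 : Nat.card Q - 1 = 2 * Nat.card D := by omega
    rw [h10]; ring

end Cfsg.Agent.Lib.NPartU
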