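import Cfsg.Agent.Lib.NPartU
import Cfsg.Agent.Lib.NPartT2
import Cfsg.Agent.Lib.DihRec
import Cfsg.Agent.Lib.CoprimeGen
import Cfsg.Agent.Lib.CITRad3
import Cfsg.Agent.S0508

/-!
# Partitioned groups: dihedral case with one class of involutions (for S4248)
-/

set_option autoImplicit false

namespace Cfsg.Agent.Lib.NPartV

open Subgroup SylowRel NPartB NPartT NPartU

universe u

variable {G : Type u} [Group G] [Finite G] {X : G → Subgroup G} {T : Sylow 2 G} {z t : G}

/-- `T ∩ Y` is cyclic -/
theorem cyclic_TY (C : CData X T z t) : IsCyclic ((X z).subgroupOf (T : Subgroup G)) := by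
  let _ : CommGroup ((X z).subgroupOf (T : Subgroup G)) :=
    { (inferInstance : Group ((X z).subgroupOf (T : Subgroup G))) with
      mul_comm := fun a b => Subtype.ext (Subtype.ext (C.Yab _ a.2 _ b.2)) }
  apply CoprimeGen.isCyclic_of_prime_card_le
  intro r hr
  by_cases hr2 : r = 2
  · subst hr2
    have h1 : ∀ x ∈ (powMonoidHom 2 : ((X z).subgroupOf (T : Subgroup G)) →* _).ker,
        (((x : (X z).subgroupOf (T : Subgroup G)) : (T : Subgroup G)) : G) = 1 ∨
        (((x : (X z).subgroupOf (T : Subgroup G)) : (T : Subgroup G)) : G) = z := by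
      intro x hx
      have h2 : x ^ 2 = 1 := hx
      apply C.Yinv _ x.2
      have h3 : (((x ^ 2 : (X z).subgroupOf (T : Subgroup G)) : (T : Subgroup G)) : G) = 1 := by
        rw [h2]; rfl
      rw [← h3, pow_two]; rfl
    have h2 : Function.Injective (fun x : (powMonoidHom 2 : ((X z).subgroupOf (T : Subgroup G)) →* _).ker =>
        (⟨(((x : (X z).subgroupOf (T : Subgroup G)) : (T : Subgroup G)) : G),
          h1 x x.2⟩ : ({1, z} : Set G))) := by
      intro a b hab
      apply Subtype.ext
      apply Subtype.ext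
      apply Subtype.ext
      exact congrArg (fun w : ({1, z} : Set G) => (w : G)) hab
    have h3 := Nat.card_le_card_of_injective _ h2
    have h4 : ({1, z} : Set G).ncard ≤ 2 := (Set.ncard_insert_le _ _).trans (by simp)
    exact h3.trans h4
  · have h1 : (powMonoidHom r : ((X z).subgroupOf (T : Subgroup G)) →* _).ker = ⊥ := by
      rw [eq_bot_iff]
      intro x hx
      have h2 : x ^ r = 1 := hx
      have h3 : IsPGroup 2 ((X z).subgroupOf (T : Subgroup G)) := T.2.to_subgroup _
      obtain ⟨k, hk⟩ := h3 x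
      have h4 : orderOf x ∣ r := orderOf_dvd_of_pow_eq_one h2
      have h5 : orderOf x ∣ 2 ^ k := orderOf_dvd_of_pow_eq_one hk
      have h6 : Nat.Coprime r (2 ^ k) := Nat.Coprime.pow_right _
        ((Nat.coprime_primes hr Nat.prime_two).2 hr2)
      rw [mem_bot, ← orderOf_eq_one_iff]
      exact Nat.eq_one_of_dvd_coprimes h6 h4 h5
    rw [h1, Subgroup.card_bot]
    exact hr.one_lt.le

omit [Finite G] in
theorem index_TY (_h : NP X) (C : CData X T z t) :
    ((X z).subgroupOf (T : Subgroup G)).index = 2 := by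
  rw [Subgroup.index_eq_two_iff]
  refine ⟨⟨t, C.tT⟩, fun b => ?_⟩
  by_cases hb : (b : G) ∈ X z
  · right
    refine ⟨hb, fun h3 => C.tY ?_⟩
    have h4 : (b : G) * t ∈ X z := h3
    have := mul_mem (inv_mem hb) h4
    simpa using this
  · left
    exact ⟨C.cen _ (C.TC _ b.2) hb, hb⟩

theorem iso_dihedral (h : NP X) (C : CData X T z t) :
    ∃ n, 2 ≤ n ∧ Nonempty ((T : Subgroup G) ≃* DihedralGroup n) := by
  refine ⟨_, ?_, DihRec.dihedral_of_cyclic ((X z).subgroupOf (T : Subgroup G)) (cyclic_TY C)
    (index_TY h C) ?_⟩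
  · have h1 := orderOf_dvd_natCard
      (⟨⟨z, C.zT⟩, Subgroup.mem_subgroupOf.2 (h.mem z)⟩ : (X z).subgroupOf (T : Subgroup G))
    rw [Subgroup.orderOf_mk, Subgroup.orderOf_mk, C.hz] at h1
    exact Nat.le_of_dvd Nat.card_pos h1
  · intro b hb
    exact Subtype.ext (sq (inv_of_comm h C.hz (C.TC _ b.2) hb).1)

/-- elements of `N(T) ∩ C(z)` lie in `T` -/
theorem mem_T_of (_h : NP X) (C : CData X T z t) {c : G}
    (hc : c ∈ normalizer ((T : Subgroup G) : Set G)) (hcz : c * z = z * c) :
    c ∈ (T : Subgroup G) := by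
  have key : ∀ c ∈ normalizer ((T : Subgroup G) : Set G), c ∈ X z → c ∈ (T : Subgroup G) := by
    intro c hc hcY
    have h1 : c * t * c⁻¹ ∈ (T : Subgroup G) := (conj_mem_iff_of_normalizer hc t).2 C.tT
    have h2 : c * t * c⁻¹ = c * c * t := by
      have := tinv' C (inv_mem hcY)
      rw [inv_inv] at this
      rw [mul_assoc, this, ← mul_assoc]
    have h3 : c * c ∈ (T : Subgroup G) := by
      rw [h2] at h1
      have := mul_mem h1 (inv_mem C.tT)
      rwa [mul_inv_cancel_right] at this
    obtain ⟨k, hk⟩ := T.2 ⟨c * c, h3⟩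
    have hk' : (c * c) ^ 2 ^ k = 1 := congrArg Subtype.val hk
    refine mem_sylow_of_normalizer hc (k := k + 1) ?_
    rw [pow_succ', pow_mul, pow_two]
    exact hk'
  by_cases hcY : c ∈ X z
  · exact key c hc hcY
  · have h1 : c * t ∈ X z := C.cen c hcz hcY
    have h2 := key _ (mul_mem hc (Subgroup.le_normalizer C.tT)) h1
    have := mul_mem h2 (inv_mem C.tT)
    rwa [mul_inv_cancel_right] at this

/-- every element of `T` lies in a normal subgroup containing the involutions -/
theorem T_le (h : NP X) (C : CData X T z t) {M : Subgroup G} (hM : ∀ w, orderOf w = 2 → w ∈ M) :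
    (T : Subgroup G) ≤ M := by
  intro x hx
  by_cases hxY : x ∈ X z
  · have h1 : x * t ∉ X z := by
      intro h2
      have := mul_mem (inv_mem hxY) h2
      rw [inv_mul_cancel_left] at this
      exact C.tY this
    have h2 := hM _ (inv_of_comm h C.hz (C.TC _ (mul_mem hx C.tT)) h1).1
    have := mul_mem h2 (inv_mem (hM t C.ht))
    rwa [mul_inv_cancel_right] at this
  · exact hM x (inv_of_comm h C.hz (C.TC x hx) hxY).1

theorem ne_top_case (h : NP X) (hab : NoAb G) [Nontrivial G] (C : CData X T z t)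
    {M : Subgroup G} (hMn : M.Normal) (hTM : (T : Subgroup G) ≤ M) : M = ⊤ := by
  have hfr : normalizer ((T : Subgroup G) : Set G) ⊔ M = ⊤ := T.normalizer_sup_eq_top' hTM
  suffices hN : normalizer ((T : Subgroup G) : Set G) ≤ M by
    rw [eq_top_iff, ← hfr]
    exact sup_le hN le_rfl
  by_cases hsq : ∀ x ∈ (T : Subgroup G), x ∈ X z → x * x = 1
  · -- `|T| = 4`
    have hTY : ∀ x ∈ (T : Subgroup G), x ∈ X z → x = 1 ∨ x = z := fun x hx hxY =>
      C.Yinv x hxY (hsq x hx hxY)
    have hTel : ∀ w ∈ (T : Subgroup G), w = 1 ∨ w = z ∨ w = t ∨ w = z * t := by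
      intro w hw
      by_cases hwY : w ∈ X z
      · rcases hTY w hw hwY with h1 | h1
        · exact Or.inl h1
        · exact Or.inr (Or.inl h1)
      · rcases hTY (w * t) (mul_mem hw C.tT) (mul_t_mem C hw hwY) with h1 | h1
        · have h2 := eq_inv_of_mul_eq_one_left h1
          rw [ttinv C] at h2
          exact Or.inr (Or.inr (Or.inl h2))
        · refine Or.inr (Or.inr (Or.inr ?_))
          rw [← h1, mul_assoc, tt C, mul_one]
    have hTsq : ∀ w ∈ (T : Subgroup G), w * w = 1 := by
      intro w hw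
      by_cases hwY : w ∈ X z
      · exact hsq w hw hwY
      · exact sq (inv_of_comm h C.hz (C.TC w hw) hwY).1
    have hTab : ∀ a ∈ (T : Subgroup G), ∀ b ∈ (T : Subgroup G), a * b = b * a := by
      intro a ha b hb
      have h1 := hTsq _ (mul_mem ha hb)
      have h4 : a * b = (a * b)⁻¹ := eq_inv_of_mul_eq_one_left h1
      rw [h4, mul_inv_rev, inv_eq_of_mul_eq_one_left (hTsq a ha),
        inv_eq_of_mul_eq_one_left (hTsq b hb)]
    -- an odd element of `M ∩ N(T)`
    let TM : Sylow 2 M := T.subtype hTM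
    have hTM1 : ∀ x : M, x ∈ (TM : Subgroup M) ↔ (x : G) ∈ (T : Subgroup G) := fun x => Iff.rfl
    obtain ⟨n, hnM, hnN, s, hs, hne⟩ : ∃ n ∈ M, n ∈ normalizer ((T : Subgroup G) : Set G) ∧
        ∃ s ∈ (T : Subgroup G), n * s ≠ s * n := by
      by_contra hcon
      push Not at hcon
      have hle : normalizer ((TM : Subgroup M) : Set M) ≤ centralizer ((TM : Subgroup M) : Set M) := by
        intro n hn
        rw [mem_centralizer_iff]
        intro s hs
        apply Subtype.ext
        refine (hcon n n.2 ?_ s hs).symm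
        rw [Subgroup.mem_normalizer_iff] at hn ⊢
        intro x
        by_cases hxM : x ∈ M
        · exact hn ⟨x, hxM⟩
        · constructor
          · intro hx; exact absurd (hTM hx) hxM
          · intro hx
            exfalso
            apply hxM
            have h1 := hTM hx
            have h2 := mul_mem (mul_mem (inv_mem n.2) h1) n.2
            have e : (n : G)⁻¹ * (n * x * (n : G)⁻¹) * n = x := by group
            rwa [e] at h2
      set f := MonoidHom.transferSylow TM hle with hf
      have h1 := MonoidHom.ker_transferSylow_isComplement' TM hle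
      have h2 := MonoidHom.not_dvd_card_ker_transferSylow TM hle
      rw [← hf] at h1 h2
      have hodd : Odd (Nat.card f.ker) := by
        rw [← Nat.not_even_iff_odd]
        intro h4
        exact h2 h4.two_dvd
      have hker : ∀ x : M, Odd (orderOf x) → x ∈ f.ker := by
        intro x hx
        have h3 : orderOf (f x) ∣ orderOf x := orderOf_map_dvd f x
        obtain ⟨k, hk⟩ := TM.2 (f x)
        have h4 : orderOf (f x) ∣ 2 ^ k := orderOf_dvd_of_pow_eq_one hk
        have h5 : Nat.Coprime (orderOf x) (2 ^ k) :=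
          Nat.Coprime.pow_right _ (Nat.coprime_two_right.2 hx)
        exact orderOf_eq_one_iff.1 (Nat.eq_one_of_dvd_coprimes h5 h3 h4)
      have hKn : (f.ker.map M.subtype).Normal := by
        constructor
        rintro _ ⟨x, hx, rfl⟩ g
        refine ⟨⟨g * x * g⁻¹, hMn.conj_mem _ x.2 g⟩, ?_, rfl⟩
        apply hker
        have h3 : orderOf (⟨g * x * g⁻¹, hMn.conj_mem _ x.2 g⟩ : M) = orderOf x := by
          rw [Subgroup.orderOf_mk, orderOf_conj, Subgroup.orderOf_coe]
        rw [h3]
        have h4 : orderOf x ∣ Nat.card f.ker := by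
          have := orderOf_dvd_natCard (⟨x, hx⟩ : f.ker)
          rwa [Subgroup.orderOf_mk] at this
        exact Odd.of_dvd_nat hodd h4
      have h3 := hab.odd hKn (by
        rw [Subgroup.card_map_of_injective M.subtype_injective]; exact hodd)
      have h4 : f.ker = ⊥ := by
        rwa [Subgroup.map_eq_bot_iff_of_injective _ M.subtype_injective] at h3
      rw [h4] at h1
      have h5 : (TM : Subgroup M) = ⊤ := Subgroup.isComplement'_bot_left.1 h1
      have h6 : M = (T : Subgroup G) := by
        apply le_antisymm _ hTM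
        intro x hx
        have : (⟨x, hx⟩ : M) ∈ (TM : Subgroup M) := by rw [h5]; trivial
        exact this
      have h7 := hab M hMn (by rw [h6]; exact hTab)
      have h8 := hTM C.zT
      rw [h7, mem_bot] at h8
      exact ne_one C.hz h8
    have h1 : ¬ ∃ k : ℕ, n ^ 2 ^ k = 1 := by
      rintro ⟨k, hk⟩
      exact hne (hTab n (mem_sylow_of_normalizer hnN hk) s hs)
    obtain ⟨m, p, hp, hp2, hy⟩ := exists_odd_power h1
    have hyN : n ^ m ∈ normalizer ((T : Subgroup G) : Set G) := pow_mem hnN m
    have hyM : n ^ m ∈ M := pow_mem hnM m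
    generalize n ^ m = y at hy hyN hyM
    have hyT : ∀ v ∈ (T : Subgroup G), y * v * y⁻¹ ∈ (T : Subgroup G) := fun v hv =>
      (conj_mem_iff_of_normalizer hyN v).2 hv
    have hnot : ∀ x : G, x ∈ (T : Subgroup G) → orderOf x = p → False := by
      intro x hx ho
      obtain ⟨k, hk⟩ := T.2 ⟨x, hx⟩
      have hk' : x ^ 2 ^ k = 1 := congrArg Subtype.val hk
      have h2 : p ∣ 2 ^ k := by rw [← ho]; exact orderOf_dvd_of_pow_eq_one hk'
      exact hp2 ((Nat.prime_dvd_prime_iff_eq hp Nat.prime_two).1 (hp.dvd_of_dvd_pow h2))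
    have hyz : y * z ≠ z * y := fun h2 => hnot y (mem_T_of h C hyN h2) hy
    have hy2 : (y * y) * z ≠ z * (y * y) := by
      intro h2
      apply hnot _ (mem_T_of h C (mul_mem hyN hyN) h2)
      rw [← pow_two, ← hy]
      apply Nat.Coprime.orderOf_pow
      rw [hy]
      exact (Nat.coprime_primes hp Nat.prime_two).2 hp2
    set z₁ := y * z * y⁻¹ with hz₁
    set z₂ := y * z₁ * y⁻¹ with hz₂
    have e1 : z₁ ≠ z := by
      intro h2
      apply hyz
      have : y * z * y⁻¹ * y = z * y := by rw [← hz₁, h2]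
      simpa using this
    have e2 : z₂ ≠ z₁ := by
      intro h2
      apply e1
      rw [hz₂, hz₁] at h2
      have := congrArg (fun w => y⁻¹ * w * y) h2
      have e : y⁻¹ * (y * (y * z * y⁻¹) * y⁻¹) * y = z₁ := by rw [hz₁]; group
      have e' : y⁻¹ * (y * z * y⁻¹) * y = z := by group
      exact e.symm.trans (this.trans e')
    have e3 : z₂ ≠ z := by
      intro h2
      apply hy2
      have h3 : (y * y) * z * (y * y)⁻¹ = z₂ := by rw [hz₂, hz₁]; group
      rw [h2] at h3
      have h4 : (y * y) * z = (y * y) * z * (y * y)⁻¹ * (y * y) := by group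
      rw [h4, h3]
    have f1 : z₁ ≠ 1 := by rw [hz₁]; simpa using ne_one C.hz
    have f2 : z₂ ≠ 1 := by rw [hz₂]; simpa using f1
    have g1 : z₁ ∈ (T : Subgroup G) := hyT z C.zT
    have g2 : z₂ ∈ (T : Subgroup G) := hyT _ g1
    intro n' hn'
    have hzn : n' * z * n'⁻¹ ∈ (T : Subgroup G) := (conj_mem_iff_of_normalizer hn' z).2 C.zT
    have hzn1 : n' * z * n'⁻¹ ≠ 1 := by simpa using ne_one C.hz
    -- `n' z n'⁻¹` is one of the three conjugates
    have hthree : n' * z * n'⁻¹ = z ∨ n' * z * n'⁻¹ = z₁ ∨ n' * z * n'⁻¹ = z₂ := by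
      rcases hTel _ hzn with h2 | h2 | h2 | h2
      · exact absurd h2 hzn1
      · exact Or.inl h2
      · rcases hTel _ g1 with h3 | h3 | h3 | h3
        · exact absurd h3 f1
        · exact absurd h3 e1
        · right; left; rw [h2, h3]
        · rcases hTel _ g2 with h4 | h4 | h4 | h4
          · exact absurd h4 f2
          · exact absurd h4 e3
          · right; right; rw [h2, h4]
          · exact absurd (h4.trans h3.symm) e2
      · rcases hTel _ g1 with h3 | h3 | h3 | h3
        · exact absurd h3 f1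
        · exact absurd h3 e1
        · rcases hTel _ g2 with h4 | h4 | h4 | h4
          · exact absurd h4 f2
          · exact absurd h4 e3
          · exact absurd (h4.trans h3.symm) e2
          · right; right; rw [h2, h4]
        · right; left; rw [h2, h3]
    have hfin : ∀ k ∈ M, k ∈ normalizer ((T : Subgroup G) : Set G) → n' * z * n'⁻¹ = k * z * k⁻¹ →
        n' ∈ M := by
      intro k hkM hkN hk
      have h2 : (k⁻¹ * n') * z = z * (k⁻¹ * n') := by
        have h3 : (k⁻¹ * n') * z * (k⁻¹ * n')⁻¹ = z := by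
          calc (k⁻¹ * n') * z * (k⁻¹ * n')⁻¹ = k⁻¹ * (n' * z * n'⁻¹) * k := by group
            _ = z := by rw [hk]; group
        have h4 : (k⁻¹ * n') * z = (k⁻¹ * n') * z * (k⁻¹ * n')⁻¹ * (k⁻¹ * n') := by group
        rw [h4, h3]
      have h3 := hTM (mem_T_of h C (mul_mem (inv_mem hkN) hn') h2)
      have h4 := mul_mem hkM h3
      rwa [mul_inv_cancel_left] at h4
    rcases hthree with h2 | h2 | h2
    · exact hfin 1 (one_mem _) (one_mem _) (by rw [h2]; group)
    · exact hfin y hyM hyN (by rw [h2])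
    · exact hfin (y * y) (mul_mem hyM hyM) (mul_mem hyN hyN) (by rw [h2, hz₂, hz₁]; group)
  · -- `|T| ≥ 8`
    push Not at hsq
    obtain ⟨x, hxT, hxY, hxx⟩ := hsq
    -- `z` is a power of `x`
    obtain ⟨k, hk⟩ : ∃ k : ℕ, x ^ k = z := by
      obtain ⟨j, hj⟩ := T.2 ⟨x, hxT⟩
      have hj' : x ^ 2 ^ j = 1 := congrArg Subtype.val hj
      have h1 : x ≠ 1 := by rintro rfl; simp at hxx
      have hdvd : orderOf x ∣ 2 ^ j := orderOf_dvd_of_pow_eq_one hj'
      rw [Nat.dvd_prime_pow Nat.prime_two] at hdvd
      obtain ⟨i, -, hi⟩ := hdvd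
      have hi0 : i ≠ 0 := by
        rintro rfl
        rw [pow_zero, orderOf_eq_one_iff] at hi
        exact h1 hi
      obtain ⟨i, rfl⟩ := Nat.exists_eq_succ_of_ne_zero hi0
      have h2 : x ^ 2 ^ i * x ^ 2 ^ i = 1 := by
        rw [← pow_add, ← two_mul, ← pow_succ', ← Nat.succ_eq_add_one, ← hi, pow_orderOf_eq_one]
      rcases C.Yinv _ (pow_mem hxY _) h2 with h3 | h3
      · exfalso
        have h4 := orderOf_dvd_of_pow_eq_one h3
        rw [hi] at h4
        have := (Nat.pow_dvd_pow_iff_le_right (by norm_num : 1 < 2)).1 h4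
        omega
      · exact ⟨_, h3⟩
    intro n hn
    apply hTM
    apply mem_T_of h C hn
    have h1 : n * x * n⁻¹ ∈ (T : Subgroup G) := (conj_mem_iff_of_normalizer hn x).2 hxT
    have h2 : n * x * n⁻¹ ∈ X z := by
      by_contra h3
      have h4 := sq (inv_of_comm h C.hz (C.TC _ h1) h3).1
      apply hxx
      have h5 : n * (x * x) * n⁻¹ = 1 := by rw [← h4]; group
      have := congrArg (fun w => n⁻¹ * w * n) h5
      simpa [mul_assoc] using this
    have h3 : n * z * n⁻¹ ∈ X z := by
      have h3' : n * z * n⁻¹ = (n * x * n⁻¹) ^ k := by rw [conj_pow, hk]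
      rw [h3']
      exact pow_mem h2 k
    have h4 : (n * z * n⁻¹) * (n * z * n⁻¹) = 1 := by
      have : (n * z * n⁻¹) * (n * z * n⁻¹) = n * (z * z) * n⁻¹ := by group
      rw [this, sq C.hz]; group
    rcases C.Yinv _ h3 h4 with h5 | h5
    · exact absurd h5 (by simpa using ne_one C.hz)
    · have h6 : n * z = n * z * n⁻¹ * n := by group
      rw [h6, h5]

theorem simple (h : NP X) (hab : NoAb G) [Nontrivial G] (C : CData X T z t)
    (hone : ∀ u v : G, orderOf u = 2 → orderOf v = 2 → IsConj u v) : IsSimpleGroup G := by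
  refine ⟨fun M hMn => ?_⟩
  by_cases hM : M = ⊥
  · exact Or.inl hM
  right
  have hev : Even (Nat.card M) := by
    rw [← Nat.not_odd_iff_even]
    intro ho
    exact hM (hab.odd hMn ho)
  obtain ⟨w, hw, hwo⟩ := StrongEmbPt.exists_involution hev
  have hinv : ∀ v, orderOf v = 2 → v ∈ M := by
    intro v hv
    obtain ⟨g, hg⟩ := isConj_iff.1 (hone w v hwo hv)
    rw [← hg]; exact hMn.conj_mem _ hw g
  exact ne_top_case h hab C hMn (T_le h C hinv)

theorem one_class (h : NP X) (hab : NoAb G) [Nontrivial G] (C : CData X T z t)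
    (hone : ∀ u v : G, orderOf u = 2 → orderOf v = 2 → IsConj u v) : Two.PG G := by
  have hsimple := simple h hab C hone
  obtain ⟨n, hn, hiso⟩ := iso_dihedral h C
  set O : Subgroup G := (Cfsg.oddCore (centralizer ({z} : Set G))).map
    (centralizer ({z} : Set G)).subtype with hO
  -- odd elements of C(z) lie in Y
  have hOodd : ∀ x ∈ O, Odd (orderOf x) ∧ x * z = z * x := by
    rintro _ ⟨x, hx, rfl⟩
    refine ⟨?_, mem_centralizer_singleton_iff.1 x.2⟩
    have h1 := Cores.coprime_card_pPrimeCore 2 (centralizer ({z} : Set G))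
    have h2 : orderOf x ∣ Nat.card (Cfsg.pPrimeCore 2 (centralizer ({z} : Set G))) := by
      have := orderOf_dvd_natCard (⟨x, hx⟩ : Cfsg.oddCore (centralizer ({z} : Set G)))
      rwa [Subgroup.orderOf_mk] at this
    have h3 : Nat.Coprime (orderOf x) 2 := Nat.Coprime.coprime_dvd_left h2 h1
    show Odd (orderOf (x : G))
    rw [Subgroup.orderOf_coe]
    exact Nat.coprime_two_right.1 h3
  have hOY : O ≤ X z := by
    intro x hx
    obtain ⟨h1, h2⟩ := hOodd x hx
    by_contra h3
    rw [(inv_of_comm h C.hz h2 h3).1] at h1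
    exact absurd h1 (by decide)
  have hOsq : ∀ x ∈ O, x * x = 1 → x = 1 := by
    intro x hx hxx
    have h1 := (hOodd x hx).1
    have h2 : orderOf x ∣ 2 := orderOf_dvd_of_pow_eq_one (by rw [pow_two]; exact hxx)
    exact orderOf_eq_one_iff.1 (Nat.eq_one_of_dvd_coprimes (Nat.coprime_two_right.2 h1) dvd_rfl h2)
  obtain ⟨F, i1, i2, hF, e⟩ := Cfsg.Agent.S0508.result T n hn hiso z C.hz C.zT C.TC O hO
    (by
      intro hO1
      obtain ⟨x, hx, hx1⟩ : ∃ x ∈ O, x ≠ 1 := by
        by_contra hcon
        push Not at hcon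
        apply hO1
        rw [eq_bot_iff]
        intro x hx
        rw [mem_bot]; exact hcon x hx
      have h1 : (T : Subgroup G) ⊓ centralizer (O : Set G) = (T : Subgroup G) ⊓ X z := by
        apply le_antisymm
        · intro w hw
          obtain ⟨hwT, hwO⟩ := Subgroup.mem_inf.1 hw
          refine Subgroup.mem_inf.2 ⟨hwT, ?_⟩
          by_contra hwY
          have h2 := (inv_of_comm h C.hz (C.TC w hwT) hwY).2 x (hOY hx)
          have h3 := Subgroup.mem_centralizer_iff.1 hwO x hx
          have h4 : w * x * w⁻¹ = x := by rw [← h3]; group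
          rw [h4] at h2
          apply hx1
          apply hOsq x hx
          nth_rewrite 1 [h2]; exact inv_mul_cancel x
        · intro w hw
          obtain ⟨hwT, hwY⟩ := Subgroup.mem_inf.1 hw
          refine Subgroup.mem_inf.2 ⟨hwT, Subgroup.mem_centralizer_iff.2 fun y hy => ?_⟩
          exact C.Yab y (hOY hy) w hwY
      constructor
      · rw [h1]
        have h2 := cyclic_TY C
        have e : ((X z).subgroupOf (T : Subgroup G)) ≃* ↥((T : Subgroup G) ⊓ X z) :=
          (Subgroup.equivMapOfInjective ((X z).subgroupOf (T : Subgroup G)) (T : Subgroup G).subtype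
            (Subgroup.subtype_injective _)).trans
            (MulEquiv.subgroupCongr (by rw [Subgroup.subgroupOf_map_subtype, inf_comm]))
        exact e.isCyclic.1 h2
      · rw [h1, inf_comm, Subgroup.inf_relIndex_right]
        exact index_TY h C)
    (by
      intro s hs hsO y hy
      by_cases hsY : s ∈ X z
      · exfalso
        apply hsO
        exact Subgroup.mem_centralizer_iff.2 fun y hy => C.Yab y (hOY hy) s hsY
      · exact (inv_of_comm h C.hz (C.TC s hs) hsY).2 y (hOY hy))
    (by
      intro Y' hY' hY1 g hg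
      obtain ⟨y, hy, hy1⟩ : ∃ y ∈ Y', y ≠ 1 := by
        by_contra hcon
        push Not at hcon
        apply hY1
        rw [eq_bot_iff]
        intro x hx
        rw [mem_bot]; exact hcon x hx
      have h1 : g * y * g⁻¹ ∈ X z := hOY (hY' ((Subgroup.mem_normalizer_iff.1 hg y).1 hy))
      have h2 := h.mem_normalizer_of hy1 (hOY (hY' hy)) h1
      rw [mem_centralizer_singleton_iff]
      exact C.nor g fun x hx => (Subgroup.mem_normalizer_iff.1 h2 x).1 hx)
  refine Or.inl ⟨F, i1, i2, ?_, e⟩
  by_contra hcon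
  have h1 : 1 < Fintype.card F := Fintype.one_lt_card
  have h2 : Fintype.card F = 3 := by
    obtain ⟨k, hk⟩ := hF
    omega
  have h3 := CITRad.card_psl2 (F := F) h2
  obtain ⟨e⟩ := e
  rw [← Nat.card_congr e.toEquiv] at h3
  norm_num at h3
  have h4 : Nat.card G = 12 := by omega
  exact hab.not_solvable (Cfsg.Agent.S0144.result 2 3 2 1 Nat.prime_two Nat.prime_three
    (by rw [h4]; norm_num))

end Cfsg.Agent.Lib.NPartV
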