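import Cfsg.Agent.Lib.SmallSimple3

/-! Sylow numbers: quotients by the kernel, normal subgroups, and Sylow numbers of overgroups of the
normalizer. Used for the groups with 21 Sylow 5-subgroups or 22 Sylow 3-subgroups. -/

set_option autoImplicit false

open Subgroup Cfsg.Agent.Lib.SmallSimple

namespace Cfsg.Agent.Lib.NSylMin

variable {G : Type*} [Group G] [Finite G] {p : ℕ} [Fact p.Prime]

/-- A Sylow subgroup contained in the normalizer of another one is equal to it. -/
theorem sylow_eq_of_le {P Q : Sylow p G} (h : (Q : Subgroup G) ≤ normalizer ((P : Subgroup G) : Set G)) :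
    Q = P := by
  have h1 : (Q : Subgroup G) ⊓ normalizer ((P : Subgroup G) : Set G) = (Q : Subgroup G) ⊓ P :=
    IsPGroup.inf_normalizer_sylow Q.isPGroup' P
  rw [inf_eq_left.2 h] at h1
  have h2 : (Q : Subgroup G) ≤ P := by rw [h1]; exact inf_le_right
  exact (Sylow.ext (Q.is_maximal' P.isPGroup' h2)).symm

/-- Factoring out a normal subgroup normalizing all Sylow subgroups does not change the Sylow number. -/
theorem card_sylow_quotient (K : Subgroup G) [K.Normal]
    (hK : ∀ P : Sylow p G, K ≤ normalizer ((P : Subgroup G) : Set G)) :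
    Nat.card (Sylow p (G ⧸ K)) = Nat.card (Sylow p G) := by
  symm
  refine Nat.card_congr (Equiv.ofBijective
    (fun P : Sylow p G => P.mapSurjective (QuotientGroup.mk'_surjective K)) ⟨?_, ?_⟩)
  · intro P Q hPQ
    have h1 : (P : Subgroup G).map (QuotientGroup.mk' K) = (Q : Subgroup G).map (QuotientGroup.mk' K) := by
      have := congrArg (fun R : Sylow p (G ⧸ K) => (R : Subgroup (G ⧸ K))) hPQ
      simpa using this
    apply Eq.symm
    apply sylow_eq_of_le
    have h2 : (Q : Subgroup G) ≤ ((P : Subgroup G).map (QuotientGroup.mk' K)).comap (QuotientGroup.mk' K) := by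
      rw [h1]; exact le_comap_map _ _
    rw [comap_map_eq, QuotientGroup.ker_mk'] at h2
    exact h2.trans (sup_le le_normalizer (hK P))
  · exact Sylow.mapSurjective_surjective _ _

/-- The Sylow number of an intermediate subgroup. -/
theorem nsyl_sub (H : Subgroup G) (P : Sylow p G) (h : (P : Subgroup G) ≤ H) :
    Nat.card (Sylow p H) = (normalizer ((P : Subgroup G) : Set G)).relIndex H := by
  rw [Sylow.card_eq_index_normalizer (P.subtype h), relIndex]
  congr 1
  rw [subgroupOf_normalizer_eq h]
  rfl

theorem smul_normalizer (g : G) (P : Sylow p G) :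
    normalizer (((g • P : Sylow p G) : Subgroup G) : Set G) =
      (normalizer ((P : Subgroup G) : Set G)).map (MulAut.conj g).toMonoidHom := by
  rw [Sylow.coe_subgroup_smul]
  have h := Subgroup.map_equiv_normalizer_eq (P : Subgroup G) (MulAut.conj g)
  rw [MulEquiv.toMonoidHom_eq_coe] at *
  rw [h]
  rfl

theorem normal_le_normalizer_of (N : Subgroup G) [hN : N.Normal] (P Q : Sylow p G)
    (h : N ≤ normalizer ((P : Subgroup G) : Set G)) : N ≤ normalizer ((Q : Subgroup G) : Set G) := by
  obtain ⟨g, rfl⟩ := MulAction.exists_smul_eq G P Q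
  rw [smul_normalizer]
  intro x hx
  refine ⟨g⁻¹ * x * g, h ?_, ?_⟩
  · have := hN.conj_mem x hx g⁻¹
    simpa using this
  · simp [mul_assoc]

/-- If the only divisors of the Sylow number `n` which are `1` modulo `p` are `1` and `n`, then a normal
subgroup normalizes all Sylow subgroups or is transitive on them. -/
theorem normal_dichotomy {n : ℕ} (hn : Nat.card (Sylow p G) = n)
    (hdiv : ∀ d, d ∣ n → d % p = 1 → d = 1 ∨ d = n) (N : Subgroup G) [N.Normal] :
    (∀ P : Sylow p G, N ≤ normalizer ((P : Subgroup G) : Set G)) ∨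
    (∀ P : Sylow p G, N ⊔ normalizer ((P : Subgroup G) : Set G) = ⊤) := by
  by_cases h : ∀ P : Sylow p G, N ≤ normalizer ((P : Subgroup G) : Set G)
  · exact Or.inl h
  right
  intro P
  set H := N ⊔ normalizer ((P : Subgroup G) : Set G) with hH
  have h1 : Nat.card (Sylow p H) = (normalizer ((P : Subgroup G) : Set G)).relIndex H :=
    nsyl_sub H P (le_normalizer.trans le_sup_right)
  have h2 : (normalizer ((P : Subgroup G) : Set G)).relIndex H * H.index = n := by
    rw [relIndex_mul_index le_sup_right, ← hn]
    exact (Sylow.card_eq_index_normalizer P).symm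
  have h3 := nsyl_mod p H
  rw [h1] at h3
  rcases hdiv _ (Dvd.intro _ h2) h3 with h4 | h4
  · exfalso
    apply h
    intro Q
    apply normal_le_normalizer_of N P Q
    rw [relIndex_eq_one] at h4
    exact le_sup_left.trans h4
  · rw [h4] at h2
    have hn0 : n ≠ 0 := by
      rw [← hn]; exact Nat.card_pos.ne'
    have : H.index = 1 := by
      have h5 : n * H.index = n * 1 := by rw [h2, mul_one]
      exact Nat.eq_of_mul_eq_mul_left (Nat.pos_of_ne_zero hn0) h5
    exact index_eq_one.1 this

/-- a subgroup supplementing the normalizer of a Sylow subgroup acts transitively -/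
theorem relIndex_of_sup {n : ℕ} (hn : Nat.card (Sylow p G) = n) (N : Subgroup G) [N.Normal] (P : Sylow p G)
    (h : N ⊔ normalizer ((P : Subgroup G) : Set G) = ⊤) :
    (normalizer ((P : Subgroup G) : Set G)).relIndex N = n := by
  have h0 : N.index = N.relIndex (normalizer ((P : Subgroup G) : Set G)) := by
    rw [← relIndex_top_right N, ← h, sup_comm, relIndex_sup_right]
  have h1 := relIndex_mul_card_inf N (normalizer ((P : Subgroup G) : Set G))
  have h2 := relIndex_mul_card_inf (normalizer ((P : Subgroup G) : Set G)) N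
  rw [inf_comm] at h2
  have h3 := N.index_mul_card
  have h4 := card_normalizer_mul_nsyl P
  rw [hn] at h4
  have hpos : 0 < Nat.card ↥(N ⊓ normalizer ((P : Subgroup G) : Set G)) := Nat.card_pos
  have hpos2 : 0 < N.relIndex (normalizer ((P : Subgroup G) : Set G)) := by
    rw [← h0]; exact Nat.pos_of_ne_zero index_ne_zero_of_finite
  have h5 : (N.relIndex (normalizer ((P : Subgroup G) : Set G)) *
      Nat.card ↥(N ⊓ normalizer ((P : Subgroup G) : Set G))) *
      (normalizer ((P : Subgroup G) : Set G)).relIndex N =
      (N.relIndex (normalizer ((P : Subgroup G) : Set G)) *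
      Nat.card ↥(N ⊓ normalizer ((P : Subgroup G) : Set G))) * n := by
    rw [h1, h4, ← h3, ← h2, h0, ← h1]
    ring
  exact Nat.eq_of_mul_eq_mul_left (Nat.mul_pos hpos2 hpos) h5

end Cfsg.Agent.Lib.NSylMin
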