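import Cfsg.Agent.Lib.NatSL2g
import Cfsg.Agent.Lib.ClSeven
import Cfsg.Agent.S2553
import Cfsg.Agent.S0991

/-!
Groups containing `SL₂(4)` on the natural module (S2932): conclusion.
-/

set_option autoImplicit false

namespace Cfsg.Agent.Lib.NatSL2h

open Cfsg.Agent.Lib.HigSL2 Matrix Cfsg.Agent.Lib.NatSL2a Cfsg.Agent.Lib.NatSL2b Cfsg.Agent.Lib.NatSL2c
  Cfsg.Agent.Lib.NatSL2e Cfsg.Agent.Lib.NatSL2f Cfsg.Agent.Lib.NatSL2g
open scoped Pointwise

variable {F : Type*} [Field F] [Finite F] [CharP F 2]
variable {G : Type*} [Group G] [Finite G] [DistribMulAction G (Fin 2 → F)] [FaithfulSMul G (Fin 2 → F)]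
  {s : SpecialLinearGroup (Fin 2) F →* G}
variable (hs : ∀ m w, s m • w = m.1 *ᵥ w)
include hs

/-- the Sylow 2-subgroup has order at most 8 -/
theorem card_P_le [hp2 : Fact (Nat.Prime 2)] (h4 : Nat.card F = 4) {P : Subgroup G} (hP : IsPGroup 2 P)
    (hU : ∀ a, s (U a) ∈ P) (hPN : P ≤ Subgroup.normalizer (s.range : Set G)) : Nat.card P ≤ 8 := by
  classical
  let alg : Algebra (ZMod 2) F := ZMod.algebra F 2
  have hfin : Fintype F := Fintype.ofFinite F
  have hfr : Module.finrank (ZMod 2) F = 2 := by
    have h8 : Nat.card F = Nat.card (ZMod 2) ^ Module.finrank (ZMod 2) F := Module.natCard_eq_pow_finrank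
    rw [Nat.card_zmod, h4] at h8
    have h9 : 2 ^ 2 = 2 ^ Module.finrank (ZMod 2) F := by rw [← h8]; norm_num
    exact (Nat.pow_right_injective le_rfl h9).symm
  have hgal : Nat.card (F ≃ₐ[ZMod 2] F) = 2 := by
    rw [IsGalois.card_aut_eq_finrank, hfr]
  let φ : P →* (F ≃ₐ[ZMod 2] F) := (galHom hs (p := 2)).comp (Subgroup.inclusion hPN)
  have hcard : Nat.card P = Nat.card φ.ker * Nat.card φ.range := by
    rw [← Subgroup.index_ker, Subgroup.card_mul_index]
  have h1 : Nat.card φ.range ≤ 2 := (Subgroup.card_le_card_group _).trans hgal.le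
  have h2 : Nat.card φ.ker ≤ 4 := by
    rw [← h4]
    have key : ∀ x : φ.ker, ∃ a : F, ((x : P) : G) = s (U a) := by
      intro x
      refine mem_U_of_sg hs hP hU hPN x.1.2 (fun l => ?_)
      exact AlgEquiv.congr_fun x.2 l
    choose f hf using key
    refine Nat.card_le_card_of_injective f ?_
    intro x y hxy
    apply Subtype.ext
    apply Subtype.ext
    rw [hf x, hf y, hxy]
  rw [hcard]
  exact (Nat.mul_le_mul h2 h1).trans (by norm_num)

theorem pow_dvd_le {n k : ℕ} [hp2 : Fact (Nat.Prime 2)] (P : Sylow 2 G) (hk : 2 ^ k ∣ Nat.card G)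
    (hle : Nat.card P ≤ n) : 2 ^ k ≤ n :=
  (Nat.le_of_dvd Nat.card_pos (P.pow_dvd_card_of_pow_dvd_card hk)).trans hle

/-- **The exceptional case.** -/
theorem main4 [hp2 : Fact (Nat.Prime 2)] (h4 : Nat.card F = 4) (P : Sylow 2 G)
    (hU : ∀ a, s (U a) ∈ (P : Subgroup G))
    (hPN : (P : Subgroup G) ≤ Subgroup.normalizer (s.range : Set G)) :
    s.range.Normal ∨ Nonempty (G ≃* alternatingGroup (Fin 7)) := by
  classical
  have hL : Nat.card s.range = 60 := by
    rw [← card_SL2 h4]
    exact (Nat.card_congr (MonoidHom.ofInjective (s_injective hs)).toEquiv).symm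
  have hP8 : Nat.card P ≤ 8 := card_P_le hs h4 P.2 hU hPN
  by_cases hD : pPrimeCore 2 G = ⊥
  swap
  · left
    refine normal_of_odd hs h4 hD ?_
    intro h
    have h1 := Cores.coprime_card_pPrimeCore 2 G
    have h2 : 2 ∣ Nat.gcd (Nat.card (pPrimeCore 2 G)) 2 := Nat.dvd_gcd h (dvd_refl 2)
    rw [Nat.Coprime.gcd_eq_one h1] at h2
    omega
  have hO : pCore 2 G = ⊥ := eq_bot_of_isPGroup hs (Cores.isPGroup_pCore 2 G)
  obtain ⟨f, hf⟩ := exists_embed (F := F) (G := G) h4
  let e : G ≃* f.range := MonoidHom.ofInjective hf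
  have hD' : pPrimeCore 2 f.range = ⊥ := by
    rw [← Cores.map_pPrimeCore_equiv 2 e, hD, Subgroup.map_bot]
  have hO' : pCore 2 f.range = ⊥ := by
    rw [← Cores.map_pCore_equiv 2 e, hO, Subgroup.map_bot]
  have hL60 : 60 ∣ Nat.card G := by
    rw [← hL]; exact Subgroup.card_subgroup_dvd_card _
  have hne : f.range ≠ ⊥ := by
    intro h
    have h1 := Nat.card_congr e.toEquiv
    rw [h, Subgroup.card_bot] at h1
    rw [h1] at hL60
    omega
  rcases Cfsg.Agent.S2553.result f.range hne hD' hO' with ⟨n, h5, h8, ⟨e1⟩⟩ | ⟨⟨e1⟩⟩ | ⟨⟨e1⟩⟩ | ⟨⟨e1⟩⟩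
  · have hcard := Nat.card_congr (e.trans e1).toEquiv
    have hnt : Nontrivial (Fin n) := Fin.nontrivial_iff_two_le.2 (by omega)
    rw [nat_card_alternatingGroup, Nat.card_eq_fintype_card (α := Fin n), Fintype.card_fin] at hcard
    obtain rfl | rfl | rfl | rfl : n = 5 ∨ n = 6 ∨ n = 7 ∨ n = 8 := by omega
    · left
      have h1 : Nat.card G = 60 := by rw [hcard]; rfl
      have h2 : s.range = ⊤ := Subgroup.eq_top_of_card_eq _ (by rw [hL, h1])
      rw [h2]
      infer_instance
    · left
      have h1 : Nat.card G = 360 := by rw [hcard]; rfl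
      have h2 : 8 ∣ Nat.card P := P.pow_dvd_card_of_pow_dvd_card (n := 3) (by rw [h1]; norm_num)
      have h3 : 8 ∣ Nat.card (Subgroup.normalizer (s.range : Set G) : Subgroup G) :=
        h2.trans (Subgroup.card_dvd_of_le hPN)
      have h5 : 60 ∣ Nat.card (Subgroup.normalizer (s.range : Set G) : Subgroup G) := by
        rw [← hL]; exact Subgroup.card_dvd_of_le Subgroup.le_normalizer
      have h6 : 120 ∣ Nat.card (Subgroup.normalizer (s.range : Set G) : Subgroup G) := by
        omega
      have h7 := Subgroup.card_mul_index (Subgroup.normalizer (s.range : Set G) : Subgroup G)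
      rw [h1] at h7
      obtain ⟨k, hk⟩ := h6
      rw [hk] at h7
      have h8 : k * (Subgroup.normalizer (s.range : Set G) : Subgroup G).index = 3 := by
        have : 120 * (k * (Subgroup.normalizer (s.range : Set G) : Subgroup G).index) = 120 * 3 := by
          rw [← mul_assoc]; exact h7
        exact Nat.eq_of_mul_eq_mul_left (by norm_num) this
      have h9 : (Subgroup.normalizer (s.range : Set G) : Subgroup G).index ∣ 3 := ⟨k, by rw [← h8, mul_comm]⟩
      rcases (Nat.dvd_prime Nat.prime_three).1 h9 with h10 | h10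
      · exact Subgroup.normalizer_eq_top_iff.1 (Subgroup.index_eq_one.1 h10)
      · exfalso
        have hsA : IsSimpleGroup (alternatingGroup (Fin 6)) := alternatingGroup.isSimpleGroup (by simp)
        have hsG : IsSimpleGroup G := (MulEquiv.isSimpleGroup_congr (e.trans e1)).2 hsA
        have hnc : ¬ IsMulCommutative G := by
          intro hc
          have h11 : commutator (SpecialLinearGroup (Fin 2) F) = ⊥ := by
            rw [commutator_def, eq_bot_iff, Subgroup.commutator_le]
            intro x _ y _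
            rw [Subgroup.mem_bot]
            apply s_injective hs
            have hcc : s x * s y = s y * s x := hc.is_comm.comm _ _
            rw [map_one, commutatorElement_def, map_mul, map_mul, map_mul, map_inv, map_inv, hcc]
            group
          have h12 : (⊤ : Subgroup (SpecialLinearGroup (Fin 2) F)) = ⊥ := by
            rw [← h11]; exact (perfect_SL2 h4).symm
          have h13 := card_SL2 h4
          rw [← Subgroup.card_top, h12, Subgroup.card_bot] at h13
          omega
        have hnt : (Subgroup.normalizer (s.range : Set G) : Subgroup G) ≠ ⊤ := by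
          intro h
          rw [h, Subgroup.index_top] at h10
          omega
        have key : ∀ n, n = 3 → (∃ f : G →* alternatingGroup (Fin n), Function.Injective f) → False := ?_
        · exact key _ h10 (Cfsg.Agent.S0991.result hnc _ hnt)
        rintro _ rfl ⟨f2, hf2⟩
        have h14 := Subgroup.card_dvd_of_injective f2 hf2
        rw [h1, nat_card_alternatingGroup, Nat.card_eq_fintype_card (α := Fin 3), Fintype.card_fin] at h14
        have := Nat.le_of_dvd (by decide) h14
        revert this
        decide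
    · exact Or.inr ⟨e.trans e1⟩
    · exfalso
      have h1 : Nat.card G = 20160 := by rw [hcard]; rfl
      have := pow_dvd_le hs (k := 6) P (by rw [h1]; norm_num) hP8
      omega
  · left
    have hcard := Nat.card_congr (e.trans e1).toEquiv
    rw [Nat.card_perm, Nat.card_eq_fintype_card (α := Fin 5), Fintype.card_fin] at hcard
    have h1 : Nat.card G = 120 := by rw [hcard]; rfl
    have h2 := Subgroup.card_mul_index s.range
    rw [hL, h1] at h2
    exact Subgroup.normal_of_index_eq_two (by omega)
  · exfalso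
    have hcard := Nat.card_congr (e.trans e1).toEquiv
    rw [Nat.card_perm, Nat.card_eq_fintype_card (α := Fin 6), Fintype.card_fin] at hcard
    have h1 : Nat.card G = 720 := by rw [hcard]; rfl
    have := pow_dvd_le hs (k := 4) P (by rw [h1]; norm_num) hP8
    omega
  · exfalso
    have hcard := Nat.card_congr (e.trans e1).toEquiv
    rw [ClSeven.card_gl32] at hcard
    rw [hcard] at hL60
    omega

end Cfsg.Agent.Lib.NatSL2h
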