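import Cfsg.Agent.Lib.NatSL2h
import Cfsg.Prelude.Def_LocalEven

/-!
Natural `SL₂(F)`-modules inside an ambient group and the abstract action (S2932).
-/

set_option autoImplicit false

namespace Cfsg.Agent.Lib.NatSL2i

open Cfsg.Agent.Lib.HigSL2 Matrix Cfsg.Agent.Lib.NatSL2a Cfsg.Agent.Lib.NatSL2b Cfsg.Agent.Lib.NatSL2c
  Cfsg.Agent.Lib.NatSL2e

/-- abstract form -/
theorem abstract_main {F : Type*} [Field F] [Finite F] {p : ℕ} [hp : Fact p.Prime] [CharP F p]
    {G : Type*} [Group G] [Finite G] [DistribMulAction G (Fin 2 → F)] [FaithfulSMul G (Fin 2 → F)]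
    (s : SpecialLinearGroup (Fin 2) F →* G) (hs : ∀ m w, s m • w = m.1 *ᵥ w)
    (hcard : (Nat.card (Subgroup.normalizer (s.range : Set G) : Subgroup G)).factorization p
      = (Nat.card G).factorization p) :
    s.range.Normal ∨ (Nat.card F = 4 ∧ Nonempty (G ≃* alternatingGroup (Fin 7))) := by
  have hUp : IsPGroup p (UU s) := by
    rintro ⟨x, a, rfl⟩
    refine ⟨1, ?_⟩
    apply Subtype.ext
    change s (U a) ^ p ^ 1 = 1
    rw [pow_one, u_pow, CharP.cast_eq_zero, zero_mul, U_zero, map_one]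
  have hUp' : IsPGroup p ((UU s).subgroupOf (Subgroup.normalizer (s.range : Set G))) := hUp.comap_subtype
  obtain ⟨Q, hQ⟩ := hUp'.exists_le_sylow
  have hQc : Nat.card ((Q : Subgroup _).map (Subgroup.normalizer (s.range : Set G)).subtype)
      = p ^ (Nat.card G).factorization p := by
    rw [Cores.card_map_subtype, ← hcard]
    exact Q.card_eq_multiplicity
  let P : Sylow p G := Sylow.ofCard _ hQc
  have hPc : (P : Subgroup G) = (Q : Subgroup _).map (Subgroup.normalizer (s.range : Set G)).subtype := rfl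
  have hPN : (P : Subgroup G) ≤ Subgroup.normalizer (s.range : Set G) := by
    rw [hPc]
    rintro _ ⟨x, -, rfl⟩
    exact x.2
  have hU : ∀ a, s (U a) ∈ (P : Subgroup G) := by
    intro a
    rw [hPc]
    have h1 : s (U a) ∈ Subgroup.normalizer (s.range : Set G) := Subgroup.le_normalizer ⟨_, rfl⟩
    exact ⟨⟨s (U a), h1⟩, hQ (Subgroup.mem_subgroupOf.2 ⟨a, rfl⟩), rfl⟩
  rcases normal_or hs P hU hPN with h | ⟨rfl, h4⟩
  · exact Or.inl h
  · rcases NatSL2h.main4 hs h4 P hU hPN with h | h
    · exact Or.inl h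
    · exact Or.inr ⟨h4, h⟩

/-- the action of a subgroup normalizing `V` on the coordinates -/
@[reducible] def theAct {X : Type*} [Group X] {F : Type*} [Field F] {V G : Subgroup X}
    (hGV : G ≤ Subgroup.normalizer (V : Set X)) (ψ : Additive V ≃+ (Fin 2 → F)) : DistribMulAction G (Fin 2 → F) where
  smul g w := ψ (Additive.ofMul (V.normalizerMonoidHom (Subgroup.inclusion hGV g) (ψ.symm w).toMul))
  one_smul w := by
    change ψ (Additive.ofMul (V.normalizerMonoidHom (Subgroup.inclusion hGV 1) (ψ.symm w).toMul)) = w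
    rw [map_one, map_one]
    exact ψ.apply_symm_apply w
  mul_smul g h w := by
    change ψ (Additive.ofMul (V.normalizerMonoidHom (Subgroup.inclusion hGV (g * h)) (ψ.symm w).toMul)) =
      ψ (Additive.ofMul (V.normalizerMonoidHom (Subgroup.inclusion hGV g) (ψ.symm (ψ (Additive.ofMul
        (V.normalizerMonoidHom (Subgroup.inclusion hGV h) (ψ.symm w).toMul)))).toMul))
    rw [map_mul, map_mul, ψ.symm_apply_apply]
    rfl
  smul_zero g := by
    change ψ (Additive.ofMul (V.normalizerMonoidHom (Subgroup.inclusion hGV g) (ψ.symm 0).toMul)) = 0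
    rw [map_zero, toMul_zero, map_one, ofMul_one, map_zero]
  smul_add g v w := by
    change ψ (Additive.ofMul (V.normalizerMonoidHom (Subgroup.inclusion hGV g) (ψ.symm (v + w)).toMul)) =
      ψ (Additive.ofMul (V.normalizerMonoidHom (Subgroup.inclusion hGV g) (ψ.symm v).toMul)) +
      ψ (Additive.ofMul (V.normalizerMonoidHom (Subgroup.inclusion hGV g) (ψ.symm w).toMul))
    rw [map_add, toMul_add, map_mul, ofMul_mul, map_add]

theorem main {X : Type*} [Group X] [Finite X] {p : ℕ} [Fact p.Prime] (F : Type*) [Field F] [Finite F] [CharP F p]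
    (V G L : Subgroup X) (hGV : G ≤ Subgroup.normalizer (V : Set X))
    (hfaith : G ⊓ Subgroup.centralizer (V : Set X) = ⊥) (hLG : L ≤ G) (hnat : IsNaturalSL2Module F V L)
    (hSyl : ∀ S : Sylow p ↥(G ⊓ Subgroup.normalizer (L : Set X)), ∀ P : Sylow p ↥G, Nat.card S = Nat.card P) :
    (L.subgroupOf G).Normal ∨ (Nat.card F = 4 ∧ Nonempty (↥G ≃* ↥(alternatingGroup (Fin 7)))) := by
  obtain ⟨-, ρ, ψ, hsurj, hker, hact⟩ := hnat
  letI act := theAct hGV ψ
  have hsmul : ∀ (g : G) (w : Fin 2 → F), g • w =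
      ψ (Additive.ofMul (V.normalizerMonoidHom (Subgroup.inclusion hGV g) (ψ.symm w).toMul)) := fun g w => rfl
  have hval : ∀ (g : G) (v : V), ((V.normalizerMonoidHom (Subgroup.inclusion hGV g) v : V) : X) =
      (g : X) * (v : X) * (g : X)⁻¹ := fun g v => rfl
  have hfaith' : FaithfulSMul G (Fin 2 → F) := by
    refine ⟨fun {a b} hab => ?_⟩
    have h1 : ∀ v : V, (a : X) * (v : X) * (a : X)⁻¹ = (b : X) * (v : X) * (b : X)⁻¹ := by
      intro v
      have h2 := hab (ψ (Additive.ofMul v))
      rw [hsmul, hsmul, ψ.symm_apply_apply] at h2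
      have h3 := ψ.injective h2
      have h4 : V.normalizerMonoidHom (Subgroup.inclusion hGV a) v = V.normalizerMonoidHom (Subgroup.inclusion hGV b) v := h3
      rw [← hval, ← hval, h4]
    have h5 : ((b⁻¹ * a : G) : X) ∈ G ⊓ Subgroup.centralizer (V : Set X) := by
      refine ⟨(b⁻¹ * a : G).2, ?_⟩
      change ((b⁻¹ * a : G) : X) ∈ Subgroup.centralizer (V : Set X)
      rw [Subgroup.mem_centralizer_iff]
      intro v hv
      have h6 := h1 ⟨v, hv⟩
      simp only [Subgroup.coe_mul, InvMemClass.coe_inv]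
      have h7 : (b : X)⁻¹ * ((a : X) * v * (a : X)⁻¹) * (b : X) = v := by
        rw [h6]; group
      calc v * ((b : X)⁻¹ * (a : X)) = ((b : X)⁻¹ * ((a : X) * v * (a : X)⁻¹) * (b : X)) * ((b : X)⁻¹ * (a : X)) := by rw [h7]
        _ = (b : X)⁻¹ * (a : X) * v := by group
    rw [hfaith, Subgroup.mem_bot] at h5
    have h6 : b⁻¹ * a = 1 := Subtype.ext h5
    exact (inv_mul_eq_one.1 h6).symm
  have hinj : Function.Injective ρ := by
    rw [← MonoidHom.ker_eq_bot_iff, hker, eq_bot_iff]
    intro x hx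
    have h1 : (x : X) ∈ G ⊓ Subgroup.centralizer (V : Set X) := ⟨hLG x.2, hx⟩
    rw [hfaith, Subgroup.mem_bot] at h1
    rw [Subgroup.mem_bot]
    exact Subtype.ext h1
  let e : L ≃* SpecialLinearGroup (Fin 2) F := MulEquiv.ofBijective ρ ⟨hinj, hsurj⟩
  let s : SpecialLinearGroup (Fin 2) F →* G := (Subgroup.inclusion hLG).comp e.symm.toMonoidHom
  have hs : ∀ (m : SpecialLinearGroup (Fin 2) F) (w : Fin 2 → F), s m • w = m.1 *ᵥ w := by
    intro m w
    obtain ⟨v, hv, hv2⟩ := hact (e.symm m) (ψ.symm w).toMul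
    have h1 : ρ (e.symm m) = m := e.apply_symm_apply m
    rw [h1] at hv2
    have h2 : V.normalizerMonoidHom (Subgroup.inclusion hGV (s m)) (ψ.symm w).toMul = v := by
      apply Subtype.ext
      rw [hval, hv]
      rfl
    rw [hsmul, h2, hv2]
    have h3 : ψ (Additive.ofMul (Additive.toMul (ψ.symm w))) = w := ψ.apply_symm_apply w
    rw [h3]
  have hrange : s.range = L.subgroupOf G := by
    ext x
    constructor
    · rintro ⟨m, rfl⟩
      exact (e.symm m).2
    · intro hx
      refine ⟨e ⟨x, hx⟩, ?_⟩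
      apply Subtype.ext
      change ((e.symm (e ⟨x, hx⟩) : L) : X) = x
      rw [e.symm_apply_apply]
  rw [← hrange]
  refine abstract_main s hs ?_
  have h1 : (Subgroup.normalizer (s.range : Set G) : Subgroup G) = (Subgroup.normalizer (L : Set X)).subgroupOf G := by
    rw [hrange, Subgroup.subgroupOf_normalizer_eq hLG]
  have h2 : Nat.card (Subgroup.normalizer (s.range : Set G) : Subgroup G) =
      Nat.card ↥(G ⊓ Subgroup.normalizer (L : Set X)) := by
    rw [h1, ← Cores.card_map_subtype, Subgroup.subgroupOf_map_subtype, inf_comm]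
  have h3 := hSyl default default
  have h4 := (default : Sylow p ↥(G ⊓ Subgroup.normalizer (L : Set X))).card_eq_multiplicity
  have h5 := (default : Sylow p ↥G).card_eq_multiplicity
  have h6 : p ^ (Nat.card ↥(G ⊓ Subgroup.normalizer (L : Set X))).factorization p = p ^ (Nat.card G).factorization p := by
    rw [← h4, ← h5]; exact h3
  rw [h2]
  exact Nat.pow_right_injective (Fact.out (p := p.Prime)).two_le h6

end Cfsg.Agent.Lib.NatSL2i
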