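import Cfsg.Agent.Lib.GolayCode

/-!
Kernel-friendly tools: binary trees of numbers, forced evaluation.
-/

set_option autoImplicit false

namespace Cfsg.Agent.Lib.NatTree

/-- binary trees of numbers -/
inductive Tr : Type
  | leaf : ℕ → Tr
  | node : Tr → Tr → Tr

/-- lookup (least significant bit first) -/
noncomputable def Tr.get (t : Tr) : ℕ → ℕ :=
  Tr.rec (motive := fun _ => ℕ → ℕ) (fun n _ => n)
    (fun _ _ l r i => cond (Nat.beq (Nat.land i 1) 0) (l (Nat.shiftRight i 1)) (r (Nat.shiftRight i 1))) t

/-- evaluate `n` before passing it to `f` -/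
def force (n : ℕ) (f : ℕ → Bool) : Bool :=
  Nat.rec (motive := fun _ => Bool) (f 0) (fun k _ => f (Nat.succ k)) n

theorem force_eq (n : ℕ) (f : ℕ → Bool) : force n f = f n := by cases n <;> rfl

theorem cond_and {a b : Bool} : cond a b false = true ↔ a = true ∧ b = true := by
  cases a <;> simp

end Cfsg.Agent.Lib.NatTree
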