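import Mathlib

/-!
# Linear algebra for the lifting argument (helper78)

* `pow_pred_rank`, `rank_le`: nilpotent operators with `ν ^ p = 0`;
* `sum_pow_eq`: `1 + Y + ... + Y^(p-1) = (Y - 1)^(p-1)` in characteristic `p`;
* `card_le_of_trace`: a matrix whose power traces are `κ ∑ c_i ^ l` with distinct nonzero `c_i`
  has size at least the number of the `c_i`;
* `exists_eigenbasis`: an operator of finite order prime to the characteristic;
* `sum_nonfixed_mem`: sums over a set with an action of a group of prime order.
-/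

namespace Cfsg.Agent.Lib.NilOp

open Module

section nilpotent

variable {k V : Type*} [Field k] [AddCommGroup V] [Module k V] [FiniteDimensional k V]

theorem finrank_range_pow_succ_add (ν : End k V) {p : ℕ} (hν : ν ^ p = 0) {i : ℕ} (hi : i < p) :
    finrank k (LinearMap.range (ν ^ (i + 1))) + finrank k (LinearMap.range (ν ^ (p - 1))) ≤
      finrank k (LinearMap.range (ν ^ i)) := by
  let g : LinearMap.range (ν ^ i) →ₗ[k] V := (ν ^ (p - 1 - i)) ∘ₗ (LinearMap.range (ν ^ i)).subtype
  have h1 := LinearMap.finrank_range_add_finrank_ker g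
  have hr : LinearMap.range g = LinearMap.range (ν ^ (p - 1)) := by
    apply le_antisymm
    · rintro _ ⟨⟨_, ⟨w, rfl⟩⟩, rfl⟩
      refine ⟨w, ?_⟩
      show (ν ^ (p - 1)) w = (ν ^ (p - 1 - i)) ((ν ^ i) w)
      rw [← Module.End.mul_apply, ← pow_add]
      congr 2; omega
    · rintro _ ⟨w, rfl⟩
      refine ⟨⟨(ν ^ i) w, ⟨w, rfl⟩⟩, ?_⟩
      show (ν ^ (p - 1 - i)) ((ν ^ i) w) = (ν ^ (p - 1)) w
      rw [← Module.End.mul_apply, ← pow_add]
      congr 2; omega
  have hk : finrank k (LinearMap.range (ν ^ (i + 1))) ≤ finrank k (LinearMap.ker g) := by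
    have hle : LinearMap.range (ν ^ (i + 1)) ≤ LinearMap.range (ν ^ i) := by
      rintro _ ⟨w, rfl⟩
      refine ⟨ν w, ?_⟩
      rw [pow_succ, Module.End.mul_apply]
    have hmem : ∀ v ∈ LinearMap.range (ν ^ (i + 1)), (ν ^ (p - 1 - i)) v = 0 := by
      rintro _ ⟨w, rfl⟩
      rw [← Module.End.mul_apply, ← pow_add]
      have : p - 1 - i + (i + 1) = p := by omega
      rw [this, hν]; rfl
    let e : LinearMap.range (ν ^ (i + 1)) →ₗ[k] LinearMap.ker g :=
      { toFun := fun v => ⟨⟨v, hle v.2⟩, by
          rw [LinearMap.mem_ker]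
          exact hmem v v.2⟩
        map_add' := fun a b => rfl
        map_smul' := fun c a => rfl }
    apply LinearMap.finrank_le_finrank_of_injective (f := e)
    intro a b hab
    have := congrArg (fun z => (z : LinearMap.range (ν ^ i)).1) (congrArg Subtype.val hab)
    exact Subtype.ext this
  rw [hr] at h1
  omega

/-- `p · rank ν^(p-1) ≤ dim`. -/
theorem mul_finrank_range_pow_pred_le (ν : End k V) {p : ℕ} (hν : ν ^ p = 0) :
    p * finrank k (LinearMap.range (ν ^ (p - 1))) ≤ finrank k V := by
  have h : ∀ i ≤ p, i * finrank k (LinearMap.range (ν ^ (p - 1))) +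
      finrank k (LinearMap.range (ν ^ i)) ≤ finrank k V := by
    intro i
    induction i with
    | zero =>
      intro _
      rw [zero_mul, zero_add]
      exact Submodule.finrank_le _
    | succ i ih =>
      intro hi
      have h1 := ih (by omega)
      have h2 := finrank_range_pow_succ_add ν hν (i := i) (by omega)
      rw [add_mul, one_mul]
      omega
  have := h p le_rfl
  omega

/-- `p · rank ν ≤ (p - 1) dim`. -/
theorem mul_finrank_range_le (ν : End k V) {p : ℕ} (hν : ν ^ p = 0) :
    p * finrank k (LinearMap.range ν) ≤ (p - 1) * finrank k V := by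
  have h : ∀ i, finrank k (LinearMap.ker (ν ^ i)) ≤ i * finrank k (LinearMap.ker ν) := by
    intro i
    induction i with
    | zero =>
      rw [zero_mul, pow_zero]
      have : LinearMap.ker (1 : End k V) = ⊥ := LinearMap.ker_id
      rw [this, finrank_bot]
    | succ i ih =>
      let g : LinearMap.ker (ν ^ (i + 1)) →ₗ[k] V := (ν ^ i) ∘ₗ (LinearMap.ker (ν ^ (i + 1))).subtype
      have h1 := LinearMap.finrank_range_add_finrank_ker g
      have hr : finrank k (LinearMap.range g) ≤ finrank k (LinearMap.ker ν) := by
        apply Submodule.finrank_mono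
        rintro _ ⟨⟨w, hw⟩, rfl⟩
        rw [LinearMap.mem_ker] at hw ⊢
        show ν ((ν ^ i) w) = 0
        rw [← Module.End.mul_apply, ← pow_succ', hw]
      have hk : finrank k (LinearMap.ker g) ≤ finrank k (LinearMap.ker (ν ^ i)) := by
        let e : LinearMap.ker g →ₗ[k] LinearMap.ker (ν ^ i) :=
          { toFun := fun v => ⟨v.1.1, v.2⟩
            map_add' := fun a b => rfl
            map_smul' := fun c a => rfl }
        apply LinearMap.finrank_le_finrank_of_injective (f := e)
        intro a b hab
        have := congrArg Subtype.val hab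
        exact Subtype.ext (Subtype.ext this)
      rw [add_mul, one_mul]
      omega
  have h1 := h p
  have h2 : LinearMap.ker (ν ^ p) = ⊤ := by rw [hν]; exact LinearMap.ker_zero
  rw [h2, finrank_top] at h1
  have h3 := LinearMap.finrank_range_add_finrank_ker ν
  rcases Nat.eq_zero_or_pos p with hp | hp
  · subst hp; simp
  · obtain ⟨q, rfl⟩ : ∃ q, p = q + 1 := ⟨p - 1, by omega⟩
    rw [Nat.add_sub_cancel]
    nlinarith

end nilpotent

theorem sum_pow_eq {k : Type*} [Field k] {p : ℕ} [Fact p.Prime] [CharP k p]
    {A : Type*} [Ring A] [Algebra k A] (Y : A) :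
    ∑ i ∈ Finset.range p, Y ^ i = (Y - 1) ^ (p - 1) := by
  have h : (∑ i ∈ Finset.range p, (Polynomial.X : Polynomial k) ^ i) =
      (Polynomial.X - 1) ^ (p - 1) := by
    have h1 : (Polynomial.X - 1 : Polynomial k) ≠ 0 := by
      have := Polynomial.X_sub_C_ne_zero (1 : k)
      simpa using this
    apply mul_left_cancel₀ h1
    have h2 : (Polynomial.X - 1 : Polynomial k) * ∑ i ∈ Finset.range p, Polynomial.X ^ i =
        Polynomial.X ^ p - 1 := mul_geom_sum _ _
    rw [h2, ← pow_succ', Nat.sub_add_cancel (Nat.Prime.one_le (Fact.out : p.Prime)),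
      sub_pow_char, one_pow]
  have h2 := congrArg (Polynomial.aeval (R := k) Y) h
  simpa using h2

theorem pow_eq_zero_of_pow_eq_one {k : Type*} [Field k] {p : ℕ} [Fact p.Prime] [CharP k p]
    {A : Type*} [Ring A] [Algebra k A] (Y : A) (hY : Y ^ p = 1) :
    (Y - 1) ^ p = 0 := by
  have h : ((Polynomial.X : Polynomial k) - 1) ^ p = Polynomial.X ^ p - 1 := by
    rw [sub_pow_char, one_pow]
  have h2 := congrArg (Polynomial.aeval (R := k) Y) h
  simpa [hY] using h2

/-- The trace lemma. -/
theorem card_le_of_trace {K : Type*} [Field K] {n : ℕ} (X : Matrix (Fin n) (Fin n) K)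
    {ι : Type*} [Fintype ι] (c : ι → K) (hc : Function.Injective c) (hc0 : ∀ i, c i ≠ 0)
    {κ : K} (hκ : κ ≠ 0) (h : ∀ l : ℕ, 1 ≤ l → (X ^ l).trace = κ * ∑ i, c i ^ l) :
    Fintype.card ι ≤ n := by
  classical
  -- the characteristic polynomial vanishes at each `c i`
  have hroot : ∀ i, X.charpoly.eval (c i) = 0 := by
    have h1 : ∀ l : ℕ, ∑ i, (κ * c i * X.charpoly.eval (c i)) * c i ^ l = 0 := by
      intro l
      have h2 : (X ^ (l + 1) * Polynomial.aeval X X.charpoly).trace = 0 := by
        rw [Matrix.aeval_self_charpoly, mul_zero, Matrix.trace_zero]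
      rw [Polynomial.aeval_eq_sum_range, Finset.mul_sum, Matrix.trace_sum] at h2
      rw [← h2]
      have h3 : ∀ j, (X ^ (l + 1) * (X.charpoly.coeff j • X ^ j)).trace =
          X.charpoly.coeff j * (κ * ∑ i, c i ^ (l + 1 + j)) := by
        intro j
        rw [Matrix.mul_smul, Matrix.trace_smul, ← pow_add, h _ (by omega), smul_eq_mul]
      simp only [h3]
      simp only [Finset.mul_sum]
      rw [Finset.sum_comm]
      refine Finset.sum_congr rfl fun i _ => ?_
      rw [Polynomial.eval_eq_sum_range, Finset.mul_sum, Finset.sum_mul]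
      refine Finset.sum_congr rfl fun j _ => ?_
      ring
    -- linear independence of geometric sequences
    have h4 : LinearIndependent K (fun i : ι => (fun l : Multiplicative ℕ => c i ^ (Multiplicative.toAdd l))) := by
      have h5 := linearIndependent_monoidHom (Multiplicative ℕ) K
      let F : ι → (Multiplicative ℕ →* K) := fun i => powersHom K (c i)
      have hF : Function.Injective F := by
        intro i j hij
        have := DFunLike.congr_fun hij (Multiplicative.ofAdd 1)
        simp only [F, powersHom_apply, toAdd_ofAdd, pow_one] at this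
        exact hc this
      have h6 := h5.comp F hF
      exact h6
    rw [Fintype.linearIndependent_iff] at h4
    intro i
    have h5 := h4 (fun i => κ * c i * X.charpoly.eval (c i)) (by
      funext l
      rw [Finset.sum_apply]
      simpa using h1 (Multiplicative.toAdd l)) i
    rcases mul_eq_zero.mp h5 with h6 | h6
    · rcases mul_eq_zero.mp h6 with h7 | h7
      · exact absurd h7 hκ
      · exact absurd h7 (hc0 i)
    · exact h6
  have hne : X.charpoly ≠ 0 := (Matrix.charpoly_monic X).ne_zero
  have h1 : (Finset.univ.image c) ⊆ X.charpoly.roots.toFinset := by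
    intro x hx
    rw [Finset.mem_image] at hx
    obtain ⟨i, -, rfl⟩ := hx
    rw [Multiset.mem_toFinset, Polynomial.mem_roots hne]
    exact hroot i
  have h2 := Finset.card_le_card h1
  rw [Finset.card_image_of_injective _ hc, Finset.card_univ] at h2
  refine h2.trans ((Multiset.toFinset_card_le _).trans ((Polynomial.card_roots' _).trans ?_))
  rw [Matrix.charpoly_natDegree_eq_dim, Fintype.card_fin]

/-- An operator of order prime to the characteristic is diagonalizable when there are enough
roots of unity. -/
theorem exists_eigenbasis {k W : Type*} [Field k] [AddCommGroup W] [Module k W]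
    [FiniteDimensional k W] (A : End k W) {e : ℕ} (he : (e : k) ≠ 0) (hA : A ^ e = 1) {ζ : k}
    (hζ : IsPrimitiveRoot ζ e) :
    ∃ (b : Basis (Fin (finrank k W)) k W) (a : Fin (finrank k W) → k),
      ∀ i, A (b i) = a i • b i ∧ a i ≠ 0 := by
  classical
  have he0 : 0 < e := Nat.pos_of_ne_zero (fun h => he (by rw [h]; simp))
  have hζ0 : ζ ≠ 0 := hζ.ne_zero he0.ne'
  -- projections
  let F : ℕ → ℕ → W → W := fun j i w => (ζ⁻¹) ^ (j * i) • (A ^ i) w
  let E : ℕ → W → W := fun j w => ∑ i ∈ Finset.range e, F j i w
  have hAE : ∀ j w, A (E j w) = ζ ^ j • E j w := by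
    intro j w
    have h1 : ∀ i, A (F j i w) = ζ ^ j • F j (i + 1) w := by
      intro i
      simp only [F]
      rw [map_smul, ← Module.End.mul_apply, ← pow_succ', smul_smul]
      congr 1
      rw [mul_add, mul_one, pow_add, mul_comm ((ζ⁻¹) ^ (j * i)), ← mul_assoc, ← mul_pow,
        mul_inv_cancel₀ hζ0, one_pow, one_mul]
    have h2 : ∑ i ∈ Finset.range e, F j (i + 1) w = ∑ i ∈ Finset.range e, F j i w := by
      have h3 := Finset.sum_range_succ (fun i => F j i w) e
      have h4 := Finset.sum_range_succ' (fun i => F j i w) e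
      have h5 : F j e w = F j 0 w := by
        simp only [F, hA, mul_zero, pow_zero]
        rw [mul_comm, pow_mul, inv_pow, hζ.pow_eq_one, inv_one, one_pow]
      rw [h3, h5] at h4
      exact (add_right_cancel h4).symm
    simp only [E, map_sum, h1, ← Finset.smul_sum, h2]
  have hsum : ∀ w, ∑ j ∈ Finset.range e, E j w = (e : k) • w := by
    intro w
    simp only [E, F]
    rw [Finset.sum_comm]
    have h1 : ∀ i ∈ Finset.range e, ∑ j ∈ Finset.range e, (ζ⁻¹) ^ (j * i) • (A ^ i) w =
        if i = 0 then (e : k) • w else 0 := by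
      intro i hi
      rw [← Finset.sum_smul]
      by_cases h0 : i = 0
      · subst h0; simp
      · rw [if_neg h0]
        have h2 : ∑ j ∈ Finset.range e, (ζ⁻¹) ^ (j * i) = 0 := by
          have h3 : ∀ j, (ζ⁻¹) ^ (j * i) = ((ζ⁻¹) ^ i) ^ j := fun j => by rw [← pow_mul, mul_comm]
          simp only [h3]
          have h4 : (ζ⁻¹) ^ i ≠ 1 := by
            rw [inv_pow, Ne, inv_eq_one]
            exact hζ.pow_ne_one_of_pos_of_lt h0 (Finset.mem_range.mp hi)
          have h5 := mul_geom_sum ((ζ⁻¹) ^ i) e
          rw [← pow_mul, mul_comm i e, pow_mul, inv_pow ζ e, hζ.pow_eq_one, inv_one, one_pow,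
            sub_self] at h5
          rcases mul_eq_zero.mp h5 with h6 | h6
          · exact absurd (sub_eq_zero.mp h6) h4
          · exact h6
        rw [h2, zero_smul]
    rw [Finset.sum_congr rfl h1, Finset.sum_ite_eq' , if_pos (Finset.mem_range.mpr he0)]
  have htop : ⨆ μ : k, A.eigenspace μ = ⊤ := by
    rw [eq_top_iff]
    intro w _
    have h1 : w = (e : k)⁻¹ • ∑ j ∈ Finset.range e, E j w := by
      rw [hsum, smul_smul, inv_mul_cancel₀ he, one_smul]
    rw [h1]
    apply Submodule.smul_mem
    apply Submodule.sum_mem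
    intro j _
    apply Submodule.mem_iSup_of_mem (ζ ^ j)
    rw [Module.End.mem_eigenspace_iff]
    exact hAE j w
  have hint : DirectSum.IsInternal A.eigenspace :=
    (DirectSum.isInternal_submodule_iff_iSupIndep_and_iSup_eq_top _).mpr
      ⟨A.eigenspaces_iSupIndep, htop⟩
  let B := hint.collectedBasis (fun μ => Module.finBasis k (A.eigenspace μ))
  have hB : ∀ i, A (B i) = i.1 • B i := by
    intro i
    have := hint.collectedBasis_mem (fun μ => Module.finBasis k (A.eigenspace μ)) i
    rwa [Module.End.mem_eigenspace_iff] at this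
  have : Fintype (Σ μ : k, Fin (finrank k (A.eigenspace μ))) := FiniteDimensional.fintypeBasisIndex B
  have hcard : Fintype.card (Σ μ : k, Fin (finrank k (A.eigenspace μ))) = finrank k W :=
    (Module.finrank_eq_card_basis B).symm
  let e' := Fintype.equivFinOfCardEq hcard
  refine ⟨B.reindex e', fun i => (e'.symm i).1, fun i => ⟨?_, ?_⟩⟩
  · rw [Basis.reindex_apply]; exact hB _
  · intro h0
    have h1 := hB (e'.symm i)
    simp only [h0, zero_smul] at h1
    have h2 : (A ^ e) (B (e'.symm i)) = 0 := by
      obtain ⟨m, rfl⟩ : ∃ m, e = m + 1 := ⟨e - 1, by omega⟩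
      rw [pow_succ, Module.End.mul_apply, h1, map_zero]
    rw [hA] at h2
    exact B.ne_zero _ h2

/-- Sums over a set on which a group of prime order acts. -/
theorem sum_nonfixed_mem {D X L : Type*} [Group D] [Fintype D] [Fintype X] [MulAction D X]
    [AddCommGroup L] {p : ℕ} (hp : p.Prime) (hD : Fintype.card D = p) (S : AddSubgroup L)
    (t : X → L) (h : ∀ x, ∑ d : D, t (d • x) ∈ S) [DecidablePred fun x : X => ∀ d : D, d • x = x] :
    ∑ x, t x - ∑ x ∈ Finset.univ.filter (fun x : X => ∀ d : D, d • x = x), t x ∈ S := by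
  classical
  have h0 : ∑ x, t x - ∑ x ∈ Finset.univ.filter (fun x : X => ∀ d : D, d • x = x), t x =
      ∑ x ∈ Finset.univ.filter (fun x : X => ¬ ∀ d : D, d • x = x), t x := by
    rw [← Finset.sum_filter_add_sum_filter_not Finset.univ (fun x : X => ∀ d : D, d • x = x) t]
    abel
  rw [h0]
  let Ω := Quotient (MulAction.orbitRel D X)
  have : Fintype Ω := Fintype.ofFinite Ω
  rw [← Finset.sum_fiberwise (Finset.univ.filter (fun x : X => ¬ ∀ d : D, d • x = x))
    (fun x => (Quotient.mk (MulAction.orbitRel D X) x : Ω)) t]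
  apply S.sum_mem
  intro ω _
  by_cases hω : ∃ x, (¬ ∀ d : D, d • x = x) ∧ (Quotient.mk (MulAction.orbitRel D X) x : Ω) = ω
  · obtain ⟨x, hx, hxω⟩ := hω
    have hst : MulAction.stabilizer D x = ⊥ := by
      have h1 : Nat.card (MulAction.stabilizer D x) ∣ p := by
        rw [← hD, ← Nat.card_eq_fintype_card]; exact Subgroup.card_subgroup_dvd_card _
      rcases (Nat.dvd_prime hp).mp h1 with h2 | h2
      · exact Subgroup.eq_bot_of_card_eq _ h2
      · exfalso
        apply hx
        have h3 : MulAction.stabilizer D x = ⊤ := by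
          apply Subgroup.eq_top_of_card_eq
          rw [h2, Nat.card_eq_fintype_card, hD]
        intro d
        have : d ∈ MulAction.stabilizer D x := by rw [h3]; trivial
        exact this
    have hinj : Function.Injective (fun d : D => d • x) := by
      intro a b hab
      have h1 : (a⁻¹ * b) • x = x := by
        have h2 : a • x = b • x := hab
        rw [mul_smul, ← h2, inv_smul_smul]
      have h3 : a⁻¹ * b ∈ MulAction.stabilizer D x := h1
      rw [hst, Subgroup.mem_bot, inv_mul_eq_one] at h3
      exact h3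
    have h1 : ∑ y ∈ (Finset.univ.filter (fun x : X => ¬ ∀ d : D, d • x = x)).filter
        (fun y => (Quotient.mk (MulAction.orbitRel D X) y : Ω) = ω), t y = ∑ d : D, t (d • x) := by
      symm
      rw [← Finset.sum_image (s := Finset.univ) (g := fun d : D => d • x) (f := t)
        (fun a _ b _ hab => hinj hab)]
      apply Finset.sum_congr _ (fun _ _ => rfl)
      ext y
      simp only [Finset.mem_image, Finset.mem_univ, true_and, Finset.mem_filter]
      constructor
      · rintro ⟨d, rfl⟩
        refine ⟨?_, ?_⟩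
        · intro hall
          apply hx
          intro d'
          have h2 := hall (d * d' * d⁻¹)
          rw [mul_smul, inv_smul_smul, mul_smul] at h2
          exact MulAction.injective d h2
        · rw [← hxω]
          apply Quotient.sound
          exact ⟨d, rfl⟩
      · rintro ⟨-, hy⟩
        rw [← hxω] at hy
        have h2 := Quotient.exact hy
        obtain ⟨d, hd⟩ := h2
        exact ⟨d, hd⟩
    rw [h1]
    exact h x
  · have h1 : (Finset.univ.filter (fun x : X => ¬ ∀ d : D, d • x = x)).filter
        (fun y => (Quotient.mk (MulAction.orbitRel D X) y : Ω) = ω) = ∅ := by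
      rw [Finset.filter_eq_empty_iff]
      intro y hy hy2
      exact hω ⟨y, (Finset.mem_filter.mp hy).2, hy2⟩
    rw [h1, Finset.sum_empty]
    exact S.zero_mem

end Cfsg.Agent.Lib.NilOp
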