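import Mathlib
import Cfsg.Agent.Lib.Carter
import Cfsg.Agent.Lib.HallFactor
import Cfsg.Agent.Lib.Supersolvable2
import Cfsg.Agent.Lib.NilpotentHall
import Cfsg.Agent.Lib.Fitting
import Cfsg.Agent.Lib.Cores2

/-!
Sylow subgroups `sy r A`, Hall `r'`-subgroups `hc r A` of a nilpotent subgroup `A`, and the
Fitting subgroup of a solvable subgroup. (helper10)
-/

set_option autoImplicit false
set_option linter.unusedSectionVars false
set_option linter.unusedVariables false

namespace Cfsg.Agent.Lib.NilPieces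

open Subgroup Pointwise
open Cfsg.Agent.Lib.HallPi Cfsg.Agent.Lib.HallFactor Cfsg.Agent.Lib.NilpotentHall
open Cfsg.Agent.Lib.LocBase (IsSyl)
open Cfsg.Agent.Lib.SubgroupTools (mem_conj_smul conj_smul_eq_map card_conj_smul
  conj_smul_mono conj_smul_le_iff mem_normalizer_iff_conj_smul)

universe u

variable {G : Type u} [Group G]

/-- the Sylow `r`-subgroup of a nilpotent subgroup -/
def sy (r : ℕ) (A : Subgroup G) : Subgroup G := (pCore r A).map A.subtype

/-- the Hall `r'`-subgroup of a nilpotent subgroup -/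
def hc (r : ℕ) (A : Subgroup G) : Subgroup G := (pPrimeCore r A).map A.subtype

theorem sy_le (r : ℕ) (A : Subgroup G) : sy r A ≤ A := map_subtype_le _

theorem hc_le (r : ℕ) (A : Subgroup G) : hc r A ≤ A := map_subtype_le _

theorem sy_norm (r : ℕ) (A : Subgroup G) : A ≤ normalizer (sy r A : Set G) := by
  have h1 : (sy r A).subgroupOf A = pCore r A := by
    rw [sy, subgroupOf, comap_map_eq_self_of_injective A.subtype_injective]
  have h2 : ((sy r A).subgroupOf A).Normal := by
    rw [h1]; exact Lib.Fitting.normal_pCore r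
  exact (normal_subgroupOf_iff_le_normalizer (sy_le r A)).mp h2

theorem hc_norm (r : ℕ) (A : Subgroup G) : A ≤ normalizer (hc r A : Set G) := by
  have h1 : (hc r A).subgroupOf A = pPrimeCore r A := by
    rw [hc, subgroupOf, comap_map_eq_self_of_injective A.subtype_injective]
  have h2 : ((hc r A).subgroupOf A).Normal := by
    rw [h1]; exact Lib.Fitting.normal_pPrimeCore r
  exact (normal_subgroupOf_iff_le_normalizer (hc_le r A)).mp h2

variable [Finite G]

theorem sy_pgroup (r : ℕ) (A : Subgroup G) : IsPGroup r (sy r A) :=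
  (Lib.Fitting.isPGroup_pCore r).map _

theorem hc_coprime (r : ℕ) (A : Subgroup G) : (Nat.card (hc r A)).Coprime r := by
  rw [hc, card_map_of_injective A.subtype_injective]
  exact Lib.Fitting.coprime_card_pPrimeCore r

theorem sy_sup_hc {r : ℕ} [hr : Fact r.Prime] {A : Subgroup G} (hA : Group.IsNilpotent A) :
    sy r A ⊔ hc r A = A := by
  rw [sy, hc, ← Subgroup.map_sup, Lib.Carter.pCore_sup_pPrimeCore, ← MonoidHom.range_eq_map,
    range_subtype]

theorem hc_hall {r : ℕ} [hr : Fact r.Prime] {A : Subgroup G} (hA : Group.IsNilpotent A) :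
    Cfsg.IsPiHallOf {r}ᶜ (hc r A) A := by
  rw [isPiHallOf_iff, compl_compl]
  refine ⟨hc_le r A, ?_, ?_⟩
  · intro q hq hqd hqr
    rw [Set.mem_singleton_iff] at hqr
    subst hqr
    exact hq.one_lt.ne' (Nat.dvd_one.mp ((hc_coprime q A) ▸ Nat.dvd_gcd hqd dvd_rfl))
  · have h1 : (hc r A).relIndex A ∣ Nat.card (sy r A) := by
      have h2 := Lib.SubgroupTools.card_sup_mul_card_inf (N := hc r A) (H := sy r A)
        ((sy_le r A).trans (hc_norm r A))
      rw [sup_comm, sy_sup_hc hA, ← Lib.SubgroupTools.card_mul_relIndex_of_le (hc_le r A),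
        mul_assoc] at h2
      have h3 := Nat.eq_of_mul_eq_mul_left Nat.card_pos h2
      exact Dvd.intro _ h3
    obtain ⟨k, hk⟩ := IsPGroup.iff_card.mp (sy_pgroup r A)
    rw [hk] at h1
    have h5 : PiNum {r} (r ^ k) := piNum_prime_pow hr.out rfl
    exact h5.of_dvd h1

theorem le_hc {r : ℕ} [hr : Fact r.Prime] {A X : Subgroup G} (hA : Group.IsNilpotent A)
    (hX : X ≤ A) (hXr : (Nat.card X).Coprime r) : X ≤ hc r A := by
  refine le_of_normal_hall (hc_hall hA) (hc_norm r A) hX ?_
  intro q hq hqd hqr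
  rw [Set.mem_singleton_iff] at hqr
  subst hqr
  exact hq.one_lt.ne' (Nat.dvd_one.mp (hXr ▸ Nat.dvd_gcd hqd dvd_rfl))

theorem isSyl_sy {r : ℕ} [hr : Fact r.Prime] {A : Subgroup G} (hA : Group.IsNilpotent A) :
    IsSyl r (sy r A) A := by
  refine ⟨sy_le r A, sy_pgroup r A, ?_⟩
  intro hd
  have h1 : (sy r A).relIndex A ∣ Nat.card (hc r A) := by
    have h2 := Lib.SubgroupTools.card_sup_mul_card_inf (N := sy r A) (H := hc r A)
      ((hc_le r A).trans (sy_norm r A))
    rw [sy_sup_hc hA, ← Lib.SubgroupTools.card_mul_relIndex_of_le (sy_le r A),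
      mul_assoc] at h2
    have h3 := Nat.eq_of_mul_eq_mul_left Nat.card_pos h2
    exact Dvd.intro _ h3
  exact hr.out.one_lt.ne' (Nat.dvd_one.mp ((hc_coprime r A) ▸ Nat.dvd_gcd (hd.trans h1) dvd_rfl))

theorem le_sy {r : ℕ} [hr : Fact r.Prime] {A X : Subgroup G} (hA : Group.IsNilpotent A)
    (hX : X ≤ A) (hXr : IsPGroup r X) : X ≤ sy r A := by
  obtain ⟨T, hT, hXT⟩ := Lib.LocBase.exists_isSyl_ge hXr hX
  obtain ⟨h, hh, e⟩ := hT.conj (isSyl_sy hA)
  rw [Lib.LocBase.map_conj_eq_of_mem (sy_norm r A hh)] at e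
  rw [e]; exact hXT

theorem sy_le_hc {r s : ℕ} [hr : Fact r.Prime] [hs : Fact s.Prime] (hrs : s ≠ r) {A : Subgroup G}
    (hA : Group.IsNilpotent A) : sy s A ≤ hc r A := by
  apply le_hc hA (sy_le s A)
  obtain ⟨k, hk⟩ := IsPGroup.iff_card.mp (sy_pgroup s A)
  rw [hk]
  exact ((Nat.coprime_primes hs.out hr.out).mpr hrs).pow_left k

/-- `hc r A` centralizes the `r`-subgroups of `A`. -/
theorem hc_cent {r : ℕ} [hr : Fact r.Prime] {A S : Subgroup G} (hA : Group.IsNilpotent A)
    (hS : S ≤ A) (hSr : IsPGroup r S) : hc r A ≤ centralizer (S : Set G) := by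
  have h1 := le_sy hA hS hSr
  have h2 : hc r A ≤ centralizer (sy r A : Set G) := by
    apply le_centralizer_of_normalize ((hc_le r A).trans (sy_norm r A))
      ((sy_le r A).trans (hc_norm r A))
    apply Lib.SubgroupTools.inf_eq_bot_of_coprime'
    obtain ⟨k, hk⟩ := IsPGroup.iff_card.mp (sy_pgroup r A)
    rw [hk]
    exact (hc_coprime r A).pow_right k
  exact h2.trans (centralizer_le h1)

theorem hc_conj {r : ℕ} [hr : Fact r.Prime] {A : Subgroup G} (hA : Group.IsNilpotent A) (g : G) :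
    hc r (MulAut.conj g • A) = MulAut.conj g • hc r A := by
  have hA' := isNilpotent_conj g hA
  apply le_antisymm
  · have h1 : MulAut.conj g⁻¹ • hc r (MulAut.conj g • A) ≤ hc r A := by
      apply le_hc hA
      · have := conj_smul_mono g⁻¹ (hc_le r (MulAut.conj g • A))
        rwa [← mul_smul, ← map_mul, inv_mul_cancel, map_one, one_smul] at this
      · rw [card_conj_smul]; exact hc_coprime r _
    have h2 := conj_smul_mono g h1
    rwa [← mul_smul, ← map_mul, mul_inv_cancel, map_one, one_smul] at h2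
  · apply le_hc hA' (conj_smul_mono g (hc_le r A))
    rw [card_conj_smul]; exact hc_coprime r _

/-- if `hc r A` is contained in `conj g • A`, then `g` normalizes `hc r A` -/
theorem mem_normalizer_hc {r : ℕ} [hr : Fact r.Prime] {A : Subgroup G} (hA : Group.IsNilpotent A)
    {g : G} (h : hc r A ≤ MulAut.conj g • A) : g ∈ normalizer (hc r A : Set G) := by
  have h1 : hc r A ≤ MulAut.conj g • hc r A := by
    rw [← hc_conj hA]
    exact le_hc (isNilpotent_conj g hA) h (hc_coprime r A)
  have h2 : hc r A = MulAut.conj g • hc r A :=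
    Subgroup.eq_of_le_of_card_ge h1 (card_conj_smul g _).le
  exact mem_normalizer_iff_conj_smul.mpr h2.symm

theorem sy_ne_bot {r : ℕ} [hr : Fact r.Prime] {A : Subgroup G} (hA : Group.IsNilpotent A)
    (h : r ∣ Nat.card A) : sy r A ≠ ⊥ := by
  intro hb
  apply (isSyl_sy (r := r) hA).ndvd
  rw [hb, relIndex_bot_left]; exact h

theorem hc_ne_bot {r s : ℕ} [hr : Fact r.Prime] [hs : Fact s.Prime] (hrs : s ≠ r)
    {A : Subgroup G} (hA : Group.IsNilpotent A) (h : s ∣ Nat.card A) : hc r A ≠ ⊥ := by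
  intro hb
  have := sy_le_hc hrs hA
  rw [hb, le_bot_iff] at this
  exact sy_ne_bot hA h this

theorem hc_sup_hc {r s : ℕ} [hr : Fact r.Prime] [hs : Fact s.Prime] (hrs : s ≠ r)
    {A : Subgroup G} (hA : Group.IsNilpotent A) : hc r A ⊔ hc s A = A := by
  apply le_antisymm (sup_le (hc_le r A) (hc_le s A))
  conv_lhs => rw [← sy_sup_hc (r := r) hA]
  exact sup_le ((sy_le_hc (Ne.symm hrs) hA).trans le_sup_right) le_sup_left

/-- a central element of prime order `r` of a nilpotent subgroup -/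
theorem exists_central {r : ℕ} [hr : Fact r.Prime] {A : Subgroup G} (hA : Group.IsNilpotent A)
    (h : r ∣ Nat.card A) : ∃ z ∈ A, orderOf z = r ∧ A ≤ centralizer {z} := by
  have h1 : sy r A ⊓ centralizer (sy r A : Set G) ≠ ⊥ :=
    Lib.Supersolvable.inf_centralizer_ne_bot (sy_pgroup r A) le_rfl le_normalizer (sy_ne_bot hA h)
  obtain ⟨z, hz, hz1⟩ : ∃ z ∈ sy r A ⊓ centralizer (sy r A : Set G), z ≠ 1 := by
    by_contra hc
    push Not at hc
    exact h1 ((Subgroup.eq_bot_iff_forall _).mpr hc)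
  obtain ⟨hz2, hz3⟩ := mem_inf.mp hz
  obtain ⟨k, hk⟩ := (IsPGroup.iff_orderOf.mp (sy_pgroup r A)) ⟨z, hz2⟩
  rw [Subgroup.orderOf_mk] at hk
  have hk0 : k ≠ 0 := by
    rintro rfl
    rw [pow_zero, orderOf_eq_one_iff] at hk
    exact hz1 hk
  have hdvd : r ^ (k - 1) ∣ orderOf z := by
    rw [hk]; exact pow_dvd_pow r (Nat.sub_le k 1)
  refine ⟨z ^ r ^ (k - 1), pow_mem (sy_le r A hz2) _, ?_, ?_⟩
  · rw [orderOf_pow_of_dvd (pow_ne_zero _ hr.out.ne_zero) hdvd, hk, Nat.pow_div (Nat.sub_le k 1)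
      hr.out.pos]
    have : k - (k - 1) = 1 := by omega
    rw [this, pow_one]
  · have h4 : A ≤ centralizer {z} := by
      rw [← sy_sup_hc (r := r) hA]
      refine sup_le ?_ ?_
      · intro x hx
        rw [mem_centralizer_singleton_iff]
        exact mem_centralizer_iff.mp hz3 x hx
      · have h5 := hc_cent hA (sy_le r A) (sy_pgroup r A)
        intro x hx
        rw [mem_centralizer_singleton_iff]
        exact (mem_centralizer_iff.mp (h5 hx) z hz2).symm
    intro x hx
    have h5 := mem_centralizer_singleton_iff.mp (h4 hx)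
    rw [mem_centralizer_singleton_iff]
    exact (Commute.pow_right (show Commute x z from h5) _).eq

theorem isPGroup_zpowers {r : ℕ} [hr : Fact r.Prime] {z : G} (h : orderOf z = r) :
    IsPGroup r (zpowers z) := by
  apply IsPGroup.of_card (n := 1)
  rw [Nat.card_zpowers, h, pow_one]

/-- `hc r A` centralizes elements of order `r` in `A` -/
theorem hc_cent_elem {r : ℕ} [hr : Fact r.Prime] {A : Subgroup G} (hA : Group.IsNilpotent A)
    {z : G} (hz : z ∈ A) (ho : orderOf z = r) : hc r A ≤ centralizer {z} := by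
  have h1 := hc_cent hA (by rwa [zpowers_le]) (isPGroup_zpowers ho)
  exact h1.trans (centralizer_le (by simp))

/-! ### the Fitting subgroup of a solvable subgroup -/

theorem pCoreOf_eq_sy (r : ℕ) (L : Subgroup G) : pCoreOf r L = sy r L := rfl

/-- a nontrivial solvable subgroup has a nontrivial `sy r L` for some prime `r` -/
theorem exists_sy_ne_bot {L : Subgroup G} (hs : Group.IsSolvable L) (hL : L ≠ ⊥) :
    ∃ r : ℕ, r.Prime ∧ r ∣ Nat.card L ∧ sy r L ≠ ⊥ := by
  have : Nontrivial L := (nontrivial_iff_ne_bot L).mpr hL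
  have h1 := Lib.Cores.fittingSubgroup_ne_bot (G := L)
  rw [Lib.Fitting.fittingSubgroup_eq_iSup_pCore] at h1
  by_contra hcon
  push Not at hcon
  apply h1
  rw [iSup_eq_bot]
  intro p
  by_contra hne
  have hp : Fact (p : ℕ).Prime := ⟨p.2⟩
  have h2 : (p : ℕ) ∣ Nat.card L := by
    have h3 : IsPGroup p (pCore (p : ℕ) L) := Lib.Fitting.isPGroup_pCore p
    obtain ⟨k, hk⟩ := IsPGroup.iff_card.mp h3
    have hk0 : k ≠ 0 := by
      rintro rfl
      rw [pow_zero, card_eq_one] at hk
      exact hne hk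
    have h4 : (p : ℕ) ∣ Nat.card (pCore (p : ℕ) L) := by rw [hk]; exact dvd_pow_self _ hk0
    exact h4.trans (card_subgroup_dvd_card _)
  have h3 := hcon p p.2 h2
  exact hne ((map_eq_bot_iff_of_injective _ L.subtype_injective).mp h3)

/-- If all `O_s(L)` lie in `F` then elements of `L` centralizing `F` lie in `F`. -/
theorem mem_of_centralizer {L F : Subgroup G} (hs : Group.IsSolvable L)
    (hF : ∀ s : ℕ, s.Prime → sy s L ≤ F) {x : G} (hx : x ∈ L)
    (hxF : x ∈ centralizer (F : Set G)) : x ∈ (fittingSubgroup L).map L.subtype := by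
  refine ⟨⟨x, hx⟩, ?_, rfl⟩
  apply Lib.Cores.centralizer_fittingSubgroup_le
  rw [mem_centralizer_iff]
  have h1 : (fittingSubgroup L).map L.subtype ≤ F := by
    rw [Lib.Fitting.fittingSubgroup_eq_iSup_pCore, Subgroup.map_iSup]
    exact iSup_le fun p => hF p p.2
  intro y hy
  exact Subtype.ext (mem_centralizer_iff.mp hxF y (h1 (mem_map_of_mem _ hy)))

theorem map_fitting_le {L F : Subgroup G} (hF : ∀ s : ℕ, s.Prime → sy s L ≤ F) :
    (fittingSubgroup L).map L.subtype ≤ F := by
  rw [Lib.Fitting.fittingSubgroup_eq_iSup_pCore, Subgroup.map_iSup]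
  exact iSup_le fun p => hF p p.2

theorem conj_mem_fitting {L : Subgroup G} {g x : G} (hg : g ∈ L)
    (hx : x ∈ (fittingSubgroup L).map L.subtype) :
    g * x * g⁻¹ ∈ (fittingSubgroup L).map L.subtype := by
  obtain ⟨y, hy, rfl⟩ := hx
  have hn : (fittingSubgroup L).Normal := inferInstance
  exact ⟨⟨g, hg⟩ * y * ⟨g, hg⟩⁻¹, hn.conj_mem y hy _, rfl⟩

end Cfsg.Agent.Lib.NilPieces
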