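import Mathlib
import Cfsg.Agent.Lib.LocBase
import Cfsg.Agent.Lib.SolvFPF
import Cfsg.Agent.Lib.CoprimeAction
import Cfsg.Agent.Lib.SubgroupTools

/-!
A solvable group `C` with a coprime automorphism group `R` of prime order whose fixed points lie in a central
`R`-invariant subgroup `N` of `C` is nilpotent (helper24).
-/

set_option autoImplicit false

namespace Cfsg.Agent.Lib.NilpFixCentral

open Subgroup

theorem aux {Γ : Type*} [Group Γ] [Finite Γ] {C R N : Subgroup Γ} [hN : N.Normal] (hs : Group.IsSolvable C)
    (hRC : R ≤ normalizer (C : Set Γ)) (hR : (Nat.card R).Prime) (hcop : (Nat.card R).Coprime (Nat.card C))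
    (hNC : N ≤ C) (hcen : N ≤ centralizer (C : Set Γ)) (hfix : C ⊓ centralizer (R : Set Γ) ≤ N) :
    Group.IsNilpotent C := by
  have hsN : Group.IsSolvable N := Group.isSolvable_of_isSolvable_injective (inclusion_injective hNC)
  have hcopN : (Nat.card R).Coprime (Nat.card N) := hcop.coprime_dvd_right (card_dvd_of_le hNC)
  set f := QuotientGroup.mk' N with hf
  have hfs : Function.Surjective f := QuotientGroup.mk'_surjective N
  have hnil : Group.IsNilpotent (C.map f) := by
    refine SolvFPF.isNilpotent_of_normalizer (R := R.map f) ?_ ?_ ?_ ?_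
    · exact Group.isSolvable_of_surjective (f := f.subgroupMap C) (f.subgroupMap_surjective C)
    · refine (Subgroup.map_mono hRC).trans (le_normalizer_map f)
    · have : Nat.card (R.map f) = Nat.card R := by
        have h1 := SubgroupTools.card_map_mul_card_inf_ker f R
        have h2 : R ⊓ f.ker = ⊥ := by
          rw [hf, QuotientGroup.ker_mk']
          exact SubgroupTools.inf_eq_bot_of_coprime' hcopN
        rw [h2, card_bot, mul_one] at h1
        exact h1
      rw [this]; exact hR
    · rw [eq_bot_iff]
      rintro y ⟨⟨k, hk, rfl⟩, hy⟩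
      have h1 : ∀ a ∈ R, a * k * a⁻¹ * k⁻¹ ∈ N := by
        intro a ha
        have h2 : f a * f k = f k * f a := mem_centralizer_iff.mp hy (f a) ⟨a, ha, rfl⟩
        rw [← QuotientGroup.ker_mk' N, MonoidHom.mem_ker]
        change f (a * k * a⁻¹ * k⁻¹) = 1
        rw [map_mul, map_mul, map_mul, h2, map_inv, map_inv]
        group
      obtain ⟨c, hc, hkc⟩ := CoprimeAction.exists_mem_centralizer_of_quotient (A := R) (N := N)
        (by rw [normalizer_eq_top_iff.mpr hN]; exact le_top) hcopN (Or.inr hsN) k
        (by rw [normalizer_eq_top_iff.mpr hN]; exact mem_top k) h1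
      have hcC : c ∈ C := by
        have : c = k * (k⁻¹ * c) := by group
        rw [this]; exact mul_mem hk (hNC hkc)
      have hcN : c ∈ N := hfix ⟨hcC, hc⟩
      have hkN : k ∈ N := by
        have : k = c * (k⁻¹ * c)⁻¹ := by group
        rw [this]; exact mul_mem hcN (inv_mem hkc)
      rw [mem_bot]
      exact (QuotientGroup.eq_one_iff k).mpr hkN
  refine Subgroup.isNilpotent_of_ker_le_center (f.subgroupMap C) ?_
  intro x hx
  have hxN : (x : Γ) ∈ N := by
    rw [MonoidHom.mem_ker] at hx
    have := congrArg Subtype.val hx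
    exact (QuotientGroup.eq_one_iff (x : Γ)).mp this
  rw [mem_center_iff]
  intro g
  apply Subtype.ext
  exact mem_centralizer_iff.mp (hcen hxN) g g.2

theorem isNilpotent_of_fixed_central {Γ : Type*} [Group Γ] [Finite Γ] {C R N : Subgroup Γ}
    (hs : Group.IsSolvable C)
    (hRC : R ≤ normalizer (C : Set Γ)) (hRN : R ≤ normalizer (N : Set Γ)) (hR : (Nat.card R).Prime)
    (hcop : (Nat.card R).Coprime (Nat.card C))
    (hNC : N ≤ C) (hcen : N ≤ centralizer (C : Set Γ)) (hfix : C ⊓ centralizer (R : Set Γ) ≤ N) :
    Group.IsNilpotent C := by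
  have hCN : C ≤ normalizer (N : Set Γ) := by
    refine le_trans ?_ (centralizer_le_normalizer _)
    intro c hc
    rw [mem_centralizer_iff]
    intro n hn
    exact (mem_centralizer_iff.mp (hcen hn) c hc).symm
  set T := normalizer (N : Set Γ) with hT
  have hNn : (N.subgroupOf T).Normal := normal_in_normalizer
  have key : Group.IsNilpotent (C.subgroupOf T) := by
    refine aux (R := R.subgroupOf T) (N := N.subgroupOf T) ?_ ?_ ?_ ?_ ?_ ?_ ?_
    · exact Group.isSolvable_of_isSolvable_injective (f := (subgroupOfEquivOfLe hCN).toMonoidHom) (subgroupOfEquivOfLe hCN).injective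
    · intro x hx
      rw [mem_normalizer_iff]
      intro y
      simp only [mem_subgroupOf]
      exact (mem_normalizer_iff.mp (hRC hx)) y
    · rw [Nat.card_congr (subgroupOfEquivOfLe hRN).toEquiv]; exact hR
    · rw [Nat.card_congr (subgroupOfEquivOfLe hRN).toEquiv, Nat.card_congr (subgroupOfEquivOfLe hCN).toEquiv]
      exact hcop
    · intro x hx
      exact hNC hx
    · intro x hx
      rw [mem_centralizer_iff]
      intro y hy
      apply Subtype.ext
      exact mem_centralizer_iff.mp (hcen hx) y hy
    · rintro x ⟨hx, hx'⟩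
      apply hfix
      refine ⟨hx, mem_centralizer_iff.mpr ?_⟩
      intro r hr
      have := mem_centralizer_iff.mp hx' ⟨r, hRN hr⟩ hr
      exact congrArg Subtype.val this
  exact (Group.isNilpotent_congr (subgroupOfEquivOfLe hCN)).mp key

end Cfsg.Agent.Lib.NilpFixCentral
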