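import Cfsg.Agent.Lib.CoprimeAction
import Cfsg.Agent.Lib.NilpTools
import Cfsg.Agent.Lib.PNilp
import Cfsg.Agent.Lib.Transfer
import Cfsg.Agent.Lib.StrongEmb
import Cfsg.Agent.Lib.Alperin

/-!
# Groups with a nilpotent maximal subgroup (helper1)

The general reduction: if `M` is a nilpotent maximal subgroup with trivial core and `G` has a
normal `p`-complement for every prime `p` dividing `|M|` then `G` is solvable.
-/

set_option autoImplicit false
set_option linter.style.haveILetI false

namespace Cfsg.Agent.Lib.NilpMax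

open Subgroup Cfsg Cfsg.Agent.Lib.SubgroupTools Cfsg.Agent.Lib.PNilp Cfsg.Agent.Lib.NilpTools

universe u

variable {G : Type u} [Group G]

theorem normalizer_eq {M D : Subgroup G} (hmax : IsCoatom M) (hcore : M.normalCore = ⊥)
    (hD : D ≠ ⊥) (hDM : D ≤ M) (h : M ≤ normalizer (D : Set G)) : normalizer (D : Set G) = M := by
  rcases eq_or_ne (normalizer (D : Set G)) ⊤ with h1 | h1
  · exfalso
    have h2 : D.Normal := normalizer_eq_top_iff.mp h1
    have h3 : D ≤ M.normalCore := normal_le_normalCore.mpr hDM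
    rw [hcore] at h3
    exact hD (le_bot_iff.mp h3)
  · by_contra hne
    exact h1 (hmax.2 _ (lt_of_le_of_ne h (Ne.symm hne)))

/-- A Sylow subgroup of a nilpotent maximal subgroup with trivial core is a Sylow subgroup of the
whole group. -/
theorem exists_sylow [Finite G] {M : Subgroup G} (hmax : IsCoatom M) (hcore : M.normalCore = ⊥)
    (hnil : Group.IsNilpotent M) (p : ℕ) [Fact p.Prime] (hp : p ∣ Nat.card M) :
    ∃ P : Sylow p G, (P : Subgroup G) ≤ M ∧ (P : Subgroup G) ≠ ⊥ ∧
      normalizer ((P : Subgroup G) : Set G) = M := by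
  obtain ⟨S⟩ : Nonempty (Sylow p M) := inferInstance
  have hSn : (S : Subgroup M).Normal := inferInstance
  set P0 : Subgroup G := (S : Subgroup M).map M.subtype with hP0
  have hP0M : P0 ≤ M := map_subtype_le _
  have hP0p : IsPGroup p P0 := S.2.map _
  have hMN : M ≤ normalizer (P0 : Set G) := by
    intro m hm
    rw [mem_normalizer_iff]
    intro x
    constructor
    · rintro ⟨y, hy, rfl⟩
      exact ⟨⟨m, hm⟩ * y * ⟨m, hm⟩⁻¹, hSn.conj_mem _ hy _, rfl⟩
    · rintro ⟨y, hy, hyx⟩
      refine ⟨⟨m, hm⟩⁻¹ * y * ⟨m, hm⟩, ?_, ?_⟩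
      · have := hSn.conj_mem _ hy (⟨m, hm⟩⁻¹)
        rw [inv_inv] at this
        exact this
      · have h1 : (y : G) = m * x * m⁻¹ := hyx
        show m⁻¹ * (y : G) * m = x
        rw [h1]; group
  have hSne : (S : Subgroup M) ≠ ⊥ := by
    intro h
    have h1 := S.dvd_card_of_dvd_card hp
    have h2 : Nat.card (S : Subgroup M) = 1 := by rw [h]; exact Subgroup.card_bot
    rw [h2] at h1
    exact (Fact.out : p.Prime).one_lt.ne' (Nat.dvd_one.mp h1)
  have hP0ne : P0 ≠ ⊥ := by
    intro h
    rw [hP0, Subgroup.map_eq_bot_iff_of_injective _ M.subtype_injective] at h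
    exact hSne h
  have hN := normalizer_eq hmax hcore hP0ne hP0M hMN
  obtain ⟨Q, hQ⟩ := hP0p.exists_le_sylow
  have hQP : (Q : Subgroup G) = P0 := by
    apply Cfsg.Agent.Lib.StrongEmb.isSylow_of_normalizer (p := p) (Q := P0) _ Q.2 hQ
    intro R hR hPR hRN
    rw [hN] at hRN
    have h1 : IsPGroup p (R.subgroupOf M) := hR.comap_of_injective _ M.subtype_injective
    have h2 : (S : Subgroup M) ≤ R.subgroupOf M := by
      intro x hx
      exact mem_subgroupOf.mpr (hPR ⟨x, hx, rfl⟩)
    have h3 := S.3 h1 h2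
    have h4 : (R.subgroupOf M).map M.subtype = R := by
      rw [subgroupOf_map_subtype, inf_of_le_left hRN]
    rw [← h4, h3]
  refine ⟨Q, hQP ▸ hP0M, hQP ▸ hP0ne, ?_⟩
  rw [hQP]; exact hN

/-- The final step. -/
theorem isSolvable_of_core_free [Finite G] {M : Subgroup G} (hmax : IsCoatom M)
    (hnil : Group.IsNilpotent M)
    (h : ∀ p : ℕ, p.Prime → p ∣ Nat.card M → HasNormalPComplement p G) :
    Group.IsSolvable G := by
  classical
  have hsolvM : Group.IsSolvable M := inferInstance
  set s := (Nat.card M).primeFactors with hs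
  have hmem : ∀ p ∈ s, p.Prime ∧ p ∣ Nat.card M := fun p hp =>
    ⟨Nat.prime_of_mem_primeFactors hp, Nat.dvd_of_mem_primeFactors hp⟩
  set K : Subgroup G := ⨅ p : s, pResidual (p : ℕ) G with hK
  have hKn : K.Normal := by
    rw [hK]
    exact Subgroup.normal_iInf_normal (fun p => pResidual_normal (p : ℕ))
  have hKcard : ∀ p : ℕ, p.Prime → p ∣ Nat.card M → ¬ p ∣ Nat.card K := by
    intro p hp hpM hpK
    haveI : Fact p.Prime := ⟨hp⟩
    have h1 := hasNormalPComplement_iff_pResidual.mp (h p hp hpM)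
    apply h1
    refine hpK.trans (Subgroup.card_dvd_of_le ?_)
    have hps : p ∈ s := by
      rw [hs, Nat.mem_primeFactors]
      exact ⟨hp, hpM, Nat.card_pos.ne'⟩
    exact iInf_le (fun q : s => pResidual (q : ℕ) G) ⟨p, hps⟩
  have hcop : (Nat.card M).Coprime (Nat.card K) := by
    rw [Nat.coprime_iff_gcd_eq_one]
    by_contra hne
    obtain ⟨p, hp, hpd⟩ := Nat.exists_prime_and_dvd hne
    exact hKcard p hp (hpd.trans (Nat.gcd_dvd_left _ _)) (hpd.trans (Nat.gcd_dvd_right _ _))
  have hKM : K ⊓ M = ⊥ := inf_eq_bot_of_coprime' hcop.symm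
  by_cases hKbot : K = ⊥
  · -- `G` embeds in a product of `p`-groups
    have hinj : Function.Injective (MonoidHom.pi (fun p : s => QuotientGroup.mk' (pResidual (p : ℕ) G))) := by
      rw [injective_iff_map_eq_one]
      intro x hx
      have h1 : x ∈ K := by
        rw [hK, Subgroup.mem_iInf]
        intro p
        have h2 := congrFun hx p
        have h3 : (QuotientGroup.mk' (pResidual (p : ℕ) G)) x = 1 := h2
        rwa [← MonoidHom.mem_ker, QuotientGroup.ker_mk'] at h3
      rw [hKbot] at h1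
      exact mem_bot.mp h1
    have hn : ∀ p : s, Group.IsNilpotent (G ⧸ pResidual (p : ℕ) G) := by
      intro p
      haveI : Fact (p : ℕ).Prime := ⟨(hmem p p.2).1⟩
      exact (isPGroup_quotient_pResidual (p : ℕ)).isNilpotent
    have hn' : Group.IsSolvable (∀ p : s, G ⧸ pResidual (p : ℕ) G) := by
      haveI := hn
      haveI : Group.IsNilpotent (∀ p : s, G ⧸ pResidual (p : ℕ) G) := inferInstance
      infer_instance
    exact Group.isSolvable_of_isSolvable_injective hinj
  · -- a prime `r` dividing `|K|`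
    have hMK : M ≤ normalizer (K : Set G) := by
      rw [normalizer_eq_top_iff.mpr hKn]; exact le_top
    have hcK : 1 < Nat.card K := K.one_lt_card_iff_ne_bot.mpr hKbot
    set r := (Nat.card K).minFac with hr
    have hrp : r.Prime := Nat.minFac_prime hcK.ne'
    haveI : Fact r.Prime := ⟨hrp⟩
    obtain ⟨R, hRK, hRp, hRi, hMR⟩ := Cfsg.Agent.Lib.CoprimeAction.exists_invariant_sylow hMK hcop
      (Or.inl hsolvM) r
    have hRne : R ≠ ⊥ := by
      intro h0
      rw [h0, relIndex_bot_left] at hRi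
      exact hRi (Nat.minFac_dvd _)
    have hRM : ¬ R ≤ M := by
      intro h0
      exact hRne (le_bot_iff.mp (hKM ▸ le_inf hRK h0))
    have htop : R ⊔ M = ⊤ := by
      apply hmax.2
      refine lt_of_le_of_ne le_sup_right ?_
      intro h0
      exact hRM (h0 ▸ le_sup_left)
    have hRn : R.Normal := by
      rw [← normalizer_eq_top_iff, eq_top_iff, ← htop]
      exact sup_le le_normalizer hMR
    haveI : Group.IsNilpotent R := hRp.isNilpotent
    have hsR : Group.IsSolvable R := inferInstance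
    have hsQ : Group.IsSolvable (G ⧸ R) := by
      have hsurj : Function.Surjective ((QuotientGroup.mk' R).comp M.subtype) := by
        rw [← MonoidHom.range_eq_top, MonoidHom.range_comp, range_subtype]
        have h1 : (R ⊔ M).map (QuotientGroup.mk' R) = ⊤ := by
          rw [htop, ← MonoidHom.range_eq_map, MonoidHom.range_eq_top]
          exact QuotientGroup.mk'_surjective R
        rw [_root_.Subgroup.map_sup, QuotientGroup.map_mk'_self, bot_sup_eq] at h1
        exact h1
      exact Group.isSolvable_of_surjective hsurj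
    have e := QuotientGroup.ker_mk' R
    exact Group.isSolvable_of_ker_le_range R.subtype (QuotientGroup.mk' R)
      (by rw [e, range_subtype])

/-- Own fusion via a weakly closed central subgroup. -/
theorem hasNormalPComplement_of_center [Finite G] {p : ℕ} [Fact p.Prime] (P : Sylow p G)
    (hZ : ∀ Q : Sylow p G, (Subgroup.center (P : Subgroup G)).map (P : Subgroup G).subtype ≤ Q →
      Q = P)
    (hN : ∀ x ∈ P, ∀ g ∈ normalizer ((P : Subgroup G) : Set G),
      ∃ z ∈ P, z * x * z⁻¹ = g * x * g⁻¹) :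
    HasNormalPComplement p G := by
  apply Cfsg.Agent.Lib.Transfer.hasNormalPComplement_of_ownFusion P
  rintro x hx y hy ⟨g, rfl⟩
  set Z := (Subgroup.center (P : Subgroup G)).map (P : Subgroup G).subtype with hZdef
  have hZP : Z ≤ (P : Subgroup G) := map_subtype_le _
  have hZc : ∀ z ∈ Z, ∀ w ∈ P, z * w = w * z := by
    rintro _ ⟨z, hz, rfl⟩ w hw
    have := mem_center_iff.mp hz ⟨w, hw⟩
    exact (congrArg Subtype.val this).symm
  set y := g * x * g⁻¹ with hydef
  -- `Z` and `g Z g⁻¹` centralize `y`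
  set C := centralizer ({y} : Set G) with hC
  have h1 : Z ≤ C := by
    intro z hz
    rw [hC, mem_centralizer_singleton_iff]
    exact (hZc z hz y hy)
  have h2 : Z.map (MulAut.conj g).toMonoidHom ≤ C := by
    rintro _ ⟨z, hz, rfl⟩
    rw [hC, mem_centralizer_singleton_iff]
    have h3 := hZc z hz x hx
    show (g * z * g⁻¹) * y = y * (g * z * g⁻¹)
    rw [hydef]
    calc g * z * g⁻¹ * (g * x * g⁻¹) = g * (z * x) * g⁻¹ := by group
      _ = g * (x * z) * g⁻¹ := by rw [h3]
      _ = g * x * g⁻¹ * (g * z * g⁻¹) := by group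
  have hZp : IsPGroup p Z := P.2.to_le hZP
  have hZp' : IsPGroup p (Z.map (MulAut.conj g).toMonoidHom) := hZp.map _
  have h3 : IsPGroup p (Z.subgroupOf C) := hZp.comap_of_injective _ C.subtype_injective
  have h4 : IsPGroup p ((Z.map (MulAut.conj g).toMonoidHom).subgroupOf C) :=
    hZp'.comap_of_injective _ C.subtype_injective
  obtain ⟨S1, hS1⟩ := h3.exists_le_sylow
  obtain ⟨S2, hS2⟩ := h4.exists_le_sylow
  obtain ⟨c, hc⟩ := MulAction.exists_smul_eq C S2 S1
  -- a Sylow subgroup of `G` containing `S1`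
  have h5 : IsPGroup p ((S1 : Subgroup C).map C.subtype) := S1.2.map _
  obtain ⟨T, hT⟩ := h5.exists_le_sylow
  have hTP : T = P := by
    apply hZ
    intro z hz
    exact hT ⟨⟨z, h1 hz⟩, hS1 (mem_subgroupOf.mpr hz), rfl⟩
  -- `c g Z (c g)⁻¹ ≤ P`
  have h6 : ∀ z ∈ Z, ((c : G) * g) * z * ((c : G) * g)⁻¹ ∈ (P : Subgroup G) := by
    intro z hz
    rw [← hTP]
    apply hT
    have h7 : g * z * g⁻¹ ∈ C := h2 ⟨z, hz, rfl⟩
    have h8 : (⟨g * z * g⁻¹, h7⟩ : C) ∈ (S2 : Subgroup C) :=
      hS2 (mem_subgroupOf.mpr ⟨z, hz, rfl⟩)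
    refine ⟨c * ⟨g * z * g⁻¹, h7⟩ * c⁻¹, ?_, ?_⟩
    · have h9 : c * ⟨g * z * g⁻¹, h7⟩ * c⁻¹ ∈ ((c • S2 : Sylow p C) : Subgroup C) := by
        rw [Sylow.coe_subgroup_smul]
        exact Subgroup.smul_mem_pointwise_smul _ _ _ h8
      rw [hc] at h9
      exact h9
    · show (c : G) * (g * z * g⁻¹) * (c : G)⁻¹ = _
      group
  have h7 : ((c : G) * g)⁻¹ • P = P := by
    apply hZ
    intro z hz
    have := h6 z hz
    rw [Sylow.coe_subgroup_smul, mem_pointwise_smul_iff_inv_smul_mem]
    have h8 : (MulAut.conj (((c : G) * g)⁻¹))⁻¹ • z = ((c : G) * g) * z * ((c : G) * g)⁻¹ := by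
      rw [← map_inv, inv_inv]
      rfl
    rw [h8]; exact this
  have h8 : ((c : G) * g)⁻¹ ∈ normalizer ((P : Subgroup G) : Set G) := by
    exact Sylow.smul_eq_iff_mem_normalizer.mp h7
  have h9 : (c : G) * g ∈ normalizer ((P : Subgroup G) : Set G) := by
    have := inv_mem h8
    rwa [inv_inv] at this
  obtain ⟨z, hz, hzx⟩ := hN x hx _ h9
  refine ⟨z, hz, ?_⟩
  rw [hzx]
  have hcy : (c : G) * y = y * c := by
    have h10 : ∀ w ∈ C, w * y = y * w := by
      intro w hw
      rw [hC, mem_centralizer_singleton_iff] at hw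
      exact hw
    exact h10 c c.2
  calc (c : G) * g * x * ((c : G) * g)⁻¹ = (c : G) * (g * x * g⁻¹) * (c : G)⁻¹ := by group
    _ = (c : G) * y * (c : G)⁻¹ := by rw [hydef]
    _ = y := by rw [hcy]; group

end Cfsg.Agent.Lib.NilpMax
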