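import Mathlib
import Cfsg.Agent.Lib.CoprimeGen
import Cfsg.Agent.Lib.CoprimeAction2
import Cfsg.Agent.Lib.HHMin
import Cfsg.Agent.Lib.PGroupOdd
import Cfsg.Agent.Lib.HallNorm
import Cfsg.Agent.Lib.ProdCard

/-! Noncyclic abelian `p`-groups (`p` odd) acting on a `2`-group such that the fixed points of nontrivial elements
contain at most one involution (helper63, plan by helper49). -/

set_option autoImplicit false
open scoped commutatorElement

namespace Cfsg.Agent.Lib.NonCycFix

open Subgroup Cfsg.Agent.Lib Cfsg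

section general

variable {P : Type*} [Group P] [Finite P] {p : ℕ} [hp : Fact p.Prime]

omit [Finite P] in
theorem commute_of_ucs {a b : P} (ha : a ∈ commutator P) (hb : b ∈ Subgroup.upperCentralSeries P 2) :
    a * b = b * a := by
  have hb' : ∀ g, b * g * b⁻¹ * g⁻¹ ∈ center P := by
    intro g
    have := (Subgroup.mem_upperCentralSeries_succ_iff).1 hb g
    rwa [Subgroup.upperCentralSeries_one] at this
  let f : P →* center P :=
    { toFun := fun g => ⟨b * g * b⁻¹ * g⁻¹, hb' g⟩
      map_one' := by apply Subtype.ext; simp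
      map_mul' := by
        intro g h
        apply Subtype.ext
        show b * (g * h) * b⁻¹ * (g * h)⁻¹ = (b * g * b⁻¹ * g⁻¹) * (b * h * b⁻¹ * h⁻¹)
        have h1 := mem_center_iff.1 (hb' h) g⁻¹
        calc b * (g * h) * b⁻¹ * (g * h)⁻¹ = (b * g * b⁻¹) * ((b * h * b⁻¹ * h⁻¹) * g⁻¹) := by group
          _ = (b * g * b⁻¹) * (g⁻¹ * (b * h * b⁻¹ * h⁻¹)) := by rw [h1]
          _ = _ := by group }
  have hker : commutator P ≤ f.ker := by
    rw [_root_.commutator_def, commutator_le]
    intro g _ h _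
    rw [MonoidHom.mem_ker, map_commutatorElement, commutatorElement_eq_one_iff_mul_comm]
    exact Subtype.ext ((mem_center_iff.1 (f g).2 _).symm)
  have h2 : f a = 1 := hker ha
  have h3 : b * a * b⁻¹ * a⁻¹ = 1 := congrArg Subtype.val h2
  rw [mul_inv_eq_one, mul_inv_eq_iff_eq_mul] at h3
  exact h3.symm

/-- if every characteristic abelian subgroup is central then the class is at most two. -/
theorem commutator_le_center_of_char (hP : IsPGroup p P)
    (h : ∀ A : Subgroup P, A.Characteristic → (∀ a ∈ A, ∀ b ∈ A, a * b = b * a) → A ≤ center P) :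
    commutator P ≤ center P := by
  by_contra hne
  have hN1 : (commutator P).map (QuotientGroup.mk' (center P)) ≠ ⊥ := by
    intro h1
    rw [Subgroup.map_eq_bot_iff, QuotientGroup.ker_mk'] at h1
    exact hne h1
  obtain ⟨_, ⟨x, hx, rfl⟩, hxc, hxo⟩ := PGroupOdd.exists_central_mem (hP.to_quotient (center P))
    ((inferInstance : (commutator P).Normal).map _ (QuotientGroup.mk'_surjective (center P))) hN1
  have hx2 : x ∈ Subgroup.upperCentralSeries P 2 := by
    rw [Subgroup.mem_upperCentralSeries_succ_iff]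
    intro y
    rw [Subgroup.upperCentralSeries_one, ← QuotientGroup.ker_mk' (center P), MonoidHom.mem_ker,
      map_commutatorElement, commutatorElement_eq_one_iff_mul_comm]
    exact (mem_center_iff.1 hxc _).symm
  have h1 := h (commutator P ⊓ Subgroup.upperCentralSeries P 2) inferInstance (by
    intro a ha b hb
    exact commute_of_ucs ha.1 hb.2)
  have h2 : x ∈ center P := h1 ⟨hx, hx2⟩
  have h3 : QuotientGroup.mk' (center P) x = 1 := (QuotientGroup.eq_one_iff x).2 h2
  rw [h3, orderOf_one] at hxo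
  exact hp.out.one_lt.ne hxo

omit [Finite P] hp in
theorem comm_pow_left (h : commutator P ≤ center P) (x y : P) (n : ℕ) : ⁅x ^ n, y⁆ = ⁅x, y⁆ ^ n := by
  induction n with
  | zero => simp
  | succ n ih =>
    have h1 : ⁅x, y⁆ ∈ center P := h (commutator_mem_commutator (mem_top _) (mem_top _))
    rw [pow_succ' x, pow_succ, ← ih, commutatorElement_def, commutatorElement_def, commutatorElement_def]
    have h2 : ⁅x ^ n, y⁆ ∈ center P := h (commutator_mem_commutator (mem_top _) (mem_top _))
    have h3 := mem_center_iff.1 h2 x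
    calc x * x ^ n * y * (x * x ^ n)⁻¹ * y⁻¹ = x * ⁅x ^ n, y⁆ * y * x⁻¹ * y⁻¹ := by
          rw [commutatorElement_def]; group
      _ = ⁅x ^ n, y⁆ * x * y * x⁻¹ * y⁻¹ := by rw [h3]
      _ = _ := by rw [commutatorElement_def]; group

omit [Finite P] hp in
theorem comm_pow_right (h : commutator P ≤ center P) (x y : P) (n : ℕ) : ⁅x, y ^ n⁆ = ⁅x, y⁆ ^ n := by
  rw [← inv_inj, commutatorElement_inv, comm_pow_left h, ← inv_pow, commutatorElement_inv]

/-- the same with exponents. -/
theorem pow_mem_center_of_char (hP : IsPGroup p P)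
    (h : ∀ A : Subgroup P, A.Characteristic → (∀ a ∈ A, ∀ b ∈ A, a * b = b * a) → A ≤ center P) (x : P) :
    x ^ p ∈ center P := by
  classical
  have hc := commutator_le_center_of_char hP h
  have hex : ∃ j : ℕ, ∀ x : P, x ^ p ^ j ∈ center P := by
    obtain ⟨k, hk⟩ := IsPGroup.iff_card.mp hP
    exact ⟨k, fun x => by rw [← hk, pow_card_eq_one']; exact one_mem _⟩
  set j := Nat.find hex with hj
  have hj1 : ∀ x : P, x ^ p ^ j ∈ center P := Nat.find_spec hex
  by_cases hj2 : j ≤ 1
  · have h2 := pow_mem (hj1 x) (p ^ (1 - j))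
    rw [← pow_mul, ← pow_add, Nat.add_sub_cancel' hj2, pow_one] at h2
    exact h2
  · exfalso
    have hlt : j - 1 < Nat.find hex := by omega
    apply Nat.find_min hex hlt
    -- the subgroup generated by the powers
    let S : Set P := Set.range fun x : P => x ^ p ^ (j - 1)
    have hchar : (closure S).Characteristic := by
      rw [characteristic_iff_map_le]
      intro φ
      rw [MonoidHom.map_closure, closure_le]
      rintro _ ⟨_, ⟨x, rfl⟩, rfl⟩
      refine subset_closure ⟨φ x, ?_⟩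
      exact (map_pow φ x _).symm
    have hcomm : ∀ a ∈ closure S, ∀ b ∈ closure S, a * b = b * a := by
      have h3 : S ⊆ centralizer S := by
        rintro _ ⟨y, rfl⟩
        rw [SetLike.mem_coe, mem_centralizer_iff]
        rintro _ ⟨x, rfl⟩
        rw [← commutatorElement_eq_one_iff_mul_comm]
        show ⁅x ^ p ^ (j - 1), y ^ p ^ (j - 1)⁆ = 1
        rw [comm_pow_left hc, comm_pow_right hc, ← pow_mul, ← pow_add]
        have h4 : j - 1 + (j - 1) = j + (j - 2) := by omega
        rw [h4, pow_add, pow_mul, ← comm_pow_left hc]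
        have h5 : ⁅x ^ p ^ j, y⁆ = 1 := by
          rw [commutatorElement_eq_one_iff_mul_comm]
          exact (mem_center_iff.1 (hj1 x) y).symm
        rw [h5, one_pow]
      have h6 : closure S ≤ centralizer S := (closure_le _).2 h3
      have h7 : S ⊆ centralizer (closure S : Set P) := by
        intro s hs
        rw [SetLike.mem_coe, mem_centralizer_iff]
        intro g hg
        exact (mem_centralizer_iff.1 (h6 hg) s hs).symm
      have h8 : closure S ≤ centralizer (closure S : Set P) := (closure_le _).2 h7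
      intro a ha b hb
      exact mem_centralizer_iff.1 (h8 hb) a ha
    have h9 := h (closure S) hchar hcomm
    intro y
    exact h9 (subset_closure ⟨y, rfl⟩)

end general

section setup

variable {G : Type*} [Group G] [Finite G] {p : ℕ} [hp : Fact p.Prime] {W E : Subgroup G}

/-- the hypotheses. -/
structure Setup (p : ℕ) (W E : Subgroup G) : Prop where
  hp2 : p ≠ 2
  hW : IsPGroup 2 W
  hE : IsPGroup p E
  hab : IsMulCommutative E
  hnc : ¬ IsCyclic E
  hEW : E ≤ normalizer (W : Set G)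
  faith : ∀ e ∈ E, (∀ x ∈ W, e * x = x * e) → e = 1
  hfix : ∀ e ∈ E, e ≠ 1 → ∀ x ∈ W, ∀ y ∈ W, x ≠ 1 → x * x = 1 → y ≠ 1 → y * y = 1 → e * x = x * e →
    e * y = y * e → x = y

theorem Setup.cop (S : Setup p W E) {B : Subgroup G} (hB : B ≤ W) : (Nat.card E).Coprime (Nat.card B) := by
  obtain ⟨a, ha⟩ := IsPGroup.iff_card.mp S.hE
  obtain ⟨b, hb⟩ := IsPGroup.iff_card.mp (S.hW.to_le hB)
  rw [ha, hb]
  exact Nat.Coprime.pow _ _ ((Nat.coprime_primes hp.out Nat.prime_two).2 S.hp2)

theorem Setup.comm (S : Setup p W E) {a b : G} (ha : a ∈ E) (hb : b ∈ E) : a * b = b * a :=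
  isMulCommutative_iff_of_setLike.mp S.hab a ha b hb

theorem Setup.solv (S : Setup p W E) : Group.IsSolvable E :=
  Group.isSolvable_of_comm fun a b => Subtype.ext (S.comm a.2 b.2)

theorem Setup.exists_ne (S : Setup p W E) : ∃ e ∈ E, e ≠ 1 := by
  by_contra hcon
  push Not at hcon
  apply S.hnc
  have : Subsingleton E := ⟨fun a b => Subtype.ext ((hcon a a.2).trans (hcon b b.2).symm)⟩
  exact isCyclic_of_subsingleton

theorem exists_two {Q : Subgroup G} (hQ : IsPGroup 2 Q) (hne : Q ≠ ⊥) : ∃ t ∈ Q, t ≠ 1 ∧ t * t = 1 := by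
  have h2 : 1 < Nat.card Q := Q.one_lt_card_iff_ne_bot.mpr hne
  obtain ⟨k, hk⟩ := IsPGroup.iff_card.mp hQ
  have h3 : 2 ∣ Nat.card Q := by
    rw [hk] at h2 ⊢
    exact dvd_pow_self 2 (by rintro rfl; simp at h2)
  obtain ⟨t, ht⟩ := exists_prime_orderOf_dvd_card' 2 h3
  refine ⟨t, t.2, ?_, ?_⟩
  · intro h
    have : t = 1 := Subtype.ext h
    rw [this, orderOf_one] at ht
    norm_num at ht
  · have h4 := pow_orderOf_eq_one t
    rw [ht, pow_two] at h4
    exact congrArg Subtype.val h4

theorem Setup.exists_inv (S : Setup p W E) {B : Subgroup G} (hB : B ≤ W) (hEB : E ≤ normalizer (B : Set G))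
    (hB1 : B ≠ ⊥) : ∃ t ∈ B, t ≠ 1 ∧ t * t = 1 ∧ ∀ e ∈ E, e * t = t * e := by
  have h1 := CoprimeGen.iSup_centralizer_eq S.hab S.hnc hEB (S.cop hB)
  obtain ⟨e, he, he1, hne⟩ : ∃ e ∈ E, e ≠ 1 ∧ B ⊓ centralizer {e} ≠ ⊥ := by
    by_contra hcon
    push Not at hcon
    apply hB1
    rw [← h1, eq_bot_iff]
    refine iSup₂_le fun e he => ?_
    rw [hcon e he.1 he.2]
  have hQ : IsPGroup 2 (B ⊓ centralizer {e} : Subgroup G) := S.hW.to_le (inf_le_left.trans hB)
  obtain ⟨t, ht, ht1, htt⟩ := exists_two hQ hne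
  refine ⟨t, ht.1, ht1, htt, fun f hf => ?_⟩
  have het : t * e = e * t := mem_centralizer_singleton_iff.1 ht.2
  have h4 : f * t * f⁻¹ = t := by
    apply S.hfix e he he1 _ (hB ((mem_normalizer_iff.1 (hEB hf) t).1 ht.1)) _ (hB ht.1) _ _ ht1 htt _ het.symm
    · intro h; apply ht1; rw [mul_inv_eq_one] at h; exact (mul_eq_left.1 h)
    · calc f * t * f⁻¹ * (f * t * f⁻¹) = f * (t * t) * f⁻¹ := by group
        _ = 1 := by rw [htt]; group
    · have h5 := S.comm he hf
      calc e * (f * t * f⁻¹) = (e * f) * t * f⁻¹ := by group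
        _ = f * (e * t) * f⁻¹ := by rw [h5]; group
        _ = f * (t * e) * f⁻¹ := by rw [het]
        _ = f * t * f⁻¹ * (f * e) * f⁻¹ := by group
        _ = f * t * f⁻¹ * (e * f) * f⁻¹ := by rw [h5]
        _ = f * t * f⁻¹ * e := by group
  exact mul_inv_eq_iff_eq_mul.1 h4

/-- invariant abelian subgroups are centralised. -/
theorem Setup.cent_of_abelian (S : Setup p W E) {B : Subgroup G} (hB : B ≤ W) (hEB : E ≤ normalizer (B : Set G))
    (hcomm : ∀ a ∈ B, ∀ b ∈ B, a * b = b * a) : B ≤ centralizer (E : Set G) := by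
  haveI hV : IsMulCommutative B := isMulCommutative_iff_of_setLike.mpr hcomm
  rw [← commutator_eq_bot_iff_le_centralizer]
  by_contra hne
  have hle : ⁅B, E⁆ ≤ B := le_normalizer_iff_commutator_le_left.mp hEB
  obtain ⟨t, ht, ht1, -, htE⟩ := S.exists_inv (hle.trans hB) (normalizer_commutator_ge_right B E) hne
  have h1 := CoprimeAction2.inf_commutator_eq_bot_of_abelian hEB (S.cop hB)
  have h2 : t ∈ (B ⊓ centralizer (E : Set G)) ⊓ ⁅B, E⁆ :=
    Subgroup.mem_inf.2 ⟨Subgroup.mem_inf.2 ⟨hle ht, mem_centralizer_iff.2 htE⟩, ht⟩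
  rw [h1, mem_bot] at h2
  exact ht1 h2

theorem Setup.exists_z (S : Setup p W E) : ∃ z ∈ W, z ≠ 1 ∧ z * z = 1 ∧ (∀ e ∈ E, e * z = z * e) ∧
    (∀ t ∈ W, t ≠ 1 → t * t = 1 → (∀ e ∈ E, e * t = t * e) → t = z) := by
  obtain ⟨e, he, he1⟩ := S.exists_ne
  have hW1 : W ≠ ⊥ := by
    rintro h
    apply he1
    apply S.faith e he
    intro x hx
    rw [h, mem_bot] at hx
    rw [hx, mul_one, one_mul]
  obtain ⟨z, hz, hz1, hzz, hzE⟩ := S.exists_inv le_rfl S.hEW hW1
  exact ⟨z, hz, hz1, hzz, hzE, fun t ht ht1 htt htE => S.hfix e he he1 t ht z hz ht1 htt hz1 hzz (htE e he) (hzE e he)⟩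

/-- the extraspecial case. -/
structure Ex (p : ℕ) (U E : Subgroup G) (z : G) : Prop where
  hp2 : p ≠ 2
  hU : IsPGroup 2 U
  hE : IsPGroup p E
  hab : IsMulCommutative E
  hnc : ¬ IsCyclic E
  hEU : E ≤ normalizer (U : Set G)
  hUE : ⁅U, E⁆ = U
  zU : z ∈ U
  z1 : z ≠ 1
  zz : z * z = 1
  zE : ∀ e ∈ E, e * z = z * e
  zc : ∀ x ∈ U, z * x = x * z
  cc : ∀ x ∈ U, ∀ y ∈ U, x * y = y * x ∨ x * y = z * (y * x)
  sq : ∀ x ∈ U, x * x = 1 ∨ x * x = z
  cen : ∀ x ∈ U, (∀ y ∈ U, x * y = y * x) → x = 1 ∨ x = z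
  fixE : ∀ x ∈ U, (∀ e ∈ E, e * x = x * e) → x = 1 ∨ x = z
  fix : ∀ e ∈ E, e ≠ 1 → ∀ x ∈ U, e * x = x * e → x * x = 1 → x = 1 ∨ x = z
  faithU : ∀ e ∈ E, (∀ x ∈ U, e * x = x * e) → e = 1

theorem Setup.exists_ex (S : Setup p W E) : ∃ z, Ex p ⁅W, E⁆ E z := by
  obtain ⟨z, hzW, hz1, hzz, hzE, hzu⟩ := S.exists_z
  refine ⟨z, ?_⟩
  set U : Subgroup G := ⁅W, E⁆ with hU
  have hUW : U ≤ W := le_normalizer_iff_commutator_le_left.mp S.hEW
  have hEU : E ≤ normalizer (U : Set G) := normalizer_commutator_ge_right W E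
  have hUE : ⁅U, E⁆ = U := CoprimeAction2.commutator_commutator S.hEW (S.cop le_rfl) (Or.inl S.solv)
  have hU2 : IsPGroup 2 U := S.hW.to_le hUW
  -- faithful
  have faithU : ∀ e ∈ E, (∀ x ∈ U, e * x = x * e) → e = 1 := by
    intro e he h
    apply S.faith e he
    have hze : zpowers e ≤ E := by rw [zpowers_le]; exact he
    have h1 : W ≤ centralizer (zpowers e : Set G) := by
      apply CoprimeAction2.le_centralizer_of_series (N := U) (hze.trans S.hEW)
        ((S.cop le_rfl).coprime_dvd_left (card_dvd_of_le hze))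
        (Or.inl (Group.isSolvable_of_comm (fun a b => (isMulCommutative_iff.mp inferInstance) a b)))
        (commutator_mono le_rfl hze)
      intro x hx
      rw [mem_centralizer_iff]
      intro g hg
      have h2 : zpowers e ≤ centralizer {x} := by
        rw [zpowers_le, mem_centralizer_singleton_iff]
        exact h x hx
      exact mem_centralizer_singleton_iff.1 (h2 hg)
    intro x hx
    exact mem_centralizer_iff.1 (h1 hx) e (mem_zpowers e)
  have hUne : U ≠ ⊥ := by
    intro h
    obtain ⟨e, he, he1⟩ := S.exists_ne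
    apply he1
    apply faithU e he
    intro x hx
    rw [h, mem_bot] at hx
    rw [hx, mul_one, one_mul]
  -- invariant normal abelian subgroups are central
  have hcen : ∀ A : Subgroup G, A ≤ U → U ≤ normalizer (A : Set G) → E ≤ normalizer (A : Set G) →
      (∀ a ∈ A, ∀ b ∈ A, a * b = b * a) → A ≤ centralizer (U : Set G) := by
    intro A hAU hUA hEA hcomm
    have h1 := S.cent_of_abelian (hAU.trans hUW) hEA hcomm
    have h2 : ⁅⁅U, E⁆, A⁆ = ⊥ := by
      apply CoprimeAction2.commutator_commutator_eq_bot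
      · have h3 : ⁅E, A⁆ = ⊥ := by
          rw [commutator_comm, commutator_eq_bot_iff_le_centralizer]; exact h1
        rw [h3, commutator_bot_left]
      · have h3 : ⁅A, U⁆ ≤ A := le_normalizer_iff_commutator_le_left.mp hUA
        rw [commutator_eq_bot_iff_le_centralizer]
        exact h3.trans h1
    rw [hUE, commutator_comm, commutator_eq_bot_iff_le_centralizer] at h2
    exact h2
  have hchar : ∀ A : Subgroup U, A.Characteristic → (∀ a ∈ A, ∀ b ∈ A, a * b = b * a) → A ≤ center U := by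
    intro A hA hcomm
    have h1 := HallNorm.normalizer_le_normalizer_map_subtype hA
    have h2 := hcen (A.map U.subtype) (map_subtype_le A) (le_normalizer.trans h1) (hEU.trans h1) (by
      rintro _ ⟨a, ha, rfl⟩ _ ⟨b, hb, rfl⟩
      exact congrArg Subtype.val (hcomm a ha b hb))
    intro a ha
    rw [mem_center_iff]
    intro g
    exact Subtype.ext (mem_centralizer_iff.1 (h2 (mem_map_of_mem _ ha)) g g.2)
  have c1 := commutator_le_center_of_char hU2 hchar
  have c2 := pow_mem_center_of_char hU2 hchar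
  -- `Z(U)` is centralised by `E`
  have hZE : ∀ x ∈ U, (∀ y ∈ U, x * y = y * x) → ∀ e ∈ E, e * x = x * e := by
    intro x hx hxy
    have h1 : E ≤ normalizer (((center U).map U.subtype : Subgroup G) : Set G) :=
      hEU.trans (HallNorm.normalizer_le_normalizer_map_subtype inferInstance)
    have h2 := S.cent_of_abelian ((map_subtype_le (center U)).trans hUW) h1 (by
      rintro _ ⟨a, ha, rfl⟩ _ ⟨b, hb, rfl⟩
      exact congrArg Subtype.val (mem_center_iff.1 hb a))
    have h3 : x ∈ (center U).map U.subtype :=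
      ⟨⟨x, hx⟩, mem_center_iff.2 fun g => Subtype.ext (hxy g g.2).symm, rfl⟩
    exact mem_centralizer_iff.1 (h2 h3)
  have c4 : ∀ g ∈ commutator U, g * g = 1 := by
    let K : Subgroup U :=
      { carrier := {g | g ∈ center U ∧ g * g = 1}
        mul_mem' := by
          rintro a b ⟨ha, haa⟩ ⟨hb, hbb⟩
          refine ⟨mul_mem ha hb, ?_⟩
          have h1 := mem_center_iff.1 ha b
          calc a * b * (a * b) = a * (b * a) * b := by group
            _ = a * (a * b) * b := by rw [h1]
            _ = (a * a) * (b * b) := by group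
            _ = 1 := by rw [haa, hbb, one_mul]
        one_mem' := ⟨one_mem _, one_mul 1⟩
        inv_mem' := by
          rintro a ⟨ha, haa⟩
          refine ⟨inv_mem ha, ?_⟩
          rw [← mul_inv_rev, haa, inv_one] }
    have h1 : commutator U ≤ K := by
      rw [_root_.commutator_def, commutator_le]
      intro x _ y _
      refine ⟨c1 (commutator_mem_commutator (mem_top _) (mem_top _)), ?_⟩
      have h2 : ⁅x ^ 2, y⁆ = 1 := by
        rw [commutatorElement_eq_one_iff_mul_comm]
        exact (mem_center_iff.1 (c2 x) y).symm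
      rw [comm_pow_left c1, pow_two] at h2
      exact h2
    intro g hg
    exact (h1 hg).2
  have fixE' : ∀ x ∈ U, (∀ e ∈ E, e * x = x * e) → x = 1 ∨ x = z := by
    intro x hx hxE
    have h1 := HHMin.mem_commutator_of_centralized U E hU2 (by
      obtain ⟨a, ha⟩ := IsPGroup.iff_card.mp S.hE
      rw [ha]
      exact Nat.Coprime.pow_left _ ((Nat.coprime_primes hp.out Nat.prime_two).2 S.hp2)) hEU hUE hx hxE
    have h2 : ∃ g ∈ commutator U, (g : G) = x := by
      have h3 : (commutator U).map U.subtype = ⁅U, U⁆ := by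
        rw [_root_.commutator_def, map_commutator, ← MonoidHom.range_eq_map, range_subtype]
      rw [← h3] at h1
      obtain ⟨g, hg, hgx⟩ := h1
      exact ⟨g, hg, hgx⟩
    obtain ⟨g, hg, rfl⟩ := h2
    by_cases hg1 : (g : G) = 1
    · exact Or.inl hg1
    · exact Or.inr (hzu g (hUW g.2) hg1 (congrArg Subtype.val (c4 g hg)) hxE)
  have cen : ∀ x ∈ U, (∀ y ∈ U, x * y = y * x) → x = 1 ∨ x = z := fun x hx hxy => fixE' x hx (hZE x hx hxy)
  obtain ⟨hzU, hzc⟩ : z ∈ U ∧ ∀ x ∈ U, z * x = x * z := by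
    have hn : Nontrivial U := (Subgroup.nontrivial_iff_ne_bot U).2 hUne
    have h1 := hU2.center_nontrivial
    obtain ⟨c, hc⟩ := _root_.exists_ne (1 : center U)
    have h2 : ((c : U) : G) ≠ 1 := fun h => hc (Subtype.ext (Subtype.ext h))
    have h3 : ∀ y ∈ U, ((c : U) : G) * y = y * ((c : U) : G) := fun y hy =>
      (congrArg Subtype.val (mem_center_iff.1 c.2 ⟨y, hy⟩)).symm
    have h4 := (cen _ (c : U).2 h3).resolve_left h2
    rw [h4] at h3
    exact ⟨h4 ▸ (c : U).2, h3⟩
  exact
    { hp2 := S.hp2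
      hU := hU2
      hE := S.hE
      hab := S.hab
      hnc := S.hnc
      hEU := hEU
      hUE := hUE
      zU := hzU
      z1 := hz1
      zz := hzz
      zE := hzE
      zc := hzc
      cc := by
        intro x hx y hy
        have h1 : ⁅(⟨x, hx⟩ : U), ⟨y, hy⟩⁆ ∈ center U := c1 (commutator_mem_commutator (mem_top _) (mem_top _))
        have h2 : ⁅x, y⁆ = 1 ∨ ⁅x, y⁆ = z := cen _ (⁅(⟨x, hx⟩ : U), ⟨y, hy⟩⁆ : U).2 fun g hg =>
          (congrArg Subtype.val (mem_center_iff.1 h1 ⟨g, hg⟩)).symm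
        rcases h2 with h2 | h2
        · left; exact commutatorElement_eq_one_iff_mul_comm.1 h2
        · right
          rw [← h2, commutatorElement_def]; group
      sq := by
        intro x hx
        have h1 := c2 ⟨x, hx⟩
        have h2 : x ^ 2 = 1 ∨ x ^ 2 = z := cen _ (pow_mem hx 2) fun g hg =>
          (congrArg Subtype.val (mem_center_iff.1 h1 ⟨g, hg⟩)).symm
        rwa [pow_two] at h2
      cen := cen
      fixE := fixE'
      fix := by
        intro e he he1 x hx hex hxx
        by_cases hx1 : x = 1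
        · exact Or.inl hx1
        · exact Or.inr (S.hfix e he he1 x (hUW hx) z hzW hx1 hxx hz1 hzz hex (hzE e he))
      faithU := faithU }

end setup

end Cfsg.Agent.Lib.NonCycFix
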