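import Mathlib
import Cfsg.Agent.Lib.NonCycFix

/-! Noncyclic abelian `p`-groups acting on extraspecial `2`-groups with at most one involution fixed (helper63). -/

set_option autoImplicit false
open scoped commutatorElement

namespace Cfsg.Agent.Lib.NonCycFix

open Subgroup Cfsg.Agent.Lib Cfsg

variable {G : Type*} [Group G] [Finite G] {p : ℕ} [hp : Fact p.Prime] {U E : Subgroup G} {z : G}

theorem Ex.comm (S : Ex p U E z) {a b : G} (ha : a ∈ E) (hb : b ∈ E) : a * b = b * a :=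
  isMulCommutative_iff_of_setLike.mp S.hab a ha b hb

theorem Ex.mem_pow (S : Ex p U E z) {f : G} (hf : f ∈ E) {n : ℕ} (hn : n.Coprime p) : f ∈ zpowers (f ^ n) := by
  obtain ⟨k, hk⟩ := (IsPGroup.iff_orderOf.mp S.hE) ⟨f, hf⟩
  rw [Subgroup.orderOf_mk] at hk
  obtain ⟨m, hm⟩ := exists_pow_eq_self_of_coprime (x := f) (n := n) (by rw [hk]; exact Nat.Coprime.pow_right k hn)
  rw [mem_zpowers_iff]
  exact ⟨m, by rw [zpow_natCast]; exact hm⟩

theorem Ex.comm_of_pow (S : Ex p U E z) {f x : G} (hf : f ∈ E) {n : ℕ} (hn : n.Coprime p) (h : f ^ n * x = x * f ^ n) :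
    f * x = x * f := by
  have h1 : zpowers (f ^ n) ≤ centralizer {x} := by
    rw [zpowers_le, mem_centralizer_singleton_iff]; exact h
  exact mem_centralizer_singleton_iff.1 (h1 (S.mem_pow hf hn))

theorem Ex.two_cop (S : Ex p U E z) : (2 : ℕ).Coprime p := (Nat.coprime_primes Nat.prime_two hp.out).2 (Ne.symm S.hp2)

/-- the stabiliser of a coset of `Z`. -/
theorem Ex.stab (S : Ex p U E z) {f x : G} (hf : f ∈ E) (hx : x ∈ U) (h : f * x * f⁻¹ = x ∨ f * x * f⁻¹ = z * x) :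
    f * x = x * f := by
  rcases h with h | h
  · exact mul_inv_eq_iff_eq_mul.1 h
  · apply S.comm_of_pow hf S.two_cop
    have h1 := S.zE f hf
    rw [pow_two]
    calc f * f * x = f * (f * x * f⁻¹) * f := by group
      _ = (f * z) * x * f := by rw [h]; group
      _ = z * (f * x * f⁻¹) * (f * f) := by rw [h1]; group
      _ = (z * z) * x * (f * f) := by rw [h]; group
      _ = x * (f * f) := by rw [S.zz, one_mul]

/-- the coset relation. -/
def Eqv (z a b : G) : Prop := a = b ∨ a = z * b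

theorem Ex.eqv_trans (S : Ex p U E z) {a b c : G} (h1 : Eqv z a b) (h2 : Eqv z b c) : Eqv z a c := by
  rcases h1 with rfl | rfl <;> rcases h2 with rfl | rfl
  · exact Or.inl rfl
  · exact Or.inr rfl
  · exact Or.inr rfl
  · left; rw [← mul_assoc, S.zz, one_mul]

theorem Ex.eqv_symm (S : Ex p U E z) {a b : G} (h1 : Eqv z a b) : Eqv z b a := by
  rcases h1 with rfl | rfl
  · exact Or.inl rfl
  · right; rw [← mul_assoc, S.zz, one_mul]

theorem Ex.eqv_mul (S : Ex p U E z) {a b c d : G} (ha : a ∈ U) (h1 : Eqv z a b) (h2 : Eqv z c d) :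
    Eqv z (a * c) (b * d) := by
  have hb : z * b = b * z := by
    rcases h1 with rfl | rfl
    · exact S.zc _ ha
    · have hbU : z * (z * b) ∈ U := mul_mem S.zU ha
      rw [← mul_assoc, S.zz, one_mul] at hbU
      exact S.zc b hbU
  rcases h1 with rfl | rfl <;> rcases h2 with rfl | rfl
  · exact Or.inl rfl
  · right; rw [← mul_assoc, ← mul_assoc, hb]
  · right; rw [mul_assoc]
  · left; rw [hb, mul_assoc, ← mul_assoc z z, S.zz, one_mul]

theorem Ex.eqv_comm (S : Ex p U E z) {a b : G} (ha : a ∈ U) (hb : b ∈ U) : Eqv z (a * b) (b * a) := S.cc a ha b hb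

theorem Ex.eqv_sq (S : Ex p U E z) {a : G} (ha : a ∈ U) : Eqv z (a * a) 1 := by
  rcases S.sq a ha with h | h
  · exact Or.inl h
  · right; rw [mul_one]; exact h

theorem Ex.eqv_conj (S : Ex p U E z) {f a b : G} (hf : f ∈ E) (h : Eqv z a b) : Eqv z (f * a * f⁻¹) (f * b * f⁻¹) := by
  rcases h with rfl | rfl
  · exact Or.inl rfl
  · right; rw [← mul_assoc f z b, S.zE f hf]; group

theorem Ex.eqv_one (S : Ex p U E z) {a : G} : Eqv z a 1 ↔ a = 1 ∨ a = z := by
  rw [Eqv, mul_one]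

/-- `Q_e` has at most two generators modulo `Z`. -/
theorem Ex.gen (S : Ex p U E z) {e x y w : G} (he : e ∈ E) (he1 : e ≠ 1) (hx : x ∈ U) (hy : y ∈ U) (hw : w ∈ U)
    (hex : e * x = x * e) (hey : e * y = y * e) (hew : e * w = w * e) (hx1 : ¬ Eqv z x 1) (hyx : ¬ Eqv z y x)
    (hy1 : ¬ Eqv z y 1) : Eqv z w 1 ∨ Eqv z w x ∨ Eqv z w y ∨ Eqv z w (x * y) := by
  by_contra hcon
  push Not at hcon
  obtain ⟨h1, h2, h3, h4⟩ := hcon
  have hQ : ∀ u ∈ U, e * u = u * e → ¬ Eqv z u 1 → u * u = z := by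
    intro u hu heu hu1
    refine (S.sq u hu).resolve_left fun h => hu1 ?_
    rw [S.eqv_one]
    exact S.fix e he he1 u hu heu h
  have anti : ∀ u ∈ U, ∀ v ∈ U, e * u = u * e → e * v = v * e → ¬ Eqv z u 1 → ¬ Eqv z v 1 → ¬ Eqv z v u →
      u * v = z * (v * u) := by
    intro u hu v hv heu hev hu1 hv1 hvu
    refine (S.cc u hu v hv).resolve_left fun h => ?_
    have h5 : Eqv z (u * v) 1 := by
      rw [S.eqv_one]
      apply S.fix e he he1 _ (mul_mem hu hv)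
      · rw [← mul_assoc, heu, mul_assoc, hev, mul_assoc]
      · calc u * v * (u * v) = u * (v * u) * v := by group
          _ = u * (u * v) * v := by rw [h]
          _ = (u * u) * (v * v) := by group
          _ = 1 := by rw [hQ u hu heu hu1, hQ v hv hev hv1, S.zz]
    apply hvu
    -- v ~ u⁻¹ ~ u
    have h6 : Eqv z (u * (u * v)) (u * 1) := S.eqv_mul hu (Or.inl rfl) h5
    have h7 : Eqv z (u * u * v) (1 * v) := S.eqv_mul (mul_mem hu hu) (S.eqv_sq hu) (Or.inl rfl)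
    rw [mul_one] at h6
    rw [one_mul, mul_assoc] at h7
    exact S.eqv_trans (S.eqv_symm h7) h6
  have e1 := anti w hw x hx hew hex h1 hx1 (fun h => h2 (S.eqv_symm h))
  have e2 := anti w hw y hy hew hey h1 hy1 (fun h => h3 (S.eqv_symm h))
  have hxy1 : ¬ Eqv z (x * y) 1 := by
    intro h
    apply hyx
    have h6 : Eqv z (x * (x * y)) (x * 1) := S.eqv_mul hx (Or.inl rfl) h
    have h7 : Eqv z (x * x * y) (1 * y) := S.eqv_mul (mul_mem hx hx) (S.eqv_sq hx) (Or.inl rfl)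
    rw [mul_one] at h6
    rw [one_mul, mul_assoc] at h7
    exact S.eqv_trans (S.eqv_symm h7) h6
  have e3 := anti w hw (x * y) (mul_mem hx hy) hew (by rw [← mul_assoc, hex, mul_assoc, hey, mul_assoc]) h1 hxy1
    (fun h => h4 (S.eqv_symm h))
  have e4 : w * (x * y) = (x * y) * w := by
    calc w * (x * y) = (w * x) * y := by group
      _ = z * x * (w * y) := by rw [e1]; group
      _ = z * (x * z) * y * w := by rw [e2]; group
      _ = (z * z) * (x * y) * w := by rw [← S.zc x hx]; group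
      _ = (x * y) * w := by rw [S.zz, one_mul]
  rw [e4] at e3
  exact S.z1 (mul_eq_right.1 e3.symm)

/-- the structure of `Q_e` when it is bigger than `Z`. -/
theorem Ex.exists_conj (S : Ex p U E z) {x : G} (hx : x ∈ U) (hx1 : ¬ Eqv z x 1) :
    ∃ f ∈ E, ¬ Eqv z (f * x * f⁻¹) x := by
  by_contra hcon
  push Not at hcon
  apply hx1
  rw [S.eqv_one]
  exact S.fixE x hx fun f hf => S.stab hf hx (hcon f hf)

theorem Ex.conj_mem (S : Ex p U E z) {f x : G} (hf : f ∈ E) (hx : x ∈ U) : f * x * f⁻¹ ∈ U :=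
  (mem_normalizer_iff.1 (S.hEU hf) x).1 hx

theorem Ex.conj_comm (S : Ex p U E z) {e f x : G} (he : e ∈ E) (hf : f ∈ E) (hex : e * x = x * e) :
    e * (f * x * f⁻¹) = f * x * f⁻¹ * e := by
  have h5 := S.comm he hf
  calc e * (f * x * f⁻¹) = (e * f) * x * f⁻¹ := by group
    _ = f * (e * x) * f⁻¹ := by rw [h5]; group
    _ = f * (x * e) * f⁻¹ := by rw [hex]
    _ = f * x * f⁻¹ * (f * e) * f⁻¹ := by group
    _ = f * x * f⁻¹ * (e * f) * f⁻¹ := by rw [h5]
    _ = f * x * f⁻¹ * e := by group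

theorem Ex.not_eqv_one_conj (S : Ex p U E z) {f x : G} (hf : f ∈ E) (hx1 : ¬ Eqv z x 1) : ¬ Eqv z (f * x * f⁻¹) 1 := by
  intro h
  apply hx1
  have := S.eqv_conj (inv_mem hf) h
  have h1 : f⁻¹ * (f * x * f⁻¹) * f⁻¹⁻¹ = x := by group
  have h2 : f⁻¹ * 1 * f⁻¹⁻¹ = (1 : G) := by group
  rwa [h1, h2] at this

/-- the orbits of `E` on `Q_e / Z` -/
theorem Ex.orbit (S : Ex p U E z) {e x f : G} (he : e ∈ E) (he1 : e ≠ 1) (hx : x ∈ U)
    (hex : e * x = x * e) (hx1 : ¬ Eqv z x 1) (hf : f ∈ E) (hfx : ¬ Eqv z (f * x * f⁻¹) x) :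
    p = 3 ∧ (∀ w ∈ U, e * w = w * e → Eqv z w 1 ∨ Eqv z w x ∨ Eqv z w (f * x * f⁻¹) ∨ Eqv z w (x * (f * x * f⁻¹))) ∧
    Eqv z (f * (f * x * f⁻¹) * f⁻¹) (x * (f * x * f⁻¹)) := by
  set y := f * x * f⁻¹ with hy
  have hyU : y ∈ U := S.conj_mem hf hx
  have hey : e * y = y * e := S.conj_comm he hf hex
  have hy1 : ¬ Eqv z y 1 := S.not_eqv_one_conj hf hx1
  have hgen : ∀ w ∈ U, e * w = w * e → Eqv z w 1 ∨ Eqv z w x ∨ Eqv z w y ∨ Eqv z w (x * y) :=
    fun w hw hew => S.gen he he1 hx hyU hw hex hey hew hx1 hfx hy1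
  have hne : ¬ f * x = x * f := by
    intro h
    apply hfx
    left
    rw [hy, h, mul_inv_cancel_right]
  have key : Eqv z (f * y * f⁻¹) (x * y) := by
    rcases hgen (f * y * f⁻¹) (S.conj_mem hf hyU) (S.conj_comm he hf hey) with h | h | h | h
    · exact absurd h (S.not_eqv_one_conj hf hy1)
    · exfalso
      apply hne
      apply S.comm_of_pow hf S.two_cop
      apply S.stab (pow_mem hf 2) hx
      have h1 : f ^ 2 * x * (f ^ 2)⁻¹ = f * y * f⁻¹ := by rw [hy, pow_two]; group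
      rw [h1]; exact h
    · exfalso
      apply hne
      have h1 := S.stab hf hyU h
      have h2 : f * y * f⁻¹ = y := by rw [h1, mul_inv_cancel_right]
      rw [hy] at h2
      have h3 : f * x * f⁻¹ = x := by
        have h4 : f * (f * x * f⁻¹) * f⁻¹ = f * x * f⁻¹ := h2
        have h5 := mul_left_cancel (mul_right_cancel h4)
        exact h5
      exact mul_inv_eq_iff_eq_mul.1 h3
    · exact h
  refine ⟨?_, hgen, key⟩
  by_contra hp3
  apply hne
  have hcop : (3 : ℕ).Coprime p := (Nat.coprime_primes Nat.prime_three hp.out).2 (Ne.symm hp3)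
  apply S.comm_of_pow hf hcop
  apply S.stab (pow_mem hf 3) hx
  have h1 : f ^ 3 * x * (f ^ 3)⁻¹ = f * (f * y * f⁻¹) * f⁻¹ := by
    rw [hy]; simp only [pow_succ, pow_zero, one_mul, mul_inv_rev, mul_assoc]
  have h2 : Eqv z (f * (f * y * f⁻¹) * f⁻¹) (f * (x * y) * f⁻¹) := S.eqv_conj hf key
  have h3 : f * (x * y) * f⁻¹ = y * (f * y * f⁻¹) := by rw [hy]; group
  have h4 : Eqv z (y * (f * y * f⁻¹)) (y * (x * y)) := S.eqv_mul hyU (Or.inl rfl) key
  have h5 : Eqv z (y * (x * y)) (y * (y * x)) := S.eqv_mul hyU (Or.inl rfl) (S.eqv_comm hx hyU)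
  have h6 : Eqv z (y * y * x) (1 * x) := S.eqv_mul (mul_mem hyU hyU) (S.eqv_sq hyU) (Or.inl rfl)
  rw [one_mul, mul_assoc] at h6
  rw [h1]
  rw [h3] at h2
  exact S.eqv_trans h2 (S.eqv_trans h4 (S.eqv_trans h5 h6))

/-- the stabiliser has index at most three. -/
theorem Ex.relIndex_le (S : Ex p U E z) {e x : G} (he : e ∈ E) (he1 : e ≠ 1) (hx : x ∈ U)
    (hex : e * x = x * e) (hx1 : ¬ Eqv z x 1) : (centralizer {x}).relIndex E ≤ 3 := by
  obtain ⟨f, hf, hfx⟩ := S.exists_conj hx hx1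
  obtain ⟨-, hgen, key⟩ := S.orbit he he1 hx hex hx1 hf hfx
  rw [relIndex, index]
  let F : Fin 3 → E ⧸ (centralizer {x}).subgroupOf E := ![((1 : E) : E ⧸ (centralizer {x}).subgroupOf E),
    ((⟨f, hf⟩ : E) : E ⧸ (centralizer {x}).subgroupOf E), ((⟨f * f, mul_mem hf hf⟩ : E) : E ⧸ (centralizer {x}).subgroupOf E)]
  have hF : Function.Surjective F := by
    intro g
    obtain ⟨g, rfl⟩ := QuotientGroup.mk_surjective g
    have h0 : ∀ h ∈ E, Eqv z (g * x * (g : G)⁻¹) (h * x * h⁻¹) → h⁻¹ * (g : G) ∈ centralizer {x} := by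
      intro h hh hE
      rw [mem_centralizer_singleton_iff]
      apply S.stab (mul_mem (inv_mem hh) g.2) hx
      have h1 := S.eqv_conj (inv_mem hh) hE
      have h2 : h⁻¹ * (g * x * (g : G)⁻¹) * h⁻¹⁻¹ = (h⁻¹ * g) * x * (h⁻¹ * (g : G))⁻¹ := by group
      have h3 : h⁻¹ * (h * x * h⁻¹) * h⁻¹⁻¹ = x := by group
      rwa [h2, h3] at h1
    rcases hgen (g * x * (g : G)⁻¹) (S.conj_mem g.2 hx) (S.conj_comm he g.2 hex) with h | h | h | h
    · exact absurd h (S.not_eqv_one_conj g.2 hx1)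
    · refine ⟨0, ?_⟩
      show ((1 : E) : E ⧸ (centralizer {x}).subgroupOf E) = g
      rw [QuotientGroup.eq, mem_subgroupOf]
      exact h0 1 (one_mem _) (by rw [one_mul, inv_one, mul_one]; exact h)
    · refine ⟨1, ?_⟩
      show (((⟨f, hf⟩ : E) : E) : E ⧸ (centralizer {x}).subgroupOf E) = g
      rw [QuotientGroup.eq, mem_subgroupOf]
      exact h0 f hf h
    · refine ⟨2, ?_⟩
      show (((⟨f * f, mul_mem hf hf⟩ : E) : E) : E ⧸ (centralizer {x}).subgroupOf E) = g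
      rw [QuotientGroup.eq, mem_subgroupOf]
      refine h0 (f * f) (mul_mem hf hf) (S.eqv_trans h (S.eqv_symm ?_))
      have h1 : f * f * x * (f * f)⁻¹ = f * (f * x * f⁻¹) * f⁻¹ := by group
      rw [h1]; exact key
  have h1 := Nat.card_le_card_of_surjective F hF
  simpa using h1

/-- two elements. -/
theorem Ex.comm_of_comm (S : Ex p U E z) {e f x w : G} (he : e ∈ E) (hf : f ∈ E) (hf1 : f ≠ 1)
    (hx : x ∈ U) (hw : w ∈ U) (hx1 : ¬ Eqv z x 1) (hex : e * x = x * e) (hfx : f * x = x * f) (hfw : f * w = w * f) :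
    e * w = w * e := by
  obtain ⟨g, hg, hgx⟩ := S.exists_conj hx hx1
  obtain ⟨-, hgen, -⟩ := S.orbit hf hf1 hx hfx hx1 hg hgx
  have h1 := S.conj_comm he hg hex
  have h2 : ∀ a b : G, Eqv z a b → e * b = b * e → e * a = a * e := by
    rintro a b (rfl | rfl) hb
    · exact hb
    · rw [← mul_assoc, S.zE e he, mul_assoc, hb, mul_assoc]
  rcases hgen w hw hfw with h | h | h | h
  · exact h2 _ _ h (by rw [mul_one, one_mul])
  · exact h2 _ _ h hex
  · exact h2 _ _ h h1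
  · exact h2 _ _ h ((show Commute e x from hex).mul_right h1)

theorem Ex.cop (S : Ex p U E z) : (Nat.card E).Coprime (Nat.card U) := by
  obtain ⟨a, ha⟩ := IsPGroup.iff_card.mp S.hE
  obtain ⟨b, hb⟩ := IsPGroup.iff_card.mp S.hU
  rw [ha, hb]
  exact Nat.Coprime.pow _ _ ((Nat.coprime_primes hp.out Nat.prime_two).2 S.hp2)

theorem Ex.le_of_forall (S : Ex p U E z) {T : Subgroup G} (h : ∀ e ∈ E, e ≠ 1 → ∀ x ∈ U, e * x = x * e → x ∈ T) :
    U ≤ T := by
  have h1 := CoprimeGen.iSup_centralizer_eq S.hab S.hnc S.hEU S.cop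
  rw [← h1]
  refine iSup₂_le fun e he => ?_
  intro x hx
  exact h e he.1 he.2 x hx.1 (mem_centralizer_singleton_iff.1 hx.2).symm

theorem Ex.exists_pair (S : Ex p U E z) : ∃ e₁ ∈ E, ∃ e₂ ∈ E, ∃ x₁ ∈ U, ∃ x₂ ∈ U, e₁ ≠ 1 ∧ e₂ ≠ 1 ∧ ¬ Eqv z x₁ 1 ∧
    ¬ Eqv z x₂ 1 ∧ e₁ * x₁ = x₁ * e₁ ∧ e₂ * x₂ = x₂ * e₂ ∧ ¬ e₁ * x₂ = x₂ * e₁ := by
  obtain ⟨e, he, he1⟩ : ∃ e ∈ E, e ≠ 1 := by
    by_contra hcon
    push Not at hcon
    apply S.hnc
    have : Subsingleton E := ⟨fun a b => Subtype.ext ((hcon a a.2).trans (hcon b b.2).symm)⟩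
    exact isCyclic_of_subsingleton
  obtain ⟨e₁, he₁, he₁1, x₁, hx₁, hex₁, hx₁1⟩ : ∃ e ∈ E, e ≠ 1 ∧ ∃ x ∈ U, e * x = x * e ∧ ¬ Eqv z x 1 := by
    by_contra hcon
    push Not at hcon
    apply he1
    apply S.faithU e he
    intro x hx
    have h1 : U ≤ centralizer {e} := by
      apply S.le_of_forall
      intro f hf hf1 x hx hfx
      rw [mem_centralizer_singleton_iff]
      rcases hcon f hf hf1 x hx hfx with h | h
      · rw [h, mul_one, one_mul]
      · rw [h, mul_one]; exact (S.zE e he).symm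
    exact (mem_centralizer_singleton_iff.1 (h1 hx)).symm
  obtain ⟨e₂, he₂, he₂1, x₂, hx₂, hex₂, hx₂1⟩ : ∃ e ∈ E, e ≠ 1 ∧ ∃ x ∈ U, e * x = x * e ∧ ¬ e₁ * x = x * e₁ := by
    by_contra hcon
    push Not at hcon
    apply he₁1
    apply S.faithU e₁ he₁
    intro x hx
    have h1 : U ≤ centralizer {e₁} := by
      apply S.le_of_forall
      intro f hf hf1 x hx hfx
      rw [mem_centralizer_singleton_iff]
      exact (hcon f hf hf1 x hx hfx).symm
    exact (mem_centralizer_singleton_iff.1 (h1 hx)).symm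
  refine ⟨e₁, he₁, e₂, he₂, x₁, hx₁, x₂, hx₂, he₁1, he₂1, hx₁1, ?_, hex₁, hex₂, hx₂1⟩
  intro h
  apply hx₂1
  rcases h with h | h
  · rw [h, mul_one, one_mul]
  · rw [h, mul_one]; exact S.zE e₁ he₁

theorem Ex.p_eq (S : Ex p U E z) : p = 3 := by
  obtain ⟨e₁, he₁, e₂, he₂, x₁, hx₁, x₂, hx₂, he₁1, he₂1, hx₁1, hx₂1, hex₁, hex₂, h12⟩ := S.exists_pair
  obtain ⟨f, hf, hfx⟩ := S.exists_conj hx₁ hx₁1
  exact (S.orbit he₁ he₁1 hx₁ hex₁ hx₁1 hf hfx).1

theorem Ex.card_E (S : Ex p U E z) : Nat.card E = 9 := by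
  obtain ⟨e₁, he₁, e₂, he₂, x₁, hx₁, x₂, hx₂, he₁1, he₂1, hx₁1, hx₂1, hex₁, hex₂, h12⟩ := S.exists_pair
  have h1 := S.relIndex_le he₁ he₁1 hx₁ hex₁ hx₁1
  have h2 := S.relIndex_le he₂ he₂1 hx₂ hex₂ hx₂1
  have h3 := relIndex_inf_le (H := centralizer {x₁}) (K := centralizer {x₂}) (L := E)
  have h4 : (centralizer {x₁} ⊓ centralizer {x₂} : Subgroup G).relIndex E = Nat.card E := by
    have h5 : (centralizer {x₁} ⊓ centralizer {x₂} : Subgroup G) ⊓ E = ⊥ := by
      rw [eq_bot_iff]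
      intro g hg
      rw [mem_bot]
      by_contra hg1
      exact h12 (S.comm_of_comm he₁ hg.2 hg1 hx₁ hx₂ hx₁1 hex₁ (mem_centralizer_singleton_iff.1 hg.1.1)
        (mem_centralizer_singleton_iff.1 hg.1.2))
    rw [← inf_relIndex_right, h5, relIndex_bot_left]
  have h5 : Nat.card E ≤ 9 := by
    rw [← h4]
    exact h3.trans (by nlinarith)
  have hp3 := S.p_eq
  subst hp3
  obtain ⟨k, hk⟩ := IsPGroup.iff_card.mp S.hE
  have hk2 : 2 ≤ k := by
    by_contra hcon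
    apply S.hnc
    rcases Nat.le_one_iff_eq_zero_or_eq_one.1 (by omega : k ≤ 1) with h0 | h0
    · rw [h0, pow_zero] at hk
      have := (Nat.card_eq_one_iff_unique.1 hk).1
      exact isCyclic_of_subsingleton
    · rw [h0, pow_one] at hk
      exact isCyclic_of_prime_card hk
  have h6 : 3 ^ 2 ≤ 3 ^ k := Nat.pow_le_pow_right (by norm_num) hk2
  omega

end Cfsg.Agent.Lib.NonCycFix
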