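import Mathlib
import Cfsg.Agent.Lib.NonCycFix2
import Cfsg.Agent.Lib.Components

/-! Noncyclic abelian `p`-groups acting on `2`-groups: orders, and the reduction to the extraspecial case (helper63). -/

set_option autoImplicit false
open scoped commutatorElement

namespace Cfsg.Agent.Lib.NonCycFix

open Subgroup Cfsg.Agent.Lib Cfsg

variable {G : Type*} [Group G] [Finite G] {p : ℕ} [hp : Fact p.Prime] {U E : Subgroup G} {z : G}

theorem Ex.card_mod (S : Ex p U E z) {B : Subgroup G} (hB : B ≤ U) (hz : z ∈ B) (hEB : E ≤ normalizer (B : Set G)) :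
    Nat.card B ≡ 2 [MOD 3] := by
  have hp3 := S.p_eq
  subst hp3
  let act : MulAction E B := MulAction.compHom B ((B.normalizerMonoidHom).comp (Subgroup.inclusion hEB))
  have hact : ∀ (e : E) (b : B), ((e • b : B) : G) = e * b * (e : G)⁻¹ := fun e b => rfl
  have h1 := S.hE.card_modEq_card_fixedPoints (α := B)
  have h2 : Nat.card (MulAction.fixedPoints E B) = 2 := by
    have h3 : MulAction.fixedPoints E B = {1, ⟨z, hz⟩} := by
      ext x
      rw [MulAction.mem_fixedPoints, Set.mem_insert_iff, Set.mem_singleton_iff]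
      constructor
      · intro h
        have h4 : (x : G) = 1 ∨ (x : G) = z := by
          apply S.fixE x (hB x.2)
          intro e he
          have h5 := congrArg Subtype.val (h ⟨e, he⟩)
          rw [hact] at h5
          exact mul_inv_eq_iff_eq_mul.1 h5
        rcases h4 with h4 | h4
        · exact Or.inl (Subtype.ext h4)
        · exact Or.inr (Subtype.ext h4)
      · rintro (rfl | rfl) e
        · apply Subtype.ext; rw [hact]; simp
        · apply Subtype.ext
          rw [hact]
          show (e : G) * z * (e : G)⁻¹ = z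
          rw [S.zE e e.2, mul_inv_cancel_right]
    rw [h3, Nat.card_coe_set_eq, Set.ncard_pair]
    intro h
    exact S.z1 (congrArg Subtype.val h).symm
  rwa [h2] at h1

theorem Ex.card_Q (S : Ex p U E z) {e : G} (he : e ∈ E) (he1 : e ≠ 1) :
    Nat.card (U ⊓ centralizer {e} : Subgroup G) ≤ 8 := by
  by_cases hex : ∃ x ∈ U ⊓ centralizer {e}, ¬ Eqv z x 1
  · obtain ⟨x, hx, hx1⟩ := hex
    have hxe : e * x = x * e := (mem_centralizer_singleton_iff.1 hx.2).symm
    obtain ⟨f, hf, hfx⟩ := S.exists_conj hx.1 hx1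
    obtain ⟨-, hgen, -⟩ := S.orbit he he1 hx.1 hxe hx1 hf hfx
    set y := f * x * f⁻¹
    let F : Fin 8 → G := ![1, z * 1, x, z * x, y, z * y, x * y, z * (x * y)]
    have h1 : ((U ⊓ centralizer {e} : Subgroup G) : Set G) ⊆ Set.range F := by
      intro w hw
      rcases hgen w hw.1 (mem_centralizer_singleton_iff.1 hw.2).symm with (h | h) | (h | h) | (h | h) | (h | h)
      · exact ⟨0, h.symm⟩
      · exact ⟨1, h.symm⟩
      · exact ⟨2, h.symm⟩
      · exact ⟨3, h.symm⟩
      · exact ⟨4, h.symm⟩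
      · exact ⟨5, h.symm⟩
      · exact ⟨6, h.symm⟩
      · exact ⟨7, h.symm⟩
    have h2 : Nat.card (Set.range F) ≤ 8 := by
      have := Finite.card_range_le F
      simpa using this
    exact (Nat.card_mono (Set.finite_range F) h1).trans h2
  · push Not at hex
    have h1 : ((U ⊓ centralizer {e} : Subgroup G) : Set G) ⊆ Set.range (![1, z * 1] : Fin 2 → G) := by
      intro w hw
      rcases hex w hw with h | h
      · exact ⟨0, h.symm⟩
      · exact ⟨1, h.symm⟩
    have h2 : Nat.card (Set.range (![1, z * 1] : Fin 2 → G)) ≤ 2 := by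
      have := Finite.card_range_le (![1, z * 1] : Fin 2 → G)
      simpa using this
    exact ((Nat.card_mono (Set.finite_range _) h1).trans h2).trans (by norm_num)

theorem Ex.card_sup (S : Ex p U E z) {H K : Subgroup G} (hH : H ≤ U) (hK : K ≤ U) (hzH : z ∈ H) (hzK : z ∈ K) :
    2 * Nat.card (H ⊔ K : Subgroup G) ≤ Nat.card H * Nat.card K := by
  have h1 : H ≤ normalizer (K : Set G) := by
    intro h hh
    have := Fintype.ofFinite K
    refine mem_normalizer_fintype fun k hk => ?_
    rcases S.cc h (hH hh) k (hK hk) with h2 | h2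
    · rw [h2, mul_inv_cancel_right]; exact hk
    · rw [h2, ← mul_assoc, mul_inv_cancel_right]; exact mul_mem hzK hk
  have h2 := ProdCard.card_sup_mul_card_inf h1
  have h3 : 2 ≤ Nat.card (H ⊓ K : Subgroup G) := by
    have h4 : 1 < Nat.card (H ⊓ K : Subgroup G) := by
      rw [Subgroup.one_lt_card_iff_ne_bot]
      intro h
      have : z ∈ (H ⊓ K : Subgroup G) := ⟨hzH, hzK⟩
      rw [h, mem_bot] at this
      exact S.z1 this
    omega
  rw [← h2, mul_comm]
  exact Nat.mul_le_mul_left _ h3

theorem zpow_cases {u : G} (hu : u * u * u = 1) (i : ℤ) : u ^ i = 1 ∨ u ^ i = u ∨ u ^ i = u * u := by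
  have h3 : u ^ (3 : ℤ) = 1 := by
    rw [← hu]; norm_cast; simp only [pow_succ, pow_zero, one_mul]
  have h1 : u ^ i = u ^ (i % 3) := by
    conv_lhs => rw [← Int.mul_ediv_add_emod i 3]
    rw [zpow_add, zpow_mul, h3, one_zpow, one_mul]
  have h4 : i % 3 = 0 ∨ i % 3 = 1 ∨ i % 3 = 2 := by omega
  rcases h4 with h | h | h
  · left; rw [h1, h, zpow_zero]
  · right; left; rw [h1, h, zpow_one]
  · right; right; rw [h1, h, zpow_two]

/-- the four subgroups of order three. -/
theorem Ex.exists_four (S : Ex p U E z) : ∃ a ∈ E, ∃ b ∈ E, a ≠ 1 ∧ b ≠ 1 ∧ a * b ≠ 1 ∧ a * (b * b) ≠ 1 ∧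
    ∀ e ∈ E, e ≠ 1 → a ∈ zpowers e ∨ b ∈ zpowers e ∨ a * b ∈ zpowers e ∨ a * (b * b) ∈ zpowers e := by
  have h9 := S.card_E
  have hexp : ∀ e ∈ E, e * e * e = 1 := by
    intro e he
    have h1 : orderOf (⟨e, he⟩ : E) ∣ 3 ^ 2 := by
      have := orderOf_dvd_natCard (⟨e, he⟩ : E)
      rwa [h9] at this
    obtain ⟨j, hj, hj'⟩ := (Nat.dvd_prime_pow Nat.prime_three).1 h1
    have hj2 : j ≠ 2 := by
      rintro rfl
      exact S.hnc (isCyclic_of_orderOf_eq_card (⟨e, he⟩ : E) (by rw [hj', h9]; norm_num))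
    have h2 : orderOf (⟨e, he⟩ : E) ∣ 3 := by
      rw [hj']
      exact (pow_dvd_pow 3 (by omega : j ≤ 1)).trans (by norm_num)
    have h3 := orderOf_dvd_iff_pow_eq_one.1 h2
    have h4 : e ^ 3 = 1 := congrArg Subtype.val h3
    rw [← h4]; simp only [pow_succ, pow_zero, one_mul]
  obtain ⟨a, ha, ha1⟩ : ∃ e ∈ E, e ≠ 1 := by
    obtain ⟨e₁, he₁, -, -, -, -, -, -, he₁1, -⟩ := S.exists_pair
    exact ⟨e₁, he₁, he₁1⟩
  have hcard : ∀ e ∈ E, Nat.card (zpowers e) ≤ 3 := by
    intro e he
    rw [Nat.card_zpowers]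
    apply Nat.le_of_dvd (by norm_num)
    rw [orderOf_dvd_iff_pow_eq_one, ← hexp e he]
    simp only [pow_succ, pow_zero, one_mul]
  obtain ⟨b, hb, hba⟩ : ∃ b ∈ E, b ∉ zpowers a := by
    by_contra hcon
    push Not at hcon
    have h1 := card_le_of_le (show E ≤ zpowers a from hcon)
    have h2 := hcard a ha
    omega
  have hab : Commute a b := S.comm ha hb
  have hsup : zpowers a ⊔ zpowers b = E := by
    have hle : zpowers a ⊔ zpowers b ≤ E := sup_le (by rw [zpowers_le]; exact ha) (by rw [zpowers_le]; exact hb)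
    have h1 := card_dvd_of_le hle
    have h9' : Nat.card E = 3 ^ 2 := by rw [h9]; norm_num
    rw [h9'] at h1
    obtain ⟨j, hj, hj'⟩ := (Nat.dvd_prime_pow Nat.prime_three).1 h1
    have hj1 : 2 ≤ j := by
      by_contra hcon
      have h2 : Nat.card (zpowers a ⊔ zpowers b : Subgroup G) ≤ 3 := by
        rw [hj']
        calc 3 ^ j ≤ 3 ^ 1 := Nat.pow_le_pow_right (by norm_num) (by omega)
          _ = 3 := by norm_num
      have h3 : zpowers a = zpowers a ⊔ zpowers b := by
        apply eq_of_le_of_card_ge le_sup_left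
        refine h2.trans ?_
        have h4 : Nat.card (zpowers a) ∣ 3 := by
          rw [Nat.card_zpowers, orderOf_dvd_iff_pow_eq_one, ← hexp a ha]
          simp only [pow_succ, pow_zero, one_mul]
        rcases (Nat.dvd_prime Nat.prime_three).1 h4 with h5 | h5
        · rw [Nat.card_zpowers, orderOf_eq_one_iff] at h5
          exact absurd h5 ha1
        · omega
      apply hba
      rw [h3]
      exact mem_sup_right (mem_zpowers b)
    apply eq_of_le_of_card_ge hle
    rw [hj', h9]
    calc 9 = 3 ^ 2 := by norm_num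
      _ ≤ 3 ^ j := Nat.pow_le_pow_right (by norm_num) hj1
  have a3 := hexp a ha
  have b3 := hexp b hb
  have a4 : (a * a) * (a * a) = a := by
    calc (a * a) * (a * a) = (a * a * a) * a := by group
      _ = a := by rw [a3, one_mul]
  have b4 : (b * b) * (b * b) = b := by
    calc (b * b) * (b * b) = (b * b * b) * b := by group
      _ = b := by rw [b3, one_mul]
  have hself : ∀ g : G, g * g ∈ zpowers g := fun g => mul_mem (mem_zpowers g) (mem_zpowers g)
  refine ⟨a, ha, b, hb, ha1, ?_, ?_, ?_, ?_⟩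
  · rintro rfl; exact hba (one_mem _)
  · intro h
    apply hba
    have : b = a⁻¹ := (inv_eq_of_mul_eq_one_right h).symm
    rw [this]; exact inv_mem (mem_zpowers a)
  · intro h
    apply hba
    have h1 : b * b = a⁻¹ := (inv_eq_of_mul_eq_one_right h).symm
    rw [← b4, h1]; exact mul_mem (inv_mem (mem_zpowers a)) (inv_mem (mem_zpowers a))
  · intro e he he1
    rw [← hsup, Components.mem_sup_of_le_normalizer] at he
    · obtain ⟨c, hc, d, hd, rfl⟩ := he
      obtain ⟨i, rfl⟩ := mem_zpowers_iff.1 hc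
      obtain ⟨j, rfl⟩ := mem_zpowers_iff.1 hd
      rcases zpow_cases a3 i with hi | hi | hi <;> rcases zpow_cases b3 j with hj | hj | hj <;> rw [hi, hj] at he1 ⊢
      · exact absurd (one_mul 1) he1
      · right; left; rw [one_mul]; exact mem_zpowers b
      · right; left; rw [one_mul]
        have := hself (b * b)
        rwa [b4] at this
      · left; rw [mul_one]; exact mem_zpowers a
      · right; right; left; exact mem_zpowers _
      · right; right; right; exact mem_zpowers _
      · left; rw [mul_one]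
        have := hself (a * a)
        rwa [a4] at this
      · right; right; right
        have h1 := hself (a * a * b)
        have h2 : a * a * b * (a * a * b) = a * (b * b) := by
          have h3 : Commute b (a * a) := (hab.symm.mul_right hab.symm)
          rw [h3.mul_mul_mul_comm, a4]
        rwa [h2] at h1
      · right; right; left
        have h1 := hself (a * a * (b * b))
        have h2 : a * a * (b * b) * (a * a * (b * b)) = a * b := by
          have h3 : Commute (b * b) (a * a) := (hab.symm.mul_right hab.symm).mul_left (hab.symm.mul_right hab.symm)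
          rw [h3.mul_mul_mul_comm, a4, b4]
        rwa [h2] at h1
    · rw [zpowers_le]
      have : zpowers b ≤ centralizer {a} := by
        rw [zpowers_le, mem_centralizer_singleton_iff]; exact hab.symm.eq
      have h2 : a ∈ centralizer (zpowers b : Set G) := by
        rw [mem_centralizer_iff]
        intro g hg
        exact mem_centralizer_singleton_iff.1 (this hg)
      exact centralizer_le_normalizer _ h2

theorem Ex.card_le (S : Ex p U E z) : Nat.card U ≤ 512 := by
  obtain ⟨a, ha, b, hb, ha1, hb1, hab1, habb1, hall⟩ := S.exists_four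
  set Q₁ := U ⊓ centralizer {a}
  set Q₂ := U ⊓ centralizer {b}
  set Q₃ := U ⊓ centralizer {a * b}
  set Q₄ := U ⊓ centralizer {a * (b * b)}
  have h1 : Nat.card Q₁ ≤ 8 := S.card_Q ha ha1
  have h2 : Nat.card Q₂ ≤ 8 := S.card_Q hb hb1
  have h3 : Nat.card Q₃ ≤ 8 := S.card_Q (mul_mem ha hb) hab1
  have h4 : Nat.card Q₄ ≤ 8 := S.card_Q (mul_mem ha (mul_mem hb hb)) habb1
  have hz : ∀ e ∈ E, z ∈ U ⊓ centralizer {e} := fun e he =>
    Subgroup.mem_inf.2 ⟨S.zU, mem_centralizer_singleton_iff.2 (S.zE e he).symm⟩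
  have hz1 : z ∈ Q₁ := hz a ha
  have hz2 : z ∈ Q₂ := hz b hb
  have hz3 : z ∈ Q₃ := hz _ (mul_mem ha hb)
  have hz4 : z ∈ Q₄ := hz _ (mul_mem ha (mul_mem hb hb))
  have k1 := S.card_sup (H := Q₁) (K := Q₂) inf_le_left inf_le_left hz1 hz2
  have k2 := S.card_sup (H := Q₁ ⊔ Q₂) (K := Q₃) (sup_le inf_le_left inf_le_left) inf_le_left (mem_sup_left hz1) hz3
  have k3 := S.card_sup (H := Q₁ ⊔ Q₂ ⊔ Q₃) (K := Q₄) (sup_le (sup_le inf_le_left inf_le_left) inf_le_left) inf_le_left
    (mem_sup_left (mem_sup_left hz1)) hz4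
  have hU : U ≤ Q₁ ⊔ Q₂ ⊔ Q₃ ⊔ Q₄ := by
    apply S.le_of_forall
    intro e he he1 x hx hex
    have hzp : zpowers e ≤ centralizer {x} := by
      rw [zpowers_le, mem_centralizer_singleton_iff]; exact hex
    have hmem : ∀ u ∈ zpowers e, x ∈ U ⊓ centralizer {u} := fun u hu =>
      Subgroup.mem_inf.2 ⟨hx, mem_centralizer_singleton_iff.2 (mem_centralizer_singleton_iff.1 (hzp hu)).symm⟩
    rcases hall e he he1 with h | h | h | h
    · exact mem_sup_left (mem_sup_left (mem_sup_left (hmem _ h)))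
    · exact mem_sup_left (mem_sup_left (mem_sup_right (hmem _ h)))
    · exact mem_sup_left (mem_sup_right (hmem _ h))
    · exact mem_sup_right (hmem _ h)
  have h5 := card_le_of_le hU
  have m1 : Nat.card (Q₁ ⊔ Q₂ : Subgroup G) ≤ 32 := by nlinarith
  have m2 : Nat.card (Q₁ ⊔ Q₂ ⊔ Q₃ : Subgroup G) ≤ 128 := by nlinarith
  have m3 : Nat.card (Q₁ ⊔ Q₂ ⊔ Q₃ ⊔ Q₄ : Subgroup G) ≤ 512 := by nlinarith
  exact h5.trans m3

theorem Ex.card_U (S : Ex p U E z) : Nat.card U = 2 ^ 5 ∨ Nat.card U = 2 ^ 7 ∨ Nat.card U = 2 ^ 9 := by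
  obtain ⟨e₁, he₁, e₂, he₂, x₁, hx₁, x₂, hx₂, he₁1, he₂1, hx₁1, hx₂1, hex₁, hex₂, h12⟩ := S.exists_pair
  set Q := U ⊓ centralizer {e₁}
  have hzQ : z ∈ Q := Subgroup.mem_inf.2 ⟨S.zU, mem_centralizer_singleton_iff.2 (S.zE e₁ he₁).symm⟩
  have hx₁Q : x₁ ∈ Q := Subgroup.mem_inf.2 ⟨hx₁, mem_centralizer_singleton_iff.2 hex₁.symm⟩
  have hEQ : E ≤ normalizer (Q : Set G) := by
    intro f hf
    have := Fintype.ofFinite Q
    refine mem_normalizer_fintype fun x hx => ?_
    exact Subgroup.mem_inf.2 ⟨S.conj_mem hf hx.1, mem_centralizer_singleton_iff.2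
      (S.conj_comm he₁ hf (mem_centralizer_singleton_iff.1 hx.2).symm).symm⟩
  have h1 := S.card_mod le_rfl S.zU S.hEU
  have h2 := S.card_mod inf_le_left hzQ hEQ
  have h3 := S.card_le
  obtain ⟨k, hk⟩ := IsPGroup.iff_card.mp S.hU
  obtain ⟨j, hj⟩ := IsPGroup.iff_card.mp (S.hU.to_le (inf_le_left : Q ≤ U))
  have hQ3 : 2 < Nat.card Q := by
    by_contra hcon
    have h4 : Nat.card Q ≤ 2 := by omega
    have h5 : zpowers z ≤ Q := by rw [zpowers_le]; exact hzQ
    have h6 : Nat.card (zpowers z) = 2 := by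
      rw [Nat.card_zpowers]
      exact orderOf_eq_prime (by rw [pow_two]; exact S.zz) S.z1
    have h7 : zpowers z = Q := eq_of_le_of_card_ge h5 (by omega)
    rw [← h7] at hx₁Q
    have h8 : zpowers z ≤ centralizer {x₂} := by
      rw [zpowers_le, mem_centralizer_singleton_iff]; exact S.zc x₂ hx₂
    apply hx₁1
    rw [S.eqv_one]
    apply S.cen x₁ hx₁
    intro y hy
    have h9 : zpowers z ≤ centralizer {y} := by
      rw [zpowers_le, mem_centralizer_singleton_iff]; exact S.zc y hy
    exact mem_centralizer_singleton_iff.1 (h9 hx₁Q)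
  have hlt : Nat.card Q < Nat.card U := by
    by_contra hcon
    have h4 : Q = U := eq_of_le_of_card_ge inf_le_left (by omega)
    rw [← h4] at hx₂
    exact h12 (mem_centralizer_singleton_iff.1 hx₂.2).symm
  rw [hk] at h1 h3 hlt ⊢
  rw [hj] at h2 hQ3 hlt
  have hk9 : k ≤ 9 := by
    by_contra hcon
    have : 2 ^ 10 ≤ 2 ^ k := Nat.pow_le_pow_right (by norm_num) (by omega)
    omega
  have hj9 : j ≤ 9 := by
    by_contra hcon
    have : 2 ^ 10 ≤ 2 ^ j := Nat.pow_le_pow_right (by norm_num) (by omega)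
    omega
  interval_cases j <;> interval_cases k <;> simp_all [Nat.ModEq]

/-- `W = [W,E]`. -/
theorem Setup.commutator_eq {W : Subgroup G} (T : Setup p W E) : ⁅W, E⁆ = W := by
  obtain ⟨z, S⟩ := T.exists_ex
  set U : Subgroup G := ⁅W, E⁆ with hU
  have hUW : U ≤ W := le_normalizer_iff_commutator_le_left.mp T.hEW
  have hWU : W ≤ normalizer (U : Set G) := normalizer_commutator_ge_left W E
  set D : Subgroup G := W ⊓ centralizer (E : Set G) with hD
  have hDE : ∀ d ∈ D, ∀ e ∈ E, e * d = d * e := fun d hd => mem_centralizer_iff.1 hd.2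
  -- `D` centralises `U`
  have hDU : U ≤ centralizer (D : Set G) := by
    apply S.le_of_forall
    intro e he he1 x hx hex
    set Q : Subgroup G := U ⊓ centralizer {e} with hQ
    have hEQ : E ≤ normalizer (Q : Set G) := by
      intro f hf
      have := Fintype.ofFinite Q
      refine mem_normalizer_fintype fun x hx => ?_
      exact Subgroup.mem_inf.2 ⟨S.conj_mem hf hx.1, mem_centralizer_singleton_iff.2
        (S.conj_comm he hf (mem_centralizer_singleton_iff.1 hx.2).symm).symm⟩
    have hDQ : D ≤ normalizer (Q : Set G) := by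
      intro d hd
      have := Fintype.ofFinite Q
      refine mem_normalizer_fintype fun x hx => ?_
      refine Subgroup.mem_inf.2 ⟨(mem_normalizer_iff.1 (hWU hd.1) x).1 hx.1, mem_centralizer_singleton_iff.2 ?_⟩
      have h1 : x * e = e * x := mem_centralizer_singleton_iff.1 hx.2
      have h2 := hDE d hd e he
      calc d * x * d⁻¹ * e = d * x * (d⁻¹ * (e * d)) * d⁻¹ := by group
        _ = d * (x * e) * d⁻¹ := by rw [h2]; group
        _ = d * (e * x) * d⁻¹ := by rw [h1]
        _ = (d * e) * x * d⁻¹ := by group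
        _ = e * (d * x * d⁻¹) := by rw [← h2]; group
    have hzD : ∀ d ∈ D, d * z = z * d := by
      -- `z` is central in `W` as the only involution fixed by `E` of `Z(U)`
      intro d hd
      have h1 : d * z * d⁻¹ = 1 ∨ d * z * d⁻¹ = z := by
        apply S.cen _ ((mem_normalizer_iff.1 (hWU hd.1) z).1 S.zU)
        intro y hy
        have hy' : d⁻¹ * y * d ∈ U := by
          have := (mem_normalizer_iff.1 (hWU (inv_mem hd.1)) y).1 hy
          rwa [inv_inv] at this
        calc d * z * d⁻¹ * y = d * (z * (d⁻¹ * y * d)) * d⁻¹ := by group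
          _ = d * ((d⁻¹ * y * d) * z) * d⁻¹ := by rw [S.zc _ hy']
          _ = y * (d * z * d⁻¹) := by group
      rcases h1 with h1 | h1
      · exfalso; apply S.z1
        rw [mul_inv_eq_one] at h1
        exact mul_eq_left.1 h1
      · exact mul_inv_eq_iff_eq_mul.1 h1
    by_cases hx1 : Eqv z x 1
    · rw [mem_centralizer_iff]
      intro d hd
      rcases hx1 with h | h
      · rw [h, mul_one, one_mul]
      · rw [h, mul_one]; exact hzD d hd
    · -- the lemma of Thompson
      have hcop : (Nat.card E).Coprime 2 := by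
        obtain ⟨a, ha⟩ := IsPGroup.iff_card.mp T.hE
        rw [ha]
        exact Nat.Coprime.pow_left _ ((Nat.coprime_primes hp.out Nat.prime_two).2 T.hp2)
      have hP : IsPGroup 2 D := T.hW.to_le inf_le_left
      have hxQ : x ∈ Q := Subgroup.mem_inf.2 ⟨hx, mem_centralizer_singleton_iff.2 hex.symm⟩
      obtain ⟨u, huQ, huD, huE⟩ : ∃ u ∈ Q, u ∈ centralizer (D : Set G) ∧ u ∉ centralizer (E : Set G) := by
        by_contra hcon
        push Not at hcon
        have h1 := CoprimeAction2.thompson_PxQ (P := D) (Q := E) hP hcop inf_le_right (Nat.card Q) Q rfl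
          (T.hW.to_le (inf_le_left.trans hUW)) hDQ hEQ (fun u hu => hcon u hu.1 hu.2)
        apply hx1
        rw [S.eqv_one]
        exact S.fixE x hx fun f hf => (mem_centralizer_iff.1 (h1 hf) x hxQ).symm
      have hu1 : ¬ Eqv z u 1 := by
        intro h
        apply huE
        rw [mem_centralizer_iff]
        intro f hf
        rcases h with h | h
        · rw [h, mul_one, one_mul]
        · rw [h, mul_one]; exact S.zE f hf
      have heu : e * u = u * e := (mem_centralizer_singleton_iff.1 huQ.2).symm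
      obtain ⟨f, hf, hfu⟩ := S.exists_conj huQ.1 hu1
      obtain ⟨-, hgen, -⟩ := S.orbit he he1 huQ.1 heu hu1 hf hfu
      rw [mem_centralizer_iff]
      intro d hd
      have k1 : d * u = u * d := mem_centralizer_iff.1 huD d hd
      have k2 : d * (f * u * f⁻¹) = f * u * f⁻¹ * d := by
        have h2 := hDE d hd f hf
        calc d * (f * u * f⁻¹) = (d * f) * u * f⁻¹ := by group
          _ = f * (d * u) * f⁻¹ := by rw [← h2]; group
          _ = f * u * (d * f⁻¹) := by rw [k1]; group
          _ = f * u * f⁻¹ * (f * d) * f⁻¹ := by group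
          _ = f * u * f⁻¹ * d := by rw [h2]; group
      have k3 : ∀ a b : G, Eqv z a b → d * b = b * d → d * a = a * d := by
        rintro a b (rfl | rfl) hb
        · exact hb
        · rw [← mul_assoc, hzD d hd, mul_assoc, hb, mul_assoc]
      rcases hgen x hx hex with h | h | h | h
      · exact k3 _ _ h (by rw [mul_one, one_mul])
      · exact k3 _ _ h k1
      · exact k3 _ _ h k2
      · exact k3 _ _ h ((show Commute d u from k1).mul_right k2)
  -- `D ≤ U`
  have hDle : D ≤ U := by
    by_contra hcon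
    obtain ⟨d, hd, hdU⟩ := SetLike.not_le_iff_exists.1 hcon
    obtain ⟨e₁, he₁, e₂, he₂, x₁, hx₁, x₂, hx₂, he₁1, he₂1, hx₁1, hx₂1, hex₁, hex₂, h12⟩ := S.exists_pair
    have hzfix : ∀ t ∈ W, t ≠ 1 → t * t = 1 → e₁ * t = t * e₁ → t = z := fun t ht ht1 htt hte =>
      T.hfix e₁ he₁ he₁1 t ht z (hUW S.zU) ht1 htt S.z1 S.zz hte (S.zE e₁ he₁)
    obtain ⟨k, hk⟩ := (IsPGroup.iff_orderOf.mp (T.hW.to_le inf_le_left : IsPGroup 2 D)) ⟨d, hd⟩
    rw [Subgroup.orderOf_mk] at hk
    have hd1 : d ≠ 1 := by rintro rfl; exact hdU (one_mem _)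
    have hdz : d ≠ z := by rintro rfl; exact hdU S.zU
    have hdd : d * d ≠ 1 := fun h => hdz (hzfix d hd.1 hd1 h (hDE d hd e₁ he₁))
    have hk2 : 2 ≤ k := by
      by_contra hcon
      apply hdd
      have h1 : orderOf d ∣ 2 := by
        rw [hk]
        exact (pow_dvd_pow 2 (by omega : k ≤ 1)).trans (by norm_num)
      rw [← pow_two]
      exact orderOf_dvd_iff_pow_eq_one.1 h1
    -- an element of order four
    obtain ⟨c, hc, hcc, hcc'⟩ : ∃ c ∈ D, c * c ≠ 1 ∧ (c * c) * (c * c) = 1 := by
      refine ⟨d ^ 2 ^ (k - 2), pow_mem hd _, ?_, ?_⟩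
      · rw [← pow_add, ← two_mul, ← pow_succ']
        intro h
        have h1 := orderOf_dvd_iff_pow_eq_one.2 h
        rw [hk] at h1
        have h2 := (Nat.pow_dvd_pow_iff_le_right (by norm_num : 1 < 2)).1 h1
        omega
      · rw [← pow_add, ← two_mul, ← pow_succ', ← pow_add, ← two_mul, ← pow_succ']
        have h1 : k - 2 + 1 + 1 = k := by omega
        rw [h1, ← hk, pow_orderOf_eq_one]
    have hccz : c * c = z := hzfix _ (mul_mem hc.1 hc.1) hcc hcc' ((show Commute e₁ c from hDE c hc e₁ he₁).mul_right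
      (hDE c hc e₁ he₁))
    have hxx : x₁ * x₁ = z := by
      refine (S.sq x₁ hx₁).resolve_left fun h => hx₁1 ?_
      rw [S.eqv_one]
      exact S.fix e₁ he₁ he₁1 x₁ hx₁ hex₁ h
    have hxc : c * x₁ = x₁ * c := mem_centralizer_iff.1 (hDU hx₁) c hc
    have h1 : x₁ * c = 1 ∨ x₁ * c = z := by
      by_cases h : x₁ * c = 1
      · exact Or.inl h
      · right
        apply hzfix _ (mul_mem (hUW hx₁) hc.1) h
        · calc x₁ * c * (x₁ * c) = x₁ * (c * x₁) * c := by group
            _ = x₁ * (x₁ * c) * c := by rw [hxc]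
            _ = (x₁ * x₁) * (c * c) := by group
            _ = 1 := by rw [hxx, hccz, S.zz]
        · exact (show Commute e₁ x₁ from hex₁).mul_right (hDE c hc e₁ he₁)
    have hcU : c ∈ U := by
      have h2 : x₁ * c ∈ U := by
        rcases h1 with h | h
        · rw [h]; exact one_mem _
        · rw [h]; exact S.zU
      exact (mul_mem_cancel_left hx₁).1 h2
    rcases S.fixE c hcU (hDE c hc) with h | h
    · exact hcc (by rw [h, one_mul])
    · exact hcc (by rw [h, S.zz])
  have h1 := CoprimeAction2.commutator_sup_centralizer T.hEW (T.cop le_rfl) (Or.inl T.solv)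
  rw [← h1]
  exact (sup_eq_left.2 hDle).symm

theorem Setup.exists_ex' {W : Subgroup G} (T : Setup p W E) : ∃ z, Ex p W E z := by
  obtain ⟨z, S⟩ := T.exists_ex
  rw [T.commutator_eq] at S
  exact ⟨z, S⟩

end Cfsg.Agent.Lib.NonCycFix
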