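import Cfsg.Prelude
import Cfsg.Agent.Lib.NilChar
import Cfsg.Agent.Lib.DegRatio
import Cfsg.Agent.Lib.CanonExt

/-!
# Restriction to normal subgroups of `p`-power index (helper79)
-/

open Cfsg Cfsg.Agent.Lib Cfsg.Agent.Lib.CharBasic Cfsg.Agent.Lib.DefectZero Cfsg.Agent.Lib.Clifford

namespace Cfsg.Agent.Lib.NormalCompl

universe u
variable {G : Type u} [Group G] [Finite G]

/-- constituents of the full degree -/
theorem res_eq_of_degree (H : Subgroup G) [Fintype H] {χ : G → ℂ} (hχ : IsCharacter G χ)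
    {θ : H → ℂ} (hθ : IsIrrCharacter H θ) (h : classInner (fun n : H => χ n) θ ≠ 0)
    (hd : χ 1 = θ 1) : (fun n : H => χ n) = θ := by
  have h1 := (hχ.restrict H).sub_constituent hθ h
  have h2 := h1.eq_zero_of_one_eq_zero (by
    simp only [Pi.sub_apply, OneMemClass.coe_one, hd, sub_self])
  exact sub_eq_zero.mp h2

/-- `|G : N|` a power of `p`, `p ∤ χ(1)`: `χ_N` is irreducible. -/
theorem res_irr_of_not_dvd {p : ℕ} (hp : p.Prime) (N : Subgroup G) [N.Normal] {k : ℕ}
    (hidx : N.index = p ^ k) (χ : IrrCharacter G) (h : ¬ p ∣ charDegree (χ : G → ℂ)) :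
    IsIrrCharacter N (fun n : N => (χ : G → ℂ) n) := by
  have := Fintype.ofFinite G
  have := Fintype.ofFinite N
  have h0 : (fun n : N => (χ : G → ℂ) n) ≠ 0 := by
    intro h1
    have := congrFun h1 1
    simp only [OneMemClass.coe_one, Pi.zero_apply] at this
    exact χ.2.one_ne_zero this
  obtain ⟨θ, hθ⟩ := exists_constituent (χ.2.isCharacter.restrict N) h0
  obtain ⟨f, hf, hfi⟩ := DegRatio.degree_ratio χ.2 θ.2 hθ (charDegree_eq χ.2.isCharacter).symm
    (charDegree_eq θ.2.isCharacter).symm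
  rw [hidx] at hfi
  obtain ⟨j, -, hj⟩ := (Nat.dvd_prime_pow hp).mp hfi
  have hj0 : j = 0 := by
    by_contra hj0
    apply h
    rw [hf, hj]
    exact (dvd_pow_self p hj0).mul_right _
  rw [hj0, pow_zero] at hj
  rw [hj, one_mul] at hf
  rw [res_eq_of_degree N χ.2.isCharacter θ.2 hθ (by
    rw [← charDegree_eq χ.2.isCharacter, ← charDegree_eq θ.2.isCharacter, hf])]
  exact θ.2

/-- Gallagher: the product of an extension with a character of the quotient is irreducible. -/
theorem mul_irr (N : Subgroup G) [N.Normal] {β χ : G → ℂ} (hβ : IsIrrCharacter G β)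
    (hβc : ∀ n : N, β n = β 1) (hχ : IsIrrCharacter G χ)
    (hχN : IsIrrCharacter N (fun n : N => χ n)) : IsIrrCharacter G (β * χ) := by
  have := Fintype.ofFinite G
  exact ((CanonExt.bijOn hχN hχ (fun n => rfl)).mapsTo ⟨hβ, hβc⟩).1

end Cfsg.Agent.Lib.NormalCompl
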