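import Cfsg.Prelude.Def_CaseTheorems
import Cfsg.Agent.Lib.UniqueInvolution
import Cfsg.Agent.Lib.DihQuat
import Cfsg.Agent.Lib.NormalRankTwo

/-!
`p`-groups all of whose normal abelian subgroups are cyclic.
-/

set_option autoImplicit false

namespace Cfsg.Agent.Lib.NormalCyclic

universe u
variable {P : Type u} [Group P]

theorem conj_act {a g : P} {k : ℤ} (h : g * a * g⁻¹ = a ^ k) (i : ℤ) : g * a ^ i * g⁻¹ = a ^ (k * i) := by
  rw [← conj_zpow, h, ← zpow_mul]

theorem act_mul {a g h : P} {k l : ℤ} (hg : g * a * g⁻¹ = a ^ k) (hh : h * a * h⁻¹ = a ^ l) :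
    (g * h) * a * (g * h)⁻¹ = a ^ (k * l) := by
  have : (g * h) * a * (g * h)⁻¹ = g * (h * a * h⁻¹) * g⁻¹ := by group
  rw [this, hh, conj_act hg]

theorem act_pow {a g : P} {k : ℤ} (hg : g * a * g⁻¹ = a ^ k) (j : ℕ) :
    (g ^ j) * a * (g ^ j)⁻¹ = a ^ (k ^ j) := by
  induction j with
  | zero => simp
  | succ j ih => rw [pow_succ, act_mul ih hg, ← pow_succ]

/-- Two distinct commuting involutions `z` (central) and `h` with all conjugates of `h` in `{h, z h}` give a normal,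
noncyclic abelian subgroup. -/
theorem exists_klein [Finite P] {z h : P} (hz : z * z = 1) (hh : h * h = 1) (hz1 : z ≠ 1) (hh1 : h ≠ 1)
    (hzh : z ≠ h) (hzc : ∀ g : P, g * z = z * g) (hconj : ∀ g : P, g * h * g⁻¹ = h ∨ g * h * g⁻¹ = z * h) :
    ∃ V : Subgroup P, V.Normal ∧ IsMulCommutative V ∧ ¬ IsCyclic V := by
  classical
  refine ⟨Subgroup.closure {z, h}, ?_, ?_, ?_⟩
  · constructor
    intro x hx g
    have hmap : (Subgroup.closure {z, h}).map (MulAut.conj g).toMonoidHom ≤ Subgroup.closure {z, h} := by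
      rw [MonoidHom.map_closure, Subgroup.closure_le]
      rintro _ ⟨y, hy, rfl⟩
      have hzm : z ∈ Subgroup.closure {z, h} := Subgroup.subset_closure (by simp)
      have hhm : h ∈ Subgroup.closure {z, h} := Subgroup.subset_closure (by simp)
      rcases hy with hy | hy
      · rw [hy]
        change g * z * g⁻¹ ∈ _
        rw [hzc g, mul_inv_cancel_right]
        exact hzm
      · rw [Set.mem_singleton_iff] at hy
        rw [hy]
        change g * h * g⁻¹ ∈ _
        rcases hconj g with h' | h'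
        · rw [h']; exact hhm
        · rw [h']; exact Subgroup.mul_mem _ hzm hhm
    exact hmap ⟨x, hx, rfl⟩
  · apply Subgroup.isMulCommutative_closure
    intro x hx y hy
    simp only [Set.mem_insert_iff, Set.mem_singleton_iff] at hx hy
    rcases hx with rfl | rfl <;> rcases hy with rfl | rfl
    · rfl
    · exact (hzc _).symm
    · exact hzc _
    · rfl
  · intro hcyc
    have hfin : Fintype (Subgroup.closure ({z, h} : Set P)) := Fintype.ofFinite _
    have h2 := IsCyclic.card_pow_eq_one_le (α := Subgroup.closure ({z, h} : Set P)) (n := 2) (by norm_num)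
    have hzm : z ∈ Subgroup.closure {z, h} := Subgroup.subset_closure (by simp)
    have hhm : h ∈ Subgroup.closure {z, h} := Subgroup.subset_closure (by simp)
    have hsub : ({1, ⟨z, hzm⟩, ⟨h, hhm⟩} : Finset (Subgroup.closure ({z, h} : Set P))) ⊆
        Finset.univ.filter (fun a => a ^ 2 = 1) := by
      intro y hy
      simp only [Finset.mem_insert, Finset.mem_singleton] at hy
      simp only [Finset.mem_filter, Finset.mem_univ, true_and]
      rcases hy with rfl | rfl | rfl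
      · simp
      · apply Subtype.ext; rw [pow_two]; exact hz
      · apply Subtype.ext; rw [pow_two]; exact hh
    have h3 := Finset.card_le_card hsub
    have h4 : ({1, ⟨z, hzm⟩, ⟨h, hhm⟩} : Finset (Subgroup.closure ({z, h} : Set P))).card = 3 := by
      rw [Finset.card_insert_of_notMem, Finset.card_insert_of_notMem, Finset.card_singleton]
      · simp only [Finset.mem_singleton]
        intro h; exact hzh (congrArg Subtype.val h)
      · simp only [Finset.mem_insert, Finset.mem_singleton, not_or]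
        exact ⟨fun h => hz1 (congrArg Subtype.val h).symm, fun h => hh1 (congrArg Subtype.val h).symm⟩
    omega

section

variable {a : P} {m : ℕ}

theorem zpow_eq_iff (ha : orderOf a = 2 ^ (m + 1)) (i j : ℤ) : a ^ i = a ^ j ↔ (2 ^ (m + 1) : ℤ) ∣ i - j := by
  rw [zpow_eq_zpow_iff_modEq, ha, Int.modEq_iff_dvd, ← dvd_neg, neg_sub]
  push_cast
  rfl

theorem zpow_eq_one_iff (ha : orderOf a = 2 ^ (m + 1)) (i : ℤ) : a ^ i = 1 ↔ (2 ^ (m + 1) : ℤ) ∣ i := by
  rw [← zpow_zero a, zpow_eq_iff ha, sub_zero]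

/-- the involution in `⟨a⟩`. -/
theorem z_ne_one (ha : orderOf a = 2 ^ (m + 1)) : a ^ (2 ^ m : ℤ) ≠ 1 := by
  rw [Ne, zpow_eq_one_iff ha]
  intro h
  have h2 := Int.le_of_dvd (by positivity) h
  rw [pow_succ] at h2
  have : (0 : ℤ) < 2 ^ m := by positivity
  omega

theorem z_sq (ha : orderOf a = 2 ^ (m + 1)) : a ^ (2 ^ m : ℤ) * a ^ (2 ^ m : ℤ) = 1 := by
  rw [← zpow_add, zpow_eq_one_iff ha]
  exact ⟨1, by ring⟩

theorem z_unique (ha : orderOf a = 2 ^ (m + 1)) {x : P} (hx : x ∈ Subgroup.zpowers a) (hx2 : x * x = 1) :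
    x = 1 ∨ x = a ^ (2 ^ m : ℤ) := by
  obtain ⟨i, rfl⟩ := Subgroup.mem_zpowers_iff.1 hx
  rw [← zpow_add, zpow_eq_one_iff ha] at hx2
  have h1 : (2 ^ m : ℤ) ∣ i := by
    obtain ⟨c, hc⟩ := hx2
    refine ⟨c, ?_⟩
    have : 2 * i = 2 * (2 ^ m * c) := by rw [two_mul, hc]; ring
    exact mul_left_cancel₀ (by norm_num) this
  obtain ⟨c, rfl⟩ := h1
  rcases Int.even_or_odd' c with ⟨d, rfl | rfl⟩
  · left; rw [zpow_eq_one_iff ha]; exact ⟨d, by ring⟩
  · right; rw [zpow_eq_iff ha]; exact ⟨d, by ring⟩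

theorem z_central (ha : orderOf a = 2 ^ (m + 1)) (hN : (Subgroup.zpowers a).Normal) (g : P) :
    g * a ^ (2 ^ m : ℤ) = a ^ (2 ^ m : ℤ) * g := by
  have h1 : g * a ^ (2 ^ m : ℤ) * g⁻¹ ∈ Subgroup.zpowers a :=
    hN.conj_mem _ (Subgroup.zpow_mem _ (Subgroup.mem_zpowers a) _) g
  have h2 : (g * a ^ (2 ^ m : ℤ) * g⁻¹) * (g * a ^ (2 ^ m : ℤ) * g⁻¹) = 1 := by
    have : (g * a ^ (2 ^ m : ℤ) * g⁻¹) * (g * a ^ (2 ^ m : ℤ) * g⁻¹) =
        g * (a ^ (2 ^ m : ℤ) * a ^ (2 ^ m : ℤ)) * g⁻¹ := by group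
    rw [this, z_sq ha]; group
  rcases z_unique ha h1 h2 with h | h
  · exfalso
    apply z_ne_one ha
    have : a ^ (2 ^ m : ℤ) = g⁻¹ * (g * a ^ (2 ^ m : ℤ) * g⁻¹) * g := by group
    rw [this, h]; group
  · calc g * a ^ (2 ^ m : ℤ) = (g * a ^ (2 ^ m : ℤ) * g⁻¹) * g := by group
      _ = a ^ (2 ^ m : ℤ) * g := by rw [h]

theorem exists_act (hN : (Subgroup.zpowers a).Normal) (g : P) : ∃ k : ℤ, g * a * g⁻¹ = a ^ k := by
  obtain ⟨k, hk⟩ := Subgroup.mem_zpowers_iff.1 (hN.conj_mem a (Subgroup.mem_zpowers a) g)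
  exact ⟨k, hk.symm⟩

theorem act_odd (ha : orderOf a = 2 ^ (m + 1)) {g : P} {k : ℤ} (hk : g * a * g⁻¹ = a ^ k) : Odd k := by
  rw [← Int.not_even_iff_odd]
  rintro ⟨c, rfl⟩
  have h1 := conj_act hk (2 ^ m)
  have h2 : a ^ ((c + c) * 2 ^ m : ℤ) = 1 := by
    rw [zpow_eq_one_iff ha]; exact ⟨c, by ring⟩
  rw [h2] at h1
  apply z_ne_one ha
  have : a ^ (2 ^ m : ℤ) = g⁻¹ * (g * a ^ (2 ^ m : ℤ) * g⁻¹) * g := by group
  rw [this, h1]; group

/-- the key step: no element acts as `a ↦ a ^ (1 + 2 ^ m)`, if all normal abelian subgroups are cyclic -/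
theorem key [Finite P] (ha : orderOf a = 2 ^ (m + 1)) (hN : (Subgroup.zpowers a).Normal)
    (hC : ∀ g : P, g * a = a * g → g ∈ Subgroup.zpowers a) (hm : 2 ≤ m) {h : P}
    (hh : h * a * h⁻¹ = a ^ (1 + 2 ^ m : ℤ)) (hh2 : h * h ∈ Subgroup.zpowers a) :
    ∃ V : Subgroup P, V.Normal ∧ IsMulCommutative V ∧ ¬ IsCyclic V := by
  obtain ⟨s, hs⟩ := Subgroup.mem_zpowers_iff.1 hh2
  have hm2 : ∃ e : ℤ, (2 ^ m : ℤ) = 4 * e := ⟨2 ^ (m - 2), by
    have : (4 : ℤ) = 2 ^ 2 := by norm_num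
    rw [this, ← pow_add]; congr 1; omega⟩
  obtain ⟨e, he⟩ := hm2
  have hM : (2 ^ (m + 1) : ℤ) = 8 * e := by rw [pow_succ, he]; ring
  have hhN : h ∉ Subgroup.zpowers a := by
    intro hc
    obtain ⟨i, rfl⟩ := Subgroup.mem_zpowers_iff.1 hc
    have : a ^ i * a * (a ^ i)⁻¹ = a ^ (1 : ℤ) := by
      rw [← zpow_add_one, ← zpow_neg, ← zpow_add]; congr 1; ring
    rw [this, zpow_eq_iff ha] at hh
    have h3 : (2 ^ (m + 1) : ℤ) ∣ 2 ^ m := by
      have := (dvd_neg).2 hh
      rwa [show -(1 - (1 + 2 ^ m) : ℤ) = 2 ^ m by ring] at this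
    have h2 := Int.le_of_dvd (by positivity) h3
    rw [pow_succ] at h2
    have : (0 : ℤ) < 2 ^ m := by positivity
    omega
  -- s is even
  have hse : ∃ c : ℤ, s = 2 * c := by
    have h1 := conj_act hh s
    have h2 : h * a ^ s * h⁻¹ = a ^ s := by rw [hs]; group
    rw [h2, zpow_eq_iff ha] at h1
    obtain ⟨c, hc⟩ := h1
    refine ⟨-c, ?_⟩
    have hpos : (2 ^ m : ℤ) ≠ 0 := by positivity
    apply mul_left_cancel₀ hpos
    rw [pow_succ] at hc
    linear_combination -hc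
  obtain ⟨c, rfl⟩ := hse
  -- the involution
  obtain ⟨i, hi⟩ : ∃ i : ℤ, (8 * e) ∣ i * (1 + (1 + 4 * e)) + 2 * c := by
    refine ⟨-c * (1 - 2 * e), ⟨c * e, ?_⟩⟩
    ring
  set h' := a ^ i * h with hh'
  have hsq' : ∀ j : ℤ, (a ^ j * h) * (a ^ j * h) = a ^ (j * (1 + (1 + 4 * e)) + 2 * c) := by
    intro j
    have e1 : (a ^ j * h) * (a ^ j * h) = a ^ j * (h * a ^ j * h⁻¹) * (h * h) := by group
    rw [e1, conj_act hh, ← hs, ← zpow_add, ← zpow_add, he]
    congr 1; ring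
  have hsq : h' * h' = 1 := by
    rw [hh', hsq', zpow_eq_one_iff ha, hM]
    exact hi
  have hact' : h' * a * h'⁻¹ = a ^ (1 + 2 ^ m : ℤ) := by
    rw [hh']
    have : a ^ i * h * a * (a ^ i * h)⁻¹ = a ^ i * (h * a * h⁻¹) * (a ^ i)⁻¹ := by group
    rw [this, hh, ← zpow_neg, ← zpow_add, ← zpow_add]; congr 1; ring
  have hh'N : h' ∉ Subgroup.zpowers a := by
    intro hc
    apply hhN
    have := Subgroup.mul_mem _ (Subgroup.zpow_mem _ (Subgroup.mem_zpowers a) (-i)) hc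
    rw [hh', ← mul_assoc, ← zpow_add, neg_add_cancel, zpow_zero, one_mul] at this
    exact this
  refine exists_klein (z_sq ha) hsq (z_ne_one ha) ?_ ?_ (z_central ha hN) ?_
  · intro h1; exact hh'N (h1 ▸ Subgroup.one_mem _)
  · intro h1; exact hh'N (h1 ▸ Subgroup.zpow_mem _ (Subgroup.mem_zpowers a) _)
  · intro g
    obtain ⟨k, hk⟩ := exists_act hN g
    obtain ⟨l, hl⟩ := exists_act hN g⁻¹
    have hkl : a ^ (k * l) = a := by
      have := act_mul hk hl
      rw [mul_inv_cancel] at this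
      simpa using this.symm
    -- g h' g⁻¹ h'⁻¹ centralizes a
    have hcomm : (g * h' * g⁻¹ * h'⁻¹) * a = a * (g * h' * g⁻¹ * h'⁻¹) := by
      have e1 : (g * h' * g⁻¹) * a * (g * h' * g⁻¹)⁻¹ = a ^ (k * (1 + 2 ^ m) * l) :=
        act_mul (act_mul hk hact') hl
      have e2 : a ^ (k * (1 + 2 ^ m) * l) = a ^ (1 + 2 ^ m : ℤ) := by
        rw [show k * (1 + 2 ^ m) * l = (k * l) * (1 + 2 ^ m) by ring, zpow_mul, hkl]
      rw [e2, ← hact'] at e1
      have e3 : (g * h' * g⁻¹ * h'⁻¹) * (h' * a * h'⁻¹) = (h' * a * h'⁻¹) * (g * h' * g⁻¹ * h'⁻¹) := by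
        have : (g * h' * g⁻¹ * h'⁻¹) * (h' * a * h'⁻¹) = ((g * h' * g⁻¹) * a * (g * h' * g⁻¹)⁻¹) * (g * h' * g⁻¹ * h'⁻¹) := by
          group
        rw [this, e1]
      rw [hact'] at e3
      -- raise to power `1 + 2^m`
      have e4 : Commute (g * h' * g⁻¹ * h'⁻¹) (a ^ (1 + 2 ^ m : ℤ)) := e3
      have e5 := e4.zpow_right (1 + 2 ^ m : ℤ)
      rw [← zpow_mul] at e5
      have e6 : a ^ ((1 + 2 ^ m) * (1 + 2 ^ m) : ℤ) = a ^ (1 : ℤ) := by
        rw [zpow_eq_iff ha, hM, he]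
        exact ⟨1 + 2 * e, by ring⟩
      rw [e6, zpow_one] at e5
      exact e5
    obtain ⟨j, hj⟩ := Subgroup.mem_zpowers_iff.1 (hC _ hcomm)
    have hgh : g * h' * g⁻¹ = a ^ j * h' := by rw [hj]; group
    have hsq2 : (a ^ j * h') * (a ^ j * h') = 1 := by
      rw [← hgh]
      have : (g * h' * g⁻¹) * (g * h' * g⁻¹) = g * (h' * h') * g⁻¹ := by group
      rw [this, hsq]; group
    have hsq3 : (a ^ j * h') * (a ^ j * h') = a ^ (j * (1 + (1 + 4 * e))) := by
      have e1 : (a ^ j * h') * (a ^ j * h') = a ^ j * (h' * a ^ j * h'⁻¹) * (h' * h') := by group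
      rw [e1, conj_act hact', hsq, mul_one, ← zpow_add, he]
      congr 1; ring
    rw [hsq3, zpow_eq_one_iff ha, hM] at hsq2
    have hj4 : (4 * e) ∣ j := by
      obtain ⟨w, hw⟩ := hsq2
      have hw' : j * (1 + 2 * e) = 4 * e * w := by
        have h2 : (2 : ℤ) ≠ 0 := by norm_num
        apply mul_left_cancel₀ h2
        linear_combination hw
      refine ⟨w * (1 - 2 * e) + e * j, ?_⟩
      linear_combination (1 - 2 * e) * hw'
    obtain ⟨d, hd⟩ := hj4
    have hz : a ^ j = 1 ∨ a ^ j = a ^ (2 ^ m : ℤ) := by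
      apply z_unique ha (Subgroup.zpow_mem _ (Subgroup.mem_zpowers a) _)
      rw [← zpow_add, zpow_eq_one_iff ha, hM, hd]
      exact ⟨d, by ring⟩
    rcases hz with h1 | h1
    · left; rw [hgh, h1, one_mul]
    · right; rw [hgh, h1]

/-- An element outside `⟨a⟩` cannot act with exponent congruent to 1 modulo 4. -/
theorem exists_of_act_one_mod_four [Finite P] (hP : IsPGroup 2 P) (ha : orderOf a = 2 ^ (m + 1))
    (hN : (Subgroup.zpowers a).Normal) (hC : ∀ g : P, g * a = a * g → g ∈ Subgroup.zpowers a) (hm : 1 ≤ m) {g : P}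
    (hg : g ∉ Subgroup.zpowers a) {k : ℤ} (hk : g * a * g⁻¹ = a ^ k) (hk4 : (4 : ℤ) ∣ k - 1) :
    ∃ V : Subgroup P, V.Normal ∧ IsMulCommutative V ∧ ¬ IsCyclic V := by
  classical
  obtain ⟨r, hr⟩ := hP g
  have hex : ∃ j : ℕ, g ^ 2 ^ j ∈ Subgroup.zpowers a := ⟨r, by rw [hr]; exact Subgroup.one_mem _⟩
  obtain ⟨j, hj⟩ : ∃ j, j = Nat.find hex := ⟨_, rfl⟩
  have hj1 : g ^ 2 ^ j ∈ Subgroup.zpowers a := hj ▸ Nat.find_spec hex
  have hj0 : j ≠ 0 := by
    rintro h0
    rw [h0, pow_zero, pow_one] at hj1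
    exact hg hj1
  obtain ⟨i, rfl⟩ := Nat.exists_eq_succ_of_ne_zero hj0
  have hi : g ^ 2 ^ i ∉ Subgroup.zpowers a := Nat.find_min hex (by omega)
  have hact := act_pow hk (2 ^ i)
  set h := g ^ 2 ^ i with hh
  have hh2 : h * h ∈ Subgroup.zpowers a := by
    rw [hh, ← pow_add, ← two_mul, ← pow_succ']
    exact hj1
  set l := k ^ 2 ^ i with hl
  have hl4 : (4 : ℤ) ∣ l - 1 := hk4.trans (sub_one_dvd_pow_sub_one k _)
  have hll : (2 ^ (m + 1) : ℤ) ∣ l * l - 1 := by
    have h1 := act_mul hact hact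
    obtain ⟨s, hs⟩ := Subgroup.mem_zpowers_iff.1 hh2
    rw [← hs] at h1
    have h2 : a ^ s * a * (a ^ s)⁻¹ = a ^ (1 : ℤ) := by
      rw [← zpow_add_one, ← zpow_neg, ← zpow_add]; congr 1; ring
    rw [h2, zpow_eq_iff ha] at h1
    rw [← dvd_neg, neg_sub]
    exact h1
  have hl1 : ¬ (2 ^ (m + 1) : ℤ) ∣ l - 1 := by
    intro h1
    apply hi
    apply hC
    have : a ^ l = a ^ (1 : ℤ) := by rw [zpow_eq_iff ha]; exact h1
    rw [this, zpow_one] at hact
    calc h * a = (h * a * h⁻¹) * h := by group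
      _ = a * h := by rw [hact]
  obtain ⟨u, hu⟩ := hl4
  have hm2 : 2 ≤ m := by
    by_contra hlt
    have : m = 1 := by omega
    subst this
    exact hl1 ⟨u, by rw [hu]; norm_num⟩
  -- 2^m divides l - 1
  have hdvd : (2 ^ m : ℤ) ∣ l - 1 := by
    have h1 : (2 ^ (m + 1) : ℤ) ∣ (1 + 2 * u) * (2 * (l - 1)) := by
      have : (1 + 2 * u) * (2 * (l - 1)) = l * l - 1 := by
        linear_combination (-(l - 1)) * hu
      rw [this]; exact hll
    have hcop : IsCoprime (2 ^ (m + 1) : ℤ) (1 + 2 * u) := by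
      apply IsCoprime.pow_left
      exact ⟨-u, 1, by ring⟩
    have h2 := hcop.dvd_of_dvd_mul_left h1
    rw [pow_succ, mul_comm] at h2
    exact Int.dvd_of_mul_dvd_mul_left (by norm_num) h2
  obtain ⟨v, hv⟩ := hdvd
  have hvodd : Odd v := by
    rw [← Int.not_even_iff_odd]
    rintro ⟨w, hw⟩
    apply hl1
    exact ⟨w, by rw [hv, hw, pow_succ]; ring⟩
  obtain ⟨w, hw⟩ := hvodd
  apply key ha hN hC hm2 (h := h) ?_ hh2
  rw [hact, zpow_eq_iff ha]
  refine ⟨w, ?_⟩
  rw [hw] at hv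
  linear_combination hv

/-- Noncyclic 2-groups all of whose normal abelian subgroups are cyclic. -/
theorem classify [Finite P] (hP : IsPGroup 2 P)
    (hn : ∀ A : Subgroup P, A.Normal → IsMulCommutative A → IsCyclic A) (hcyc : ¬ IsCyclic P) :
    (∃ n : ℕ, 1 ≤ n ∧ Nonempty (P ≃* QuaternionGroup (2 ^ n))) ∨
      (∃ n : ℕ, 3 ≤ n ∧ Nonempty (P ≃* DihedralGroup (2 ^ n))) ∨ Cfsg.IsQuasiDihedral P := by
  classical
  have hno : ¬ ∃ V : Subgroup P, V.Normal ∧ IsMulCommutative V ∧ ¬ IsCyclic V := by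
    rintro ⟨V, h1, h2, h3⟩
    exact h3 (hn V h1 h2)
  obtain ⟨A, hAN, hAc, hAC⟩ := Cfsg.Agent.Lib.UniqueInvolution.exists_self_centralizing (p := 2) hP
  have hA : IsMulCommutative A := ⟨⟨fun x y => Subtype.ext (hAc x x.2 y y.2)⟩⟩
  have hAcyc := hn A hAN hA
  obtain ⟨⟨a, haA⟩, ha⟩ := hAcyc.exists_generator
  have hAa : A = Subgroup.zpowers a := by
    apply le_antisymm
    · intro x hx
      obtain ⟨k, hk⟩ := Subgroup.mem_zpowers_iff.1 (ha ⟨x, hx⟩)
      exact ⟨k, congrArg Subtype.val hk⟩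
    · rw [Subgroup.zpowers_le]; exact haA
  subst hAa
  have hC : ∀ g : P, g * a = a * g → g ∈ Subgroup.zpowers a := by
    intro g hg
    apply hAC
    intro x hx
    obtain ⟨k, rfl⟩ := Subgroup.mem_zpowers_iff.1 hx
    exact (show Commute g a from hg).zpow_right k
  have hntop : Subgroup.zpowers a ≠ ⊤ := by
    intro h
    apply hcyc
    refine ⟨⟨a, fun x => ?_⟩⟩
    have : x ∈ Subgroup.zpowers a := by rw [h]; trivial
    exact this
  obtain ⟨N, hN⟩ := (IsPGroup.iff_orderOf.1 hP) a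
  obtain ⟨m, rfl⟩ : ∃ m, N = m + 1 := by
    rcases N with _ | m
    · exfalso
      apply hntop
      rw [eq_top_iff]
      intro x _
      apply hC
      rw [pow_zero, orderOf_eq_one_iff] at hN
      rw [hN, mul_one, one_mul]
    · exact ⟨m, rfl⟩
  have hm : 1 ≤ m := by
    rcases m with _ | m
    · exfalso
      apply hntop
      rw [eq_top_iff]
      intro x _
      apply hC
      have := z_central hN hAN x
      simpa using this
    · omega
  have hmod : ∀ g : P, g ∉ Subgroup.zpowers a → ∀ k : ℤ, g * a * g⁻¹ = a ^ k → ∃ u : ℤ, k = 4 * u + 3 := by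
    intro g hg k hk
    obtain ⟨c, hc⟩ := act_odd hN hk
    rcases Int.even_or_odd' c with ⟨d, rfl | rfl⟩
    · exact (hno (exists_of_act_one_mod_four hP hN hAN hC hm hg hk ⟨d, by rw [hc]; ring⟩)).elim
    · exact ⟨d, by rw [hc]; ring⟩
  have hmul : ∀ x y : P, x ∉ Subgroup.zpowers a → y ∉ Subgroup.zpowers a → x * y ∈ Subgroup.zpowers a := by
    intro x y hx hy
    by_contra hxy
    obtain ⟨k, hk⟩ := exists_act hAN x
    obtain ⟨l, hl⟩ := exists_act hAN y
    obtain ⟨u, rfl⟩ := hmod x hx k hk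
    obtain ⟨v, rfl⟩ := hmod y hy l hl
    obtain ⟨w, hw⟩ := hmod _ hxy _ (act_mul hk hl)
    have : (4 * u + 3) * (4 * v + 3) = 4 * (4 * u * v + 3 * u + 3 * v + 2) + 1 := by ring
    omega
  obtain ⟨g, hg⟩ : ∃ g, g ∉ Subgroup.zpowers a := by
    by_contra h
    push Not at h
    exact hntop (eq_top_iff.2 fun x _ => h x)
  have hidx : (Subgroup.zpowers a).index = 2 := by
    rw [Subgroup.index_eq_two_iff]
    refine ⟨g, fun b => ?_⟩
    by_cases hb : b ∈ Subgroup.zpowers a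
    · right
      refine ⟨hb, fun h => hg ?_⟩
      exact (Subgroup.mul_mem_cancel_left _ hb).1 h
    · left
      exact ⟨hmul _ _ hb hg, hb⟩
  have hcard : Nat.card P = 2 ^ (m + 2) := by
    rw [← (Subgroup.zpowers a).card_mul_index, hidx, Nat.card_zpowers, hN]
    ring
  obtain ⟨k, hk⟩ := exists_act hAN g
  obtain ⟨u, rfl⟩ := hmod g hg k hk
  have hgg := hmul g g hg hg
  have hggz : g * g = 1 ∨ g * g = a ^ (2 ^ m : ℤ) := by
    obtain ⟨s, hs⟩ := Subgroup.mem_zpowers_iff.1 hgg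
    apply z_unique hN hgg
    have h1 := conj_act hk s
    rw [hs] at h1
    have h2 : g * (g * g) * g⁻¹ = g * g := by group
    rw [h2, ← hs, zpow_eq_iff hN] at h1
    rw [← hs, ← zpow_add, zpow_eq_one_iff hN]
    have h3 : s - (4 * u + 3) * s = (1 + 2 * u) * (-(s + s)) := by ring
    rw [h3] at h1
    have hcop : IsCoprime (2 ^ (m + 1) : ℤ) (1 + 2 * u) := by
      apply IsCoprime.pow_left
      exact ⟨-u, 1, by ring⟩
    exact (dvd_neg).1 (hcop.dvd_of_dvd_mul_left h1)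
  have hgact : g * a * g⁻¹ = a⁻¹ ∨ g * a * g⁻¹ = a ^ (2 ^ m - 1 : ℤ) := by
    have h1 := act_mul hk hk
    obtain ⟨s, hs⟩ := Subgroup.mem_zpowers_iff.1 hgg
    rw [← hs] at h1
    have h2 : a ^ s * a * (a ^ s)⁻¹ = a ^ (1 : ℤ) := by
      rw [← zpow_add_one, ← zpow_neg, ← zpow_add]; congr 1; ring
    rw [h2, zpow_eq_iff hN] at h1
    have h3 : 1 - (4 * u + 3) * (4 * u + 3) = (1 + 2 * u) * (-(2 * (4 * (u + 1)))) := by ring
    rw [h3] at h1
    have hcop : IsCoprime (2 ^ (m + 1) : ℤ) (1 + 2 * u) := by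
      apply IsCoprime.pow_left
      exact ⟨-u, 1, by ring⟩
    have h4 := (dvd_neg).1 (hcop.dvd_of_dvd_mul_left h1)
    rw [pow_succ, mul_comm] at h4
    obtain ⟨c, hc⟩ := Int.dvd_of_mul_dvd_mul_left (by norm_num) h4
    rcases Int.even_or_odd' c with ⟨d, rfl | rfl⟩
    · left
      rw [hk, ← zpow_neg_one, zpow_eq_iff hN]
      exact ⟨d, by rw [pow_succ]; linear_combination hc⟩
    · right
      rw [hk, zpow_eq_iff hN]
      exact ⟨d, by rw [pow_succ]; linear_combination hc⟩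
  rcases hgact with hgact | hgact
  · rcases hggz with h1 | h1
    · -- dihedral
      right; left
      have h3 : 2 ≤ m := by
        by_contra hlt
        have hm1 : m = 1 := by omega
        subst hm1
        apply hno
        refine exists_klein (z := a ^ (2 ^ 1 : ℤ)) (h := g) (z_sq hN) h1 (z_ne_one hN) ?_ ?_ (z_central hN hAN) ?_
        · intro h; exact hg (h ▸ Subgroup.one_mem _)
        · intro h; exact hg (h ▸ Subgroup.zpow_mem _ (Subgroup.mem_zpowers a) _)
        · have key : ∀ y ∈ Subgroup.zpowers a, y * g * y⁻¹ = g ∨ y * g * y⁻¹ = a ^ (2 ^ 1 : ℤ) * g := by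
            intro y hy
            obtain ⟨i, rfl⟩ := Subgroup.mem_zpowers_iff.1 hy
            have e1 : g * (a ^ i)⁻¹ * g⁻¹ = a ^ i := by
              have : g * a * g⁻¹ = a ^ (-1 : ℤ) := by rw [hgact, zpow_neg_one]
              rw [← zpow_neg, conj_act this]; congr 1; ring
            have e2 : a ^ i * g * (a ^ i)⁻¹ = (a ^ i * a ^ i) * g := by
              calc a ^ i * g * (a ^ i)⁻¹ = a ^ i * (g * (a ^ i)⁻¹ * g⁻¹) * g := by group
                _ = (a ^ i * a ^ i) * g := by rw [e1]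
            have e3 : a ^ i * a ^ i = 1 ∨ a ^ i * a ^ i = a ^ (2 ^ 1 : ℤ) := by
              apply z_unique hN (Subgroup.mul_mem _ hy hy)
              rw [← zpow_add, ← zpow_add, zpow_eq_one_iff hN]
              exact ⟨i, by ring⟩
            rcases e3 with h | h
            · left; rw [e2, h, one_mul]
            · right; rw [e2, h]
          intro x
          by_cases hx : x ∈ Subgroup.zpowers a
          · exact key x hx
          · have e4 := key (x * g) (hmul x g hx hg)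
            have e5 : x * g * g * (x * g)⁻¹ = x * g * x⁻¹ := by group
            rwa [e5] at e4
      refine ⟨m + 1, by omega, ?_⟩
      refine Cfsg.Agent.Lib.DihQuat.dihedral_iso (m := 2 ^ (m + 1)) (by positivity) a g hN h1 hgact hg ?_
      rw [hcard, pow_succ, mul_comm]
    · left
      refine ⟨m, hm, ?_⟩
      refine Cfsg.Agent.Lib.DihQuat.quaternion_iso (m := 2 ^ m) (by positivity) a g ?_ ?_ hgact hg ?_
      · rw [hN, pow_succ']
      · rw [h1, ← zpow_natCast]; push_cast; rfl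
      · rw [hcard, pow_add]; ring
  · right; right
    have h3 : 2 ≤ m := by
      by_contra hlt
      have hm1 : m = 1 := by omega
      subst hm1
      apply hg
      apply hC
      have e1 : a ^ (2 ^ 1 - 1 : ℤ) = a := by norm_num
      rw [e1] at hgact
      calc g * a = (g * a * g⁻¹) * g := by group
        _ = a * g := by rw [hgact]
    have hnat : a ^ (2 ^ m - 1 : ℤ) = a ^ (2 ^ (m + 1 - 1) - 1 : ℕ) := by
      rw [← zpow_natCast]
      congr 1
      rw [Nat.add_sub_cancel, Nat.cast_sub Nat.one_le_two_pow]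
      push_cast
      rfl
    refine ⟨m + 1, by omega, hcard, a, ?_⟩
    rcases hggz with h1 | h1
    · refine ⟨g, hN, ?_, ?_⟩
      · apply orderOf_eq_prime
        · rw [pow_two, h1]
        · intro h; exact hg (h ▸ Subgroup.one_mem _)
      · rw [hgact, hnat]
    · refine ⟨a * g, hN, ?_, ?_⟩
      · apply orderOf_eq_prime
        · have e1 : (a * g) ^ 2 = a * (g * a * g⁻¹) * (g * g) := by rw [pow_two]; group
          rw [e1, hgact, h1, ← zpow_one_add, ← zpow_add, zpow_eq_one_iff hN]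
          exact ⟨1, by ring⟩
        · intro h
          apply hg
          have : g = a⁻¹ := by
            rw [← mul_right_inj a, h, mul_inv_cancel]
          rw [this]
          exact Subgroup.inv_mem _ (Subgroup.mem_zpowers a)
      · have e1 : a * g * a * (a * g)⁻¹ = a * (g * a * g⁻¹) * a⁻¹ := by group
        rw [e1, hgact, ← zpow_one_add, ← zpow_sub_one, ← hnat]
        congr 1; ring

/-- `p`-groups all of whose normal abelian subgroups are cyclic. -/
theorem classify_all {p : ℕ} [hp : Fact p.Prime] [Finite P] (hP : IsPGroup p P)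
    (hn : ∀ A : Subgroup P, A.Normal → IsMulCommutative A → IsCyclic A) (hcyc : ¬ IsCyclic P) :
    p = 2 ∧ ((∃ n : ℕ, 1 ≤ n ∧ Nonempty (P ≃* QuaternionGroup (2 ^ n))) ∨
      (∃ n : ℕ, 3 ≤ n ∧ Nonempty (P ≃* DihedralGroup (2 ^ n))) ∨ Cfsg.IsQuasiDihedral P) := by
  by_cases hp2 : p = 2
  · subst hp2
    exact ⟨rfl, classify hP hn hcyc⟩
  · exfalso
    obtain ⟨z, -, -, N, hN, -, hNc, hNp, -⟩ :=
      Cfsg.Agent.Lib.NormalRankTwo.exists_normal_rank_two hp2 _ P rfl hP hcyc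
    have hNcomm : IsMulCommutative N := IsPGroup.isMulCommutative_of_card_eq_prime_sq hNc
    have hNcyc := hn N hN hNcomm
    obtain ⟨⟨g, hg⟩, hgen⟩ := hNcyc.exists_generator
    have h1 : Nat.card N = orderOf (⟨g, hg⟩ : N) := by
      rw [← Nat.card_zpowers]
      have : Subgroup.zpowers (⟨g, hg⟩ : N) = ⊤ := eq_top_iff.2 fun x _ => hgen x
      rw [this, Subgroup.card_top]
    have h2 : orderOf (⟨g, hg⟩ : N) ∣ p := by
      rw [Subgroup.orderOf_mk]
      exact orderOf_dvd_of_pow_eq_one (hNp g hg)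
    rw [← h1, hNc] at h2
    have h3 := Nat.le_of_dvd hp.out.pos h2
    have h4 := hp.out.two_le
    nlinarith

end

end Cfsg.Agent.Lib.NormalCyclic
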