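import Mathlib
import Cfsg.Agent.Lib.QuadIndex

/-!
(helper67) Spinor norms of norm one elements of an extension field acting on an orthogonal space.
-/

set_option autoImplicit false
set_option linter.unusedSectionVars false

namespace Cfsg.Agent.Lib.SpinTorus67

open QuadraticMap Module Cfsg.Agent.Lib.Quad

universe u v w

section Gram

variable {F : Type u} {V : Type v} [Field F] [AddCommGroup V] [Module F V] [FiniteDimensional F V]
  {Q : QuadraticForm F V}

/-- computing the Wall discriminant with a family of vectors. -/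
theorem isSquare_wd_mul {ι : Type*} [Fintype ι] [DecidableEq ι] [Nonempty ι] {g : V ≃ₗ[F] V} (hg : g ∈ O Q)
    (e : ι → V) (hli : LinearIndependent F (fun i => e i - g (e i)))
    (hcard : Fintype.card ι = finrank F (mov g)) :
    IsSquare (wd Q g * (Matrix.of fun i j => polar Q (e i - g (e i)) (e j)).det) := by
  have hli' : LinearIndependent F (fun i => (Submodule.Quotient.mk (e i) : V ⧸ fixS g)) := by
    rw [Fintype.linearIndependent_iff]
    intro a ha
    have h1 : ∑ i, a i • e i ∈ fixS g := by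
      rw [← Submodule.Quotient.mk_eq_zero, ← ha]
      rw [← Submodule.mkQ_apply, map_sum]
      simp
    rw [mem_fixS, map_sum] at h1
    have h2 : ∑ i, a i • (e i - g (e i)) = 0 := by
      simp only [smul_sub, Finset.sum_sub_distrib]
      rw [sub_eq_zero, ← h1]
      exact Finset.sum_congr rfl fun i _ => map_smul _ _ _
    exact Fintype.linearIndependent_iff.1 hli a h2
  have hcard' : Fintype.card ι = finrank F (V ⧸ fixS g) := by
    have h1 := Submodule.finrank_quotient_add_finrank (fixS g)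
    have h2 := finrank_mov_add_fixS g
    omega
  let b := basisOfLinearIndependentOfCardEqFinrank hli' hcard'
  have hb : ∀ i, b i = Submodule.Quotient.mk (e i) := fun i => by simp [b]
  have hmat : LinearMap.BilinForm.toMatrix b (wallQ hg) = Matrix.of fun i j => polar Q (e i - g (e i)) (e j) := by
    ext i j
    rw [LinearMap.BilinForm.toMatrix_apply, hb, hb, wallQ_mk]
    rfl
  have h1 := isSquare_det_mul_det b (finBasis F (V ⧸ fixS g)) (wallQ hg)
  rw [hmat] at h1
  rw [wd, dif_pos hg]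
  exact h1

theorem gram_det_ne_zero (hQ : Nd Q) {ι : Type*} [Fintype ι] [DecidableEq ι] [Nonempty ι] {g : V ≃ₗ[F] V} (hg : g ∈ O Q)
    (e : ι → V) (hli : LinearIndependent F (fun i => e i - g (e i)))
    (hcard : Fintype.card ι = finrank F (mov g)) :
    (Matrix.of fun i j => polar Q (e i - g (e i)) (e j)).det ≠ 0 := by
  have hli' : LinearIndependent F (fun i => (Submodule.Quotient.mk (e i) : V ⧸ fixS g)) := by
    rw [Fintype.linearIndependent_iff]
    intro a ha
    have h1 : ∑ i, a i • e i ∈ fixS g := by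
      rw [← Submodule.Quotient.mk_eq_zero, ← ha]
      rw [← Submodule.mkQ_apply, map_sum]
      simp
    rw [mem_fixS, map_sum] at h1
    have h2 : ∑ i, a i • (e i - g (e i)) = 0 := by
      simp only [smul_sub, Finset.sum_sub_distrib]
      rw [sub_eq_zero, ← h1]
      exact Finset.sum_congr rfl fun i _ => map_smul _ _ _
    exact Fintype.linearIndependent_iff.1 hli a h2
  have hcard' : Fintype.card ι = finrank F (V ⧸ fixS g) := by
    have h1 := Submodule.finrank_quotient_add_finrank (fixS g)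
    have h2 := finrank_mov_add_fixS g
    omega
  let b := basisOfLinearIndependentOfCardEqFinrank hli' hcard'
  have hb : ∀ i, b i = Submodule.Quotient.mk (e i) := fun i => by simp [b]
  have hmat : LinearMap.BilinForm.toMatrix b (wallQ hg) = Matrix.of fun i j => polar Q (e i - g (e i)) (e j) := by
    ext i j
    rw [LinearMap.BilinForm.toMatrix_apply, hb, hb, wallQ_mk]
    rfl
  rw [← hmat]
  exact (LinearMap.BilinForm.nondegenerate_iff_det_ne_zero _).1 (wallQ_nondegenerate hQ hg)

end Gram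

section Field

variable {F : Type u} {K : Type v} [Field F] [Finite F] [Field K] [Finite K] [Algebra F K] [FiniteDimensional F K]

/-- data: a quadratic form on `K` with polar form `φ (x σ(y))`, `σ` of order two. -/
structure Setup (d : ℕ) (Q : QuadraticForm F K) (σ : K ≃ₐ[F] K) (φ : K →ₗ[F] F) : Prop where
  two : (2 : F) ≠ 0
  dpos : 0 < d
  fr : finrank F K = 2 * d
  sig : ∀ x, σ x = x ^ (Nat.card F ^ d)
  nd : Nd Q
  pol : ∀ x y, polar Q x y = φ (x * σ y)

namespace Setup

variable {d : ℕ} {Q : QuadraticForm F K} {σ : K ≃ₐ[F] K} {φ : K →ₗ[F] F}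

theorem two' (h : Setup d Q σ φ) : (2 : K) ≠ 0 := by
  intro h1
  apply h.two
  apply (algebraMap F K).injective
  rw [map_ofNat, map_zero]; exact h1

theorem card (h : Setup d Q σ φ) : Nat.card K = Nat.card F ^ (2 * d) := by
  rw [← h.fr]; exact Module.natCard_eq_pow_finrank

theorem sig_sig (h : Setup d Q σ φ) (x : K) : σ (σ x) = x := by
  have := Fintype.ofFinite K
  rw [h.sig, h.sig, ← pow_mul, ← pow_add, ← two_mul, ← h.card, Nat.card_eq_fintype_card]
  exact FiniteField.pow_card x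

theorem sig_ne_one (h : Setup d Q σ φ) : σ ≠ 1 := by
  intro h1
  have hf := Fintype.ofFinite K
  obtain ⟨z, hz⟩ := IsCyclic.exists_generator (α := Kˣ)
  have hzo : orderOf z = Nat.card F ^ (2 * d) - 1 := by
    rw [orderOf_eq_card_of_forall_mem_zpowers hz, Nat.card_units, h.card]
  have h2 : (z : K) ^ (Nat.card F ^ d) = z := by
    rw [← h.sig, h1]; rfl
  have hq : 1 < Nat.card F := Finite.one_lt_card
  have hqd : 1 < Nat.card F ^ d := Nat.one_lt_pow h.dpos.ne' hq
  have h3 : z ^ (Nat.card F ^ d - 1) = 1 := by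
    apply Units.ext
    push_cast
    have h4 : (z : K) ^ (Nat.card F ^ d - 1) * z = 1 * z := by
      rw [← pow_succ, Nat.sub_add_cancel hqd.le, h2, one_mul]
    exact mul_right_cancel₀ z.ne_zero h4
  have h4 := orderOf_dvd_of_pow_eq_one h3
  rw [hzo] at h4
  have h5 := Nat.le_of_dvd (by omega) h4
  have h6 : Nat.card F ^ d < Nat.card F ^ (2 * d) := Nat.pow_lt_pow_right hq (by have := h.dpos; omega)
  omega

/-- an element with `σ δ = -δ`. -/
theorem exists_delta (h : Setup d Q σ φ) : ∃ δ : K, δ ≠ 0 ∧ σ δ = -δ := by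
  by_contra hcon
  push Not at hcon
  apply h.sig_ne_one
  ext x
  by_contra hx
  apply hcon (σ x - x) (sub_ne_zero.2 hx)
  rw [map_sub, h.sig_sig]; ring

/-- Hilbert 90. -/
theorem hilbert90 (h : Setup d Q σ φ) {ζ : K} (hζ : ζ * σ ζ = 1) : ∃ c : K, c ≠ 0 ∧ c = ζ * σ c := by
  by_cases h1 : 1 + ζ = 0
  · obtain ⟨δ, hδ, hδ'⟩ := h.exists_delta
    refine ⟨δ, hδ, ?_⟩
    have : ζ = -1 := by linear_combination h1
    rw [this, hδ']; ring
  · refine ⟨1 + ζ, h1, ?_⟩
    rw [map_add, map_one]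
    linear_combination -hζ

/-- the fixed field. -/
noncomputable def L (_ : Setup d Q σ φ) : IntermediateField F K := IntermediateField.fixedField (Subgroup.zpowers σ)

theorem mem_L (h : Setup d Q σ φ) {x : K} : x ∈ h.L ↔ σ x = x := by
  rw [L, IntermediateField.mem_fixedField_iff]
  constructor
  · intro h1; exact h1 σ (Subgroup.mem_zpowers σ)
  · rintro h1 _ ⟨k, rfl⟩
    show (σ ^ k) x = x
    have hmem : σ ∈ MulAction.stabilizer (K ≃ₐ[F] K) x := h1
    exact (MulAction.stabilizer (K ≃ₐ[F] K) x).zpow_mem hmem k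

theorem finrank_L (h : Setup d Q σ φ) : finrank F h.L = d := by
  have h1 : finrank h.L K = Nat.card (Subgroup.zpowers σ) := IntermediateField.finrank_fixedField_eq_card _
  have h2 : orderOf σ = 2 := by
    apply orderOf_eq_prime
    · ext x
      rw [pow_two]
      exact h.sig_sig x
    · exact h.sig_ne_one
  rw [Nat.card_zpowers, h2] at h1
  have h3 := Module.finrank_mul_finrank F h.L K
  rw [h1, h.fr] at h3
  omega

theorem card_L (h : Setup d Q σ φ) : Nat.card h.L = Nat.card F ^ d := by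
  have h1 := Module.natCard_eq_pow_finrank (K := F) (V := h.L)
  rw [h1, h.finrank_L]

theorem two_Q (h : Setup d Q σ φ) (x : K) : 2 * Q x = φ (x * σ x) := by
  rw [← h.pol, polar_self']

/-- the map `y ↦ σ(y) c / σ(c)`. -/
noncomputable def tau (_ : Setup d Q σ φ) (c : K) : K →ₗ[F] K := (LinearMap.mulLeft F (c / σ c)) ∘ₗ σ.toLinearMap

theorem tau_apply (h : Setup d Q σ φ) (c y : K) : h.tau c y = c / σ c * σ y := rfl

theorem sig_ne_zero {c : K} (hc : c ≠ 0) : σ c ≠ 0 := by
  intro h1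
  exact hc ((map_eq_zero σ).1 h1)

theorem Q_tau (h : Setup d Q σ φ) {c : K} (hc : c ≠ 0) (y : K) : Q (h.tau c y) = Q y := by
  have h1 : (2 : F) * Q (h.tau c y) = 2 * Q y := by
    rw [h.two_Q, h.two_Q, tau_apply]
    congr 1
    have hc' := sig_ne_zero (σ := σ) hc
    rw [map_mul, map_div₀, h.sig_sig, h.sig_sig]
    field_simp
  exact mul_left_cancel₀ h.two h1

noncomputable def tauE (h : Setup d Q σ φ) {c : K} (hc : c ≠ 0) : K ≃ₗ[F] K := ofMap h.nd (h.tau c) (h.Q_tau hc)

theorem tauE_apply (h : Setup d Q σ φ) {c : K} (hc : c ≠ 0) (y : K) : h.tauE hc y = c / σ c * σ y := rfl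

theorem tauE_mem (h : Setup d Q σ φ) {c : K} (hc : c ≠ 0) : h.tauE hc ∈ O Q := ofMap_mem _ _ _

theorem tauE_neg (h : Setup d Q σ φ) {c : K} (hc : c ≠ 0) {δ : K} (hδ : σ δ = -δ) {l : K} (hl : σ l = l) :
    h.tauE hc (δ * c * l) = -(δ * c * l) := by
  rw [tauE_apply, map_mul, map_mul, hδ, hl]
  have hc' := sig_ne_zero (σ := σ) hc
  field_simp

theorem tauE_fix (h : Setup d Q σ φ) {c : K} (hc : c ≠ 0) {l : K} (hl : σ l = l) :
    h.tauE hc (c * l) = c * l := by
  rw [tauE_apply, map_mul, hl]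
  have hc' := sig_ne_zero (σ := σ) hc
  field_simp

theorem finrank_mov (h : Setup d Q σ φ) {c : K} (hc : c ≠ 0) : finrank F (mov (h.tauE hc)) = d := by
  obtain ⟨δ, hδ0, hδ⟩ := h.exists_delta
  have h1 := finrank_mov_add_fixS (h.tauE hc)
  rw [h.fr] at h1
  have h2 : d ≤ finrank F (mov (h.tauE hc)) := by
    refine h.finrank_L.ge.trans ?_
    let f : h.L →ₗ[F] mov (h.tauE hc) := LinearMap.codRestrict _ ((LinearMap.mulLeft F (-2 * δ * c)) ∘ₗ h.L.val.toLinearMap) (by
      intro l
      refine ⟨δ * c * l, ?_⟩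
      show h.tauE hc (δ * c * l) - δ * c * l = -2 * δ * c * l
      rw [h.tauE_neg hc hδ (h.mem_L.1 l.2)]
      ring)
    apply LinearMap.finrank_le_finrank_of_injective (f := f)
    intro a b hab
    have h3 : -2 * δ * c * (a : K) = -2 * δ * c * (b : K) := congrArg Subtype.val hab
    have h4 : -2 * δ * c ≠ 0 := by
      have := h.two'
      simp [hδ0, hc, this]
    exact Subtype.ext (mul_left_cancel₀ h4 h3)
  have h3 : d ≤ finrank F (fixS (h.tauE hc)) := by
    refine h.finrank_L.ge.trans ?_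
    let f : h.L →ₗ[F] fixS (h.tauE hc) := LinearMap.codRestrict _ ((LinearMap.mulLeft F c) ∘ₗ h.L.val.toLinearMap) (by
      intro l
      rw [mem_fixS]
      exact h.tauE_fix hc (h.mem_L.1 l.2))
    apply LinearMap.finrank_le_finrank_of_injective (f := f)
    intro a b hab
    have h3 : c * (a : K) = c * (b : K) := congrArg Subtype.val hab
    exact Subtype.ext (mul_left_cancel₀ hc h3)
  omega

/-- the norm of `c` to `L`. -/
noncomputable def nu (h : Setup d Q σ φ) (c : K) : h.L := ⟨c * σ c, by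
  rw [h.mem_L, map_mul, h.sig_sig, mul_comm]⟩

theorem gram_eq (h : Setup d Q σ φ) {c : K} (hc : c ≠ 0) {δ : K} (hδ : σ δ = -δ) {ι : Type*} [Fintype ι] [DecidableEq ι]
    (b : Basis ι F h.L) :
    (Matrix.of fun i j => polar Q (δ * c * b i - h.tauE hc (δ * c * b i)) (δ * c * b j)) =
      (Algebra.leftMulMatrix b (h.nu c)).transpose *
      (Matrix.of fun i j => polar Q (δ * 1 * b i - h.tauE (one_ne_zero) (δ * 1 * b i)) (δ * 1 * b j)) := by
  ext i j
  rw [Matrix.mul_apply]
  simp only [Matrix.transpose_apply, Matrix.of_apply]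
  have h1 : ∀ i j, polar Q (δ * 1 * b i - h.tauE (one_ne_zero) (δ * 1 * b i)) (δ * 1 * b j) =
      φ (-2 * δ ^ 2 * (b i * b j)) := by
    intro i j
    rw [h.tauE_neg _ hδ (h.mem_L.1 (b i).2), h.pol]
    congr 1
    rw [map_mul, map_mul, hδ, h.mem_L.1 (b j).2, map_one]
    ring
  have h2 : polar Q (δ * c * b i - h.tauE hc (δ * c * b i)) (δ * c * b j) =
      φ (-2 * δ ^ 2 * (((h.nu c * b i : h.L) : K) * b j)) := by
    rw [h.tauE_neg _ hδ (h.mem_L.1 (b i).2), h.pol]
    congr 1
    rw [map_mul, map_mul, hδ, h.mem_L.1 (b j).2]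
    show _ = -2 * δ ^ 2 * ((c * σ c) * b i * b j)
    ring
  rw [h2]
  have h3 : h.nu c * b i = ∑ k, (Algebra.leftMulMatrix b (h.nu c)) k i • b k := by
    have := (b.sum_repr (h.nu c * b i)).symm
    rw [this]
    apply Finset.sum_congr rfl
    intro k _
    rw [Algebra.leftMulMatrix_eq_repr_mul]
  rw [h3]
  have h4 : ((∑ k, (Algebra.leftMulMatrix b (h.nu c)) k i • b k : h.L) : K) =
      ∑ k, (Algebra.leftMulMatrix b (h.nu c)) k i • (b k : K) := by
    rw [IntermediateField.coe_sum]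
    rfl
  rw [h4, Finset.sum_mul, Finset.mul_sum, map_sum]
  apply Finset.sum_congr rfl
  intro k _
  rw [h1, smul_mul_assoc, mul_smul_comm, map_smul]
  rfl

/-- **Spinor norm of a torus element.** -/
theorem spin_ne_one (h : Setup d Q σ φ) (hR : R Q = O Q) {ζ : K} (hζ : ζ * σ ζ = 1)
    (hζ2 : ζ ^ ((Nat.card F ^ d + 1) / 2) ≠ 1) {g : K ≃ₗ[F] K} (hg : ∀ x, g x = ζ * x) :
    ¬ IsSquare (wd Q g) := by
  classical
  intro hsq
  obtain ⟨c, hc, hcζ⟩ := h.hilbert90 hζ
  have hc' := sig_ne_zero (σ := σ) hc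
  have hprod : g = h.tauE hc * h.tauE (one_ne_zero) := by
    ext x
    rw [hg]
    show _ = h.tauE hc (h.tauE _ x)
    rw [tauE_apply, tauE_apply, map_mul, map_div₀, map_one, map_one, h.sig_sig]
    have : c / σ c = ζ := by rw [div_eq_iff hc']; exact hcζ
    rw [this]
    simp
  have h1 := (wd_mul_isSquare_iff h.nd (hR.symm ▸ h.tauE_mem hc : h.tauE hc ∈ R Q)
    (hR.symm ▸ h.tauE_mem one_ne_zero : h.tauE (one_ne_zero) ∈ R Q)).1 (hprod ▸ hsq)
  obtain ⟨δ, hδ0, hδ⟩ := h.exists_delta
  let b := finBasis F h.L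
  have hne : Nonempty (Fin (finrank F h.L)) := ⟨⟨0, by rw [h.finrank_L]; exact h.dpos⟩⟩
  have hli : ∀ {c : K} (hc : c ≠ 0), LinearIndependent F (fun i => (δ * c * b i - h.tauE hc (δ * c * b i) : K)) := by
    intro c hc
    have h2 : (fun i => (δ * c * b i - h.tauE hc (δ * c * b i) : K)) =
        fun i => ((LinearMap.mulLeft F (2 * δ * c)) ∘ₗ h.L.val.toLinearMap) (b i) := by
      funext i
      rw [h.tauE_neg hc hδ (h.mem_L.1 (b i).2)]
      show _ = 2 * δ * c * (b i : K)
      ring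
    rw [h2]
    apply b.linearIndependent.map'
    rw [LinearMap.ker_eq_bot]
    intro x y hxy
    have h3 : 2 * δ * c * (x : K) = 2 * δ * c * (y : K) := hxy
    have h4 : 2 * δ * c ≠ 0 := by
      have := h.two'
      simp [hδ0, hc, this]
    exact Subtype.ext (mul_left_cancel₀ h4 h3)
  have hcd : ∀ {c : K} (hc : c ≠ 0), Fintype.card (Fin (finrank F h.L)) = finrank F (mov (h.tauE hc)) := by
    intro c hc
    rw [Fintype.card_fin, h.finrank_mov hc, h.finrank_L]
  have s1 := isSquare_wd_mul (h.tauE_mem hc) _ (hli hc) (hcd hc)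
  have s2 := isSquare_wd_mul (h.tauE_mem one_ne_zero) _ (hli one_ne_zero) (hcd one_ne_zero)
  have n1 := gram_det_ne_zero h.nd (h.tauE_mem hc) _ (hli hc) (hcd hc)
  have n2 := gram_det_ne_zero h.nd (h.tauE_mem one_ne_zero) _ (hli one_ne_zero) (hcd one_ne_zero)
  rw [isSquare_mul_iff (wd_ne_zero h.nd _) n1] at s1
  rw [isSquare_mul_iff (wd_ne_zero h.nd _) n2] at s2
  have hdet := congrArg Matrix.det (h.gram_eq hc hδ b)
  rw [Matrix.det_mul, Matrix.det_transpose, ← Algebra.norm_eq_matrix_det b] at hdet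
  set G1 := (Matrix.of fun i j => polar Q (δ * c * b i - h.tauE hc (δ * c * b i)) (δ * c * b j)).det
  set G2 := (Matrix.of fun i j => polar Q (δ * 1 * b i - h.tauE (one_ne_zero) (δ * 1 * b i)) (δ * 1 * b j)).det
  have hN : IsSquare (Algebra.norm F (h.nu c)) := by
    have hN0 : Algebra.norm F (h.nu c) ≠ 0 := by
      intro h0
      apply n1
      rw [hdet, h0, zero_mul]
    by_contra hN
    have h5 : IsSquare G1 ↔ IsSquare G2 := by rw [← s1, ← s2]; exact h1
    rw [hdet, isSquare_mul_iff hN0 n2] at h5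
    tauto
  -- conclusion
  have hq : 1 < Nat.card F := Finite.one_lt_card
  have hodd : Odd (Nat.card F) := by
    have hf := Fintype.ofFinite F
    rw [Nat.card_eq_fintype_card]
    by_contra hne
    rw [Nat.not_odd_iff_even] at hne
    apply h.two
    obtain ⟨r, hr⟩ := CharP.exists F
    obtain ⟨n, hrp, hn⟩ := FiniteField.card F r
    rw [hn] at hne
    have h2r : r = 2 := by
      rw [Nat.even_pow] at hne
      rcases hrp.eq_two_or_odd' with h6 | h6
      · exact h6
      · exact absurd hne.1 (Nat.not_even_iff_odd.2 h6)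
    subst h2r
    exact CharTwo.two_eq_zero
  obtain ⟨s, hs⟩ := hN
  have hs0 : s ≠ 0 := by
    rintro rfl
    apply n1
    rw [hdet, hs, zero_mul, zero_mul]
  have h6 : (algebraMap F h.L (Algebra.norm F (h.nu c))) ^ ((Nat.card F - 1) / 2) = 1 := by
    rw [hs, ← map_pow, ← pow_two, ← pow_mul, Nat.mul_div_cancel' (by
      obtain ⟨t, ht⟩ := hodd; exact ⟨t, by omega⟩)]
    have hf := Fintype.ofFinite F
    rw [Nat.card_eq_fintype_card, FiniteField.pow_card_sub_one_eq_one s hs0, map_one]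
  rw [FiniteField.algebraMap_norm_eq_pow, ← pow_mul, h.card_L] at h6
  have h7 : (Nat.card F ^ d - 1) / (Nat.card F - 1) * ((Nat.card F - 1) / 2) = (Nat.card F ^ d - 1) / 2 := by
    have hd1 : Nat.card F - 1 ∣ Nat.card F ^ d - 1 := by
      simpa using Nat.sub_dvd_pow_sub_pow (Nat.card F) 1 d
    have hd2 : 2 ∣ Nat.card F - 1 := by obtain ⟨t, ht⟩ := hodd; exact ⟨t, by omega⟩
    rw [← Nat.mul_div_assoc _ hd2, Nat.div_mul_cancel hd1]
  rw [h7] at h6
  have h8 : (c * σ c) ^ ((Nat.card F ^ d - 1) / 2) = 1 := congrArg Subtype.val h6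
  apply hζ2
  have hdo : Odd (Nat.card F ^ d) := hodd.pow
  obtain ⟨t, ht⟩ := hdo
  have e1 : (Nat.card F ^ d - 1) / 2 = t := by omega
  have e2 : (Nat.card F ^ d + 1) / 2 = t + 1 := by omega
  rw [e1] at h8
  rw [e2]
  have hζc : ζ = c / σ c := by rw [eq_div_iff hc']; exact hcζ.symm
  have hsc : σ c = c ^ (2 * t + 1) := by rw [h.sig, ht]
  have h9 : c ^ (2 * t * (t + 1)) = 1 := by
    rw [← h8, hsc, ← pow_succ', ← pow_mul]
    congr 1
    ring
  rw [hζc, hsc, div_pow, ← pow_mul, div_eq_one_iff_eq (pow_ne_zero _ hc)]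
  have h10 : (2 * t + 1) * (t + 1) = 2 * t * (t + 1) + (t + 1) := by ring
  rw [h10, pow_add c (2 * t * (t + 1)), h9, one_mul]

end Setup

end Field

end Cfsg.Agent.Lib.SpinTorus67
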