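import Mathlib
import Cfsg.Agent.Lib.FieldStruct67
import Cfsg.Agent.Lib.SpinTorus67

/-!
(helper67) `Ω_{2n+1}(q)`, `q` odd, has no element of order `p (q^{n-1} + 1)`.
-/

set_option autoImplicit false

namespace Cfsg.Agent.Lib.OddOrth67

open QuadraticMap Module Cfsg.Agent.Lib.Quad Cfsg.Agent.Lib

universe u v w

section

variable {F : Type u} {V : Type v} [Field F] [AddCommGroup V] [Module F V] [FiniteDimensional F V]
  {Q : QuadraticForm F V}

omit [FiniteDimensional F V] in
theorem fix_inf_mov {a : V ≃ₗ[F] V} {r : ℕ} (har : a ^ r = 1) (hr : (r : F) ≠ 0) {x : V} (hx : x ∈ fixS a)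
    (hx' : x ∈ mov a) : x = 0 := by
  rw [mem_fixS] at hx
  obtain ⟨y, hy⟩ := mem_mov.1 hx'
  have h1 : ∀ k : ℕ, (a ^ k) x = x := by
    intro k
    induction k with
    | zero => rfl
    | succ k ih =>
      rw [pow_succ]
      show (a ^ k) (a x) = x
      rw [hx, ih]
  have h2 : ∑ i ∈ Finset.range r, (a ^ i) x = (r : F) • x := by
    rw [Finset.sum_congr rfl fun i _ => h1 i, Finset.sum_const, Finset.card_range, Nat.cast_smul_eq_nsmul]
  have h3 : ∑ i ∈ Finset.range r, (a ^ i) x = 0 := by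
    have h4 : ∀ i ∈ Finset.range r, (a ^ i) x = (a ^ (i + 1)) y - (a ^ i) y := by
      intro i _
      rw [← hy, map_sub, pow_succ]; rfl
    rw [Finset.sum_congr rfl h4, Finset.sum_range_sub (fun i => (a ^ i) y), har]
    simp
  rw [h3] at h2
  exact (smul_eq_zero.1 h2.symm).resolve_left hr

theorem fix_sup_mov {a : V ≃ₗ[F] V} {r : ℕ} (har : a ^ r = 1) (hr : (r : F) ≠ 0) :
    fixS a ⊓ mov a = ⊥ ∧ fixS a ⊔ mov a = ⊤ := by
  have h1 : fixS a ⊓ mov a = ⊥ := by
    rw [eq_bot_iff]
    rintro x ⟨hx, hx'⟩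
    rw [Submodule.mem_bot]
    exact fix_inf_mov har hr hx hx'
  refine ⟨h1, ?_⟩
  apply Submodule.eq_top_of_finrank_eq
  have h2 := Submodule.finrank_sup_add_finrank_inf_eq (fixS a) (mov a)
  rw [h1, finrank_bot, add_zero] at h2
  rw [h2, add_comm]
  exact finrank_mov_add_fixS a

omit [FiniteDimensional F V] in
/-- maps commuting with `a` preserve its fixed space and its residual space. -/
theorem comm_fix {a h : V ≃ₗ[F] V} (hc : a * h = h * a) {x : V} (hx : x ∈ fixS a) : h x ∈ fixS a := by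
  rw [mem_fixS] at hx ⊢
  have := LinearEquiv.congr_fun hc x
  have h1 : a (h x) = h (a x) := this
  rw [h1, hx]

omit [FiniteDimensional F V] in
theorem comm_mov {a h : V ≃ₗ[F] V} (hc : a * h = h * a) {x : V} (hx : x ∈ mov a) : h x ∈ mov a := by
  obtain ⟨y, hy⟩ := mem_mov.1 hx
  refine mem_mov.2 ⟨h y, ?_⟩
  have h1 : a (h y) = h (a y) := LinearEquiv.congr_fun hc y
  rw [h1, ← map_sub, hy]

end

/-- the structure coming from an element of primitive prime order. -/
theorem structure_lemma {F : Type u} {V : Type v} [Field F] [Finite F] [AddCommGroup V] [Module F V]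
    [FiniteDimensional F V] {Q : QuadraticForm F V} (hQ : Nd Q) (h2 : (2 : F) ≠ 0) {d : ℕ} (hd : 0 < d)
    {a : V ≃ₗ[F] V} (ha : a ∈ O Q) {r : ℕ} [hr : Fact r.Prime] (har : a ^ r = 1) (hrF : (r : F) ≠ 0)
    (hW : finrank F (mov a) = 2 * d) (hord : ∀ k, 0 < k → r ∣ Nat.card F ^ k - 1 → 2 * d ∣ k)
    (hrd : r ∣ Nat.card F ^ d + 1) :
    ∃ (K : Type v) (_ : Field K) (_ : Finite K) (_ : Algebra F K) (_ : FiniteDimensional F K)
      (σ : K ≃ₐ[F] K) (φ : K →ₗ[F] F) (Q' : QuadraticForm F K) (j : K →ₗ[F] V),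
      SpinTorus67.Setup d Q' σ φ ∧ (∀ x, Q' x = Q (j x)) ∧ Function.Injective j ∧ LinearMap.range j = mov a ∧
      ∀ h ∈ O Q, a * h = h * a → ∃ ζ : K, ζ * σ ζ = 1 ∧ ∀ x, h (j x) = j (ζ * x) := by
  classical
  have hf := Fintype.ofFinite F
  obtain ⟨hinf, hsup⟩ := fix_sup_mov har hrF
  have hWnt : Nontrivial (mov a) := by
    apply Module.nontrivial_of_finrank_pos (R := F)
    rw [hW]; omega
  have hinv : ∀ x ∈ mov a, (a : V →ₗ[F] V) x ∈ mov a := fun x hx => comm_mov rfl hx
  let T : End F (mov a) := (a : V →ₗ[F] V).restrict hinv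
  have hTpow : ∀ (k : ℕ) (x : mov a), (((T ^ k) x : mov a) : V) = (a ^ k) x := by
    intro k
    induction k with
    | zero => intro x; rfl
    | succ k ih =>
      intro x
      rw [pow_succ, pow_succ, Module.End.mul_apply, ih]; rfl
  obtain ⟨K, _, _, _, _, _, _, hK1, hK2, t, ht, hadj, hS⟩ := FieldStruct67.exists_field (r := r) (by rw [hW]; exact hord) T
    (by
      ext x
      rw [hTpow, har]; rfl) (by
      intro x hx
      apply Subtype.ext
      exact fix_inf_mov har hrF (mem_fixS.2 (congrArg Subtype.val hx)) x.2)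
  rw [hW] at hK1
  let σ : K ≃ₐ[F] K := (FiniteField.frobeniusAlgEquivOfAlgebraic F K) ^ d
  have hσ : ∀ x, σ x = x ^ (Nat.card F ^ d) := by
    intro x
    have h1 : ⇑σ = (⇑(FiniteField.frobeniusAlgEquivOfAlgebraic F K))^[d] := AlgEquiv.coe_pow _ _
    rw [h1, FiniteField.coe_frobeniusAlgEquivOfAlgebraic_iterate, Nat.card_eq_fintype_card]
  -- the adjoint property
  have hT1 : t ^ (Nat.card F ^ d + 1) = 1 := by
    obtain ⟨c, hc⟩ := hrd
    have htr : t ^ r = 1 := by
      have hpow : ∀ (k : ℕ) (x : mov a), t ^ k • x = (T ^ k) x := by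
        intro k
        induction k with
        | zero => intro x; rw [pow_zero, pow_zero, one_smul]; rfl
        | succ k ih => intro x; rw [pow_succ, pow_succ, mul_smul, ih, ht]; rfl
      obtain ⟨x, hx⟩ := exists_ne (0 : mov a)
      have h3 : (t ^ r - 1) • x = 0 := by
        rw [sub_smul, one_smul, hpow, sub_eq_zero]
        apply Subtype.ext
        rw [hTpow, har]; rfl
      rcases smul_eq_zero.1 h3 with h4 | h4
      · exact sub_eq_zero.1 h4
      · exact absurd h4 hx
    rw [hc, pow_mul, htr, one_pow]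
  have hadjoint : ∀ k : K, ∀ x y : mov a, polar Q ((k • x : mov a) : V) (y : V) = polar Q (x : V) ((σ k • y : mov a) : V) := by
    intro k
    have hk : k ∈ Algebra.adjoin F {t} := by rw [hadj]; trivial
    induction hk using Algebra.adjoin_induction with
    | mem x hx =>
      rw [Set.mem_singleton_iff] at hx
      subst hx
      intro u v
      have h3 : v = x • (σ x • v) := by
        rw [smul_smul, hσ, ← pow_succ', hT1, one_smul]
      have h4 : ((v : mov a) : V) = a ((σ x • v : mov a) : V) := by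
        conv_lhs => rw [h3, ht]
        rfl
      rw [ht]
      conv_lhs => rw [h4]
      exact O_polar ha _ _
    | algebraMap c =>
      intro u v
      rw [AlgEquiv.commutes, algebraMap_smul, algebraMap_smul, Submodule.coe_smul, Submodule.coe_smul, polar_smul_left, polar_smul_right]
    | add x y _ _ hx hy =>
      intro u v
      rw [add_smul, map_add, add_smul, Submodule.coe_add, Submodule.coe_add, polar_add_left, polar_add_right, hx, hy]
    | mul x y _ _ hx hy =>
      intro u v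
      rw [mul_smul, hx, hy, map_mul, mul_comm, mul_smul]
  obtain ⟨w0, hw0⟩ := exists_ne (0 : mov a)
  have hgen := (finrank_eq_one_iff_of_nonzero' (K := K) w0 hw0).1 hK2
  let j : K →ₗ[F] V := (mov a).subtype ∘ₗ (LinearMap.toSpanSingleton K (mov a) w0).restrictScalars F
  have hj : ∀ k : K, j k = ((k • w0 : mov a) : V) := fun k => rfl
  have hjinj : Function.Injective j := by
    intro x y hxy
    have h3 : x • w0 = y • w0 := Subtype.ext hxy
    have h4 : (x - y) • w0 = 0 := by rw [sub_smul, h3, sub_self]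
    rcases smul_eq_zero.1 h4 with h5 | h5
    · exact sub_eq_zero.1 h5
    · exact absurd h5 hw0
  have hjrange : LinearMap.range j = mov a := by
    apply le_antisymm
    · rintro _ ⟨k, rfl⟩
      exact (k • w0 : mov a).2
    · intro x hx
      obtain ⟨k, hk⟩ := hgen ⟨x, hx⟩
      exact ⟨k, by rw [hj, hk]⟩
  let φ : K →ₗ[F] F := (polarBilin Q (w0 : V)) ∘ₗ j
  have hφ : ∀ k, φ k = polar Q (w0 : V) (j k) := fun k => rfl
  let Q' : QuadraticForm F K := Q.comp j
  have hQ' : ∀ x, Q' x = Q (j x) := fun x => rfl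
  have hpol : ∀ x y, polar Q' x y = polar Q (j x) (j y) := fun x y => (polar_map (Q' := Q) (Q := Q') j (fun v => rfl) x y).symm
  have hσσ : ∀ x : K, σ (σ x) = x := by
    intro x
    have hfK := Fintype.ofFinite K
    rw [hσ, hσ, ← pow_mul, ← pow_add, ← two_mul, ← hK1]
    have : Nat.card F ^ finrank F K = Fintype.card K := by
      rw [← Nat.card_eq_fintype_card (α := K)]; exact (Module.natCard_eq_pow_finrank).symm
    rw [this]
    exact FiniteField.pow_card x
  have hpol' : ∀ x y, polar Q' x y = φ (x * σ y) := by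
    intro x y
    rw [hpol, hφ, hj, hj, hj]
    rw [polar_comm Q ((x • w0 : mov a) : V), hadjoint y w0 (x • w0), smul_smul, mul_comm]
  have hmovperp : ∀ x ∈ mov a, (∀ y ∈ mov a, polar Q x y = 0) → x = 0 := by
    intro x hx hxy
    have h3 : x ∈ fixS a := by
      rw [hQ.fixS_eq ha, mem_perp']
      exact hxy
    exact fix_inf_mov har hrF h3 hx
  have hnd : Nd Q' := by
    apply nd_of
    intro x hx
    apply hjinj
    rw [map_zero]
    apply hmovperp (j x) (by rw [← hjrange]; exact ⟨x, rfl⟩)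
    intro y hy
    rw [← hjrange] at hy
    obtain ⟨y, rfl⟩ := hy
    rw [← hpol]; exact hx y
  refine ⟨K, inferInstance, inferInstance, inferInstance, inferInstance, σ, φ, Q', j, ⟨h2, hd, hK1, hσ, hnd, hpol'⟩, hQ', hjinj,
    hjrange, ?_⟩
  intro h hh hah
  have hinvh : ∀ x ∈ mov a, (h : V →ₗ[F] V) x ∈ mov a := fun x hx => comm_mov hah hx
  obtain ⟨ζ, hζ⟩ := hS ((h : V →ₗ[F] V).restrict hinvh) (by
    ext x
    exact (LinearEquiv.congr_fun hah (x : V)).symm)
  have hζj : ∀ x, h (j x) = j (ζ * x) := by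
    intro x
    rw [hj, hj, mul_smul, hζ]; rfl
  refine ⟨ζ, ?_, hζj⟩
  -- `ζ σ(ζ) = 1`
  have h3 : j (σ ζ * ζ * 1) = j 1 := by
    rw [← sub_eq_zero]
    apply hmovperp
    · apply Submodule.sub_mem
      · rw [← hjrange]; exact ⟨_, rfl⟩
      · rw [← hjrange]; exact ⟨_, rfl⟩
    intro y hy
    rw [← hjrange] at hy
    obtain ⟨y, rfl⟩ := hy
    rw [polar_sub_left, ← hpol, ← hpol, hpol', hpol', sub_eq_zero]
    have h4 : polar Q (h (j 1)) (h (j y)) = polar Q (j 1) (j y) := O_polar hh _ _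
    rw [hζj, hζj, ← hpol, ← hpol, hpol', hpol'] at h4
    rw [← h4]
    congr 1
    rw [map_mul]; ring
  have h4 := hjinj h3
  rw [mul_one] at h4
  rw [mul_comm]; exact h4

end Cfsg.Agent.Lib.OddOrth67
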