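import Mathlib
import Cfsg.Agent.Lib.OrthEmb67

/-!
(helper67) Elements of `Ω` acting on an embedded subspace and on its complement.
-/

set_option autoImplicit false
set_option linter.unusedSectionVars false

namespace Cfsg.Agent.Lib.OrthEmb67

open QuadraticMap Module Cfsg.Agent.Lib.Quad

universe u v w

section

variable {F : Type u} [Field F] [Finite F] {V : Type v} [AddCommGroup V] [Module F V] [FiniteDimensional F V]
  {Q : QuadraticForm F V}
  {W : Type w} [AddCommGroup W] [Module F W] [FiniteDimensional F W] {Q' : QuadraticForm F W}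

theorem perp_range (hQ : Nd Q) (hQ' : Nd Q') {j : W →ₗ[F] V} (hj : ∀ x, Q (j x) = Q' x) :
    Nd (res Q (perp Q (LinearMap.range j))) ∧ finrank F (perp Q (LinearMap.range j)) + finrank F W = finrank F V := by
  have hinj := embedding_injective hQ' hj
  refine ⟨nd_res_of_inf ?_, ?_⟩
  · rw [hQ.perp_perp, eq_bot_iff]
    rintro x ⟨hx1, hx2⟩
    obtain ⟨w, rfl⟩ := hx2
    have hx1 : j w ∈ perp Q (LinearMap.range j) := hx1
    rw [Submodule.mem_bot]
    have hw : w = 0 := by
      apply hQ'.eq_zero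
      intro y
      rw [← polar_map j hj]
      exact mem_perp'.1 hx1 _ ⟨y, rfl⟩
    rw [hw, map_zero]
  · have h1 := hQ.finrank_add_finrank_perp (LinearMap.range j)
    rw [LinearMap.finrank_range_of_inj hinj] at h1
    omega

theorem exists_pair (hQ : Nd Q) (h2 : (2 : F) ≠ 0) (hQ' : Nd Q') {j : W →ₗ[F] V} (hj : ∀ x, Q (j x) = Q' x)
    (hd : finrank F W + 3 ≤ finrank F V) : ∃ v1 v2 : V, (∀ w, polar Q v1 (j w) = 0) ∧ (∀ w, polar Q v2 (j w) = 0) ∧
      Q v1 = 1 ∧ Q v2 = 1 ∧ polar Q v1 v2 = 0 := by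
  obtain ⟨hnd, hfr⟩ := perp_range hQ hQ' hj
  obtain ⟨v, hv1, hv2⟩ := exists_family h2 2 hnd (by omega) (fun _ => (1 : F)) (fun _ => one_ne_zero)
  refine ⟨v 0, v 1, fun w => ?_, fun w => ?_, hv1 0, hv1 1, hv2 0 1 (by decide)⟩
  · exact mem_perp'.1 (v 0).2 _ ⟨w, rfl⟩
  · exact mem_perp'.1 (v 1).2 _ ⟨w, rfl⟩

theorem exists_siegel_pair (hQ : Nd Q) (hQ' : Nd Q') {j : W →ₗ[F] V} (hj : ∀ x, Q (j x) = Q' x)
    (hd : finrank F W + 3 ≤ finrank F V) : ∃ z y : V, (∀ w, polar Q z (j w) = 0) ∧ (∀ w, polar Q y (j w) = 0) ∧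
      z ≠ 0 ∧ Q z = 0 ∧ polar Q z y = 0 ∧ y ∉ F ∙ z := by
  obtain ⟨hnd, hfr⟩ := perp_range hQ hQ' hj
  obtain ⟨z, hz0, hz⟩ := hnd.exists_singular (by omega)
  have h1 : ¬ (perp (res Q (perp Q (LinearMap.range j))) (F ∙ z) ≤ F ∙ z) := by
    intro h
    have h2 := Submodule.finrank_mono h
    rw [hnd.finrank_perp, finrank_span_singleton hz0] at h2
    omega
  obtain ⟨y, hy1, hy2⟩ := Set.not_subset.1 h1
  refine ⟨z, y, fun w => ?_, fun w => ?_, fun h => hz0 (Subtype.ext h), hz, ?_, ?_⟩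
  · exact mem_perp'.1 z.2 _ ⟨w, rfl⟩
  · exact mem_perp'.1 y.2 _ ⟨w, rfl⟩
  · have h3 : y ∈ perp (res Q (perp Q (LinearMap.range j))) (F ∙ z) := hy1
    rw [mem_perp_singleton] at h3
    exact h3
  · intro h
    apply hy2
    obtain ⟨c, hc⟩ := Submodule.mem_span_singleton.1 h
    exact Submodule.mem_span_singleton.2 ⟨c, Subtype.ext hc⟩

/-- order of a Siegel transformation. -/
theorem orderOf_sieg {p : ℕ} [hp : Fact p.Prime] [CharP F p] (hQ : Nd Q) {z y : V} (hz : Q z = 0) (hzy : polar Q z y = 0)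
    (hz0 : z ≠ 0) (hy : y ∉ F ∙ z) : orderOf (sieg hQ hz hzy) = p := by
  have key : ∀ k : ℕ, ∀ x, ((sieg hQ hz hzy) ^ k) x =
      x + polar Q z x • ((k : F) • y) - polar Q ((k : F) • y) x • z - (Q ((k : F) • y) * polar Q z x) • z := by
    intro k
    have h1 : ∀ k : ℕ, ∃ h : polar Q z ((k : F) • y) = 0, (sieg hQ hz hzy) ^ k = sieg hQ hz h := by
      intro k
      induction k with
      | zero =>
        refine ⟨by rw [Nat.cast_zero, zero_smul, polar_zero_right], ?_⟩
        ext x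
        rw [sieg_apply, Nat.cast_zero, zero_smul]
        simp
      | succ k ih =>
        obtain ⟨h, hk⟩ := ih
        have e : ((k + 1 : ℕ) : F) • y = (k : F) • y + y := by rw [Nat.cast_add, Nat.cast_one, add_smul, one_smul]
        refine ⟨by rw [e, polar_add_right, h, hzy, add_zero], ?_⟩
        rw [pow_succ, hk, sieg_mul]
        congr 1
        rw [e]
    obtain ⟨h, hk⟩ := h1 k
    intro x
    rw [hk, sieg_apply]
  apply orderOf_eq_prime
  · ext x
    rw [key p x, CharP.cast_eq_zero, zero_smul]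
    simp
  · intro h
    obtain ⟨x, hx⟩ := hQ.exists_polar_one' hz0
    have h1 := LinearEquiv.congr_fun h x
    rw [sieg_apply, hx] at h1
    have h2 : y = (polar Q y x + Q y) • z := by
      have h3 : x + (1 : F) • y - polar Q y x • z - (Q y * 1) • z = x := h1
      rw [one_smul, mul_one] at h3
      rw [add_smul]
      have h4 : y - (polar Q y x • z + Q y • z) = 0 := by
        have h5 : y - (polar Q y x • z + Q y • z) = (x + y - polar Q y x • z - Q y • z) - x := by abel
        rw [h5, h3, sub_self]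
      exact sub_eq_zero.1 h4
    exact hy (Submodule.mem_span_singleton.2 ⟨_, h2.symm⟩)

theorem exists_two_mul (hQ : Nd Q) (h2 : (2 : F) ≠ 0) (hQ' : Nd Q') (hd : finrank F W + 3 ≤ finrank F V)
    {y : W ≃ₗ[F] W} (hy : y ∈ O Q') (hyo : Odd (orderOf y)) : ∃ g ∈ Om Q, orderOf g = 2 * orderOf y := by
  obtain ⟨j, hj⟩ := exists_embedding h2 hQ hQ' (by omega)
  obtain ⟨v1, v2, h1j, h2j, hq1, hq2, hp⟩ := exists_pair hQ h2 hQ' hj hd
  set t := extHom Q hQ' j hj y with ht
  have htO : t ∈ O Q := extHom_mem hQ' hj hy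
  have hto : orderOf t = orderOf y := orderOf_injective _ (extHom_injective hQ' hj) y
  have htOm : t ∈ Om Q := odd_mem_Om hQ h2 htO (by rw [hto]; exact hyo)
  set z := refl Q v1 * refl Q v2 with hz
  have hv1 : Q v1 ≠ 0 := by rw [hq1]; exact one_ne_zero
  have hv2 : Q v2 ≠ 0 := by rw [hq2]; exact one_ne_zero
  have hzOm : z ∈ Om Q := by
    have h3 := (hQ.list_mem_Om_iff (genHyp_of_two_ne_zero h2) [v1, v2] (by
      intro v hv
      simp only [List.mem_cons, List.not_mem_nil, or_false] at hv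
      rcases hv with rfl | rfl
      · exact hv1
      · exact hv2)).2 ⟨by simp, by simp [hq1, hq2]⟩
    simpa using h3
  have hcomm1 : ∀ v, (∀ w, polar Q v (j w) = 0) → t * refl Q v = refl Q v * t := by
    intro v hv
    have h3 := refl_conj htO v
    rw [extHom_perp hQ' hj y hv] at h3
    exact mul_inv_eq_iff_eq_mul.1 h3
  have hcomm : t * z = z * t := by
    rw [hz, ← mul_assoc, hcomm1 v1 h1j, mul_assoc, hcomm1 v2 h2j, mul_assoc]
  have hzo : orderOf z = 2 := by
    apply orderOf_eq_prime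
    · have h3 : refl Q v1 * refl Q v2 = refl Q v2 * refl Q v1 := by
        have h4 := refl_conj (refl_mem (Q := Q) v1) v2
        rw [refl_of_perp hp, refl_inv] at h4
        have h5 : refl Q v1 * refl Q v2 * refl Q v1 * refl Q v1 = refl Q v2 * refl Q v1 := by rw [h4]
        rw [mul_assoc (refl Q v1 * refl Q v2), refl_mul_self, mul_one] at h5
        exact h5
      rw [pow_two, hz]
      conv_lhs => rhs; rw [h3]
      rw [mul_assoc, ← mul_assoc (refl Q v2), refl_mul_self, one_mul, refl_mul_self]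
    · intro h
      have h3 : z v1 = v1 := by rw [h]; rfl
      have h4 : z v1 = refl Q v1 (refl Q v2 v1) := rfl
      have h7 : refl Q v2 v1 = v1 := refl_of_perp (by rw [polar_comm]; exact hp)
      rw [h4, h7, refl_self hv1] at h3
      have h5 : (2 : F) • v1 = 0 := by
        rw [two_smul]
        conv_lhs => lhs; rw [← h3]
        exact neg_add_cancel v1
      have h6 := (smul_eq_zero.1 h5).resolve_left h2
      rw [h6, QuadraticMap.map_zero] at hq1
      exact zero_ne_one hq1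
  refine ⟨t * z, mul_mem htOm hzOm, ?_⟩
  rw [Commute.orderOf_mul_eq_mul_orderOf_of_coprime hcomm (by rw [hto, hzo]; exact (Nat.coprime_two_right).2 hyo), hto, hzo,
    mul_comm]

theorem exists_p_mul {p : ℕ} [hp : Fact p.Prime] [CharP F p] (hQ : Nd Q) (h2 : (2 : F) ≠ 0) (hQ' : Nd Q')
    (hd : finrank F W + 3 ≤ finrank F V) {y : W ≃ₗ[F] W} (hy : y ∈ O Q') (hyo : Odd (orderOf y))
    (hcop : Nat.Coprime (orderOf y) p) :
    ∃ g ∈ Om Q, orderOf g = p * orderOf y := by
  have hpodd : Odd p := by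
    apply hp.out.odd_of_ne_two
    rintro rfl
    exact h2 (by exact_mod_cast CharP.cast_eq_zero F 2)
  obtain ⟨j, hj⟩ := exists_embedding h2 hQ hQ' (by omega)
  obtain ⟨z, v, hzj, hvj, hz0, hz, hzv, hv⟩ := exists_siegel_pair hQ hQ' hj hd
  set t := extHom Q hQ' j hj y with ht
  have htO : t ∈ O Q := extHom_mem hQ' hj hy
  have hto : orderOf t = orderOf y := orderOf_injective _ (extHom_injective hQ' hj) y
  set u := sieg hQ hz hzv with hu
  have huo : orderOf u = p := orderOf_sieg hQ hz hzv hz0 hv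
  have htz : t z = z := extHom_perp hQ' hj y hzj
  have htv : t v = v := extHom_perp hQ' hj y hvj
  have hcomm : t * u = u * t := by
    ext x
    show t (u x) = u (t x)
    rw [hu, sieg_apply, sieg_apply]
    simp only [map_add, map_sub, map_smul, htz, htv]
    have e1 : polar Q z (t x) = polar Q z x := by
      conv_lhs => rw [← htz]
      exact O_polar htO _ _
    have e2 : polar Q v (t x) = polar Q v x := by
      conv_lhs => rw [← htv]
      exact O_polar htO _ _
    rw [e1, e2]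
  have ho : orderOf (t * u) = p * orderOf y := by
    rw [Commute.orderOf_mul_eq_mul_orderOf_of_coprime hcomm (by rw [hto, huo]; exact hcop), hto, huo, mul_comm]
  refine ⟨t * u, odd_mem_Om hQ h2 (mul_mem htO (sieg_mem hQ hz hzv)) (by rw [ho]; exact hpodd.mul hyo), ho⟩

/-- squares of isometries of small nondegenerate spaces. -/
theorem exists_sq (hQ : Nd Q) (h2 : (2 : F) ≠ 0) (hQ' : Nd Q') (hd : finrank F W < finrank F V)
    {s : W ≃ₗ[F] W} (hs : s ∈ O Q') : ∃ g ∈ Om Q, orderOf g = orderOf (s ^ 2) := by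
  obtain ⟨j, hj⟩ := exists_embedding h2 hQ hQ' hd
  refine ⟨(extHom Q hQ' j hj s) ^ 2, sq_mem_Om hQ h2 (extHom_mem hQ' hj hs), ?_⟩
  rw [← map_pow]
  exact orderOf_injective _ (extHom_injective hQ' hj) _

theorem exists_odd (hQ : Nd Q) (h2 : (2 : F) ≠ 0) (hQ' : Nd Q') (hd : finrank F W < finrank F V)
    {s : W ≃ₗ[F] W} (hs : s ∈ O Q') (ho : Odd (orderOf s)) : ∃ g ∈ Om Q, orderOf g = orderOf s := by
  obtain ⟨j, hj⟩ := exists_embedding h2 hQ hQ' hd
  have hto : orderOf (extHom Q hQ' j hj s) = orderOf s := orderOf_injective _ (extHom_injective hQ' hj) s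
  exact ⟨extHom Q hQ' j hj s, odd_mem_Om hQ h2 (extHom_mem hQ' hj hs) (by rw [hto]; exact ho), hto⟩

end

end Cfsg.Agent.Lib.OrthEmb67
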