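import Mathlib
import Cfsg.Agent.Lib.OrthEmbB67
import Cfsg.Agent.Lib.OddOrth67
import Cfsg.Agent.Lib.AltForm

/-!
(helper67) Passing from symplectic to orthogonal spaces: `x ↦ A((y - y⁻¹) x, x)`.
-/

set_option autoImplicit false
set_option linter.unusedSectionVars false

namespace Cfsg.Agent.Lib.SympOrth67

open QuadraticMap Module Cfsg.Agent.Lib.Quad Cfsg.Agent.Lib

universe u v w

section Restrict

variable {F : Type u} [Field F] {V : Type v} [AddCommGroup V] [Module F V] [FiniteDimensional F V]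

/-- restriction of an automorphism to an invariant subspace. -/
noncomputable def rst (g : V ≃ₗ[F] V) (D : Submodule F V) (h : ∀ x ∈ D, g x ∈ D) : D ≃ₗ[F] D :=
  LinearEquiv.ofInjectiveEndo ((g : V →ₗ[F] V).restrict h) (by
    intro x y hxy
    exact Subtype.ext (g.injective (congrArg Subtype.val hxy)))

theorem coe_rst (g : V ≃ₗ[F] V) (D : Submodule F V) (h : ∀ x ∈ D, g x ∈ D) (x : D) : ((rst g D h x : D) : V) = g x := rfl

theorem coe_rst_pow (g : V ≃ₗ[F] V) (D : Submodule F V) (h : ∀ x ∈ D, g x ∈ D) (k : ℕ) (x : D) :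
    ((((rst g D h) ^ k) x : D) : V) = (g ^ k) x := by
  induction k generalizing x with
  | zero => rfl
  | succ k ih =>
    rw [pow_succ, pow_succ]
    show ((((rst g D h) ^ k) (rst g D h x) : D) : V) = (g ^ k) (g x)
    rw [ih, coe_rst]

theorem rst_pow_eq_one_iff (g : V ≃ₗ[F] V) (D : Submodule F V) (h : ∀ x ∈ D, g x ∈ D) (k : ℕ) :
    (rst g D h) ^ k = 1 ↔ ∀ x ∈ D, (g ^ k) x = x := by
  constructor
  · intro h1 x hx
    have h2 := LinearEquiv.congr_fun h1 ⟨x, hx⟩
    have h3 := congrArg Subtype.val h2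
    rw [coe_rst_pow] at h3
    exact h3
  · intro h1
    ext x
    rw [coe_rst_pow, h1 _ x.2]; rfl

theorem rst_mem {Q : QuadraticForm F V} {g : V ≃ₗ[F] V} (hg : g ∈ O Q) (D : Submodule F V) (h : ∀ x ∈ D, g x ∈ D) :
    rst g D h ∈ O (res Q D) := fun x => hg x

theorem pow_fix {g : V ≃ₗ[F] V} {x : V} (h : g x = x) (k : ℕ) : (g ^ k) x = x := by
  induction k with
  | zero => rfl
  | succ k ih => rw [pow_succ]; show (g ^ k) (g x) = x; rw [h, ih]

theorem inv_mem_of_mem {g : V ≃ₗ[F] V} {D : Submodule F V} (h : ∀ x ∈ D, g x ∈ D) : ∀ x ∈ D, g⁻¹ x ∈ D := by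
  intro x hx
  obtain ⟨y, hy⟩ := (rst g D h).surjective ⟨x, hx⟩
  have h1 : g y = x := congrArg Subtype.val hy
  have h2 : g⁻¹ x = y := by rw [← h1]; exact g.symm_apply_apply _
  rw [h2]; exact y.2

/-- `-1` -/
noncomputable def ng (F : Type u) [Field F] (V : Type v) [AddCommGroup V] [Module F V] : V ≃ₗ[F] V := LinearEquiv.neg F

theorem ng_apply (x : V) : ng F V x = -x := rfl

theorem ng_comm (g : V ≃ₗ[F] V) : g * ng F V = ng F V * g := by
  ext x
  exact map_neg g x

theorem ng_pow_odd {k : ℕ} (hk : Odd k) : (ng F V) ^ k = ng F V := by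
  obtain ⟨m, rfl⟩ := hk
  have h2 : (ng F V) ^ 2 = 1 := by
    ext x
    rw [pow_two]
    show - - x = x
    exact neg_neg x
  rw [pow_succ, pow_mul, h2, one_pow, one_mul]

theorem ng_sq : (ng F V) * (ng F V) = 1 := by
  ext x
  exact neg_neg x

end Restrict

section Symp

variable {F : Type u} [Field F] [Finite F] {V : Type v} [AddCommGroup V] [Module F V] [FiniteDimensional F V]
  {A : LinearMap.BilinForm F V}

structure Alt (A : LinearMap.BilinForm F V) : Prop where
  alt : ∀ x, A x x = 0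
  nd : ∀ x, (∀ y, A x y = 0) → x = 0

theorem Alt.swap (h : Alt A) (x y : V) : A x y = - A y x := by
  have h1 := h.alt (x + y)
  simp only [map_add, LinearMap.add_apply, h.alt] at h1
  linear_combination h1

/-- isometries of a bilinear form. -/
def Iso (A : LinearMap.BilinForm F V) (g : V ≃ₗ[F] V) : Prop := ∀ x y, A (g x) (g y) = A x y

theorem Iso.mul {g h : V ≃ₗ[F] V} (hg : Iso A g) (hh : Iso A h) : Iso A (g * h) := fun x y => (hg _ _).trans (hh x y)

theorem Iso.pow {g : V ≃ₗ[F] V} (hg : Iso A g) (k : ℕ) : Iso A (g ^ k) := by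
  induction k with
  | zero => intro x y; rfl
  | succ k ih => rw [pow_succ]; exact ih.mul hg

theorem Iso.inv {g : V ≃ₗ[F] V} (hg : Iso A g) : Iso A g⁻¹ := by
  intro x y
  have h1 := hg (g⁻¹ x) (g⁻¹ y)
  have h2 : ∀ z, g (g⁻¹ z) = z := fun z => g.apply_symm_apply z
  rw [h2, h2] at h1
  exact h1.symm

theorem Iso.ng : Iso A (ng F V) := by
  intro x y
  rw [ng_apply, ng_apply, map_neg, map_neg, LinearMap.neg_apply, neg_neg]

/-- `y - y⁻¹` -/
noncomputable def dif (y : V ≃ₗ[F] V) : V →ₗ[F] V := (y : V →ₗ[F] V) - ((y⁻¹ : V ≃ₗ[F] V) : V →ₗ[F] V)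

theorem dif_apply (y : V ≃ₗ[F] V) (x : V) : dif y x = y x - y⁻¹ x := rfl

/-- the quadratic form `A((y - y⁻¹)x, x)`. -/
noncomputable def qf (A : LinearMap.BilinForm F V) (y : V ≃ₗ[F] V) : QuadraticForm F V :=
  LinearMap.BilinMap.toQuadraticMap (A ∘ₗ dif y)

theorem qf_apply (y : V ≃ₗ[F] V) (x : V) : qf A y x = A (dif y x) x := rfl

theorem dif_symm (hA : Alt A) {y : V ≃ₗ[F] V} (hy : Iso A y) (x x' : V) : A (dif y x) x' = A (dif y x') x := by
  have h1 : A (y x) x' = A x (y⁻¹ x') := by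
    rw [← hy x (y⁻¹ x')]
    congr 1
    exact (y.apply_symm_apply x').symm
  have h2 : A (y⁻¹ x) x' = A x (y x') := by
    rw [← hy (y⁻¹ x) x']
    have : y (y⁻¹ x) = x := y.apply_symm_apply x
    rw [this]
  rw [dif_apply, dif_apply, map_sub, map_sub, LinearMap.sub_apply, LinearMap.sub_apply, h1, h2, hA.swap x, hA.swap x]
  ring

theorem polar_qf (hA : Alt A) {y : V ≃ₗ[F] V} (hy : Iso A y) (x x' : V) : polar (qf A y) x x' = 2 * A (dif y x) x' := by
  rw [qf, LinearMap.BilinMap.polar_toQuadraticMap]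
  show A (dif y x) x' + A (dif y x') x = _
  rw [dif_symm hA hy x' x]; ring

theorem mem_O_qf {y T : V ≃ₗ[F] V} (hT : Iso A T) (hc : y * T = T * y) : T ∈ O (qf A y) := by
  intro x
  rw [qf_apply, qf_apply]
  have h1 : dif y (T x) = T (dif y x) := by
    have h2 : y (T x) = T (y x) := LinearEquiv.congr_fun hc x
    have hc' : y⁻¹ * T = T * y⁻¹ := by
      rw [inv_mul_eq_iff_eq_mul, ← mul_assoc, hc, mul_assoc, mul_inv_cancel, mul_one]
    have h3 : y⁻¹ (T x) = T (y⁻¹ x) := LinearEquiv.congr_fun hc' x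
    rw [dif_apply, dif_apply, h2, h3, map_sub]
  rw [h1, hT]

theorem fix_of_dif {y : V ≃ₗ[F] V} (ho : Odd (orderOf y)) {x : V} (h : dif y x = 0) : y x = x := by
  rw [dif_apply, sub_eq_zero] at h
  have h1 : (y ^ 2) x = x := by
    rw [pow_two]
    show y (y x) = x
    rw [h]; exact y.apply_symm_apply x
  obtain ⟨k, hk⟩ := ho
  have h2 : (y ^ 2) ^ (k + 1) = y := by
    rw [← pow_mul]
    have h3 : 2 * (k + 1) = orderOf y + 1 := by omega
    rw [h3, pow_succ, pow_orderOf_eq_one, one_mul]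
  have h3 := pow_fix h1 (k + 1)
  rw [h2] at h3
  exact h3

theorem nd_res_qf (hA : Alt A) (h2 : (2 : F) ≠ 0) {y : V ≃ₗ[F] V} (hy : Iso A y) (ho : Odd (orderOf y))
    {D D' : Submodule F V} (hsup : D ⊔ D' = ⊤) (horth : ∀ x ∈ D, ∀ x' ∈ D', A x x' = 0) (hD : ∀ x ∈ D, y x ∈ D)
    (hfix : ∀ x ∈ D, y x = x → x = 0) : Nd (res (qf A y) D) := by
  apply nd_of
  intro x hx
  apply Subtype.ext
  apply hfix _ x.2
  apply fix_of_dif ho
  apply hA.nd
  intro z
  have hz : z ∈ D ⊔ D' := by rw [hsup]; trivial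
  obtain ⟨a, ha, b, hb, rfl⟩ := Submodule.mem_sup.1 hz
  have h1 := hx ⟨a, ha⟩
  rw [polar_res, polar_qf hA hy] at h1
  have h3 : A (dif y x) a = 0 := (mul_eq_zero.1 h1).resolve_left h2
  have h4 : dif y x ∈ D := by
    rw [dif_apply]
    exact D.sub_mem (hD _ x.2) (inv_mem_of_mem hD _ x.2)
  rw [map_add, h3, horth _ h4 _ hb, add_zero]

/-- nonzero orthogonal summands have dimension at least two. -/
theorem two_le_finrank (hA : Alt A) {D D' : Submodule F V} (hsup : D ⊔ D' = ⊤) (horth : ∀ x ∈ D, ∀ x' ∈ D', A x x' = 0)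
    (hD : D ≠ ⊥) : 2 ≤ finrank F D := by
  obtain ⟨x, hx, hx0⟩ := Submodule.exists_mem_ne_zero_of_ne_bot hD
  by_contra hcon
  have h1 : finrank F D = 1 := by
    have h3 : 0 < finrank F D := by
      have : Nontrivial D := ⟨⟨⟨x, hx⟩, 0, fun h => hx0 (congrArg Subtype.val h)⟩⟩
      exact finrank_pos
    omega
  have h2 := (finrank_eq_one_iff_of_nonzero' (⟨x, hx⟩ : D) (fun h => hx0 (congrArg Subtype.val h))).1 h1
  apply hx0
  apply hA.nd
  intro z
  have hz : z ∈ D ⊔ D' := by rw [hsup]; trivial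
  obtain ⟨a, ha, b, hb, rfl⟩ := Submodule.mem_sup.1 hz
  obtain ⟨c, hc⟩ := h2 ⟨a, ha⟩
  have h3 : a = c • x := (congrArg Subtype.val hc).symm
  rw [map_add, horth x hx b hb, h3, map_smul, hA.alt]
  simp

/-- fixed space and residual space are orthogonal. -/
theorem orth_fix_mov {y : V ≃ₗ[F] V} (hy : Iso A y) {x x' : V} (hx : x ∈ mov y) (hx' : x' ∈ fixS y) : A x x' = 0 := by
  obtain ⟨z, rfl⟩ := hx
  rw [mem_fixS] at hx'
  show A (y z - z) x' = 0
  rw [map_sub, LinearMap.sub_apply]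
  conv_lhs => lhs; rw [← hx']
  rw [hy, sub_self]

end Symp

section Main

variable {F : Type u} [Field F] [Finite F] {V : Type v} [AddCommGroup V] [Module F V] [FiniteDimensional F V]
  {A : LinearMap.BilinForm F V}
  {V' : Type w} [AddCommGroup V'] [Module F V'] [FiniteDimensional F V'] {Q : QuadraticForm F V'}

/-- normalize the lift of an element of odd order. -/
theorem exists_odd_lift (hA : Alt A) [Nontrivial V] {T : V ≃ₗ[F] V} (hT : Iso A T) {N : ℕ} (hN : Odd N)
    (hk : ∀ k, (∃ c : F, ∀ x, (T ^ k) x = c • x) ↔ N ∣ k) : ∃ T' : V ≃ₗ[F] V, Iso A T' ∧ orderOf T' = N := by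
  obtain ⟨c, hc⟩ := (hk N).2 dvd_rfl
  have hcc : c * c = 1 := by
    obtain ⟨x, hx⟩ := exists_ne (0 : V)
    have h1 : ∃ y, A x y ≠ 0 := by
      by_contra hcon
      push Not at hcon
      exact hx (hA.nd x hcon)
    obtain ⟨y, hy⟩ := h1
    have h2 := hT.pow N x y
    simp only [hc, map_smul, LinearMap.smul_apply, smul_eq_mul] at h2
    have h3 : (c * c - 1) * A x y = 0 := by linear_combination h2
    exact sub_eq_zero.1 ((mul_eq_zero.1 h3).resolve_right hy)
  have hdvd : ∀ T' : V ≃ₗ[F] V, (∀ k, ∃ e : F, ∀ x, (T' ^ k) x = e • (T ^ k) x ∧ e * e = 1) → T' ^ N = 1 → orderOf T' = N := by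
    intro T' h1 h2
    apply Nat.dvd_antisymm (orderOf_dvd_of_pow_eq_one h2)
    obtain ⟨e, he⟩ := h1 (orderOf T')
    rw [← hk]
    refine ⟨e, fun x => ?_⟩
    obtain ⟨h3, h4⟩ := he x
    rw [pow_orderOf_eq_one] at h3
    have h5 : e • ((T ^ orderOf T') x) = x := h3.symm
    calc (T ^ orderOf T') x = (e * e) • (T ^ orderOf T') x := by rw [h4, one_smul]
      _ = e • (e • (T ^ orderOf T') x) := mul_smul _ _ _
      _ = e • x := by rw [h5]
  rcases mul_self_eq_one_iff.1 hcc with h1 | h1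
  · refine ⟨T, hT, hdvd T (fun k => ⟨1, fun x => ⟨by rw [one_smul], by ring⟩⟩) ?_⟩
    ext x
    rw [hc, h1, one_smul]; rfl
  · refine ⟨T * ng F V, hT.mul Iso.ng, hdvd _ (fun k => ?_) ?_⟩
    · have hcomm : Commute T (ng F V) := ng_comm T
      rw [hcomm.mul_pow]
      rcases Nat.even_or_odd k with hk' | hk'
      · refine ⟨1, fun x => ⟨?_, by ring⟩⟩
        obtain ⟨m, rfl⟩ := hk'
        have : (ng F V) ^ (m + m) = 1 := by rw [← two_mul, pow_mul, pow_two, ng_sq, one_pow]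
        rw [this, mul_one, one_smul]
      · refine ⟨-1, fun x => ⟨?_, by ring⟩⟩
        rw [ng_pow_odd hk', neg_one_smul]
        show (T ^ k) (-x) = _
        rw [map_neg]
    · have hcomm : Commute T (ng F V) := ng_comm T
      rw [hcomm.mul_pow, ng_pow_odd hN]
      ext x
      show (T ^ N) (-x) = x
      rw [hc, h1, neg_one_smul, neg_neg]

theorem fix_eq_bot_nd (hA : Alt A) (h2 : (2 : F) ≠ 0) {y : V ≃ₗ[F] V} (hy : Iso A y) (ho : Odd (orderOf y))
    (hfix : fixS y = ⊥) : Nd (qf A y) := by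
  apply nd_of
  intro x hx
  have h1 : y x = x := by
    apply fix_of_dif ho
    apply hA.nd
    intro z
    have h1 := hx z
    rw [polar_qf hA hy] at h1
    exact (mul_eq_zero.1 h1).resolve_left h2
  have h3 : x ∈ fixS y := mem_fixS.2 h1
  rw [hfix] at h3
  exact (Submodule.mem_bot F).1 h3

theorem caseA (hA : Alt A) (h2 : (2 : F) ≠ 0) {n : ℕ} (hV : finrank F V = 2 * n) (hQ : Nd Q) (hV' : finrank F V' = 2 * n + 1)
    {T : V ≃ₗ[F] V} (hT : Iso A T) (ho : Odd (orderOf T)) (hN : ((orderOf T : ℕ) : F) ≠ 0) :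
    ∃ g ∈ Om Q, orderOf g = orderOf T := by
  obtain ⟨hinf, hsup⟩ := OddOrth67.fix_sup_mov (pow_orderOf_eq_one T) hN
  have hinv : ∀ x ∈ mov T, T x ∈ mov T := fun x hx => OddOrth67.comm_mov rfl hx
  have hnd : Nd (res (qf A T) (mov T)) := nd_res_qf hA h2 hT ho (by rw [sup_comm]; exact hsup)
    (fun x hx x' hx' => orth_fix_mov hT hx hx') hinv (by
      intro x hx hTx
      exact OddOrth67.fix_inf_mov (pow_orderOf_eq_one T) hN (mem_fixS.2 hTx) hx)
  have hord : orderOf (rst T (mov T) hinv) = orderOf T := by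
    apply orderOf_eq_orderOf_iff.2
    intro k
    rw [rst_pow_eq_one_iff]
    constructor
    · intro h1
      ext x
      have hx : x ∈ fixS T ⊔ mov T := by rw [hsup]; trivial
      obtain ⟨a, ha, b, hb, rfl⟩ := Submodule.mem_sup.1 hx
      rw [map_add, h1 b hb, pow_fix (mem_fixS.1 ha)]; rfl
    · intro h1 x _
      rw [h1]; rfl
  have hle : finrank F (mov T) ≤ 2 * n := hV ▸ Submodule.finrank_le _
  obtain ⟨g, hg, hgo⟩ := OrthEmb67.exists_odd hQ h2 hnd (by omega) (rst_mem (mem_O_qf hT rfl) _ hinv) (by rw [hord]; exact ho)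
  exact ⟨g, hg, hgo.trans hord⟩

/-- the residual space of a power. -/
theorem caseA' {p : ℕ} [hp : Fact p.Prime] [CharP F p] (hA : Alt A) (h2 : (2 : F) ≠ 0) {n : ℕ} (hV : finrank F V = 2 * n)
    (hQ : Nd Q) (hV' : finrank F V' = 2 * n + 1) {T : V ≃ₗ[F] V} (hT : Iso A T) {s : ℕ} (hs : s.Prime) (hsp : s ≠ p)
    (hs2 : s ≠ 2) (ho : orderOf T = p * s) :
    ∃ g ∈ Om Q, orderOf g = p * s := by
  have hpodd : Odd p := by
    apply hp.out.odd_of_ne_two
    rintro rfl
    exact h2 (by exact_mod_cast CharP.cast_eq_zero F 2)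
  have hsodd : Odd s := hs.odd_of_ne_two hs2
  have hcop : Nat.Coprime s p := (Nat.coprime_primes hs hp.out).2 hsp
  set y := T ^ p with hy
  have hyo : orderOf y = s := by
    rw [hy, orderOf_pow_of_dvd hp.out.ne_zero ⟨s, ho⟩, ho, Nat.mul_div_cancel_left _ hp.out.pos]
  have hsF : (s : F) ≠ 0 := by
    intro h
    exact hsp ((Nat.prime_dvd_prime_iff_eq hp.out hs).1 ((CharP.cast_eq_zero_iff F p s).1 h)).symm
  have hyI : Iso A y := hT.pow p
  by_cases hfix : fixS y = ⊥
  · have hnd := fix_eq_bot_nd hA h2 hyI (by rw [hyo]; exact hsodd) hfix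
    obtain ⟨g, hg, hgo⟩ := OrthEmb67.exists_odd hQ h2 hnd (by omega) (mem_O_qf (y := y) hT (by rw [hy, ← pow_succ, ← pow_succ']))
      (by rw [ho]; exact hpodd.mul hsodd)
    exact ⟨g, hg, hgo.trans ho⟩
  · obtain ⟨hinf, hsup⟩ := OddOrth67.fix_sup_mov (r := s) (by rw [← hyo]; exact pow_orderOf_eq_one y) hsF
    have hinv : ∀ x ∈ mov y, y x ∈ mov y := fun x hx => OddOrth67.comm_mov rfl hx
    have hnd : Nd (res (qf A y) (mov y)) := nd_res_qf hA h2 hyI (by rw [hyo]; exact hsodd) (by rw [sup_comm]; exact hsup)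
      (fun x hx x' hx' => orth_fix_mov hyI hx hx') hinv (by
        intro x hx hTx
        exact OddOrth67.fix_inf_mov (r := s) (by rw [← hyo]; exact pow_orderOf_eq_one y) hsF (mem_fixS.2 hTx) hx)
    have hord : orderOf (rst y (mov y) hinv) = s := by
      rw [← hyo]
      apply orderOf_eq_orderOf_iff.2
      intro k
      rw [rst_pow_eq_one_iff]
      constructor
      · intro h1
        ext x
        have hx : x ∈ fixS y ⊔ mov y := by rw [hsup]; trivial
        obtain ⟨a, ha, b, hb, rfl⟩ := Submodule.mem_sup.1 hx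
        rw [map_add, h1 b hb, pow_fix (mem_fixS.1 ha)]; rfl
      · intro h1 x _
        rw [h1]; rfl
    have h3 : 2 ≤ finrank F (fixS y) := two_le_finrank hA hsup (by
      intro x hx x' hx'
      rw [hA.swap, orth_fix_mov hyI hx' hx, neg_zero]) hfix
    have h4 := finrank_mov_add_fixS y
    obtain ⟨g, hg, hgo⟩ := OrthEmb67.exists_p_mul (p := p) hQ h2 hnd (by omega) (rst_mem (mem_O_qf hyI rfl) _ hinv)
      (by rw [hord]; exact hsodd) (by rw [hord]; exact hcop)
    exact ⟨g, hg, hgo.trans (by rw [hord])⟩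

end Main

end Cfsg.Agent.Lib.SympOrth67
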