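import Mathlib
import Cfsg.Agent.Lib.SympOrth67

/-!
(helper67) Passing from symplectic to orthogonal spaces, elements of even order.
-/

set_option autoImplicit false
set_option linter.unusedSectionVars false

namespace Cfsg.Agent.Lib.SympOrth67

open QuadraticMap Module Cfsg.Agent.Lib.Quad Cfsg.Agent.Lib

universe u v w

section Main

variable {F : Type u} [Field F] [Finite F] {V : Type v} [AddCommGroup V] [Module F V] [FiniteDimensional F V]
  {A : LinearMap.BilinForm F V}
  {V' : Type w} [AddCommGroup V'] [Module F V'] [FiniteDimensional F V'] {Q : QuadraticForm F V'}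

theorem orderOf_ng [Nontrivial V] (h2 : (2 : F) ≠ 0) : orderOf (ng F V) = 2 := by
  apply orderOf_eq_prime
  · rw [pow_two, ng_sq]
  · intro h
    obtain ⟨x, hx⟩ := exists_ne (0 : V)
    have h1 : -x = x := LinearEquiv.congr_fun h x
    apply hx
    have h3 : (2 : F) • x = 0 := by
      rw [two_smul]
      conv_lhs => lhs; rw [← h1]
      exact neg_add_cancel x
    exact (smul_eq_zero.1 h3).resolve_left h2

theorem caseB {p : ℕ} [hp : Fact p.Prime] [CharP F p] (hA : Alt A) (h2 : (2 : F) ≠ 0) {n : ℕ} (hn : 1 ≤ n)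
    (hV : finrank F V = 2 * n)
    (hQ : Nd Q) (hV' : finrank F V' = 2 * n + 1) {T : V ≃ₗ[F] V} (hT : Iso A T) {r : ℕ} (hr : r.Prime) (hrp : r ≠ p)
    (hr2 : r ≠ 2) (hk : ∀ k, (∃ c : F, ∀ x, (T ^ k) x = c • x) ↔ 2 * r ∣ k) :
    ∃ g ∈ Om Q, orderOf g = 2 * r := by
  have hVnt : Nontrivial V := by
    apply Module.nontrivial_of_finrank_pos (R := F); rw [hV]; omega
  have hrodd : Odd r := hr.odd_of_ne_two hr2
  have hrF : (r : F) ≠ 0 := by
    intro h
    exact hrp ((Nat.prime_dvd_prime_iff_eq hp.out hr).1 ((CharP.cast_eq_zero_iff F p r).1 h)).symm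
  have hr1 := hr.two_le
  obtain ⟨c, hc⟩ := (hk (2 * r)).2 dvd_rfl
  have hcc : c * c = 1 := by
    obtain ⟨x, hx⟩ := exists_ne (0 : V)
    have h1 : ∃ y, A x y ≠ 0 := by
      by_contra hcon
      push Not at hcon
      exact hx (hA.nd x hcon)
    obtain ⟨y, hy⟩ := h1
    have h2 := hT.pow (2 * r) x y
    simp only [hc, map_smul, LinearMap.smul_apply, smul_eq_mul] at h2
    have h3 : (c * c - 1) * A x y = 0 := by linear_combination h2
    exact sub_eq_zero.1 ((mul_eq_zero.1 h3).resolve_right hy)
  set y := T ^ 4 with hy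
  have hyI : Iso A y := hT.pow 4
  have hyr : y ^ r = 1 := by
    ext x
    have e : y ^ r = (T ^ (2 * r)) * (T ^ (2 * r)) := by rw [hy, ← pow_mul, ← pow_add]; congr 1; ring
    rw [e]
    show (T ^ (2 * r)) ((T ^ (2 * r)) x) = x
    rw [hc, hc, smul_smul, hcc, one_smul]
  have hy1 : y ≠ 1 := by
    intro h
    have h3 := (hk 4).1 ⟨1, fun x => by rw [← hy, h, one_smul]; rfl⟩
    have h4 : r ∣ 2 := by
      have h5 : 2 * r ∣ 2 * 2 := h3
      exact Nat.dvd_of_mul_dvd_mul_left two_pos h5
    exact hr2 ((Nat.prime_dvd_prime_iff_eq hr Nat.prime_two).1 h4)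
  have hyo : orderOf y = r := by
    have := Fact.mk hr
    exact orderOf_eq_prime hyr hy1
  have hyodd : Odd (orderOf y) := by rw [hyo]; exact hrodd
  set z := T ^ r with hz
  have hzI : Iso A z := hT.pow r
  have hzz : ∀ x, z (z x) = c • x := by
    intro x
    rw [← hc x]
    have e : T ^ (2 * r) = z * z := by rw [hz, ← pow_add]; congr 1; ring
    rw [e]; rfl
  have hzns : ¬ ∃ c : F, ∀ x, z x = c • x := by
    intro h
    have h3 := (hk r).1 h
    have h4 := Nat.le_of_dvd (by omega) h3
    omega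
  have hyz : z * y = y * z := by rw [hz, hy]; exact pow_mul_comm T _ _
  obtain ⟨hinf, hsup⟩ := OddOrth67.fix_sup_mov hyr hrF
  by_cases hfix : fixS y = ⊥
  · rcases mul_self_eq_one_iff.1 hcc with h1 | h1
    · -- involution
      have hzo : z ^ 2 = 1 := by
        ext x
        rw [pow_two]
        show z (z x) = x
        rw [hzz, h1, one_smul]
      obtain ⟨hinfz, hsupz⟩ := OddOrth67.fix_sup_mov (r := 2) hzo (by exact_mod_cast h2)
      have hD : fixS z ≠ ⊥ := by
        intro h
        apply hzns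
        refine ⟨-1, fun x => ?_⟩
        have h3 : z x + x ∈ fixS z := by
          rw [mem_fixS, map_add, hzz, h1, one_smul, add_comm]
        rw [h, Submodule.mem_bot] at h3
        rw [neg_one_smul]
        exact eq_neg_of_add_eq_zero_left h3
      have hD' : mov z ≠ ⊥ := by
        intro h
        apply hzns
        exact ⟨1, fun x => by rw [mov_eq_bot.1 h, one_smul]; rfl⟩
      have h3 : 2 ≤ finrank F (mov z) := two_le_finrank hA (by rw [sup_comm]; exact hsupz)
        (fun x hx x' hx' => orth_fix_mov hzI hx hx') hD'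
      have h4 := finrank_mov_add_fixS z
      have hinv : ∀ x ∈ fixS z, y x ∈ fixS z := fun x hx => OddOrth67.comm_fix hyz hx
      have hfx : ∀ x ∈ fixS z, y x = x → x = 0 := by
        intro x _ hx
        have h5 : x ∈ fixS y := mem_fixS.2 hx
        rw [hfix] at h5
        exact (Submodule.mem_bot F).1 h5
      have hnd : Nd (res (qf A y) (fixS z)) := nd_res_qf hA h2 hyI hyodd hsupz (by
        intro x hx x' hx'
        rw [hA.swap, orth_fix_mov hzI hx' hx, neg_zero]) hinv hfx
      have hord : orderOf (rst y (fixS z) hinv) = r := by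
        have := Fact.mk hr
        apply orderOf_eq_prime
        · rw [rst_pow_eq_one_iff]
          intro x _
          rw [hyr]; rfl
        · intro h
          apply hD
          rw [eq_bot_iff]
          intro x hx
          rw [Submodule.mem_bot]
          apply hfx x hx
          have := LinearEquiv.congr_fun h ⟨x, hx⟩
          exact congrArg Subtype.val this
      obtain ⟨g, hg, hgo⟩ := OrthEmb67.exists_two_mul hQ h2 hnd (by omega) (rst_mem (mem_O_qf hyI rfl) _ hinv)
        (by rw [hord]; exact hrodd)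
      exact ⟨g, hg, by rw [hgo, hord]⟩
    · -- order four
      obtain ⟨m, hm⟩ := hrodd
      set s := y ^ (m + 1) * z with hs
      have hcomm : Commute (y ^ (m + 1)) z := (show Commute z y from hyz).symm.pow_left _
      have hs2 : s ^ 2 = y * ng F V := by
        rw [hs, hcomm.mul_pow]
        have e1 : (y ^ (m + 1)) ^ 2 = y := by
          rw [← pow_mul]
          have : (m + 1) * 2 = r + 1 := by omega
          rw [this, pow_succ, hyr, one_mul]
        have e2 : z ^ 2 = ng F V := by
          ext x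
          rw [pow_two]
          show z (z x) = -x
          rw [hzz, h1, neg_one_smul]
        rw [e1, e2]
      have hnd := fix_eq_bot_nd hA h2 hyI hyodd hfix
      have hsO : s ∈ O (qf A y) := mem_O_qf ((hyI.pow _).mul hzI) (by
        rw [hs, ← mul_assoc, ← pow_succ', mul_assoc, hyz, ← mul_assoc, ← pow_succ])
      obtain ⟨g, hg, hgo⟩ := OrthEmb67.exists_sq hQ h2 hnd (by omega) hsO
      refine ⟨g, hg, ?_⟩
      rw [hgo, hs2, Commute.orderOf_mul_eq_mul_orderOf_of_coprime (ng_comm y) (by
        rw [hyo, orderOf_ng h2]; exact Nat.coprime_two_right.2 ⟨m, hm⟩), hyo, orderOf_ng h2, mul_comm]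
  · have hinv : ∀ x ∈ mov y, y x ∈ mov y := fun x hx => OddOrth67.comm_mov rfl hx
    have hfx : ∀ x ∈ mov y, y x = x → x = 0 := by
      intro x hx hTx
      exact OddOrth67.fix_inf_mov hyr hrF (mem_fixS.2 hTx) hx
    have hnd : Nd (res (qf A y) (mov y)) := nd_res_qf hA h2 hyI hyodd (by rw [sup_comm]; exact hsup)
      (fun x hx x' hx' => orth_fix_mov hyI hx hx') hinv hfx
    have hord : orderOf (rst y (mov y) hinv) = r := by
      rw [← hyo]
      apply orderOf_eq_orderOf_iff.2
      intro k
      rw [rst_pow_eq_one_iff]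
      constructor
      · intro h1
        ext x
        have hx : x ∈ fixS y ⊔ mov y := by rw [hsup]; trivial
        obtain ⟨a, ha, b, hb, rfl⟩ := Submodule.mem_sup.1 hx
        rw [map_add, h1 b hb, pow_fix (mem_fixS.1 ha)]; rfl
      · intro h1 x _
        rw [h1]; rfl
    have h3 : 2 ≤ finrank F (fixS y) := two_le_finrank hA hsup (by
      intro x hx x' hx'
      rw [hA.swap, orth_fix_mov hyI hx' hx, neg_zero]) hfix
    have h4 := finrank_mov_add_fixS y
    obtain ⟨g, hg, hgo⟩ := OrthEmb67.exists_two_mul hQ h2 hnd (by omega) (rst_mem (mem_O_qf hyI rfl) _ hinv)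
      (by rw [hord]; exact hrodd)
    exact ⟨g, hg, hgo.trans (by rw [hord])⟩

/-- elements of order `2p`. -/
theorem caseC {p : ℕ} [hp : Fact p.Prime] [CharP F p] (h2 : (2 : F) ≠ 0) (hQ : Nd Q) (hV' : 6 ≤ finrank F V') :
    ∃ g ∈ Om Q, orderOf g = 2 * p := by
  have hpodd : Odd p := by
    apply hp.out.odd_of_ne_two
    rintro rfl
    exact h2 (by exact_mod_cast CharP.cast_eq_zero F 2)
  have hnd1 : Nd (quadOdd 1 F) := nd_quadOdd h2
  have hnd0 : Nd (0 : QuadraticForm F (Fin 0 → F)) := nd_of (fun x _ => Subsingleton.elim _ _)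
  obtain ⟨z, y, -, -, hz0, hz, hzy, hy⟩ := OrthEmb67.exists_siegel_pair hnd1 hnd0 (j := 0) (by
    intro x; simp) (by rw [finrank_odd]; simp)
  have hord := OrthEmb67.orderOf_sieg (p := p) hnd1 hz hzy hz0 hy
  obtain ⟨g, hg, hgo⟩ := OrthEmb67.exists_two_mul hQ h2 hnd1 (by rw [finrank_odd]; omega) (sieg_mem hnd1 hz hzy)
    (by rw [hord]; exact hpodd)
  exact ⟨g, hg, by rw [hgo, hord]⟩

end Main

end Cfsg.Agent.Lib.SympOrth67
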