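import Mathlib
import Cfsg.Agent.Lib.SympOrthB67
import Cfsg.Agent.Lib.SympSpec2

/-!
(helper67) Passing from orthogonal to symplectic spaces: `(x, x') ↦ (y x - y⁻¹ x, x')`.
-/

set_option autoImplicit false
set_option linter.unusedSectionVars false

namespace Cfsg.Agent.Lib.OrthSymp67

open QuadraticMap Module Cfsg.Agent.Lib.Quad Cfsg.Agent.Lib Cfsg.Agent.Lib.SympOrth67 Cfsg.Agent.Lib.HermAlg

universe u v w

variable {F : Type u} [Field F] [Finite F] {V : Type v} [AddCommGroup V] [Module F V] [FiniteDimensional F V]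
  {Q : QuadraticForm F V}

/-- the alternating form. -/
noncomputable def af (Q : QuadraticForm F V) (y : V ≃ₗ[F] V) (x x' : V) : F := polar Q (dif y x) x'

theorem polar_inv {y : V ≃ₗ[F] V} (hy : y ∈ O Q) (x x' : V) : polar Q (y⁻¹ x) x' = polar Q x (y x') := by
  rw [← O_polar hy (y⁻¹ x) x']
  have : y (y⁻¹ x) = x := y.apply_symm_apply x
  rw [this]

theorem af_eq {y : V ≃ₗ[F] V} (hy : y ∈ O Q) (x x' : V) : af Q y x x' = polar Q (y x) x' - polar Q x (y x') := by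
  rw [af, dif_apply, polar_sub_left, polar_inv hy]

theorem af_herm (hQ : Nd Q) {y : V ≃ₗ[F] V} (hy : y ∈ O Q) (ho : Odd (orderOf y)) (hfix : fixS y = ⊥) :
    IsHerm (RingHom.id F) (-1) (af Q y) where
  add_left x x' z := by rw [af, map_add, polar_add_left]; rfl
  smul_left c x x' := by rw [af, map_smul, polar_smul_left, smul_eq_mul]; rfl
  symm x x' := by
    rw [af_eq hy, af_eq hy, RingHom.id_apply, polar_comm Q (y x') x, polar_comm Q x' (y x)]; ring
  nondeg x hx := by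
    have h1 : dif y x = 0 := hQ.eq_zero hx
    have h2 : x ∈ fixS y := mem_fixS.2 (fix_of_dif ho h1)
    rw [hfix] at h2
    exact (Submodule.mem_bot F).1 h2

theorem af_alt {y : V ≃ₗ[F] V} (hy : y ∈ O Q) (x : V) : af Q y x x = 0 := by
  rw [af_eq hy, polar_comm, sub_self]

theorem af_iso {y T : V ≃ₗ[F] V} (hT : T ∈ O Q) (hc : y * T = T * y) (hy : y ∈ O Q) (x x' : V) :
    af Q y (T x) (T x') = af Q y x x' := by
  have h1 : ∀ x, y (T x) = T (y x) := fun x => LinearEquiv.congr_fun hc x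
  rw [af_eq hy, af_eq hy, h1, h1, O_polar hT, O_polar hT]

theorem end_pow (T : V ≃ₗ[F] V) (k : ℕ) (x : V) : (((T : V →ₗ[F] V) : Module.End F V) ^ k) x = (T ^ k) x := by
  induction k generalizing x with
  | zero => rfl
  | succ k ih => rw [pow_succ, pow_succ, Module.End.mul_apply, ih]; rfl

theorem psp1 (hQ : Nd Q) {y T : V ≃ₗ[F] V} (hy : y ∈ O Q) (ho : Odd (orderOf y)) (hfix : fixS y = ⊥)
    (hT : T ∈ O Q) (hc : y * T = T * y) {n : ℕ} (hdim : finrank F V = 2 * n) :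
    ∃ g : Cfsg.PSp n F, ∀ k : ℕ, g ^ k = 1 ↔ ∃ c : F, ∀ x, (T ^ k) x = c • x := by
  obtain ⟨g, hg⟩ := SympSpec.exists_psp hdim (af_herm hQ hy ho hfix) (fun x => af_alt hy x) (T : V →ₗ[F] V)
    (fun x x' => af_iso hT hc hy x x')
  refine ⟨g, fun k => (hg k).trans (exists_congr fun c => ?_)⟩
  constructor
  · intro h x
    rw [← end_pow, h]; rfl
  · intro h
    ext x
    rw [end_pow, h]; rfl

theorem psp2 (hQ : Nd Q) {y T : V ≃ₗ[F] V} (hy : y ∈ O Q) (ho : Odd (orderOf y)) (hfix : fixS y = ⊥)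
    (hT : T ∈ O Q) (hc : y * T = T * y) {n : ℕ}
    {R : Type w} [CommRing R] [Algebra F R] [FiniteDimensional F R] {star : R →+* R} {l : R →ₗ[F] F}
    (h2 : (2 : F) ≠ 0) (h : IsSA (RingHom.id F) (-1) star l) (hdim : finrank F V + finrank F R = 2 * n)
    (ρ : R) (hρ : ρ * star ρ = 1) :
    ∃ g : Cfsg.PSp n F, ∀ k : ℕ, g ^ k = 1 ↔ ∃ c : F, (∀ x, (T ^ k) x = c • x) ∧ ρ ^ k = algebraMap F R c := by
  have h1 := af_herm hQ hy ho hfix
  have hR := h.isHerm
  have hherm : IsHerm (RingHom.id F) (-1) (fun (x x' : V × R) => af Q y x.1 x'.1 + l (x.2 * star x'.2)) := by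
    refine ⟨?_, ?_, ?_, ?_⟩
    · intro x x' z
      have e1 := h1.add_left x.1 x'.1 z.1
      have e2 := hR.add_left x.2 x'.2 z.2
      show af Q y (x.1 + x'.1) z.1 + l ((x.2 + x'.2) * star z.2) = _
      rw [e1, e2]; ring
    · intro c x z
      have e1 := h1.smul_left c x.1 z.1
      have e2 := hR.smul_left c x.2 z.2
      show af Q y (c • x.1) z.1 + l ((c • x.2) * star z.2) = _
      rw [e1, e2]; ring
    · intro x z
      have e1 := h1.symm x.1 z.1
      have e2 := hR.symm x.2 z.2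
      show af Q y z.1 x.1 + l (z.2 * star x.2) = _
      rw [e1, e2]
      simp only [RingHom.id_apply]; ring
    · intro x hx
      apply Prod.ext
      · apply h1.nondeg
        intro z
        have := hx (z, 0)
        simpa using this
      · apply hR.nondeg
        intro z
        have := hx (0, z)
        have h0 : af Q y x.1 (0 : V) = 0 := h1.zero_right x.1
        simp only [h0, zero_add] at this
        exact this
  obtain ⟨g, hg⟩ := SympSpec.exists_psp (n := n) (V := V × R) (by rw [finrank_prod]; exact hdim) hherm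
    (SympSpec.isAlt_of_isHerm h2 hherm) (((T : V →ₗ[F] V) : Module.End F V).prodMap (Algebra.lmul F R ρ)) (by
      intro x z
      have e1 := af_iso hT hc hy x.1 z.1
      have e2 := IsSA.isom (l := l) hρ x.2 z.2
      show af Q y (T x.1) (T z.1) + l ((Algebra.lmul F R ρ x.2) * star (Algebra.lmul F R ρ z.2)) = _
      rw [e1]
      exact congrArg (fun s => af Q y x.1 z.1 + s) e2)
  refine ⟨g, fun k => (hg k).trans (exists_congr fun c => ?_)⟩
  rw [PSLSpectrum.prodMap_pow', PSLSpectrum.prodMap_eq_smul_one_iff, SympSpec.lmul_pow_eq_iff]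
  apply and_congr_left'
  constructor
  · intro h x
    rw [← end_pow, h]; rfl
  · intro h
    ext x
    rw [end_pow, h]; rfl

theorem even_finrank (hQ : Nd Q) {y : V ≃ₗ[F] V} (hy : y ∈ O Q) (ho : Odd (orderOf y)) (hfix : fixS y = ⊥) :
    Even (finrank F V) := by
  have hB := af_herm hQ hy ho hfix
  let Bl : V →ₗ[F] V →ₗ[F] F := LinearMap.mk₂ F (af Q y) hB.add_left (fun c u v => hB.smul_left c u v)
    hB.add_right (fun c u v => hB.smul_right c u v)
  exact AltForm.even_finrank Bl (fun x => af_alt hy x) hB.nondeg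

/-- with an identity complement. -/
theorem psp_one {p : ℕ} [Fact p.Prime] [CharP F p] (hQ : Nd Q) {y T : V ≃ₗ[F] V} (hy : y ∈ O Q) (ho : Odd (orderOf y)) (hfix : fixS y = ⊥)
    (hT : T ∈ O Q) (hc : y * T = T * y) {n : ℕ} (h2 : (2 : F) ≠ 0) (hdim : finrank F V < 2 * n) :
    ∃ g : Cfsg.PSp n F, ∀ k : ℕ, g ^ k = 1 → ∀ x, (T ^ k) x = x := by
  obtain ⟨t, ht⟩ := even_finrank hQ hy ho hfix
  obtain ⟨R, _, _, _, _, star, l, u, hR, hSA, hu, -, hk⟩ := SympSpec.exists_uni_symp (F := F) p h2 (2 * n - finrank F V) (by omega)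
    ⟨n - t, by omega⟩
  obtain ⟨g, hg⟩ := psp2 hQ hy ho hfix hT hc (n := n) h2 hSA (by rw [hR]; omega) 1 (by rw [map_one, mul_one])
  refine ⟨g, fun k hk x => ?_⟩
  obtain ⟨c, hc1, hc2⟩ := (hg k).1 hk
  rw [one_pow] at hc2
  have hc3 : c = 1 := by
    apply (algebraMap F R).injective
    rw [← hc2, map_one]
  rw [hc1, hc3, one_smul]

/-- with a negative complement. -/
theorem psp_neg {p : ℕ} [Fact p.Prime] [CharP F p] (hQ : Nd Q) {y T : V ≃ₗ[F] V} (hy : y ∈ O Q) (ho : Odd (orderOf y)) (hfix : fixS y = ⊥)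
    (hT : T ∈ O Q) (hc : y * T = T * y) {n : ℕ} (h2 : (2 : F) ≠ 0) (hdim : finrank F V < 2 * n) :
    ∃ g : Cfsg.PSp n F, ∀ k : ℕ, g ^ k = 1 → ∀ x, (T ^ k) x = (-1 : F) ^ k • x := by
  obtain ⟨t, ht⟩ := even_finrank hQ hy ho hfix
  obtain ⟨R, _, _, _, _, star, l, u, hR, hSA, hu, -, hk⟩ := SympSpec.exists_uni_symp (F := F) p h2 (2 * n - finrank F V) (by omega)
    ⟨n - t, by omega⟩
  obtain ⟨g, hg⟩ := psp2 hQ hy ho hfix hT hc (n := n) h2 hSA (by rw [hR]; omega) (-1) (by rw [map_neg, map_one, neg_mul_neg, mul_one])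
  refine ⟨g, fun k hk x => ?_⟩
  obtain ⟨c, hc1, hc2⟩ := (hg k).1 hk
  have hc3 : c = (-1) ^ k := by
    apply (algebraMap F R).injective
    rw [← hc2, map_pow, map_neg, map_one]
  rw [hc1, hc3]

/-- with a unipotent complement. -/
theorem psp_uni {p : ℕ} [Fact p.Prime] [CharP F p] (hQ : Nd Q) {y T : V ≃ₗ[F] V} (hy : y ∈ O Q) (ho : Odd (orderOf y)) (hfix : fixS y = ⊥)
    (hT : T ∈ O Q) (hc : y * T = T * y) {n : ℕ} (h2 : (2 : F) ≠ 0) (hdim : finrank F V < 2 * n) :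
    ∃ g : Cfsg.PSp n F, ∀ k : ℕ, g ^ k = 1 → (∀ x, (T ^ k) x = x) ∧ p ∣ k := by
  obtain ⟨t, ht⟩ := even_finrank hQ hy ho hfix
  obtain ⟨R, _, _, _, _, star, l, u, hR, hSA, hu, -, hk⟩ := SympSpec.exists_uni_symp (F := F) p h2 (2 * n - finrank F V) (by omega)
    ⟨n - t, by omega⟩
  obtain ⟨g, hg⟩ := psp2 hQ hy ho hfix hT hc (n := n) h2 hSA (by rw [hR]; omega) u hu
  refine ⟨g, fun k hk' => ?_⟩
  obtain ⟨c, hc1, hc2⟩ := (hg k).1 hk'
  obtain ⟨hc3, hc4⟩ := hk k c hc2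
  refine ⟨fun x => by rw [hc1, hc3, one_smul], ?_⟩
  have := hc4 0 (by rw [pow_zero]; omega)
  rwa [zero_add, pow_one] at this

end Cfsg.Agent.Lib.OrthSymp67
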