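import Mathlib
import Cfsg.Agent.Lib.GaussSign67

/-!
(helper67) Classification of nondegenerate quadratic forms of even dimension in characteristic two, with the Gauss sum
as invariant.
-/

set_option autoImplicit false
set_option linter.unusedSectionVars false

namespace Cfsg.Agent.Lib.GaussSign67

open QuadraticMap Module Cfsg.Agent.Lib.Quad

universe u v w

variable {F : Type u} [Field F] [Finite F] [CharP F 2]

theorem exists_artin {a b b' : F} (ha : a ≠ 0) (hb : ∀ t : F, t ^ 2 + a * t + b ≠ 0) (hb' : ∀ t : F, t ^ 2 + a * t + b' ≠ 0) :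
    ∃ t : F, t ^ 2 + a * t = b + b' := by
  let f : F →+ F :=
    { toFun := fun t => t ^ 2 + a * t
      map_zero' := by ring
      map_add' := by
        intro x y
        rw [CharTwo.add_sq]; ring }
  have hf : ∀ t, f t = t ^ 2 + a * t := fun t => rfl
  have hker : Nat.card f.ker = 2 := by
    have h1 : (f.ker : Set F) = {0, a} := by
      ext x
      simp only [SetLike.mem_coe, AddMonoidHom.mem_ker, hf, Set.mem_insert_iff, Set.mem_singleton_iff]
      constructor
      · intro h
        have h2 : x * (x + a) = 0 := by rw [← h]; ring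
        rcases mul_eq_zero.1 h2 with h3 | h3
        · exact Or.inl h3
        · exact Or.inr (CharTwo.add_eq_zero.1 h3)
      · rintro (rfl | rfl)
        · ring
        · rw [← pow_two]; exact CharTwo.add_self_eq_zero _
    have h2 : Nat.card f.ker = Set.ncard (f.ker : Set F) := rfl
    rw [h2, h1, Set.ncard_pair ha.symm]
  have hidx : f.range.index = 2 := by
    have h1 := AddSubgroup.index_ker f
    have h2 := f.ker.card_mul_index
    have h3 := f.range.card_mul_index
    rw [hker, h1] at h2
    rw [← h2, mul_comm] at h3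
    exact Nat.eq_of_mul_eq_mul_right Nat.card_pos h3
  have hnb : b ∉ f.range := by
    rintro ⟨t, ht⟩
    apply hb t
    rw [hf] at ht
    rw [ht]; exact CharTwo.add_self_eq_zero _
  have hnb' : b' ∉ f.range := by
    rintro ⟨t, ht⟩
    apply hb' t
    rw [hf] at ht
    rw [ht]; exact CharTwo.add_self_eq_zero _
  obtain ⟨t, ht⟩ := (AddSubgroup.add_mem_iff_of_index_two hidx).2 (iff_of_false hnb hnb')
  exact ⟨t, ht⟩

variable {V : Type v} [AddCommGroup V] [Module F V] [FiniteDimensional F V] {Q : QuadraticForm F V}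

theorem classify (hQ : Nd Q) {N : ℕ} (hN : finrank F V = 2 * N) :
    (∃ e : V ≃ₗ[F] (Fin N ⊕ Fin N → F), ∀ x, quadPlus N F (e x) = Q x) ∨
      (∃ k, N = k + 1 ∧ ∀ a b : F, (∀ z₁ z₂ : F, z₁ ^ 2 + a * z₁ * z₂ + b * z₂ ^ 2 = 0 → z₁ = 0 ∧ z₂ = 0) →
        ∃ e : V ≃ₗ[F] ((Fin k ⊕ Fin k) ⊕ Fin 2 → F), ∀ x, quadMinus k F a b (e x) = Q x) := by
  classical
  obtain ⟨k, h, hmax⟩ := HF.exists_anisotropic hQ
  have h1 := h.finrank_perp_sp hQ
  have h2 := h.finrank_le_two hQ hmax
  have hcases : N = k ∨ N = k + 1 := by omega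
  rcases hcases with rfl | rfl
  · left
    have hspan := LinearIndependent.span_eq_top_of_card_eq_finrank' h.li' (by
      rw [Fintype.card_sum, Fintype.card_fin, hN]; ring)
    let b := Basis.mk h.li' hspan.ge
    have hb : ∀ i, b i = Sum.elim h.e h.f i := fun i => Basis.mk_apply _ _ _
    refine ⟨b.equiv (Pi.basisFun F _) (Equiv.refl _), fun x => ?_⟩
    apply exists_isometry_of_basis
    · intro i
      rw [hb, Pi.basisFun_apply, coe_quadPlus]
      rcases i with i | i
      · simp [Cfsg.quadFormPlus, h.qe]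
      · simp [Cfsg.quadFormPlus, h.qf]
    · intro i j hij
      rw [hb, hb, Pi.basisFun_apply, Pi.basisFun_apply, coe_quadPlus, polar_quadPlus]
      rcases i with i | i <;> rcases j with j | j
      · simp [h.ee]
      · simp [h.ef, Pi.single_apply, eq_comm]
      · rw [polar_comm]
        simp [h.ef, Pi.single_apply, eq_comm]
      · simp [h.ff]
  · right
    refine ⟨k, rfl, ?_⟩
    intro a b hab
    have ha : a ≠ 0 := by
      have h3 := disc_ne_zero_of_anisotropic hab
      rintro rfl
      apply h3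
      have h4 : (4 : F) = 0 := by
        have : (4 : F) = 2 * 2 := by norm_num
        rw [this, CharTwo.two_eq_zero, mul_zero]
      rw [h4]; ring
    have hnd := h.nd_res hQ
    have hP : finrank F (perp Q h.sp) = 2 := by omega
    have hPnt : Nontrivial (perp Q h.sp) := by
      apply Module.nontrivial_of_finrank_pos (R := F); rw [hP]; omega
    obtain ⟨⟨v0, hv0P⟩, hv0⟩ := exists_ne (0 : perp Q h.sp)
    have hv00 : v0 ≠ 0 := fun h => hv0 (Subtype.ext h)
    have hQv0 : Q v0 ≠ 0 := fun h0 => hv00 (hmax v0 (h.mem_perp_sp.1 hv0P) h0)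
    obtain ⟨s, hs⟩ := isSquare_of_charTwo (Q v0)
    have hs0 : s ≠ 0 := by
      rintro rfl
      exact hQv0 (by rw [hs, mul_zero])
    set v := s⁻¹ • v0 with hv
    have hvP : v ∈ perp Q h.sp := Submodule.smul_mem _ _ hv0P
    have hvne : v ≠ 0 := smul_ne_zero (inv_ne_zero hs0) hv00
    have hQv : Q v = 1 := by
      rw [hv, Q_smul, hs]
      field_simp
    obtain ⟨w0, hw0⟩ : ∃ w0 : perp Q h.sp, polar Q v w0 ≠ 0 := by
      by_contra hcon
      push Not at hcon
      apply hvne
      exact congrArg Subtype.val (hnd.eq_zero (x := ⟨v, hvP⟩) hcon)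
    set w := (a / polar Q v w0) • (w0 : V) with hw
    have hwP : w ∈ perp Q h.sp := Submodule.smul_mem _ _ w0.2
    have hvw : polar Q v w = a := by
      rw [hw, polar_smul_right, smul_eq_mul, div_mul_cancel₀ _ hw0]
    have hpvv : polar Q v v = 0 := by rw [polar_self', CharTwo.two_eq_zero, zero_mul]
    have hwne : ∀ t : F, t • v + w ≠ 0 := by
      intro t h0
      apply ha
      have h3 : polar Q v (t • v + w) = a := by rw [polar_add_right, polar_smul_right, hpvv, smul_zero, zero_add, hvw]
      rw [← h3, h0, polar_zero_right]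
    have hQtw : ∀ t : F, Q (t • v + w) = t ^ 2 + a * t + Q w := by
      intro t
      have h3 : polar Q (t • v) w = t * a := by rw [polar_smul_left, hvw, smul_eq_mul]
      have h4 := Q_add Q (t • v) w
      rw [h4, h3, Q_smul, hQv]; ring
    obtain ⟨t, ht⟩ := exists_artin (b := b) (b' := Q w) ha (by
      intro t h0
      exact one_ne_zero (hab t 1 (by linear_combination h0)).2) (by
      intro t h0
      apply hwne t
      apply hmax _ (h.mem_perp_sp.1 (Submodule.add_mem _ (Submodule.smul_mem _ _ hvP) hwP))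
      rw [hQtw, h0])
    set w' := t • v + w with hw'
    have hw'P : w' ∈ perp Q h.sp := Submodule.add_mem _ (Submodule.smul_mem _ _ hvP) hwP
    have hQw' : Q w' = b := by
      rw [hw', hQtw, ht, add_assoc, CharTwo.add_self_eq_zero, add_zero]
    have hvw' : polar Q v w' = a := by
      rw [hw', polar_add_right, polar_smul_right, hpvv, smul_zero, zero_add, hvw]
    clear_value w' w v
    have hli2 : LinearIndependent F ![v, w'] := by
      rw [LinearIndependent.pair_iff]
      intro c d hcd
      have h3 : polar Q v (c • v + d • w') = d * a := by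
        rw [polar_add_right, polar_smul_right, polar_smul_right, hpvv, hvw', smul_zero, zero_add, smul_eq_mul]
      rw [hcd, polar_zero_right] at h3
      have hd : d = 0 := (mul_eq_zero.1 h3.symm).resolve_right ha
      rw [hd, zero_smul, add_zero] at hcd
      exact ⟨(smul_eq_zero.1 hcd).resolve_right hvne, hd⟩
    have hO : ∀ j, h.Orth ((![v, w'] : Fin 2 → V) j) := by
      intro j
      fin_cases j
      · exact h.mem_perp_sp.1 hvP
      · exact h.mem_perp_sp.1 hw'P
    have hli := h.li ![v, w'] hli2 hO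
    have hspan := LinearIndependent.span_eq_top_of_card_eq_finrank' hli (by
      rw [Fintype.card_sum, Fintype.card_sum, Fintype.card_fin, Fintype.card_fin, hN]; ring)
    let bb := Basis.mk hli hspan.ge
    have hb : ∀ i, bb i = Sum.elim (Sum.elim h.e h.f) ![v, w'] i := fun i => Basis.mk_apply _ _ _
    refine ⟨bb.equiv (Pi.basisFun F _) (Equiv.refl _), fun x => ?_⟩
    apply exists_isometry_of_basis
    · intro i
      rw [hb, Pi.basisFun_apply, coe_quadMinus]
      rcases i with (i | i) | i
      · simp [Cfsg.quadFormMinus, h.qe]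
      · simp [Cfsg.quadFormMinus, h.qf]
      · fin_cases i
        · simp [Cfsg.quadFormMinus, hQv]
        · simp [Cfsg.quadFormMinus, hQw']
    · intro i j hij
      rw [hb, hb, Pi.basisFun_apply, Pi.basisFun_apply, coe_quadMinus, polar_quadMinus]
      rcases i with (i | i) | i <;> rcases j with (j | j) | j
      · simp [h.ee]
      · simp [h.ef, Pi.single_apply, eq_comm]
      · have := (hO j).1 i
        simp [this, Pi.single_apply]
      · rw [polar_comm]
        simp [h.ef, Pi.single_apply, eq_comm]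
      · simp [h.ff]
      · have := (hO j).2 i
        simp [this, Pi.single_apply]
      · have := (hO i).1 j
        rw [polar_comm]
        simp [this, Pi.single_apply]
      · have := (hO i).2 j
        rw [polar_comm]
        simp [this, Pi.single_apply]
      · fin_cases i <;> fin_cases j
        · exact absurd rfl hij
        · simp [hvw']
        · rw [polar_comm]
          simp [hvw']
        · exact absurd rfl hij

/-- the Gauss sum recognizes forms of minus type. -/
theorem minus_of_gs {χ : AddChar F ℤ} (hχ : χ ≠ 1) (hQ : Nd Q) {k : ℕ} (hN : finrank F V = 2 * (k + 1))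
    (hg : gs χ Q = -(Nat.card F : ℤ) ^ (k + 1)) {a b : F}
    (hab : ∀ z₁ z₂ : F, z₁ ^ 2 + a * z₁ * z₂ + b * z₂ ^ 2 = 0 → z₁ = 0 ∧ z₂ = 0) :
    ∃ e : V ≃ₗ[F] ((Fin k ⊕ Fin k) ⊕ Fin 2 → F), ∀ x, quadMinus k F a b (e x) = Q x := by
  rcases classify hQ hN with ⟨e, he⟩ | ⟨k', hk, h⟩
  · exfalso
    have h1 : gs χ Q = gs χ (quadPlus (k + 1) F) := gs_equiv e.toEquiv he
    rw [gs_plus hχ, hg] at h1
    have h2 : (0 : ℤ) < (Nat.card F : ℤ) ^ (k + 1) := pow_pos (by exact_mod_cast Nat.card_pos) _
    linarith
  · have : k = k' := by omega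
    subst this
    exact h a b hab

theorem gs_cases {χ : AddChar F ℤ} (hχ : χ ≠ 1) (hQ : Nd Q) {N : ℕ} (hN : finrank F V = 2 * N)
    (hab : ∃ a b : F, ∀ z₁ z₂ : F, z₁ ^ 2 + a * z₁ * z₂ + b * z₂ ^ 2 = 0 → z₁ = 0 ∧ z₂ = 0) :
    gs χ Q = (Nat.card F : ℤ) ^ N ∨ gs χ Q = -(Nat.card F : ℤ) ^ N := by
  rcases classify hQ hN with ⟨e, he⟩ | ⟨k', hk, h⟩
  · left
    rw [← gs_plus hχ]
    exact gs_equiv e.toEquiv he
  · right
    obtain ⟨a, b, hab⟩ := hab
    obtain ⟨e, he⟩ := h a b hab
    rw [hk, ← gs_minus hχ k' a b hab]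
    exact gs_equiv e.toEquiv he

end Cfsg.Agent.Lib.GaussSign67
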