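import Mathlib
import Cfsg.Agent.Lib.QuadClass67
import Cfsg.Agent.Lib.OrthSymp67

/-!
(helper67) Orthogonal spaces in characteristic two with prescribed type carrying isometries of prescribed order.
-/

set_option autoImplicit false
set_option linter.unusedSectionVars false

namespace Cfsg.Agent.Lib.OReal67

open QuadraticMap Module Cfsg.Agent.Lib.Quad Cfsg.Agent.Lib.GaussSign67

universe u v w

variable {F : Type u} [Field F] [Finite F]

/-- a nondegenerate quadratic space of dimension `2N` with Gauss sum `ε q^N`, an isometry `T` and a vector `t` such that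
`M` divides the order of `T` (`b = false`) or of the affine map `(t, T)` (`b = true`). -/
def GR (χ : AddChar F ℤ) (N : ℕ) (ε : ℤ) (δ M : ℕ) (b : Bool) : Prop :=
  ∃ (Q : QuadraticForm F (Fin (2 * N) → F)) (T : (Fin (2 * N) → F) ≃ₗ[F] (Fin (2 * N) → F)) (t : Fin (2 * N) → F),
    Nd Q ∧ gs χ Q = ε * (Nat.card F : ℤ) ^ N ∧ T ∈ O Q ∧ finrank F (mov T) % 2 = δ ∧
    ∀ k, T ^ k = 1 → (b = true → ∑ i ∈ Finset.range k, (T ^ i) t = 0) → M ∣ k

variable {χ : AddChar F ℤ}

theorem conj_pow {V : Type v} {W : Type w} [AddCommGroup V] [Module F V] [AddCommGroup W] [Module F W] (e : V ≃ₗ[F] W)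
    (T : V ≃ₗ[F] V) (k : ℕ) (x : V) : ((QuadNorm.conjLE e T) ^ k) (e x) = e ((T ^ k) x) := by
  rw [← map_pow, QuadNorm.conjLE_apply, LinearEquiv.symm_apply_apply]

theorem GR.of_space {V : Type v} [AddCommGroup V] [Module F V] [FiniteDimensional F V] {N : ℕ} {ε : ℤ} {δ M : ℕ} {b : Bool}
    (Q : QuadraticForm F V) (T : V ≃ₗ[F] V) (t : V) (hdim : finrank F V = 2 * N) (hQ : Nd Q)
    (hg : gs χ Q = ε * (Nat.card F : ℤ) ^ N) (hT : T ∈ O Q) (hm : finrank F (mov T) % 2 = δ)
    (hk : ∀ k, T ^ k = 1 → (b = true → ∑ i ∈ Finset.range k, (T ^ i) t = 0) → M ∣ k) : GR χ N ε δ M b := by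
  let e : V ≃ₗ[F] (Fin (2 * N) → F) := LinearEquiv.ofFinrankEq _ _ (by rw [hdim]; simp)
  have he : ∀ v, (Q.comp e.symm.toLinearMap) (e v) = Q v := by
    intro v
    show Q (e.symm (e v)) = Q v
    rw [LinearEquiv.symm_apply_apply]
  refine ⟨Q.comp e.symm.toLinearMap, QuadNorm.conjLE e T, e t, ?_, ?_, ?_, ?_, ?_⟩
  · apply nd_of
    intro x hx
    apply e.symm.injective
    rw [map_zero]
    apply hQ.eq_zero
    intro y
    have h1 := hx (e y)
    rw [← polar_map (Q' := Q) (Q := Q.comp e.symm.toLinearMap) e.symm.toLinearMap (fun v => rfl)] at h1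
    rw [← h1]
    show _ = polar Q (e.symm x) (e.symm (e y))
    rw [LinearEquiv.symm_apply_apply]
  · rw [← hg]
    exact (gs_equiv e.toEquiv he).symm
  · exact (QuadNorm.conjLE_mem e he T).2 hT
  · rw [← hm]
    congr 1
    have h1 : mov (QuadNorm.conjLE e T) = (mov T).map e.toLinearMap := by
      ext x
      rw [mem_mov, Submodule.mem_map]
      constructor
      · rintro ⟨y, rfl⟩
        refine ⟨T (e.symm y) - e.symm y, mem_mov.2 ⟨_, rfl⟩, ?_⟩
        show e (T (e.symm y) - e.symm y) = _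
        rw [map_sub, LinearEquiv.apply_symm_apply]; rfl
      · rintro ⟨y, hy, rfl⟩
        obtain ⟨z, rfl⟩ := mem_mov.1 hy
        refine ⟨e z, ?_⟩
        show _ = e (T z - z)
        rw [QuadNorm.conjLE_apply, LinearEquiv.symm_apply_apply, map_sub]
    rw [h1]
    exact LinearEquiv.finrank_map_eq e (mov T)
  · intro k h1 h2
    apply hk k
    · rw [← map_pow] at h1
      exact (MulEquiv.map_eq_one_iff (QuadNorm.conjLE e)).1 h1
    · intro hb
      have h3 := h2 hb
      apply e.injective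
      rw [map_zero, map_sum, ← h3]
      exact Finset.sum_congr rfl fun i _ => (conj_pow e T i t).symm

theorem prodCongr_pow {V : Type v} {W : Type w} [AddCommGroup V] [Module F V] [AddCommGroup W] [Module F W]
    (T : V ≃ₗ[F] V) (T' : W ≃ₗ[F] W) (k : ℕ) (x : V × W) :
    ((T.prodCongr T' : (V × W) ≃ₗ[F] (V × W)) ^ k) x = ((T ^ k) x.1, (T' ^ k) x.2) := by
  induction k generalizing x with
  | zero => rfl
  | succ k ih =>
    rw [pow_succ, pow_succ, pow_succ]
    show ((T.prodCongr T' : (V × W) ≃ₗ[F] (V × W)) ^ k) (T x.1, T' x.2) = _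
    rw [ih]; rfl

theorem finrank_mov_prod {V : Type v} {W : Type w} [AddCommGroup V] [Module F V] [AddCommGroup W] [Module F W]
    [FiniteDimensional F V] [FiniteDimensional F W]
    (T : V ≃ₗ[F] V) (T' : W ≃ₗ[F] W) :
    finrank F (mov (T.prodCongr T' : (V × W) ≃ₗ[F] (V × W))) = finrank F (mov T) + finrank F (mov T') := by
  have h1 : mov (T.prodCongr T' : (V × W) ≃ₗ[F] (V × W)) = (mov T).prod (mov T') := by
    ext ⟨x, y⟩
    rw [mem_mov, Submodule.mem_prod, mem_mov, mem_mov]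
    constructor
    · rintro ⟨⟨a, b⟩, h⟩
      exact ⟨⟨a, congrArg Prod.fst h⟩, ⟨b, congrArg Prod.snd h⟩⟩
    · rintro ⟨⟨a, ha⟩, ⟨b, hb⟩⟩
      exact ⟨(a, b), Prod.ext ha hb⟩
  let e : (mov T × mov T') ≃ₗ[F] ((mov T).prod (mov T')) :=
    { toFun := fun x => ⟨(x.1, x.2), x.1.2, x.2.2⟩
      map_add' := fun _ _ => rfl
      map_smul' := fun _ _ => rfl
      invFun := fun x => (⟨x.1.1, x.2.1⟩, ⟨x.1.2, x.2.2⟩)
      left_inv := fun _ => rfl
      right_inv := fun _ => rfl }
  rw [h1, ← LinearEquiv.finrank_eq e, finrank_prod]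

theorem nd_prod {V : Type v} {W : Type w} [AddCommGroup V] [Module F V] [AddCommGroup W] [Module F W]
    {Q : QuadraticForm F V} {Q' : QuadraticForm F W} (hQ : Nd Q) (hQ' : Nd Q') : Nd (Q.prod Q') := by
  apply nd_of
  intro x hx
  apply Prod.ext
  · apply hQ.eq_zero
    intro y
    have := hx (y, 0)
    simpa [polar] using this
  · apply hQ'.eq_zero
    intro y
    have := hx (0, y)
    simpa [polar] using this

theorem GR.prod {N N' : ℕ} {ε ε' : ℤ} {δ δ' M M' : ℕ} {b : Bool} (h : GR χ N ε δ M b) (h' : GR χ N' ε' δ' M' b) :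
    GR χ (N + N') (ε * ε') ((δ + δ') % 2) (Nat.lcm M M') b := by
  obtain ⟨Q, T, t, hQ, hg, hT, hm, hk⟩ := h
  obtain ⟨Q', T', t', hQ', hg', hT', hm', hk'⟩ := h'
  apply GR.of_space (Q.prod Q') (T.prodCongr T') (t, t')
  · rw [finrank_prod]; simp; ring
  · exact nd_prod hQ hQ'
  · have h1 := gs_prod (χ := χ) Q Q'
    have h2 : gs χ (Q.prod Q') = gs χ Q * gs χ Q' := h1
    rw [h2, hg, hg']; ring
  · intro x
    show Q (T x.1) + Q' (T' x.2) = Q x.1 + Q' x.2
    rw [hT, hT']
  · rw [finrank_mov_prod, Nat.add_mod, hm, hm']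
  · intro k h1 h2
    apply Nat.lcm_dvd
    · apply hk
      · ext1 x
        have := LinearEquiv.congr_fun h1 (x, 0)
        rw [prodCongr_pow] at this
        exact congrArg Prod.fst this
      · intro hb
        have h3 := congrArg Prod.fst (h2 hb)
        rw [Prod.fst_sum] at h3
        refine Eq.trans ?_ h3
        apply Finset.sum_congr rfl
        intro i _
        rw [prodCongr_pow]
    · apply hk'
      · ext1 x
        have := LinearEquiv.congr_fun h1 (0, x)
        rw [prodCongr_pow] at this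
        exact congrArg Prod.snd this
      · intro hb
        have h3 := congrArg Prod.snd (h2 hb)
        rw [Prod.snd_sum] at h3
        refine Eq.trans ?_ h3
        apply Finset.sum_congr rfl
        intro i _
        rw [prodCongr_pow]

theorem GR.aff {N : ℕ} {ε : ℤ} {δ M : ℕ} (h : GR χ N ε δ M false) : GR χ N ε δ M true := by
  obtain ⟨Q, T, t, hQ, hg, hT, hm, hk⟩ := h
  exact ⟨Q, T, t, hQ, hg, hT, hm, fun k h1 _ => hk k h1 (fun h => absurd h (by decide))⟩

theorem GR.dvd {N : ℕ} {ε : ℤ} {δ M M' : ℕ} {b : Bool} (h : GR χ N ε δ M b) (hd : M' ∣ M) : GR χ N ε δ M' b := by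
  obtain ⟨Q, T, t, hQ, hg, hT, hm, hk⟩ := h
  exact ⟨Q, T, t, hQ, hg, hT, hm, fun k h1 h2 => hd.trans (hk k h1 h2)⟩

end Cfsg.Agent.Lib.OReal67
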