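import Mathlib
import Cfsg.Agent.Lib.NsPt67
import Cfsg.Agent.Lib.OPieces67

/-!
(helper67) Semiregular tori of order `q^d - 1` (plus type) and `q^d + 1` (minus type).
-/

set_option autoImplicit false
set_option linter.unusedSectionVars false

namespace Cfsg.Agent.Lib.NsPt67

open QuadraticMap Module Cfsg.Agent.Lib.Quad Cfsg.Agent.Lib.GaussSign67 Cfsg.Agent.Lib.OReal67

universe u v w

variable {F : Type u} [Field F] [Finite F] {χ : AddChar F ℤ}

theorem tor_plus (hχ : χ ≠ 1) {d : ℕ} (hd : 1 ≤ d) :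
    ∃ (V : Type) (_ : AddCommGroup V) (_ : Module F V) (_ : FiniteDimensional F V) (Q : QuadraticForm F V) (T : V ≃ₗ[F] V),
      finrank F V = 2 * d ∧ Nd Q ∧ gs χ Q = (Nat.card F : ℤ) ^ d ∧ T ∈ O Q ∧ orderOf T = Nat.card F ^ d - 1 ∧
      ∀ (k : ℕ) (v : V), (T ^ k) v = v → v = 0 ∨ T ^ k = 1 := by
  classical
  obtain ⟨K, _, _, _, hK, z, hz, hzo, -⟩ := PSLTypes.exists_ext F d hd
  have hfd : FiniteDimensional F K := Module.finite_of_finrank_pos (by omega)
  obtain ⟨φ, hφ⟩ := exists_fun (F := F) (one_ne_zero : (1 : K) ≠ 0)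
  have hcardK : Nat.card K = Nat.card F ^ d := by
    rw [Module.natCard_eq_pow_finrank (K := F) (V := K), hK]
  let B : (K × K) →ₗ[F] (K × K) →ₗ[F] F := LinearMap.mk₂ F (fun u v : K × K => φ (u.1 * v.2))
    (by intro u u' v; show φ ((u.1 + u'.1) * v.2) = _; rw [add_mul, map_add])
    (by intro c u v; show φ ((c • u.1) * v.2) = _; rw [smul_mul_assoc, map_smul])
    (by intro u v v'; show φ (u.1 * (v.2 + v'.2)) = _; rw [mul_add, map_add])
    (by intro c u v; show φ (u.1 * (c • v.2)) = _; rw [mul_smul_comm, map_smul])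
  let Q : QuadraticForm F (K × K) := LinearMap.BilinMap.toQuadraticMap B
  have hQx : ∀ x : K × K, Q x = φ (x.1 * x.2) := fun x => rfl
  have hpol : ∀ x y : K × K, polar Q x y = φ (x.1 * y.2) + φ (y.1 * x.2) := by
    intro x y
    show polar (LinearMap.BilinMap.toQuadraticMap B) x y = _
    rw [LinearMap.BilinMap.polar_toQuadraticMap]; rfl
  have hnd : Nd Q := by
    apply nd_of
    intro x hx
    have key : ∀ a : K, (∀ c, φ (a * c) = 0) → a = 0 := by
      intro a ha
      by_contra ha0
      apply hφ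
      have := ha a⁻¹
      rwa [mul_inv_cancel₀ ha0] at this
    apply Prod.ext
    · apply key
      intro c
      have := hx (0, c)
      rw [hpol] at this
      simpa using this
    · apply key
      intro c
      have := hx (c, 0)
      rw [hpol, mul_comm c x.2] at this
      simpa using this
  let f : (K × K) →ₗ[F] (K × K) := (LinearMap.mulLeft F (z : K)).prodMap (LinearMap.mulLeft F ((z⁻¹ : Kˣ) : K))
  have hf : ∀ v, Q (f v) = Q v := by
    intro v
    rw [hQx, hQx]
    show φ ((z * v.1) * (((z⁻¹ : Kˣ) : K) * v.2)) = _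
    have : (z : K) * v.1 * (((z⁻¹ : Kˣ) : K) * v.2) = ((z : K) * ((z⁻¹ : Kˣ) : K)) * (v.1 * v.2) := by ring
    rw [this, Units.mul_inv, one_mul]
  let T := ofMap hnd f hf
  have hT1 : ∀ v, (T v).1 = z * v.1 := fun v => rfl
  have hT2 : ∀ v, (T v).2 = ((z⁻¹ : Kˣ) : K) * v.2 := fun v => rfl
  have hTk : ∀ (k : ℕ) v, ((T ^ k) v).1 = (z : K) ^ k * v.1 := by
    intro k
    induction k with
    | zero => intro v; rw [pow_zero, pow_zero, one_mul]; rfl
    | succ k ih =>
      intro v
      rw [pow_succ]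
      show ((T ^ k) (T v)).1 = _
      rw [ih, hT1, pow_succ]; ring
  have hT2k : ∀ (k : ℕ) v, ((T ^ k) v).2 = ((z⁻¹ : Kˣ) : K) ^ k * v.2 := by
    intro k
    induction k with
    | zero => intro v; rw [pow_zero, pow_zero, one_mul]; rfl
    | succ k ih =>
      intro v
      rw [pow_succ]
      show ((T ^ k) (T v)).2 = _
      rw [ih, hT2, pow_succ]; ring
  have hone : ∀ k, T ^ k = 1 ↔ z ^ k = 1 := by
    intro k
    constructor
    · intro hk
      apply Units.ext
      have h4 := congrArg Prod.fst (LinearEquiv.congr_fun hk ((1 : K), (0 : K)))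
      rw [hTk, mul_one] at h4
      rw [Units.val_pow_eq_pow_val, h4]; rfl
    · intro hk
      ext1 v
      apply Prod.ext
      · rw [hTk, ← Units.val_pow_eq_pow_val, hk, Units.val_one, one_mul]; rfl
      · rw [hT2k, ← Units.val_pow_eq_pow_val, inv_pow, hk, inv_one, Units.val_one, one_mul]; rfl
  refine ⟨K × K, inferInstance, inferInstance, inferInstance, Q, T, by rw [finrank_prod, hK]; ring, hnd, ?_, ofMap_mem _ _ _, ?_, ?_⟩
  · let B' : K →ₗ[F] K →ₗ[F] F := LinearMap.mk₂ F (fun u v : K => φ (u * v))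
      (by intro u u' v; rw [add_mul, map_add])
      (by intro c u v; rw [smul_mul_assoc, map_smul])
      (by intro u v v'; rw [mul_add, map_add])
      (by intro c u v; rw [mul_smul_comm, map_smul])
    have hB' : Function.Injective B' := by
      rw [← LinearMap.ker_eq_bot, LinearMap.ker_eq_bot']
      intro a ha
      by_contra ha0
      apply hφ
      have h1 : φ (a * a⁻¹) = 0 := LinearMap.congr_fun ha a⁻¹
      rwa [mul_inv_cancel₀ ha0] at h1
    have h1 := gs_bilin hχ B' hB'
    rw [hcardK] at h1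
    have h2 : gs χ Q = gs χ (fun z : K × K => B' z.1 z.2) := rfl
    rw [h2, h1]
    push_cast
    rfl
  · rw [← hzo]
    apply Nat.dvd_antisymm
    · apply orderOf_dvd_of_pow_eq_one
      rw [hone, pow_orderOf_eq_one]
    · apply orderOf_dvd_of_pow_eq_one
      rw [← hone, pow_orderOf_eq_one]
  · intro k v hv
    by_cases hz1 : z ^ k = 1
    · exact Or.inr ((hone k).2 hz1)
    · left
      have hz1' : (z : K) ^ k ≠ 1 := fun h => hz1 (Units.ext (by rw [Units.val_pow_eq_pow_val]; exact h))
      have hz2' : ((z⁻¹ : Kˣ) : K) ^ k ≠ 1 := fun h => hz1 (inv_eq_one.1 (Units.ext (by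
        rw [← inv_pow, Units.val_pow_eq_pow_val]; exact h)))
      apply Prod.ext
      · have h4 := congrArg Prod.fst hv
        rw [hTk] at h4
        have h5 : ((z : K) ^ k - 1) * v.1 = 0 := by rw [sub_mul, h4, one_mul, sub_self]
        exact (mul_eq_zero.1 h5).resolve_left (sub_ne_zero.2 hz1')
      · have h4 := congrArg Prod.snd hv
        rw [hT2k] at h4
        have h5 : (((z⁻¹ : Kˣ) : K) ^ k - 1) * v.2 = 0 := by rw [sub_mul, h4, one_mul, sub_self]
        exact (mul_eq_zero.1 h5).resolve_left (sub_ne_zero.2 hz2')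

theorem tor_minus [CharP F 2] (hχ : χ ≠ 1) (hχ1 : ∀ x, χ x = 1 ∨ χ x = -1)
    (hab : ∃ a b : F, ∀ z₁ z₂ : F, z₁ ^ 2 + a * z₁ * z₂ + b * z₂ ^ 2 = 0 → z₁ = 0 ∧ z₂ = 0) {d : ℕ} (hd : 1 ≤ d) :
    ∃ (V : Type) (_ : AddCommGroup V) (_ : Module F V) (_ : FiniteDimensional F V) (Q : QuadraticForm F V) (T : V ≃ₗ[F] V),
      finrank F V = 2 * d ∧ Nd Q ∧ gs χ Q = -(Nat.card F : ℤ) ^ d ∧ T ∈ O Q ∧ orderOf T = Nat.card F ^ d + 1 ∧
      ∀ (k : ℕ) (v : V), (T ^ k) v = v → v = 0 ∨ T ^ k = 1 := by
  classical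
  obtain ⟨K, _, _, _, hK, z, hz, hzo, -⟩ := PSLTypes.exists_ext F (2 * d) (by omega)
  have hfd : FiniteDimensional F K := Module.finite_of_finrank_pos (by omega)
  have hFf := Fintype.ofFinite F
  have hKf := Fintype.ofFinite K
  have hcharK : CharP K 2 := charP_of_injective_algebraMap (algebraMap F K).injective 2
  have hcardK : Nat.card K = Nat.card F ^ (2 * d) := by
    rw [Module.natCard_eq_pow_finrank (K := F) (V := K), hK]
  have hcard2 : Nat.card K = (Nat.card F ^ d) ^ 2 := by rw [hcardK, ← pow_mul, mul_comm]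
  set q := Nat.card F with hq
  have hq1 : 1 < q := Finite.one_lt_card
  let τ : K ≃ₐ[F] K := (FiniteField.frobeniusAlgEquivOfAlgebraic F K) ^ d
  have hτ : ∀ x, τ x = x ^ (q ^ d) := by
    intro x
    have h1 : ⇑τ = (⇑(FiniteField.frobeniusAlgEquivOfAlgebraic F K))^[d] := AlgEquiv.coe_pow _ _
    rw [h1, FiniteField.coe_frobeniusAlgEquivOfAlgebraic_iterate, hq, Nat.card_eq_fintype_card]
  have hττ : ∀ x, τ (τ x) = x := by
    intro x
    rw [hτ, hτ, ← pow_mul, ← pow_two, ← hcard2, Nat.card_eq_fintype_card]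
    exact FiniteField.pow_card x
  obtain ⟨u, hu⟩ : ∃ u : K, u + τ u ≠ 0 := by
    refine ⟨z, fun h => ?_⟩
    have h1 : τ z = z := (CharTwo.add_eq_zero.1 h).symm
    rw [hτ] at h1
    have hqd : 1 < q ^ d := Nat.one_lt_pow (by omega) hq1
    have h3 : z ^ (q ^ d - 1) = 1 := by
      apply Units.ext
      push_cast
      have h4 : (z : K) ^ (q ^ d - 1) * z = 1 * z := by
        rw [← pow_succ, Nat.sub_add_cancel hqd.le, h1, one_mul]
      exact mul_right_cancel₀ z.ne_zero h4
    have h4 := orderOf_dvd_of_pow_eq_one h3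
    rw [hzo] at h4
    have h5 := Nat.le_of_dvd (by omega) h4
    have h6 : q ^ d < q ^ (2 * d) := Nat.pow_lt_pow_right hq1 (by omega)
    omega
  obtain ⟨φ, hφ⟩ := exists_fun (F := F) hu
  obtain ⟨w, hw, hwo⟩ := SympSpec.exists_norm_one (q ^ d) hcard2
  have hwτ : w * τ w = 1 := by rw [hτ, hw]
  let B : K →ₗ[F] K →ₗ[F] F := LinearMap.mk₂ F (fun u v : K => φ (u * τ v))
    (by intro u u' v; rw [add_mul, map_add])
    (by intro c u v; rw [smul_mul_assoc, map_smul])
    (by intro u v v'; rw [map_add, mul_add, map_add])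
    (by intro c u v; rw [map_smul, mul_smul_comm, map_smul])
  let Q : QuadraticForm F K := LinearMap.BilinMap.toQuadraticMap B
  have hQx : ∀ x : K, Q x = φ (x * τ x) := fun x => rfl
  have hpol : ∀ x y : K, polar Q x y = φ (x * τ y) + φ (y * τ x) := by
    intro x y
    show polar (LinearMap.BilinMap.toQuadraticMap B) x y = _
    rw [LinearMap.BilinMap.polar_toQuadraticMap]; rfl
  have hnd : Nd Q := by
    apply nd_of
    intro x hx
    by_contra hx0
    apply hφ
    have h1 := hx (τ (u / x))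
    have e1 : x * τ (τ (u / x)) = u := by rw [hττ, mul_div_cancel₀ _ hx0]
    have e2 : τ (u / x) * τ x = τ u := by rw [← map_mul, div_mul_cancel₀ _ hx0]
    rw [hpol, e1, e2, ← map_add] at h1
    exact h1
  have hQw : ∀ y : K, y * τ y = 1 → ∀ x, Q (y * x) = Q x := by
    intro y hy x
    rw [hQx, hQx, map_mul τ]
    have : y * x * (τ y * τ x) = (y * τ y) * (x * τ x) := by ring
    rw [this, hy, one_mul]
  let T := ofMap hnd (LinearMap.mulLeft F w) (hQw w hwτ)
  have hT : ∀ v, T v = w * v := fun v => rfl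
  have hTk : ∀ (k : ℕ) v, (T ^ k) v = w ^ k * v := by
    intro k
    induction k with
    | zero => intro v; rw [pow_zero, pow_zero, one_mul]; rfl
    | succ k ih =>
      intro v
      rw [pow_succ]
      show (T ^ k) (T v) = _
      rw [ih, hT, pow_succ]; ring
  have hw1 : w ≠ 1 := by
    intro h
    have h1 := hwo 1 (by rw [h, one_pow])
    have := Nat.le_of_dvd one_pos h1
    have : 0 < q ^ d := pow_pos (by omega) _
    omega
  have hord : orderOf w = q ^ d + 1 := by
    apply Nat.dvd_antisymm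
    · apply orderOf_dvd_of_pow_eq_one
      rw [pow_succ', hw]
    · exact hwo _ (pow_orderOf_eq_one w)
  have hone : ∀ k, T ^ k = 1 ↔ w ^ k = 1 := by
    intro k
    constructor
    · intro hk
      have h4 := LinearEquiv.congr_fun hk (1 : K)
      rw [hTk, mul_one] at h4
      rw [h4]; rfl
    · intro hk
      ext1 v
      rw [hTk, hk, one_mul]; rfl
  refine ⟨K, inferInstance, inferInstance, inferInstance, Q, T, by rw [hK], hnd, ?_, ofMap_mem _ _ _, ?_, ?_⟩
  · rcases gs_cases hχ hnd hK hab with h1 | h1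
    · exfalso
      -- a prime divisor of `q ^ d + 1`
      have hqd : 1 < q ^ d := Nat.one_lt_pow (by omega) hq1
      set r := Nat.minFac (q ^ d + 1) with hr
      have hrp : r.Prime := Nat.minFac_prime (by omega)
      have hrf : Fact r.Prime := ⟨hrp⟩
      obtain ⟨c, hc⟩ := Nat.minFac_dvd (q ^ d + 1)
      rw [← hr] at hc
      have hc0 : c ≠ 0 := by rintro rfl; omega
      have hqeven : 2 ∣ q := by
        obtain ⟨m, _, hm⟩ := FiniteField.card F 2
        rw [hq, Nat.card_eq_fintype_card, hm]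
        exact dvd_pow_self 2 m.pos.ne'
      have hr2 : r ≠ 2 := by
        intro h
        have h3 : 2 ∣ q ^ d + 1 := ⟨c, by rw [hc, h]⟩
        have h4 : 2 ∣ q ^ d := dvd_pow hqeven (by omega)
        have h5 := (Nat.dvd_add_right h4).1 h3
        omega
      let y := w ^ c
      have hyr : y ^ r = 1 := by
        show (w ^ c) ^ r = 1
        rw [← pow_mul, mul_comm, ← hc, ← hord, pow_orderOf_eq_one]
      have hy1 : y ≠ 1 := by
        intro h
        have h3 := orderOf_dvd_of_pow_eq_one h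
        rw [hord, hc] at h3
        have h4 := Nat.le_of_dvd (Nat.pos_of_ne_zero hc0) h3
        have := hrp.two_le
        nlinarith [Nat.pos_of_ne_zero hc0]
      have hyτ : y * τ y = 1 := by
        show w ^ c * τ (w ^ c) = 1
        rw [map_pow, ← mul_pow, hwτ, one_pow]
      let A := {x : K // χ (Q x) = -1}
      let f : Function.End A := fun x => ⟨y * x.1, by rw [hQw y hyτ]; exact x.2⟩
      have hfk : ∀ (k : ℕ) (x : A), ((f ^ k) x).1 = y ^ k * x.1 := by
        intro k
        induction k with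
        | zero => intro x; rw [pow_zero, pow_zero, one_mul]; rfl
        | succ k ih =>
          intro x
          rw [pow_succ]
          show ((f ^ k) (f x)).1 = _
          rw [ih, pow_succ]
          show y ^ k * (y * x.1) = _
          ring
      have h2 := Equiv.Perm.card_fixedPoints_modEq (α := A) (f := f) (p := r) (n := 1) (by
        rw [pow_one]
        funext x
        apply Subtype.ext
        rw [hfk, hyr, one_mul]; rfl)
      have h3 : Fintype.card (Function.fixedPoints f) = 0 := by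
        rw [Fintype.card_eq_zero_iff]
        refine ⟨fun x => ?_⟩
        have h4 : y * x.1.1 = x.1.1 := congrArg Subtype.val x.2
        have h5 : (y - 1) * x.1.1 = 0 := by rw [sub_mul, h4, one_mul, sub_self]
        have h6 := (mul_eq_zero.1 h5).resolve_left (sub_ne_zero.2 hy1)
        have h7 := x.1.2
        rw [h6, QuadraticMap.map_zero, AddChar.map_zero_eq_one] at h7
        norm_num at h7
      rw [h3] at h2
      have h4 : r ∣ Fintype.card A := (Nat.modEq_zero_iff_dvd).1 h2
      have h5 : gs χ Q = (Fintype.card K : ℤ) - 2 * Fintype.card A := by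
        rw [gs_eq]
        have h6 : ∀ x : K, χ (Q x) = 1 - 2 * (if χ (Q x) = -1 then 1 else 0) := by
          intro x
          rcases hχ1 (Q x) with h | h <;> rw [h] <;> norm_num
        rw [Finset.sum_congr rfl fun x _ => h6 x, Finset.sum_sub_distrib, ← Finset.mul_sum, Finset.sum_boole,
          Fintype.card_subtype]
        simp
      rw [h1, ← Nat.card_eq_fintype_card (α := K), hcardK] at h5
      obtain ⟨a, ha⟩ := h4
      have h6 : (r : ℤ) ∣ (q : ℤ) ^ (2 * d) - (q : ℤ) ^ d := by
        refine ⟨2 * a, ?_⟩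
        rw [ha] at h5
        push_cast at h5
        linarith
      have h7 : (r : ℤ) ∣ (q : ℤ) ^ d + 1 := by
        refine ⟨c, ?_⟩
        exact_mod_cast hc
      have h8 : (r : ℤ) ∣ 2 := by
        have h9 : (2 : ℤ) = ((q : ℤ) ^ (2 * d) - (q : ℤ) ^ d) - ((q : ℤ) ^ d + 1) * ((q : ℤ) ^ d - 2) := by ring
        rw [h9]
        exact dvd_sub h6 (dvd_mul_of_dvd_left h7 _)
      have h9 : r ∣ 2 := by exact_mod_cast h8
      exact hr2 ((Nat.prime_dvd_prime_iff_eq hrp Nat.prime_two).1 h9)
    · exact h1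
  · rw [← hord]
    apply Nat.dvd_antisymm
    · apply orderOf_dvd_of_pow_eq_one
      rw [hone, pow_orderOf_eq_one]
    · apply orderOf_dvd_of_pow_eq_one
      rw [← hone, pow_orderOf_eq_one]
  · intro k v hv
    by_cases hz1 : w ^ k = 1
    · exact Or.inr ((hone k).2 hz1)
    · left
      rw [hTk] at hv
      have h5 : (w ^ k - 1) * v = 0 := by rw [sub_mul, hv, one_mul, sub_self]
      exact (mul_eq_zero.1 h5).resolve_left (sub_ne_zero.2 hz1)

end Cfsg.Agent.Lib.NsPt67
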