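import Cfsg.Agent.Lib.ONWB
import Cfsg.Agent.Lib.ONJN

set_option autoImplicit false
set_option linter.all false
set_option maxRecDepth 100000

namespace Cfsg.Agent.Lib.ONJB
open Cfsg.Spor Cfsg.Agent.Lib.BenesPerm Cfsg.Agent.Lib.BenesAct Cfsg.Agent.Lib.BenesWord
open Cfsg.Agent.Lib.BenesPlane Cfsg.Agent.Lib.CosetClosure Cfsg.Agent.Lib.CosetFacts
open Cfsg.Agent.Lib.CosetMain Cfsg.Agent.Lib.CoxBridge Cfsg.Agent.Lib.CosetGroup Cfsg.Agent.Lib.CosetInst Cfsg.Agent.Lib.CosetInj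
open Cfsg.Agent.Lib.BenesPack Cfsg.Agent.Lib.CosetPack Cfsg.Agent.Lib.CosetChain Cfsg.Agent.Lib.CosetWide Cfsg.Agent.Lib.CosetWide2
open Cfsg.Agent.Lib.ONRel Cfsg.Agent.Lib.ONWN0 Cfsg.Agent.Lib.ONWN1 Cfsg.Agent.Lib.ONWB Cfsg.Agent.Lib.ONJN

/-- the extended networks -/
noncomputable def netsJ : List Net := [n0, n1, n2, n3, n4, n5, n6, n7, q0, q1, q2, q3, q4, q5, q6, q7]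

/-- inverse letters -/
noncomputable def ivj : ℕ → ℕ := ivOf [0, 1, 2, 3, 4, 5, 7, 6, 8, 9, 10, 12, 11, 13, 14, 15]

/-- relations -/
def jrels : List Wd := [(Wd.mul (Wd.inv (Wd.g 8)) (Wd.mul (Wd.mul (Wd.mul (Wd.mul (Wd.mul (Wd.mul (Wd.mul (Wd.mul (Wd.mul (Wd.mul (Wd.mul (Wd.mul (Wd.mul (Wd.mul (Wd.mul (Wd.mul (Wd.mul (Wd.mul (Wd.g 3) (Wd.g 2)) (Wd.g 6)) (Wd.g 3)) (Wd.g 4)) (Wd.g 1)) (Wd.g 2)) (Wd.g 3)) (Wd.g 2)) (Wd.g 1)) (Wd.g 2)) (Wd.g 3)) (Wd.g 2)) (Wd.g 1)) (Wd.g 4)) (Wd.g 3)) (Wd.g 7)) (Wd.g 2)) (Wd.g 3))),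
  (Wd.mul (Wd.inv (Wd.g 11)) (Wd.mul (Wd.g 1) (Wd.g 2))),
  (Wd.mul (Wd.inv (Wd.g 9)) (Wd.mul (Wd.mul (Wd.g 11) (Wd.g 8)) (Wd.g 12))),
  (Wd.mul (Wd.inv (Wd.g 10)) (Wd.mul (Wd.mul (Wd.mul (Wd.mul (Wd.mul (Wd.mul (Wd.mul (Wd.mul (Wd.mul (Wd.mul (Wd.mul (Wd.mul (Wd.mul (Wd.mul (Wd.mul (Wd.mul (Wd.mul (Wd.mul (Wd.mul (Wd.mul (Wd.mul (Wd.mul (Wd.mul (Wd.mul (Wd.mul (Wd.mul (Wd.mul (Wd.mul (Wd.mul (Wd.mul (Wd.g 12) (Wd.g 8)) (Wd.g 11)) (Wd.g 8)) (Wd.g 12)) (Wd.g 8)) (Wd.g 11)) (Wd.g 8)) (Wd.g 12)) (Wd.g 8)) (Wd.g 12)) (Wd.g 8)) (Wd.g 11)) (Wd.g 8)) (Wd.g 11)) (Wd.g 8)) (Wd.g 12)) (Wd.g 8)) (Wd.g 12)) (Wd.g 8)) (Wd.g 11)) (Wd.g 8)) (Wd.g 11)) (Wd.g 8)) (Wd.g 12)) (Wd.g 8)) (Wd.g 11)) (Wd.g 8)) (Wd.g 12)) (Wd.g 8)) (Wd.g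 11))),
  (Wd.mul (Wd.inv (Wd.g 13)) (Wd.mul (Wd.mul (Wd.mul (Wd.mul (Wd.mul (Wd.mul (Wd.mul (Wd.mul (Wd.mul (Wd.mul (Wd.mul (Wd.mul (Wd.mul (Wd.mul (Wd.mul (Wd.mul (Wd.mul (Wd.mul (Wd.mul (Wd.mul (Wd.mul (Wd.mul (Wd.mul (Wd.mul (Wd.mul (Wd.mul (Wd.mul (Wd.mul (Wd.g 4) (Wd.g 2)) (Wd.g 3)) (Wd.g 1)) (Wd.g 2)) (Wd.g 3)) (Wd.g 1)) (Wd.g 7)) (Wd.g 4)) (Wd.g 1)) (Wd.g 2)) (Wd.g 3)) (Wd.g 2)) (Wd.g 1)) (Wd.g 0)) (Wd.g 1)) (Wd.g 2)) (Wd.g 3)) (Wd.g 2)) (Wd.g 1)) (Wd.g 4)) (Wd.g 6)) (Wd.g 1)) (Wd.g 3)) (Wd.g 2)) (Wd.g 1)) (Wd.g 3)) (Wd.g 2)) (Wd.g 4))),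
  (Wd.mul (Wd.inv (Wd.g 14)) (Wd.mul (Wd.mul (Wd.g 6) (Wd.g 13)) (Wd.g 7))),
  (Wd.mul (Wd.inv (Wd.g 15)) (Wd.mul (Wd.mul (Wd.mul (Wd.mul (Wd.mul (Wd.mul (Wd.mul (Wd.mul (Wd.mul (Wd.mul (Wd.g 6) (Wd.g 13)) (Wd.g 7)) (Wd.g 13)) (Wd.g 7)) (Wd.g 13)) (Wd.g 6)) (Wd.g 13)) (Wd.g 6)) (Wd.g 13)) (Wd.g 7))),
  (Wd.pow (Wd.mul (Wd.g 8) (Wd.g 9)) 19),
  (Wd.pow (Wd.mul (Wd.g 8) (Wd.g 10)) 19),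
  (Wd.pow (Wd.mul (Wd.g 9) (Wd.g 10)) 11),
  (Wd.mul (Wd.g 9) (Wd.inv (Wd.mul (Wd.mul (Wd.g 11) (Wd.g 8)) (Wd.inv (Wd.g 11))))),
  (Wd.pow (Wd.g 11) 3),
  (Wd.pow (Wd.mul (Wd.g 8) (Wd.g 11)) 7),
  (Wd.mul (Wd.mul (Wd.mul (Wd.mul (Wd.mul (Wd.mul (Wd.mul (Wd.mul (Wd.g 8) (Wd.g 10)) (Wd.g 9)) (Wd.g 11)) (Wd.g 10)) (Wd.g 11)) (Wd.g 8)) (Wd.g 10)) (Wd.g 11)),
  (Wd.mul (Wd.mul (Wd.mul (Wd.mul (Wd.mul (Wd.mul (Wd.mul (Wd.mul (Wd.mul (Wd.mul (Wd.mul (Wd.mul (Wd.mul (Wd.g 8) (Wd.g 9)) (Wd.g 10)) (Wd.g 11)) (Wd.g 9)) (Wd.g 10)) (Wd.g 11)) (Wd.g 8)) (Wd.g 9)) (Wd.inv (Wd.g 11))) (Wd.g 10)) (Wd.g 9)) (Wd.inv (Wd.g 11))) (Wd.g 9)),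
  (Wd.mul (Wd.mul (Wd.mul (Wd.mul (Wd.mul (Wd.mul (Wd.mul (Wd.mul (Wd.mul (Wd.mul (Wd.mul (Wd.mul (Wd.mul (Wd.g 9) (Wd.g 10)) (Wd.g 11)) (Wd.g 10)) (Wd.g 11)) (Wd.g 9)) (Wd.inv (Wd.g 11))) (Wd.g 9)) (Wd.g 10)) (Wd.g 11)) (Wd.g 10)) (Wd.g 11)) (Wd.g 9)) (Wd.inv (Wd.g 11))),
  (Wd.pow (Wd.mul (Wd.g 13) (Wd.g 14)) 6),
  (Wd.pow (Wd.mul (Wd.g 13) (Wd.g 15)) 5),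
  (Wd.pow (Wd.mul (Wd.g 14) (Wd.g 15)) 4),
  (Wd.mul (Wd.g 14) (Wd.inv (Wd.mul (Wd.mul (Wd.g 6) (Wd.g 13)) (Wd.inv (Wd.g 6))))),
  (Wd.pow (Wd.g 6) 4),
  (Wd.pow (Wd.mul (Wd.g 13) (Wd.g 6)) 11),
  (Wd.mul (Wd.mul (Wd.mul (Wd.mul (Wd.mul (Wd.mul (Wd.g 13) (Wd.g 14)) (Wd.inv (Wd.g 6))) (Wd.g 13)) (Wd.inv (Wd.g 6))) (Wd.g 13)) (Wd.g 15)),
  (Wd.mul (Wd.mul (Wd.mul (Wd.mul (Wd.mul (Wd.mul (Wd.mul (Wd.g 13) (Wd.g 14)) (Wd.g 6)) (Wd.g 14)) (Wd.g 15)) (Wd.g 14)) (Wd.inv (Wd.g 6))) (Wd.g 14))]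

/-- relations of the lanes -/
def eqsJ : List (List ℕ × List ℕ) := [([0, 0], []), ([1, 1], []), ([2, 2], []), ([3, 3], []), ([4, 4], []), ([5, 5], []), ([7, 6], []), ([6, 7], []), ([8, 8], []), ([9, 9], []), ([10, 10], []), ([12, 11], []), ([11, 12], []), ([13, 13], []), ([14, 14], []), ([15, 15], []), ([8, 3, 2, 6, 3, 4, 1, 2, 3, 2], [3, 2, 6, 3, 4, 1, 2, 3, 2, 1]), ([12, 1], [2]), ([9, 11], [11, 8]), ([10, 12, 8, 11, 8, 12, 8, 11, 8, 12, 8, 12, 8, 11, 8, 11], [12, 8, 11, 8, 12, 8, 11, 8, 12, 8, 12, 8, 11, 8, 11, 8]), ([13, 4, 2, 3, 1, 2, 3, 1, 7, 4, 1, 2, 3, 2, 1], [4, 2, 3, 1, 2, 3, 1, 7, 4, 1, 2, 3, 2, 1, 0]), ([14, 6], [6, 13]), ([15, 6, 13, 7, 13, 7], [6, 13, 7, 13, 7, 13]), ([8, 9, 8, 9, 8, 9, 8, 9, 8,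 9, 8, 9, 8, 9, 8, 9, 8, 9, 8], [9, 8, 9, 8, 9, 8, 9, 8, 9, 8, 9, 8, 9, 8, 9, 8, 9, 8, 9]), ([8, 10, 8, 10, 8, 10, 8, 10, 8, 10, 8, 10, 8, 10, 8, 10, 8, 10, 8], [10, 8, 10, 8, 10, 8, 10, 8, 10, 8, 10, 8, 10, 8, 10, 8, 10, 8, 10]), ([9, 10, 9, 10, 9, 10, 9, 10, 9, 10, 9], [10, 9, 10, 9, 10, 9, 10, 9, 10, 9, 10]), ([9, 11], [11, 8]), ([11, 11], [12]), ([8, 11, 8, 11, 8, 11, 8], [12, 8, 12, 8, 12, 8, 12]), ([8, 10, 9, 11, 10], [12, 10, 8, 12]), ([8, 9, 10, 11, 9, 10, 11], [9, 11, 9, 10, 11, 9, 8]), ([9, 10, 11, 10, 11, 9, 12], [11, 9, 12, 10, 12, 10, 9]), ([13, 14, 13, 14, 13, 14], [14, 13, 14, 13, 14, 13]), ([13, 15, 13, 15, 13], [15, 13, 15, 13, 15]), ([14, 15, 14, 15], [15, 14, 15, 14]), ([14, 6], [6, 13]), ([6,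 6], [7, 7]), ([13, 6, 13, 6, 13, 6, 13, 6, 13, 6, 13], [7, 13, 7, 13, 7, 13, 7, 13, 7, 13, 7]), ([13, 14, 7, 13], [15, 13, 6]), ([13, 14, 6, 14], [14, 6, 14, 15])]

theorem j_inv_sub : ∀ q ∈ invPairs ivj 16, q ∈ eqsJ := by decide +kernel
theorem j_rel_sub : ∀ q ∈ jrels.map (halfW ivj), q ∈ eqsJ := by decide +kernel

end Cfsg.Agent.Lib.ONJB
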