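import Cfsg.Agent.Lib.ONOrd
import Cfsg.Agent.Lib.LaneOut79d
import Cfsg.Agent.Lib.ONOut79t

/-! Data for the automorphism group of the O'Nan group (helper79). -/

set_option autoImplicit false
set_option linter.all false
set_option maxRecDepth 100000
set_option Elab.async false

namespace Cfsg.Agent.Lib.ONOut79
open Cfsg.Agent.Lib.BenesPerm Cfsg.Agent.Lib.BenesAct Cfsg.Agent.Lib.BenesWord Cfsg.Agent.Lib.BenesPack
open Cfsg.Agent.Lib.TransLanes Cfsg.Agent.Lib.LaneTools Cfsg.Agent.Lib.LaneOut79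
open Cfsg.Agent.Lib.ONRel Cfsg.Agent.Lib.ONWB Cfsg.Agent.Lib.ONWS Cfsg.Agent.Lib.ONWIdx

/-- the masks -/
noncomputable def Ms : List ℕ := [M0, M1, M2, M3]
def X : List ℕ := [0, 1, 2, 3, 4, 5]
def U : List ℕ := [2, 4, 3, 2, 1, 0, 3, 2, 3, 4, 3, 2, 3, 1, 2, 3, 4, 2, 3, 1, 2, 3, 2]
def W : List ℕ := [2, 7, 1, 7, 4, 2, 3, 2, 3, 1, 7, 4, 5, 2, 0]
def D : List ℕ := [1, 0, 2, 6, 1, 4, 3, 6, 2, 1, 4, 5, 3, 4, 2, 7, 3, 4, 1, 6, 2, 3, 4, 5, 3]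
def T2 : List ℕ := [3, 4, 6, 2, 1, 7, 3, 2, 1, 6, 4, 6, 3, 4, 2, 3, 1, 7, 4, 2, 1, 6, 3, 2, 3, 1, 0]
def T3 : List ℕ := [2, 3, 2, 1, 4, 3, 2, 1, 3, 2, 4, 5, 3, 4, 2, 3, 2, 3, 1, 2, 3, 4, 2, 3, 2]
def P1 : List ℕ := [0, 1, 2, 3, 4, 5]
def P2 : List ℕ := [0, 1, 2, 3, 4, 5, 0, 1, 2, 3, 4, 5]
def P4 : List ℕ := [0, 1, 2, 1, 0, 3, 2, 1, 4, 3, 2, 3, 4, 2, 3, 1, 2, 3, 4, 5, 4, 3]
def P7 : List ℕ := [2, 1, 3, 6, 2, 1, 0, 4, 3, 2, 1, 3, 4, 6, 1, 2, 3, 2, 1, 6, 2, 3, 4, 6, 3, 2, 1, 6]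
def P14 : List ℕ := [0, 7, 1, 3, 2, 4, 3, 6, 1, 2, 1, 4, 3, 7, 4, 2, 1, 6, 2, 3, 4, 5, 1, 2, 3, 1, 0]
def P9 : List ℕ := [0, 1, 2, 3, 4, 5, 0, 1, 2, 3, 4, 5, 0, 1, 2, 3, 4, 5, 0, 1, 2, 3, 4, 5, 0, 1, 2, 3, 4, 5, 0, 1, 2, 3, 4, 5, 0, 1, 2, 3, 4, 5, 0, 1, 2, 3, 4, 5, 0, 1, 2, 3, 4, 5]
theorem relX19 : relT tabs 8 ivx [22, 1, 0] (wpow X 19) ([]) = true := by decide +kernel
theorem relU : relT tabs 8 ivx [22, 1, 0] (U ++ X) (wpow X 8 ++ U) = true := by decide +kernel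
theorem relU' : relT tabs 8 ivx [22, 1, 0] (X ++ U) (U ++ wpow X 12) = true := by decide +kernel
theorem relU6 : relT tabs 8 ivx [22, 1, 0] (wpow U 6) ([]) = true := by decide +kernel
theorem relD2 : relT tabs 8 ivx [22, 1, 0] (D ++ D) ([]) = true := by decide +kernel
theorem relUD : relT tabs 8 ivx [22, 1, 0] (U ++ D) (D ++ U) = true := by decide +kernel
theorem relT2 : relT tabs 8 ivx [22, 1, 0] (T2) (wpow U 2) = true := by decide +kernel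
theorem relT3 : relT tabs 8 ivx [22, 1, 0] (T3) (wpow U 3) = true := by decide +kernel
theorem relP1 : relT tabs 8 ivx [22, 1, 0] (P1) (wpow X 1) = true := by decide +kernel
theorem relP2 : relT tabs 8 ivx [22, 1, 0] (P2) (wpow X 2) = true := by decide +kernel
theorem relP4 : relT tabs 8 ivx [22, 1, 0] (P4) (wpow X 4) = true := by decide +kernel
theorem relP7 : relT tabs 8 ivx [22, 1, 0] (P7) (wpow X 7) = true := by decide +kernel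
theorem relP14 : relT tabs 8 ivx [22, 1, 0] (P14) (wpow X 14) = true := by decide +kernel
theorem relP9 : relT tabs 8 ivx [22, 1, 0] (P9) (wpow X 9) = true := by decide +kernel
theorem relW2 : relT tabs 8 ivx [22, 1, 0] (W ++ W) ([]) = true := by decide +kernel
theorem relA : relT tabs 8 ivx [22, 1, 0] (wpow (X ++ (W ++ (wpow X 7 ++ W))) 4) ([]) = true := by decide +kernel
theorem relB : relT tabs 8 ivx [22, 1, 0] (wpow (X ++ W) 15) ([]) = true := by decide +kernel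
def E00 : List ℕ := []
theorem relE00 : relT tabs 8 ivx [22, 1, 0] (E00) (wpow U 0 ++ wpow D 0) = true := by decide +kernel
def E01 : List ℕ := [1, 0, 2, 6, 1, 4, 3, 6, 2, 1, 3, 4, 5, 3, 2, 3, 4, 7, 3, 1, 6, 2, 3, 4, 5]
theorem relE01 : relT tabs 8 ivx [22, 1, 0] (E01) (wpow U 0 ++ wpow D 1) = true := by decide +kernel
def E10 : List ℕ := [2, 4, 3, 2, 1, 0, 3, 2, 3, 4, 3, 2, 3, 1, 2, 3, 4, 2, 3, 1, 2, 3, 2]
theorem relE10 : relT tabs 8 ivx [22, 1, 0] (E10) (wpow U 1 ++ wpow D 0) = true := by decide +kernel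
def E11 : List ℕ := [1, 4, 3, 2, 1, 3, 2, 3, 4, 3, 2, 3, 1, 2, 3, 4, 5, 2, 3, 4, 1, 0]
theorem relE11 : relT tabs 8 ivx [22, 1, 0] (E11) (wpow U 1 ++ wpow D 1) = true := by decide +kernel
def E20 : List ℕ := [3, 4, 6, 2, 1, 7, 3, 2, 1, 6, 4, 6, 3, 4, 2, 3, 1, 7, 4, 2, 1, 6, 3, 2, 3, 1, 0]
theorem relE20 : relT tabs 8 ivx [22, 1, 0] (E20) (wpow U 2 ++ wpow D 0) = true := by decide +kernel
def E21 : List ℕ := [1, 3, 2, 1, 3, 2, 1, 3, 4, 3, 2, 1, 5, 3, 4, 3, 2, 3, 0, 1, 2, 3, 4, 5, 2, 1, 0]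
theorem relE21 : relT tabs 8 ivx [22, 1, 0] (E21) (wpow U 2 ++ wpow D 1) = true := by decide +kernel
def E30 : List ℕ := [2, 3, 2, 1, 4, 3, 2, 1, 3, 2, 4, 5, 3, 4, 2, 3, 2, 3, 1, 2, 3, 4, 2, 3, 2]
theorem relE30 : relT tabs 8 ivx [22, 1, 0] (E30) (wpow U 3 ++ wpow D 0) = true := by decide +kernel
def E31 : List ℕ := [0, 4, 3, 2, 6, 1, 3, 2, 6, 1, 6, 4, 3, 2, 6, 4, 1, 7, 3, 4, 2, 3, 1, 6, 2, 3, 4]
theorem relE31 : relT tabs 8 ivx [22, 1, 0] (E31) (wpow U 3 ++ wpow D 1) = true := by decide +kernel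
def E40 : List ℕ := [0, 3, 2, 1, 3, 6, 2, 1, 4, 3, 2, 6, 3, 4, 3, 1, 2, 7, 3, 4, 1, 7, 3, 4, 2, 1, 0]
theorem relE40 : relT tabs 8 ivx [22, 1, 0] (E40) (wpow U 4 ++ wpow D 0) = true := by decide +kernel
def E41 : List ℕ := [0, 1, 0, 5, 4, 3, 2, 1, 0, 3, 2, 1, 4, 5, 3, 4, 2, 3, 2, 3, 4, 1, 2, 3, 2, 3, 1]
theorem relE41 : relT tabs 8 ivx [22, 1, 0] (E41) (wpow U 4 ++ wpow D 1) = true := by decide +kernel
def E50 : List ℕ := [2, 3, 2, 1, 3, 2, 4, 3, 2, 3, 1, 2, 3, 4, 3, 2, 3, 0, 1, 2, 3, 4, 2]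
theorem relE50 : relT tabs 8 ivx [22, 1, 0] (E50) (wpow U 5 ++ wpow D 0) = true := by decide +kernel
def E51 : List ℕ := [0, 1, 4, 3, 2, 5, 4, 3, 2, 3, 1, 2, 3, 4, 3, 2, 3, 1, 2, 3, 4, 1]
theorem relE51 : relT tabs 8 ivx [22, 1, 0] (E51) (wpow U 5 ++ wpow D 1) = true := by decide +kernel
def R0 : List ℕ := [4, 3, 2, 3, 1, 2, 3, 0, 1, 2, 3, 4]
theorem relR0 : relT tabs 8 ivx [22, 1, 0] (R0 ++ U) (iw ivx U ++ R0) = true := by decide +kernel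
theorem R0_pt : ptT tabs 8 R0 0 0 = true := by decide +kernel
def R1 : List ℕ := W
theorem relR1 : relT tabs 8 ivx [22, 1, 0] (R1 ++ U) (iw ivx U ++ R1) = true := by decide +kernel
theorem R1_pt : ptT tabs 8 R1 0 5681 = true := by decide +kernel
def R2 : List ℕ := [3, 2, 1, 6, 1, 3, 4, 7, 1, 2, 3, 2, 1, 6, 3, 4, 3, 2, 7, 3]
theorem relR2 : relT tabs 8 ivx [22, 1, 0] (R2 ++ U) (iw ivx U ++ R2) = true := by decide +kernel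
theorem R2_pt : ptT tabs 8 R2 0 77313 = true := by decide +kernel
def R3 : List ℕ := [0, 3, 7, 4, 6, 3, 2, 1, 4, 3, 2, 6, 3, 4, 6, 1, 2, 6, 3, 4, 6, 4, 1]
theorem relR3 : relT tabs 8 ivx [22, 1, 0] (R3 ++ U) (iw ivx U ++ R3) = true := by decide +kernel
theorem R3_pt : ptT tabs 8 R3 0 114460 = true := by decide +kernel
def R4 : List ℕ := [0, 1, 2, 1, 4, 6, 1, 3, 2, 3, 4, 3, 0, 1, 2, 6, 3, 1, 6, 2, 3, 4]
theorem relR4 : relT tabs 8 ivx [22, 1, 0] (R4 ++ U) (iw ivx U ++ R4) = true := by decide +kernel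
theorem R4_pt : ptT tabs 8 R4 0 114468 = true := by decide +kernel
def R5 : List ℕ := [5, 4, 3, 6, 1, 2, 3, 7, 1, 7, 4, 2, 6, 1, 6, 3, 2, 1, 7, 3, 4, 5]
theorem relR5 : relT tabs 8 ivx [22, 1, 0] (R5 ++ U) (iw ivx U ++ R5) = true := by decide +kernel
theorem R5_pt : ptT tabs 8 R5 0 118434 = true := by decide +kernel
def s0 : List ℕ := [4, 0, 0, 4, 0, 0, 4, 0, 0, 4, 0, 4, 0, 0, 4, 0, 0, 4, 0, 0, 4, 2, 2, 2]
def s5 : List ℕ := [1, 1, 1, 1, 1, 4, 1, 1, 4, 1, 1, 4, 1, 1, 4, 1, 4, 1, 1, 4, 1, 1, 4, 1, 1, 4, 1, 1, 1, 1, 1, 2, 2, 2]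
def s6 : List ℕ := [0, 0, 0, 0, 0, 0, 0, 0, 0, 4, 0, 0, 0, 0, 0, 0, 0, 0, 4, 0, 0, 0, 4, 1, 1, 4, 1, 1, 4, 0, 0, 0, 0, 0, 0, 0, 4, 0, 4, 1, 1, 1, 4, 0, 0, 0, 4, 1, 1]
noncomputable def mvs : List (List ℕ) := [X, iw ivx X, U, iw ivx U, W]
theorem s0_ok : relT tabs 8 ivx [22, 1, 0] (flatK mvs s0) ([0]) = true := by decide +kernel
theorem s5_ok : relT tabs 8 ivx [22, 1, 0] (flatK mvs s5) ([5]) = true := by decide +kernel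
theorem s6_ok : relT tabs 8 ivx [22, 1, 0] (flatK mvs s6) ([6]) = true := by decide +kernel
theorem relab : relT tabs 8 ivx [22, 1, 0] (X ++ [0]) ([1] ++ X) = true := by decide +kernel
theorem relbc : relT tabs 8 ivx [22, 1, 0] (X ++ [1]) ([2] ++ X) = true := by decide +kernel
theorem relef : relT tabs 8 ivx [22, 1, 0] (X ++ [4]) ([5] ++ X) = true := by decide +kernel
theorem relde : relT tabs 8 ivx [22, 1, 0] (X ++ [3]) ([4] ++ X) = true := by decide +kernel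
theorem fixX : fixOK nets X 17 122760 (bitsK [0]) = true := by decide +kernel
theorem fixU : fixOK nets U 17 122760 (bitsK [0, 5681, 21633, 44721, 77313, 107390, 114460, 114468, 118434]) = true := by decide +kernel
def l2 : List ℕ := [0, 3203, 4741, 5681, 6012, 12814, 14405, 16602, 16782, 18569, 21633, 27300, 31342, 31548, 34281, 34426, 34678, 35601, 38840, 39642, 40658, 41900, 44721, 57090, 59191, 60523, 63195, 63390, 66162, 66721, 68518, 77313, 78464, 82184, 96927, 107390, 107806, 108431, 109237, 114460, 114468, 115692, 116773, 118434, 120025]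
def l3 : List ℕ := [0, 616, 818, 954, 967, 986, 2074, 2309, 2375, 3805, 3926, 4272, 4489, 4688, 5113, 5120, 5302, 5462, 5681, 6127, 6184, 6454, 6655, 7365, 7384, 8182, 8391, 8422, 9088, 9268, 9376, 10430, 10435, 10578, 11007, 11013, 11970, 12659, 12693, 13065, 13340, 14366, 14611, 15040, 15080, 15327, 15408, 16019, 16150, 16417, 16442, 16972, 17320, 17348, 17469, 17741, 18165, 18914, 19314, 19821, 20334, 20428, 20485, 20782, 21344, 21633, 22465, 22532, 22784, 23549, 25624, 25759, 25805, 28214, 28659, 29362, 29885, 29995, 30039, 30093, 30276, 31101, 31516, 31533, 31991, 32062, 32426, 32990, 33201, 33588, 33650, 33691, 33703, 33725, 34024, 34139, 34869, 34886, 34928, 35550, 35847, 36328, 36856, 37764, 38240, 38868, 39881, 40397, 40504, 40560, 40617, 40895, 40975, 41280, 42243, 42246, 42595, 43014, 43383, 44032, 44037, 44495, 44721,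 44897, 45183, 45253, 45671, 45762, 45918, 45944, 46658, 47734, 48982, 49175, 49303, 49836, 50450, 50584, 50906, 51217, 51281, 51817, 52973, 53161, 53494, 54073, 54858, 55348, 55424, 55474, 55787, 55927, 55938, 56080, 56331, 57050, 57366, 57748, 58447, 59422, 60007, 60120, 60131, 60193, 60262, 60333, 60378, 60661, 60716, 62007, 62601, 62918, 63191, 63299, 65380, 65415, 65879, 66298, 66595, 66745, 67001, 67274, 67455, 67764, 67998, 68925, 69760, 70608, 70609, 70615, 70716, 70956, 71052, 71169, 71345, 71464, 72304, 72330, 72972, 73204, 73305, 73652, 73888, 74064, 74169, 74245, 74416, 74486, 75367, 76694, 76779, 76882, 76949, 77313, 77356, 77525, 77759, 78151, 78745, 78882, 79353, 79468, 79529, 79599, 79885, 79901, 80091, 80262, 80603, 80618, 80637, 81092, 81403, 81762, 82326, 82463, 82575, 82693, 82764, 83002, 83214, 83290, 83554,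 83624, 83714, 84257, 84345, 84496, 85349, 86094, 87659, 88300, 88838, 88958, 90424, 90609, 90818, 91484, 91553, 91706, 91710, 92418, 92504, 92557, 92922, 93092, 93447, 93560, 93916, 94006, 94137, 94510, 94620, 94666, 95303, 95361, 95419, 95507, 95569, 95621, 96103, 96266, 96623, 97776, 98052, 98212, 98259, 99082, 99195, 100672, 100970, 101619, 101873, 102987, 103164, 103222, 103682, 103799, 103996, 104342, 104344, 104396, 104732, 106551, 106693, 107026, 107275, 107390, 107553, 107999, 108364, 108840, 108987, 109128, 109199, 109483, 109702, 109941, 109953, 110032, 110571, 111886, 111990, 112081, 112310, 112407, 112737, 112821, 113454, 113567, 114460, 114468, 114625, 115238, 115502, 115554, 115721, 115883, 116139, 116358, 116876, 117166, 117190, 118104, 118434, 118516, 118518, 118551, 118765, 118977, 119204, 119775, 119841, 120038,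 120550, 120575, 121431, 121601, 122176, 122195]
theorem fixT2 : fixOK nets T2 17 122760 (bitsK l2) = true := by decide +kernel
theorem fixT3 : fixOK nets T3 17 122760 (bitsK l3) = true := by decide +kernel
theorem l2_lt : l2.all (fun q => decide (q < 122760)) = true := by decide +kernel
theorem l3_lt : l3.all (fun q => decide (q < 122760)) = true := by decide +kernel
def t18 : List ℕ := [6, 2, 6]
def reps1 : List ℕ := [18, 29, 30, 83, 84, 134, 135, 198, 200, 202, 203, 226, 227, 283, 324, 392, 448, 451, 459, 517, 668, 673, 696, 865, 882, 927, 995, 1004, 1022, 1026, 1180, 1377, 1510, 1517, 1575, 1746, 1781, 1996, 1998, 2002, 2004, 2035, 2037, 2141, 2175, 2317, 2367, 2457, 2458, 2710, 2759, 2760, 2769, 2771, 2825, 2827, 2886, 2888, 3067, 3180, 3182, 3403, 3405, 3485, 3486, 3487, 3624, 3625, 3646, 3648, 3735, 3899, 3901, 3902, 3903,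 3904, 4001, 4002, 4151, 4152, 4264, 4265, 4462, 4465, 4467, 4479, 4555, 4556, 4649, 4651, 4833, 4836, 4837, 4838, 5109, 5132, 5212, 5231, 5380, 5405, 5406, 5407, 5408, 5409, 5410, 5411, 5412, 5500, 5502, 5897, 5898, 5917, 5919, 5957, 5980, 5981, 5985, 5996, 5998, 6000, 6001, 6002, 6004, 6005, 6071, 6097, 6098, 6202, 6203, 6204, 6205, 6206, 6534, 6535, 6539, 6725, 6745, 6746, 6747, 6748, 6750, 6751, 6797, 7122, 7220, 7221, 7224, 7227, 7228, 7314, 7672, 7673, 7732, 7734, 7826, 7827, 7872, 7874, 7882, 7884, 8332, 8334, 8335, 8344, 8346, 8347, 8352, 8741, 8750, 8862, 8863, 9064, 9065, 9236, 9432, 9445, 9466, 9467, 9538, 9558, 9582, 9791, 9795, 9837, 10169, 10173, 10174, 10183, 10188, 10190, 10419, 10515, 10705, 10717, 10721, 10745, 10765, 10928, 10932, 11044, 11173, 11175, 11255, 11256, 11259, 11324, 11328, 11329, 11330, 11333, 11334,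 11336, 11340, 11518, 11540, 11571, 11573, 11727, 12349, 12351, 12478, 12479, 12481, 12484, 12537, 12798, 12823, 12824, 13337, 13598, 13805, 13810, 13857, 13863, 13873, 13962, 13988, 13989, 14652, 14809, 14812, 14875, 14880, 14892, 14893, 14896, 15063, 15064, 15169, 15751, 16124, 16169, 16304, 16318, 17217, 17222, 17223, 17256, 17257, 17268, 18122, 18134, 18179, 18332, 19316, 19520, 19600, 19959, 20030, 20722, 20723, 21355, 21449, 22532, 22714, 23019, 23695, 23696, 24079, 24942, 25184, 25194, 25242, 25668, 27237, 27560, 28228, 29852, 30172, 31423, 32400, 37817, 41026, 42399]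
theorem cov1 : Nat.beq (covK nets X 19 (bitsK reps1)) M2 = true := by decide +kernel
def mis1_0 : List (List ℕ × ℕ × ℕ × ℕ × ℕ × ℕ) := [([7, 2, 1, 6], 29, 1, 1, 33, 518), ([6, 2, 1, 6], 30, 1, 1, 33, 1043), ([3, 7, 2, 1, 6], 83, 1, 1, 33, 71230), ([3, 6, 2, 1, 6], 84, 1, 1, 33, 73352), ([2, 7, 3, 4, 6], 134, 1, 1, 33, 26334), ([2, 6, 3, 4, 6], 135, 1, 1, 33, 2219), ([3, 1, 7, 2, 1, 6], 198, 1, 1, 33, 8121), ([2, 3, 7, 2, 1, 6], 200, 2, 2, 82, 24151), ([4, 3, 6, 2, 1, 6], 202, 1, 1, 33, 42326), ([2, 3, 6, 2, 1, 6], 203, 2, 2, 82, 24612), ([7, 1, 2, 6, 1, 6], 226, 1, 1, 33, 7167), ([6, 1, 2, 6, 1, 6], 227, 2, 2, 82, 85934), ([7, 4, 3, 6, 4, 6], 283, 1, 1, 33, 6615), ([6, 1, 7, 2, 4, 1, 6], 324, 1, 1, 33, 7905), ([7, 1, 2, 6, 4, 1, 6], 392, 1, 1, 33, 7166), ([3, 6, 1, 7, 2, 1, 6], 448, 1, 1, 33, 29839), ([2, 4, 3, 7, 2, 1, 6], 451,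 2, 2, 82, 23145), ([2, 4, 3, 6, 2, 1, 6], 459, 2, 2, 82, 24442), ([4, 6, 1, 2, 6, 1, 6], 517, 2, 2, 82, 111693), ([3, 1, 2, 7, 3, 4, 6], 668, 2, 2, 82, 117228), ([3, 1, 2, 6, 3, 4, 6], 673, 2, 2, 82, 109883), ([3, 6, 1, 7, 2, 4, 1, 6], 696, 2, 2, 82, 46680), ([3, 7, 1, 2, 6, 4, 1, 6], 865, 1, 1, 33, 102608), ([2, 7, 4, 3, 6, 4, 1, 6], 882, 1, 1, 33, 9703), ([6, 4, 7, 2, 3, 4, 1, 6], 927, 2, 2, 82, 17548), ([4, 3, 6, 1, 7, 2, 1, 6], 995, 2, 2, 82, 86262), ([3, 2, 4, 3, 7, 2, 1, 6], 1004, 1, 1, 33, 106333), ([1, 2, 4, 3, 6, 2, 1, 6], 1022, 2, 2, 82, 51029), ([3, 2, 4, 3, 6, 2, 1, 6], 1026, 1, 1, 33, 106510), ([3, 4, 6, 1, 2, 6, 1, 6], 1180, 2, 2, 82, 15494)]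
theorem mis1_0_ok : misT tabs ivx Ms 8 X t18 mis1_0 = true := by decide +kernel
def mis1_1 : List (List ℕ × ℕ × ℕ × ℕ × ℕ × ℕ) := [([2, 1, 6, 4, 3, 6, 4, 6], 1377, 2, 2, 82, 46480), ([2, 3, 1, 2, 7, 3, 4, 6], 1510, 1, 1, 33, 64504), ([2, 3, 1, 2, 6, 3, 4, 6], 1517, 1, 1, 33, 39684), ([2, 3, 6, 1, 7, 2, 4, 1, 6], 1575, 1, 1, 33, 91458), ([7, 3, 1, 2, 3, 2, 4, 1, 6], 1746, 1, 1, 33, 35887), ([7, 4, 1, 7, 3, 2, 4, 1, 6], 1781, 1, 1, 33, 8890), ([2, 3, 7, 1, 2, 6, 4, 1, 6], 1996, 2, 2, 82, 31379), ([2, 3, 6, 1, 2, 6, 4, 1, 6], 1998, 2, 2, 82, 42182), ([7, 4, 3, 1, 2, 6, 4, 1, 6], 2002, 1, 1, 33, 58352), ([6, 4, 3, 1, 2, 6, 4, 1, 6], 2004, 3, 0, 961, 2344), ([3, 2, 7, 4, 3, 6, 4, 1, 6], 2035, 2, 2, 82, 83614), ([3, 2, 6, 4, 3, 6, 4, 1, 6], 2037, 2, 2, 82, 102598), ([7, 4, 1, 7, 2, 3, 4, 1, 6], 2141, 1, 1, 33, 61660), ([7, 2, 4, 3,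 2, 3, 4, 1, 6], 2175, 1, 1, 33, 78173), ([3, 1, 2, 4, 3, 7, 2, 1, 6], 2317, 1, 1, 33, 66253), ([3, 1, 2, 4, 3, 6, 2, 1, 6], 2367, 2, 2, 82, 67074), ([7, 3, 1, 2, 4, 3, 2, 1, 6], 2457, 2, 2, 82, 19710), ([6, 3, 1, 2, 4, 3, 2, 1, 6], 2458, 1, 1, 33, 38729), ([2, 3, 4, 6, 1, 2, 6, 1, 6], 2710, 1, 1, 33, 62703), ([7, 1, 2, 3, 2, 4, 3, 1, 6], 2759, 1, 1, 33, 9065), ([6, 1, 2, 3, 2, 4, 3, 1, 6], 2760, 1, 1, 33, 53590), ([7, 1, 2, 4, 3, 2, 3, 1, 6], 2769, 2, 2, 82, 90503), ([6, 1, 2, 4, 3, 2, 3, 1, 6], 2771, 1, 1, 33, 66834), ([7, 4, 3, 2, 3, 1, 2, 4, 6], 2825, 1, 1, 33, 27790), ([6, 4, 3, 2, 3, 1, 2, 4, 6], 2827, 1, 1, 33, 53250), ([7, 4, 3, 1, 2, 3, 2, 4, 6], 2886, 2, 2, 82, 57947), ([6, 4, 3, 1, 2, 3, 2, 4, 6], 2888, 1, 1, 33, 101902), ([3, 2, 1, 6, 4, 3, 6, 4, 6], 3067, 1, 1, 33, 3939), ([7, 2, 4, 3, 1, 2, 3, 4, 6], 3180, 2, 2,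 82, 24059), ([6, 2, 4, 3, 1, 2, 3, 4, 6], 3182, 1, 1, 33, 45861)]
theorem mis1_1_ok : misT tabs ivx Ms 8 X t18 mis1_1 = true := by decide +kernel
def mis1_2 : List (List ℕ × ℕ × ℕ × ℕ × ℕ × ℕ) := [([7, 1, 2, 4, 3, 1, 2, 4, 1, 6], 3403, 1, 1, 33, 88492), ([6, 1, 2, 4, 3, 1, 2, 4, 1, 6], 3405, 1, 1, 33, 94674), ([1, 2, 3, 7, 1, 7, 2, 4, 1, 6], 3485, 2, 2, 82, 6223), ([2, 4, 3, 6, 1, 7, 2, 4, 1, 6], 3486, 1, 1, 33, 6379), ([1, 2, 3, 6, 1, 7, 2, 4, 1, 6], 3487, 2, 2, 82, 87332), ([7, 3, 1, 2, 3, 5, 2, 4, 1, 6], 3624, 2, 2, 82, 97992), ([6, 3, 1, 2, 3, 5, 2, 4, 1, 6], 3625, 2, 2, 82, 109150), ([7, 4, 3, 2, 3, 5, 2, 4, 1, 6], 3646, 2, 2, 82, 30244), ([6, 4, 3, 2, 3, 5, 2, 4, 1, 6], 3648, 2, 2, 82, 32761), ([7, 2, 7, 3, 1, 0, 2, 4, 1, 6], 3735, 1, 1, 33, 72813), ([1, 7, 3, 1, 2, 3, 2, 4, 1, 6], 3899, 2, 2, 82, 71738), ([2, 7, 3, 1,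 2, 3, 2, 4, 1, 6], 3901, 1, 1, 33, 65532), ([1, 6, 3, 1, 2, 3, 2, 4, 1, 6], 3902, 1, 1, 33, 103717), ([4, 6, 3, 1, 2, 3, 2, 4, 1, 6], 3903, 2, 2, 82, 2352), ([2, 6, 3, 1, 2, 3, 2, 4, 1, 6], 3904, 1, 1, 33, 73464), ([3, 7, 4, 1, 7, 3, 2, 4, 1, 6], 4001, 1, 1, 33, 53), ([1, 6, 4, 1, 7, 3, 2, 4, 1, 6], 4002, 1, 1, 33, 27557), ([7, 3, 2, 3, 1, 2, 7, 4, 1, 6], 4151, 1, 1, 33, 13808), ([6, 3, 2, 3, 1, 2, 7, 4, 1, 6], 4152, 2, 2, 82, 20883), ([7, 2, 3, 2, 4, 3, 7, 4, 1, 6], 4264, 1, 1, 33, 35480), ([6, 2, 3, 2, 4, 3, 7, 4, 1, 6], 4265, 2, 2, 82, 93648), ([2, 4, 3, 6, 1, 2, 6, 4, 1, 6], 4462, 1, 1, 33, 6673), ([1, 2, 3, 6, 1, 2, 6, 4, 1, 6], 4465, 1, 1, 33, 74065), ([7, 4, 3, 0, 1, 2, 6, 4, 1, 6], 4467, 2, 2, 82, 48820), ([4, 6, 4, 3, 1, 2, 6, 4, 1, 6], 4479, 2, 2, 82, 11949), ([3, 1, 2, 6, 4, 3, 6, 4, 1, 6], 4555, 1, 1, 33, 43850),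 ([4, 3, 2, 6, 4, 3, 6, 4, 1, 6], 4556, 1, 1, 33, 37694), ([7, 4, 3, 1, 2, 4, 3, 4, 1, 6], 4649, 1, 1, 33, 122454), ([6, 4, 3, 1, 2, 4, 3, 4, 1, 6], 4651, 1, 1, 33, 78776), ([4, 7, 2, 4, 3, 2, 3, 4, 1, 6], 4833, 2, 2, 82, 54123)]
theorem mis1_2_ok : misT tabs ivx Ms 8 X t18 mis1_2 = true := by decide +kernel
def mis1_3 : List (List ℕ × ℕ × ℕ × ℕ × ℕ × ℕ) := [([1, 6, 2, 4, 3, 2, 3, 4, 1, 6], 4836, 2, 2, 82, 98514), ([4, 6, 2, 4, 3, 2, 3, 4, 1, 6], 4837, 1, 1, 33, 106178), ([3, 6, 2, 4, 3, 2, 3, 4, 1, 6], 4838, 1, 1, 33, 102549), ([2, 3, 1, 2, 4, 3, 7, 2, 1, 6], 5109, 1, 1, 33, 112372), ([1, 2, 3, 2, 4, 3, 7, 2, 1, 6], 5132, 1, 1, 33, 112849), ([2, 3, 1, 2, 4, 3, 6, 2, 1, 6], 5212, 1, 1, 33, 96812), ([1, 2, 3, 2, 4, 3, 6, 2, 1, 6], 5231, 1, 1, 33, 23946), ([7, 3, 5, 1, 2, 4, 3, 2, 1, 6], 5380, 2, 2, 82, 60123), ([1, 7, 3, 1, 2,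 4, 3, 2, 1, 6], 5405, 1, 1, 33, 103941), ([4, 7, 3, 1, 2, 4, 3, 2, 1, 6], 5406, 1, 1, 33, 50098), ([2, 7, 3, 1, 2, 4, 3, 2, 1, 6], 5407, 1, 1, 33, 101748), ([3, 7, 3, 1, 2, 4, 3, 2, 1, 6], 5408, 1, 1, 33, 65730), ([1, 6, 3, 1, 2, 4, 3, 2, 1, 6], 5409, 2, 2, 82, 15069), ([4, 6, 3, 1, 2, 4, 3, 2, 1, 6], 5410, 2, 2, 82, 94452), ([2, 6, 3, 1, 2, 4, 3, 2, 1, 6], 5411, 1, 1, 33, 83499), ([3, 6, 3, 1, 2, 4, 3, 2, 1, 6], 5412, 1, 1, 33, 99846), ([7, 4, 7, 3, 2, 4, 3, 2, 1, 6], 5500, 1, 1, 33, 62527), ([6, 4, 7, 3, 2, 4, 3, 2, 1, 6], 5502, 2, 2, 82, 41470), ([1, 2, 3, 4, 6, 1, 2, 6, 1, 6], 5897, 1, 1, 33, 120411), ([3, 2, 3, 4, 6, 1, 2, 6, 1, 6], 5898, 2, 2, 82, 35348), ([7, 4, 3, 2, 3, 1, 2, 6, 1, 6], 5917, 2, 2, 82, 19056), ([6, 4, 3, 2, 3, 1, 2, 6, 1, 6], 5919, 1, 1, 33, 115561), ([7, 1, 2, 3, 5, 2, 4, 3, 1, 6], 5957, 1, 1, 33, 57656),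 ([1, 7, 1, 2, 3, 2, 4, 3, 1, 6], 5980, 1, 1, 33, 60631), ([4, 7, 1, 2, 3, 2, 4, 3, 1, 6], 5981, 1, 1, 33, 78237), ([2, 6, 1, 2, 3, 2, 4, 3, 1, 6], 5985, 1, 1, 33, 23362), ([1, 7, 1, 2, 4, 3, 2, 3, 1, 6], 5996, 2, 2, 82, 65450), ([2, 7, 1, 2, 4, 3, 2, 3, 1, 6], 5998, 1, 1, 33, 79270), ([5, 7, 1, 2, 4, 3, 2, 3, 1, 6], 6000, 1, 1, 33, 42097), ([0, 7, 1, 2, 4, 3, 2, 3, 1, 6], 6001, 1, 1, 33, 99208)]
theorem mis1_3_ok : misT tabs ivx Ms 8 X t18 mis1_3 = true := by decide +kernel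
def mis1_4 : List (List ℕ × ℕ × ℕ × ℕ × ℕ × ℕ) := [([3, 7, 1, 2, 4, 3, 2, 3, 1, 6], 6002, 2, 2, 82, 42277), ([1, 6, 1, 2, 4, 3, 2, 3, 1, 6], 6004, 1, 1, 33, 73382), ([4, 6, 1, 2, 4, 3, 2, 3, 1, 6], 6005, 1, 1, 33, 40794), ([6, 4, 3, 2, 3, 0, 1, 2, 4, 6], 6071, 2, 2, 82, 59499), ([1, 7, 4, 3, 2, 3, 1, 2, 4, 6], 6097, 1, 1, 33, 44684), ([4, 7, 4, 3, 2, 3, 1, 2, 4, 6], 6098, 1, 1, 33, 55095), ([4, 7, 4, 3, 1, 2, 3, 2, 4, 6], 6202, 2, 2, 82, 17553), ([2, 7, 4, 3, 1, 2, 3, 2, 4, 6], 6203, 2, 2, 82, 8963), ([3, 7, 4, 3, 1, 2, 3, 2, 4, 6], 6204, 1, 1, 33, 108883), ([1, 6, 4, 3, 1, 2, 3, 2, 4, 6], 6205, 1, 1, 33, 104030), ([4, 6, 4, 3, 1, 2, 3, 2, 4, 6], 6206, 1, 1, 33, 120892), ([7, 1, 2, 3, 2, 4, 3, 6, 4, 6], 6534, 2, 2, 82, 120315), ([6, 1, 2, 3, 2, 4, 3, 6, 4, 6], 6535, 1, 1, 33, 97093), ([4, 3, 2, 1, 6, 4, 3, 6, 4, 6], 6539, 1,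 1, 33, 109731), ([7, 2, 4, 3, 0, 1, 2, 3, 4, 6], 6725, 2, 2, 82, 78486), ([1, 7, 2, 4, 3, 1, 2, 3, 4, 6], 6745, 1, 1, 33, 32000), ([4, 7, 2, 4, 3, 1, 2, 3, 4, 6], 6746, 1, 1, 33, 23061), ([2, 7, 2, 4, 3, 1, 2, 3, 4, 6], 6747, 1, 1, 33, 6059), ([3, 7, 2, 4, 3, 1, 2, 3, 4, 6], 6748, 1, 1, 33, 121290), ([1, 6, 2, 4, 3, 1, 2, 3, 4, 6], 6750, 2, 2, 82, 55816), ([4, 6, 2, 4, 3, 1, 2, 3, 4, 6], 6751, 2, 2, 82, 93780), ([6, 1, 7, 2, 3, 1, 2, 3, 4, 6], 6797, 2, 2, 82, 113115), ([3, 2, 4, 3, 1, 2, 6, 3, 4, 6], 7122, 1, 1, 33, 110185), ([4, 7, 1, 2, 4, 3, 1, 2, 4, 1, 6], 7220, 2, 2, 82, 11414), ([2, 7, 1, 2, 4, 3, 1, 2, 4, 1, 6], 7221, 1, 1, 33, 104484), ([0, 7, 1, 2, 4, 3, 1, 2, 4, 1, 6], 7224, 2, 2, 82, 60831), ([1, 6, 1, 2, 4, 3, 1, 2, 4, 1, 6], 7227, 1, 1, 33, 97504), ([2, 6, 1, 2, 4, 3, 1, 2, 4, 1, 6], 7228, 2, 2, 82, 16174), ([7,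 2, 3, 1, 2, 3, 1, 2, 4, 1, 6], 7314, 2, 2, 82, 17133), ([2, 7, 3, 1, 2, 3, 5, 2, 4, 1, 6], 7672, 2, 2, 82, 15265)]
theorem mis1_4_ok : misT tabs ivx Ms 8 X t18 mis1_4 = true := by decide +kernel
def mis1_5 : List (List ℕ × ℕ × ℕ × ℕ × ℕ × ℕ) := [([1, 6, 3, 1, 2, 3, 5, 2, 4, 1, 6], 7673, 1, 1, 33, 43035), ([3, 7, 4, 3, 2, 3, 5, 2, 4, 1, 6], 7732, 2, 2, 82, 51493), ([4, 6, 4, 3, 2, 3, 5, 2, 4, 1, 6], 7734, 1, 1, 33, 105565), ([7, 2, 7, 1, 2, 3, 6, 2, 4, 1, 6], 7826, 2, 2, 82, 30072), ([6, 2, 7, 1, 2, 3, 6, 2, 4, 1, 6], 7827, 1, 1, 33, 17894), ([7, 3, 2, 3, 7, 1, 0, 2, 4, 1, 6], 7872, 2, 2, 82, 87979), ([7, 2, 4, 3, 6, 1, 0, 2, 4, 1, 6], 7874, 2, 2, 82, 57243), ([7, 1, 2, 4, 3, 1, 0, 2, 4, 1, 6], 7882, 1, 1, 33, 110759), ([6, 1, 2, 4, 3, 1, 0, 2, 4, 1, 6], 7884, 2, 2, 82, 20001), ([4, 1, 7, 3, 1, 2, 3, 2, 4, 1, 6], 8332, 1, 1, 33,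 28239), ([0, 1, 7, 3, 1, 2, 3, 2, 4, 1, 6], 8334, 2, 2, 82, 55986), ([2, 4, 7, 3, 1, 2, 3, 2, 4, 1, 6], 8335, 1, 1, 33, 2535), ([4, 1, 6, 3, 1, 2, 3, 2, 4, 1, 6], 8344, 2, 2, 82, 89190), ([0, 1, 6, 3, 1, 2, 3, 2, 4, 1, 6], 8346, 2, 2, 82, 101051), ([2, 4, 6, 3, 1, 2, 3, 2, 4, 1, 6], 8347, 2, 2, 82, 107917), ([1, 2, 6, 3, 1, 2, 3, 2, 4, 1, 6], 8352, 1, 1, 33, 98080), ([7, 3, 1, 2, 4, 3, 0, 7, 4, 1, 6], 8741, 2, 2, 82, 95523), ([6, 2, 3, 2, 4, 3, 0, 7, 4, 1, 6], 8750, 2, 2, 82, 38452), ([1, 6, 3, 2, 3, 1, 2, 7, 4, 1, 6], 8862, 2, 2, 82, 92825), ([4, 6, 3, 2, 3, 1, 2, 7, 4, 1, 6], 8863, 1, 1, 33, 14981), ([1, 6, 2, 3, 2, 4, 3, 7, 4, 1, 6], 9064, 1, 1, 33, 96904), ([4, 6, 2, 3, 2, 4, 3, 7, 4, 1, 6], 9065, 2, 2, 82, 102290), ([6, 4, 3, 1, 2, 4, 3, 5, 4, 1, 6], 9236, 2, 2, 82, 3150), ([3, 2, 4, 3, 7, 1, 2, 6, 4, 1, 6], 9432, 1, 1,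 33, 3341), ([6, 1, 2, 3, 0, 1, 2, 6, 4, 1, 6], 9445, 1, 1, 33, 113651), ([3, 2, 7, 4, 3, 1, 2, 6, 4, 1, 6], 9466, 2, 2, 82, 99409), ([2, 4, 6, 4, 3, 1, 2, 6, 4, 1, 6], 9467, 2, 2, 82, 20106), ([7, 1, 6, 1, 2, 3, 2, 6, 4, 1, 6], 9538, 2, 2, 82, 71356), ([2, 3, 7, 1, 2, 4, 3, 6, 4, 1, 6], 9558, 2, 2, 82, 19364), ([6, 4, 3, 5, 2, 4, 3, 6, 4, 1, 6], 9582, 1, 1, 33, 34874)]
theorem mis1_5_ok : misT tabs ivx Ms 8 X t18 mis1_5 = true := by decide +kernel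
def mis1_6 : List (List ℕ × ℕ × ℕ × ℕ × ℕ × ℕ) := [([1, 7, 4, 3, 1, 2, 4, 3, 4, 1, 6], 9791, 2, 2, 82, 111880), ([1, 6, 4, 3, 1, 2, 4, 3, 4, 1, 6], 9795, 2, 2, 82, 79493), ([7, 3, 2, 4, 3, 2, 4, 3, 4, 1, 6], 9837, 2, 2, 82, 27570), ([4, 1, 7, 2, 4, 3, 2, 3, 4, 1, 6], 10169, 1, 1, 33, 117003), ([3, 1, 7, 2, 4, 3, 2, 3, 4, 1, 6], 10173, 1, 1, 33, 37427), ([5, 4, 7, 2, 4, 3, 2, 3, 4, 1, 6], 10174, 2, 2, 82, 45463), ([4, 1, 6, 2, 4, 3, 2, 3, 4, 1, 6], 10183, 2, 2, 82, 3489), ([5, 4, 6, 2, 4, 3, 2, 3, 4, 1, 6], 10188, 2, 2, 82, 96583), ([4, 3, 6, 2, 4, 3, 2, 3, 4, 1, 6], 10190, 1, 1, 33, 107639), ([7, 3, 7, 4, 3, 2, 6, 3, 4, 1, 6], 10419, 2, 2, 82, 4560), ([7, 2, 3, 1, 2, 4, 3, 1, 2, 1, 6], 10515, 2, 2, 82, 99095), ([2, 3, 5, 1, 2, 4, 3, 7, 2, 1, 6], 10705, 2, 2, 82, 68867), ([2, 3, 0, 1, 2, 4, 3, 7, 2, 1, 6], 10717, 1, 1, 33, 100921),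 ([3, 2, 3, 1, 2, 4, 3, 7, 2, 1, 6], 10721, 1, 1, 33, 106424), ([1, 2, 3, 5, 2, 4, 3, 7, 2, 1, 6], 10745, 3, 0, 961, 90809), ([3, 1, 2, 3, 2, 4, 3, 7, 2, 1, 6], 10765, 2, 2, 82, 37329), ([2, 3, 0, 1, 2, 4, 3, 6, 2, 1, 6], 10928, 2, 2, 82, 19140), ([3, 2, 3, 1, 2, 4, 3, 6, 2, 1, 6], 10932, 1, 1, 33, 62962), ([6, 2, 4, 6, 1, 2, 3, 6, 2, 1, 6], 11044, 2, 2, 82, 41323), ([7, 4, 7, 3, 2, 4, 3, 0, 2, 1, 6], 11173, 1, 1, 33, 39456), ([6, 4, 7, 3, 2, 4, 3, 0, 2, 1, 6], 11175, 1, 1, 33, 6749), ([1, 7, 3, 5, 1, 2, 4, 3, 2, 1, 6], 11255, 2, 2, 82, 118049), ([4, 7, 3, 5, 1, 2, 4, 3, 2, 1, 6], 11256, 2, 2, 82, 31229), ([1, 6, 3, 5, 1, 2, 4, 3, 2, 1, 6], 11259, 2, 2, 82, 61577), ([3, 1, 7, 3, 1, 2, 4, 3, 2, 1, 6], 11324, 2, 2, 82, 66874), ([6, 4, 7, 3, 1, 2, 4, 3, 2, 1, 6], 11328, 2, 2, 82, 121390), ([3, 4, 7, 3, 1, 2, 4, 3, 2, 1, 6], 11329,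 1, 1, 33, 57698), ([1, 2, 7, 3, 1, 2, 4, 3, 2, 1, 6], 11330, 1, 1, 33, 93342), ([3, 2, 7, 3, 1, 2, 4, 3, 2, 1, 6], 11333, 1, 1, 33, 21975), ([2, 3, 7, 3, 1, 2, 4, 3, 2, 1, 6], 11334, 2, 2, 82, 116995)]
theorem mis1_6_ok : misT tabs ivx Ms 8 X t18 mis1_6 = true := by decide +kernel
def mis1_7 : List (List ℕ × ℕ × ℕ × ℕ × ℕ × ℕ) := [([4, 1, 6, 3, 1, 2, 4, 3, 2, 1, 6], 11336, 1, 1, 33, 18176), ([2, 4, 6, 3, 1, 2, 4, 3, 2, 1, 6], 11340, 2, 2, 82, 83650), ([7, 4, 6, 4, 3, 2, 4, 3, 2, 1, 6], 11518, 1, 1, 33, 102261), ([7, 4, 7, 2, 3, 2, 4, 3, 2, 1, 6], 11540, 1, 1, 33, 9064), ([1, 7, 4, 7, 3, 2, 4, 3, 2, 1, 6], 11571, 1, 1, 33, 86338), ([4, 6, 4, 7, 3, 2, 4, 3, 2, 1, 6], 11573, 1, 1, 33, 84134), ([7, 4, 3, 1, 2, 6, 4, 3, 2, 1, 6], 11727, 1, 1, 33, 16618), ([4, 7, 4, 3, 2, 3, 1, 2, 6, 1, 6], 12349, 2, 2, 82, 112119), ([3, 6, 4, 3, 2,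 3, 1, 2, 6, 1, 6], 12351, 2, 2, 82, 9297), ([2, 4, 7, 1, 2, 4, 3, 2, 3, 1, 6], 12478, 2, 2, 82, 76374), ([3, 2, 7, 1, 2, 4, 3, 2, 3, 1, 6], 12479, 1, 1, 33, 42595), ([3, 5, 7, 1, 2, 4, 3, 2, 3, 1, 6], 12481, 1, 1, 33, 83628), ([2, 3, 7, 1, 2, 4, 3, 2, 3, 1, 6], 12484, 1, 1, 33, 39082), ([6, 4, 6, 3, 2, 4, 3, 2, 3, 1, 6], 12537, 2, 2, 82, 114418), ([2, 7, 4, 3, 0, 1, 2, 3, 2, 4, 6], 12798, 1, 1, 33, 35160), ([3, 2, 7, 4, 3, 1, 2, 3, 2, 4, 6], 12823, 1, 1, 33, 51840), ([2, 3, 7, 4, 3, 1, 2, 3, 2, 4, 6], 12824, 1, 1, 33, 43877), ([6, 1, 7, 2, 3, 1, 2, 3, 5, 4, 6], 13337, 1, 1, 33, 98289), ([7, 3, 2, 4, 3, 1, 2, 4, 3, 4, 6], 13598, 2, 2, 82, 52175), ([4, 7, 2, 4, 3, 0, 1, 2, 3, 4, 6], 13805, 2, 2, 82, 83260), ([4, 6, 2, 4, 3, 0, 1, 2, 3, 4, 6], 13810, 2, 2, 82, 5831), ([6, 1, 7, 2, 4, 3, 1, 2, 3, 4, 6], 13857, 2, 2, 82, 25251), ([2,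 3, 7, 2, 4, 3, 1, 2, 3, 4, 6], 13863, 1, 1, 33, 52271), ([3, 1, 6, 2, 4, 3, 1, 2, 3, 4, 6], 13873, 2, 2, 82, 113035), ([7, 1, 6, 1, 2, 3, 1, 2, 3, 4, 6], 13962, 1, 1, 33, 72550), ([3, 7, 1, 7, 2, 3, 1, 2, 3, 4, 6], 13988, 1, 1, 33, 43900), ([1, 6, 1, 7, 2, 3, 1, 2, 3, 4, 6], 13989, 1, 1, 33, 100234), ([2, 3, 2, 4, 3, 1, 2, 6, 3, 4, 6], 14652, 1, 1, 33, 34878), ([3, 7, 1, 2, 4, 3, 0, 1, 2, 4, 1, 6], 14809, 1, 1, 33, 39377), ([4, 6, 1, 2, 4, 3, 0, 1, 2, 4, 1, 6], 14812, 1, 1, 33, 92642)]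
theorem mis1_7_ok : misT tabs ivx Ms 8 X t18 mis1_7 = true := by decide +kernel
def mis1_8 : List (List ℕ × ℕ × ℕ × ℕ × ℕ × ℕ) := [([0, 2, 7, 1, 2, 4, 3, 1, 2, 4, 1, 6], 14875, 1, 1, 33, 112696), ([3, 0, 7, 1, 2, 4, 3, 1, 2, 4, 1, 6], 14880, 1, 1, 33, 61664), ([0, 1, 6, 1, 2, 4, 3, 1, 2, 4, 1, 6], 14892, 1, 1, 33, 1580), ([3, 1, 6, 1, 2, 4, 3, 1, 2, 4, 1, 6], 14893, 1, 1, 33, 69267), ([2, 3, 6, 1, 2, 4, 3, 1, 2, 4, 1, 6], 14896, 1, 1, 33, 76129), ([1, 7, 2, 3, 1, 2, 3, 1, 2, 4, 1, 6], 15063, 1, 1, 33, 62125), ([4, 7, 2, 3, 1, 2, 3, 1, 2, 4, 1, 6], 15064, 1, 1, 33, 15694), ([7, 3, 2, 4, 1, 7, 3, 1, 2, 4, 1, 6], 15169, 2, 2, 82, 36830), ([2, 4, 7, 3, 1, 2, 3, 5, 2, 4, 1, 6], 15751, 1, 1, 33, 65926), ([6, 1, 2, 3, 1, 7, 1, 0, 2, 4, 1, 6], 16124, 2, 2, 82, 111282), ([3, 7, 1, 2, 4, 3, 1, 0, 2, 4, 1, 6], 16169, 2, 2, 82, 1294), ([3,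 6, 2, 4, 7, 3, 1, 0, 2, 4, 1, 6], 16304, 1, 1, 33, 69092), ([3, 4, 7, 2, 7, 3, 1, 0, 2, 4, 1, 6], 16318, 1, 1, 33, 99497), ([2, 4, 1, 7, 3, 1, 2, 3, 2, 4, 1, 6], 17217, 1, 1, 33, 95081), ([1, 2, 1, 7, 3, 1, 2, 3, 2, 4, 1, 6], 17222, 1, 1, 33, 104040), ([0, 2, 1, 7, 3, 1, 2, 3, 2, 4, 1, 6], 17223, 2, 2, 82, 113514), ([5, 2, 4, 6, 3, 1, 2, 3, 2, 4, 1, 6], 17256, 1, 1, 33, 89190), ([3, 2, 4, 6, 3, 1, 2, 3, 2, 4, 1, 6], 17257, 1, 1, 33, 110891), ([4, 3, 2, 6, 3, 1, 2, 3, 2, 4, 1, 6], 17268, 2, 2, 82, 112757), ([6, 4, 3, 5, 2, 4, 3, 4, 7, 4, 1, 6], 18122, 2, 2, 82, 63119), ([2, 3, 1, 2, 7, 4, 3, 4, 7, 4, 1, 6], 18134, 1, 1, 33, 19825), ([4, 6, 3, 2, 4, 3, 1, 2, 7, 4, 1, 6], 18179, 1, 1, 33, 58140), ([6, 1, 2, 3, 6, 4, 3, 2, 7, 4, 1, 6], 18332, 2, 2, 82, 18024), ([3, 1, 2, 4, 3, 7, 1, 2, 6, 4, 1, 6], 19316, 2, 2, 82, 117524), ([2,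 3, 1, 6, 1, 2, 4, 3, 6, 4, 1, 6], 19520, 2, 2, 82, 16964), ([2, 4, 3, 1, 2, 7, 4, 3, 6, 4, 1, 6], 19600, 2, 2, 82, 114639), ([2, 4, 6, 4, 3, 1, 2, 4, 3, 4, 1, 6], 19959, 1, 1, 33, 43344), ([4, 7, 3, 2, 4, 3, 2, 4, 3, 4, 1, 6], 20030, 1, 1, 33, 14396), ([3, 5, 4, 7, 2, 4, 3, 2, 3, 4, 1, 6], 20722, 2, 2, 82, 88936), ([4, 3, 4, 7, 2, 4, 3, 2, 3, 4, 1, 6], 20723, 1, 1, 33, 2845)]
theorem mis1_8_ok : misT tabs ivx Ms 8 X t18 mis1_8 = true := by decide +kernel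
def mis1_9 : List (List ℕ × ℕ × ℕ × ℕ × ℕ × ℕ) := [([1, 7, 2, 3, 1, 2, 4, 3, 1, 2, 1, 6], 21355, 1, 1, 33, 25742), ([7, 4, 3, 1, 6, 2, 4, 3, 1, 2, 1, 6], 21449, 2, 2, 82, 4192), ([1, 7, 4, 7, 3, 2, 4, 3, 0, 2, 1, 6], 22532, 2, 2, 82, 38074), ([2, 1, 7, 3, 5, 1, 2, 4, 3, 2, 1, 6], 22714, 1, 1, 33, 4504), ([1, 7, 4, 3, 4, 7, 2, 4, 3, 2, 1, 6], 23019, 1, 1, 33, 41610), ([3, 7, 4, 3, 1, 2, 6, 4, 3, 2, 1, 6], 23695, 2, 2, 82, 21960), ([1, 6, 4, 3, 1, 2, 6, 4, 3, 2, 1, 6], 23696, 2, 2, 82, 68436), ([1, 6, 4, 3, 6, 4, 7, 2, 3, 2, 1, 6], 24079, 2, 2, 82, 56029), ([2, 3, 2, 4, 3, 4, 6, 1, 2, 6, 1, 6], 24942, 2, 2, 82, 79070), ([2, 3, 2, 7, 1, 2, 4, 3, 2, 3, 1, 6], 25184, 4, 1, 32115, 103177), ([1, 2, 3, 7, 1, 2, 4, 3, 2, 3, 1, 6], 25194, 2, 2, 82, 15162), ([7, 4, 6, 3, 1, 2, 4, 3, 2, 3, 1, 6], 25242, 2, 2, 82, 105604), ([6, 4, 3, 2, 3,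 7, 1, 2, 3, 2, 4, 6], 25668, 4, 1, 32115, 73830), ([4, 7, 3, 2, 4, 3, 1, 2, 4, 3, 4, 6], 27237, 1, 1, 33, 93510), ([4, 6, 1, 2, 4, 3, 6, 1, 2, 3, 4, 6], 27560, 2, 2, 82, 70117), ([4, 7, 1, 2, 1, 7, 3, 1, 2, 3, 4, 6], 28228, 1, 1, 33, 7402), ([1, 2, 3, 6, 1, 2, 4, 3, 1, 2, 4, 1, 6], 29852, 1, 1, 33, 12704), ([5, 4, 7, 2, 3, 1, 2, 3, 1, 2, 4, 1, 6], 30172, 1, 1, 33, 106057), ([1, 2, 1, 7, 3, 1, 2, 3, 5, 2, 4, 1, 6], 31423, 1, 1, 33, 94557), ([2, 3, 7, 2, 4, 7, 3, 1, 0, 2, 4, 1, 6], 32400, 1, 1, 33, 40080), ([3, 1, 2, 4, 7, 4, 3, 1, 2, 6, 4, 1, 6], 37817, 2, 2, 82, 111011), ([7, 4, 3, 2, 6, 1, 2, 4, 3, 1, 2, 1, 6], 41026, 2, 2, 82, 62235), ([6, 2, 1, 7, 2, 3, 2, 4, 3, 6, 2, 1, 6], 42399, 1, 1, 33, 50417)]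
theorem mis1_9_ok : misT tabs ivx Ms 8 X t18 mis1_9 = true := by decide +kernel
theorem mis1_cov : Nat.beq (bitsK (18 :: (mis1_0 ++ mis1_1 ++ mis1_2 ++ mis1_3 ++ mis1_4 ++ mis1_5 ++ mis1_6 ++ mis1_7 ++ mis1_8 ++ mis1_9).map (fun e => e.2.1))) (bitsK reps1) = true := by decide +kernel
theorem bit1 : bitK (andK nets ivx Ms (2 ^ 122760 - 1) X [] [(0, 0, 2)]) 18 = true := by decide +kernel
theorem sub1 : Nat.beq (Nat.lor (andK nets ivx Ms (2 ^ 122760 - 1) X [] [(0, 0, 2)]) M2) M2 = true := by decide +kernel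
theorem t18_pt : ptT tabs 8 t18 0 18 = true := by decide +kernel
def chX : List (List ℕ × ℕ) := [([6, 1, 2, 6], 53), ([1, 7, 2, 1, 6], 82), ([3, 7, 1, 2, 6, 1, 6], 516), ([0, 1, 2, 4, 3, 7, 1, 2, 6, 4, 1, 6], 19315), ([0, 1, 2, 3, 1, 7, 2, 4, 7, 3, 1, 0, 2, 4, 1, 6], 118872), ([2, 6, 1, 2, 4, 3, 4, 1, 7, 1, 2, 3, 2, 4, 1, 6], 119187), ([5, 4, 3, 1, 2, 7, 4, 3, 6, 4, 1, 6], 19602), ([2, 7, 4, 3, 6, 4, 6], 616), ([4, 7, 3, 4, 6], 133), ([6, 4, 3, 6], 60), ([6, 3, 6], 21), ([0, 1, 2, 6, 3, 4, 6], 672), ([1, 7, 4, 7, 2, 3, 4, 1, 6], 2154), ([0, 2, 1, 7, 2, 3, 2, 4, 3, 7, 4, 1, 6], 36568), ([7, 4, 3, 2, 4, 7, 3, 1, 2, 3, 2, 4, 1, 6], 62543), ([3, 5, 4, 7, 3, 2, 3, 1, 2, 7, 4, 1, 6], 35967), ([4, 3, 7, 1, 7, 2, 4, 1, 6], 1572), ([5, 4, 3, 6, 2, 1, 6], 461)]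
theorem chX_ok : chainT tabs 8 X chX 18 = true := by decide +kernel
noncomputable def TX : List (List ℕ) := t18 :: chX.map Prod.fst
theorem pinX_22 : Nat.beq (andK nets ivx Ms (2 ^ 122760 - 1) X TX [(0, 1, 2), (0, 13, 3), (0, 99, 0), (0, 11, 0), (0, 10, 0), (0, 0, 0), (0, 16, 0)]) (2 ^ 22) = true := by decide +kernel
theorem pinX_1 : Nat.beq (andK nets ivx Ms (2 ^ 122760 - 1) X TX [(0, 2, 2), (0, 9, 2), (0, 3, 3), (0, 1, 0), (0, 0, 0)]) (2 ^ 1) = true := by decide +kernel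
theorem U_fix0 : ptT tabs 8 U 0 0 = true := by decide +kernel
theorem D_fix0 : ptT tabs 8 D 0 0 = true := by decide +kernel
theorem X_fix0 : ptT tabs 8 X 0 0 = true := by decide +kernel
def t12814 : List ℕ := [4, 1, 7, 4, 3, 1, 2, 3, 2, 4, 6]
theorem t12814_pt : ptT tabs 8 t12814 0 12814 = true := by decide +kernel
def t25759 : List ℕ := [0, 4, 1, 7, 4, 3, 1, 2, 3, 2, 4, 6]
theorem t25759_pt : ptT tabs 8 t25759 0 25759 = true := by decide +kernel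
def t3129 : List ℕ := [6, 4, 1, 7, 1, 2, 3, 4, 6]
theorem t3129_pt : ptT tabs 8 t3129 0 3129 = true := by decide +kernel
theorem A1_eq : Nat.beq (andK nets ivx Ms (bitsK l2) U [] [(0, 0, 2)]) (bitsK [12814, 34281, 44721, 82184, 107806, 114468]) = true := by decide +kernel
theorem c1_34281 : ptT tabs 8 E11 34281 12814 = true := by decide +kernel
theorem c1_82184 : ptT tabs 8 E10 82184 12814 = true := by decide +kernel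
theorem c1_107806 : ptT tabs 8 E01 107806 12814 = true := by decide +kernel
def misU1 : List (List ℕ × ℕ × ℕ × ℕ × ℕ × ℕ) := [([2, 1, 6, 4, 6, 4, 3, 2, 4, 3, 2, 1, 6], 44721, 1, 1, 79204, 0), ([7, 4, 7, 1, 2, 3, 2, 3, 1, 2, 4, 3, 5, 4, 6], 114468, 1, 1, 79204, 0)]
theorem misU1_ok : misT tabs ivx Ms 8 U t12814 misU1 = true := by decide +kernel
def ch1 : List (List ℕ × ℕ) := [([0, 1, 2, 3, 2, 6, 1, 2, 4, 3, 2, 3, 1, 6], 82184)]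
theorem ch1_ok : chainT tabs 8 U ch1 12814 = true := by decide +kernel
noncomputable def TU1 : List (List ℕ) := t12814 :: ch1.map Prod.fst
theorem A2_eq : Nat.beq (andK nets ivx Ms (bitsK l3) U TU1 [(0, 99, 2), (0, 0, 1)]) (bitsK [25759, 44721, 78151, 113567, 114468]) = true := by decide +kernel
theorem c2_78151 : ptT tabs 8 E20 78151 25759 = true := by decide +kernel
theorem c2_113567 : ptT tabs 8 E40 113567 25759 = true := by decide +kernel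
theorem f_20_12814 : ptT tabs 8 E20 12814 12814 = true := by decide +kernel
theorem f_20_82184 : ptT tabs 8 E20 82184 82184 = true := by decide +kernel
theorem f_40_12814 : ptT tabs 8 E40 12814 12814 = true := by decide +kernel
theorem f_40_82184 : ptT tabs 8 E40 82184 82184 = true := by decide +kernel
def misU2 : List (List ℕ × ℕ × ℕ × ℕ × ℕ × ℕ) := [([2, 1, 6, 4, 6, 4, 3, 2, 4, 3, 2, 1, 6], 44721, 1, 0, 103400, 0), ([7, 4, 7, 1, 2, 3, 2, 3, 1, 2, 4, 3, 5, 4, 6], 114468, 1, 0, 103400, 0)]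
theorem misU2_ok : misT tabs ivx Ms 8 U t25759 misU2 = true := by decide +kernel
def ch2 : List (List ℕ × ℕ) := [([1, 7, 2, 4, 6, 3, 1, 2, 7, 4, 3, 2, 1, 6], 78151), ([4, 7, 1, 2, 3, 2, 4, 6, 3, 1, 2, 3, 2, 4, 6], 113567)]
theorem ch2_ok : chainT tabs 8 U ch2 25759 = true := by decide +kernel
noncomputable def TU2 : List (List ℕ) := TU1 ++ (t25759 :: ch2.map Prod.fst)
theorem pin3 : Nat.beq (andK nets ivx Ms (2 ^ 122760 - 1) U TU2 [(0, 0, 2), (0, 99, 0), (0, 3, 2), (0, 4, 3), (0, 1, 0), (0, 2, 1)]) (2 ^ 3129) = true := by decide +kernel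
def ch3 : List (List ℕ × ℕ) := [([1, 7, 4, 3, 1, 2, 6, 3, 4, 6], 7123), ([2, 1, 7, 4, 3, 2, 4, 3, 7, 1, 2, 4, 3, 7, 4, 6], 122337), ([0, 1, 2, 1, 7, 3, 2, 4, 3, 1, 2, 1, 6], 41299), ([2, 4, 6, 3, 1, 7, 2, 3, 4, 1, 6], 10088), ([4, 3, 7, 2, 4, 1, 6, 3, 2, 3, 4, 6], 29232)]
theorem ch3_ok : chainT tabs 8 U ch3 3129 = true := by decide +kernel
noncomputable def TU3 : List (List ℕ) := TU2 ++ (t3129 :: ch3.map Prod.fst)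
theorem pinU_1 : Nat.beq (andK nets ivx Ms (2 ^ 122760 - 1) U TU3 [(0, 99, 0), (0, 8, 3), (0, 5, 0), (0, 9, 1), (0, 6, 0), (0, 1, 1), (0, 2, 0), (0, 0, 0), (0, 7, 1), (0, 4, 1), (0, 10, 0), (0, 3, 0)]) (2 ^ 1) = true := by decide +kernel
def t1 : List ℕ := [6]
theorem t1_pt : ptT tabs 8 t1 0 1 = true := by decide +kernel
noncomputable def TU4 : List (List ℕ) := TU3 ++ [t1]
theorem pinU_22 : Nat.beq (andK nets ivx Ms (2 ^ 122760 - 1) U TU4 [(0, 11, 3), (0, 99, 0), (0, 1, 3), (0, 5, 1), (0, 9, 0), (0, 6, 0), (0, 8, 0), (0, 10, 0)]) (2 ^ 22) = true := by decide +kernel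
theorem popA : popK 17 (Nat.land (bitsK l3) M3) = 64 := by decide +kernel
def t21633 : List ℕ := [1, 2, 3, 2, 4, 1, 7, 3, 1, 2, 1, 6]
theorem t21633_pt : ptT tabs 8 t21633 0 21633 = true := by decide +kernel
theorem pop21633 : popK 17 (walkK nets (iw ivx t21633) M3 (fun R => Nat.land (bitsK l3) R)) = 16 := by decide +kernel
def t44721 : List ℕ := [2, 1, 6, 4, 6, 4, 3, 2, 4, 3, 2, 1, 6]
theorem t44721_pt : ptT tabs 8 t44721 0 44721 = true := by decide +kernel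
theorem pop44721 : popK 17 (walkK nets (iw ivx t44721) M3 (fun R => Nat.land (bitsK l3) R)) = 16 := by decide +kernel
def t107390 : List ℕ := [1, 2, 4, 3, 2, 7, 1, 7, 2, 4, 3, 0, 2, 1, 6]
theorem t107390_pt : ptT tabs 8 t107390 0 107390 = true := by decide +kernel
theorem pop107390 : popK 17 (walkK nets (iw ivx t107390) M3 (fun R => Nat.land (bitsK l3) R)) = 16 := by decide +kernel
/-- candidates -/
theorem cd_0_0_0_1 : ptT tabs 8 (wpow (P1 ++ ((R0 ++ E00) ++ (P7 ++ (R0 ++ E00)))) 4) 1 56104 = true := by decide +kernel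
theorem cd_0_0_0_2 : ptT tabs 8 (wpow (P2 ++ ((R0 ++ E00) ++ (P14 ++ (R0 ++ E00)))) 4) 1 100722 = true := by decide +kernel
theorem cd_0_0_0_4 : ptT tabs 8 (wpow (P4 ++ ((R0 ++ E00) ++ (P9 ++ (R0 ++ E00)))) 4) 1 19038 = true := by decide +kernel
theorem cd_0_0_1_1 : ptT tabs 8 (wpow (P1 ++ ((R0 ++ E01) ++ (P7 ++ (R0 ++ E01)))) 4) 1 48450 = true := by decide +kernel
theorem cd_0_0_1_2 : ptT tabs 8 (wpow (P2 ++ ((R0 ++ E01) ++ (P14 ++ (R0 ++ E01)))) 4) 1 104849 = true := by decide +kernel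
theorem cd_0_0_1_4 : ptT tabs 8 (wpow (P4 ++ ((R0 ++ E01) ++ (P9 ++ (R0 ++ E01)))) 4) 1 122464 = true := by decide +kernel
theorem cd_0_1_0_1 : ptT tabs 8 (wpow (P1 ++ ((R0 ++ E10) ++ (P7 ++ (R0 ++ E10)))) 4) 1 64017 = true := by decide +kernel
theorem cd_0_1_0_2 : ptT tabs 8 (wpow (P2 ++ ((R0 ++ E10) ++ (P14 ++ (R0 ++ E10)))) 4) 1 101911 = true := by decide +kernel
theorem cd_0_1_0_4 : ptT tabs 8 (wpow (P4 ++ ((R0 ++ E10) ++ (P9 ++ (R0 ++ E10)))) 4) 1 61589 = true := by decide +kernel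
theorem cd_0_1_1_1 : ptT tabs 8 (wpow (P1 ++ ((R0 ++ E11) ++ (P7 ++ (R0 ++ E11)))) 4) 1 80357 = true := by decide +kernel
theorem cd_0_1_1_2 : ptT tabs 8 (wpow (P2 ++ ((R0 ++ E11) ++ (P14 ++ (R0 ++ E11)))) 4) 1 46896 = true := by decide +kernel
theorem cd_0_1_1_4 : ptT tabs 8 (wpow (P4 ++ ((R0 ++ E11) ++ (P9 ++ (R0 ++ E11)))) 4) 1 51706 = true := by decide +kernel
theorem cd_0_2_0_1 : ptT tabs 8 (wpow (P1 ++ ((R0 ++ E20) ++ (P7 ++ (R0 ++ E20)))) 4) 1 119472 = true := by decide +kernel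
theorem cd_0_2_0_2 : ptT tabs 8 (wpow (P2 ++ ((R0 ++ E20) ++ (P14 ++ (R0 ++ E20)))) 4) 1 14961 = true := by decide +kernel
theorem cd_0_2_0_4 : ptT tabs 8 (wpow (P4 ++ ((R0 ++ E20) ++ (P9 ++ (R0 ++ E20)))) 4) 1 118451 = true := by decide +kernel
theorem cd_0_2_1_1 : ptT tabs 8 (wpow (P1 ++ ((R0 ++ E21) ++ (P7 ++ (R0 ++ E21)))) 4) 1 103331 = true := by decide +kernel
theorem cd_0_2_1_2 : ptT tabs 8 (wpow (P2 ++ ((R0 ++ E21) ++ (P14 ++ (R0 ++ E21)))) 4) 1 29001 = true := by decide +kernel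
theorem cd_0_2_1_4 : ptT tabs 8 (wpow (P4 ++ (R0 ++ E21)) 15) 1 64084 = true := by decide +kernel
theorem cd_0_3_0_1 : ptT tabs 8 (wpow (P1 ++ (R0 ++ E30)) 15) 1 16989 = true := by decide +kernel
theorem cd_0_3_0_2 : ptT tabs 8 (wpow (P2 ++ ((R0 ++ E30) ++ (P14 ++ (R0 ++ E30)))) 4) 1 91060 = true := by decide +kernel
theorem cd_0_3_0_4 : ptT tabs 8 (wpow (P4 ++ ((R0 ++ E30) ++ (P9 ++ (R0 ++ E30)))) 4) 1 35907 = true := by decide +kernel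
theorem cd_0_3_1_1 : ptT tabs 8 (wpow (P1 ++ (R0 ++ E31)) 15) 1 80357 = true := by decide +kernel
theorem cd_0_3_1_2 : ptT tabs 8 (wpow (P2 ++ ((R0 ++ E31) ++ (P14 ++ (R0 ++ E31)))) 4) 1 77157 = true := by decide +kernel
theorem cd_0_3_1_4 : ptT tabs 8 (wpow (P4 ++ ((R0 ++ E31) ++ (P9 ++ (R0 ++ E31)))) 4) 1 2488 = true := by decide +kernel
theorem cd_0_4_0_1 : ptT tabs 8 (wpow (P1 ++ ((R0 ++ E40) ++ (P7 ++ (R0 ++ E40)))) 4) 1 115820 = true := by decide +kernel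
theorem cd_0_4_0_2 : ptT tabs 8 (wpow (P2 ++ ((R0 ++ E40) ++ (P14 ++ (R0 ++ E40)))) 4) 1 7598 = true := by decide +kernel
theorem cd_0_4_0_4 : ptT tabs 8 (wpow (P4 ++ (R0 ++ E40)) 15) 1 114968 = true := by decide +kernel
theorem cd_0_4_1_1 : ptT tabs 8 (wpow (P1 ++ ((R0 ++ E41) ++ (P7 ++ (R0 ++ E41)))) 4) 1 18416 = true := by decide +kernel
theorem cd_0_4_1_2 : ptT tabs 8 (wpow (P2 ++ ((R0 ++ E41) ++ (P14 ++ (R0 ++ E41)))) 4) 1 40451 = true := by decide +kernel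
theorem cd_0_4_1_4 : ptT tabs 8 (wpow (P4 ++ ((R0 ++ E41) ++ (P9 ++ (R0 ++ E41)))) 4) 1 23260 = true := by decide +kernel
theorem cd_0_5_0_1 : ptT tabs 8 (wpow (P1 ++ ((R0 ++ E50) ++ (P7 ++ (R0 ++ E50)))) 4) 1 52742 = true := by decide +kernel
theorem cd_0_5_0_2 : ptT tabs 8 (wpow (P2 ++ ((R0 ++ E50) ++ (P14 ++ (R0 ++ E50)))) 4) 1 101911 = true := by decide +kernel
theorem cd_0_5_0_4 : ptT tabs 8 (wpow (P4 ++ ((R0 ++ E50) ++ (P9 ++ (R0 ++ E50)))) 4) 1 12554 = true := by decide +kernel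
theorem cd_0_5_1_1 : ptT tabs 8 (wpow (P1 ++ ((R0 ++ E51) ++ (P7 ++ (R0 ++ E51)))) 4) 1 109767 = true := by decide +kernel
theorem cd_0_5_1_2 : ptT tabs 8 (wpow (P2 ++ ((R0 ++ E51) ++ (P14 ++ (R0 ++ E51)))) 4) 1 74875 = true := by decide +kernel
theorem cd_0_5_1_4 : ptT tabs 8 (wpow (P4 ++ ((R0 ++ E51) ++ (P9 ++ (R0 ++ E51)))) 4) 1 25142 = true := by decide +kernel
theorem cd_1_0_0_2 : ptT tabs 8 (wpow (P2 ++ ((R1 ++ E00) ++ (P14 ++ (R1 ++ E00)))) 4) 0 96779 = true := by decide +kernel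
theorem cd_1_0_0_4 : ptT tabs 8 (wpow (P4 ++ ((R1 ++ E00) ++ (P9 ++ (R1 ++ E00)))) 4) 0 98587 = true := by decide +kernel
theorem cd_1_0_1_1 : ptT tabs 8 (wpow (R1 ++ E01) 2) 1 90230 = true := by decide +kernel
theorem cd_1_0_1_2 : ptT tabs 8 (wpow (R1 ++ E01) 2) 1 90230 = true := by decide +kernel
theorem cd_1_0_1_4 : ptT tabs 8 (wpow (R1 ++ E01) 2) 1 90230 = true := by decide +kernel
theorem cd_1_1_0_1 : ptT tabs 8 (wpow (P1 ++ ((R1 ++ E10) ++ (P7 ++ (R1 ++ E10)))) 4) 0 31948 = true := by decide +kernel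
theorem cd_1_1_0_2 : ptT tabs 8 (wpow (P2 ++ ((R1 ++ E10) ++ (P14 ++ (R1 ++ E10)))) 4) 0 70999 = true := by decide +kernel
theorem cd_1_1_0_4 : ptT tabs 8 (wpow (P4 ++ ((R1 ++ E10) ++ (P9 ++ (R1 ++ E10)))) 4) 0 1121 = true := by decide +kernel
theorem cd_1_1_1_1 : ptT tabs 8 (wpow (R1 ++ E11) 2) 1 90230 = true := by decide +kernel
theorem cd_1_1_1_2 : ptT tabs 8 (wpow (R1 ++ E11) 2) 1 90230 = true := by decide +kernel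
theorem cd_1_1_1_4 : ptT tabs 8 (wpow (R1 ++ E11) 2) 1 90230 = true := by decide +kernel
theorem cd_1_2_0_1 : ptT tabs 8 (wpow (P1 ++ ((R1 ++ E20) ++ (P7 ++ (R1 ++ E20)))) 4) 0 16650 = true := by decide +kernel
theorem cd_1_2_0_2 : ptT tabs 8 (wpow (P2 ++ ((R1 ++ E20) ++ (P14 ++ (R1 ++ E20)))) 4) 0 89781 = true := by decide +kernel
theorem cd_1_2_0_4 : ptT tabs 8 (wpow (P4 ++ ((R1 ++ E20) ++ (P9 ++ (R1 ++ E20)))) 4) 0 103985 = true := by decide +kernel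
theorem cd_1_2_1_1 : ptT tabs 8 (wpow (R1 ++ E21) 2) 1 90230 = true := by decide +kernel
theorem cd_1_2_1_2 : ptT tabs 8 (wpow (R1 ++ E21) 2) 1 90230 = true := by decide +kernel
theorem cd_1_2_1_4 : ptT tabs 8 (wpow (R1 ++ E21) 2) 1 90230 = true := by decide +kernel
theorem cd_1_3_0_1 : ptT tabs 8 (wpow (P1 ++ ((R1 ++ E30) ++ (P7 ++ (R1 ++ E30)))) 4) 0 68207 = true := by decide +kernel
theorem cd_1_3_0_2 : ptT tabs 8 (wpow (P2 ++ ((R1 ++ E30) ++ (P14 ++ (R1 ++ E30)))) 4) 0 113941 = true := by decide +kernel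
theorem cd_1_3_0_4 : ptT tabs 8 (wpow (P4 ++ ((R1 ++ E30) ++ (P9 ++ (R1 ++ E30)))) 4) 0 68459 = true := by decide +kernel
theorem cd_1_3_1_1 : ptT tabs 8 (wpow (R1 ++ E31) 2) 1 90230 = true := by decide +kernel
theorem cd_1_3_1_2 : ptT tabs 8 (wpow (R1 ++ E31) 2) 1 90230 = true := by decide +kernel
theorem cd_1_3_1_4 : ptT tabs 8 (wpow (R1 ++ E31) 2) 1 90230 = true := by decide +kernel
theorem cd_1_4_0_1 : ptT tabs 8 (wpow (P1 ++ ((R1 ++ E40) ++ (P7 ++ (R1 ++ E40)))) 4) 0 38988 = true := by decide +kernel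
theorem cd_1_4_0_2 : ptT tabs 8 (wpow (P2 ++ ((R1 ++ E40) ++ (P14 ++ (R1 ++ E40)))) 4) 0 34500 = true := by decide +kernel
theorem cd_1_4_0_4 : ptT tabs 8 (wpow (P4 ++ ((R1 ++ E40) ++ (P9 ++ (R1 ++ E40)))) 4) 0 17713 = true := by decide +kernel
theorem cd_1_4_1_1 : ptT tabs 8 (wpow (R1 ++ E41) 2) 1 90230 = true := by decide +kernel
theorem cd_1_4_1_2 : ptT tabs 8 (wpow (R1 ++ E41) 2) 1 90230 = true := by decide +kernel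
theorem cd_1_4_1_4 : ptT tabs 8 (wpow (R1 ++ E41) 2) 1 90230 = true := by decide +kernel
theorem cd_1_5_0_1 : ptT tabs 8 (wpow (P1 ++ ((R1 ++ E50) ++ (P7 ++ (R1 ++ E50)))) 4) 0 113531 = true := by decide +kernel
theorem cd_1_5_0_2 : ptT tabs 8 (wpow (P2 ++ ((R1 ++ E50) ++ (P14 ++ (R1 ++ E50)))) 4) 0 11038 = true := by decide +kernel
theorem cd_1_5_0_4 : ptT tabs 8 (wpow (P4 ++ ((R1 ++ E50) ++ (P9 ++ (R1 ++ E50)))) 4) 0 81715 = true := by decide +kernel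
theorem cd_1_5_1_1 : ptT tabs 8 (wpow (R1 ++ E51) 2) 1 90230 = true := by decide +kernel
theorem cd_1_5_1_2 : ptT tabs 8 (wpow (R1 ++ E51) 2) 1 90230 = true := by decide +kernel
theorem cd_1_5_1_4 : ptT tabs 8 (wpow (R1 ++ E51) 2) 1 90230 = true := by decide +kernel
theorem cd_2_0_0_1 : ptT tabs 8 (wpow (P1 ++ ((R2 ++ E00) ++ (P7 ++ (R2 ++ E00)))) 4) 0 65179 = true := by decide +kernel
theorem cd_2_0_0_2 : ptT tabs 8 (wpow (P2 ++ ((R2 ++ E00) ++ (P14 ++ (R2 ++ E00)))) 4) 0 6144 = true := by decide +kernel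
theorem cd_2_0_0_4 : ptT tabs 8 (wpow (P4 ++ ((R2 ++ E00) ++ (P9 ++ (R2 ++ E00)))) 4) 0 42909 = true := by decide +kernel
theorem cd_2_0_1_1 : ptT tabs 8 (wpow (R2 ++ E01) 2) 1 90230 = true := by decide +kernel
theorem cd_2_0_1_2 : ptT tabs 8 (wpow (R2 ++ E01) 2) 1 90230 = true := by decide +kernel
theorem cd_2_0_1_4 : ptT tabs 8 (wpow (R2 ++ E01) 2) 1 90230 = true := by decide +kernel
theorem cd_2_1_0_1 : ptT tabs 8 (wpow (P1 ++ ((R2 ++ E10) ++ (P7 ++ (R2 ++ E10)))) 4) 0 40882 = true := by decide +kernel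
theorem cd_2_1_0_2 : ptT tabs 8 (wpow (P2 ++ ((R2 ++ E10) ++ (P14 ++ (R2 ++ E10)))) 4) 0 46356 = true := by decide +kernel
theorem cd_2_1_0_4 : ptT tabs 8 (wpow (P4 ++ ((R2 ++ E10) ++ (P9 ++ (R2 ++ E10)))) 4) 0 2682 = true := by decide +kernel
theorem cd_2_1_1_1 : ptT tabs 8 (wpow (R2 ++ E11) 2) 1 90230 = true := by decide +kernel
theorem cd_2_1_1_2 : ptT tabs 8 (wpow (R2 ++ E11) 2) 1 90230 = true := by decide +kernel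
theorem cd_2_1_1_4 : ptT tabs 8 (wpow (R2 ++ E11) 2) 1 90230 = true := by decide +kernel
theorem cd_2_2_0_1 : ptT tabs 8 (wpow (P1 ++ ((R2 ++ E20) ++ (P7 ++ (R2 ++ E20)))) 4) 0 121677 = true := by decide +kernel
theorem cd_2_2_0_2 : ptT tabs 8 (wpow (P2 ++ ((R2 ++ E20) ++ (P14 ++ (R2 ++ E20)))) 4) 0 109839 = true := by decide +kernel
theorem cd_2_2_0_4 : ptT tabs 8 (wpow (P4 ++ (R2 ++ E20)) 15) 0 77313 = true := by decide +kernel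
theorem cd_2_2_1_1 : ptT tabs 8 (wpow (R2 ++ E21) 2) 1 90230 = true := by decide +kernel
theorem cd_2_2_1_2 : ptT tabs 8 (wpow (R2 ++ E21) 2) 1 90230 = true := by decide +kernel
theorem cd_2_2_1_4 : ptT tabs 8 (wpow (R2 ++ E21) 2) 1 90230 = true := by decide +kernel
theorem cd_2_3_0_1 : ptT tabs 8 (wpow (P1 ++ (R2 ++ E30)) 15) 0 40882 = true := by decide +kernel
theorem cd_2_3_0_2 : ptT tabs 8 (wpow (P2 ++ ((R2 ++ E30) ++ (P14 ++ (R2 ++ E30)))) 4) 0 52407 = true := by decide +kernel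
theorem cd_2_3_0_4 : ptT tabs 8 (wpow (P4 ++ ((R2 ++ E30) ++ (P9 ++ (R2 ++ E30)))) 4) 0 2364 = true := by decide +kernel
theorem cd_2_3_1_1 : ptT tabs 8 (wpow (R2 ++ E31) 2) 1 90230 = true := by decide +kernel
theorem cd_2_3_1_2 : ptT tabs 8 (wpow (R2 ++ E31) 2) 1 90230 = true := by decide +kernel
theorem cd_2_3_1_4 : ptT tabs 8 (wpow (R2 ++ E31) 2) 1 90230 = true := by decide +kernel
theorem cd_2_4_0_1 : ptT tabs 8 (wpow (P1 ++ ((R2 ++ E40) ++ (P7 ++ (R2 ++ E40)))) 4) 0 9773 = true := by decide +kernel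
theorem cd_2_4_0_2 : ptT tabs 8 (wpow (P2 ++ ((R2 ++ E40) ++ (P14 ++ (R2 ++ E40)))) 4) 0 7800 = true := by decide +kernel
theorem cd_2_4_0_4 : ptT tabs 8 (wpow (P4 ++ ((R2 ++ E40) ++ (P9 ++ (R2 ++ E40)))) 4) 0 55088 = true := by decide +kernel
theorem cd_2_4_1_1 : ptT tabs 8 (wpow (R2 ++ E41) 2) 1 90230 = true := by decide +kernel
theorem cd_2_4_1_2 : ptT tabs 8 (wpow (R2 ++ E41) 2) 1 90230 = true := by decide +kernel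
theorem cd_2_4_1_4 : ptT tabs 8 (wpow (R2 ++ E41) 2) 1 90230 = true := by decide +kernel
theorem cd_2_5_0_1 : ptT tabs 8 (wpow (P1 ++ ((R2 ++ E50) ++ (P7 ++ (R2 ++ E50)))) 4) 0 26813 = true := by decide +kernel
theorem cd_2_5_0_2 : ptT tabs 8 (wpow (P2 ++ ((R2 ++ E50) ++ (P14 ++ (R2 ++ E50)))) 4) 0 43902 = true := by decide +kernel
theorem cd_2_5_0_4 : ptT tabs 8 (wpow (P4 ++ ((R2 ++ E50) ++ (P9 ++ (R2 ++ E50)))) 4) 0 74605 = true := by decide +kernel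
theorem cd_2_5_1_1 : ptT tabs 8 (wpow (R2 ++ E51) 2) 1 90230 = true := by decide +kernel
theorem cd_2_5_1_2 : ptT tabs 8 (wpow (R2 ++ E51) 2) 1 90230 = true := by decide +kernel
theorem cd_2_5_1_4 : ptT tabs 8 (wpow (R2 ++ E51) 2) 1 90230 = true := by decide +kernel
theorem cd_3_0_0_1 : ptT tabs 8 (wpow (P1 ++ ((R3 ++ E00) ++ (P7 ++ (R3 ++ E00)))) 4) 0 89472 = true := by decide +kernel
theorem cd_3_0_0_2 : ptT tabs 8 (wpow (P2 ++ ((R3 ++ E00) ++ (P14 ++ (R3 ++ E00)))) 4) 0 61015 = true := by decide +kernel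
theorem cd_3_0_0_4 : ptT tabs 8 (wpow (P4 ++ ((R3 ++ E00) ++ (P9 ++ (R3 ++ E00)))) 4) 0 54219 = true := by decide +kernel
theorem cd_3_0_1_1 : ptT tabs 8 (wpow (P1 ++ ((R3 ++ E01) ++ (P7 ++ (R3 ++ E01)))) 4) 0 20462 = true := by decide +kernel
theorem cd_3_0_1_2 : ptT tabs 8 (wpow (P2 ++ ((R3 ++ E01) ++ (P14 ++ (R3 ++ E01)))) 4) 0 23073 = true := by decide +kernel
theorem cd_3_0_1_4 : ptT tabs 8 (wpow (P4 ++ ((R3 ++ E01) ++ (P9 ++ (R3 ++ E01)))) 4) 0 61798 = true := by decide +kernel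
theorem cd_3_1_0_1 : ptT tabs 8 (wpow (P1 ++ ((R3 ++ E10) ++ (P7 ++ (R3 ++ E10)))) 4) 0 40416 = true := by decide +kernel
theorem cd_3_1_0_2 : ptT tabs 8 (wpow (P2 ++ ((R3 ++ E10) ++ (P14 ++ (R3 ++ E10)))) 4) 0 47036 = true := by decide +kernel
theorem cd_3_1_0_4 : ptT tabs 8 (wpow (P4 ++ ((R3 ++ E10) ++ (P9 ++ (R3 ++ E10)))) 4) 0 80668 = true := by decide +kernel
theorem cd_3_1_1_1 : ptT tabs 8 (wpow (P1 ++ ((R3 ++ E11) ++ (P7 ++ (R3 ++ E11)))) 4) 0 19255 = true := by decide +kernel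
theorem cd_3_1_1_2 : ptT tabs 8 (wpow (P2 ++ ((R3 ++ E11) ++ (P14 ++ (R3 ++ E11)))) 4) 0 43548 = true := by decide +kernel
theorem cd_3_1_1_4 : ptT tabs 8 (wpow (P4 ++ ((R3 ++ E11) ++ (P9 ++ (R3 ++ E11)))) 4) 0 15121 = true := by decide +kernel
theorem cd_3_2_0_1 : ptT tabs 8 (wpow (P1 ++ ((R3 ++ E20) ++ (P7 ++ (R3 ++ E20)))) 4) 0 14540 = true := by decide +kernel
theorem cd_3_2_0_2 : ptT tabs 8 (wpow (P2 ++ ((R3 ++ E20) ++ (P14 ++ (R3 ++ E20)))) 4) 0 104216 = true := by decide +kernel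
theorem cd_3_2_0_4 : ptT tabs 8 (wpow (P4 ++ ((R3 ++ E20) ++ (P9 ++ (R3 ++ E20)))) 4) 0 35397 = true := by decide +kernel
theorem cd_3_2_1_1 : ptT tabs 8 (wpow (P1 ++ ((R3 ++ E21) ++ (P7 ++ (R3 ++ E21)))) 4) 0 22987 = true := by decide +kernel
theorem cd_3_2_1_2 : ptT tabs 8 (wpow (P2 ++ ((R3 ++ E21) ++ (P14 ++ (R3 ++ E21)))) 4) 0 72803 = true := by decide +kernel
theorem cd_3_2_1_4 : ptT tabs 8 (wpow (P4 ++ ((R3 ++ E21) ++ (P9 ++ (R3 ++ E21)))) 4) 0 54065 = true := by decide +kernel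
theorem cd_3_3_0_1 : ptT tabs 8 (wpow (P1 ++ ((R3 ++ E30) ++ (P7 ++ (R3 ++ E30)))) 4) 0 63027 = true := by decide +kernel
theorem cd_3_3_0_2 : ptT tabs 8 (wpow (P2 ++ ((R3 ++ E30) ++ (P14 ++ (R3 ++ E30)))) 4) 0 40889 = true := by decide +kernel
theorem cd_3_3_0_4 : ptT tabs 8 (wpow (P4 ++ ((R3 ++ E30) ++ (P9 ++ (R3 ++ E30)))) 4) 0 96779 = true := by decide +kernel
theorem cd_3_3_1_1 : ptT tabs 8 (wpow (P1 ++ ((R3 ++ E31) ++ (P7 ++ (R3 ++ E31)))) 4) 0 30176 = true := by decide +kernel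
theorem cd_3_3_1_2 : ptT tabs 8 (wpow (P2 ++ ((R3 ++ E31) ++ (P14 ++ (R3 ++ E31)))) 4) 0 56826 = true := by decide +kernel
theorem cd_3_3_1_4 : ptT tabs 8 (wpow (P4 ++ ((R3 ++ E31) ++ (P9 ++ (R3 ++ E31)))) 4) 0 100542 = true := by decide +kernel
theorem cd_3_4_0_1 : ptT tabs 8 (wpow (P1 ++ ((R3 ++ E40) ++ (P7 ++ (R3 ++ E40)))) 4) 0 103343 = true := by decide +kernel
theorem cd_3_4_0_2 : ptT tabs 8 (wpow (P2 ++ ((R3 ++ E40) ++ (P14 ++ (R3 ++ E40)))) 4) 0 106794 = true := by decide +kernel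
theorem cd_3_4_0_4 : ptT tabs 8 (wpow (P4 ++ ((R3 ++ E40) ++ (P9 ++ (R3 ++ E40)))) 4) 0 39515 = true := by decide +kernel
theorem cd_3_4_1_1 : ptT tabs 8 (wpow (P1 ++ ((R3 ++ E41) ++ (P7 ++ (R3 ++ E41)))) 4) 0 30167 = true := by decide +kernel
theorem cd_3_4_1_2 : ptT tabs 8 (wpow (P2 ++ ((R3 ++ E41) ++ (P14 ++ (R3 ++ E41)))) 4) 0 71619 = true := by decide +kernel
theorem cd_3_4_1_4 : ptT tabs 8 (wpow (P4 ++ ((R3 ++ E41) ++ (P9 ++ (R3 ++ E41)))) 4) 0 100108 = true := by decide +kernel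
theorem cd_3_5_0_2 : ptT tabs 8 (wpow (P2 ++ ((R3 ++ E50) ++ (P14 ++ (R3 ++ E50)))) 4) 0 66924 = true := by decide +kernel
theorem cd_3_5_0_4 : ptT tabs 8 (wpow (P4 ++ ((R3 ++ E50) ++ (P9 ++ (R3 ++ E50)))) 4) 0 47574 = true := by decide +kernel
theorem cd_3_5_1_1 : ptT tabs 8 (wpow (P1 ++ ((R3 ++ E51) ++ (P7 ++ (R3 ++ E51)))) 4) 0 57167 = true := by decide +kernel
theorem cd_3_5_1_2 : ptT tabs 8 (wpow (P2 ++ ((R3 ++ E51) ++ (P14 ++ (R3 ++ E51)))) 4) 0 19603 = true := by decide +kernel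
theorem cd_3_5_1_4 : ptT tabs 8 (wpow (P4 ++ ((R3 ++ E51) ++ (P9 ++ (R3 ++ E51)))) 4) 0 23879 = true := by decide +kernel
theorem cd_4_0_0_1 : ptT tabs 8 (wpow (P1 ++ ((R4 ++ E00) ++ (P7 ++ (R4 ++ E00)))) 4) 0 108084 = true := by decide +kernel
theorem cd_4_0_0_2 : ptT tabs 8 (wpow (P2 ++ ((R4 ++ E00) ++ (P14 ++ (R4 ++ E00)))) 4) 0 110568 = true := by decide +kernel
theorem cd_4_0_0_4 : ptT tabs 8 (wpow (P4 ++ ((R4 ++ E00) ++ (P9 ++ (R4 ++ E00)))) 4) 0 69739 = true := by decide +kernel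
theorem cd_4_0_1_1 : ptT tabs 8 (wpow (R4 ++ E01) 2) 1 90230 = true := by decide +kernel
theorem cd_4_0_1_2 : ptT tabs 8 (wpow (R4 ++ E01) 2) 1 90230 = true := by decide +kernel
theorem cd_4_0_1_4 : ptT tabs 8 (wpow (R4 ++ E01) 2) 1 90230 = true := by decide +kernel
theorem cd_4_1_0_1 : ptT tabs 8 (wpow (P1 ++ ((R4 ++ E10) ++ (P7 ++ (R4 ++ E10)))) 4) 0 71737 = true := by decide +kernel
theorem cd_4_1_0_2 : ptT tabs 8 (wpow (P2 ++ (R4 ++ E10)) 15) 0 20012 = true := by decide +kernel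
theorem cd_4_1_0_4 : ptT tabs 8 (wpow (P4 ++ ((R4 ++ E10) ++ (P9 ++ (R4 ++ E10)))) 4) 0 103432 = true := by decide +kernel
theorem cd_4_1_1_1 : ptT tabs 8 (wpow (R4 ++ E11) 2) 1 90230 = true := by decide +kernel
theorem cd_4_1_1_2 : ptT tabs 8 (wpow (R4 ++ E11) 2) 1 90230 = true := by decide +kernel
theorem cd_4_1_1_4 : ptT tabs 8 (wpow (R4 ++ E11) 2) 1 90230 = true := by decide +kernel
theorem cd_4_2_0_1 : ptT tabs 8 (wpow (P1 ++ ((R4 ++ E20) ++ (P7 ++ (R4 ++ E20)))) 4) 0 32727 = true := by decide +kernel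
theorem cd_4_2_0_2 : ptT tabs 8 (wpow (P2 ++ ((R4 ++ E20) ++ (P14 ++ (R4 ++ E20)))) 4) 0 78177 = true := by decide +kernel
theorem cd_4_2_0_4 : ptT tabs 8 (wpow (P4 ++ ((R4 ++ E20) ++ (P9 ++ (R4 ++ E20)))) 4) 0 114669 = true := by decide +kernel
theorem cd_4_2_1_1 : ptT tabs 8 (wpow (R4 ++ E21) 2) 1 90230 = true := by decide +kernel
theorem cd_4_2_1_2 : ptT tabs 8 (wpow (R4 ++ E21) 2) 1 90230 = true := by decide +kernel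
theorem cd_4_2_1_4 : ptT tabs 8 (wpow (R4 ++ E21) 2) 1 90230 = true := by decide +kernel
theorem cd_4_3_0_1 : ptT tabs 8 (wpow (P1 ++ ((R4 ++ E30) ++ (P7 ++ (R4 ++ E30)))) 4) 0 58742 = true := by decide +kernel
theorem cd_4_3_0_2 : ptT tabs 8 (wpow (P2 ++ ((R4 ++ E30) ++ (P14 ++ (R4 ++ E30)))) 4) 0 75320 = true := by decide +kernel
theorem cd_4_3_0_4 : ptT tabs 8 (wpow (P4 ++ ((R4 ++ E30) ++ (P9 ++ (R4 ++ E30)))) 4) 0 82773 = true := by decide +kernel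
theorem cd_4_3_1_1 : ptT tabs 8 (wpow (R4 ++ E31) 2) 1 90230 = true := by decide +kernel
theorem cd_4_3_1_2 : ptT tabs 8 (wpow (R4 ++ E31) 2) 1 90230 = true := by decide +kernel
theorem cd_4_3_1_4 : ptT tabs 8 (wpow (R4 ++ E31) 2) 1 90230 = true := by decide +kernel
theorem cd_4_4_0_1 : ptT tabs 8 (wpow (P1 ++ ((R4 ++ E40) ++ (P7 ++ (R4 ++ E40)))) 4) 0 89251 = true := by decide +kernel
theorem cd_4_4_0_2 : ptT tabs 8 (wpow (P2 ++ ((R4 ++ E40) ++ (P14 ++ (R4 ++ E40)))) 4) 0 56914 = true := by decide +kernel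
theorem cd_4_4_0_4 : ptT tabs 8 (wpow (P4 ++ ((R4 ++ E40) ++ (P9 ++ (R4 ++ E40)))) 4) 0 75900 = true := by decide +kernel
theorem cd_4_4_1_1 : ptT tabs 8 (wpow (R4 ++ E41) 2) 1 90230 = true := by decide +kernel
theorem cd_4_4_1_2 : ptT tabs 8 (wpow (R4 ++ E41) 2) 1 90230 = true := by decide +kernel
theorem cd_4_4_1_4 : ptT tabs 8 (wpow (R4 ++ E41) 2) 1 90230 = true := by decide +kernel
theorem cd_4_5_0_1 : ptT tabs 8 (wpow (P1 ++ ((R4 ++ E50) ++ (P7 ++ (R4 ++ E50)))) 4) 0 68673 = true := by decide +kernel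
theorem cd_4_5_0_2 : ptT tabs 8 (wpow (P2 ++ ((R4 ++ E50) ++ (P14 ++ (R4 ++ E50)))) 4) 0 96071 = true := by decide +kernel
theorem cd_4_5_0_4 : ptT tabs 8 (wpow (P4 ++ ((R4 ++ E50) ++ (P9 ++ (R4 ++ E50)))) 4) 0 2314 = true := by decide +kernel
theorem cd_4_5_1_1 : ptT tabs 8 (wpow (R4 ++ E51) 2) 1 90230 = true := by decide +kernel
theorem cd_4_5_1_2 : ptT tabs 8 (wpow (R4 ++ E51) 2) 1 90230 = true := by decide +kernel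
theorem cd_4_5_1_4 : ptT tabs 8 (wpow (R4 ++ E51) 2) 1 90230 = true := by decide +kernel
theorem cd_5_0_0_1 : ptT tabs 8 (wpow (P1 ++ ((R5 ++ E00) ++ (P7 ++ (R5 ++ E00)))) 4) 0 89367 = true := by decide +kernel
theorem cd_5_0_0_2 : ptT tabs 8 (wpow (P2 ++ ((R5 ++ E00) ++ (P14 ++ (R5 ++ E00)))) 4) 0 70552 = true := by decide +kernel
theorem cd_5_0_0_4 : ptT tabs 8 (wpow (P4 ++ ((R5 ++ E00) ++ (P9 ++ (R5 ++ E00)))) 4) 0 2680 = true := by decide +kernel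
theorem cd_5_0_1_1 : ptT tabs 8 (wpow (P1 ++ ((R5 ++ E01) ++ (P7 ++ (R5 ++ E01)))) 4) 0 117989 = true := by decide +kernel
theorem cd_5_0_1_2 : ptT tabs 8 (wpow (P2 ++ ((R5 ++ E01) ++ (P14 ++ (R5 ++ E01)))) 4) 0 29291 = true := by decide +kernel
theorem cd_5_0_1_4 : ptT tabs 8 (wpow (P4 ++ ((R5 ++ E01) ++ (P9 ++ (R5 ++ E01)))) 4) 0 47765 = true := by decide +kernel
theorem cd_5_1_0_1 : ptT tabs 8 (wpow (P1 ++ ((R5 ++ E10) ++ (P7 ++ (R5 ++ E10)))) 4) 0 98952 = true := by decide +kernel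
theorem cd_5_1_0_2 : ptT tabs 8 (wpow (P2 ++ ((R5 ++ E10) ++ (P14 ++ (R5 ++ E10)))) 4) 0 73479 = true := by decide +kernel
theorem cd_5_1_0_4 : ptT tabs 8 (wpow (P4 ++ ((R5 ++ E10) ++ (P9 ++ (R5 ++ E10)))) 4) 0 112146 = true := by decide +kernel
theorem cd_5_1_1_1 : ptT tabs 8 (wpow (P1 ++ (R5 ++ E11)) 15) 0 8018 = true := by decide +kernel
theorem cd_5_1_1_2 : ptT tabs 8 (wpow (P2 ++ ((R5 ++ E11) ++ (P14 ++ (R5 ++ E11)))) 4) 0 29869 = true := by decide +kernel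
theorem cd_5_1_1_4 : ptT tabs 8 (wpow (P4 ++ ((R5 ++ E11) ++ (P9 ++ (R5 ++ E11)))) 4) 0 36977 = true := by decide +kernel
theorem cd_5_2_0_1 : ptT tabs 8 (wpow (P1 ++ ((R5 ++ E20) ++ (P7 ++ (R5 ++ E20)))) 4) 0 71384 = true := by decide +kernel
theorem cd_5_2_0_2 : ptT tabs 8 (wpow (P2 ++ (R5 ++ E20)) 15) 0 16788 = true := by decide +kernel
theorem cd_5_2_0_4 : ptT tabs 8 (wpow (P4 ++ ((R5 ++ E20) ++ (P9 ++ (R5 ++ E20)))) 4) 0 68897 = true := by decide +kernel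
theorem cd_5_2_1_1 : ptT tabs 8 (wpow (P1 ++ ((R5 ++ E21) ++ (P7 ++ (R5 ++ E21)))) 4) 0 74332 = true := by decide +kernel
theorem cd_5_2_1_2 : ptT tabs 8 (wpow (P2 ++ ((R5 ++ E21) ++ (P14 ++ (R5 ++ E21)))) 4) 0 50942 = true := by decide +kernel
theorem cd_5_2_1_4 : ptT tabs 8 (wpow (P4 ++ (R5 ++ E21)) 15) 0 118434 = true := by decide +kernel
theorem cd_5_3_0_1 : ptT tabs 8 (wpow (P1 ++ ((R5 ++ E30) ++ (P7 ++ (R5 ++ E30)))) 4) 0 76732 = true := by decide +kernel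
theorem cd_5_3_0_2 : ptT tabs 8 (wpow (P2 ++ ((R5 ++ E30) ++ (P14 ++ (R5 ++ E30)))) 4) 0 114822 = true := by decide +kernel
theorem cd_5_3_0_4 : ptT tabs 8 (wpow (P4 ++ ((R5 ++ E30) ++ (P9 ++ (R5 ++ E30)))) 4) 0 17660 = true := by decide +kernel
theorem cd_5_3_1_1 : ptT tabs 8 (wpow (P1 ++ ((R5 ++ E31) ++ (P7 ++ (R5 ++ E31)))) 4) 0 39239 = true := by decide +kernel
theorem cd_5_3_1_2 : ptT tabs 8 (wpow (P2 ++ ((R5 ++ E31) ++ (P14 ++ (R5 ++ E31)))) 4) 0 121959 = true := by decide +kernel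
theorem cd_5_3_1_4 : ptT tabs 8 (wpow (P4 ++ ((R5 ++ E31) ++ (P9 ++ (R5 ++ E31)))) 4) 0 18199 = true := by decide +kernel
theorem cd_5_4_0_1 : ptT tabs 8 (wpow (P1 ++ ((R5 ++ E40) ++ (P7 ++ (R5 ++ E40)))) 4) 0 108565 = true := by decide +kernel
theorem cd_5_4_0_2 : ptT tabs 8 (wpow (P2 ++ ((R5 ++ E40) ++ (P14 ++ (R5 ++ E40)))) 4) 0 61226 = true := by decide +kernel
theorem cd_5_4_0_4 : ptT tabs 8 (wpow (P4 ++ ((R5 ++ E40) ++ (P9 ++ (R5 ++ E40)))) 4) 0 14604 = true := by decide +kernel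
theorem cd_5_4_1_1 : ptT tabs 8 (wpow (P1 ++ ((R5 ++ E41) ++ (P7 ++ (R5 ++ E41)))) 4) 0 17338 = true := by decide +kernel
theorem cd_5_4_1_2 : ptT tabs 8 (wpow (P2 ++ ((R5 ++ E41) ++ (P14 ++ (R5 ++ E41)))) 4) 0 115593 = true := by decide +kernel
theorem cd_5_4_1_4 : ptT tabs 8 (wpow (P4 ++ ((R5 ++ E41) ++ (P9 ++ (R5 ++ E41)))) 4) 0 32964 = true := by decide +kernel
theorem cd_5_5_0_1 : ptT tabs 8 (wpow (P1 ++ ((R5 ++ E50) ++ (P7 ++ (R5 ++ E50)))) 4) 0 75960 = true := by decide +kernel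
theorem cd_5_5_0_2 : ptT tabs 8 (wpow (P2 ++ ((R5 ++ E50) ++ (P14 ++ (R5 ++ E50)))) 4) 0 67059 = true := by decide +kernel
theorem cd_5_5_0_4 : ptT tabs 8 (wpow (P4 ++ ((R5 ++ E50) ++ (P9 ++ (R5 ++ E50)))) 4) 0 106247 = true := by decide +kernel
theorem cd_5_5_1_1 : ptT tabs 8 (wpow (P1 ++ ((R5 ++ E51) ++ (P7 ++ (R5 ++ E51)))) 4) 0 887 = true := by decide +kernel
theorem cd_5_5_1_2 : ptT tabs 8 (wpow (P2 ++ ((R5 ++ E51) ++ (P14 ++ (R5 ++ E51)))) 4) 0 22722 = true := by decide +kernel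
theorem cd_5_5_1_4 : ptT tabs 8 (wpow (P4 ++ ((R5 ++ E51) ++ (P9 ++ (R5 ++ E51)))) 4) 0 647 = true := by decide +kernel
/-- images of the letters -/
noncomputable def Yw (c : ℕ) : List ℕ := nthK [] [[5], [4], [3], [7, 2, 6], [7, 1, 6], [0], [2, 3, 7, 3, 2, 0], [0, 2, 3, 6, 3, 2]] c
theorem Y0_sq : relT tabs 8 ivx [22, 1, 0] (Yw 0 ++ Yw 0) ([]) = true := by decide +kernel
theorem Y1_sq : relT tabs 8 ivx [22, 1, 0] (Yw 1 ++ Yw 1) ([]) = true := by decide +kernel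
theorem Y2_sq : relT tabs 8 ivx [22, 1, 0] (Yw 2 ++ Yw 2) ([]) = true := by decide +kernel
theorem Y3_sq : relT tabs 8 ivx [22, 1, 0] (Yw 3 ++ Yw 3) ([]) = true := by decide +kernel
theorem Y4_sq : relT tabs 8 ivx [22, 1, 0] (Yw 4 ++ Yw 4) ([]) = true := by decide +kernel
theorem Y5_sq : relT tabs 8 ivx [22, 1, 0] (Yw 5 ++ Yw 5) ([]) = true := by decide +kernel
theorem Y_rels : rels.all (fun W => relT tabs 8 ivx [22, 1, 0] ((W.flat ivx).flatMap Yw) []) = true := by decide +kernel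
def ly2 : List ℕ := [0, 8, 9, 18, 21, 38, 39, 52, 53, 57, 124, 133, 138, 139, 171, 187, 199, 202, 222, 230, 262, 270, 274, 304, 334, 354, 373, 377, 382, 390, 427, 428, 449, 453, 461, 506, 511, 520, 526, 559, 568, 571, 588, 654, 674, 676, 691, 704, 716, 720, 727, 773, 778, 811, 819, 925, 934, 959, 997, 1037, 1157, 1182, 1186, 1208, 1221, 1240, 1242, 1244, 1261, 1262, 1427, 1472, 1477, 1516, 1519, 1522, 1559, 1562, 1572, 1578, 1587, 1591, 1615, 1619, 1649, 1681, 1782, 1820, 1855, 1859, 1875, 1879, 1973, 1987, 1997, 2009, 2123, 2167, 2172, 2221, 2226, 2330, 2471, 2712, 2747, 2764, 2767, 2881, 3016, 3160, 3165, 3169, 3279, 3283, 3357, 3361, 3467, 3483, 3492, 3508, 3578, 3731, 3733, 4060, 4066, 4075, 4159, 4197, 4270, 4387, 4419, 4424, 4449, 4463, 4491, 4552, 4609, 4712, 4715, 4808, 4812, 4933, 5005, 5120, 5223, 5330, 5378, 5447,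 5663, 5701, 5748, 5814, 5869, 5938, 5993, 6017, 6077, 6127, 6183, 6187, 6441, 6444, 6447, 6690, 6695, 6698, 6704, 6708, 6966, 7116, 7138, 7930, 8715, 8725, 8754, 8805, 8981, 9011, 9070, 9303, 9307, 9364, 9557, 9604, 9607, 9711, 9712, 9892, 9901, 9903, 10410, 10460, 10489, 10551, 10704, 10864, 10913, 11068, 11114, 11227, 11249, 11373, 11468, 11625, 11722, 11776, 11799, 11863, 11940, 12037, 12159, 12252, 12282, 12337, 12363, 12485, 12600, 12689, 12777, 13271, 13274, 13732, 13740, 13759, 14664, 18047, 18068, 18073, 18133, 18136, 18500, 18640, 18914, 18983, 19010, 19101, 19513, 19602, 19986, 19999, 20127, 21190, 21220, 21276, 21298, 21395, 21582, 21604, 21629, 21646, 21670, 21738, 21776, 21842, 21855, 21894, 21921, 21935, 21970, 22017, 22106, 22135, 22189, 22232, 22260, 22276, 22292, 22315, 22365, 22388, 22463, 22496, 22561, 22574,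 22590, 22614, 22631, 22732, 22943, 22961, 22965, 23119, 23162, 23177, 23510, 23675, 23676, 23772, 23785, 23845, 23907, 23958, 23977, 24161, 24374, 24461, 24616, 24682, 24801, 24838, 24932, 24952, 25057, 25185, 26464, 26616, 27164, 35649, 35691, 35731, 35762, 36341, 37053, 37244, 38038, 38656, 38804, 40790, 40829, 40915, 40927, 41001, 41417, 41428, 41467, 41473, 41588, 41637, 41775, 41861, 41872, 41948, 41949, 41983, 42006, 42081, 42129, 42362, 42481, 42513, 42548, 42579, 42751, 42756, 42762, 42969, 43171, 43546, 44006, 44436, 45398, 45960, 46356, 46694, 46929, 47186, 47549, 51470, 59287, 72757]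
theorem fixY2 : fixOK nets (Yw 2) 17 122760 (bitsK ly2) = true := by decide +kernel
def ly3 : List ℕ := [1, 3, 4, 5, 12, 14, 19, 20, 42, 56, 59, 82, 91, 141, 146, 164, 197, 204, 243, 247, 322, 323, 324, 340, 341, 532, 536, 540, 545, 594, 595, 619, 620, 665, 666, 670, 671, 678, 775, 891, 892, 921, 922, 954, 1034, 1035, 1153, 1154, 1201, 1206, 1207, 1302, 1304, 1316, 1365, 1367, 1413, 1504, 1513, 1663, 1664, 1683, 1806, 1807, 1890, 1891, 1922, 1923, 1940, 1941, 1969, 1970, 2053, 2054, 2059, 2087, 2088, 2116, 2141, 2142, 2144, 2211, 2363, 2365, 2393, 2395, 2534, 2535, 2643, 2645, 2665, 2807, 2808, 2810, 2811, 3048, 3049, 3139, 3445, 3446, 3529, 3530, 3656, 3686, 3690, 3851, 3852, 4029, 4031, 4050, 4096, 4097, 4218, 4219, 4228, 4245, 4246, 4297, 4298, 4301, 4333, 4334, 4340, 4362, 4363, 4540, 4553, 4595, 4656, 4694, 4776, 4778, 4996,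 5200, 5203, 5204, 5208, 5270, 5274, 5558, 5560, 5590, 5792, 5794, 5795, 5799, 6059, 6735, 6736, 7236, 7237, 7323, 7325, 7454, 7456, 7754, 7756, 7824, 7836, 8228, 8644, 8646, 8650, 8773, 8794, 8802, 8848, 8849, 9246, 9433, 9434, 10526, 10528, 10901, 10902, 10905, 10922, 11691, 11694, 11745, 12454, 13072, 13308, 13309, 13481, 13585, 13586, 13799, 13801, 13826, 13830, 14235, 14346, 14545, 14592, 14603, 14643, 14698, 14833, 14912, 15444, 15923, 15924, 16144, 16225, 16978, 18216, 18218, 18221, 19313, 19314, 19319, 19321, 25702, 25704, 26002, 26003, 26207, 26209, 26225, 26380, 26381, 26509, 26510, 26665, 26667, 26680, 26684, 26884, 26885, 26981, 26983, 27001, 27182, 27184, 27198, 27201, 27425, 27603, 27624, 27627, 27628, 27631, 27687, 27695, 28522, 28523, 28527, 28762, 28764, 28779, 29024, 29025, 29069, 29070, 29143, 29144, 29245,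 29246, 29322, 29323, 29327, 29385, 29387, 29397, 29691, 29734, 30351, 30406, 30759, 31754, 32070, 32071, 32113, 32234, 32397, 32438, 35805, 35904, 36172, 37086, 37749, 37815, 41370, 48519, 48520, 48549, 48550, 48608, 48632, 48634, 48841, 49233, 49260, 49316, 49317, 49350, 49352, 49506, 49507, 49568, 49569, 49661, 49717, 49765, 50017, 50019, 50098, 50117, 50119, 50244, 50246, 50461, 50462, 50552, 50588, 50967, 51110, 51476, 51481, 51691, 51730, 51879, 51880, 52178, 52179, 52233, 52243, 52835, 53504, 53505, 53858, 53861, 54313, 54717, 54718, 54937, 54938, 55091, 55092, 55348, 55436, 55441, 57383, 58806, 66530, 82937, 83046, 83360, 83532, 83680, 84092, 84277, 84278, 84323, 84847, 84979, 85032, 86925, 87054]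
theorem fixY3 : fixOK nets (Yw 3) 17 122760 (bitsK ly3) = true := by decide +kernel
theorem fixY : Nat.beq (Nat.land (bitsK ly2) (bitsK ly3)) 0 = true := by decide +kernel
theorem l2_fix : ptT tabs 8 [2] 0 0 = true := by decide +kernel
theorem l3_fix : ptT tabs 8 [3] 0 0 = true := by decide +kernel
theorem y0_mv : ptT tabs 8 (Yw 0) 3 14 = true := by decide +kernel
end Cfsg.Agent.Lib.ONOut79
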