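import Cfsg.Agent.Lib.ONOut79

/-! The outer automorphism group of the O'Nan group has order 2 (helper79). -/

set_option autoImplicit false
set_option maxRecDepth 100000
set_option exponentiation.threshold 500000

namespace Cfsg.Agent.Lib.ONOut79
open Cfsg Cfsg.Spor
open Cfsg.Agent.Lib.BenesPerm Cfsg.Agent.Lib.BenesAct Cfsg.Agent.Lib.BenesWord Cfsg.Agent.Lib.BenesPack
open Cfsg.Agent.Lib.TransLanes Cfsg.Agent.Lib.LaneTools Cfsg.Agent.Lib.LaneOut79
open Cfsg.Agent.Lib.ONRel Cfsg.Agent.Lib.ONWB Cfsg.Agent.Lib.ONWS Cfsg.Agent.Lib.ONWIdx Cfsg.Agent.Lib.ONW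
open Cfsg.Agent.Lib.CoxBridge Cfsg.Agent.Lib.CosetGroup Cfsg.Agent.Lib.CosetInj Cfsg.Agent.Lib.CosetOrder

/-- the group -/
abbrev G : Type := CoxPresented ON.Gen ON.edges ON.extra

/-- the letters -/
noncomputable abbrev x : ℕ → G := C.x L0

theorem tabs_ok : TabsOK nets 17 8 tabs := by
  intro c hc
  interval_cases c
  · exact tb0_ok
  · exact tb1_ok
  · exact tb2_ok
  · exact tb3_ok
  · exact tb4_ok
  · exact tb5_ok
  · exact tb6_ok
  · exact tb7_ok

theorem pt {w : List ℕ} {i j : ℕ} (h : ptT tabs 8 w i j = true) (hi : i < 131072 := by norm_num) : wfn nets w i = j :=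
  ptT_spec (k := 17) c_nets tabs_ok (by norm_num; exact hi) h

theorem gen_topL (P : Subgroup G) (h : ∀ c < 7, x c ∈ P) : P = ⊤ := by
  rw [eq_top_iff, ← C.closure_letters L0, Subgroup.closure_le]
  rintro g ⟨w, hw, rfl⟩
  obtain ⟨c, hc, rfl⟩ := List.mem_map.mp hw
  exact h c (List.mem_range.mp hc)

theorem M0_lt : M0 < 2 ^ 122760 := by decide +kernel
theorem M1_lt : M1 < 2 ^ 122760 := by decide +kernel
theorem M2_lt : M2 < 2 ^ 122760 := by decide +kernel
theorem M3_lt : M3 < 2 ^ 122760 := by decide +kernel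

/-- the setting -/
theorem setting : IsSimpleGroup G ∧ Nat.card G = 460815505920 ∧ ∃ φ : G →* Equiv.Perm ℕ,
    LaneOut79.Ctx x φ nets 17 122760 ivx Ms ∧ Function.Injective φ ∧
    (∀ g, (∀ b ∈ [22, 1, 0], φ g b = b) → g = 1) := by
  obtain ⟨hs, hcard, φ, hφ, hinj, hbase⟩ := Cfsg.Agent.Lib.ONOrd.main
  refine ⟨hs, hcard, φ, ?_, hinj, hbase⟩
  obtain ⟨φ', f, hφ', hf0, heq, hlt, hfinj, horb, hfix, hfsurj, hidx, o0, o1, o2, o3⟩ :=
    Cfsg.Agent.Lib.ONWIdx.main _ rfl
  have he : φ = φ' := by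
    have h1 : φ.eqLocus φ' = ⊤ := gen_topL _ (fun c _ => by
      show φ (x c) = φ' (x c)
      rw [hφ, hφ'])
    refine MonoidHom.ext fun g => ?_
    have : g ∈ φ.eqLocus φ' := by rw [h1]; exact Subgroup.mem_top _
    exact this
  subst he
  refine ⟨c_nets, hφ, x_iv0, by norm_num, by norm_num, hlt, ?_⟩
  intro M hM g hg q hq
  have hgH := mem_of_fix (by norm_num) hf0 heq g hg
  simp only [Ms, List.mem_cons, List.not_mem_nil, or_false] at hM
  rcases hM with rfl | rfl | rfl | rfl
  · exact mask_inv heq hlt hfinj o0.1 (bits_lt M0_lt) hgH hq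
  · exact mask_inv heq hlt hfinj o1.1 (bits_lt M1_lt) hgH hq
  · exact mask_inv heq hlt hfinj o2.1 (bits_lt M2_lt) hgH hq
  · exact mask_inv heq hlt hfinj o3.1 (bits_lt M3_lt) hgH hq

section

variable {φ : G →* Equiv.Perm ℕ} (K : LaneOut79.Ctx x φ nets 17 122760 ivx Ms)
  (hbase : ∀ g, (∀ b ∈ [22, 1, 0], φ g b = b) → g = 1)
include K

theorem φpt {w : List ℕ} {i j : ℕ} (h : ptT tabs 8 w i j = true) (hi : i < 131072 := by norm_num) :
    φ (Wx x w) i = j := by
  rw [K.φ_word]; exact pt h hi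

include hbase in
theorem rl {u v : List ℕ} (h : relT tabs 8 ivx [22, 1, 0] u v = true) : Wx x u = Wx x v :=
  K.eq_of_relT tabs_ok hbase (by
    intro b hb
    simp only [List.mem_cons, List.not_mem_nil, or_false] at hb
    rcases hb with rfl | rfl | rfl <;> norm_num) h

/-- an element commuting with `X` fixes lane 0 -/
theorem fix0 (c : G) (hc : c * Wx x X = Wx x X * c) : φ c 0 = 0 := by
  have h1 : φ (Wx x X) (φ c 0) = φ c 0 := by
    have h2 : φ (Wx x X) 0 = 0 := φpt K X_fix0
    rw [← Equiv.Perm.mul_apply, ← map_mul, ← hc, map_mul, Equiv.Perm.mul_apply, h2]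
  rw [K.φ_word] at h1
  have h2 := (fixOK_spec (i := φ c 0) K.hns K.hn fixX (K.hlt c 0 K.h0)).2 h1
  rw [bitsK_spec, List.mem_singleton] at h2
  exact h2

theorem fixU_mem (l : ℕ) (hl : l < 122760) (h : φ (Wx x U) l = l) : l ∈ [0, 5681, 21633, 44721, 77313, 107390, 114460, 114468, 118434] := by
  rw [K.φ_word] at h
  rw [← bitsK_spec]
  exact (fixOK_spec (i := l) K.hns K.hn fixU hl).2 h

omit K in
theorem mis1_all : ∀ e ∈ (mis1_0 ++ mis1_1 ++ mis1_2 ++ mis1_3 ++ mis1_4 ++ mis1_5 ++ mis1_6 ++ mis1_7 ++ mis1_8 ++ mis1_9), ptT tabs 8 e.1 0 e.2.1 = true ∧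
      ptT tabs 8 (iw ivx t18 ++ (wpow X e.2.2.1 ++ t18)) 0 e.2.2.2.2.1 = true ∧
      ptT tabs 8 (iw ivx e.1 ++ (wpow X e.2.2.1 ++ e.1)) 0 e.2.2.2.2.2 = true ∧
      (bitK (nthK 0 Ms e.2.2.2.1) e.2.2.2.2.1 == bitK (nthK 0 Ms e.2.2.2.1) e.2.2.2.2.2) = false := by
  intro e he
  simp only [List.mem_append] at he
  rcases he with ((((((((he | he) | he) | he) | he) | he) | he) | he) | he) | he
  · exact misT_spec mis1_0_ok e he
  · exact misT_spec mis1_1_ok e he
  · exact misT_spec mis1_2_ok e he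
  · exact misT_spec mis1_3_ok e he
  · exact misT_spec mis1_4_ok e he
  · exact misT_spec mis1_5_ok e he
  · exact misT_spec mis1_6_ok e he
  · exact misT_spec mis1_7_ok e he
  · exact misT_spec mis1_8_ok e he
  · exact misT_spec mis1_9_ok e he

/-- all lanes of `TX` are fixed -/
theorem FxX {c : G} (hc : c * Wx x X = Wx x X * c) (hF : Fx x φ c [t18]) : Fx x φ c TX := by
  refine ⟨hF.1, fun t ht => ?_⟩
  unfold TX at ht
  rcases List.mem_cons.1 ht with rfl | ht
  · exact hF.2 _ (by simp)
  · obtain ⟨e, he, rfl⟩ := List.mem_map.1 ht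
    have h18 : φ c 18 = 18 := by
      have := hF.2 t18 (by simp)
      rwa [φpt K t18_pt] at this
    exact K.chain_fix tabs_ok hc chX 18 (by norm_num) chX_ok h18 e he

include hbase in
/-- the centralizer of `X` -/
theorem centX (c : G) (hc : c * Wx x X = Wx x X * c) : c ∈ Subgroup.zpowers (Wx x X) := by
  refine K.step_cyc (tb := t18) (b := 18) (e := 19) (L := [(0, 0, 2)]) (reps := reps1) (M := M2) (pt t18_pt) bit1 sub1
    cov1 (Subgroup.mem_zpowers _) (φpt K X_fix0) ?_ ?_ c hc (fix0 K c hc)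
  · intro r hr hne c hc hcb
    have h1 := hr
    rw [← bitsK_spec, ← Nat.eq_of_beq_eq_true mis1_cov, bitsK_spec] at h1
    rcases List.mem_cons.1 h1 with h1 | h1
    · exact hne h1
    · obtain ⟨e, he, her⟩ := List.mem_map.1 h1
      obtain ⟨h2, h3, h4, h5⟩ := mis1_all e he
      refine K.excl_mis hc (tb := t18) (tr := e.1) ?_ (pt h3) (pt h4) h5
      rw [K.φ_word, K.φ_word, pt t18_pt, pt h2, hcb, her]
  · intro c hc hF
    have hF' := FxX K hc hF
    have hV : InvM φ 122760 (2 ^ 122760 - 1) c := K.inv_full c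
    have : c = 1 := by
      apply hbase
      intro b hb
      simp only [List.mem_cons, List.not_mem_nil, or_false] at hb
      rcases hb with rfl | rfl | rfl
      · exact K.pinV hV hc hF' pinX_22
      · exact K.pinV hV hc hF' pinX_1
      · exact hF.1
    rw [this]; exact Subgroup.one_mem _

include hbase in
theorem UD_comm : Wx x D * Wx x U = Wx x U * Wx x D := by
  have := rl K hbase relUD
  rw [Wx_append, Wx_append] at this
  exact this.symm

include hbase in
theorem U_pow : Wx x U ^ 6 = 1 := by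
  rw [← Wx_wpow]; exact rl K hbase relU6

include hbase in
theorem D_sq : Wx x D ^ 2 = 1 := by
  have := rl K hbase relD2
  rwa [Wx_append, ← pow_two] at this

include hbase in
theorem X_pow : Wx x X ^ 19 = 1 := by
  rw [← Wx_wpow]; exact rl K hbase relX19

/-- the abelian group `⟨U, D⟩` -/
def KE : Subgroup G := Subgroup.closure {Wx x U, Wx x D}

include hbase in
theorem mem_KE {c : G} (hc : c ∈ KE) : ∃ i < 6, ∃ j < 2, c = Wx x U ^ i * Wx x D ^ j := by
  have hcomm : Commute (Wx x D) (Wx x U) := UD_comm K hbase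
  have h1 : ∃ i j : ℕ, c = Wx x U ^ i * Wx x D ^ j := by
    unfold KE at hc
    induction hc using Subgroup.closure_induction with
    | mem y hy =>
      rcases hy with rfl | hy
      · exact ⟨1, 0, by simp⟩
      · exact ⟨0, 1, by rw [Set.mem_singleton_iff.1 hy]; simp⟩
    | one => exact ⟨0, 0, by simp⟩
    | mul a b _ _ ha hb =>
      obtain ⟨i, j, rfl⟩ := ha
      obtain ⟨i', j', rfl⟩ := hb
      refine ⟨i + i', j + j', ?_⟩
      have h2 : Wx x D ^ j * Wx x U ^ i' = Wx x U ^ i' * Wx x D ^ j := (hcomm.pow_pow j i').eq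
      calc Wx x U ^ i * Wx x D ^ j * (Wx x U ^ i' * Wx x D ^ j') =
          Wx x U ^ i * (Wx x D ^ j * Wx x U ^ i') * Wx x D ^ j' := by simp only [mul_assoc]
        _ = _ := by rw [h2, pow_add, pow_add]; simp only [mul_assoc]
    | inv a _ ha =>
      obtain ⟨i, j, rfl⟩ := ha
      refine ⟨5 * i, 5 * j, ?_⟩
      have h2 : Commute (Wx x U ^ i) (Wx x D ^ j) := (hcomm.symm.pow_pow i j)
      have h3 : (Wx x U ^ i * Wx x D ^ j) ^ 6 = 1 := by
        rw [h2.mul_pow, ← pow_mul, ← pow_mul, mul_comm i 6, mul_comm j 6, pow_mul, U_pow K hbase, one_pow,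
          show 6 * j = 2 * (3 * j) by ring, pow_mul, D_sq K hbase, one_pow, mul_one]
      rw [inv_eq_iff_mul_eq_one]
      calc Wx x U ^ i * Wx x D ^ j * (Wx x U ^ (5 * i) * Wx x D ^ (5 * j))
          = (Wx x U ^ i * Wx x D ^ j) * (Wx x U ^ i * Wx x D ^ j) ^ 5 := by
            rw [h2.mul_pow, ← pow_mul, ← pow_mul, mul_comm i 5, mul_comm j 5]
        _ = 1 := by rw [← pow_succ', h3]
  obtain ⟨i, j, rfl⟩ := h1
  refine ⟨i % 6, Nat.mod_lt _ (by norm_num), j % 2, Nat.mod_lt _ (by norm_num), ?_⟩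
  rw [← pow_eq_pow_mod i (U_pow K hbase), ← pow_eq_pow_mod j (D_sq K hbase)]

omit K in
theorem U_mem : Wx x U ∈ KE := Subgroup.subset_closure (by simp)
omit K in
theorem D_mem : Wx x D ∈ KE := Subgroup.subset_closure (by simp)

include hbase in
theorem E_ok (i j : ℕ) : Wx x U ^ i * Wx x D ^ j ∈ KE ∧
    (Wx x U ^ i * Wx x D ^ j) * Wx x U = Wx x U * (Wx x U ^ i * Wx x D ^ j) ∧
    φ (Wx x U ^ i * Wx x D ^ j) 0 = 0 := by
  have hcomm : Commute (Wx x D) (Wx x U) := UD_comm K hbase
  refine ⟨KE.mul_mem (KE.pow_mem U_mem i) (KE.pow_mem D_mem j), ?_, ?_⟩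
  · exact (((Commute.refl (Wx x U)).pow_left i).mul_left (hcomm.pow_left j)).eq
  · rw [map_mul, Equiv.Perm.mul_apply, map_pow, map_pow, Function.IsFixedPt.perm_pow (φpt K D_fix0) j]
    exact Function.IsFixedPt.perm_pow (φpt K U_fix0) i

include hbase in
theorem eE00 : Wx x E00 = Wx x U ^ 0 * Wx x D ^ 0 := by
  rw [rl K hbase relE00, Wx_append, Wx_wpow, Wx_wpow]

include hbase in
theorem eE01 : Wx x E01 = Wx x U ^ 0 * Wx x D ^ 1 := by
  rw [rl K hbase relE01, Wx_append, Wx_wpow, Wx_wpow]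

include hbase in
theorem eE10 : Wx x E10 = Wx x U ^ 1 * Wx x D ^ 0 := by
  rw [rl K hbase relE10, Wx_append, Wx_wpow, Wx_wpow]

include hbase in
theorem eE11 : Wx x E11 = Wx x U ^ 1 * Wx x D ^ 1 := by
  rw [rl K hbase relE11, Wx_append, Wx_wpow, Wx_wpow]

include hbase in
theorem eE20 : Wx x E20 = Wx x U ^ 2 * Wx x D ^ 0 := by
  rw [rl K hbase relE20, Wx_append, Wx_wpow, Wx_wpow]

include hbase in
theorem eE21 : Wx x E21 = Wx x U ^ 2 * Wx x D ^ 1 := by
  rw [rl K hbase relE21, Wx_append, Wx_wpow, Wx_wpow]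

include hbase in
theorem eE30 : Wx x E30 = Wx x U ^ 3 * Wx x D ^ 0 := by
  rw [rl K hbase relE30, Wx_append, Wx_wpow, Wx_wpow]

include hbase in
theorem eE31 : Wx x E31 = Wx x U ^ 3 * Wx x D ^ 1 := by
  rw [rl K hbase relE31, Wx_append, Wx_wpow, Wx_wpow]

include hbase in
theorem eE40 : Wx x E40 = Wx x U ^ 4 * Wx x D ^ 0 := by
  rw [rl K hbase relE40, Wx_append, Wx_wpow, Wx_wpow]

include hbase in
theorem eE41 : Wx x E41 = Wx x U ^ 4 * Wx x D ^ 1 := by
  rw [rl K hbase relE41, Wx_append, Wx_wpow, Wx_wpow]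

include hbase in
theorem eE50 : Wx x E50 = Wx x U ^ 5 * Wx x D ^ 0 := by
  rw [rl K hbase relE50, Wx_append, Wx_wpow, Wx_wpow]

include hbase in
theorem eE51 : Wx x E51 = Wx x U ^ 5 * Wx x D ^ 1 := by
  rw [rl K hbase relE51, Wx_append, Wx_wpow, Wx_wpow]


omit K in
theorem chain_pt {S : List ℕ} (L : List (List ℕ × ℕ)) :
    ∀ b, chainT tabs 8 S L b = true → ∀ e ∈ L, ptT tabs 8 e.1 0 e.2 = true := by
  induction L with
  | nil => intro b _ e he; exact absurd he (by simp)
  | cons d L ih =>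
    intro b h e he
    change bandK (bandK (ptT tabs 8 S b d.2) (ptT tabs 8 d.1 0 d.2)) (chainT tabs 8 S L d.2) = true at h
    rw [bandK_eq_true, bandK_eq_true] at h
    rcases List.mem_cons.1 he with rfl | he
    · exact h.1.2
    · exact ih _ h.2 e he

/-- last part of the centralizer of `U` -/
theorem FxU2 {c : G} (hc : c * Wx x U = Wx x U * c) (hF : Fx x φ c TU1) (h : φ c 25759 = 25759) : Fx x φ c TU2 := by
  refine ⟨hF.1, fun t ht => ?_⟩
  unfold TU2 at ht
  rcases List.mem_append.1 ht with ht | ht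
  · exact hF.2 _ ht
  · rcases List.mem_cons.1 ht with rfl | ht
    · rw [φpt K t25759_pt, h]
    · obtain ⟨e, he, rfl⟩ := List.mem_map.1 ht
      exact K.chain_fix tabs_ok hc ch2 25759 (by norm_num) ch2_ok h e he

include hbase in
theorem centU_end (c : G) (hc : c * Wx x U = Wx x U * c) (hF : Fx x φ c TU2) : c = 1 := by
  have hV : InvM φ 122760 (2 ^ 122760 - 1) c := K.inv_full c
  have h3129 : φ c 3129 = 3129 := K.pinV hV hc hF pin3
  have hF3 : Fx x φ c TU3 := by
    refine ⟨hF.1, fun t ht => ?_⟩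
    unfold TU3 at ht
    rcases List.mem_append.1 ht with ht | ht
    · exact hF.2 _ ht
    · rcases List.mem_cons.1 ht with rfl | ht
      · rw [φpt K t3129_pt, h3129]
      · obtain ⟨e, he, rfl⟩ := List.mem_map.1 ht
        exact K.chain_fix tabs_ok hc ch3 3129 (by norm_num) ch3_ok h3129 e he
  have h1 : φ c 1 = 1 := K.pinV hV hc hF3 pinU_1
  have hF4 : Fx x φ c TU4 := by
    refine ⟨hF.1, fun t ht => ?_⟩
    unfold TU4 at ht
    rcases List.mem_append.1 ht with ht | ht
    · exact hF3.2 _ ht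
    · rw [List.mem_singleton.1 ht, φpt K t1_pt, h1]
  apply hbase
  intro b hb
  simp only [List.mem_cons, List.not_mem_nil, or_false] at hb
  rcases hb with rfl | rfl | rfl
  · exact K.pinV hV hc hF4 pinU_22
  · exact h1
  · exact hF.1

include hbase in
theorem centU_2 (c : G) (hc : c * Wx x U = Wx x U * c) (hF : Fx x φ c TU1) : c ∈ KE := by
  have hT3 : Wx x T3 = Wx x U ^ 3 := by rw [rl K hbase relT3, Wx_wpow]
  have hV : InvM φ 122760 (bitsK l3) c := by
    apply K.inv_fix fixT3
    · intro q hq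
      have := List.all_eq_true.1 l3_lt q hq
      simpa using this
    · rw [hT3]; exact ((show Commute c (Wx x U) from hc).pow_right 3).eq
  refine K.step_listV (V := bitsK l3) (S := U) (K := KE) (Ts := TU1) (b := 25759) A2_eq (by simp) ?_ hV ?_ hc hF
  · intro q hq
    have hFxE : ∀ (w : G), φ w 0 = 0 → φ w 12814 = 12814 → φ w 82184 = 82184 → Fx x φ w TU1 := by
      intro w h0 h1 h2
      refine ⟨h0, fun t ht => ?_⟩
      unfold TU1 at ht
      rcases List.mem_cons.1 ht with rfl | ht
      · rw [φpt K t12814_pt, h1]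
      · obtain ⟨e, he, rfl⟩ := List.mem_map.1 ht
        have h3 := φpt K (chain_pt ch1 12814 ch1_ok e he)
        have h4 : e.2 = 82184 := by
          have he' := he
          simp only [ch1, List.mem_singleton] at he'
          rw [he']
        rw [h3, h4, h2]
    simp only [List.mem_cons, List.not_mem_nil, or_false] at hq
    rcases hq with rfl | rfl | rfl | rfl | rfl
    · left; rfl
    · right; right
      intro c hc hF hcb
      have h1 : (44721 : ℕ) ∈ misU2.map (fun e => e.2.1) := by simp [misU2]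
      obtain ⟨e, he, her⟩ := List.mem_map.1 h1
      obtain ⟨h2, h3, h4, h5⟩ := misT_spec misU2_ok e he
      refine K.excl_mis hc (tb := t25759) (tr := e.1) ?_ (pt h3) (pt h4) h5
      rw [K.φ_word, K.φ_word, pt t25759_pt, pt h2, hcb, her]
    · right; left
      obtain ⟨h1, h2, h3⟩ := E_ok K hbase 2 0
      refine ⟨_, h1, h2, hFxE _ h3 ?_ ?_, ?_⟩
      · rw [← eE20 K hbase]; exact φpt K f_20_12814
      · rw [← eE20 K hbase]; exact φpt K f_20_82184
      · rw [← eE20 K hbase]; exact φpt K c2_78151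
    · right; left
      obtain ⟨h1, h2, h3⟩ := E_ok K hbase 4 0
      refine ⟨_, h1, h2, hFxE _ h3 ?_ ?_, ?_⟩
      · rw [← eE40 K hbase]; exact φpt K f_40_12814
      · rw [← eE40 K hbase]; exact φpt K f_40_82184
      · rw [← eE40 K hbase]; exact φpt K c2_113567
    · right; right
      intro c hc hF hcb
      have h1 : (114468 : ℕ) ∈ misU2.map (fun e => e.2.1) := by simp [misU2]
      obtain ⟨e, he, her⟩ := List.mem_map.1 h1
      obtain ⟨h2, h3, h4, h5⟩ := misT_spec misU2_ok e he
      refine K.excl_mis hc (tb := t25759) (tr := e.1) ?_ (pt h3) (pt h4) h5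
      rw [K.φ_word, K.φ_word, pt t25759_pt, pt h2, hcb, her]
  · intro c hc hF h
    rw [centU_end K hbase c hc (FxU2 K hc hF h)]
    exact Subgroup.one_mem _

include hbase in
/-- the centralizer of `U` in the stabilizer of lane 0 -/
theorem centU (c : G) (hc : c * Wx x U = Wx x U * c) (hc0 : φ c 0 = 0) : c ∈ KE := by
  have hT2 : Wx x T2 = Wx x U ^ 2 := by rw [rl K hbase relT2, Wx_wpow]
  have hV : InvM φ 122760 (bitsK l2) c := by
    apply K.inv_fix fixT2
    · intro q hq
      have := List.all_eq_true.1 l2_lt q hq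
      simpa using this
    · rw [hT2]; exact ((show Commute c (Wx x U) from hc).pow_right 2).eq
  refine K.step_listV (V := bitsK l2) (S := U) (K := KE) (Ts := []) (b := 12814) A1_eq (by simp) ?_ hV ?_ hc
    ⟨hc0, by simp⟩
  · intro q hq
    simp only [List.mem_cons, List.not_mem_nil, or_false] at hq
    rcases hq with rfl | rfl | rfl | rfl | rfl | rfl
    · left; rfl
    · right; left
      obtain ⟨h1, h2, h3⟩ := E_ok K hbase 1 1
      refine ⟨_, h1, h2, ⟨h3, by simp⟩, ?_⟩
      rw [← eE11 K hbase]; exact φpt K c1_34281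
    · right; right
      intro c hc hF hcb
      have h1 : (44721 : ℕ) ∈ misU1.map (fun e => e.2.1) := by simp [misU1]
      obtain ⟨e, he, her⟩ := List.mem_map.1 h1
      obtain ⟨h2, h3, h4, h5⟩ := misT_spec misU1_ok e he
      refine K.excl_mis hc (tb := t12814) (tr := e.1) ?_ (pt h3) (pt h4) h5
      rw [K.φ_word, K.φ_word, pt t12814_pt, pt h2, hcb, her]
    · right; left
      obtain ⟨h1, h2, h3⟩ := E_ok K hbase 1 0
      refine ⟨_, h1, h2, ⟨h3, by simp⟩, ?_⟩
      rw [← eE10 K hbase]; exact φpt K c1_82184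
    · right; left
      obtain ⟨h1, h2, h3⟩ := E_ok K hbase 0 1
      refine ⟨_, h1, h2, ⟨h3, by simp⟩, ?_⟩
      rw [← eE01 K hbase]; exact φpt K c1_107806
    · right; right
      intro c hc hF hcb
      have h1 : (114468 : ℕ) ∈ misU1.map (fun e => e.2.1) := by simp [misU1]
      obtain ⟨e, he, her⟩ := List.mem_map.1 h1
      obtain ⟨h2, h3, h4, h5⟩ := misT_spec misU1_ok e he
      refine K.excl_mis hc (tb := t12814) (tr := e.1) ?_ (pt h3) (pt h4) h5
      rw [K.φ_word, K.φ_word, pt t12814_pt, pt h2, hcb, her]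
  · intro c hc hF h
    apply centU_2 K hbase c hc
    refine ⟨hF.1, fun t ht => ?_⟩
    unfold TU1 at ht
    rcases List.mem_cons.1 ht with rfl | ht
    · rw [φpt K t12814_pt, h]
    · obtain ⟨e, he, rfl⟩ := List.mem_map.1 ht
      exact K.chain_fix tabs_ok hc ch1 12814 (by norm_num) ch1_ok h e he

include hbase in
/-- a subgroup containing `X`, `U` and `W` is everything -/
theorem top_of (P : Subgroup G) (hX : Wx x X ∈ P) (hU : Wx x U ∈ P) (hW : Wx x W ∈ P) : P = ⊤ := by
  have key : ∀ p : List ℕ, Wx x (flatK mvs p) ∈ P := by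
    intro p
    induction p with
    | nil => exact P.one_mem
    | cons i p ih =>
      rw [flatK_cons, Wx_append]
      refine P.mul_mem ?_ ih
      rcases nthK_mem [] mvs i with h | h
      · rw [h]; exact P.one_mem
      · generalize nthK [] mvs i = v at h ⊢
        simp only [mvs, List.mem_cons, List.not_mem_nil, or_false] at h
        rcases h with h | h | h | h | h
        · rw [h]; exact hX
        · rw [h, Wx_iw K.hiv]; exact P.inv_mem hX
        · rw [h]; exact hU
        · rw [h, Wx_iw K.hiv]; exact P.inv_mem hU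
        · rw [h]; exact hW
  have hs : ∀ c, Wx x [c] = x c := fun c => by simp [Wx]
  have h1 : ∀ (c : ℕ) (s : List ℕ), relT tabs 8 ivx [22, 1, 0] (flatK mvs s) [c] = true → x c ∈ P := by
    intro c s h
    have h2 := rl K hbase h
    rw [← hs c, ← h2]
    exact key s
  have ha : x 0 ∈ P := h1 0 _ s0_ok
  have hf : x 5 ∈ P := h1 5 _ s5_ok
  have hg : x 6 ∈ P := h1 6 _ s6_ok
  have hup : ∀ c d, relT tabs 8 ivx [22, 1, 0] (X ++ [c]) ([d] ++ X) = true → Wx x X * x c = x d * Wx x X := by
    intro c d h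
    have h2 := rl K hbase h
    rwa [Wx_append, Wx_append, hs, hs] at h2
  have hb : x 1 ∈ P := by
    have h2 : x 1 = Wx x X * x 0 * (Wx x X)⁻¹ := by rw [hup 0 1 relab]; group
    rw [h2]; exact P.mul_mem (P.mul_mem hX ha) (P.inv_mem hX)
  have hc : x 2 ∈ P := by
    have h2 : x 2 = Wx x X * x 1 * (Wx x X)⁻¹ := by rw [hup 1 2 relbc]; group
    rw [h2]; exact P.mul_mem (P.mul_mem hX hb) (P.inv_mem hX)
  have he : x 4 ∈ P := by
    have h2 : x 4 = (Wx x X)⁻¹ * x 5 * Wx x X := by rw [mul_assoc, ← hup 4 5 relef]; group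
    rw [h2]; exact P.mul_mem (P.mul_mem (P.inv_mem hX) hf) hX
  have hd : x 3 ∈ P := by
    have h2 : x 3 = (Wx x X)⁻¹ * x 4 * Wx x X := by rw [mul_assoc, ← hup 3 4 relde]; group
    rw [h2]; exact P.mul_mem (P.mul_mem (P.inv_mem hX) he) hX
  apply gen_topL
  intro c hc'
  interval_cases c
  · exact ha
  · exact hb
  · exact hc
  · exact hd
  · exact he
  · exact hf
  · exact hg

/-- exclusion of a candidate through a power -/
theorem cand_ne {w : List ℕ} {m y z : ℕ} (h : ptT tabs 8 (wpow w m) y z = true) (hy : y < 131072) (hyz : y ≠ z)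
    (h1 : Wx x w ^ m = 1) : False := by
  apply hyz
  have h2 := φpt K h hy
  rw [Wx_wpow, h1, map_one] at h2
  exact h2

include hbase in
/-- elements inverting `U` -/
theorem invU_cases {R : List ℕ} {q : ℕ} (hR : relT tabs 8 ivx [22, 1, 0] (R ++ U) (iw ivx U ++ R) = true)
    (hRq : ptT tabs 8 R 0 q = true) {c : G} (hcU : c * Wx x U * c⁻¹ = (Wx x U)⁻¹) (hq : φ c 0 = q) :
    ∃ i < 6, ∃ j < 2, c = Wx x R * (Wx x U ^ i * Wx x D ^ j) := by
  have hRU : Wx x R * Wx x U = (Wx x U)⁻¹ * Wx x R := by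
    have := rl K hbase hR
    rwa [Wx_append, Wx_append, Wx_iw K.hiv] at this
  have hR0 : φ (Wx x R) 0 = q := φpt K hRq
  have h1 : ((Wx x R)⁻¹ * c) * Wx x U = Wx x U * ((Wx x R)⁻¹ * c) := by
    have h2 : c * Wx x U = (Wx x U)⁻¹ * c := by rw [← hcU]; group
    have h3 : (Wx x R)⁻¹ * (Wx x U)⁻¹ = Wx x U * (Wx x R)⁻¹ := by
      have h4 : (Wx x U)⁻¹ = Wx x R * Wx x U * (Wx x R)⁻¹ := by rw [hRU]; group
      rw [h4]; group
    rw [mul_assoc, h2, ← mul_assoc, h3, mul_assoc]
  have h2 : φ ((Wx x R)⁻¹ * c) 0 = 0 := by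
    rw [map_mul, Equiv.Perm.mul_apply, hq, ← hR0, ← Equiv.Perm.mul_apply, ← map_mul, inv_mul_cancel, map_one]
    rfl
  obtain ⟨i, hi, j, hj, hij⟩ := mem_KE K hbase (centU K hbase _ h1 h2)
  exact ⟨i, hi, j, hj, by rw [← hij, mul_inv_cancel_left]⟩

include hbase in
/-- lanes excluded by counting -/
theorem pop_excl {c : G} (hcU : c * Wx x U * c⁻¹ = (Wx x U)⁻¹) {t : List ℕ} {q : ℕ} (ht : ptT tabs 8 t 0 q = true)
    (hp : popK 17 (walkK nets (iw ivx t) M3 (fun R => Nat.land (bitsK l3) R)) = 16) (hq : φ c 0 = q) : False := by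
  have hT3 : Wx x T3 = Wx x U ^ 3 := by rw [rl K hbase relT3, Wx_wpow]
  have hcT : c * Wx x T3 = Wx x T3 * c := by
    have h1 : c * Wx x U ^ 3 * c⁻¹ = (Wx x U ^ 3)⁻¹ := by
      rw [← conj_pow, hcU, inv_pow]
    have h2 : (Wx x U ^ 3)⁻¹ = Wx x U ^ 3 := by
      rw [inv_eq_iff_mul_eq_one, ← pow_add]; exact U_pow K hbase
    rw [hT3]
    calc c * Wx x U ^ 3 = (c * Wx x U ^ 3 * c⁻¹) * c := by group
      _ = _ := by rw [h1, h2]
  have hV : InvM φ 122760 (bitsK l3) c := by
    apply K.inv_fix fixT3 _ hcT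
    intro q hq
    have := List.all_eq_true.1 l3_lt q hq
    simpa using this
  have hlt : ∀ l : ℕ, Nat.land (bitsK l3) l < 2 ^ 2 ^ 17 := by
    intro l
    have h1 : Nat.land (bitsK l3) l ≤ bitsK l3 := Nat.and_le_left
    refine lt_of_le_of_lt h1 ?_
    have h2 : bitsK l3 < 2 ^ 122760 := by decide +kernel
    exact lt_of_lt_of_le h2 (Nat.pow_le_pow_right (by norm_num) (by norm_num))
  have hw : walkK nets (iw ivx t) M3 (fun R => Nat.land (bitsK l3) R) = Nat.land (bitsK l3) (appW nets (iw ivx t) M3) := by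
    rw [walkK_eq]
  rw [hw] at hp
  refine K.excl_pop (c := c) (hlt M3) (hlt _) ?_ popA hp (by norm_num)
  intro l hl
  have e1 : ∀ a b : ℕ, Nat.land a b = a &&& b := fun a b => rfl
  rw [e1, Nat.testBit_and, Bool.and_eq_true] at hl ⊢
  obtain ⟨h1, h2⟩ := hl
  obtain ⟨h3, h4⟩ := hV l h1
  refine ⟨h4, ?_⟩
  rw [testBit_appW (hok K.hns), ← K.φ_iw]
  have h5 := K.col_move (a := 1) (b := Wx x t) (g := c) (by
    rw [map_one, φpt K ht]; exact hq) h3 3
  have h6 : (nthK 0 Ms 3) = M3 := rfl
  rw [h6] at h5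
  rw [h5, inv_one, map_one]
  exact h2

include hbase in
/-- candidates, exponent 1 -/
theorem cases_1 {c : G} (hcU : c * Wx x U * c⁻¹ = (Wx x U)⁻¹) (h2 : c * c = 1)
    (hA : (Wx x X ^ 1 * (c * (Wx x X ^ (1 * 7) * c))) ^ 4 = 1) (hB : (Wx x X ^ 1 * c) ^ 15 = 1) : c = Wx x W ∨ c = Wx x (R3 ++ E50) := by
  have hU0 : φ (Wx x U) 0 = 0 := φpt K U_fix0
  have hUcU : Wx x U * (c * Wx x U) = c := by
    have h2 : c * Wx x U = (Wx x U)⁻¹ * c := by rw [← hcU]; group
    rw [h2, mul_inv_cancel_left]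
  have hfix : φ (Wx x U) (φ c 0) = φ c 0 := by
    have h := congrArg (fun g => φ g 0) hUcU
    simp only [map_mul, Equiv.Perm.mul_apply, hU0] at h
    exact h
  have hPa : Wx x P1 = Wx x X ^ 1 := by rw [rl K hbase relP1, Wx_wpow]
  have hPb : Wx x P7 = Wx x X ^ (1 * 7) := by rw [rl K hbase relP7, Wx_wpow]
  have kA : ∀ {cw : List ℕ}, c = Wx x cw → Wx x (P1 ++ (cw ++ (P7 ++ cw))) ^ 4 = 1 := by
    intro cw h
    rw [Wx_append, Wx_append, Wx_append, hPa, hPb, ← h, hA]
  have kB : ∀ {cw : List ℕ}, c = Wx x cw → Wx x (P1 ++ cw) ^ 15 = 1 := by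
    intro cw h
    rw [Wx_append, hPa, ← h, hB]
  have kC : ∀ {cw : List ℕ}, c = Wx x cw → Wx x cw ^ 2 = 1 := by
    intro cw h
    rw [← h, pow_two, h2]
  have hm := fixU_mem K _ (K.hlt c 0 (by norm_num)) hfix
  simp only [List.mem_cons, List.not_mem_nil, or_false] at hm
  rcases hm with h | h | h | h | h | h | h | h | h
  · obtain ⟨i, hi, j, hj, hij⟩ := invU_cases K hbase relR0 R0_pt hcU h
    interval_cases j <;> interval_cases i
    · exact (cand_ne K cd_0_0_0_1 (by norm_num) (by norm_num) (kA (by rw [Wx_append, eE00 K hbase]; exact hij))).elim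
    · exact (cand_ne K cd_0_1_0_1 (by norm_num) (by norm_num) (kA (by rw [Wx_append, eE10 K hbase]; exact hij))).elim
    · exact (cand_ne K cd_0_2_0_1 (by norm_num) (by norm_num) (kA (by rw [Wx_append, eE20 K hbase]; exact hij))).elim
    · exact (cand_ne K cd_0_3_0_1 (by norm_num) (by norm_num) (kB (by rw [Wx_append, eE30 K hbase]; exact hij))).elim
    · exact (cand_ne K cd_0_4_0_1 (by norm_num) (by norm_num) (kA (by rw [Wx_append, eE40 K hbase]; exact hij))).elim
    · exact (cand_ne K cd_0_5_0_1 (by norm_num) (by norm_num) (kA (by rw [Wx_append, eE50 K hbase]; exact hij))).elim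
    · exact (cand_ne K cd_0_0_1_1 (by norm_num) (by norm_num) (kA (by rw [Wx_append, eE01 K hbase]; exact hij))).elim
    · exact (cand_ne K cd_0_1_1_1 (by norm_num) (by norm_num) (kA (by rw [Wx_append, eE11 K hbase]; exact hij))).elim
    · exact (cand_ne K cd_0_2_1_1 (by norm_num) (by norm_num) (kA (by rw [Wx_append, eE21 K hbase]; exact hij))).elim
    · exact (cand_ne K cd_0_3_1_1 (by norm_num) (by norm_num) (kB (by rw [Wx_append, eE31 K hbase]; exact hij))).elim
    · exact (cand_ne K cd_0_4_1_1 (by norm_num) (by norm_num) (kA (by rw [Wx_append, eE41 K hbase]; exact hij))).elim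
    · exact (cand_ne K cd_0_5_1_1 (by norm_num) (by norm_num) (kA (by rw [Wx_append, eE51 K hbase]; exact hij))).elim
  · obtain ⟨i, hi, j, hj, hij⟩ := invU_cases K hbase relR1 R1_pt hcU h
    interval_cases j <;> interval_cases i
    · left; rw [hij, pow_zero, pow_zero, mul_one, mul_one]; rfl
    · exact (cand_ne K cd_1_1_0_1 (by norm_num) (by norm_num) (kA (by rw [Wx_append, eE10 K hbase]; exact hij))).elim
    · exact (cand_ne K cd_1_2_0_1 (by norm_num) (by norm_num) (kA (by rw [Wx_append, eE20 K hbase]; exact hij))).elim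
    · exact (cand_ne K cd_1_3_0_1 (by norm_num) (by norm_num) (kA (by rw [Wx_append, eE30 K hbase]; exact hij))).elim
    · exact (cand_ne K cd_1_4_0_1 (by norm_num) (by norm_num) (kA (by rw [Wx_append, eE40 K hbase]; exact hij))).elim
    · exact (cand_ne K cd_1_5_0_1 (by norm_num) (by norm_num) (kA (by rw [Wx_append, eE50 K hbase]; exact hij))).elim
    · exact (cand_ne K cd_1_0_1_1 (by norm_num) (by norm_num) (kC (by rw [Wx_append, eE01 K hbase]; exact hij))).elim
    · exact (cand_ne K cd_1_1_1_1 (by norm_num) (by norm_num) (kC (by rw [Wx_append, eE11 K hbase]; exact hij))).elim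
    · exact (cand_ne K cd_1_2_1_1 (by norm_num) (by norm_num) (kC (by rw [Wx_append, eE21 K hbase]; exact hij))).elim
    · exact (cand_ne K cd_1_3_1_1 (by norm_num) (by norm_num) (kC (by rw [Wx_append, eE31 K hbase]; exact hij))).elim
    · exact (cand_ne K cd_1_4_1_1 (by norm_num) (by norm_num) (kC (by rw [Wx_append, eE41 K hbase]; exact hij))).elim
    · exact (cand_ne K cd_1_5_1_1 (by norm_num) (by norm_num) (kC (by rw [Wx_append, eE51 K hbase]; exact hij))).elim
  · exact (pop_excl K hbase hcU t21633_pt pop21633 h).elim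
  · exact (pop_excl K hbase hcU t44721_pt pop44721 h).elim
  · obtain ⟨i, hi, j, hj, hij⟩ := invU_cases K hbase relR2 R2_pt hcU h
    interval_cases j <;> interval_cases i
    · exact (cand_ne K cd_2_0_0_1 (by norm_num) (by norm_num) (kA (by rw [Wx_append, eE00 K hbase]; exact hij))).elim
    · exact (cand_ne K cd_2_1_0_1 (by norm_num) (by norm_num) (kA (by rw [Wx_append, eE10 K hbase]; exact hij))).elim
    · exact (cand_ne K cd_2_2_0_1 (by norm_num) (by norm_num) (kA (by rw [Wx_append, eE20 K hbase]; exact hij))).elim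
    · exact (cand_ne K cd_2_3_0_1 (by norm_num) (by norm_num) (kB (by rw [Wx_append, eE30 K hbase]; exact hij))).elim
    · exact (cand_ne K cd_2_4_0_1 (by norm_num) (by norm_num) (kA (by rw [Wx_append, eE40 K hbase]; exact hij))).elim
    · exact (cand_ne K cd_2_5_0_1 (by norm_num) (by norm_num) (kA (by rw [Wx_append, eE50 K hbase]; exact hij))).elim
    · exact (cand_ne K cd_2_0_1_1 (by norm_num) (by norm_num) (kC (by rw [Wx_append, eE01 K hbase]; exact hij))).elim
    · exact (cand_ne K cd_2_1_1_1 (by norm_num) (by norm_num) (kC (by rw [Wx_append, eE11 K hbase]; exact hij))).elim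
    · exact (cand_ne K cd_2_2_1_1 (by norm_num) (by norm_num) (kC (by rw [Wx_append, eE21 K hbase]; exact hij))).elim
    · exact (cand_ne K cd_2_3_1_1 (by norm_num) (by norm_num) (kC (by rw [Wx_append, eE31 K hbase]; exact hij))).elim
    · exact (cand_ne K cd_2_4_1_1 (by norm_num) (by norm_num) (kC (by rw [Wx_append, eE41 K hbase]; exact hij))).elim
    · exact (cand_ne K cd_2_5_1_1 (by norm_num) (by norm_num) (kC (by rw [Wx_append, eE51 K hbase]; exact hij))).elim
  · exact (pop_excl K hbase hcU t107390_pt pop107390 h).elim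
  · obtain ⟨i, hi, j, hj, hij⟩ := invU_cases K hbase relR3 R3_pt hcU h
    interval_cases j <;> interval_cases i
    · exact (cand_ne K cd_3_0_0_1 (by norm_num) (by norm_num) (kA (by rw [Wx_append, eE00 K hbase]; exact hij))).elim
    · exact (cand_ne K cd_3_1_0_1 (by norm_num) (by norm_num) (kA (by rw [Wx_append, eE10 K hbase]; exact hij))).elim
    · exact (cand_ne K cd_3_2_0_1 (by norm_num) (by norm_num) (kA (by rw [Wx_append, eE20 K hbase]; exact hij))).elim
    · exact (cand_ne K cd_3_3_0_1 (by norm_num) (by norm_num) (kA (by rw [Wx_append, eE30 K hbase]; exact hij))).elim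
    · exact (cand_ne K cd_3_4_0_1 (by norm_num) (by norm_num) (kA (by rw [Wx_append, eE40 K hbase]; exact hij))).elim
    · right; rw [Wx_append, eE50 K hbase]; exact hij
    · exact (cand_ne K cd_3_0_1_1 (by norm_num) (by norm_num) (kA (by rw [Wx_append, eE01 K hbase]; exact hij))).elim
    · exact (cand_ne K cd_3_1_1_1 (by norm_num) (by norm_num) (kA (by rw [Wx_append, eE11 K hbase]; exact hij))).elim
    · exact (cand_ne K cd_3_2_1_1 (by norm_num) (by norm_num) (kA (by rw [Wx_append, eE21 K hbase]; exact hij))).elim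
    · exact (cand_ne K cd_3_3_1_1 (by norm_num) (by norm_num) (kA (by rw [Wx_append, eE31 K hbase]; exact hij))).elim
    · exact (cand_ne K cd_3_4_1_1 (by norm_num) (by norm_num) (kA (by rw [Wx_append, eE41 K hbase]; exact hij))).elim
    · exact (cand_ne K cd_3_5_1_1 (by norm_num) (by norm_num) (kA (by rw [Wx_append, eE51 K hbase]; exact hij))).elim
  · obtain ⟨i, hi, j, hj, hij⟩ := invU_cases K hbase relR4 R4_pt hcU h
    interval_cases j <;> interval_cases i
    · exact (cand_ne K cd_4_0_0_1 (by norm_num) (by norm_num) (kA (by rw [Wx_append, eE00 K hbase]; exact hij))).elim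
    · exact (cand_ne K cd_4_1_0_1 (by norm_num) (by norm_num) (kA (by rw [Wx_append, eE10 K hbase]; exact hij))).elim
    · exact (cand_ne K cd_4_2_0_1 (by norm_num) (by norm_num) (kA (by rw [Wx_append, eE20 K hbase]; exact hij))).elim
    · exact (cand_ne K cd_4_3_0_1 (by norm_num) (by norm_num) (kA (by rw [Wx_append, eE30 K hbase]; exact hij))).elim
    · exact (cand_ne K cd_4_4_0_1 (by norm_num) (by norm_num) (kA (by rw [Wx_append, eE40 K hbase]; exact hij))).elim
    · exact (cand_ne K cd_4_5_0_1 (by norm_num) (by norm_num) (kA (by rw [Wx_append, eE50 K hbase]; exact hij))).elim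
    · exact (cand_ne K cd_4_0_1_1 (by norm_num) (by norm_num) (kC (by rw [Wx_append, eE01 K hbase]; exact hij))).elim
    · exact (cand_ne K cd_4_1_1_1 (by norm_num) (by norm_num) (kC (by rw [Wx_append, eE11 K hbase]; exact hij))).elim
    · exact (cand_ne K cd_4_2_1_1 (by norm_num) (by norm_num) (kC (by rw [Wx_append, eE21 K hbase]; exact hij))).elim
    · exact (cand_ne K cd_4_3_1_1 (by norm_num) (by norm_num) (kC (by rw [Wx_append, eE31 K hbase]; exact hij))).elim
    · exact (cand_ne K cd_4_4_1_1 (by norm_num) (by norm_num) (kC (by rw [Wx_append, eE41 K hbase]; exact hij))).elim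
    · exact (cand_ne K cd_4_5_1_1 (by norm_num) (by norm_num) (kC (by rw [Wx_append, eE51 K hbase]; exact hij))).elim
  · obtain ⟨i, hi, j, hj, hij⟩ := invU_cases K hbase relR5 R5_pt hcU h
    interval_cases j <;> interval_cases i
    · exact (cand_ne K cd_5_0_0_1 (by norm_num) (by norm_num) (kA (by rw [Wx_append, eE00 K hbase]; exact hij))).elim
    · exact (cand_ne K cd_5_1_0_1 (by norm_num) (by norm_num) (kA (by rw [Wx_append, eE10 K hbase]; exact hij))).elim
    · exact (cand_ne K cd_5_2_0_1 (by norm_num) (by norm_num) (kA (by rw [Wx_append, eE20 K hbase]; exact hij))).elim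
    · exact (cand_ne K cd_5_3_0_1 (by norm_num) (by norm_num) (kA (by rw [Wx_append, eE30 K hbase]; exact hij))).elim
    · exact (cand_ne K cd_5_4_0_1 (by norm_num) (by norm_num) (kA (by rw [Wx_append, eE40 K hbase]; exact hij))).elim
    · exact (cand_ne K cd_5_5_0_1 (by norm_num) (by norm_num) (kA (by rw [Wx_append, eE50 K hbase]; exact hij))).elim
    · exact (cand_ne K cd_5_0_1_1 (by norm_num) (by norm_num) (kA (by rw [Wx_append, eE01 K hbase]; exact hij))).elim
    · exact (cand_ne K cd_5_1_1_1 (by norm_num) (by norm_num) (kB (by rw [Wx_append, eE11 K hbase]; exact hij))).elim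
    · exact (cand_ne K cd_5_2_1_1 (by norm_num) (by norm_num) (kA (by rw [Wx_append, eE21 K hbase]; exact hij))).elim
    · exact (cand_ne K cd_5_3_1_1 (by norm_num) (by norm_num) (kA (by rw [Wx_append, eE31 K hbase]; exact hij))).elim
    · exact (cand_ne K cd_5_4_1_1 (by norm_num) (by norm_num) (kA (by rw [Wx_append, eE41 K hbase]; exact hij))).elim
    · exact (cand_ne K cd_5_5_1_1 (by norm_num) (by norm_num) (kA (by rw [Wx_append, eE51 K hbase]; exact hij))).elim

include hbase in
/-- candidates, exponent 2 -/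
theorem cases_2 {c : G} (hcU : c * Wx x U * c⁻¹ = (Wx x U)⁻¹) (h2 : c * c = 1)
    (hA : (Wx x X ^ 2 * (c * (Wx x X ^ (2 * 7) * c))) ^ 4 = 1) (hB : (Wx x X ^ 2 * c) ^ 15 = 1) : False := by
  have hU0 : φ (Wx x U) 0 = 0 := φpt K U_fix0
  have hUcU : Wx x U * (c * Wx x U) = c := by
    have h2 : c * Wx x U = (Wx x U)⁻¹ * c := by rw [← hcU]; group
    rw [h2, mul_inv_cancel_left]
  have hfix : φ (Wx x U) (φ c 0) = φ c 0 := by
    have h := congrArg (fun g => φ g 0) hUcU
    simp only [map_mul, Equiv.Perm.mul_apply, hU0] at h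
    exact h
  have hPa : Wx x P2 = Wx x X ^ 2 := by rw [rl K hbase relP2, Wx_wpow]
  have hPb : Wx x P14 = Wx x X ^ (2 * 7) := by rw [rl K hbase relP14, Wx_wpow]
  have kA : ∀ {cw : List ℕ}, c = Wx x cw → Wx x (P2 ++ (cw ++ (P14 ++ cw))) ^ 4 = 1 := by
    intro cw h
    rw [Wx_append, Wx_append, Wx_append, hPa, hPb, ← h, hA]
  have kB : ∀ {cw : List ℕ}, c = Wx x cw → Wx x (P2 ++ cw) ^ 15 = 1 := by
    intro cw h
    rw [Wx_append, hPa, ← h, hB]
  have kC : ∀ {cw : List ℕ}, c = Wx x cw → Wx x cw ^ 2 = 1 := by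
    intro cw h
    rw [← h, pow_two, h2]
  have hm := fixU_mem K _ (K.hlt c 0 (by norm_num)) hfix
  simp only [List.mem_cons, List.not_mem_nil, or_false] at hm
  rcases hm with h | h | h | h | h | h | h | h | h
  · obtain ⟨i, hi, j, hj, hij⟩ := invU_cases K hbase relR0 R0_pt hcU h
    interval_cases j <;> interval_cases i
    · exact cand_ne K cd_0_0_0_2 (by norm_num) (by norm_num) (kA (by rw [Wx_append, eE00 K hbase]; exact hij))
    · exact cand_ne K cd_0_1_0_2 (by norm_num) (by norm_num) (kA (by rw [Wx_append, eE10 K hbase]; exact hij))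
    · exact cand_ne K cd_0_2_0_2 (by norm_num) (by norm_num) (kA (by rw [Wx_append, eE20 K hbase]; exact hij))
    · exact cand_ne K cd_0_3_0_2 (by norm_num) (by norm_num) (kA (by rw [Wx_append, eE30 K hbase]; exact hij))
    · exact cand_ne K cd_0_4_0_2 (by norm_num) (by norm_num) (kA (by rw [Wx_append, eE40 K hbase]; exact hij))
    · exact cand_ne K cd_0_5_0_2 (by norm_num) (by norm_num) (kA (by rw [Wx_append, eE50 K hbase]; exact hij))
    · exact cand_ne K cd_0_0_1_2 (by norm_num) (by norm_num) (kA (by rw [Wx_append, eE01 K hbase]; exact hij))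
    · exact cand_ne K cd_0_1_1_2 (by norm_num) (by norm_num) (kA (by rw [Wx_append, eE11 K hbase]; exact hij))
    · exact cand_ne K cd_0_2_1_2 (by norm_num) (by norm_num) (kA (by rw [Wx_append, eE21 K hbase]; exact hij))
    · exact cand_ne K cd_0_3_1_2 (by norm_num) (by norm_num) (kA (by rw [Wx_append, eE31 K hbase]; exact hij))
    · exact cand_ne K cd_0_4_1_2 (by norm_num) (by norm_num) (kA (by rw [Wx_append, eE41 K hbase]; exact hij))
    · exact cand_ne K cd_0_5_1_2 (by norm_num) (by norm_num) (kA (by rw [Wx_append, eE51 K hbase]; exact hij))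
  · obtain ⟨i, hi, j, hj, hij⟩ := invU_cases K hbase relR1 R1_pt hcU h
    interval_cases j <;> interval_cases i
    · exact cand_ne K cd_1_0_0_2 (by norm_num) (by norm_num) (kA (by rw [Wx_append, eE00 K hbase]; exact hij))
    · exact cand_ne K cd_1_1_0_2 (by norm_num) (by norm_num) (kA (by rw [Wx_append, eE10 K hbase]; exact hij))
    · exact cand_ne K cd_1_2_0_2 (by norm_num) (by norm_num) (kA (by rw [Wx_append, eE20 K hbase]; exact hij))
    · exact cand_ne K cd_1_3_0_2 (by norm_num) (by norm_num) (kA (by rw [Wx_append, eE30 K hbase]; exact hij))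
    · exact cand_ne K cd_1_4_0_2 (by norm_num) (by norm_num) (kA (by rw [Wx_append, eE40 K hbase]; exact hij))
    · exact cand_ne K cd_1_5_0_2 (by norm_num) (by norm_num) (kA (by rw [Wx_append, eE50 K hbase]; exact hij))
    · exact cand_ne K cd_1_0_1_2 (by norm_num) (by norm_num) (kC (by rw [Wx_append, eE01 K hbase]; exact hij))
    · exact cand_ne K cd_1_1_1_2 (by norm_num) (by norm_num) (kC (by rw [Wx_append, eE11 K hbase]; exact hij))
    · exact cand_ne K cd_1_2_1_2 (by norm_num) (by norm_num) (kC (by rw [Wx_append, eE21 K hbase]; exact hij))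
    · exact cand_ne K cd_1_3_1_2 (by norm_num) (by norm_num) (kC (by rw [Wx_append, eE31 K hbase]; exact hij))
    · exact cand_ne K cd_1_4_1_2 (by norm_num) (by norm_num) (kC (by rw [Wx_append, eE41 K hbase]; exact hij))
    · exact cand_ne K cd_1_5_1_2 (by norm_num) (by norm_num) (kC (by rw [Wx_append, eE51 K hbase]; exact hij))
  · exact pop_excl K hbase hcU t21633_pt pop21633 h
  · exact pop_excl K hbase hcU t44721_pt pop44721 h
  · obtain ⟨i, hi, j, hj, hij⟩ := invU_cases K hbase relR2 R2_pt hcU h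
    interval_cases j <;> interval_cases i
    · exact cand_ne K cd_2_0_0_2 (by norm_num) (by norm_num) (kA (by rw [Wx_append, eE00 K hbase]; exact hij))
    · exact cand_ne K cd_2_1_0_2 (by norm_num) (by norm_num) (kA (by rw [Wx_append, eE10 K hbase]; exact hij))
    · exact cand_ne K cd_2_2_0_2 (by norm_num) (by norm_num) (kA (by rw [Wx_append, eE20 K hbase]; exact hij))
    · exact cand_ne K cd_2_3_0_2 (by norm_num) (by norm_num) (kA (by rw [Wx_append, eE30 K hbase]; exact hij))
    · exact cand_ne K cd_2_4_0_2 (by norm_num) (by norm_num) (kA (by rw [Wx_append, eE40 K hbase]; exact hij))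
    · exact cand_ne K cd_2_5_0_2 (by norm_num) (by norm_num) (kA (by rw [Wx_append, eE50 K hbase]; exact hij))
    · exact cand_ne K cd_2_0_1_2 (by norm_num) (by norm_num) (kC (by rw [Wx_append, eE01 K hbase]; exact hij))
    · exact cand_ne K cd_2_1_1_2 (by norm_num) (by norm_num) (kC (by rw [Wx_append, eE11 K hbase]; exact hij))
    · exact cand_ne K cd_2_2_1_2 (by norm_num) (by norm_num) (kC (by rw [Wx_append, eE21 K hbase]; exact hij))
    · exact cand_ne K cd_2_3_1_2 (by norm_num) (by norm_num) (kC (by rw [Wx_append, eE31 K hbase]; exact hij))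
    · exact cand_ne K cd_2_4_1_2 (by norm_num) (by norm_num) (kC (by rw [Wx_append, eE41 K hbase]; exact hij))
    · exact cand_ne K cd_2_5_1_2 (by norm_num) (by norm_num) (kC (by rw [Wx_append, eE51 K hbase]; exact hij))
  · exact pop_excl K hbase hcU t107390_pt pop107390 h
  · obtain ⟨i, hi, j, hj, hij⟩ := invU_cases K hbase relR3 R3_pt hcU h
    interval_cases j <;> interval_cases i
    · exact cand_ne K cd_3_0_0_2 (by norm_num) (by norm_num) (kA (by rw [Wx_append, eE00 K hbase]; exact hij))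
    · exact cand_ne K cd_3_1_0_2 (by norm_num) (by norm_num) (kA (by rw [Wx_append, eE10 K hbase]; exact hij))
    · exact cand_ne K cd_3_2_0_2 (by norm_num) (by norm_num) (kA (by rw [Wx_append, eE20 K hbase]; exact hij))
    · exact cand_ne K cd_3_3_0_2 (by norm_num) (by norm_num) (kA (by rw [Wx_append, eE30 K hbase]; exact hij))
    · exact cand_ne K cd_3_4_0_2 (by norm_num) (by norm_num) (kA (by rw [Wx_append, eE40 K hbase]; exact hij))
    · exact cand_ne K cd_3_5_0_2 (by norm_num) (by norm_num) (kA (by rw [Wx_append, eE50 K hbase]; exact hij))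
    · exact cand_ne K cd_3_0_1_2 (by norm_num) (by norm_num) (kA (by rw [Wx_append, eE01 K hbase]; exact hij))
    · exact cand_ne K cd_3_1_1_2 (by norm_num) (by norm_num) (kA (by rw [Wx_append, eE11 K hbase]; exact hij))
    · exact cand_ne K cd_3_2_1_2 (by norm_num) (by norm_num) (kA (by rw [Wx_append, eE21 K hbase]; exact hij))
    · exact cand_ne K cd_3_3_1_2 (by norm_num) (by norm_num) (kA (by rw [Wx_append, eE31 K hbase]; exact hij))
    · exact cand_ne K cd_3_4_1_2 (by norm_num) (by norm_num) (kA (by rw [Wx_append, eE41 K hbase]; exact hij))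
    · exact cand_ne K cd_3_5_1_2 (by norm_num) (by norm_num) (kA (by rw [Wx_append, eE51 K hbase]; exact hij))
  · obtain ⟨i, hi, j, hj, hij⟩ := invU_cases K hbase relR4 R4_pt hcU h
    interval_cases j <;> interval_cases i
    · exact cand_ne K cd_4_0_0_2 (by norm_num) (by norm_num) (kA (by rw [Wx_append, eE00 K hbase]; exact hij))
    · exact cand_ne K cd_4_1_0_2 (by norm_num) (by norm_num) (kB (by rw [Wx_append, eE10 K hbase]; exact hij))
    · exact cand_ne K cd_4_2_0_2 (by norm_num) (by norm_num) (kA (by rw [Wx_append, eE20 K hbase]; exact hij))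
    · exact cand_ne K cd_4_3_0_2 (by norm_num) (by norm_num) (kA (by rw [Wx_append, eE30 K hbase]; exact hij))
    · exact cand_ne K cd_4_4_0_2 (by norm_num) (by norm_num) (kA (by rw [Wx_append, eE40 K hbase]; exact hij))
    · exact cand_ne K cd_4_5_0_2 (by norm_num) (by norm_num) (kA (by rw [Wx_append, eE50 K hbase]; exact hij))
    · exact cand_ne K cd_4_0_1_2 (by norm_num) (by norm_num) (kC (by rw [Wx_append, eE01 K hbase]; exact hij))
    · exact cand_ne K cd_4_1_1_2 (by norm_num) (by norm_num) (kC (by rw [Wx_append, eE11 K hbase]; exact hij))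
    · exact cand_ne K cd_4_2_1_2 (by norm_num) (by norm_num) (kC (by rw [Wx_append, eE21 K hbase]; exact hij))
    · exact cand_ne K cd_4_3_1_2 (by norm_num) (by norm_num) (kC (by rw [Wx_append, eE31 K hbase]; exact hij))
    · exact cand_ne K cd_4_4_1_2 (by norm_num) (by norm_num) (kC (by rw [Wx_append, eE41 K hbase]; exact hij))
    · exact cand_ne K cd_4_5_1_2 (by norm_num) (by norm_num) (kC (by rw [Wx_append, eE51 K hbase]; exact hij))
  · obtain ⟨i, hi, j, hj, hij⟩ := invU_cases K hbase relR5 R5_pt hcU h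
    interval_cases j <;> interval_cases i
    · exact cand_ne K cd_5_0_0_2 (by norm_num) (by norm_num) (kA (by rw [Wx_append, eE00 K hbase]; exact hij))
    · exact cand_ne K cd_5_1_0_2 (by norm_num) (by norm_num) (kA (by rw [Wx_append, eE10 K hbase]; exact hij))
    · exact cand_ne K cd_5_2_0_2 (by norm_num) (by norm_num) (kB (by rw [Wx_append, eE20 K hbase]; exact hij))
    · exact cand_ne K cd_5_3_0_2 (by norm_num) (by norm_num) (kA (by rw [Wx_append, eE30 K hbase]; exact hij))
    · exact cand_ne K cd_5_4_0_2 (by norm_num) (by norm_num) (kA (by rw [Wx_append, eE40 K hbase]; exact hij))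
    · exact cand_ne K cd_5_5_0_2 (by norm_num) (by norm_num) (kA (by rw [Wx_append, eE50 K hbase]; exact hij))
    · exact cand_ne K cd_5_0_1_2 (by norm_num) (by norm_num) (kA (by rw [Wx_append, eE01 K hbase]; exact hij))
    · exact cand_ne K cd_5_1_1_2 (by norm_num) (by norm_num) (kA (by rw [Wx_append, eE11 K hbase]; exact hij))
    · exact cand_ne K cd_5_2_1_2 (by norm_num) (by norm_num) (kA (by rw [Wx_append, eE21 K hbase]; exact hij))
    · exact cand_ne K cd_5_3_1_2 (by norm_num) (by norm_num) (kA (by rw [Wx_append, eE31 K hbase]; exact hij))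
    · exact cand_ne K cd_5_4_1_2 (by norm_num) (by norm_num) (kA (by rw [Wx_append, eE41 K hbase]; exact hij))
    · exact cand_ne K cd_5_5_1_2 (by norm_num) (by norm_num) (kA (by rw [Wx_append, eE51 K hbase]; exact hij))

include hbase in
/-- candidates, exponent 4 -/
theorem cases_4 {c : G} (hcU : c * Wx x U * c⁻¹ = (Wx x U)⁻¹) (h2 : c * c = 1)
    (hA : (Wx x X ^ 4 * (c * (Wx x X ^ (9) * c))) ^ 4 = 1) (hB : (Wx x X ^ 4 * c) ^ 15 = 1) : False := by
  have hU0 : φ (Wx x U) 0 = 0 := φpt K U_fix0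
  have hUcU : Wx x U * (c * Wx x U) = c := by
    have h2 : c * Wx x U = (Wx x U)⁻¹ * c := by rw [← hcU]; group
    rw [h2, mul_inv_cancel_left]
  have hfix : φ (Wx x U) (φ c 0) = φ c 0 := by
    have h := congrArg (fun g => φ g 0) hUcU
    simp only [map_mul, Equiv.Perm.mul_apply, hU0] at h
    exact h
  have hPa : Wx x P4 = Wx x X ^ 4 := by rw [rl K hbase relP4, Wx_wpow]
  have hPb : Wx x P9 = Wx x X ^ (9) := by rw [rl K hbase relP9, Wx_wpow]
  have kA : ∀ {cw : List ℕ}, c = Wx x cw → Wx x (P4 ++ (cw ++ (P9 ++ cw))) ^ 4 = 1 := by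
    intro cw h
    rw [Wx_append, Wx_append, Wx_append, hPa, hPb, ← h, hA]
  have kB : ∀ {cw : List ℕ}, c = Wx x cw → Wx x (P4 ++ cw) ^ 15 = 1 := by
    intro cw h
    rw [Wx_append, hPa, ← h, hB]
  have kC : ∀ {cw : List ℕ}, c = Wx x cw → Wx x cw ^ 2 = 1 := by
    intro cw h
    rw [← h, pow_two, h2]
  have hm := fixU_mem K _ (K.hlt c 0 (by norm_num)) hfix
  simp only [List.mem_cons, List.not_mem_nil, or_false] at hm
  rcases hm with h | h | h | h | h | h | h | h | h
  · obtain ⟨i, hi, j, hj, hij⟩ := invU_cases K hbase relR0 R0_pt hcU h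
    interval_cases j <;> interval_cases i
    · exact cand_ne K cd_0_0_0_4 (by norm_num) (by norm_num) (kA (by rw [Wx_append, eE00 K hbase]; exact hij))
    · exact cand_ne K cd_0_1_0_4 (by norm_num) (by norm_num) (kA (by rw [Wx_append, eE10 K hbase]; exact hij))
    · exact cand_ne K cd_0_2_0_4 (by norm_num) (by norm_num) (kA (by rw [Wx_append, eE20 K hbase]; exact hij))
    · exact cand_ne K cd_0_3_0_4 (by norm_num) (by norm_num) (kA (by rw [Wx_append, eE30 K hbase]; exact hij))
    · exact cand_ne K cd_0_4_0_4 (by norm_num) (by norm_num) (kB (by rw [Wx_append, eE40 K hbase]; exact hij))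
    · exact cand_ne K cd_0_5_0_4 (by norm_num) (by norm_num) (kA (by rw [Wx_append, eE50 K hbase]; exact hij))
    · exact cand_ne K cd_0_0_1_4 (by norm_num) (by norm_num) (kA (by rw [Wx_append, eE01 K hbase]; exact hij))
    · exact cand_ne K cd_0_1_1_4 (by norm_num) (by norm_num) (kA (by rw [Wx_append, eE11 K hbase]; exact hij))
    · exact cand_ne K cd_0_2_1_4 (by norm_num) (by norm_num) (kB (by rw [Wx_append, eE21 K hbase]; exact hij))
    · exact cand_ne K cd_0_3_1_4 (by norm_num) (by norm_num) (kA (by rw [Wx_append, eE31 K hbase]; exact hij))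
    · exact cand_ne K cd_0_4_1_4 (by norm_num) (by norm_num) (kA (by rw [Wx_append, eE41 K hbase]; exact hij))
    · exact cand_ne K cd_0_5_1_4 (by norm_num) (by norm_num) (kA (by rw [Wx_append, eE51 K hbase]; exact hij))
  · obtain ⟨i, hi, j, hj, hij⟩ := invU_cases K hbase relR1 R1_pt hcU h
    interval_cases j <;> interval_cases i
    · exact cand_ne K cd_1_0_0_4 (by norm_num) (by norm_num) (kA (by rw [Wx_append, eE00 K hbase]; exact hij))
    · exact cand_ne K cd_1_1_0_4 (by norm_num) (by norm_num) (kA (by rw [Wx_append, eE10 K hbase]; exact hij))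
    · exact cand_ne K cd_1_2_0_4 (by norm_num) (by norm_num) (kA (by rw [Wx_append, eE20 K hbase]; exact hij))
    · exact cand_ne K cd_1_3_0_4 (by norm_num) (by norm_num) (kA (by rw [Wx_append, eE30 K hbase]; exact hij))
    · exact cand_ne K cd_1_4_0_4 (by norm_num) (by norm_num) (kA (by rw [Wx_append, eE40 K hbase]; exact hij))
    · exact cand_ne K cd_1_5_0_4 (by norm_num) (by norm_num) (kA (by rw [Wx_append, eE50 K hbase]; exact hij))
    · exact cand_ne K cd_1_0_1_4 (by norm_num) (by norm_num) (kC (by rw [Wx_append, eE01 K hbase]; exact hij))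
    · exact cand_ne K cd_1_1_1_4 (by norm_num) (by norm_num) (kC (by rw [Wx_append, eE11 K hbase]; exact hij))
    · exact cand_ne K cd_1_2_1_4 (by norm_num) (by norm_num) (kC (by rw [Wx_append, eE21 K hbase]; exact hij))
    · exact cand_ne K cd_1_3_1_4 (by norm_num) (by norm_num) (kC (by rw [Wx_append, eE31 K hbase]; exact hij))
    · exact cand_ne K cd_1_4_1_4 (by norm_num) (by norm_num) (kC (by rw [Wx_append, eE41 K hbase]; exact hij))
    · exact cand_ne K cd_1_5_1_4 (by norm_num) (by norm_num) (kC (by rw [Wx_append, eE51 K hbase]; exact hij))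
  · exact pop_excl K hbase hcU t21633_pt pop21633 h
  · exact pop_excl K hbase hcU t44721_pt pop44721 h
  · obtain ⟨i, hi, j, hj, hij⟩ := invU_cases K hbase relR2 R2_pt hcU h
    interval_cases j <;> interval_cases i
    · exact cand_ne K cd_2_0_0_4 (by norm_num) (by norm_num) (kA (by rw [Wx_append, eE00 K hbase]; exact hij))
    · exact cand_ne K cd_2_1_0_4 (by norm_num) (by norm_num) (kA (by rw [Wx_append, eE10 K hbase]; exact hij))
    · exact cand_ne K cd_2_2_0_4 (by norm_num) (by norm_num) (kB (by rw [Wx_append, eE20 K hbase]; exact hij))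
    · exact cand_ne K cd_2_3_0_4 (by norm_num) (by norm_num) (kA (by rw [Wx_append, eE30 K hbase]; exact hij))
    · exact cand_ne K cd_2_4_0_4 (by norm_num) (by norm_num) (kA (by rw [Wx_append, eE40 K hbase]; exact hij))
    · exact cand_ne K cd_2_5_0_4 (by norm_num) (by norm_num) (kA (by rw [Wx_append, eE50 K hbase]; exact hij))
    · exact cand_ne K cd_2_0_1_4 (by norm_num) (by norm_num) (kC (by rw [Wx_append, eE01 K hbase]; exact hij))
    · exact cand_ne K cd_2_1_1_4 (by norm_num) (by norm_num) (kC (by rw [Wx_append, eE11 K hbase]; exact hij))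
    · exact cand_ne K cd_2_2_1_4 (by norm_num) (by norm_num) (kC (by rw [Wx_append, eE21 K hbase]; exact hij))
    · exact cand_ne K cd_2_3_1_4 (by norm_num) (by norm_num) (kC (by rw [Wx_append, eE31 K hbase]; exact hij))
    · exact cand_ne K cd_2_4_1_4 (by norm_num) (by norm_num) (kC (by rw [Wx_append, eE41 K hbase]; exact hij))
    · exact cand_ne K cd_2_5_1_4 (by norm_num) (by norm_num) (kC (by rw [Wx_append, eE51 K hbase]; exact hij))
  · exact pop_excl K hbase hcU t107390_pt pop107390 h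
  · obtain ⟨i, hi, j, hj, hij⟩ := invU_cases K hbase relR3 R3_pt hcU h
    interval_cases j <;> interval_cases i
    · exact cand_ne K cd_3_0_0_4 (by norm_num) (by norm_num) (kA (by rw [Wx_append, eE00 K hbase]; exact hij))
    · exact cand_ne K cd_3_1_0_4 (by norm_num) (by norm_num) (kA (by rw [Wx_append, eE10 K hbase]; exact hij))
    · exact cand_ne K cd_3_2_0_4 (by norm_num) (by norm_num) (kA (by rw [Wx_append, eE20 K hbase]; exact hij))
    · exact cand_ne K cd_3_3_0_4 (by norm_num) (by norm_num) (kA (by rw [Wx_append, eE30 K hbase]; exact hij))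
    · exact cand_ne K cd_3_4_0_4 (by norm_num) (by norm_num) (kA (by rw [Wx_append, eE40 K hbase]; exact hij))
    · exact cand_ne K cd_3_5_0_4 (by norm_num) (by norm_num) (kA (by rw [Wx_append, eE50 K hbase]; exact hij))
    · exact cand_ne K cd_3_0_1_4 (by norm_num) (by norm_num) (kA (by rw [Wx_append, eE01 K hbase]; exact hij))
    · exact cand_ne K cd_3_1_1_4 (by norm_num) (by norm_num) (kA (by rw [Wx_append, eE11 K hbase]; exact hij))
    · exact cand_ne K cd_3_2_1_4 (by norm_num) (by norm_num) (kA (by rw [Wx_append, eE21 K hbase]; exact hij))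
    · exact cand_ne K cd_3_3_1_4 (by norm_num) (by norm_num) (kA (by rw [Wx_append, eE31 K hbase]; exact hij))
    · exact cand_ne K cd_3_4_1_4 (by norm_num) (by norm_num) (kA (by rw [Wx_append, eE41 K hbase]; exact hij))
    · exact cand_ne K cd_3_5_1_4 (by norm_num) (by norm_num) (kA (by rw [Wx_append, eE51 K hbase]; exact hij))
  · obtain ⟨i, hi, j, hj, hij⟩ := invU_cases K hbase relR4 R4_pt hcU h
    interval_cases j <;> interval_cases i
    · exact cand_ne K cd_4_0_0_4 (by norm_num) (by norm_num) (kA (by rw [Wx_append, eE00 K hbase]; exact hij))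
    · exact cand_ne K cd_4_1_0_4 (by norm_num) (by norm_num) (kA (by rw [Wx_append, eE10 K hbase]; exact hij))
    · exact cand_ne K cd_4_2_0_4 (by norm_num) (by norm_num) (kA (by rw [Wx_append, eE20 K hbase]; exact hij))
    · exact cand_ne K cd_4_3_0_4 (by norm_num) (by norm_num) (kA (by rw [Wx_append, eE30 K hbase]; exact hij))
    · exact cand_ne K cd_4_4_0_4 (by norm_num) (by norm_num) (kA (by rw [Wx_append, eE40 K hbase]; exact hij))
    · exact cand_ne K cd_4_5_0_4 (by norm_num) (by norm_num) (kA (by rw [Wx_append, eE50 K hbase]; exact hij))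
    · exact cand_ne K cd_4_0_1_4 (by norm_num) (by norm_num) (kC (by rw [Wx_append, eE01 K hbase]; exact hij))
    · exact cand_ne K cd_4_1_1_4 (by norm_num) (by norm_num) (kC (by rw [Wx_append, eE11 K hbase]; exact hij))
    · exact cand_ne K cd_4_2_1_4 (by norm_num) (by norm_num) (kC (by rw [Wx_append, eE21 K hbase]; exact hij))
    · exact cand_ne K cd_4_3_1_4 (by norm_num) (by norm_num) (kC (by rw [Wx_append, eE31 K hbase]; exact hij))
    · exact cand_ne K cd_4_4_1_4 (by norm_num) (by norm_num) (kC (by rw [Wx_append, eE41 K hbase]; exact hij))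
    · exact cand_ne K cd_4_5_1_4 (by norm_num) (by norm_num) (kC (by rw [Wx_append, eE51 K hbase]; exact hij))
  · obtain ⟨i, hi, j, hj, hij⟩ := invU_cases K hbase relR5 R5_pt hcU h
    interval_cases j <;> interval_cases i
    · exact cand_ne K cd_5_0_0_4 (by norm_num) (by norm_num) (kA (by rw [Wx_append, eE00 K hbase]; exact hij))
    · exact cand_ne K cd_5_1_0_4 (by norm_num) (by norm_num) (kA (by rw [Wx_append, eE10 K hbase]; exact hij))
    · exact cand_ne K cd_5_2_0_4 (by norm_num) (by norm_num) (kA (by rw [Wx_append, eE20 K hbase]; exact hij))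
    · exact cand_ne K cd_5_3_0_4 (by norm_num) (by norm_num) (kA (by rw [Wx_append, eE30 K hbase]; exact hij))
    · exact cand_ne K cd_5_4_0_4 (by norm_num) (by norm_num) (kA (by rw [Wx_append, eE40 K hbase]; exact hij))
    · exact cand_ne K cd_5_5_0_4 (by norm_num) (by norm_num) (kA (by rw [Wx_append, eE50 K hbase]; exact hij))
    · exact cand_ne K cd_5_0_1_4 (by norm_num) (by norm_num) (kA (by rw [Wx_append, eE01 K hbase]; exact hij))
    · exact cand_ne K cd_5_1_1_4 (by norm_num) (by norm_num) (kA (by rw [Wx_append, eE11 K hbase]; exact hij))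
    · exact cand_ne K cd_5_2_1_4 (by norm_num) (by norm_num) (kB (by rw [Wx_append, eE21 K hbase]; exact hij))
    · exact cand_ne K cd_5_3_1_4 (by norm_num) (by norm_num) (kA (by rw [Wx_append, eE31 K hbase]; exact hij))
    · exact cand_ne K cd_5_4_1_4 (by norm_num) (by norm_num) (kA (by rw [Wx_append, eE41 K hbase]; exact hij))
    · exact cand_ne K cd_5_5_1_4 (by norm_num) (by norm_num) (kA (by rw [Wx_append, eE51 K hbase]; exact hij))


include hbase in
/-- the values of an automorphism normalizing `X` and fixing `U` -/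
theorem aut_cases (α : MulAut G) {e : ℕ} (he : e ∈ [1, 2, 4]) (hX : α (Wx x X) = Wx x X ^ e)
    (hU : α (Wx x U) = Wx x U) :
    α (Wx x X) = Wx x X ∧ (α (Wx x W) = Wx x W ∨ α (Wx x W) = Wx x (R3 ++ E50)) := by
  have hWU : Wx x W * Wx x U * (Wx x W)⁻¹ = (Wx x U)⁻¹ := by
    have := rl K hbase relR1
    rw [Wx_append, Wx_append, Wx_iw K.hiv] at this
    have h2 : Wx x W * Wx x U = (Wx x U)⁻¹ * Wx x W := this
    rw [h2]; group
  have hW2 : Wx x W * Wx x W = 1 := by
    have := rl K hbase relW2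
    rwa [Wx_append] at this
  have hA : (Wx x X * (Wx x W * (Wx x X ^ 7 * Wx x W))) ^ 4 = 1 := by
    have := rl K hbase relA
    rwa [Wx_wpow, Wx_append, Wx_append, Wx_append, Wx_wpow] at this
  have hB : (Wx x X * Wx x W) ^ 15 = 1 := by
    have := rl K hbase relB
    rwa [Wx_wpow, Wx_append] at this
  have k1 : α (Wx x W) * Wx x U * (α (Wx x W))⁻¹ = (Wx x U)⁻¹ := by
    have h := congrArg α hWU
    rwa [map_mul, map_mul, map_inv, map_inv, hU] at h
  have k2 : α (Wx x W) * α (Wx x W) = 1 := by rw [← map_mul, hW2, map_one]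
  have k3 : (Wx x X ^ e * (α (Wx x W) * (Wx x X ^ (e * 7) * α (Wx x W)))) ^ 4 = 1 := by
    have h := congrArg α hA
    rwa [map_pow, map_mul, map_mul, map_mul, map_pow, hX, map_one, ← pow_mul] at h
  have k4 : (Wx x X ^ e * α (Wx x W)) ^ 15 = 1 := by
    have h := congrArg α hB
    rwa [map_pow, map_mul, hX, map_one] at h
  simp only [List.mem_cons, List.not_mem_nil, or_false] at he
  rcases he with rfl | rfl | rfl
  · refine ⟨by rw [hX, pow_one], ?_⟩
    exact cases_1 K hbase k1 k2 k3 k4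
  · exact (cases_2 K hbase k1 k2 k3 k4).elim
  · have h5 : Wx x X ^ (4 * 7) = Wx x X ^ 9 := by
      rw [show 4 * 7 = 19 + 9 by norm_num, pow_add, X_pow K hbase, one_mul]
    rw [h5] at k3
    exact (cases_4 K hbase k1 k2 k3 k4).elim

end

end Cfsg.Agent.Lib.ONOut79
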