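import Cfsg.Agent.Lib.ONOut79b

/-! The outer automorphism group of the O'Nan group has order 2: the outer automorphism (helper79). -/

set_option autoImplicit false
set_option maxRecDepth 100000
set_option exponentiation.threshold 500000

namespace Cfsg.Agent.Lib.ONOut79
open Cfsg Cfsg.Spor
open Cfsg.Agent.Lib.BenesPerm Cfsg.Agent.Lib.BenesAct Cfsg.Agent.Lib.BenesWord Cfsg.Agent.Lib.BenesPack
open Cfsg.Agent.Lib.TransLanes Cfsg.Agent.Lib.LaneTools Cfsg.Agent.Lib.LaneOut79
open Cfsg.Agent.Lib.ONRel Cfsg.Agent.Lib.ONWB Cfsg.Agent.Lib.ONWS Cfsg.Agent.Lib.ONWIdx Cfsg.Agent.Lib.ONW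
open Cfsg.Agent.Lib.CoxBridge Cfsg.Agent.Lib.CosetGroup Cfsg.Agent.Lib.CosetInj Cfsg.Agent.Lib.CosetOrder

/-- the images of the letters -/
noncomputable abbrev y (c : ℕ) : G := Wx x (Yw c)

theorem Wx_flatMap (w : List ℕ) : Wx y w = Wx x (w.flatMap Yw) := by
  induction w with
  | nil => rfl
  | cons c w ih =>
    rw [List.flatMap_cons, Wx_append, ← ih]
    simp [Wx]

section

variable {φ : G →* Equiv.Perm ℕ} (K : LaneOut79.Ctx x φ nets 17 122760 ivx Ms)
  (hbase : ∀ g, (∀ b ∈ [22, 1, 0], φ g b = b) → g = 1)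
include K

include hbase in
theorem y_sq (c : ℕ) (hc : c < 6) : y c * y c = 1 := by
  have key : ∀ w : List ℕ, relT tabs 8 ivx [22, 1, 0] (w ++ w) [] = true → Wx x w * Wx x w = 1 := by
    intro w h
    have := rl K hbase h
    rwa [Wx_append] at this
  interval_cases c
  · exact key _ Y0_sq
  · exact key _ Y1_sq
  · exact key _ Y2_sq
  · exact key _ Y3_sq
  · exact key _ Y4_sq
  · exact key _ Y5_sq

include hbase in
theorem y_iv (c : ℕ) : y (ivx c) = (y c)⁻¹ := by
  by_cases hc : c < 6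
  · have h1 : ivx c = c := by interval_cases c <;> rfl
    rw [h1]
    exact eq_inv_of_mul_eq_one_left (y_sq K hbase c hc)
  · by_cases hc' : c < 8
    · have h67 : Wx x (Yw 7) = (Wx x (Yw 6))⁻¹ := by
        have h : Yw 7 = iw ivx (Yw 6) := rfl
        rw [h, Wx_iw K.hiv]
      have : c = 6 ∨ c = 7 := by omega
      rcases this with rfl | rfl
      · exact h67
      · change Wx x (Yw 6) = (Wx x (Yw 7))⁻¹
        rw [h67, inv_inv]
    · have h1 : ivx c = c := Cfsg.Agent.Lib.CosetInst.ivOf_ge _ (by simpa using not_lt.mp hc')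
      have h2 : Yw c = [] := by
        unfold Yw
        rw [nthK_eq, List.getElem?_eq_none (by simpa using not_lt.mp hc')]
        rfl
      rw [h1]
      show Wx x (Yw c) = (Wx x (Yw c))⁻¹
      rw [h2]
      show (1 : G) = 1⁻¹
      rw [inv_one]

include hbase in
theorem y_rel (W : Wd) (hW : W ∈ rels) : W.eval y = 1 := by
  have h1 := List.all_eq_true.1 Y_rels W hW
  have h2 := rl K hbase h1
  rw [← Wx_flatMap] at h2
  rw [← Wd.eval_flat y ivx (y_iv K hbase) W]
  exact h2

include hbase in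
/-- an endomorphism -/
theorem hom_exists : ∃ θ : G →* G, ∀ c, c < 7 → θ (x c) = y c := by
  obtain ⟨θ, hθ⟩ := C.hom (K := G) y (by
      intro i hi
      exact y_sq K hbase i hi) (by
      intro W hW
      apply y_rel K hbase
      apply List.mem_append_left
      rw [← coxW_eq]
      exact hW) (by
      intro W hW
      apply y_rel K hbase
      exact List.mem_append_right _ hW)
  refine ⟨θ, ?_⟩
  intro c hc
  rw [← hθ c hc]
  congr 1
  exact C.x_of_lt L0 hc

include hbase in
/-- the automorphism -/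
theorem theta_exists (hs : IsSimpleGroup G) (hfin : Finite G) : ∃ θ : MulAut G, ∀ c, c < 7 → θ (x c) = y c := by
  obtain ⟨θ, hθ⟩ := hom_exists K hbase
  have hk : θ.ker = ⊥ := by
    rcases hs.eq_bot_or_eq_top_of_normal θ.ker inferInstance with h | h
    · exact h
    · exfalso
      have h1 : x 0 ∈ θ.ker := by rw [h]; exact Subgroup.mem_top _
      rw [MonoidHom.mem_ker, hθ 0 (by norm_num)] at h1
      have h2 : φ (y 0) 3 = 14 := φpt K y0_mv
      rw [h1, map_one] at h2
      exact absurd h2 (by decide)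
  have hinj : Function.Injective θ := (MonoidHom.ker_eq_bot_iff θ).1 hk
  exact ⟨MulEquiv.ofBijective θ ⟨hinj, Finite.surjective_of_injective hinj⟩, hθ⟩

/-- the automorphism is not inner -/
theorem theta_not_inner {θ : MulAut G} (hθ : ∀ c, c < 7 → θ (x c) = y c) : θ ∉ Cfsg.Inn G := by
  rintro ⟨h, rfl⟩
  have h1 : ∀ g, MulAut.conj h g = h * g * h⁻¹ := fun g => rfl
  have hs : ∀ c, Wx x [c] = x c := fun c => by simp [Wx]
  have key : ∀ c, c < 7 → φ (x c) 0 = 0 → φ (Wx x (Yw c)) (φ h 0) = φ h 0 := by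
    intro c hc h0
    have h2 := hθ c hc
    rw [h1] at h2
    have h3 : Wx x (Yw c) * h = h * x c := by
      have : y c = Wx x (Yw c) := rfl
      rw [← this, ← h2]; group
    rw [← Equiv.Perm.mul_apply, ← map_mul, h3, map_mul, Equiv.Perm.mul_apply, h0]
  have k2 := key 2 (by norm_num) (by rw [← hs 2]; exact φpt K l2_fix)
  have k3 := key 3 (by norm_num) (by rw [← hs 3]; exact φpt K l3_fix)
  rw [K.φ_word] at k2 k3
  have m2 := (fixOK_spec (i := φ h 0) K.hns K.hn fixY2 (K.hlt h 0 K.h0)).2 k2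
  have m3 := (fixOK_spec (i := φ h 0) K.hns K.hn fixY3 (K.hlt h 0 K.h0)).2 k3
  have h4 : (Nat.land (bitsK ly2) (bitsK ly3)).testBit (φ h 0) = true := by
    have e1 : ∀ a b : ℕ, Nat.land a b = a &&& b := fun a b => rfl
    rw [e1, Nat.testBit_and, m2, m3]; rfl
  rw [Nat.eq_of_beq_eq_true fixY, Nat.zero_testBit] at h4
  exact absurd h4 (by decide)

end

/-- `|Out(ON)| = 2` -/
theorem card_out : Nat.card (Cfsg.Out G) = 2 := by
  obtain ⟨hsim, hcard, φ, K, hinj, hbase⟩ := setting
  have hfin : Finite G := Nat.finite_of_card_ne_zero (by rw [hcard]; norm_num)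
  have hXp : Wx x X ^ 19 = 1 := X_pow K hbase
  have hX1 : Wx x X ≠ 1 := by
    intro h
    have h2 := (fixOK_spec (i := 1) K.hns K.hn fixX (by norm_num)).2 (by
      rw [← K.φ_word, h]
      exact congrArg (fun p : Equiv.Perm ℕ => p 1) (map_one φ))
    rw [bitsK_spec] at h2
    exact absurd (List.mem_singleton.1 h2) (by norm_num)
  have hX : orderOf (Wx x X) = 19 := by
    have : Fact (Nat.Prime 19) := ⟨by norm_num⟩
    exact orderOf_eq_prime hXp hX1
  have hU : Wx x U * Wx x X * (Wx x U)⁻¹ = Wx x X ^ 8 := by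
    have := rl K hbase relU
    rw [Wx_append, Wx_append, Wx_wpow] at this
    rw [this]; group
  have hU' : (Wx x U)⁻¹ * Wx x X * Wx x U = Wx x X ^ 12 := by
    have := rl K hbase relU'
    rw [Wx_append, Wx_append, Wx_wpow] at this
    rw [mul_assoc, this]; group
  obtain ⟨θ, hθ⟩ := theta_exists K hbase hsim hfin
  refine card_out_eq_two3 (X := Wx x X) (U := Wx x U) (W := Wx x W) (W' := Wx x (R3 ++ E50)) ?_ ?_ θ
    (theta_not_inner K hθ)
  · intro P h1 h2 h3
    exact top_of K hbase P h1 h2 h3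
  · intro α
    obtain ⟨g, e, he, h1, h2⟩ := exists_normL (p := 19) (by norm_num) (by rw [hcard]; norm_num)
      (by rw [hcard]; norm_num) hX (r := 8) (r' := 12) (E := [1, 2, 4]) hU hU' (fun c hc => centX K hbase c hc)
      (by decide) (by decide) (by decide) α
    obtain ⟨h3, h4⟩ := aut_cases K hbase _ he h1 h2
    exact ⟨g, h3, h2, h4⟩

end Cfsg.Agent.Lib.ONOut79
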