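import Mathlib
import Cfsg.Agent.Lib.OPieces67

/-!
(helper67) Pieces: unipotent elements.
-/

set_option autoImplicit false
set_option linter.unusedSectionVars false

namespace Cfsg.Agent.Lib.OReal67

open QuadraticMap Module Cfsg.Agent.Lib.Quad Cfsg.Agent.Lib.GaussSign67

universe u v w

variable {F : Type u} [Field F] [Finite F] {χ : AddChar F ℤ}

/-- the form `z₁² + a z₁ z₂ + b z₂²`. -/
def plB (a b : F) : (F × F) →ₗ[F] (F × F) →ₗ[F] F := LinearMap.mk₂ F
    (fun u v : F × F => u.1 * v.1 + a * (u.1 * v.2) + b * (u.2 * v.2))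
    (by intro u u' v; simp only [Prod.fst_add, Prod.snd_add]; ring)
    (by intro c u v; simp only [Prod.smul_fst, Prod.smul_snd, smul_eq_mul]; ring)
    (by intro u v v'; simp only [Prod.fst_add, Prod.snd_add]; ring)
    (by intro c u v; simp only [Prod.smul_fst, Prod.smul_snd, smul_eq_mul]; ring)

def pl (a b : F) : QuadraticForm F (F × F) := LinearMap.BilinMap.toQuadraticMap (plB a b)

theorem pl_apply (a b : F) (z : F × F) : pl a b z = z.1 * z.1 + a * (z.1 * z.2) + b * (z.2 * z.2) := rfl

theorem polar_pl [CharP F 2] (a b : F) (u v : F × F) : polar (pl a b) u v = a * (u.1 * v.2 + v.1 * u.2) := by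
  show polar (LinearMap.BilinMap.toQuadraticMap (plB a b)) u v = _
  rw [LinearMap.BilinMap.polar_toQuadraticMap]
  show (u.1 * v.1 + a * (u.1 * v.2) + b * (u.2 * v.2)) + (v.1 * u.1 + a * (v.1 * u.2) + b * (v.2 * u.2)) = _
  linear_combination (u.1 * v.1 + b * u.2 * v.2) * (CharTwo.two_eq_zero : (2 : F) = 0)

theorem nd_pl [CharP F 2] {a b : F} (ha : a ≠ 0) : Nd (pl a b) := by
  apply nd_of
  intro x hx
  apply Prod.ext
  · have := hx (0, 1)
    rw [polar_pl] at this
    simpa [ha] using this
  · have := hx (1, 0)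
    rw [polar_pl] at this
    simpa [ha] using this

/-- `x y` on `F × F`. -/
def hyB : (F × F) →ₗ[F] (F × F) →ₗ[F] F := LinearMap.mk₂ F (fun u v : F × F => u.1 * v.2)
    (by intro u u' v; simp only [Prod.fst_add]; ring)
    (by intro c u v; simp only [Prod.smul_fst, smul_eq_mul]; ring)
    (by intro u v v'; simp only [Prod.snd_add]; ring)
    (by intro c u v; simp only [Prod.smul_snd, smul_eq_mul]; ring)

variable (F) in
def hy : QuadraticForm F (F × F) := LinearMap.BilinMap.toQuadraticMap hyB

theorem hy_apply (z : F × F) : hy F z = z.1 * z.2 := rfl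

theorem polar_hy (u v : F × F) : polar (hy F) u v = u.1 * v.2 + v.1 * u.2 := by
  show polar (LinearMap.BilinMap.toQuadraticMap hyB) u v = _
  rw [LinearMap.BilinMap.polar_toQuadraticMap]; rfl

theorem nd_hy : Nd (hy F) := by
  apply nd_of
  intro x hx
  apply Prod.ext
  · have := hx (0, 1)
    rw [polar_hy] at this
    simpa using this
  · have := hx (1, 0)
    rw [polar_hy] at this
    simpa using this

theorem gs_hy (hχ : χ ≠ 1) : gs χ (hy F) = Nat.card F := by
  let B' : F →ₗ[F] F →ₗ[F] F := LinearMap.mul F F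
  have hB' : Function.Injective B' := by
    rw [← LinearMap.ker_eq_bot, LinearMap.ker_eq_bot']
    intro a ha
    have h1 : a * 1 = 0 := LinearMap.congr_fun ha 1
    rwa [mul_one] at h1
  exact gs_bilin hχ B' hB'

theorem gs_pl_plus (hχ : χ ≠ 1) : gs χ (pl (1 : F) 0) = Nat.card F := by
  rw [← gs_hy hχ]
  let e : (F × F) ≃ (F × F) :=
    { toFun := fun z => (z.1, z.1 + z.2)
      invFun := fun z => (z.1, z.2 - z.1)
      left_inv := fun z => by ext <;> simp
      right_inv := fun z => by ext <;> simp }
  apply gs_equiv e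
  intro z
  show z.1 * (z.1 + z.2) = z.1 * z.1 + 1 * (z.1 * z.2) + 0 * (z.2 * z.2)
  ring

theorem gs_pl_minus [CharP F 2] (hχ : χ ≠ 1) {a b : F}
    (hab : ∀ z₁ z₂ : F, z₁ ^ 2 + a * z₁ * z₂ + b * z₂ ^ 2 = 0 → z₁ = 0 ∧ z₂ = 0) : gs χ (pl a b) = -(Nat.card F : ℤ) := by
  rw [← gs_plane hχ a b hab]
  apply gs_equiv (Equiv.refl _)
  intro z
  show z.1 ^ 2 + a * z.1 * z.2 + b * z.2 ^ 2 = z.1 * z.1 + a * (z.1 * z.2) + b * (z.2 * z.2)
  ring

/-- the affine group embeds. -/
theorem exists_ext [CharP F 2] {V : Type v} [AddCommGroup V] [Module F V] [FiniteDimensional F V] {Q : QuadraticForm F V}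
    (hQ : Nd Q) {T : V ≃ₗ[F] V} (hT : T ∈ O Q) (t : V) : ∃ G : ((F × F) × V) ≃ₗ[F] ((F × F) × V),
      G ∈ O ((hy F).prod Q) ∧ ∀ v, G v = ((v.1.1 + Q t * v.1.2 + polar Q t (T v.2), v.1.2), T v.2 + v.1.2 • t) := by
  let f : ((F × F) × V) →ₗ[F] ((F × F) × V) :=
    { toFun := fun v => ((v.1.1 + Q t * v.1.2 + polar Q t (T v.2), v.1.2), T v.2 + v.1.2 • t)
      map_add' := by
        intro x y
        apply Prod.ext
        · apply Prod.ext
          · show x.1.1 + y.1.1 + Q t * (x.1.2 + y.1.2) + polar Q t (T (x.2 + y.2)) = _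
            rw [map_add, polar_add_right]
            show _ = (x.1.1 + Q t * x.1.2 + polar Q t (T x.2)) + (y.1.1 + Q t * y.1.2 + polar Q t (T y.2))
            ring
          · rfl
        · show T (x.2 + y.2) + (x.1.2 + y.1.2) • t = (T x.2 + x.1.2 • t) + (T y.2 + y.1.2 • t)
          rw [map_add, add_smul]; abel
      map_smul' := by
        intro c x
        apply Prod.ext
        · apply Prod.ext
          · show c * x.1.1 + Q t * (c * x.1.2) + polar Q t (T (c • x.2)) = c * (x.1.1 + Q t * x.1.2 + polar Q t (T x.2))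
            rw [map_smul, polar_smul_right, smul_eq_mul]
            ring
          · rfl
        · show T (c • x.2) + (c * x.1.2) • t = c • (T x.2 + x.1.2 • t)
          rw [map_smul, smul_add, mul_smul] }
  have hf : ∀ v, f v = ((v.1.1 + Q t * v.1.2 + polar Q t (T v.2), v.1.2), T v.2 + v.1.2 • t) := fun v => rfl
  have hiso : ∀ v, ((hy F).prod Q) (f v) = ((hy F).prod Q) v := by
    intro v
    rw [hf]
    show (v.1.1 + Q t * v.1.2 + polar Q t (T v.2)) * v.1.2 + Q (T v.2 + v.1.2 • t) = v.1.1 * v.1.2 + Q v.2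
    rw [Q_add, Q_smul, hT, polar_smul_right, smul_eq_mul, polar_comm Q (T v.2) t]
    linear_combination (Q t * v.1.2 * v.1.2 + polar Q t (T v.2) * v.1.2) * (CharTwo.two_eq_zero : (2 : F) = 0)
  exact ⟨ofMap (nd_prod nd_hy hQ) f hiso, ofMap_mem _ _ _, hf⟩

theorem ext_pow [CharP F 2] {V : Type v} [AddCommGroup V] [Module F V] {Q : QuadraticForm F V}
    {T : V ≃ₗ[F] V} {t : V} {G : ((F × F) × V) ≃ₗ[F] ((F × F) × V)}
    (hG : ∀ v, G v = ((v.1.1 + Q t * v.1.2 + polar Q t (T v.2), v.1.2), T v.2 + v.1.2 • t)) (k : ℕ) (v : (F × F) × V) :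
    ((G ^ k) v).2 = (T ^ k) v.2 + v.1.2 • ∑ i ∈ Finset.range k, (T ^ i) t := by
  induction k generalizing v with
  | zero => simp
  | succ k ih =>
    rw [pow_succ]
    show ((G ^ k) (G v)).2 = _
    rw [ih, hG]
    show (T ^ k) (T v.2 + v.1.2 • t) + v.1.2 • ∑ i ∈ Finset.range k, (T ^ i) t = _
    rw [map_add, map_smul, Finset.sum_range_succ, smul_add, pow_succ]
    show _ = (T ^ k) (T v.2) + _
    abel

theorem GR.ext [CharP F 2] (hχ : χ ≠ 1) {N : ℕ} {ε : ℤ} {δ M : ℕ} (h : GR χ N ε δ M true) :
    ∃ δ', GR χ (1 + N) ε δ' M false := by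
  obtain ⟨Q, T, t, hQ, hg, hT, hm, hk⟩ := h
  obtain ⟨G, hGO, hG⟩ := exists_ext hQ hT t
  refine ⟨_, GR.of_space ((hy F).prod Q) G 0 ?_ (nd_prod nd_hy hQ) ?_ hGO rfl ?_⟩
  · rw [finrank_prod, finrank_prod]; simp; ring
  · have h1 := gs_prod (χ := χ) (hy F) Q
    have h2 : gs χ ((hy F).prod Q) = gs χ (hy F) * gs χ Q := h1
    rw [h2, hg, gs_hy hχ]; ring
  · intro k h1 _
    apply hk
    · ext1 x
      have h3 := congrArg Prod.snd (LinearEquiv.congr_fun h1 ((0, 0), x))
      rw [ext_pow hG] at h3
      simpa using h3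
    · intro _
      have h3 := congrArg Prod.snd (LinearEquiv.congr_fun h1 ((0, 1), 0))
      rw [ext_pow hG] at h3
      simpa using h3

section U

variable [CharP F 2]

/-- the reflection of the plane. -/
theorem exists_refl {a b : F} (ha : a ≠ 0) : ∃ T : (F × F) ≃ₗ[F] (F × F), T ∈ O (pl a b) ∧ ∀ z, T z = (z.1 + a * z.2, z.2) := by
  let f : (F × F) →ₗ[F] (F × F) :=
    { toFun := fun z => (z.1 + a * z.2, z.2)
      map_add' := by
        intro x y
        apply Prod.ext
        · show x.1 + y.1 + a * (x.2 + y.2) = (x.1 + a * x.2) + (y.1 + a * y.2)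
          ring
        · rfl
      map_smul' := by
        intro c x
        apply Prod.ext
        · show c * x.1 + a * (c * x.2) = c * (x.1 + a * x.2)
          ring
        · rfl }
  have hiso : ∀ v, (pl a b) (f v) = (pl a b) v := by
    intro v
    show (v.1 + a * v.2) * (v.1 + a * v.2) + a * ((v.1 + a * v.2) * v.2) + b * (v.2 * v.2) =
      v.1 * v.1 + a * (v.1 * v.2) + b * (v.2 * v.2)
    linear_combination (a * v.1 * v.2 + a * a * v.2 * v.2) * (CharTwo.two_eq_zero : (2 : F) = 0)
  exact ⟨ofMap (nd_pl ha) f hiso, ofMap_mem _ _ _, fun z => rfl⟩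

theorem sum_periodic {V : Type v} [AddCommGroup V] [Module F V] {T : V ≃ₗ[F] V} {p : ℕ} (hT : T ^ p = 1) (t : V) (m : ℕ) :
    ∑ i ∈ Finset.range (p * m), (T ^ i) t = m • ∑ i ∈ Finset.range p, (T ^ i) t := by
  induction m with
  | zero => simp
  | succ m ih =>
    rw [mul_add, mul_one, Finset.sum_range_add, ih, succ_nsmul]
    congr 1
    apply Finset.sum_congr rfl
    intro i _
    rw [pow_add, pow_mul, hT, one_pow, one_mul]

theorem nsmul_eq_zero_iff_even {V : Type v} [AddCommGroup V] [Module F V] {x : V} (hx : x ≠ 0) {m : ℕ} (h : m • x = 0) :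
    2 ∣ m := by
  have h1 : (m : F) • x = 0 := by rw [Nat.cast_smul_eq_nsmul]; exact h
  exact (CharP.cast_eq_zero_iff F 2 m).1 ((smul_eq_zero.1 h1).resolve_right hx)

theorem GR.U1 {ε : ℤ} {a b : F} (ha : a ≠ 0) (hg : gs χ (pl a b) = ε * Nat.card F) (hχ : χ ≠ 1) :
    GR χ 1 ε 1 2 false ∧ GR χ 1 ε 1 4 true ∧ GR χ 1 ε 0 2 true ∧ GR χ 2 ε 1 4 false ∧ GR χ 2 ε 1 8 true := by
  have h20 : (2 : F) = 0 := CharTwo.two_eq_zero
  obtain ⟨T, hTO, hT⟩ := exists_refl (b := b) ha
  have hnd := nd_pl (b := b) ha
  have hT2 : T ^ 2 = 1 := by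
    ext1 z
    rw [pow_two]
    show T (T z) = z
    rw [hT, hT]
    apply Prod.ext
    · show z.1 + a * z.2 + a * z.2 = z.1
      linear_combination (a * z.2) * h20
    · rfl
  have hT1 : T ≠ 1 := by
    intro h
    have h1 := congrArg Prod.fst (LinearEquiv.congr_fun h ((0, 1) : F × F))
    rw [hT] at h1
    have h2 : (0 : F) + a * 1 = 0 := h1
    rw [zero_add, mul_one] at h2
    exact ha h2
  have hord : orderOf T = 2 := orderOf_eq_prime hT2 hT1
  have hk2 : ∀ k, T ^ k = 1 → 2 ∣ k := fun k h => by rw [← hord]; exact orderOf_dvd_of_pow_eq_one h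
  have hsum2 : ∑ i ∈ Finset.range 2, (T ^ i) ((0, 1) : F × F) = (a, 0) := by
    rw [Finset.sum_range_succ, Finset.sum_range_one, pow_zero, pow_one, hT]
    apply Prod.ext
    · show (0 : F) + (0 + a * 1) = a
      ring
    · show (1 : F) + 1 = 0
      linear_combination h20
  have hk4 : ∀ k, T ^ k = 1 → ∑ i ∈ Finset.range k, (T ^ i) ((0, 1) : F × F) = 0 → 4 ∣ k := by
    intro k h1 h2
    obtain ⟨m, rfl⟩ := hk2 k h1
    rw [sum_periodic hT2, hsum2] at h2
    obtain ⟨m', rfl⟩ := nsmul_eq_zero_iff_even (F := F) (by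
      intro h
      exact ha (congrArg Prod.fst h)) h2
    exact ⟨m', by ring⟩
  have hmovT : finrank F (mov T) % 2 = 1 := by
    have h1 : fixS T = Submodule.span F {((1, 0) : F × F)} := by
      ext z
      rw [mem_fixS, hT, Submodule.mem_span_singleton]
      constructor
      · intro h
        have h2 : z.1 + a * z.2 = z.1 := congrArg Prod.fst h
        have h3 : z.2 = 0 := by
          have : a * z.2 = 0 := by linear_combination h2
          exact (mul_eq_zero.1 this).resolve_left ha
        refine ⟨z.1, ?_⟩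
        apply Prod.ext
        · show z.1 * 1 = z.1
          ring
        · show z.1 * 0 = z.2
          rw [h3, mul_zero]
      · rintro ⟨c, rfl⟩
        apply Prod.ext
        · show c * 1 + a * (c * 0) = c * 1
          ring
        · rfl
    have h2 := finrank_mov_add_fixS T
    rw [h1, finrank_span_singleton (by
      intro h
      exact one_ne_zero (congrArg Prod.fst h)), finrank_prod, finrank_self] at h2
    omega
  have hdim : finrank F (F × F) = 2 * 1 := by rw [finrank_prod, finrank_self]
  have hg1 : gs χ (pl a b) = ε * (Nat.card F : ℤ) ^ 1 := by rw [pow_one]; exact hg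
  refine ⟨?_, ?_, ?_, ?_, ?_⟩
  · exact GR.of_space (pl a b) T 0 hdim hnd hg1 hTO hmovT (fun k h _ => hk2 k h)
  · exact GR.of_space (pl a b) T (0, 1) hdim hnd hg1 hTO hmovT (fun k h1 h2 => hk4 k h1 (h2 rfl))
  · refine GR.of_space (pl a b) 1 (0, 1) hdim hnd hg1 (one_mem _) (by rw [mov_one]; simp) (fun k h1 h2 => ?_)
    have h3 := h2 rfl
    have h4 : ∑ i ∈ Finset.range k, ((1 : (F × F) ≃ₗ[F] (F × F)) ^ i) ((0, 1) : F × F) = k • ((0, 1) : F × F) := by
      simp only [one_pow, LinearEquiv.coe_one, id_eq, Finset.sum_const, Finset.card_range]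
    rw [h4] at h3
    exact nsmul_eq_zero_iff_even (F := F) (by
      intro h
      exact one_ne_zero (congrArg Prod.snd h)) h3
  all_goals
    obtain ⟨G, hGO, hG⟩ := exists_ext hnd hTO ((0, 1) : F × F)
    have hGk : ∀ k, G ^ k = 1 → 4 ∣ k := by
      intro k h1
      apply hk4
      · ext1 x
        have h3 := congrArg Prod.snd (LinearEquiv.congr_fun h1 ((0, 0), x))
        rw [ext_pow hG] at h3
        simpa using h3
      · have h3 := congrArg Prod.snd (LinearEquiv.congr_fun h1 ((0, 1), 0))
        rw [ext_pow hG] at h3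
        simpa using h3
    have hG' : ∀ x y z w : F, G ((x, y), (z, w)) = ((x + b * y + (a * z + a * a * w), y), (z + a * w, w + y)) := by
      intro x y z w
      rw [hG]
      apply Prod.ext
      · apply Prod.ext
        · show x + pl a b (0, 1) * y + polar (pl a b) (0, 1) (T (z, w)) = _
          rw [pl_apply, polar_pl, hT]
          show x + (0 * 0 + a * (0 * 1) + b * (1 * 1)) * y + a * (0 * w + (z + a * w) * 1) = _
          ring
        · rfl
      · rw [hT]
        apply Prod.ext
        · show z + a * w + y * 0 = z + a * w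
          ring
        · show w + y * 1 = w + y
          ring
    have hG2 : ∀ x y z w : F, (G ^ 2) ((x, y), (z, w)) = ((x + a * a * w + a * a * y, y), (z + a * y, w)) := by
      intro x y z w
      rw [pow_two]
      show G (G ((x, y), (z, w))) = _
      rw [hG', hG']
      apply Prod.ext
      · apply Prod.ext
        · show x + b * y + (a * z + a * a * w) + b * y + (a * (z + a * w) + a * a * (w + y)) = _
          linear_combination (b * y + a * z + a * a * w) * h20
        · rfl
      · apply Prod.ext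
        · show z + a * w + a * (w + y) = z + a * y
          linear_combination (a * w) * h20
        · show w + y + y = w
          linear_combination y * h20
    have hG4 : G ^ 4 = 1 := by
      have e : G ^ 4 = G ^ 2 * G ^ 2 := by rw [← pow_add]
      rw [e]
      ext1 ⟨⟨x, y⟩, ⟨z, w⟩⟩
      show (G ^ 2) ((G ^ 2) ((x, y), (z, w))) = ((x, y), (z, w))
      rw [hG2, hG2]
      apply Prod.ext
      · apply Prod.ext
        · show x + a * a * w + a * a * y + a * a * w + a * a * y = x
          linear_combination (a * a * w + a * a * y) * h20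
        · rfl
      · apply Prod.ext
        · show z + a * y + a * y = z
          linear_combination (a * y) * h20
        · rfl
    have hmovG : finrank F (mov G) % 2 = 1 := by
      have h1 : fixS G = Submodule.span F {(((1, 0), (0, 0)) : (F × F) × (F × F))} := by
        ext ⟨⟨x, y⟩, ⟨z, w⟩⟩
        rw [mem_fixS, hG', Submodule.mem_span_singleton]
        constructor
        · intro h
          have h2 : x + b * y + (a * z + a * a * w) = x := congrArg (fun v => v.1.1) h
          have h3 : z + a * w = z := congrArg (fun v => v.2.1) h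
          have h4 : w + y = w := congrArg (fun v => v.2.2) h
          have hy0 : y = 0 := by linear_combination h4
          have hw0 : w = 0 := by
            have : a * w = 0 := by linear_combination h3
            exact (mul_eq_zero.1 this).resolve_left ha
          have hz0 : z = 0 := by
            rw [hy0, hw0] at h2
            have : a * z = 0 := by linear_combination h2
            exact (mul_eq_zero.1 this).resolve_left ha
          refine ⟨x, ?_⟩
          rw [hy0, hw0, hz0]
          apply Prod.ext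
          · apply Prod.ext
            · show x * 1 = x
              ring
            · show x * 0 = 0
              ring
          · apply Prod.ext
            · show x * 0 = 0
              ring
            · show x * 0 = 0
              ring
        · rintro ⟨c, hc⟩
          have e1 : c * 1 = x := congrArg (fun v => v.1.1) hc
          have e2 : c * 0 = y := congrArg (fun v => v.1.2) hc
          have e3 : c * 0 = z := congrArg (fun v => v.2.1) hc
          have e4 : c * 0 = w := congrArg (fun v => v.2.2) hc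
          rw [mul_zero] at e2 e3 e4
          subst e2 e3 e4
          simp
      have h2 := finrank_mov_add_fixS G
      rw [h1, finrank_span_singleton (by
        intro h
        exact one_ne_zero (congrArg (fun v => v.1.1) h)), finrank_prod, finrank_prod, finrank_self] at h2
      omega
    have hgG : gs χ ((hy F).prod (pl a b)) = ε * (Nat.card F : ℤ) ^ 2 := by
      have h1 := gs_prod (χ := χ) (hy F) (pl a b)
      have h2 : gs χ ((hy F).prod (pl a b)) = gs χ (hy F) * gs χ (pl a b) := h1
      rw [h2, hg, gs_hy hχ]; ring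
    have hdim2 : finrank F ((F × F) × (F × F)) = 2 * 2 := by rw [finrank_prod, finrank_prod, finrank_self]
  · exact GR.of_space _ G 0 hdim2 (nd_prod nd_hy hnd) hgG hGO hmovG (fun k h _ => hGk k h)
  · refine GR.of_space _ G ((0, 1), (0, 0)) hdim2 (nd_prod nd_hy hnd) hgG hGO hmovG (fun k h1 h2 => ?_)
    have h3 := h2 rfl
    obtain ⟨m, rfl⟩ := hGk k h1
    rw [sum_periodic hG4] at h3
    have hs4 : ∑ i ∈ Finset.range 4, (G ^ i) (((0, 1), (0, 0)) : (F × F) × (F × F)) = ((a * a, 0), (0, 0)) := by
      have e3 : ∀ v, (G ^ 3) v = G ((G ^ 2) v) := fun v => by rw [pow_succ']; rfl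
      rw [Finset.sum_range_succ, Finset.sum_range_succ, Finset.sum_range_succ, Finset.sum_range_one, pow_zero, pow_one,
        e3, hG2, hG', hG']
      apply Prod.ext
      · apply Prod.ext
        · show (0 : F) + (0 + b * 1 + (a * 0 + a * a * 0)) + (0 + a * a * 0 + a * a * 1) +
            (0 + a * a * 0 + a * a * 1 + b * 1 + (a * (0 + a * 1) + a * a * 0)) = a * a
          linear_combination (b + a * a) * h20
        · show (1 : F) + 1 + 1 + 1 = 0
          linear_combination 2 * h20
      · apply Prod.ext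
        · show (0 : F) + (0 + a * 0) + (0 + a * 1) + (0 + a * 1 + a * 0) = 0
          linear_combination a * h20
        · show (0 : F) + (0 + 1) + 0 + (0 + 1) = 0
          linear_combination h20
    rw [hs4] at h3
    obtain ⟨m', rfl⟩ := nsmul_eq_zero_iff_even (F := F) (by
      intro h
      have : a * a = 0 := congrArg (fun v => v.1.1) h
      exact ha (mul_self_eq_zero.1 this)) h3
    exact ⟨m', by ring⟩

end U

end Cfsg.Agent.Lib.OReal67
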