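import Cfsg.Agent.Lib.UnSpec2

/-!
Determinants of isometries, Singer elements of `PSU_n(q)` (helper42).
-/

set_option autoImplicit false

namespace Cfsg.Agent.Lib.UnSpec

open Module Polynomial Cfsg Cfsg.Agent.Lib.HermAlg Cfsg.Agent.Lib.ClUnitary Cfsg.Agent.Lib.HermMat

section general

variable {F : Type*} [Field F] {V : Type*} [AddCommGroup V] [Module F V]

/-- decomposition along an idempotent -/
theorem conj_idem (e : Module.End F V) (he : e * e = e) (T : Module.End F V) (heT : e * T = T * e)
    (S₁ : Module.End F (LinearMap.range e)) (S₂ : Module.End F (LinearMap.ker e)) (h₁ : ∀ x, (S₁ x : V) = T x)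
    (h₂ : ∀ x, (S₂ x : V) = T x) :
    T = ((Submodule.prodEquivOfIsCompl _ _ (LinearMap.IsIdempotentElem.isCompl he) : (_ × _) →ₗ[F] V)) ∘ₗ (S₁.prodMap S₂) ∘ₗ
      ((Submodule.prodEquivOfIsCompl _ _ (LinearMap.IsIdempotentElem.isCompl he)).symm : V →ₗ[F] _) := by
  ext v
  obtain ⟨w, rfl⟩ := (Submodule.prodEquivOfIsCompl _ _ (LinearMap.IsIdempotentElem.isCompl he)).surjective v
  rw [LinearMap.comp_apply, LinearMap.comp_apply, LinearEquiv.coe_coe, LinearEquiv.coe_coe,
    LinearEquiv.symm_apply_apply, Submodule.coe_prodEquivOfIsCompl', Submodule.coe_prodEquivOfIsCompl', map_add]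
  show T w.1 + T w.2 = (S₁ w.1 : V) + (S₂ w.2 : V)
  rw [h₁, h₂]

theorem det_idem [FiniteDimensional F V] (e : Module.End F V) (he : e * e = e) (T : Module.End F V) (heT : e * T = T * e)
    (S₁ : Module.End F (LinearMap.range e)) (S₂ : Module.End F (LinearMap.ker e)) (h₁ : ∀ x, (S₁ x : V) = T x)
    (h₂ : ∀ x, (S₂ x : V) = T x) :
    LinearMap.det T = LinearMap.det S₁ * LinearMap.det S₂ := by
  rw [conj_idem e he T heT S₁ S₂ h₁ h₂, LinearMap.det_conj, LinearMap.det_prodMap]

theorem finrank_idem [FiniteDimensional F V] (e : Module.End F V) (he : e * e = e) :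
    finrank F (LinearMap.range e) + finrank F (LinearMap.ker e) = finrank F V := by
  exact LinearMap.finrank_range_add_finrank_ker e

/-- a linear map annihilated by an irreducible polynomial of full degree has determinant the norm of the root -/
theorem det_eq_norm [FiniteDimensional F V] (S : Module.End F V) (f : F[X]) (hf : Irreducible f) (hd : f.natDegree = finrank F V)
    (h0 : aeval S f = 0) {K : Type*} [Field K] [Algebra F K] [FiniteDimensional F K] (hK : finrank F K = finrank F V)
    (α : K) (hα : aeval α f = 0) : LinearMap.det S = Algebra.norm F α := by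
  have hV : Nontrivial V := Module.nontrivial_of_finrank_pos (R := F) (by rw [← hd]; exact hf.natDegree_pos)
  have hS : ∀ R : F[X], aeval S R = 0 → f ∣ R := by
    intro R h
    by_contra hdvd
    obtain ⟨a, b, hab⟩ := (EuclideanDomain.dvd_or_coprime f R hf).resolve_left hdvd
    have h1 := congrArg (aeval S) hab
    rw [map_add, map_mul, map_mul, h0, h, mul_zero, mul_zero, add_zero, map_one] at h1
    exact zero_ne_one h1
  have hroot : ∀ R : F[X], aeval α R = 0 → f ∣ R := by
    intro R h
    by_contra hdvd
    obtain ⟨a, b, hab⟩ := (EuclideanDomain.dvd_or_coprime f R hf).resolve_left hdvd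
    have h1 := congrArg (aeval α) hab
    rw [map_add, map_mul, map_mul, hα, h, mul_zero, mul_zero, add_zero, map_one] at h1
    exact zero_ne_one h1
  have hchar : S.charpoly = (Algebra.lmul F K α).charpoly := by
    have h1 : f ∣ S.charpoly := hS _ (LinearMap.aeval_self_charpoly S)
    have h2 : f ∣ (Algebra.lmul F K α).charpoly := by
      apply hroot
      have h3 := LinearMap.aeval_self_charpoly (Algebra.lmul F K α)
      rw [Polynomial.aeval_algHom_apply] at h3
      have h4 := LinearMap.congr_fun h3 1
      simpa using h4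
    have hm1 := LinearMap.charpoly_monic S
    have hm2 := LinearMap.charpoly_monic (Algebra.lmul F K α)
    have hd1 : S.charpoly.natDegree = f.natDegree := by rw [LinearMap.charpoly_natDegree, hd]
    have hd2 : (Algebra.lmul F K α).charpoly.natDegree = f.natDegree := by rw [LinearMap.charpoly_natDegree, hK, hd]
    have hassoc : ∀ P : F[X], P.Monic → P.natDegree = f.natDegree → f ∣ P → P = C (f.leadingCoeff)⁻¹ * f := by
      intro P hP hPn hfP
      obtain ⟨u, hu⟩ := hfP
      have hu0 : u ≠ 0 := by rintro rfl; rw [mul_zero] at hu; exact hP.ne_zero hu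
      have h5 : u.natDegree = 0 := by
        have := congrArg Polynomial.natDegree hu
        rw [Polynomial.natDegree_mul hf.ne_zero hu0, hPn] at this
        omega
      rw [Polynomial.eq_C_of_natDegree_eq_zero h5] at hu
      have h6 := congrArg Polynomial.leadingCoeff hu
      rw [hP.leadingCoeff, Polynomial.leadingCoeff_mul, Polynomial.leadingCoeff_C] at h6
      have h7 : u.coeff 0 = (f.leadingCoeff)⁻¹ := by
        exact eq_inv_of_mul_eq_one_right h6.symm
      rw [hu, h7, mul_comm]
    rw [hassoc _ hm1 hd1 h1, hassoc _ hm2 hd2 h2]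
  rw [Algebra.norm_apply, LinearMap.det_eq_sign_charpoly_coeff, LinearMap.det_eq_sign_charpoly_coeff, hchar, hK]

/-- an isometry which is the identity on one half of a hyperbolic decomposition is the identity -/
theorem eq_one_of_mul_eq {σ : F →+* F} {ε : F}
    {B : V → V → F} (h : IsHerm σ ε B) (e S : Module.End F V) (hS : ∀ x y, B (S x) (S y) = B x y)
    (hSu : Function.Surjective S) (heS : e * S = S * e) (hSe : S * e = e) (hadj : ∀ x y, B (e x) y = B x ((1 - e) y)) :
    S = 1 := by
  have hadj' : ∀ x y, B ((1 - e) x) y = B x (e y) := by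
    intro x y
    rw [LinearMap.sub_apply, h.sub_left, hadj, LinearMap.sub_apply, h.sub_right, Module.End.one_apply, Module.End.one_apply,
      sub_sub_cancel]
  apply LinearMap.ext
  intro x
  have h1 : S ((1 - e) x) = (1 - e) x := by
    apply h.ext_left
    intro y
    obtain ⟨y', rfl⟩ := hSu y
    rw [hS, hadj', hadj', ← Module.End.mul_apply, heS, hSe]
  have h2 : x = e x + (1 - e) x := by
    rw [LinearMap.sub_apply, Module.End.one_apply, add_sub_cancel]
  calc S x = S (e x) + S ((1 - e) x) := by rw [← map_add, ← h2]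
    _ = e x + (1 - e) x := by rw [h1, ← Module.End.mul_apply, hSe]
    _ = x := h2.symm

/-- powers of `T` from powers of the root of `f` -/
theorem pow_of_root (p : ℕ) [Fact p.Prime] [CharP F p]
    (T e : Module.End F V) (f : F[X]) (k M i : ℕ) (c : F) (h0 : aeval T (f ^ k) * e = 0)
    (hM : AdjoinRoot.root f ^ M = algebraMap F _ c)
    (hi : k ≤ p ^ i) : T ^ (M * p ^ i) * e = c ^ p ^ i • e := by
  have h1 : f ∣ (X : F[X]) ^ M - C c := by
    rw [← AdjoinRoot.mk_eq_zero, map_sub, map_pow, AdjoinRoot.mk_X, AdjoinRoot.mk_C, hM]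
    exact sub_self _
  have h2 : f ^ k ∣ ((X : F[X]) ^ M - C c) ^ (p ^ i) := (pow_dvd_pow_of_dvd h1 k).trans (pow_dvd_pow _ hi)
  rw [sub_pow_char_pow, ← pow_mul, ← C_pow] at h2
  obtain ⟨d, hd⟩ := h2
  have h3 : aeval T ((X : F[X]) ^ (M * p ^ i) - C (c ^ p ^ i)) * e = 0 := by
    rw [hd, mul_comm, map_mul, mul_assoc, h0, mul_zero]
  rw [map_sub, map_pow, aeval_X, aeval_C, sub_mul, sub_eq_zero, Algebra.algebraMap_eq_smul_one, smul_mul_assoc, one_mul] at h3
  exact h3

end general

variable {F : Type*} [Field F] [Fintype F] {q n : ℕ}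

theorem det_adj (hF : Fintype.card F = q ^ 2) (S S' : Module.End F (Fin n → F))
    (h : ∀ x y, hermForm n F q (S x) y = hermForm n F q x (S' y)) :
    LinearMap.det S = (LinearMap.det S') ^ q := by
  have hq0 : q ≠ 0 := by have := two_le_q hF; omega
  have h1 : LinearMap.toMatrix' S = ((LinearMap.toMatrix' S').map (frob hF)).transpose := by
    ext i j
    rw [Matrix.transpose_apply, Matrix.map_apply, LinearMap.toMatrix'_apply, LinearMap.toMatrix'_apply, frob_apply]
    have h2 := h (Pi.single j 1) (Pi.single i 1)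
    rw [hermForm_single _ hq0, hermForm_single_left] at h2
    exact h2
  rw [← LinearMap.det_toMatrix', h1, Matrix.det_transpose]
  have h3 := (frob hF).map_det (LinearMap.toMatrix' S')
  rw [LinearMap.det_toMatrix'] at h3
  rw [← frob_apply hF, h3]
  rfl

end Cfsg.Agent.Lib.UnSpec
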