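import Mathlib
import Cfsg.Agent.Lib.UnSpec3
import Cfsg.Agent.Lib.HermAlg2
import Cfsg.Agent.Lib.AltForm

/-!
(helper67) Upper bounds for orders of isometries of alternating spaces in characteristic two.
-/

set_option autoImplicit false
set_option linter.unusedSectionVars false

namespace Cfsg.Agent.Lib.SpBound67

open Module Polynomial Cfsg.Agent.Lib.HermAlg Cfsg.Agent.Lib.UnSpec

universe u v

section
variable {F : Type u} [Field F]

/-- every isometry of finite order of a nondegenerate alternating space of dimension `2N` is killed by an element of `S` -/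
def Bd (F : Type u) [Field F] (N : ℕ) (S : ℕ → Prop) : Prop :=
  ∀ (V : Type v) [AddCommGroup V] [Module F V] [FiniteDimensional F V] (B : V → V → F), finrank F V = 2 * N →
    IsHerm (RingHom.id F) (-1) B → (∀ x, B x x = 0) → ∀ (T : Module.End F V), (∀ x y, B (T x) (T y) = B x y) →
      ∀ m, T ^ (m + 1) = 1 → ∃ M, S M ∧ T ^ M = 1

variable {V : Type v} [AddCommGroup V] [Module F V] [FiniteDimensional F V] {B : V → V → F}

theorem pow_mul_eq_of_dvd {T e : Module.End F V} {M M' : ℕ} (h : T ^ M * e = e) (hd : M ∣ M') : T ^ M' * e = e := by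
  obtain ⟨c, rfl⟩ := hd
  induction c with
  | zero => rw [mul_zero, pow_zero, one_mul]
  | succ c ih => rw [mul_add, mul_one, pow_add, mul_assoc, h, ih]

theorem restr_herm (hB : IsHerm (RingHom.id F) (-1) B) (halt : ∀ x, B x x = 0)
    {e : Module.End F V} (he : e * e = e) (hadj : ∀ x y, B (e x) y = B x (e y)) :
    IsHerm (RingHom.id F) (-1) (fun x y : LinearMap.range e => B x y) where
  add_left x y z := hB.add_left _ _ _
  smul_left c x y := hB.smul_left _ _ _
  symm x y := hB.symm _ _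
  nondeg x hx := by
    apply Subtype.ext
    apply hB.nondeg
    intro y
    have hxe : e (x : V) = x := by
      obtain ⟨z, hz⟩ := x.2
      rw [← hz, ← Module.End.mul_apply, he]
    rw [← hxe, hadj]
    exact hx ⟨e y, ⟨y, rfl⟩⟩

theorem restr (hB : IsHerm (RingHom.id F) (-1) B) (halt : ∀ x, B x x = 0) {T : Module.End F V}
    (hT : ∀ x y, B (T x) (T y) = B x y) {m : ℕ} (hm : T ^ (m + 1) = 1)
    {e : Module.End F V} (he : e * e = e) (heT : e * T = T * e) (hadj : ∀ x y, B (e x) y = B x (e y))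
    {N : ℕ} (hN : finrank F (LinearMap.range e) = 2 * N) {S : ℕ → Prop} (hS : Bd.{u, v} F N S) :
    ∃ M, S M ∧ T ^ M * e = e := by
  have hinv : ∀ x ∈ LinearMap.range e, T x ∈ LinearMap.range e := by
    rintro _ ⟨x, rfl⟩
    exact ⟨T x, by rw [← Module.End.mul_apply, heT, Module.End.mul_apply]⟩
  let T' : Module.End F (LinearMap.range e) := T.restrict hinv
  have hT' : ∀ (k : ℕ) (x : LinearMap.range e), (((T' ^ k) x : LinearMap.range e) : V) = (T ^ k) x := by
    intro k
    induction k with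
    | zero => intro x; rfl
    | succ k ih =>
      intro x
      rw [pow_succ, pow_succ, Module.End.mul_apply, Module.End.mul_apply, ih]; rfl
  obtain ⟨M, hM, h1⟩ := hS (LinearMap.range e) (fun x y => B x y) hN (restr_herm hB halt he hadj) (fun x => halt _) T'
    (fun x y => hT _ _) m (by
      ext1 x
      apply Subtype.ext
      rw [hT', hm]; rfl)
  refine ⟨M, hM, ?_⟩
  ext1 x
  rw [Module.End.mul_apply]
  have h2 := hT' M ⟨e x, ⟨x, rfl⟩⟩
  rw [h1] at h2
  exact h2.symm

/-- an involution of `K` fixing `F` is a power of Frobenius -/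
theorem involution_frob {K : Type u} [Field K] [Finite F] [Finite K] [Algebra F K] (τ : K →+* K)
    (hτ : ∀ c, τ (algebraMap F K c) = algebraMap F K c) (hττ : ∀ x, τ (τ x) = x) (hne : ∃ x, τ x ≠ x) :
    ∃ d, finrank F K = 2 * d ∧ ∀ x, τ x = x ^ (Nat.card F ^ d) := by
  classical
  have hFf := Fintype.ofFinite F
  have hKf := Fintype.ofFinite K
  have hfd : FiniteDimensional F K := inferInstance
  let τa : K →ₐ[F] K := ⟨τ, hτ⟩
  let g : K ≃ₐ[F] K := AlgEquiv.ofAlgHom τa τa (AlgHom.ext hττ) (AlgHom.ext hττ)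
  have hg : ∀ x, g x = τ x := fun x => rfl
  obtain ⟨⟨d, hd⟩, hgd⟩ := (FiniteField.bijective_frobeniusAlgEquivOfAlgebraic_pow F K).2 g
  have hgd' : (FiniteField.frobeniusAlgEquivOfAlgebraic F K) ^ d = g := hgd
  have hn : 0 < finrank F K := Module.finrank_pos
  have hτd : ∀ x, τ x = x ^ (Nat.card F ^ d) := by
    intro x
    rw [← hg, ← hgd']
    have h1 : ⇑((FiniteField.frobeniusAlgEquivOfAlgebraic F K) ^ d) = (⇑(FiniteField.frobeniusAlgEquivOfAlgebraic F K))^[d] :=
      AlgEquiv.coe_pow _ _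
    rw [h1, FiniteField.coe_frobeniusAlgEquivOfAlgebraic_iterate, Nat.card_eq_fintype_card]
  have hg2 : g ^ 2 = 1 := by
    ext x
    rw [pow_two]
    exact hττ x
  have hd0 : d ≠ 0 := by
    rintro rfl
    obtain ⟨x, hx⟩ := hne
    apply hx
    rw [hτd, pow_zero, pow_one]
  have hord : orderOf (FiniteField.frobeniusAlgEquivOfAlgebraic F K) = finrank F K :=
    FiniteField.orderOf_frobeniusAlgEquivOfAlgebraic F K
  have h2d : finrank F K ∣ d * 2 := by
    rw [← hord]
    apply orderOf_dvd_of_pow_eq_one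
    rw [pow_mul, hgd', hg2]
  obtain ⟨c, hc⟩ := h2d
  refine ⟨d, ?_, hτd⟩
  have hc1 : c = 1 := by
    have h3 : c < 2 := by
      by_contra hcon
      have : finrank F K * 2 ≤ finrank F K * c := Nat.mul_le_mul_left _ (by omega)
      omega
    have h4 : c ≠ 0 := by rintro rfl; omega
    omega
  rw [hc1, mul_one] at hc
  omega

theorem alt_even (hB : IsHerm (RingHom.id F) (-1) B) (halt : ∀ x, B x x = 0) : Even (finrank F V) := by
  let Bl : V →ₗ[F] V →ₗ[F] F := LinearMap.mk₂ F B hB.add_left (fun c u v => hB.smul_left c u v)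
    hB.add_right (fun c u v => hB.smul_right c u v)
  exact AltForm.even_finrank Bl halt hB.nondeg

theorem isom_pow {T : Module.End F V} (hT : ∀ x y, B (T x) (T y) = B x y) (k : ℕ) (x y : V) :
    B ((T ^ k) x) ((T ^ k) y) = B x y := by
  induction k generalizing x y with
  | zero => rfl
  | succ k ih => rw [pow_succ, Module.End.mul_apply, Module.End.mul_apply, ih, hT]

theorem surj_pow {T : Module.End F V} {m : ℕ} (hm : T ^ (m + 1) = 1) (k : ℕ) : Function.Surjective (T ^ k : Module.End F V) := by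
  intro y
  refine ⟨(T ^ (m * k)) y, ?_⟩
  rw [← Module.End.mul_apply, ← pow_add]
  have : k + m * k = (m + 1) * k := by ring
  rw [this, pow_mul, hm, one_pow]; rfl

theorem step [Finite F] [CharP F 2] {N : ℕ} (hN : 1 ≤ N) (hV : finrank F V = 2 * N)
    (hB : IsHerm (RingHom.id F) (-1) B) (halt : ∀ x, B x x = 0) (T : Module.End F V)
    (hT : ∀ x y, B (T x) (T y) = B x y) (m : ℕ) (hm : T ^ (m + 1) = 1) :
    (∃ e : Module.End F V, e * e = e ∧ e ≠ 0 ∧ e ≠ 1 ∧ e * T = T * e ∧ ∀ x y, B (e x) y = B x (e y)) ∨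
    (∀ i, 2 * N ≤ 2 ^ i → T ^ (2 ^ i) = 1) ∨
    (∃ d k, 1 ≤ d ∧ 1 ≤ k ∧ d * k ≤ N ∧ ∀ i, k ≤ 2 ^ i → T ^ ((Nat.card F ^ d + 1) * 2 ^ i) = 1) ∨
    (∃ d k, 1 ≤ d ∧ 1 ≤ k ∧ d * k ≤ N ∧ ∀ i, k ≤ 2 ^ i → T ^ ((Nat.card F ^ d - 1) * 2 ^ i) = 1) := by
  classical
  have hnt : Nontrivial V := Module.nontrivial_of_finrank_pos (R := F) (by omega)
  have h2 : Fact (Nat.Prime 2) := ⟨Nat.prime_two⟩
  rcases trich hB (fun c => rfl) T hT m hm with h | ⟨f, k, hf, hk, hfk, hfm, hdim⟩ | ⟨e, f, k, hf, hk, he, heT, hadj, hfk, hfm, hdim⟩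
  · exact Or.inl h
  · right
    have hff : Fact (Irreducible f) := ⟨hf⟩
    have hd1 := hf.natDegree_pos
    obtain ⟨τ, hτ, hτα, hττ⟩ := local_star hB (fun c => rfl) T hT m hm f k hfk hfm
    have hfin : FiniteDimensional F (AdjoinRoot f) := (AdjoinRoot.powerBasis hf.ne_zero).finite
    have hfinK : Finite (AdjoinRoot f) := Module.finite_of_finite F
    have hKdim : finrank F (AdjoinRoot f) = f.natDegree := by
      rw [(AdjoinRoot.powerBasis hf.ne_zero).finrank]; rfl
    have hcharK : CharP (AdjoinRoot f) 2 := charP_of_injective_algebraMap (algebraMap F (AdjoinRoot f)).injective 2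
    by_cases hne : ∃ x, τ x ≠ x
    · obtain ⟨d, hd, hτd⟩ := involution_frob τ hτ hττ hne
      rw [hKdim] at hd
      right; left
      refine ⟨d, k, by omega, hk, ?_, ?_⟩
      · rw [hd, mul_assoc] at hdim
        omega
      · intro i hi
        have h3 : AdjoinRoot.root f ^ (Nat.card F ^ d + 1) = algebraMap F _ 1 := by
          rw [pow_succ, ← hτd, hτα, map_one]
        have h4 := pow_of_root 2 T 1 f k (Nat.card F ^ d + 1) i 1 (by rw [hfk, zero_mul]) h3 hi
        rwa [mul_one, one_pow, one_smul] at h4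
    · left
      push Not at hne
      have h3 : AdjoinRoot.root f ^ 1 = algebraMap F _ 1 := by
        rw [hne] at hτα
        rw [map_one, pow_one, ← sub_eq_zero]
        have h4 : (AdjoinRoot.root f - 1) ^ 2 = 0 := by
          linear_combination hτα - (AdjoinRoot.root f - 1) * (CharTwo.two_eq_zero : (2 : AdjoinRoot f) = 0)
        exact pow_eq_zero_iff (two_ne_zero) |>.1 h4
      intro i hi
      have hki : k ≤ 2 ^ i := by
        refine le_trans ?_ hi
        rw [← hV]
        refine le_trans ?_ hdim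
        exact Nat.le_mul_of_pos_left _ hd1
      have h4 := pow_of_root 2 T 1 f k 1 i 1 (by rw [hfk, zero_mul]) h3 hki
      rwa [mul_one, one_pow, one_smul, one_mul] at h4
  · right; right; right
    have hff : Fact (Irreducible f) := ⟨hf⟩
    have hd1 := hf.natDegree_pos
    have hfin : FiniteDimensional F (AdjoinRoot f) := (AdjoinRoot.powerBasis hf.ne_zero).finite
    have hfinK : Finite (AdjoinRoot f) := Module.finite_of_finite F
    have hKf := Fintype.ofFinite (AdjoinRoot f)
    have hKdim : finrank F (AdjoinRoot f) = f.natDegree := by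
      rw [(AdjoinRoot.powerBasis hf.ne_zero).finrank]; rfl
    have hα0 : AdjoinRoot.root f ≠ 0 := by
      intro h0
      have h1 : minpoly F T ∣ X ^ (m + 1) - 1 := by
        apply minpoly.dvd
        rw [map_sub, map_pow, aeval_X, map_one, hm, sub_self]
      have h2 := hfm.trans h1
      rw [← AdjoinRoot.mk_eq_zero, map_sub, map_pow, AdjoinRoot.mk_X, map_one, h0, zero_pow (by omega)] at h2
      simp at h2
    refine ⟨f.natDegree, k, hd1, hk, ?_, ?_⟩
    · rw [hV] at hdim; omega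
    · intro i hi
      have h3 : AdjoinRoot.root f ^ (Nat.card F ^ f.natDegree - 1) = algebraMap F _ 1 := by
        rw [← hKdim, ← Module.natCard_eq_pow_finrank (K := F) (V := AdjoinRoot f), map_one, Nat.card_eq_fintype_card]
        exact FiniteField.pow_card_sub_one_eq_one _ hα0
      have h4 := pow_of_root 2 T e f k (Nat.card F ^ f.natDegree - 1) i 1 hfk h3 hi
      rw [one_pow, one_smul] at h4
      have hcomm : ∀ j, e * T ^ j = T ^ j * e := by
        intro j
        have : Commute e T := heT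
        exact this.pow_right j
      exact eq_one_of_mul_eq hB e _ (isom_pow hT _) (surj_pow hm _) (hcomm _) h4 hadj

end

section bound

variable {F : Type u} [Field F] [Finite F] [CharP F 2]

theorem bd_step (L : ℕ → ℕ → Prop) (N : ℕ) (hN : 1 ≤ N)
    (ih : ∀ N', 1 ≤ N' → N' < N → Bd.{u, v} F N' (L N'))
    (hsplit : ∀ N₁ N₂, 1 ≤ N₁ → 1 ≤ N₂ → N₁ + N₂ = N → ∀ M₁, L N₁ M₁ → ∀ M₂, L N₂ M₂ → ∃ M, L N M ∧ M₁ ∣ M ∧ M₂ ∣ M)
    (huni : ∃ M i, L N M ∧ 2 * N ≤ 2 ^ i ∧ 2 ^ i ∣ M)
    (hplus : ∀ d k, 1 ≤ d → 1 ≤ k → d * k ≤ N → ∃ M i, L N M ∧ k ≤ 2 ^ i ∧ (Nat.card F ^ d + 1) * 2 ^ i ∣ M)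
    (hminus : ∀ d k, 1 ≤ d → 1 ≤ k → d * k ≤ N → ∃ M i, L N M ∧ k ≤ 2 ^ i ∧ (Nat.card F ^ d - 1) * 2 ^ i ∣ M) :
    Bd.{u, v} F N (L N) := by
  intro V _ _ _ B hV hB halt T hT m hm
  have key : ∀ {M M' : ℕ}, T ^ M = 1 → M ∣ M' → T ^ M' = 1 := by
    rintro M _ h ⟨c, rfl⟩
    rw [pow_mul, h, one_pow]
  rcases step hN hV hB halt T hT m hm with ⟨e, he, he0, he1, heT, hadj⟩ | h | ⟨d, k, hd, hk, hdk, h⟩ | ⟨d, k, hd, hk, hdk, h⟩
  · -- orthogonal decomposition
    set e' : Module.End F V := 1 - e with he'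
    have he'e' : e' * e' = e' := by
      rw [he', sub_mul, one_mul, mul_sub, mul_one, he, sub_self, sub_zero]
    have he'T : e' * T = T * e' := by rw [he', sub_mul, mul_sub, one_mul, mul_one, heT]
    have hadj' : ∀ x y, B (e' x) y = B x (e' y) := by
      intro x y
      rw [he', LinearMap.sub_apply, LinearMap.sub_apply, hB.sub_left, hB.sub_right, hadj]; rfl
    obtain ⟨N₁, hN₁⟩ := alt_even (restr_herm hB halt he hadj) (fun x => halt _)
    obtain ⟨N₂, hN₂⟩ := alt_even (restr_herm hB halt he'e' hadj') (fun x => halt _)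
    have hker : LinearMap.range e' = LinearMap.ker e := by
      ext x
      rw [LinearMap.mem_ker, LinearMap.mem_range]
      constructor
      · rintro ⟨y, rfl⟩
        rw [← Module.End.mul_apply, he', mul_sub, mul_one, he, sub_self]; rfl
      · intro h
        exact ⟨x, by rw [he', LinearMap.sub_apply, h, sub_zero]; rfl⟩
    have hsum := LinearMap.finrank_range_add_finrank_ker e
    rw [← hker, hN₁, hN₂, hV] at hsum
    have hN₁0 : N₁ ≠ 0 := by
      rintro rfl
      apply he0
      rw [← LinearMap.range_eq_bot]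
      exact Submodule.finrank_eq_zero.1 hN₁
    have hN₂0 : N₂ ≠ 0 := by
      rintro rfl
      apply he1
      have : e' = 0 := by
        rw [← LinearMap.range_eq_bot]
        exact Submodule.finrank_eq_zero.1 hN₂
      rw [he', sub_eq_zero] at this
      exact this.symm
    obtain ⟨M₁, hM₁, h₁⟩ := restr hB halt hT hm he heT hadj (by rw [hN₁]; ring) (ih N₁ (by omega) (by omega))
    obtain ⟨M₂, hM₂, h₂⟩ := restr hB halt hT hm he'e' he'T hadj' (by rw [hN₂]; ring) (ih N₂ (by omega) (by omega))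
    obtain ⟨M, hM, hd₁, hd₂⟩ := hsplit N₁ N₂ (by omega) (by omega) (by omega) M₁ hM₁ M₂ hM₂
    refine ⟨M, hM, ?_⟩
    have h₃ := pow_mul_eq_of_dvd h₁ hd₁
    have h₄ := pow_mul_eq_of_dvd h₂ hd₂
    calc T ^ M = T ^ M * (e + e') := by rw [he', add_sub_cancel, mul_one]
      _ = e + e' := by rw [mul_add, h₃, h₄]
      _ = 1 := by rw [he', add_sub_cancel]
  · obtain ⟨M, i, hM, hi, hd⟩ := huni
    exact ⟨M, hM, key (h i hi) hd⟩
  · obtain ⟨M, i, hM, hi, hdv⟩ := hplus d k hd hk hdk
    exact ⟨M, hM, key (h i hi) hdv⟩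
  · obtain ⟨M, i, hM, hi, hdv⟩ := hminus d k hd hk hdk
    exact ⟨M, hM, key (h i hi) hdv⟩

end bound

end Cfsg.Agent.Lib.SpBound67
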