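import Mathlib
import Cfsg.Agent.Lib.SpBound67

/-!
(helper67) Upper bounds for orders of isometries of alternating spaces of dimension 2, 4, 6, 8 in characteristic two.
-/

set_option autoImplicit false
set_option linter.unusedSectionVars false

namespace Cfsg.Agent.Lib.SpBound67

open Module

universe u v

/-- `2, q - 1, q + 1, q² + 1, q² + q + 1, q² - q + 1, q⁴ + 1` -/
def gg (q : ℕ) : Fin 7 → ℕ := ![2, q - 1, q + 1, q ^ 2 + 1, q ^ 2 + q + 1, q * (q - 1) + 1, q ^ 4 + 1]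

def val (q : ℕ) (s : Fin 7 → ℕ) : ℕ := ∏ i, gg q i ^ s i

def LL1 : List (Fin 7 → ℕ) := [![1,0,0,0,0,0,0], ![0,1,0,0,0,0,0], ![0,0,1,0,0,0,0]]

def LL2 : List (Fin 7 → ℕ) := [![2,0,0,0,0,0,0], ![1,1,0,0,0,0,0], ![1,0,1,0,0,0,0], ![0,1,1,0,0,0,0], ![0,0,0,1,0,0,0]]

def LL3 : List (Fin 7 → ℕ) := [![3,0,0,0,0,0,0], ![0,1,0,0,1,0,0], ![0,0,1,0,0,1,0], ![2,1,0,0,0,0,0], ![2,0,1,0,0,0,0],
  ![1,1,1,0,0,0,0], ![1,0,0,1,0,0,0], ![0,1,0,1,0,0,0], ![0,0,1,1,0,0,0]]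

def LL4 : List (Fin 7 → ℕ) := [![0,0,0,0,0,0,1], ![0,1,1,1,0,0,0], ![0,1,1,0,1,0,0], ![0,1,1,0,0,1,0],
  ![1,1,0,0,1,0,0], ![1,0,1,0,0,1,0], ![1,1,0,1,0,0,0], ![1,0,1,1,0,0,0], ![2,1,1,0,0,0,0], ![2,0,0,1,0,0,0],
  ![3,1,0,0,0,0,0], ![3,0,1,0,0,0,0]]

def LL (n : ℕ) : List (Fin 7 → ℕ) := if n = 1 then LL1 else if n = 2 then LL2 else if n = 3 then LL3 else LL4

def L (q n M : ℕ) : Prop := ∃ s ∈ LL n, M = val q s

theorem val_dvd (q : ℕ) {s s' : Fin 7 → ℕ} (h : ∀ i, s i ≤ s' i) : val q s ∣ val q s' :=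
  Finset.prod_dvd_prod_of_dvd _ _ fun i _ => pow_dvd_pow _ (h i)

theorem split_of {q : ℕ} {n₁ n₂ n : ℕ}
    (h : ∀ s₁ ∈ LL n₁, ∀ s₂ ∈ LL n₂, ∃ s ∈ LL n, (∀ i, s₁ i ≤ s i) ∧ (∀ i, s₂ i ≤ s i)) :
    ∀ M₁, L q n₁ M₁ → ∀ M₂, L q n₂ M₂ → ∃ M, L q n M ∧ M₁ ∣ M ∧ M₂ ∣ M := by
  rintro _ ⟨s₁, hs₁, rfl⟩ _ ⟨s₂, hs₂, rfl⟩
  obtain ⟨s, hs, h1, h2⟩ := h s₁ hs₁ s₂ hs₂
  exact ⟨_, ⟨s, hs, rfl⟩, val_dvd q h1, val_dvd q h2⟩

theorem sp11 : ∀ s₁ ∈ LL 1, ∀ s₂ ∈ LL 1, ∃ s ∈ LL 2, (∀ i, s₁ i ≤ s i) ∧ (∀ i, s₂ i ≤ s i) := by decide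
theorem sp12 : ∀ s₁ ∈ LL 1, ∀ s₂ ∈ LL 2, ∃ s ∈ LL 3, (∀ i, s₁ i ≤ s i) ∧ (∀ i, s₂ i ≤ s i) := by decide
theorem sp21 : ∀ s₁ ∈ LL 2, ∀ s₂ ∈ LL 1, ∃ s ∈ LL 3, (∀ i, s₁ i ≤ s i) ∧ (∀ i, s₂ i ≤ s i) := by decide
set_option maxRecDepth 4000 in
theorem sp13 : ∀ s₁ ∈ LL 1, ∀ s₂ ∈ LL 3, ∃ s ∈ LL 4, (∀ i, s₁ i ≤ s i) ∧ (∀ i, s₂ i ≤ s i) := by decide
set_option maxRecDepth 4000 in
theorem sp22 : ∀ s₁ ∈ LL 2, ∀ s₂ ∈ LL 2, ∃ s ∈ LL 4, (∀ i, s₁ i ≤ s i) ∧ (∀ i, s₂ i ≤ s i) := by decide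
set_option maxRecDepth 4000 in
theorem sp31 : ∀ s₁ ∈ LL 3, ∀ s₂ ∈ LL 1, ∃ s ∈ LL 4, (∀ i, s₁ i ≤ s i) ∧ (∀ i, s₂ i ≤ s i) := by decide

theorem val_eq (q : ℕ) (s : Fin 7 → ℕ) : val q s = 2 ^ s 0 * (q - 1) ^ s 1 * (q + 1) ^ s 2 * (q ^ 2 + 1) ^ s 3 *
    (q ^ 2 + q + 1) ^ s 4 * (q * (q - 1) + 1) ^ s 5 * (q ^ 4 + 1) ^ s 6 := by
  rw [val, Fin.prod_univ_seven]
  rfl

section bound

variable (F : Type u) [Field F] [Finite F] [CharP F 2]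

theorem mk_ex {q n M₀ i₀ k : ℕ} (s : Fin 7 → ℕ) (hs : s ∈ LL n) (hk : k ≤ 2 ^ i₀) (h : M₀ * 2 ^ i₀ ∣ val q s) :
    ∃ M i, L q n M ∧ k ≤ 2 ^ i ∧ M₀ * 2 ^ i ∣ M := ⟨_, i₀, ⟨s, hs, rfl⟩, hk, h⟩

theorem qm2 (r : ℕ) : (r + 1) ^ 2 - 1 = r * (r + 1 + 1) := Nat.sub_eq_of_eq_add (by ring)
theorem qm3 (r : ℕ) : (r + 1) ^ 3 - 1 = r * ((r + 1) ^ 2 + (r + 1) + 1) := Nat.sub_eq_of_eq_add (by ring)
theorem qm4 (r : ℕ) : (r + 1) ^ 4 - 1 = r * (r + 1 + 1) * ((r + 1) ^ 2 + 1) := Nat.sub_eq_of_eq_add (by ring)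
theorem qp3 (r : ℕ) : (r + 1) ^ 3 + 1 = (r + 1 + 1) * ((r + 1) * r + 1) := by ring

theorem bd1 : Bd.{u, v} F 1 (L (Nat.card F) 1) := by
  have hq : 1 < Nat.card F := Finite.one_lt_card
  obtain ⟨r, hr⟩ : ∃ r, Nat.card F = r + 1 := ⟨Nat.card F - 1, by omega⟩
  refine bd_step (L (Nat.card F)) 1 le_rfl (fun N' h1 h2 => by omega) (fun N₁ N₂ h1 h2 h3 => by omega) ?_ ?_ ?_
  · exact ⟨_, 1, ⟨![1,0,0,0,0,0,0], by decide, rfl⟩, by norm_num, by rw [val_eq]; simp⟩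
  · intro d k hd hk hdk
    have h1 : d = 1 := le_antisymm ((Nat.le_mul_of_pos_right _ hk).trans hdk) hd
    subst h1
    refine mk_ex (i₀ := 0) ![0,0,1,0,0,0,0] (by decide) (by omega) (by rw [val_eq]; simp)
  · intro d k hd hk hdk
    have h1 : d = 1 := le_antisymm ((Nat.le_mul_of_pos_right _ hk).trans hdk) hd
    subst h1
    refine mk_ex (i₀ := 0) ![0,1,0,0,0,0,0] (by decide) (by omega) (by rw [val_eq]; simp)

theorem bd2 : Bd.{u, v} F 2 (L (Nat.card F) 2) := by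
  have hq : 1 < Nat.card F := Finite.one_lt_card
  obtain ⟨r, hr⟩ : ∃ r, Nat.card F = r + 1 := ⟨Nat.card F - 1, by omega⟩
  refine bd_step (L (Nat.card F)) 2 (by omega) ?_ ?_ ?_ ?_ ?_
  · intro N' h1 h2
    have : N' = 1 := by omega
    subst this
    exact bd1 F
  · intro N₁ N₂ h1 h2 h3
    have h4 : N₁ = 1 := by omega
    have h5 : N₂ = 1 := by omega
    subst h4 h5
    exact split_of sp11
  · exact ⟨_, 2, ⟨![2,0,0,0,0,0,0], by decide, rfl⟩, by norm_num, by rw [val_eq]; simp⟩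
  · intro d k hd hk hdk
    have h1 : d ≤ 2 := (Nat.le_mul_of_pos_right _ hk).trans hdk
    interval_cases d
    · refine mk_ex (i₀ := 1) ![1,0,1,0,0,0,0] (by decide) (by omega) (by rw [val_eq, hr]; simp; ring_nf; exact dvd_rfl)
    · refine mk_ex (i₀ := 0) ![0,0,0,1,0,0,0] (by decide) (by omega) (by rw [val_eq, hr]; simp)
  · intro d k hd hk hdk
    have h1 : d ≤ 2 := (Nat.le_mul_of_pos_right _ hk).trans hdk
    interval_cases d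
    · refine mk_ex (i₀ := 1) ![1,1,0,0,0,0,0] (by decide) (by omega) (by rw [val_eq, hr]; simp; ring_nf; exact dvd_rfl)
    · refine mk_ex (i₀ := 0) ![0,1,1,0,0,0,0] (by decide) (by omega) (by rw [val_eq, hr, qm2]; simp)

theorem bd3 : Bd.{u, v} F 3 (L (Nat.card F) 3) := by
  have hq : 1 < Nat.card F := Finite.one_lt_card
  obtain ⟨r, hr⟩ : ∃ r, Nat.card F = r + 1 := ⟨Nat.card F - 1, by omega⟩
  refine bd_step (L (Nat.card F)) 3 (by omega) ?_ ?_ ?_ ?_ ?_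
  · intro N' h1 h2
    interval_cases N'
    · exact bd1 F
    · exact bd2 F
  · intro N₁ N₂ h1 h2 h3
    have h4 : N₁ ≤ 2 := by omega
    interval_cases N₁
    · have h5 : N₂ = 2 := by omega
      subst h5
      exact split_of sp12
    · have h5 : N₂ = 1 := by omega
      subst h5
      exact split_of sp21
  · exact ⟨_, 3, ⟨![3,0,0,0,0,0,0], by decide, rfl⟩, by norm_num, by rw [val_eq]; simp⟩
  · intro d k hd hk hdk
    have h1 : d ≤ 3 := (Nat.le_mul_of_pos_right _ hk).trans hdk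
    interval_cases d
    · refine mk_ex (i₀ := 2) ![2,0,1,0,0,0,0] (by decide) (by omega) (by rw [val_eq, hr]; simp; ring_nf; exact dvd_rfl)
    · refine mk_ex (i₀ := 0) ![1,0,0,1,0,0,0] (by decide) (by omega) (by rw [val_eq, hr]; simp)
    · refine mk_ex (i₀ := 0) ![0,0,1,0,0,1,0] (by decide) (by omega) (by rw [val_eq, hr, qp3]; simp)
  · intro d k hd hk hdk
    have h1 : d ≤ 3 := (Nat.le_mul_of_pos_right _ hk).trans hdk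
    interval_cases d
    · refine mk_ex (i₀ := 2) ![2,1,0,0,0,0,0] (by decide) (by omega) (by rw [val_eq, hr]; simp; ring_nf; exact dvd_rfl)
    · refine mk_ex (i₀ := 0) ![1,1,1,0,0,0,0] (by decide) (by omega) (by rw [val_eq, hr, qm2]; simp; exact ⟨2, by ring⟩)
    · refine mk_ex (i₀ := 0) ![0,1,0,0,1,0,0] (by decide) (by omega) (by rw [val_eq, hr, qm3]; simp)

theorem bd4 : Bd.{u, v} F 4 (L (Nat.card F) 4) := by
  have hq : 1 < Nat.card F := Finite.one_lt_card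
  obtain ⟨r, hr⟩ : ∃ r, Nat.card F = r + 1 := ⟨Nat.card F - 1, by omega⟩
  refine bd_step (L (Nat.card F)) 4 (by omega) ?_ ?_ ?_ ?_ ?_
  · intro N' h1 h2
    interval_cases N'
    · exact bd1 F
    · exact bd2 F
    · exact bd3 F
  · intro N₁ N₂ h1 h2 h3
    have h4 : N₁ ≤ 3 := by omega
    interval_cases N₁
    · have h5 : N₂ = 3 := by omega
      subst h5
      exact split_of sp13
    · have h5 : N₂ = 2 := by omega
      subst h5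
      exact split_of sp22
    · have h5 : N₂ = 1 := by omega
      subst h5
      exact split_of sp31
  · exact ⟨_, 3, ⟨![3,1,0,0,0,0,0], by decide, rfl⟩, by norm_num, by rw [val_eq]; simp⟩
  · intro d k hd hk hdk
    have h1 : d ≤ 4 := (Nat.le_mul_of_pos_right _ hk).trans hdk
    interval_cases d
    · refine mk_ex (i₀ := 2) ![3,0,1,0,0,0,0] (by decide) (by omega) (by rw [val_eq, hr]; simp; exact ⟨2, by ring⟩)
    · refine mk_ex (i₀ := 1) ![2,0,0,1,0,0,0] (by decide) (by omega) (by rw [val_eq, hr]; simp; exact ⟨2, by ring⟩)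
    · refine mk_ex (i₀ := 0) ![1,0,1,0,0,1,0] (by decide) (by omega) (by rw [val_eq, hr, qp3]; simp; exact ⟨2, by ring⟩)
    · refine mk_ex (i₀ := 0) ![0,0,0,0,0,0,1] (by decide) (by omega) (by rw [val_eq, hr]; simp)
  · intro d k hd hk hdk
    have h1 : d ≤ 4 := (Nat.le_mul_of_pos_right _ hk).trans hdk
    interval_cases d
    · refine mk_ex (i₀ := 2) ![3,1,0,0,0,0,0] (by decide) (by omega) (by rw [val_eq, hr]; simp; exact ⟨2, by ring⟩)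
    · refine mk_ex (i₀ := 1) ![2,1,1,0,0,0,0] (by decide) (by omega) (by rw [val_eq, hr, qm2]; simp; exact ⟨2, by ring⟩)
    · refine mk_ex (i₀ := 0) ![1,1,0,0,1,0,0] (by decide) (by omega) (by rw [val_eq, hr, qm3]; simp; exact ⟨2, by ring⟩)
    · refine mk_ex (i₀ := 0) ![0,1,1,1,0,0,0] (by decide) (by omega) (by rw [val_eq, hr, qm4]; simp)

end bound

end Cfsg.Agent.Lib.SpBound67
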