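import Mathlib
import Cfsg.Agent.Lib.OPiecesB67
import Cfsg.Agent.Lib.SpBoundB67

/-!
(helper67) Realization in the eight-dimensional orthogonal space of minus type.
-/

set_option autoImplicit false
set_option linter.unusedSectionVars false

namespace Cfsg.Agent.Lib.OReal67

open QuadraticMap Module Cfsg.Agent.Lib.Quad Cfsg.Agent.Lib.GaussSign67 Cfsg.Agent.Lib.SpBound67

universe u v w

variable {F : Type u} [Field F] [Finite F] {χ : AddChar F ℤ}

def GZ (χ : AddChar F ℤ) (N : ℕ) (ε : ℤ) (M : ℕ) (b z : Bool) : Prop := ∃ δ, (z = true → δ = 0) ∧ GR χ N ε δ M b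

theorem GZ.prod {N N' : ℕ} {ε ε' : ℤ} {M M' : ℕ} {b z : Bool} (h : GZ χ N ε M b z) (h' : GZ χ N' ε' M' b z)
    (hc : Nat.Coprime M M') : GZ χ (N + N') (ε * ε') (M * M') b z := by
  obtain ⟨δ, h1, h2⟩ := h
  obtain ⟨δ', h1', h2'⟩ := h'
  refine ⟨(δ + δ') % 2, fun hz => ?_, ?_⟩
  · rw [h1 hz, h1' hz]
  · have h3 := GR.prod h2 h2'
    rw [hc.lcm_eq_mul] at h3
    exact h3

theorem GZ.cast {N N' : ℕ} {ε ε' : ℤ} {M M' : ℕ} {b z : Bool} (h : GZ χ N ε M b z) (hN : N = N') (hε : ε = ε') (hM : M = M') :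
    GZ χ N' ε' M' b z := by
  subst hN hε hM; exact h

theorem cop {x y : ℕ} (hx : Odd x) (u v : ℤ) (h : (x : ℤ) * u + (y : ℤ) * v = 2) : Nat.Coprime x y := by
  have h1 : ((Nat.gcd x y : ℕ) : ℤ) ∣ 2 := by
    rw [← h]
    apply dvd_add
    · exact Dvd.dvd.mul_right (by exact_mod_cast Nat.gcd_dvd_left x y) _
    · exact Dvd.dvd.mul_right (by exact_mod_cast Nat.gcd_dvd_right x y) _
  have h2 : Nat.gcd x y ∣ 2 := by exact_mod_cast h1
  have h3 : Odd (Nat.gcd x y) := Odd.of_dvd_nat hx (Nat.gcd_dvd_left x y)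
  rcases (Nat.dvd_prime Nat.prime_two).1 h2 with h4 | h4
  · exact h4
  · rw [h4] at h3; exact absurd h3 (by decide)

theorem cop2 {x : ℕ} (hx : Odd x) (k : ℕ) : Nat.Coprime x (2 ^ k) :=
  Nat.Coprime.pow_right k (Nat.coprime_two_right.2 hx)

theorem real {q : ℕ} (hq : Even q) (hq0 : q ≠ 0) {b z : Bool}
    (P : ∀ d, 1 ≤ d → GZ χ d 1 (q ^ d - 1) b z) (M : ∀ d, 1 ≤ d → GZ χ d (-1) (q ^ d + 1) b z)
    (U1 : ∀ ε : ℤ, ε = 1 ∨ ε = -1 → GZ χ 1 ε 2 b z) (U2 : ∀ ε : ℤ, ε = 1 ∨ ε = -1 → GZ χ 2 ε 4 b z)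
    (U3 : ∀ ε : ℤ, ε = 1 ∨ ε = -1 → GZ χ 3 ε 8 b z) :
    ∀ s ∈ LL 4, GZ χ 4 (-1) (val q s) b z := by
  obtain ⟨r, rfl⟩ : ∃ r, q = r + 1 := ⟨q - 1, by omega⟩
  have hr : Odd r := by
    rcases Nat.even_or_odd r with h | h
    · exact absurd hq (Nat.not_even_iff_odd.2 h.add_one)
    · exact h
  have ha : Odd ((r + 1) ^ 1 - 1) := by simpa using hr
  have hb : Odd ((r + 1) ^ 1 + 1) := by rw [pow_one]; exact hq.add_one
  have hc : Odd ((r + 1) ^ 2 + 1) := (hq.pow_of_ne_zero (by norm_num)).add_one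
  have hp3 : Odd ((r + 1) ^ 3 + 1) := (hq.pow_of_ne_zero (by norm_num)).add_one
  have hm2 : Odd ((r + 1) ^ 2 - 1) := by rw [qm2]; exact hr.mul hq.add_one
  have hm3 : Odd ((r + 1) ^ 3 - 1) := by
    rw [qm3]; exact hr.mul (((hq.pow_of_ne_zero (by norm_num)).add hq).add_one)
  have hU1p := U1 1 (Or.inl rfl)
  have hU1m := U1 (-1) (Or.inr rfl)
  have hU2p := U2 1 (Or.inl rfl)
  have hU2m := U2 (-1) (Or.inr rfl)
  have hU3p := U3 1 (Or.inl rfl)
  have hU3m := U3 (-1) (Or.inr rfl)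
  intro s hs
  have hs' : s ∈ LL4 := hs
  simp only [LL4, List.mem_cons, List.not_mem_nil, or_false] at hs'
  rcases hs' with rfl | rfl | rfl | rfl | rfl | rfl | rfl | rfl | rfl | rfl | rfl | rfl
  · exact (M 4 (by norm_num)).cast rfl rfl (by rw [val_eq]; simp)
  · exact ((P 2 (by norm_num)).prod (M 2 (by norm_num)) (cop hm2 (-1) 1 (by
      rw [qm2]; push_cast; ring))).cast rfl (by norm_num) (by rw [val_eq, qm2]; simp)
  · exact ((P 3 (by norm_num)).prod (M 1 (by norm_num)) (cop hm3 (-1) ((r + 1 : ℤ) * r + 1) (by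
      rw [qm3]; push_cast; ring))).cast rfl (by norm_num) (by rw [val_eq, qm3]; simp; ring)
  · exact ((M 3 (by norm_num)).prod (P 1 (by norm_num)) (cop hp3 1 (-((r + 1 : ℤ) ^ 2 + (r + 1) + 1)) (by
      push_cast; simp; ring))).cast rfl (by norm_num) (by rw [val_eq, qp3]; simp; ring)
  · exact ((P 3 (by norm_num)).prod hU1m (cop2 hm3 1)).cast rfl (by norm_num) (by rw [val_eq, qm3]; simp; ring)
  · exact ((M 3 (by norm_num)).prod hU1p (cop2 hp3 1)).cast rfl (by norm_num) (by rw [val_eq, qp3]; simp; ring)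
  · exact (((P 1 (by norm_num)).prod (M 2 (by norm_num)) (cop ha (-(r + 2 : ℤ)) 1 (by
      simp; ring))).prod hU1p (cop2 (ha.mul hc) 1)).cast rfl (by norm_num) (by rw [val_eq]; simp; ring)
  · exact (((M 1 (by norm_num)).prod (M 2 (by norm_num)) (cop hb (-(r : ℤ)) 1 (by
      push_cast; ring))).prod hU1m (cop2 (hb.mul hc) 1)).cast rfl (by norm_num) (by rw [val_eq]; simp; ring)
  · exact ((P 2 (by norm_num)).prod hU2m (cop2 hm2 2)).cast rfl (by norm_num) (by rw [val_eq, qm2]; simp; ring)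
  · exact ((M 2 (by norm_num)).prod hU2p (cop2 hc 2)).cast rfl (by norm_num) (by rw [val_eq]; simp; ring)
  · exact ((P 1 (by norm_num)).prod hU3m (cop2 ha 3)).cast rfl (by norm_num) (by rw [val_eq]; simp; ring)
  · exact ((M 1 (by norm_num)).prod hU3p (cop2 hb 3)).cast rfl (by norm_num) (by rw [val_eq]; simp; ring)

variable [CharP F 2]

theorem card_even : Even (Nat.card F) := by
  have hF := Fintype.ofFinite F
  rw [Nat.card_eq_fintype_card]
  obtain ⟨n, hn, h⟩ := FiniteField.card F 2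
  rw [h]
  exact (by decide : Even 2).pow_of_ne_zero n.ne_zero

/-- the linear pieces -/
theorem real_false (hχ : χ ≠ 1) (hχ1 : ∀ x, χ x = 1 ∨ χ x = -1)
    (hab : ∃ a b : F, ∀ z₁ z₂ : F, z₁ ^ 2 + a * z₁ * z₂ + b * z₂ ^ 2 = 0 → z₁ = 0 ∧ z₂ = 0) :
    ∀ s ∈ LL 4, ∃ δ, GR χ 4 (-1) δ (val (Nat.card F) s) false := by
  obtain ⟨a, b, hab'⟩ := hab
  have ha : a ≠ 0 := by
    rintro rfl
    have hF := Fintype.ofFinite F
    obtain ⟨t, ht⟩ := FiniteField.isSquare_of_char_two (F := F) (ringChar.eq_iff.2 inferInstance) b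
    have := hab' t 1 (by rw [ht]; linear_combination (t * t) * (CharTwo.two_eq_zero : (2 : F) = 0))
    exact one_ne_zero this.2
  obtain ⟨u1, u2, -, u4, u5⟩ := GR.U1 (χ := χ) (ε := 1) (a := (1 : F)) (b := 0) one_ne_zero (by rw [gs_pl_plus hχ, one_mul]) hχ
  obtain ⟨v1, v2, -, v4, v5⟩ := GR.U1 (χ := χ) (ε := -1) (a := a) (b := b) ha (by rw [gs_pl_minus hχ hab']; ring) hχ
  intro s hs
  obtain ⟨δ, -, h⟩ := real (χ := χ) (q := Nat.card F) card_even Nat.card_pos.ne' (b := false) (z := false)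
    (fun d hd => ⟨_, fun h => absurd h (by decide), GR.P hχ hd⟩)
    (fun d hd => ⟨_, fun h => absurd h (by decide), GR.Mm hχ hχ1 ⟨a, b, hab'⟩ hd⟩)
    (by
      rintro ε (rfl | rfl)
      · exact ⟨_, fun h => absurd h (by decide), u1⟩
      · exact ⟨_, fun h => absurd h (by decide), v1⟩)
    (by
      rintro ε (rfl | rfl)
      · exact ⟨_, fun h => absurd h (by decide), u4⟩
      · exact ⟨_, fun h => absurd h (by decide), v4⟩)
    (by
      rintro ε (rfl | rfl)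
      · obtain ⟨δ, h⟩ := GR.ext hχ u5
        exact ⟨δ, fun h => absurd h (by decide), h⟩
      · obtain ⟨δ, h⟩ := GR.ext hχ v5
        exact ⟨δ, fun h => absurd h (by decide), h⟩) s hs
  exact ⟨δ, h⟩

/-- the affine pieces, in the index two subgroup -/
theorem real_true (hχ : χ ≠ 1) (hχ1 : ∀ x, χ x = 1 ∨ χ x = -1)
    (hab : ∃ a b : F, ∀ z₁ z₂ : F, z₁ ^ 2 + a * z₁ * z₂ + b * z₂ ^ 2 = 0 → z₁ = 0 ∧ z₂ = 0) :
    ∀ s ∈ LL 4, GR χ 4 (-1) 0 (val (Nat.card F) s) true := by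
  obtain ⟨a, b, hab'⟩ := hab
  have ha : a ≠ 0 := by
    rintro rfl
    have hF := Fintype.ofFinite F
    obtain ⟨t, ht⟩ := FiniteField.isSquare_of_char_two (F := F) (ringChar.eq_iff.2 inferInstance) b
    have := hab' t 1 (by rw [ht]; linear_combination (t * t) * (CharTwo.two_eq_zero : (2 : F) = 0))
    exact one_ne_zero this.2
  obtain ⟨u1, u2, u3, u4, u5⟩ := GR.U1 (χ := χ) (ε := 1) (a := (1 : F)) (b := 0) one_ne_zero (by rw [gs_pl_plus hχ, one_mul]) hχ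
  obtain ⟨v1, v2, v3, v4, v5⟩ := GR.U1 (χ := χ) (ε := -1) (a := a) (b := b) ha (by rw [gs_pl_minus hχ hab']; ring) hχ
  intro s hs
  obtain ⟨δ, h0, h⟩ := real (χ := χ) (q := Nat.card F) card_even Nat.card_pos.ne' (b := true) (z := true)
    (fun d hd => ⟨_, fun _ => rfl, (GR.P hχ hd).aff⟩)
    (fun d hd => ⟨_, fun _ => rfl, (GR.Mm hχ hχ1 ⟨a, b, hab'⟩ hd).aff⟩)
    (by
      rintro ε (rfl | rfl)
      · exact ⟨_, fun _ => rfl, u3⟩
      · exact ⟨_, fun _ => rfl, v3⟩)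
    (by
      rintro ε (rfl | rfl)
      · exact ⟨_, fun _ => rfl, by simpa using (u2.prod u1.aff).dvd (M' := 4) (by decide)⟩
      · exact ⟨_, fun _ => rfl, by simpa using (u2.prod v1.aff).dvd (M' := 4) (by decide)⟩)
    (by
      rintro ε (rfl | rfl)
      · exact ⟨_, fun _ => rfl, by simpa using (u5.prod u1.aff).dvd (M' := 8) (by decide)⟩
      · exact ⟨_, fun _ => rfl, by simpa using (u5.prod v1.aff).dvd (M' := 8) (by decide)⟩) s hs
  rw [h0 rfl] at h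
  exact h

end Cfsg.Agent.Lib.OReal67
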