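import Mathlib
import Cfsg.Agent.Lib.HupC

/-!
# Groups of odd order with a maximal abelian normal subgroup: the layers above it (helper61)
-/

set_option autoImplicit false

open Subgroup
open scoped commutatorElement

namespace Cfsg.Agent.Lib.OddBaseA

variable {A : Type*} [Group A]

theorem comm_mem_iff (Z : Subgroup A) [Z.Normal] (a x : A) :
    ⁅a, x⁆ ∈ Z ↔ (a : A ⧸ Z) * (x : A ⧸ Z) = (x : A ⧸ Z) * (a : A ⧸ Z) := by
  rw [← QuotientGroup.eq_one_iff, ← commutatorElement_eq_one_iff_mul_comm]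
  rfl

/-- elements of `A` centralising `M` modulo `Z` -/
def CZ (Z M : Subgroup A) [Z.Normal] : Subgroup A :=
  (Subgroup.centralizer ((M.map (QuotientGroup.mk' Z) : Subgroup (A ⧸ Z)) : Set (A ⧸ Z))).comap (QuotientGroup.mk' Z)

theorem mem_CZ {Z M : Subgroup A} [Z.Normal] {a : A} : a ∈ CZ Z M ↔ ∀ x ∈ M, ⁅a, x⁆ ∈ Z := by
  unfold CZ
  rw [Subgroup.mem_comap, Subgroup.mem_centralizer_iff]
  constructor
  · intro h x hx
    rw [comm_mem_iff]
    exact (h _ ⟨x, hx, rfl⟩).symm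
  · rintro h _ ⟨x, hx, rfl⟩
    exact ((comm_mem_iff Z a x).mp (h x hx)).symm

instance CZ_normal (Z M : Subgroup A) [Z.Normal] [M.Normal] : (CZ Z M).Normal := by
  unfold CZ
  have : (M.map (QuotientGroup.mk' Z)).Normal := Subgroup.Normal.map inferInstance _ (QuotientGroup.mk'_surjective Z)
  infer_instance

/-- the set of elements centralised modulo `Z` by `a` -/
def PZ (Z : Subgroup A) [Z.Normal] (a : A) : Subgroup A :=
  (Subgroup.centralizer ({(a : A ⧸ Z)} : Set (A ⧸ Z))).comap (QuotientGroup.mk' Z)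

theorem mem_PZ {Z : Subgroup A} [Z.Normal] {a x : A} : x ∈ PZ Z a ↔ ⁅a, x⁆ ∈ Z := by
  unfold PZ
  rw [Subgroup.mem_comap, Subgroup.mem_centralizer_iff, comm_mem_iff]
  simp

theorem Z_le_PZ {Z : Subgroup A} [hZ : Z.Normal] {a : A} : Z ≤ PZ Z a := by
  intro x hx
  rw [mem_PZ, commutatorElement_def]
  have h1 := hZ.conj_mem x hx a
  exact mul_mem h1 (inv_mem hx)

/-- `Z` is a maximal abelian normal subgroup -/
structure MaxAb (Z : Subgroup A) : Prop where
  norm : Z.Normal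
  comm : ∀ x ∈ Z, ∀ y ∈ Z, x * y = y * x
  max : ∀ N : Subgroup A, N.Normal → (∀ x ∈ N, ∀ y ∈ N, x * y = y * x) → Z ≤ N → N = Z

theorem exists_maxAb [Finite A] : ∃ Z : Subgroup A, MaxAb Z := by
  have hfin : (Set.univ : Set (Subgroup A)).Finite := Set.toFinite _
  let S : Set (Subgroup A) := {N | N.Normal ∧ ∀ x ∈ N, ∀ y ∈ N, x * y = y * x}
  have hS : S.Nonempty := by
    refine ⟨⊥, inferInstance, ?_⟩
    intro x hx y hy
    rw [Subgroup.mem_bot.mp hx, Subgroup.mem_bot.mp hy]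
  obtain ⟨Z, hZ⟩ := (Set.toFinite S).exists_maximal hS
  refine ⟨Z, hZ.prop.1, hZ.prop.2, ?_⟩
  intro N h1 h2 h3
  exact le_antisymm (hZ.le_of_ge ⟨h1, h2⟩ h3) h3

/-- a layer: minimal normal above `Z` inside the centraliser of `Z` -/
structure Layer (Z M : Subgroup A) : Prop where
  norm : M.Normal
  lt : Z < M
  cen : M ≤ centralizer (Z : Set A)
  min : ∀ N : Subgroup A, N.Normal → Z ≤ N → N ≤ M → N = Z ∨ N = M

theorem exists_layer [Finite A] {Z X : Subgroup A} (hX : X.Normal) (hlt : Z < X)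
    (hc : X ≤ centralizer (Z : Set A)) : ∃ M, Layer Z M ∧ M ≤ X := by
  let S : Set (Subgroup A) := {N | N.Normal ∧ Z < N ∧ N ≤ X}
  obtain ⟨M, hM⟩ := (Set.toFinite S).exists_minimal ⟨X, hX, hlt, le_rfl⟩
  refine ⟨M, ⟨hM.prop.1, hM.prop.2.1, hM.prop.2.2.trans hc, ?_⟩, hM.prop.2.2⟩
  intro N h1 h2 h3
  by_cases h : N = Z
  · exact Or.inl h
  · right
    exact le_antisymm h3 (hM.le_of_le ⟨h1, lt_of_le_of_ne h2 (Ne.symm h), h3.trans hM.prop.2.2⟩ h3)

variable {Z M : Subgroup A}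

theorem MaxAb.cen_eq (hZ : MaxAb Z) {F : Subgroup A} (hF : F.Normal) (h1 : Z ≤ F) (h2 : F ≤ centralizer (Z : Set A))
    {x : A} (hx : x ∈ F) (hxc : ∀ y ∈ F, x * y = y * x) : x ∈ Z := by
  have := hZ.norm
  have h3 : F ⊓ centralizer (F : Set A) = Z := by
    apply hZ.max
    · infer_instance
    · rintro a ⟨ha1, ha2⟩ b ⟨hb1, hb2⟩
      exact Subgroup.mem_centralizer_iff.mp hb2 a ha1
    · intro z hz
      refine Subgroup.mem_inf.mpr ⟨h1 hz, ?_⟩
      rw [Subgroup.mem_centralizer_iff]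
      intro y hy
      exact (Subgroup.mem_centralizer_iff.mp (h2 hy) z hz).symm
  rw [← h3]
  refine Subgroup.mem_inf.mpr ⟨hx, ?_⟩
  rw [Subgroup.mem_centralizer_iff]
  intro y hy
  exact (hxc y hy).symm

theorem Layer.comm_mem [Group.IsSolvable A] [Z.Normal] (hM : Layer Z M) : ∀ x ∈ M, ∀ y ∈ M, ⁅x, y⁆ ∈ Z := by
  have := hM.norm
  have hne : M.map (QuotientGroup.mk' Z) ≠ ⊥ := by
    intro h
    rw [Subgroup.map_eq_bot_iff, QuotientGroup.ker_mk'] at h
    exact absurd h hM.lt.not_ge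
  have hlt := Group.IsSolvable.commutator_lt_of_ne_bot hne
  rw [← Subgroup.map_commutator] at hlt
  have hN : Z ⊔ ⁅M, M⁆ = Z := by
    rcases hM.min (Z ⊔ ⁅M, M⁆) inferInstance le_sup_left
      (sup_le hM.lt.le (Subgroup.commutator_le_right M M)) with h | h
    · exact h
    · exfalso
      have h1 : M.map (QuotientGroup.mk' Z) = (⁅M, M⁆).map (QuotientGroup.mk' Z) := by
        conv_lhs => rw [← h]
        rw [Subgroup.map_sup]
        have : Z.map (QuotientGroup.mk' Z) = ⊥ := by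
          rw [Subgroup.map_eq_bot_iff, QuotientGroup.ker_mk']
        rw [this, bot_sup_eq]
      exact hlt.ne h1.symm
  intro x hx y hy
  rw [← hN]
  exact (le_sup_right : ⁅M, M⁆ ≤ Z ⊔ ⁅M, M⁆) (Subgroup.commutator_mem_commutator hx hy)

/-- A layer has prime exponent modulo `Z`. -/
theorem Layer.exists_prime [Finite A] [Group.IsSolvable A] [hZn : Z.Normal] (hM : Layer Z M) :
    ∃ r : ℕ, r.Prime ∧ ∀ x ∈ M, x ^ r ∈ Z := by
  have := hM.norm
  have hcomm := hM.comm_mem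
  have hne : Nat.card (M.map (QuotientGroup.mk' Z)) ≠ 1 := by
    intro h
    rw [Subgroup.card_eq_one, Subgroup.map_eq_bot_iff, QuotientGroup.ker_mk'] at h
    exact absurd h hM.lt.not_ge
  set r := (Nat.card (M.map (QuotientGroup.mk' Z))).minFac with hr
  have hrp : r.Prime := Nat.minFac_prime hne
  have : Fact r.Prime := ⟨hrp⟩
  -- the subgroup of elements whose r-th power is in Z
  have hcQ : ∀ x ∈ M, ∀ y ∈ M, (x : A ⧸ Z) * (y : A ⧸ Z) = (y : A ⧸ Z) * (x : A ⧸ Z) := by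
    intro x hx y hy
    exact (comm_mem_iff Z x y).mp (hcomm x hx y hy)
  let N : Subgroup A :=
    { carrier := {x | x ∈ M ∧ x ^ r ∈ Z}
      one_mem' := ⟨one_mem _, by rw [one_pow]; exact one_mem _⟩
      mul_mem' := by
        rintro a b ⟨ha, har⟩ ⟨hb, hbr⟩
        refine ⟨mul_mem ha hb, ?_⟩
        rw [← QuotientGroup.eq_one_iff] at har hbr ⊢
        have hc : Commute (a : A ⧸ Z) (b : A ⧸ Z) := hcQ a ha b hb
        rw [QuotientGroup.mk_pow, QuotientGroup.mk_mul, hc.mul_pow, ← QuotientGroup.mk_pow, ← QuotientGroup.mk_pow,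
          har, hbr, one_mul]
      inv_mem' := by
        rintro a ⟨ha, har⟩
        refine ⟨inv_mem ha, ?_⟩
        rw [inv_pow]
        exact inv_mem har }
  have hNn : N.Normal := by
    constructor
    rintro x ⟨hx, hxr⟩ g
    refine ⟨hM.norm.conj_mem x hx g, ?_⟩
    have : (g * x * g⁻¹) ^ r = g * x ^ r * g⁻¹ := by rw [conj_pow]
    rw [this]
    exact hZn.conj_mem _ hxr g
  have hZN : Z ≤ N := fun z hz => ⟨hM.lt.le hz, pow_mem hz r⟩
  have hNM : N ≤ M := fun x hx => hx.1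
  refine ⟨r, hrp, ?_⟩
  rcases hM.min N hNn hZN hNM with h | h
  · exfalso
    obtain ⟨y', hy'⟩ := exists_prime_orderOf_dvd_card' (G := M.map (QuotientGroup.mk' Z)) r (Nat.minFac_dvd _)
    have hy : orderOf (y' : A ⧸ Z) = r := by rw [Subgroup.orderOf_coe]; exact hy'
    obtain ⟨x, hx, hxy⟩ := Subgroup.mem_map.mp y'.2
    have h1 : (x : A ⧸ Z) ^ r = 1 := by
      have h3 : (x : A ⧸ Z) = y' := hxy
      rw [h3, ← hy, pow_orderOf_eq_one]
    have h2 : x ∈ N := by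
      refine ⟨hx, ?_⟩
      rw [← QuotientGroup.eq_one_iff, QuotientGroup.mk_pow]
      exact h1
    rw [h] at h2
    have h3 : (y' : A ⧸ Z) = 1 := by
      rw [← hxy]
      exact (QuotientGroup.eq_one_iff x).mpr h2
    rw [h3, orderOf_one] at hy
    exact hrp.one_lt.ne hy
  · intro x hx
    have : x ∈ N := h ▸ hx
    exact this.2

theorem mem_zpowers_of_pow {C : Type*} [Group C] [Finite C] [IsCyclic C] {r : ℕ} (hr : r.Prime) {c w : C}
    (hc : orderOf c = r) (hw : w ^ r = 1) : w ∈ Subgroup.zpowers c := by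
  have : Fintype C := Fintype.ofFinite C
  classical
  have h1 : ((Finset.univ : Finset C).filter (fun a => a ^ r = 1)).card ≤ r := IsCyclic.card_pow_eq_one_le hr.pos
  have h2 : ((Subgroup.zpowers c : Set C).toFinset) ⊆ (Finset.univ : Finset C).filter (fun a => a ^ r = 1) := by
    intro t ht
    rw [Set.mem_toFinset] at ht
    obtain ⟨k, rfl⟩ := ht
    rw [Finset.mem_filter]
    refine ⟨Finset.mem_univ _, ?_⟩
    simp only
    rw [← zpow_natCast, zpow_comm, zpow_natCast, ← hc, pow_orderOf_eq_one, one_zpow]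
  have h3 : (Subgroup.zpowers c : Set C).toFinset.card = r := by
    rw [Set.toFinset_card, ← Nat.card_eq_fintype_card]
    exact (Nat.card_zpowers c).trans hc
  have h4 := Finset.eq_of_subset_of_card_le h2 (by rw [h3]; exact h1)
  have h5 : w ∈ (Subgroup.zpowers c : Set C).toFinset := by
    rw [h4, Finset.mem_filter]
    exact ⟨Finset.mem_univ _, hw⟩
  rwa [Set.mem_toFinset] at h5

/-- subgroups `F` between `Z` and its centraliser with commutators in `Z` -/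
theorem commute_of_le {F : Subgroup A} (hF : F ≤ centralizer (Z : Set A)) {x z : A} (hx : x ∈ F) (hz : z ∈ Z) :
    x * z = z * x := (Subgroup.mem_centralizer_iff.mp (hF hx) z hz).symm

theorem comm_mem_center {F : Subgroup A} (hc : F ≤ centralizer (Z : Set A)) (h : ∀ x ∈ F, ∀ y ∈ F, ⁅x, y⁆ ∈ Z)
    (x y : F) : ⁅x, y⁆ ∈ center F := by
  rw [Subgroup.mem_center_iff]
  intro g
  apply Subtype.ext
  exact commute_of_le hc g.2 (h x x.2 y y.2)

theorem card_center_eq {F : Subgroup A} (hZF : Z ≤ F) (hc : F ≤ centralizer (Z : Set A))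
    (hcen : ∀ x ∈ F, (∀ y ∈ F, x * y = y * x) → x ∈ Z) : (center F).map F.subtype = Z := by
  ext x
  constructor
  · rintro ⟨y, hy, rfl⟩
    refine hcen y y.2 ?_
    intro w hw
    exact (congrArg Subtype.val (Subgroup.mem_center_iff.mp hy ⟨w, hw⟩)).symm
  · intro hx
    refine ⟨⟨x, hZF hx⟩, ?_, rfl⟩
    show (⟨x, hZF hx⟩ : F) ∈ center F
    rw [Subgroup.mem_center_iff]
    intro g
    apply Subtype.ext
    exact commute_of_le hc g.2 hx

theorem card_center_eq' {F : Subgroup A} (hZF : Z ≤ F) (hc : F ≤ centralizer (Z : Set A))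
    (hcen : ∀ x ∈ F, (∀ y ∈ F, x * y = y * x) → x ∈ Z) : Nat.card (center F) = Nat.card Z := by
  rw [← card_center_eq hZF hc hcen]
  exact Nat.card_congr ((Subgroup.center F).equivMapOfInjective _ (Subgroup.subtype_injective _)).toEquiv

theorem comm_pow_eq_one {F : Subgroup A} (hc : F ≤ centralizer (Z : Set A)) (h : ∀ x ∈ F, ∀ y ∈ F, ⁅x, y⁆ ∈ Z)
    {x y : A} (hx : x ∈ F) (hy : y ∈ F) {r : ℕ} (hr : x ^ r ∈ Z) : ⁅x, y⁆ ^ r = 1 := by
  have h1 := PGroupClassTwo.comm_pow_left (comm_mem_center hc h) (⟨x, hx⟩ : F) ⟨y, hy⟩ r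
  have h2 : ⁅x ^ r, y⁆ = ⁅x, y⁆ ^ r := congrArg Subtype.val h1
  rw [← h2, commutatorElement_eq_one_iff_mul_comm]
  exact (commute_of_le hc hy hr).symm

theorem Layer.xc [Finite A] [Group.IsSolvable A] (hZ : MaxAb Z) (hcyc : IsCyclic Z) (hM : Layer Z M) {r : ℕ}
    (hr : r.Prime) (hpow : ∀ x ∈ M, x ^ r ∈ Z) : r ∣ Nat.card Z ∧ ∃ z : M, HupC.XC r M z := by
  have := hZ.norm
  have hMn := hM.norm
  have : Fact r.Prime := ⟨hr⟩
  have hcomm := hM.comm_mem
  obtain ⟨x, hx, y, hy, hxy⟩ : ∃ x ∈ M, ∃ y ∈ M, x * y ≠ y * x := by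
    by_contra hcon
    push Not at hcon
    exact hM.lt.ne (hZ.max M hM.norm hcon hM.lt.le).symm
  have hc1 : ⁅x, y⁆ ≠ 1 := fun h => hxy (commutatorElement_eq_one_iff_mul_comm.mp h)
  have hcr : ⁅x, y⁆ ^ r = 1 := comm_pow_eq_one hM.cen hcomm hx hy (hpow x hx)
  have hord : orderOf ⁅x, y⁆ = r := orderOf_eq_prime hcr hc1
  have hcZ := hcomm x hx y hy
  have hordZ : orderOf (⟨⁅x, y⁆, hcZ⟩ : Z) = r := by rw [Subgroup.orderOf_mk, hord]
  refine ⟨?_, ⟨⁅(⟨x, hx⟩ : M), ⟨y, hy⟩⁆, ?_, comm_mem_center hM.cen hcomm _ _, ?_⟩⟩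
  · rw [← hordZ]
    exact orderOf_dvd_natCard _
  · rw [← Subgroup.orderOf_coe]
    exact hord
  · intro a b
    have h1 : (⟨⁅(a : A), (b : A)⁆, hcomm a a.2 b b.2⟩ : Z) ∈ Subgroup.zpowers (⟨⁅x, y⁆, hcZ⟩ : Z) := by
      apply mem_zpowers_of_pow hr hordZ
      apply Subtype.ext
      exact comm_pow_eq_one hM.cen hcomm a.2 b.2 (hpow a a.2)
    obtain ⟨k, hk⟩ := h1
    refine ⟨k, ?_⟩
    apply Subtype.ext
    have := congrArg Subtype.val hk
    show (⁅x, y⁆ : A) ^ k = ⁅(a : A), (b : A)⁆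
    simpa using this

theorem Layer.exists_card [Finite A] [Group.IsSolvable A] (hZ : MaxAb Z) (hcyc : IsCyclic Z) (hM : Layer Z M) :
    ∃ r n : ℕ, r.Prime ∧ 1 ≤ n ∧ r ∣ Nat.card Z ∧ (∀ x ∈ M, x ^ r ∈ Z) ∧ Nat.card M = r ^ (2 * n) * Nat.card Z := by
  have := hZ.norm
  have hMn := hM.norm
  obtain ⟨r, hr, hpow⟩ := hM.exists_prime
  have : Fact r.Prime := ⟨hr⟩
  obtain ⟨hrZ, z, hz⟩ := hM.xc hZ hcyc hr hpow
  obtain ⟨n, hn⟩ := hz.exists_card
  rw [card_center_eq' hM.lt.le hM.cen (fun x hx h => hZ.cen_eq hMn hM.lt.le hM.cen hx h)] at hn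
  refine ⟨r, n, hr, ?_, hrZ, hpow, hn⟩
  by_contra h
  have h0 : n = 0 := by omega
  rw [h0, mul_zero, pow_zero, one_mul] at hn
  exact hM.lt.ne (Subgroup.eq_of_le_of_card_ge hM.lt.le hn.le)

end Cfsg.Agent.Lib.OddBaseA
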