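import Cfsg.Agent.Lib.OddBaseA
import Cfsg.Agent.Lib.SubgroupTools

/-!
# Groups of odd order with a maximal abelian normal subgroup: the product of the layers (helper61)
-/

set_option autoImplicit false

open Subgroup
open scoped commutatorElement

namespace Cfsg.Agent.Lib.OddBaseB

open OddBaseA

variable {A : Type*} [Group A]

/-- products of layers -/
structure Good (Z F : Subgroup A) [Z.Normal] (e : ℕ) : Prop where
  norm : F.Normal
  le : Z ≤ F
  cen : F ≤ centralizer (Z : Set A)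
  comm : ∀ x ∈ F, ∀ y ∈ F, ⁅x, y⁆ ∈ Z
  card : Nat.card F = e ^ 2 * Nat.card Z
  prime : ∀ s : ℕ, s.Prime → s ∣ e → s ∣ Nat.card Z
  idx : (CZ Z F).index ≤ e ^ 4
  gen : ∀ X : Subgroup A, Z ≤ X → (∀ M, Layer Z M → M ≤ F → M ≤ X) → F ≤ X

variable {Z F M : Subgroup A}

theorem good_bot [Z.Normal] (hcomm : ∀ x ∈ Z, ∀ y ∈ Z, x * y = y * x) : Good Z Z 1 := by
  refine ⟨inferInstance, le_rfl, ?_, ?_, by simp, ?_, ?_, fun X h _ => h⟩
  · intro x hx
    rw [Subgroup.mem_centralizer_iff]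
    intro y hy
    exact hcomm y hy x hx
  · intro x hx y hy
    rw [commutatorElement_eq_one_iff_mul_comm.mpr (hcomm x hx y hy)]
    exact one_mem _
  · intro s hs h1
    exact absurd (Nat.eq_one_of_dvd_one h1) hs.one_lt.ne'
  · have : CZ Z Z = ⊤ := by
      rw [eq_top_iff]
      intro a _
      rw [mem_CZ]
      intro x hx
      exact mem_PZ.mp (Z_le_PZ hx)
    rw [this, Subgroup.index_top]
    norm_num

theorem comm_symm [Z.Normal] {x y : A} (h : ⁅x, y⁆ ∈ Z) : ⁅y, x⁆ ∈ Z := by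
  rw [← commutatorElement_inv]; exact inv_mem h

theorem CZ_sup [Z.Normal] : CZ Z (F ⊔ M) = CZ Z F ⊓ CZ Z M := by
  ext a
  rw [Subgroup.mem_inf, mem_CZ, mem_CZ, mem_CZ]
  constructor
  · intro h
    exact ⟨fun x hx => h x ((le_sup_left : F ≤ F ⊔ M) hx), fun x hx => h x ((le_sup_right : M ≤ F ⊔ M) hx)⟩
  · rintro ⟨h1, h2⟩ x hx
    have h3 : F ⊔ M ≤ PZ Z a := sup_le (fun x hx => mem_PZ.mpr (h1 x hx)) (fun x hx => mem_PZ.mpr (h2 x hx))
    exact mem_PZ.mp (h3 hx)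

theorem card_mul_relIndex {H K : Subgroup A} (h : H ≤ K) : Nat.card H * H.relIndex K = Nat.card K := by
  rw [← Subgroup.relIndex_bot_left, ← Subgroup.relIndex_bot_left]
  exact Subgroup.relIndex_mul_relIndex ⊥ H K bot_le h

theorem card_map_mk [Finite A] [hZn : Z.Normal] {r : ℕ} (hZM : Z ≤ M) (hcard : Nat.card M = r * Nat.card Z) :
    Nat.card (M.map (QuotientGroup.mk' Z)) = r := by
  have h1 := Subgroup.relIndex_ker (K := M) (QuotientGroup.mk' Z)
  rw [QuotientGroup.ker_mk'] at h1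
  rw [← h1]
  have h2 := card_mul_relIndex hZM
  rw [hcard, mul_comm] at h2
  exact Nat.eq_of_mul_eq_mul_right Nat.card_pos h2

/-- Base pair for a layer gives an index bound. -/
theorem index_CZ_le [Finite A] [hZn : Z.Normal] {r : ℕ} (hZM : Z ≤ M) (hMn : M.Normal) (hcard : Nat.card M = r * Nat.card Z)
    (hbase : ∃ x ∈ M, ∃ y ∈ M, ∀ a : A, ⁅a, x⁆ ∈ Z → ⁅a, y⁆ ∈ Z → ∀ m ∈ M, ⁅a, m⁆ ∈ Z) :
    (CZ Z M).index ≤ r ^ 2 := by
  obtain ⟨x, hx, y, hy, hb⟩ := hbase
  have hidx := card_map_mk hZM hcard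
  let f : A → (M.map (QuotientGroup.mk' Z)) × (M.map (QuotientGroup.mk' Z)) := fun a =>
    (⟨((a * x * a⁻¹ : A) : A ⧸ Z), ⟨a * x * a⁻¹, hMn.conj_mem x hx a, rfl⟩⟩,
     ⟨((a * y * a⁻¹ : A) : A ⧸ Z), ⟨a * y * a⁻¹, hMn.conj_mem y hy a, rfl⟩⟩)
  have key : ∀ (x a b : A), ((a * x * a⁻¹ : A) : A ⧸ Z) = ((b * x * b⁻¹ : A) : A ⧸ Z) → ⁅a⁻¹ * b, x⁆ ∈ Z := by
    intro x a b h
    rw [comm_mem_iff]
    simp only [QuotientGroup.mk_mul, QuotientGroup.mk_inv] at h ⊢
    calc (a : A ⧸ Z)⁻¹ * b * x = (a : A ⧸ Z)⁻¹ * (b * x * (b : A ⧸ Z)⁻¹) * b := by group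
      _ = (a : A ⧸ Z)⁻¹ * (a * x * (a : A ⧸ Z)⁻¹) * b := by rw [h]
      _ = x * ((a : A ⧸ Z)⁻¹ * b) := by group
  have hf : ∀ a b, f a = f b → a⁻¹ * b ∈ CZ Z M := by
    intro a b hab
    have h1 : ((a * x * a⁻¹ : A) : A ⧸ Z) = ((b * x * b⁻¹ : A) : A ⧸ Z) := congrArg (fun t => (t.1 : A ⧸ Z)) hab
    have h2 : ((a * y * a⁻¹ : A) : A ⧸ Z) = ((b * y * b⁻¹ : A) : A ⧸ Z) := congrArg (fun t => (t.2 : A ⧸ Z)) hab
    rw [mem_CZ]
    exact hb _ (key x a b h1) (key y a b h2)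
  have hinj : Function.Injective (fun c : A ⧸ CZ Z M => f c.out) := by
    intro c d hcd
    rw [← Quotient.out_eq c, ← Quotient.out_eq d]
    exact QuotientGroup.eq.mpr (hf _ _ hcd)
  have h3 := Nat.card_le_card_of_injective _ hinj
  rw [Nat.card_prod, hidx, ← pow_two] at h3
  exact h3

theorem Good.step [Finite A] [hsol : Group.IsSolvable A] (hZ : MaxAb Z) (hcyc : IsCyclic Z) [Z.Normal] {e : ℕ} (h : Good Z F e)
    (hM : Layer Z M) (hMF : ¬ M ≤ F)
    (hbase : ∃ x ∈ M, ∃ y ∈ M, ∀ a : A, ⁅a, x⁆ ∈ Z → ⁅a, y⁆ ∈ Z → ∀ m ∈ M, ⁅a, m⁆ ∈ Z) :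
    ∃ e', Good Z (F ⊔ M) e' := by
  have hFn := h.norm
  have hMn := hM.norm
  have hinf : F ⊓ M = Z := by
    rcases hM.min (F ⊓ M) inferInstance (le_inf h.le hM.lt.le) inf_le_right with h1 | h1
    · exact h1
    · exact absurd (inf_eq_right.mp h1) hMF
  obtain ⟨r, n, hr, hn, hrZ, hpow, hcard⟩ := hM.exists_card hZ hcyc
  refine ⟨e * r ^ n, inferInstance, h.le.trans le_sup_left, sup_le h.cen hM.cen, ?_, ?_, ?_, ?_, ?_⟩
  · have h1 : ∀ x ∈ F, ∀ y ∈ M, ⁅x, y⁆ ∈ Z := by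
      intro x hx y hy
      rw [← hinf]
      refine Subgroup.mem_inf.mpr ⟨?_, ?_⟩
      · exact Subgroup.commutator_le_left F M (Subgroup.commutator_mem_commutator hx hy)
      · exact Subgroup.commutator_le_right F M (Subgroup.commutator_mem_commutator hx hy)
    have h2 : F ⊔ M ≤ CZ Z (F ⊔ M) := by
      rw [CZ_sup]
      refine sup_le (fun x hx => ?_) (fun x hx => ?_)
      · rw [Subgroup.mem_inf, mem_CZ, mem_CZ]
        exact ⟨h.comm x hx, h1 x hx⟩
      · rw [Subgroup.mem_inf, mem_CZ, mem_CZ]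
        exact ⟨fun y hy => comm_symm (h1 y hy x hx), hM.comm_mem x hx⟩
    intro x hx
    exact mem_CZ.mp (h2 hx)
  · have h1 := SubgroupTools.card_sup_mul_card_inf (N := F) (H := M) (by
      rw [Subgroup.normalizer_eq_top_iff.mpr hFn]
      exact le_top)
    rw [hinf, h.card, hcard] at h1
    have h2 : Nat.card (F ⊔ M : Subgroup A) * Nat.card Z = ((e * r ^ n) ^ 2 * Nat.card Z) * Nat.card Z := by
      rw [h1]; ring
    exact Nat.eq_of_mul_eq_mul_right Nat.card_pos h2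
  · intro s hs hse
    rcases (Nat.Prime.dvd_mul hs).mp hse with h1 | h1
    · exact h.prime s hs h1
    · have h2 := hs.dvd_of_dvd_pow h1
      rw [(Nat.prime_dvd_prime_iff_eq hs hr).mp h2]
      exact hrZ
  · rw [CZ_sup]
    refine Subgroup.index_inf_le.trans ?_
    have h1 := index_CZ_le hM.lt.le hM.norm hcard hbase
    calc (CZ Z F).index * (CZ Z M).index ≤ e ^ 4 * (r ^ (2 * n)) ^ 2 := Nat.mul_le_mul h.idx h1
      _ = (e * r ^ n) ^ 4 := by rw [mul_pow, ← pow_mul, ← pow_mul]; congr 2; ring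
  · intro X hX hl
    refine sup_le ?_ ?_
    · exact h.gen X hX (fun N hN hNF => hl N hN (hNF.trans le_sup_left))
    · exact hl M hM le_sup_right

/-- The product of all layers. -/
structure Full (Z F : Subgroup A) [Z.Normal] (e : ℕ) : Prop extends Good Z F e where
  all : ∀ M, Layer Z M → M ≤ F

theorem exists_full [Finite A] [hsol : Group.IsSolvable A] (hZ : MaxAb Z) (hcyc : IsCyclic Z) [Z.Normal]
    (hbase : ∀ M, Layer Z M → ∃ x ∈ M, ∃ y ∈ M, ∀ a : A, ⁅a, x⁆ ∈ Z → ⁅a, y⁆ ∈ Z → ∀ m ∈ M, ⁅a, m⁆ ∈ Z) :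
    ∃ F e, Full Z F e := by
  let S : Set (Subgroup A) := {F | ∃ e, Good Z F e}
  obtain ⟨F, hF⟩ := (Set.toFinite S).exists_maximal ⟨Z, 1, good_bot hZ.comm⟩
  obtain ⟨e, he⟩ := hF.prop
  refine ⟨F, e, he, ?_⟩
  intro M hM
  by_contra hMF
  obtain ⟨e', he'⟩ := he.step hZ hcyc hM hMF (hbase M hM)
  have h1 : F ⊔ M ≤ F := hF.le_of_ge ⟨e', he'⟩ le_sup_left
  exact hMF (le_sup_right.trans h1)

/-- `F` is self-centralising modulo `Z`. -/
theorem Full.centralizer_le [Finite A] (hZ : MaxAb Z) [Z.Normal] {e : ℕ} (h : Full Z F e) :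
    centralizer (F : Set A) ≤ Z := by
  have hFn := h.norm
  have h1 : centralizer (F : Set A) ≤ centralizer (Z : Set A) := Subgroup.centralizer_le h.le
  have h2 : Z ≤ centralizer (F : Set A) := by
    intro z hz
    rw [Subgroup.mem_centralizer_iff]
    intro y hy
    exact commute_of_le h.cen hy hz
  by_contra hcon
  obtain ⟨M, hM, hMc⟩ := exists_layer (X := centralizer (F : Set A)) inferInstance
    (lt_of_le_of_ne h2 (fun heq => hcon heq.symm.le)) h1
  have h3 := h.all M hM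
  apply hM.lt.not_ge
  intro x hx
  refine hZ.cen_eq hFn h.le h.cen (h3 hx) ?_
  intro y hy
  exact (Subgroup.mem_centralizer_iff.mp (hMc hx) y hy).symm

theorem card_hom_le {G K : Type*} [Group G] [Finite G] [Field K] [Finite K] : Nat.card (G →* Kˣ) ≤ Nat.card G := by
  classical
  have : Fintype G := Fintype.ofFinite G
  have hfin : Finite (G →* K) := Finite.of_injective (fun f : G →* K => (f : G → K)) DFunLike.coe_injective
  have : Fintype (G →* K) := Fintype.ofFinite _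
  have h1 := (linearIndependent_monoidHom G K).fintype_card_le_finrank
  rw [Module.finrank_fintype_fun_eq_card] at h1
  have h2 : Nat.card (G →* Kˣ) ≤ Nat.card (G →* K) := by
    refine Nat.card_le_card_of_injective (fun f : G →* Kˣ => (Units.coeHom K).comp f) ?_
    intro f g hfg
    ext x
    exact congrArg (fun t : G →* K => t x) hfg
  rw [Nat.card_eq_fintype_card (α := G →* K)] at h2
  rw [Nat.card_eq_fintype_card (α := G)]
  exact h2.trans h1

theorem Full.mem_of_cz [Finite A] (hZ : MaxAb Z) [Z.Normal] {e : ℕ} (h : Full Z F e) {K : Type*} [Field K] [Finite K]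
    {χ : Z →* Kˣ} (hχ : Function.Injective χ) {a : A} (ha : a ∈ centralizer (Z : Set A)) (haF : a ∈ CZ Z F) : a ∈ F := by
  have hFn := h.norm
  set B : Subgroup A := centralizer (Z : Set A) ⊓ CZ Z F with hB
  have hBc : B ≤ centralizer (Z : Set A) := inf_le_left
  have hBm : ∀ b ∈ B, ∀ x ∈ F, ⁅b, x⁆ ∈ Z := fun b hb x hx => mem_CZ.mp hb.2 x hx
  have hFB : F ≤ B := by
    intro x hx
    refine Subgroup.mem_inf.mpr ⟨h.cen hx, ?_⟩
    rw [mem_CZ]
    exact h.comm x hx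
  let φ : B → (F →* Kˣ) := fun b =>
    { toFun := fun x => χ ⟨⁅(b : A), (x : A)⁆, hBm b b.2 x x.2⟩
      map_one' := by
        have : (⟨⁅(b : A), ((1 : F) : A)⁆, hBm b b.2 (1 : F) (1 : F).2⟩ : Z) = 1 := by
          apply Subtype.ext
          simp
        rw [this, map_one]
      map_mul' := by
        intro x y
        rw [← map_mul]
        congr 1
        apply Subtype.ext
        show ⁅(b : A), ((x * y : F) : A)⁆ = ⁅(b : A), (x : A)⁆ * ⁅(b : A), (y : A)⁆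
        have h1 : (x : A) * ⁅(b : A), (y : A)⁆ = ⁅(b : A), (y : A)⁆ * x := commute_of_le h.cen x.2 (hBm b b.2 y y.2)
        have h2 : ⁅(b : A), ((x * y : F) : A)⁆ = ⁅(b : A), (x : A)⁆ * (x * ⁅(b : A), (y : A)⁆ * (x : A)⁻¹) := by
          simp only [commutatorElement_def, Subgroup.coe_mul]
          group
        rw [h2, h1]
        group }
  have hφ : ∀ b : B, ∀ x : F, (φ b x : Kˣ) = χ ⟨⁅(b : A), (x : A)⁆, hBm b b.2 x x.2⟩ := fun b x => rfl
  have hφZ : ∀ b : B, Z.subgroupOf F ≤ (φ b).ker := by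
    intro b x hx
    rw [MonoidHom.mem_ker, hφ]
    have hx' : (x : A) ∈ Z := Subgroup.mem_subgroupOf.mp hx
    have : (⟨⁅(b : A), (x : A)⁆, hBm b b.2 x x.2⟩ : Z) = 1 := by
      apply Subtype.ext
      show ⁅(b : A), (x : A)⁆ = 1
      rw [commutatorElement_eq_one_iff_mul_comm]
      exact commute_of_le hBc b.2 hx'
    rw [this, map_one]
  let ψ : B → (F ⧸ Z.subgroupOf F →* Kˣ) := fun b => QuotientGroup.lift (Z.subgroupOf F) (φ b) (hφZ b)
  have hψ : ∀ b b' : B, ψ b = ψ b' → b⁻¹ * b' ∈ Z.subgroupOf B := by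
    intro b b' hbb
    rw [Subgroup.mem_subgroupOf]
    apply h.centralizer_le hZ
    rw [Subgroup.mem_centralizer_iff]
    intro x hx
    have h1 : φ b ⟨x, hx⟩ = φ b' ⟨x, hx⟩ := congrArg (fun t : F ⧸ Z.subgroupOf F →* Kˣ => t ((⟨x, hx⟩ : F) : F ⧸ Z.subgroupOf F)) hbb
    rw [hφ, hφ] at h1
    have h2 : ⁅(b : A), x⁆ = ⁅(b' : A), x⁆ := congrArg Subtype.val (hχ h1)
    rw [commutatorElement_def, commutatorElement_def] at h2
    have h3 : (b : A) * x * (b : A)⁻¹ = b' * x * (b' : A)⁻¹ := mul_right_cancel h2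
    show x * ((b : A)⁻¹ * b') = ((b : A)⁻¹ * b') * x
    calc x * ((b : A)⁻¹ * b') = (b : A)⁻¹ * (b * x * (b : A)⁻¹) * b' := by group
      _ = (b : A)⁻¹ * (b' * x * (b' : A)⁻¹) * b' := by rw [h3]
      _ = ((b : A)⁻¹ * b') * x := by group
  have hinj : Function.Injective (fun c : B ⧸ Z.subgroupOf B => ψ c.out) := by
    intro c d hcd
    rw [← Quotient.out_eq c, ← Quotient.out_eq d]
    exact QuotientGroup.eq.mpr (hψ _ _ hcd)
  have hfin : Finite (F ⧸ Z.subgroupOf F →* Kˣ) :=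
    Finite.of_injective (fun f : F ⧸ Z.subgroupOf F →* Kˣ => (f : F ⧸ Z.subgroupOf F → Kˣ)) DFunLike.coe_injective
  have h1 := (Nat.card_le_card_of_injective _ hinj).trans card_hom_le
  have h2 : Z.relIndex B ≤ Z.relIndex F := h1
  have h3 := card_mul_relIndex h.le
  have h4 := card_mul_relIndex (h.le.trans hFB)
  have h5 : Nat.card B ≤ Nat.card F := by
    rw [← h3, ← h4]
    exact Nat.mul_le_mul_left _ h2
  have h6 : F = B := Subgroup.eq_of_le_of_card_ge hFB h5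
  rw [h6]
  exact Subgroup.mem_inf.mpr ⟨ha, haF⟩

/-- The index of `F` in the centraliser of `Z`. -/
theorem Full.card_le [Finite A] (hZ : MaxAb Z) [Z.Normal] {e : ℕ} (h : Full Z F e) {K : Type*} [Field K] [Finite K]
    {χ : Z →* Kˣ} (hχ : Function.Injective χ) : Nat.card (centralizer (Z : Set A)) ≤ e ^ 4 * Nat.card F := by
  have hFn := h.norm
  have h1 : F.relIndex (centralizer (Z : Set A)) ≤ e ^ 4 := by
    have h2 : centralizer (Z : Set A) ⊓ CZ Z F = F := by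
      apply le_antisymm
      · intro a ha
        exact h.mem_of_cz hZ hχ ha.1 ha.2
      · exact le_inf h.cen (fun x hx => mem_CZ.mpr (h.comm x hx))
    have h3 : F.relIndex (centralizer (Z : Set A)) = (CZ Z F).relIndex (centralizer (Z : Set A)) := by
      conv_lhs => rw [← h2]
      exact Subgroup.inf_relIndex_left _ _
    rw [h3]
    refine le_trans ?_ h.idx
    exact Nat.le_of_dvd (Nat.pos_of_ne_zero (CZ Z F).index_ne_zero_of_finite)
      (Subgroup.relIndex_dvd_index_of_normal (CZ Z F) (centralizer (Z : Set A)))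
  have h4 := card_mul_relIndex h.cen
  rw [← h4, mul_comm]
  exact Nat.mul_le_mul_right _ h1

end Cfsg.Agent.Lib.OddBaseB
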