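import Cfsg.Agent.Lib.OddBaseB
import Cfsg.Agent.Lib.HupE

/-!
# Semilinear groups of odd order: fixed spaces and counting (helper61)
-/

set_option autoImplicit false

open scoped commutatorElement

namespace Cfsg.Agent.Lib.OddBaseC

open OddBaseA OddBaseB

section fix

variable {V A : Type*} [AddCommGroup V] [Group A] [DistribMulAction A V]

/-- the vectors fixed by `a` -/
def fx (V : Type*) [AddCommGroup V] {A : Type*} [Group A] [DistribMulAction A V] (a : A) : AddSubgroup V where
  carrier := {v | a • v = v}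
  zero_mem' := smul_zero a
  add_mem' := by
    intro v w hv hw
    show a • (v + w) = v + w
    rw [smul_add, hv, hw]
  neg_mem' := by
    intro v hv
    show a • (-v) = -v
    rw [smul_neg, hv]

theorem mem_fx {a : A} {v : V} : v ∈ fx V a ↔ a • v = v := Iff.rfl

/-- powers generate odd order cyclic groups -/
theorem smul_of_sq {X : Type*} [MulAction A X] {a : A} (ha : Odd (orderOf a)) {v : X} (hv : (a ^ 2) • v = v) : a • v = v := by
  obtain ⟨k, hk⟩ := ha
  have h1 : ∀ n : ℕ, ((a ^ 2) ^ n) • v = v := by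
    intro n
    induction n with
    | zero => simp
    | succ n ih => rw [pow_succ, mul_smul, hv, ih]
  have h2 : (a ^ 2) ^ (k + 1) = a := by
    rw [← pow_mul]
    have : 2 * (k + 1) = orderOf a + 1 := by omega
    rw [this, pow_succ, pow_orderOf_eq_one, one_mul]
  have := h1 (k + 1)
  rwa [h2] at this

theorem odd_orderOf [Finite A] (hA : Odd (Nat.card A)) (a : A) : Odd (orderOf a) :=
  hA.of_dvd_nat (orderOf_dvd_natCard a)

/-- the counting lemma -/
theorem count [Finite A] [Finite V] (hA : Odd (Nat.card A))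
    (h : ∀ v w : V, ∃ a : A, a ≠ 1 ∧ a • v = v ∧ a • w = w) :
    2 * Nat.card V ^ 2 ≤ ∑ᶠ a : {a : A // a ≠ 1}, Nat.card (fx V (a : A)) ^ 2 := by
  classical
  have : Fintype A := Fintype.ofFinite A
  have : Fintype V := Fintype.ofFinite V
  rw [finsum_eq_sum_of_fintype]
  have h1 : ∀ a : {a : A // a ≠ 1}, Nat.card (fx V (a : A)) ^ 2 =
      ((Finset.univ : Finset (V × V)).filter (fun p => (a : A) • p.1 = p.1 ∧ (a : A) • p.2 = p.2)).card := by
    intro a
    have e : (fx V (a : A)) × (fx V (a : A)) ≃ {p : V × V // (a : A) • p.1 = p.1 ∧ (a : A) • p.2 = p.2} :=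
      { toFun := fun t => ⟨(t.1, t.2), t.1.2, t.2.2⟩
        invFun := fun t => (⟨t.1.1, t.2.1⟩, ⟨t.1.2, t.2.2⟩)
        left_inv := fun t => rfl
        right_inv := fun t => rfl }
    rw [pow_two, ← Nat.card_prod, Nat.card_congr e, Nat.card_eq_fintype_card, Fintype.card_subtype]
  have h2 : ∑ a : {a : A // a ≠ 1}, Nat.card (fx V (a : A)) ^ 2 =
      ∑ p : V × V, ((Finset.univ : Finset {a : A // a ≠ 1}).filter (fun a : {a : A // a ≠ 1} => (a : A) • p.1 = p.1 ∧ (a : A) • p.2 = p.2)).card := by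
    simp only [h1, Finset.card_filter]
    exact Finset.sum_comm
  rw [h2]
  have h3 : ∀ p : V × V, 2 ≤ ((Finset.univ : Finset {a : A // a ≠ 1}).filter (fun a : {a : A // a ≠ 1} => (a : A) • p.1 = p.1 ∧ (a : A) • p.2 = p.2)).card := by
    intro p
    obtain ⟨a, ha1, hv, hw⟩ := h p.1 p.2
    have ho := odd_orderOf hA a
    have ha2 : a ^ 2 ≠ 1 := by
      intro h2
      apply ha1
      have := smul_of_sq (X := A) ho (v := (1 : A)) (by rw [h2, one_smul])
      simpa using this
    have hne : a ≠ a ^ 2 := by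
      intro h2
      apply ha1
      rw [pow_two] at h2
      exact (mul_eq_left.mp h2.symm)
    have h4 : ({⟨a, ha1⟩, ⟨a ^ 2, ha2⟩} : Finset {a : A // a ≠ 1}) ⊆
        (Finset.univ : Finset {a : A // a ≠ 1}).filter (fun a : {a : A // a ≠ 1} => (a : A) • p.1 = p.1 ∧ (a : A) • p.2 = p.2) := by
      intro b hb
      rw [Finset.mem_insert, Finset.mem_singleton] at hb
      rw [Finset.mem_filter]
      refine ⟨Finset.mem_univ _, ?_⟩
      rcases hb with rfl | rfl
      · exact ⟨hv, hw⟩
      · simp only [pow_two, mul_smul, hv, hw, and_self]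
    have h5 := Finset.card_le_card h4
    rwa [Finset.card_pair (by
      intro h6
      exact hne (congrArg Subtype.val h6))] at h5
  calc 2 * Nat.card V ^ 2 = ∑ p : V × V, 2 := by
        rw [Finset.sum_const, Finset.card_univ, Fintype.card_prod, smul_eq_mul, ← Nat.card_eq_fintype_card]; ring
    _ ≤ _ := Finset.sum_le_sum fun p _ => h3 p

end fix

section semilinear

variable {K V A : Type*} [Field K] [AddCommGroup V] [Module K V] [Group A] [DistribMulAction A V]

theorem vand {a b c : K} (hab : a ≠ b) (hac : a ≠ c) (hbc : b ≠ c) {u v w : V}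
    (h1 : u + a • v + (a * a) • w = 0) (h2 : u + b • v + (b * b) • w = 0) (h3 : u + c • v + (c * c) • w = 0) :
    u = 0 ∧ v = 0 ∧ w = 0 := by
  have h4 : (a - b) • (v + (a + b) • w) = 0 := by
    have : (a - b) • (v + (a + b) • w) = (u + a • v + (a * a) • w) - (u + b • v + (b * b) • w) := by
      module
    rw [this, h1, h2, sub_zero]
  have h5 : (a - c) • (v + (a + c) • w) = 0 := by
    have : (a - c) • (v + (a + c) • w) = (u + a • v + (a * a) • w) - (u + c • v + (c * c) • w) := by
      module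
    rw [this, h1, h3, sub_zero]
  have h6 := (smul_eq_zero.mp h4).resolve_left (sub_ne_zero.mpr hab)
  have h7 := (smul_eq_zero.mp h5).resolve_left (sub_ne_zero.mpr hac)
  have h8 : (b - c) • w = 0 := by
    have : (b - c) • w = (v + (a + b) • w) - (v + (a + c) • w) := by module
    rw [this, h6, h7, sub_zero]
  have hw := (smul_eq_zero.mp h8).resolve_left (sub_ne_zero.mpr hbc)
  rw [hw, smul_zero, add_zero] at h6
  rw [hw, h6, smul_zero, smul_zero, add_zero, add_zero] at h1
  exact ⟨h1, h6, hw⟩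

variable {σ : A →* (K ≃+* K)}

theorem fx_cube_semi [Finite A] [Finite V] (hA : Odd (Nat.card A)) (hσ : ∀ (a : A) (k : K) (v : V), a • (k • v) = σ a k • (a • v))
    {a : A} (ha : σ a ≠ 1) : Nat.card (fx V a) ^ 3 ≤ Nat.card V := by
  obtain ⟨u, hu⟩ : ∃ u : K, σ a u ≠ u := by
    by_contra hcon
    push Not at hcon
    exact ha (RingEquiv.ext hcon)
  have hu2 : σ a (σ a u) ≠ u := by
    intro h
    apply hu
    let _ : MulAction A K := MulAction.compHom K σ
    have h1 : (a ^ 2) • u = u := by
      rw [pow_two, mul_smul]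
      exact h
    exact smul_of_sq (odd_orderOf hA a) h1
  have hu3 : σ a (σ a u) ≠ σ a u := fun h => hu ((σ a).injective h)
  let f : (fx V a) × (fx V a) × (fx V a) → V := fun t => (t.1 : V) + u • (t.2.1 : V) + (u * u) • (t.2.2 : V)
  have hf : Function.Injective f := by
    rintro ⟨x, y, z⟩ ⟨x', y', z'⟩ hxy
    have h0 : ((x : V) - x') + u • ((y : V) - y') + (u * u) • ((z : V) - z') = 0 := by
      have h1 : (x : V) + u • (y : V) + (u * u) • (z : V) = (x' : V) + u • (y' : V) + (u * u) • (z' : V) := hxy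
      have h2 : ((x : V) - x') + u • ((y : V) - y') + (u * u) • ((z : V) - z') =
        ((x : V) + u • (y : V) + (u * u) • (z : V)) - ((x' : V) + u • (y' : V) + (u * u) • (z' : V)) := by module
      rw [h2, h1, sub_self]
    have hx : a • ((x : V) - x') = (x : V) - x' := (sub_mem x.2 x'.2 : (x : V) - x' ∈ fx V a)
    have hy : a • ((y : V) - y') = (y : V) - y' := (sub_mem y.2 y'.2 : (y : V) - y' ∈ fx V a)
    have hz : a • ((z : V) - z') = (z : V) - z' := (sub_mem z.2 z'.2 : (z : V) - z' ∈ fx V a)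
    have step : ∀ k : K, ((x : V) - x') + k • ((y : V) - y') + (k * k) • ((z : V) - z') = 0 →
        ((x : V) - x') + σ a k • ((y : V) - y') + (σ a k * σ a k) • ((z : V) - z') = 0 := by
      intro k hk
      have := congrArg (fun t => a • t) hk
      simpa only [smul_add, hσ, hx, hy, hz, smul_zero, map_mul] using this
    have h1 := step u h0
    have h2 := step _ h1
    obtain ⟨e1, e2, e3⟩ := vand hu.symm hu2.symm hu3.symm h0 h1 h2
    rw [Prod.mk.injEq, Prod.mk.injEq]
    exact ⟨Subtype.ext (sub_eq_zero.mp e1), Subtype.ext (sub_eq_zero.mp e2), Subtype.ext (sub_eq_zero.mp e3)⟩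
  have h1 := Nat.card_le_card_of_injective f hf
  rw [Nat.card_prod, Nat.card_prod] at h1
  calc Nat.card (fx V a) ^ 3 = Nat.card (fx V a) * (Nat.card (fx V a) * Nat.card (fx V a)) := by ring
    _ ≤ _ := h1

theorem fx_cube_comm [Finite V] (hσ : ∀ (a : A) (k : K) (v : V), a • (k • v) = σ a k • (a • v))
    {g f : A} (hg : σ g = 1) (hf : σ f = 1) {ζ : K} (hζ : ∀ v : V, ⁅g, f⁆ • v = ζ • v) (h1 : ζ ≠ 1) (h2 : ζ * ζ ≠ 1) :
    Nat.card (fx V g) ^ 3 ≤ Nat.card V := by
  have hζ0 : ζ ≠ 0 ∨ Subsingleton V := by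
    by_cases h : ζ = 0
    · right
      constructor
      intro v w
      have : ∀ v : V, v = 0 := by
        intro v
        have h3 := hζ v
        rw [h, zero_smul] at h3
        rw [← inv_smul_smul ⁅g, f⁆ v, h3, smul_zero]
      rw [this v, this w]
    · exact Or.inl h
  rcases hζ0 with hζ0 | hsub
  swap
  · have h3 : Nat.card V = 1 := Nat.card_eq_one_iff_unique.mpr ⟨hsub, ⟨0⟩⟩
    have h4 : Nat.card (fx V g) ≤ 1 := by
      rw [← h3]
      exact Nat.card_le_card_of_injective _ Subtype.val_injective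
    rw [h3]
    calc Nat.card (fx V g) ^ 3 ≤ 1 ^ 3 := Nat.pow_le_pow_left h4 3
      _ = 1 := by norm_num
  have hgl : ∀ (k : K) (v : V), g • (k • v) = k • (g • v) := by
    intro k v; rw [hσ, hg]; rfl
  have hfl : ∀ (k : K) (v : V), f • (k • v) = k • (f • v) := by
    intro k v; rw [hσ, hf]; rfl
  have hgf : ∀ v : V, g • f • v = ζ • (f • g • v) := by
    intro v
    rw [← hζ, smul_smul, smul_smul, smul_smul]
    congr 1
    rw [commutatorElement_def]; group
  let F : (fx V g) × (fx V g) × (fx V g) → V := fun t => (t.1 : V) + f • (t.2.1 : V) + f • f • (t.2.2 : V)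
  have hF : Function.Injective F := by
    rintro ⟨x, y, z⟩ ⟨x', y', z'⟩ hxy
    have h0 : ((x : V) - x') + f • ((y : V) - y') + f • f • ((z : V) - z') = 0 := by
      have h1 : (x : V) + f • (y : V) + f • f • (z : V) = (x' : V) + f • (y' : V) + f • f • (z' : V) := hxy
      have h2 : ((x : V) - x') + f • ((y : V) - y') + f • f • ((z : V) - z') =
        ((x : V) + f • (y : V) + f • f • (z : V)) - ((x' : V) + f • (y' : V) + f • f • (z' : V)) := by
        simp only [smul_sub]; abel
      rw [h2, h1, sub_self]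
    have hx : g • ((x : V) - x') = (x : V) - x' := (sub_mem x.2 x'.2 : (x : V) - x' ∈ fx V g)
    have hy : g • ((y : V) - y') = (y : V) - y' := (sub_mem y.2 y'.2 : (y : V) - y' ∈ fx V g)
    have hz : g • ((z : V) - z') = (z : V) - z' := (sub_mem z.2 z'.2 : (z : V) - z' ∈ fx V g)
    have step : ∀ k : K, ((x : V) - x') + k • (f • ((y : V) - y')) + (k * k) • (f • f • ((z : V) - z')) = 0 →
        ((x : V) - x') + (ζ * k) • (f • ((y : V) - y')) + ((ζ * k) * (ζ * k)) • (f • f • ((z : V) - z')) = 0 := by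
      intro k hk
      have h3 := congrArg (fun t => g • t) hk
      simp only [smul_add, hgl, smul_zero, hx] at h3
      rw [hgf ((y : V) - y'), hy, hgf (f • ((z : V) - z')), hgf ((z : V) - z'), hz, hfl, smul_smul, smul_smul,
        smul_smul] at h3
      rw [← h3]
      congr 2
      · rw [mul_comm]
      · ring
    have e0 : ((x : V) - x') + (1 : K) • (f • ((y : V) - y')) + ((1 : K) * 1) • (f • f • ((z : V) - z')) = 0 := by
      rw [mul_one, one_smul, one_smul]; exact h0
    have e1 := step 1 e0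
    have e2 := step _ e1
    rw [mul_one] at e1 e2
    obtain ⟨r1, r2, r3⟩ := vand (a := (1 : K)) (b := ζ) (c := ζ * ζ) h1.symm h2.symm (by
      intro h
      apply h1
      have : ζ * ζ = ζ * 1 := by rw [← h, mul_one]
      exact mul_left_cancel₀ hζ0 this) e0 e1 e2
    rw [Prod.mk.injEq, Prod.mk.injEq]
    refine ⟨Subtype.ext (sub_eq_zero.mp r1), Subtype.ext (sub_eq_zero.mp ?_), Subtype.ext (sub_eq_zero.mp ?_)⟩
    · exact (smul_eq_zero_iff_eq f).mp r2
    · exact (smul_eq_zero_iff_eq f).mp ((smul_eq_zero_iff_eq f).mp r3)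
  have h1 := Nat.card_le_card_of_injective F hF
  rw [Nat.card_prod, Nat.card_prod] at h1
  calc Nat.card (fx V g) ^ 3 = Nat.card (fx V g) * (Nat.card (fx V g) * Nat.card (fx V g)) := by ring
    _ ≤ _ := h1

theorem fx_sq [Finite V] (g y : A) : Nat.card (fx V g) ^ 2 ≤ Nat.card V * Nat.card (fx V ⁅g, y⁆) := by
  -- the map (u, w) ↦ u + y w from fx g × fx g has kernel inside fx [g,y]
  let φ : (fx V g) × (fx V g) →+ V :=
    { toFun := fun t => (t.1 : V) + y • (t.2 : V)
      map_zero' := by simp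
      map_add' := by
        intro s t
        simp only [Prod.fst_add, Prod.snd_add, AddSubgroup.coe_add, smul_add]
        abel }
  have h1 : Nat.card φ.ker * Nat.card φ.range = Nat.card ((fx V g) × (fx V g)) := by
    have h2 := AddSubgroup.card_mul_index φ.ker
    rwa [AddSubgroup.index_ker] at h2
  have h2 : Nat.card φ.ker ≤ Nat.card (fx V ⁅g, y⁆) := by
    have hk : ∀ t : φ.ker, -((t : (fx V g) × (fx V g)).1 : V) = y • ((t : (fx V g) × (fx V g)).2 : V) := by
      intro t
      have : ((t : (fx V g) × (fx V g)).1 : V) + y • ((t : (fx V g) × (fx V g)).2 : V) = 0 := t.2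
      exact neg_eq_of_add_eq_zero_right this
    refine Nat.card_le_card_of_injective (fun t : φ.ker => (⟨((t : (fx V g) × (fx V g)).1 : V), ?_⟩ : fx V ⁅g, y⁆)) ?_
    · rw [mem_fx]
      have h3 : g • (((t : (fx V g) × (fx V g)).1 : V)) = (t : (fx V g) × (fx V g)).1 := (t : (fx V g) × (fx V g)).1.2
      have h4 : g • (((t : (fx V g) × (fx V g)).2 : V)) = (t : (fx V g) × (fx V g)).2 := (t : (fx V g) × (fx V g)).2.2
      have h5 : ((t : (fx V g) × (fx V g)).1 : V) = -(y • ((t : (fx V g) × (fx V g)).2 : V)) := by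
        rw [← hk t, neg_neg]
      have h6 : g⁻¹ • (((t : (fx V g) × (fx V g)).2 : V)) = (t : (fx V g) × (fx V g)).2 := by
        conv_lhs => rw [← h4]
        rw [inv_smul_smul]
      have h7 : (y * g⁻¹ * y⁻¹) • ((t : (fx V g) × (fx V g)).1 : V) = (t : (fx V g) × (fx V g)).1 := by
        rw [h5, smul_neg, mul_smul, mul_smul, inv_smul_smul, h6]
      have h8 : ⁅g, y⁆ = g * (y * g⁻¹ * y⁻¹) := by rw [commutatorElement_def]; group
      rw [h8, mul_smul, h7, h3]
    · intro s t hst
      have h3 : ((s : (fx V g) × (fx V g)).1 : V) = (t : (fx V g) × (fx V g)).1 :=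
        congrArg (fun r : fx V ⁅g, y⁆ => (r : V)) hst
      have h4 : y • ((s : (fx V g) × (fx V g)).2 : V) = y • ((t : (fx V g) × (fx V g)).2 : V) := by
        rw [← hk s, ← hk t, h3]
      have h5 : ((s : (fx V g) × (fx V g)).2 : V) = (t : (fx V g) × (fx V g)).2 := smul_left_cancel y h4
      exact Subtype.ext (Prod.ext (Subtype.ext h3) (Subtype.ext h5))
  have h3 : Nat.card φ.range ≤ Nat.card V := Nat.card_le_card_of_injective _ Subtype.val_injective
  rw [Nat.card_prod] at h1
  calc Nat.card (fx V g) ^ 2 = Nat.card φ.ker * Nat.card φ.range := by rw [h1]; ring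
    _ ≤ Nat.card (fx V ⁅g, y⁆) * Nat.card V := Nat.mul_le_mul h2 h3
    _ = _ := mul_comm _ _

end semilinear

end Cfsg.Agent.Lib.OddBaseC
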