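import Cfsg.Agent.Lib.OddBaseC

/-!
# Semilinear groups of odd order: bounds for the fixed spaces (helper61)
-/

set_option autoImplicit false

open Subgroup
open scoped commutatorElement

namespace Cfsg.Agent.Lib.OddBaseD

open OddBaseA OddBaseB OddBaseC

variable {K V A : Type*} [Field K] [AddCommGroup V] [Module K V] [Group A] [DistribMulAction A V]

/-- semilinear action with scalar subgroup `Z` -/
structure LS (V : Type*) [AddCommGroup V] [Module K V] [DistribMulAction A V] (σ : A →* (K ≃+* K)) (Z : Subgroup A)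
    (χ : Z →* Kˣ) : Prop where
  semi : ∀ (a : A) (k : K) (v : V), a • (k • v) = σ a k • (a • v)
  ker : ∀ a, σ a = 1 ↔ a ∈ centralizer (Z : Set A)
  chi : ∀ (z : Z) (v : V), (z : A) • v = ((χ z : Kˣ) : K) • v
  inj : Function.Injective χ
  faith : ∀ a : A, (∀ v : V, a • v = v) → a = 1

variable {σ : A →* (K ≃+* K)} {Z F : Subgroup A} {χ : Z →* Kˣ}

theorem LS.cyclic [Finite A] (h : LS V σ Z χ) : IsCyclic Z :=
  isCyclic_of_injective_ringHom ((Units.coeHom K).comp χ) (Units.val_injective.comp h.inj)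

theorem LS.card_dvd [Finite K] (h : LS V σ Z χ) : Nat.card Z ∣ Nat.card K - 1 := by
  classical
  have : Fintype K := Fintype.ofFinite K
  have h1 := Subgroup.card_dvd_of_injective χ h.inj
  have h2 : Nat.card Kˣ = Nat.card K - 1 := by
    rw [Nat.card_eq_fintype_card, Nat.card_eq_fintype_card, Fintype.card_units]
  rwa [h2] at h1

theorem LS.index_le [FiniteDimensional K V] [Nontrivial V] [Finite A] (h : LS V σ Z χ) (hZF : Z ≤ F)
    (hc : F ≤ centralizer (Z : Set A)) (hcomm : ∀ x ∈ F, ∀ y ∈ F, ⁅x, y⁆ ∈ Z)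
    (hcen : ∀ x ∈ F, (∀ y ∈ F, x * y = y * x) → x ∈ Z) :
    Nat.card F ≤ Module.finrank K V ^ 2 * Nat.card Z := by
  let τ : F →* Module.End K V :=
    { toFun := fun x =>
        { toFun := fun v => (x : A) • v
          map_add' := fun v w => smul_add _ v w
          map_smul' := fun k v => by
            rw [h.semi, (h.ker x).mpr (hc x.2)]
            rfl }
      map_one' := by
        ext v
        show ((1 : F) : A) • v = v
        rw [OneMemClass.coe_one, one_smul]
      map_mul' := fun a b => by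
        ext v
        show ((a * b : F) : A) • v = (a : A) • ((b : A) • v)
        rw [Subgroup.coe_mul, mul_smul] }
  classical
  let lam : F → K := fun x => if hx : (x : A) ∈ Z then ((χ ⟨x, hx⟩ : Kˣ) : K) else 0
  have hlam : ∀ x : F, ∀ hx : (x : A) ∈ Z, lam x = ((χ ⟨x, hx⟩ : Kˣ) : K) := fun x hx => dif_pos hx
  have h1 := HupE.index_center_le τ lam (by
    intro x y
    have hxy : ((⁅x, y⁆ : F) : A) ∈ Z := hcomm x x.2 y y.2
    ext v
    rw [hlam _ hxy]
    exact h.chi ⟨_, hxy⟩ v) (by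
    intro x y hxy
    rw [Subgroup.mem_center_iff]
    intro d
    have h1 : ((⁅d, x⁆ : F) : A) ∈ Z := hcomm d d.2 x x.2
    have h2 : ((⁅d, y⁆ : F) : A) ∈ Z := hcomm d d.2 y y.2
    have h3 := hxy d
    rw [hlam _ h1, hlam _ h2] at h3
    have h4 : ⁅d, x⁆ = ⁅d, y⁆ := Subtype.ext
      (show ((⁅d, x⁆ : F) : A) = ((⁅d, y⁆ : F) : A) from congrArg (fun t : Z => (t : A)) (h.inj (Units.ext h3)))
    rw [← commutatorElement_eq_one_iff_mul_comm, PGroupClassTwo.comm_mul_right (comm_mem_center hc hcomm),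
      PGroupClassTwo.comm_inv_right (comm_mem_center hc hcomm), h4, inv_mul_cancel])
  have h2 := Subgroup.card_mul_index (center F)
  rw [card_center_eq' hZF hc hcen] at h2
  rw [← h2, mul_comm]
  exact Nat.mul_le_mul_right _ h1

theorem chi_sq_ne [Finite A] (hA : Odd (Nat.card A)) (h : LS V σ Z χ) {z : Z} (hz : z ≠ 1) :
    ((χ z : Kˣ) : K) ≠ 1 ∧ ((χ z : Kˣ) : K) * ((χ z : Kˣ) : K) ≠ 1 := by
  constructor
  · intro h1
    apply hz
    apply h.inj
    rw [map_one]
    exact Units.ext h1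
  · intro h1
    apply hz
    have h2 : z ^ 2 = 1 := by
      apply h.inj
      rw [map_one, map_pow, pow_two]
      exact Units.ext h1
    have h3 : (z : A) ^ 2 = 1 := congrArg Subtype.val h2
    have := smul_of_sq (X := A) (odd_orderOf hA (z : A)) (v := (1 : A)) (by rw [h3, one_smul])
    apply Subtype.ext
    simpa using this

/-- elements of `F` outside `Z` -/
theorem LS.fx_F [Finite A] [Finite V] (hA : Odd (Nat.card A)) (h : LS V σ Z χ)
    (hc : F ≤ centralizer (Z : Set A)) (hcomm : ∀ x ∈ F, ∀ y ∈ F, ⁅x, y⁆ ∈ Z)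
    (hcen : ∀ x ∈ F, (∀ y ∈ F, x * y = y * x) → x ∈ Z) {x : A} (hx : x ∈ F) (hxZ : x ∉ Z) :
    Nat.card (fx V x) ^ 3 ≤ Nat.card V := by
  obtain ⟨y, hy, hxy⟩ : ∃ y ∈ F, x * y ≠ y * x := by
    by_contra hcon
    push Not at hcon
    exact hxZ (hcen x hx hcon)
  have hz : (⟨⁅x, y⁆, hcomm x hx y hy⟩ : Z) ≠ 1 := by
    intro h1
    exact hxy (commutatorElement_eq_one_iff_mul_comm.mp (congrArg Subtype.val h1))
  obtain ⟨h1, h2⟩ := chi_sq_ne hA h hz
  exact fx_cube_comm h.semi ((h.ker x).mpr (hc hx)) ((h.ker y).mpr (hc hy)) (h.chi ⟨⁅x, y⁆, hcomm x hx y hy⟩) h1 h2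

theorem LS.fx_Z [Finite V] (h : LS V σ Z χ) {x : A} (hx : x ∈ Z) (hx1 : x ≠ 1) :
    Nat.card (fx V x) = 1 := by
  have h1 : ((χ ⟨x, hx⟩ : Kˣ) : K) ≠ 1 := by
    intro h1
    apply hx1
    have : (⟨x, hx⟩ : Z) = 1 := by
      apply h.inj
      rw [map_one]
      exact Units.ext h1
    exact congrArg Subtype.val this
  rw [Nat.card_eq_one_iff_unique]
  refine ⟨⟨?_⟩, ⟨0⟩⟩
  have h2 : ∀ v : fx V x, v = 0 := by
    intro v
    have h3 : x • (v : V) = v := v.2
    rw [h.chi ⟨x, hx⟩] at h3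
    have h4 : (((χ ⟨x, hx⟩ : Kˣ) : K) - 1) • (v : V) = 0 := by
      rw [sub_smul, h3, one_smul, sub_self]
    exact Subtype.ext ((smul_eq_zero.mp h4).resolve_left (sub_ne_zero.mpr h1))
  intro v w
  rw [h2 v, h2 w]

theorem LS.fx_six [Finite A] [Finite V] (hA : Odd (Nat.card A)) (h : LS V σ Z χ) (hFn : F.Normal)
    (hc : F ≤ centralizer (Z : Set A)) (hcomm : ∀ x ∈ F, ∀ y ∈ F, ⁅x, y⁆ ∈ Z)
    (hcen : ∀ x ∈ F, (∀ y ∈ F, x * y = y * x) → x ∈ Z) {x : A} (hx : ∃ y ∈ F, ⁅x, y⁆ ∉ Z) :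
    Nat.card (fx V x) ^ 6 ≤ Nat.card V ^ 4 := by
  obtain ⟨y, hy, hxy⟩ := hx
  have hF : ⁅x, y⁆ ∈ F := by
    rw [commutatorElement_def]
    exact mul_mem (hFn.conj_mem y hy x) (inv_mem hy)
  have h1 := h.fx_F hA hc hcomm hcen hF hxy
  have h2 := fx_sq (V := V) x y
  calc Nat.card (fx V x) ^ 6 = (Nat.card (fx V x) ^ 2) ^ 3 := by ring
    _ ≤ (Nat.card V * Nat.card (fx V ⁅x, y⁆)) ^ 3 := Nat.pow_le_pow_left h2 3
    _ = Nat.card V ^ 3 * Nat.card (fx V ⁅x, y⁆) ^ 3 := by ring
    _ ≤ Nat.card V ^ 3 * Nat.card V := Nat.mul_le_mul_left _ h1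
    _ = Nat.card V ^ 4 := by ring

/-- the fixed space of a linear element has order a power of `|K|` -/
theorem LS.exists_pow [Finite K] [Finite V] (h : LS V σ Z χ) {x : A} (hx : x ∈ centralizer (Z : Set A)) :
    ∃ k, Nat.card (fx V x) = Nat.card K ^ k := by
  let W : Submodule K V :=
    { carrier := {v | x • v = v}
      zero_mem' := smul_zero x
      add_mem' := by
        intro v w hv hw
        show x • (v + w) = v + w
        rw [smul_add, hv, hw]
      smul_mem' := by
        intro k v hv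
        show x • (k • v) = k • v
        rw [h.semi, (h.ker x).mpr hx, hv]
        rfl }
  have : Fintype K := Fintype.ofFinite K
  have : Fintype W := Fintype.ofFinite W
  refine ⟨Module.finrank K W, ?_⟩
  have h1 : Nat.card (fx V x) = Nat.card W := rfl
  rw [h1, Nat.card_eq_fintype_card, Nat.card_eq_fintype_card]
  exact Module.card_eq_pow_finrank (K := K)

theorem card_V_eq [Finite K] [Finite V] : Nat.card V = Nat.card K ^ Module.finrank K V := by
  have : Fintype K := Fintype.ofFinite K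
  have : Fintype V := Fintype.ofFinite V
  rw [Nat.card_eq_fintype_card, Nat.card_eq_fintype_card]
  exact Module.card_eq_pow_finrank (K := K)

theorem LS.main_count [Finite A] [Finite K] [Finite V] (hA : Odd (Nat.card A)) (h : LS V σ Z χ) (hZ : MaxAb Z) [Z.Normal]
    {e : ℕ} (hF : Full Z F e) (hno : ∀ v w : V, ∃ a : A, a ≠ 1 ∧ a • v = v ∧ a • w = w)
    {m : ℕ} (hm : Module.finrank K V ≤ 3 * m) (hm2 : 3 * m ≤ Module.finrank K V + 2) :
    ∃ n, n + Nat.card F = Nat.card (centralizer (Z : Set A)) ∧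
      2 * Nat.card K ^ (2 * Module.finrank K V) ≤
        n * Nat.card K ^ (2 * (Module.finrank K V - m)) + Nat.card A * Nat.card K ^ (2 * m) := by
  classical
  have hFn := hF.norm
  have hcen : ∀ x ∈ F, (∀ y ∈ F, x * y = y * x) → x ∈ Z := fun x hx hxy => hZ.cen_eq hFn hF.le hF.cen hx hxy
  set Q := Nat.card K with hQ
  set d := Module.finrank K V with hd
  have hQ1 : 1 < Q := Finite.one_lt_card
  have hVcard : Nat.card V = Q ^ d := card_V_eq
  have hfA : Fintype A := Fintype.ofFinite A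
  have h0 := count hA hno
  rw [finsum_eq_sum_of_fintype, hVcard, ← pow_mul, mul_comm d 2] at h0
  have hcube : ∀ a : A, Nat.card (fx V a) ^ 3 ≤ Nat.card V → Nat.card (fx V a) ≤ Q ^ m := by
    intro a ha
    rw [hVcard] at ha
    have h1 : Nat.card (fx V a) ^ 3 ≤ (Q ^ m) ^ 3 := by
      rw [← pow_mul]
      exact ha.trans (Nat.pow_le_pow_right hQ1.le (by omega))
    exact (Nat.pow_le_pow_iff_left (by norm_num)).mp h1
  have hterm : ∀ a : {a : A // a ≠ 1}, Nat.card (fx V (a : A)) ^ 2 ≤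
      (if (a : A) ∈ centralizer (Z : Set A) ∧ (a : A) ∉ F then Q ^ (2 * (d - m)) else 0) + Q ^ (2 * m) := by
    rintro ⟨a, ha1⟩
    by_cases hC : a ∈ centralizer (Z : Set A)
    · by_cases haF : a ∈ F
      · have h1 : Nat.card (fx V a) ≤ Q ^ m := by
          by_cases haZ : a ∈ Z
          · rw [h.fx_Z haZ ha1]
            exact Nat.one_le_pow _ _ (by omega)
          · exact hcube a (h.fx_F hA hF.cen hF.comm hcen haF haZ)
        calc Nat.card (fx V a) ^ 2 ≤ (Q ^ m) ^ 2 := Nat.pow_le_pow_left h1 2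
          _ = Q ^ (2 * m) := by rw [← pow_mul, mul_comm]
          _ ≤ _ := Nat.le_add_left _ _
      · rw [if_pos ⟨hC, haF⟩]
        obtain ⟨k, hk⟩ := h.exists_pow hC
        have h1 : ∃ y ∈ F, ⁅a, y⁆ ∉ Z := by
          by_contra hcon
          push Not at hcon
          exact haF (hF.mem_of_cz hZ h.inj hC (mem_CZ.mpr hcon))
        have h2 := h.fx_six hA hFn hF.cen hF.comm hcen h1
        rw [hk, hVcard, ← pow_mul, ← pow_mul] at h2
        have h3 := (Nat.pow_le_pow_iff_right hQ1).mp h2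
        have h4 : k ≤ d - m := by omega
        rw [hk]
        calc (Nat.card K ^ k) ^ 2 = Q ^ (2 * k) := by rw [← pow_mul, mul_comm]
          _ ≤ Q ^ (2 * (d - m)) := Nat.pow_le_pow_right hQ1.le (by omega)
          _ ≤ _ := Nat.le_add_right _ _
    · have hs : σ a ≠ 1 := fun h' => hC ((h.ker a).mp h')
      have h1 := hcube a (fx_cube_semi hA h.semi hs)
      calc Nat.card (fx V a) ^ 2 ≤ (Q ^ m) ^ 2 := Nat.pow_le_pow_left h1 2
        _ = Q ^ (2 * m) := by rw [← pow_mul, mul_comm]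
        _ ≤ _ := Nat.le_add_left _ _
  have hmap : ∀ g : A → ℕ, ∑ a : {a : A // a ≠ 1}, g (a : A) ≤ ∑ a : A, g a := by
    intro g
    calc ∑ a : {a : A // a ≠ 1}, g (a : A) = ∑ a ∈ (Finset.univ.map (Function.Embedding.subtype (fun a : A => a ≠ 1))), g a := by
          rw [Finset.sum_map]; rfl
      _ ≤ _ := Finset.sum_le_sum_of_subset (Finset.subset_univ _)
  have hsum : ∑ a : {a : A // a ≠ 1}, Nat.card (fx V (a : A)) ^ 2 ≤
      ∑ a : A, ((if a ∈ centralizer (Z : Set A) ∧ a ∉ F then Q ^ (2 * (d - m)) else 0) + Q ^ (2 * m)) :=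
    (Finset.sum_le_sum fun a _ => hterm a).trans
      (hmap (fun a => ((if a ∈ centralizer (Z : Set A) ∧ a ∉ F then Q ^ (2 * (d - m)) else 0) + Q ^ (2 * m))))
  rw [Finset.sum_add_distrib, Finset.sum_const, Finset.card_univ, ← Finset.sum_filter, Finset.sum_const, smul_eq_mul,
    smul_eq_mul, ← Nat.card_eq_fintype_card] at hsum
  refine ⟨(Finset.univ.filter (fun a : A => a ∈ centralizer (Z : Set A) ∧ a ∉ F)).card, ?_, h0.trans hsum⟩
  have h1 : Nat.card F = (Finset.univ.filter (fun a : A => a ∈ F)).card := by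
    rw [Nat.card_eq_fintype_card, Fintype.card_subtype]
  have h2 : Nat.card (centralizer (Z : Set A)) = (Finset.univ.filter (fun a : A => a ∈ centralizer (Z : Set A))).card := by
    rw [Nat.card_eq_fintype_card, Fintype.card_subtype]
  rw [h1, h2, ← Finset.card_union_of_disjoint]
  · congr 1
    ext a
    simp only [Finset.mem_union, Finset.mem_filter, Finset.mem_univ, true_and]
    constructor
    · rintro (h3 | h3)
      · exact h3.1
      · exact hF.cen h3
    · intro h3
      by_cases h4 : a ∈ F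
      · exact Or.inr h4
      · exact Or.inl ⟨h3, h4⟩
  · rw [Finset.disjoint_left]
    intro a ha hb
    simp only [Finset.mem_filter, Finset.mem_univ, true_and] at ha hb
    exact ha.2 hb

end Cfsg.Agent.Lib.OddBaseD
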