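import Mathlib

/-!
# Numerical estimates for linear groups of odd order (helper61)
-/

set_option autoImplicit false

namespace Cfsg.Agent.Lib.OddBaseE

theorem pow_aux {Q a b c x : ℕ} (hx : x ≤ Q ^ a) (hQ : 0 < Q) (h : a + c ≤ b) : x * Q ^ c ≤ Q ^ b :=
  calc x * Q ^ c ≤ Q ^ a * Q ^ c := Nat.mul_le_mul_right _ hx
    _ = Q ^ (a + c) := (pow_add _ _ _).symm
    _ ≤ Q ^ b := Nat.pow_le_pow_right hQ h

theorem big_aux (m : ℕ) (hm : 8 ≤ m) : (3 * m) ^ 6 ≤ 4 ^ (2 * m - 1) := by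
  induction m, hm using Nat.le_induction with
  | base => norm_num
  | succ m hm ih =>
    have h1 : (3 * (m + 1)) ^ 6 ≤ 16 * (3 * m) ^ 6 := by
      have h2 : 3 * (m + 1) * 8 ≤ 9 * (3 * m) := by omega
      have h3 := Nat.pow_le_pow_left h2 6
      rw [mul_pow, mul_pow 9] at h3
      have h4 : (9 : ℕ) ^ 6 ≤ 16 * 8 ^ 6 := by norm_num
      have h5 : (3 * (m + 1)) ^ 6 * 8 ^ 6 ≤ (16 * (3 * m) ^ 6) * 8 ^ 6 := by
        calc (3 * (m + 1)) ^ 6 * 8 ^ 6 ≤ 9 ^ 6 * (3 * m) ^ 6 := h3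
          _ ≤ (16 * 8 ^ 6) * (3 * m) ^ 6 := Nat.mul_le_mul_right _ h4
          _ = _ := by ring
      exact Nat.le_of_mul_le_mul_right h5 (by norm_num)
    have h2 : 2 * (m + 1) - 1 = (2 * m - 1) + 2 := by omega
    rw [h2, pow_add]
    calc (3 * (m + 1)) ^ 6 ≤ 16 * (3 * m) ^ 6 := h1
      _ ≤ 16 * 4 ^ (2 * m - 1) := Nat.mul_le_mul_left _ ih
      _ = _ := by ring

theorem T12 {e Q d m h : ℕ} (he : Odd e) (he3 : 3 ≤ e) (hed : e ≤ d) (hm : d ≤ 3 * m) (hm2 : 3 * m ≤ d + 2) (hQ4 : 4 ≤ Q)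
    (h1 : h ≤ e ^ 4) (c3 : e = 3 → h = 1) (c5 : e = 5 → h ≤ 15 ∧ 11 ≤ Q) (c7 : e = 7 → h ≤ 63 ∧ 8 ≤ Q)
    (c9 : e = 9 → h ≤ 5) (c11 : 11 ≤ e → e ≤ 23 → e + 1 ≤ Q) :
    (h - 1) * e ^ 2 * Q ≤ Q ^ (2 * m) ∧ h * e ^ 2 * Q ^ 2 ≤ Q ^ (2 * (d - m)) := by
  have hQ0 : 0 < Q := by omega
  have hsmall : ∀ (a b x y : ℕ), x ≤ Q ^ a → y ≤ Q ^ b → a + 1 ≤ 2 * m → b + 2 ≤ 2 * (d - m) → (h - 1) * e ^ 2 ≤ x →
      h * e ^ 2 ≤ y → (h - 1) * e ^ 2 * Q ≤ Q ^ (2 * m) ∧ h * e ^ 2 * Q ^ 2 ≤ Q ^ (2 * (d - m)) := by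
    intro a b x y hx hy ha hb hxh hyh
    constructor
    · have := pow_aux (c := 1) (hxh.trans hx) hQ0 ha
      rwa [pow_one] at this
    · exact pow_aux (hyh.trans hy) hQ0 hb
  rcases Nat.lt_or_ge e 11 with he11 | he11
  · have hcases : e = 3 ∨ e = 5 ∨ e = 7 ∨ e = 9 := by
      obtain ⟨k, hk⟩ := he
      omega
    rcases hcases with rfl | rfl | rfl | rfl
    · have := c3 rfl
      subst this
      refine hsmall 0 2 1 16 (by simp) ?_ (by omega) (by omega) (by norm_num) (by norm_num)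
      calc 16 = 4 ^ 2 := by norm_num
        _ ≤ Q ^ 2 := Nat.pow_le_pow_left hQ4 2
    · obtain ⟨h2, h3⟩ := c5 rfl
      refine hsmall 3 3 1331 1331 ?_ ?_ (by omega) (by omega) ?_ ?_
      · calc 1331 = 11 ^ 3 := by norm_num
          _ ≤ Q ^ 3 := Nat.pow_le_pow_left h3 3
      · calc 1331 = 11 ^ 3 := by norm_num
          _ ≤ Q ^ 3 := Nat.pow_le_pow_left h3 3
      · omega
      · omega
    · obtain ⟨h2, h3⟩ := c7 rfl
      refine hsmall 4 4 4096 4096 ?_ ?_ (by omega) (by omega) ?_ ?_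
      · calc 4096 = 8 ^ 4 := by norm_num
          _ ≤ Q ^ 4 := Nat.pow_le_pow_left h3 4
      · calc 4096 = 8 ^ 4 := by norm_num
          _ ≤ Q ^ 4 := Nat.pow_le_pow_left h3 4
      · omega
      · omega
    · have h2 := c9 rfl
      refine hsmall 5 5 1024 1024 ?_ ?_ (by omega) (by omega) ?_ ?_
      · calc 1024 = 4 ^ 5 := by norm_num
          _ ≤ Q ^ 5 := Nat.pow_le_pow_left hQ4 5
      · calc 1024 = 4 ^ 5 := by norm_num
          _ ≤ Q ^ 5 := Nat.pow_le_pow_left hQ4 5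
      · omega
      · omega
  · have h6 : h * e ^ 2 ≤ e ^ 6 := by
      calc h * e ^ 2 ≤ e ^ 4 * e ^ 2 := Nat.mul_le_mul_right _ h1
        _ = e ^ 6 := by ring
    have h6' : (h - 1) * e ^ 2 ≤ e ^ 6 := (Nat.mul_le_mul_right _ (Nat.sub_le h 1)).trans h6
    rcases Nat.lt_or_ge e 24 with he24 | he24
    · have hQe := c11 he11 (by omega)
      have h7 : e ^ 6 ≤ Q ^ 6 := Nat.pow_le_pow_left (by omega) 6
      exact hsmall 6 6 (e ^ 6) (e ^ 6) h7 h7 (by omega) (by omega) h6' h6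
    · have h7 : e ^ 6 ≤ Q ^ (2 * m - 1) := by
        calc e ^ 6 ≤ (3 * m) ^ 6 := Nat.pow_le_pow_left (by omega) 6
          _ ≤ 4 ^ (2 * m - 1) := big_aux m (by omega)
          _ ≤ Q ^ (2 * m - 1) := Nat.pow_le_pow_left hQ4 _
      exact hsmall (2 * m - 1) (2 * m - 1) (e ^ 6) (e ^ 6) h7 h7 (by omega) (by omega) h6' h6

/-- The final contradiction. -/
theorem final {e Q d m h z n a f c : ℕ} (hdm : m ≤ d) (hn : n + f = c) (hf : f = e ^ 2 * z) (hc : c = h * f) (hz : z < Q)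
    (ha : a ≤ Q * c) (he : 0 < e) (hh : 0 < h)
    (T1 : (h - 1) * e ^ 2 * Q ≤ Q ^ (2 * m)) (T2 : h * e ^ 2 * Q ^ 2 ≤ Q ^ (2 * (d - m)))
    (hmain : 2 * Q ^ (2 * d) ≤ n * Q ^ (2 * (d - m)) + a * Q ^ (2 * m)) : False := by
  have hQ0 : 0 < Q := by omega
  have hQd : Q ^ (2 * d) = Q ^ (2 * (d - m)) * Q ^ (2 * m) := by
    rw [← pow_add]; congr 1; omega
  have hn' : n = (h - 1) * f := by
    rw [Nat.sub_mul, one_mul, ← hc]; omega
  have h1 : n * Q ^ (2 * (d - m)) ≤ Q ^ (2 * d) := by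
    rw [hQd, mul_comm (Q ^ (2 * (d - m)))]
    apply Nat.mul_le_mul_right
    calc n = (h - 1) * e ^ 2 * z := by rw [hn', hf]; ring
      _ ≤ (h - 1) * e ^ 2 * Q := Nat.mul_le_mul_left _ hz.le
      _ ≤ _ := T1
  have h2 : a * Q ^ (2 * m) < Q ^ (2 * d) := by
    rw [hQd]
    apply Nat.mul_lt_mul_of_pos_right ?_ (Nat.pow_pos hQ0)
    calc a ≤ Q * c := ha
      _ = (h * e ^ 2 * Q) * z := by rw [hc, hf]; ring
      _ < (h * e ^ 2 * Q) * Q := Nat.mul_lt_mul_of_pos_left hz (by positivity)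
      _ = h * e ^ 2 * Q ^ 2 := by ring
      _ ≤ _ := T2
  omega

end Cfsg.Agent.Lib.OddBaseE
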