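import Cfsg.Agent.Lib.OddBaseB

/-!
# Odd order groups acting on the product of the layers: the group `C_A(Z)/F` (helper61)
-/

set_option autoImplicit false

open Subgroup
open scoped commutatorElement

namespace Cfsg.Agent.Lib.OddBaseF

open OddBaseA OddBaseB

theorem card_linEquiv_dvd {W : Type*} [AddCommGroup W] [Finite W] {r k : ℕ} [hr : Fact r.Prime] [Module (ZMod r) W]
    (hrank : Module.finrank (ZMod r) W = k) : Nat.card (W ≃ₗ[ZMod r] W) ∣ ∏ i : Fin k, (r ^ k - r ^ (i : ℕ)) := by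
  let b := (Module.finBasis (ZMod r) W).reindex (finCongr hrank)
  let Ψ : (W ≃ₗ[ZMod r] W) →* Matrix.GeneralLinearGroup (Fin k) (ZMod r) :=
    (Units.map (LinearMap.toMatrixAlgEquiv b : Module.End (ZMod r) W →* Matrix (Fin k) (Fin k) (ZMod r))).comp
      (LinearMap.GeneralLinearGroup.generalLinearEquiv (ZMod r) W).symm.toMonoidHom
  have hΨ : Function.Injective Ψ := by
    refine Function.Injective.comp (g := Units.map _) ?_ (MulEquiv.injective _)
    exact Units.map_injective (LinearMap.toMatrixAlgEquiv b).injective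
  have h1 := Subgroup.card_dvd_of_injective Ψ hΨ
  have h2 := Matrix.card_GL_field (𝔽 := ZMod r) k
  rw [ZMod.card] at h2
  rw [← h2]
  exact h1

/-- Automorphisms of elementary abelian groups. -/
theorem card_mulAut_dvd_add {W : Type*} [AddCommGroup W] [Finite W] {r k : ℕ} [hr : Fact r.Prime]
    (hexp : ∀ x : W, r • x = 0) (hcard : Nat.card W = r ^ k) :
    Nat.card (MulAut (Multiplicative W)) ∣ ∏ i : Fin k, (r ^ k - r ^ (i : ℕ)) := by
  have inst : Module (ZMod r) W := AddCommGroup.zmodModule hexp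
  have hrank : Module.finrank (ZMod r) W = k := by
    let _ := Fintype.ofFinite W
    rw [Nat.card_eq_fintype_card, Module.card_eq_pow_finrank (K := ZMod r), ZMod.card] at hcard
    exact Nat.pow_right_injective hr.out.two_le hcard
  let Φ : MulAut (Multiplicative W) →* (W ≃ₗ[ZMod r] W) :=
    { toFun := fun f =>
        { toFun := fun x => (f (Multiplicative.ofAdd x)).toAdd
          invFun := fun x => (f.symm (Multiplicative.ofAdd x)).toAdd
          left_inv := fun x => by simp
          right_inv := fun x => by simp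
          map_add' := fun x y => by simp
          map_smul' := fun c x => by
            exact ZMod.map_smul (AddEquiv.toMultiplicative.symm f : W ≃+ W) c x }
      map_one' := by
        ext x; rfl
      map_mul' := fun f g => by
        ext x; rfl }
  have hΦ : Function.Injective Φ := by
    intro f g hfg
    ext x
    exact congrArg (fun t : W ≃ₗ[ZMod r] W => (t x.toAdd)) hfg
  exact (Subgroup.card_dvd_of_injective Φ hΦ).trans (card_linEquiv_dvd hrank)

theorem card_mulAut_dvd_comm {X : Type*} [CommGroup X] [Finite X] {r k : ℕ} [hr : Fact r.Prime]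
    (hexp : ∀ x : X, x ^ r = 1) (hcard : Nat.card X = r ^ k) :
    Nat.card (MulAut X) ∣ ∏ i : Fin k, (r ^ k - r ^ (i : ℕ)) := by
  have hfin : Finite (Additive X) := inferInstanceAs (Finite X)
  have h1 := card_mulAut_dvd_add (W := Additive X) (r := r) (k := k) (fun x => by
    apply Additive.toMul.injective
    rw [toMul_nsmul]
    exact hexp _) hcard
  have e : X ≃* Multiplicative (Additive X) :=
    { toFun := fun x => Multiplicative.ofAdd (Additive.ofMul x)
      invFun := fun x => x.toAdd.toMul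
      left_inv := fun x => rfl
      right_inv := fun x => rfl
      map_mul' := fun x y => rfl }
  rw [Nat.card_congr (MulAut.congr e).toEquiv]
  exact h1

theorem card_mulAut_dvd {X : Type*} [Group X] [Finite X] (hcomm : ∀ x y : X, x * y = y * x) {r k : ℕ} [hr : Fact r.Prime]
    (hexp : ∀ x : X, x ^ r = 1) (hcard : Nat.card X = r ^ k) :
    Nat.card (MulAut X) ∣ ∏ i : Fin k, (r ^ k - r ^ (i : ℕ)) := by
  let C : CommGroup X := { (inferInstance : Group X) with mul_comm := hcomm }
  exact card_mulAut_dvd_comm (X := X) hexp hcard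

variable {A : Type*} [Group A] {Z F M : Subgroup A}

/-- elements with `r`-th power in `Z` -/
def powSub (Z F : Subgroup A) [Z.Normal] (hcomm : ∀ x ∈ F, ∀ y ∈ F, ⁅x, y⁆ ∈ Z) (r : ℕ) : Subgroup A where
  carrier := {x | x ∈ F ∧ x ^ r ∈ Z}
  one_mem' := ⟨one_mem _, by rw [one_pow]; exact one_mem _⟩
  mul_mem' := by
    rintro a b ⟨ha, har⟩ ⟨hb, hbr⟩
    refine ⟨mul_mem ha hb, ?_⟩
    rw [← QuotientGroup.eq_one_iff] at har hbr ⊢
    have hc : Commute (a : A ⧸ Z) (b : A ⧸ Z) := (comm_mem_iff Z a b).mp (hcomm a ha b hb)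
    rw [QuotientGroup.mk_pow, QuotientGroup.mk_mul, hc.mul_pow, ← QuotientGroup.mk_pow, ← QuotientGroup.mk_pow,
      har, hbr, one_mul]
  inv_mem' := by
    rintro a ⟨ha, har⟩
    refine ⟨inv_mem ha, ?_⟩
    rw [inv_pow]
    exact inv_mem har

theorem layer_card [Finite A] [Group.IsSolvable A] (hZ : MaxAb Z) (hcyc : IsCyclic Z) [Z.Normal] {e : ℕ} (h : Full Z F e)
    {r j : ℕ} (hr : r.Prime) (hj : e = r ^ j) (hM : Layer Z M) :
    (∀ x ∈ M, x ^ r ∈ Z) ∧ ∃ n, 1 ≤ n ∧ Nat.card M = r ^ (2 * n) * Nat.card Z := by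
  obtain ⟨r', n, hr', hn, hrZ, hpow, hcard⟩ := hM.exists_card hZ hcyc
  have h1 : Nat.card M ∣ Nat.card F := Subgroup.card_dvd_of_le (h.all M hM)
  rw [hcard, h.card] at h1
  have h2 : r' ^ (2 * n) ∣ e ^ 2 := Nat.dvd_of_mul_dvd_mul_right Nat.card_pos h1
  have h3 : r' ∣ e := by
    apply hr'.dvd_of_dvd_pow (n := 2)
    exact (dvd_pow_self r' (by omega)).trans h2
  rw [hj] at h3
  have h4 : r' = r := (Nat.prime_dvd_prime_iff_eq hr' hr).mp (hr'.dvd_of_dvd_pow h3)
  subst h4
  exact ⟨hpow, n, hn, hcard⟩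

theorem full_pow [Finite A] [Group.IsSolvable A] (hZ : MaxAb Z) (hcyc : IsCyclic Z) [Z.Normal] {e : ℕ} (h : Full Z F e)
    {r j : ℕ} (hr : r.Prime) (hj : e = r ^ j) : ∀ x ∈ F, x ^ r ∈ Z := by
  have h1 : F ≤ powSub Z F h.comm r := by
    apply h.gen
    · intro z hz
      exact ⟨h.le hz, pow_mem hz r⟩
    · intro M hM hMF x hx
      exact ⟨hMF hx, (layer_card hZ hcyc h hr hj hM).1 x hx⟩
  intro x hx
  exact (h1 hx).2

/-- conjugation on `M / Z` -/
noncomputable def cj (Z M : Subgroup A) [Z.Normal] (hM : (M.map (QuotientGroup.mk' Z)).Normal) :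
    A →* MulAut (M.map (QuotientGroup.mk' Z)) :=
  (MulAut.conjNormal (H := M.map (QuotientGroup.mk' Z))).comp (QuotientGroup.mk' Z)

theorem cj_apply [Z.Normal] (hM : (M.map (QuotientGroup.mk' Z)).Normal) (a : A) (x : M.map (QuotientGroup.mk' Z)) :
    ((cj Z M hM a x : M.map (QuotientGroup.mk' Z)) : A ⧸ Z) = (a : A ⧸ Z) * x * (a : A ⧸ Z)⁻¹ := by
  unfold cj
  rw [MonoidHom.comp_apply, MulAut.conjNormal_apply]
  rfl

theorem normal_map [hZn : Z.Normal] (hM : M.Normal) : (M.map (QuotientGroup.mk' Z)).Normal :=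
  Subgroup.Normal.map hM _ (QuotientGroup.mk'_surjective Z)

theorem cj_ker [Z.Normal] (hM : (M.map (QuotientGroup.mk' Z)).Normal) : (cj Z M hM).ker = CZ Z M := by
  ext a
  rw [MonoidHom.mem_ker, mem_CZ]
  constructor
  · intro h x hx
    have h1 := congrArg (fun t : MulAut (M.map (QuotientGroup.mk' Z)) =>
      ((t ⟨(x : A ⧸ Z), ⟨x, hx, rfl⟩⟩ : M.map (QuotientGroup.mk' Z)) : A ⧸ Z)) h
    simp only [cj_apply] at h1
    rw [comm_mem_iff]
    exact mul_inv_eq_iff_eq_mul.mp h1
  · intro h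
    ext x
    rw [cj_apply]
    obtain ⟨y, hy, hxy⟩ := Subgroup.mem_map.mp x.2
    have h1 := (comm_mem_iff Z a y).mp (h y hy)
    have h2 : (x : A ⧸ Z) = (y : A ⧸ Z) := hxy.symm
    show (a : A ⧸ Z) * x * (a : A ⧸ Z)⁻¹ = x
    rw [h2, h1, mul_inv_cancel_right]

theorem index_dvd [Finite A] [Z.Normal] (hM : M.Normal) : (CZ Z M).index ∣ Nat.card (MulAut (M.map (QuotientGroup.mk' Z))) := by
  rw [← cj_ker (normal_map hM), Subgroup.index_ker]
  exact Subgroup.card_subgroup_dvd_card _

/-- The index of `F` in the centraliser of `Z` divides the order of the general linear group. -/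
theorem relIndex_dvd [Finite A] [Group.IsSolvable A] (hZ : MaxAb Z) (hcyc : IsCyclic Z) [Z.Normal] {e : ℕ} (h : Full Z F e)
    {K : Type*} [Field K] [Finite K] {χ : Z →* Kˣ} (hχ : Function.Injective χ)
    {r j : ℕ} [hr : Fact r.Prime] (hj : e = r ^ j) :
    F.relIndex (centralizer (Z : Set A)) ∣ ∏ i : Fin (2 * j), (r ^ (2 * j) - r ^ (i : ℕ)) := by
  have hFn := h.norm
  have h2 : centralizer (Z : Set A) ⊓ CZ Z F = F := by
    apply le_antisymm
    · intro a ha
      exact h.mem_of_cz hZ hχ ha.1 ha.2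
    · exact le_inf h.cen (fun x hx => mem_CZ.mpr (h.comm x hx))
  have h3 : F.relIndex (centralizer (Z : Set A)) = (CZ Z F).relIndex (centralizer (Z : Set A)) := by
    conv_lhs => rw [← h2]
    exact Subgroup.inf_relIndex_left _ _
  rw [h3]
  refine (Subgroup.relIndex_dvd_index_of_normal (CZ Z F) (centralizer (Z : Set A))).trans ((index_dvd hFn).trans ?_)
  apply card_mulAut_dvd
  · rintro ⟨_, x, hx, rfl⟩ ⟨_, y, hy, rfl⟩
    apply Subtype.ext
    exact (comm_mem_iff Z x y).mp (h.comm x hx y hy)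
  · rintro ⟨_, x, hx, rfl⟩
    apply Subtype.ext
    show (x : A ⧸ Z) ^ r = 1
    rw [← QuotientGroup.mk_pow, QuotientGroup.eq_one_iff]
    exact full_pow hZ hcyc h hr.out hj x hx
  · have h4 := h.card
    rw [card_map_mk h.le h4, hj, ← pow_mul, mul_comm]

/-- There is no normal `r`-group above `F` modulo `F`. -/
theorem eq_of_normal_pgroup [Finite A] [Group.IsSolvable A] (hZ : MaxAb Z) (hcyc : IsCyclic Z) [hZn : Z.Normal] {e : ℕ} (h : Full Z F e)
    {K : Type*} [Field K] [Finite K] {χ : Z →* Kˣ} (hχ : Function.Injective χ)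
    {r j : ℕ} [hr : Fact r.Prime] (hj : e = r ^ j) {R : Subgroup A} (hR : R.Normal) (hFR : F ≤ R)
    (hRc : R ≤ centralizer (Z : Set A)) {b : ℕ} (hb : F.relIndex R = r ^ b) : R = F := by
  have hlayer : ∀ M, Layer Z M → R ≤ CZ Z M := by
    intro M hM
    have hMn := hM.norm
    obtain ⟨-, n, hn, hcard⟩ := layer_card hZ hcyc h hr.out hj hM
    -- the image of R
    let P : Subgroup (MulAut (M.map (QuotientGroup.mk' Z))) := R.map (cj Z M (normal_map hMn))
    have hP : IsPGroup r P := by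
      apply IsPGroup.of_card (n := Nat.log r (Nat.card P))
      have h1 : Nat.card P ∣ r ^ b := by
        rw [← hb]
        have h2 : Nat.card P = (cj Z M (normal_map hMn)).ker.relIndex R := (Subgroup.relIndex_ker (K := R) _).symm
        rw [h2, cj_ker]
        apply Subgroup.relIndex_dvd_of_le_left
        intro x hx
        rw [mem_CZ]
        intro y hy
        exact h.comm x hx y (h.all M hM hy)
      obtain ⟨c, -, hc⟩ := (Nat.dvd_prime_pow hr.out).mp h1
      rw [hc, Nat.log_pow hr.out.one_lt]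
    have hcardM : Nat.card (M.map (QuotientGroup.mk' Z)) = r ^ (2 * n) := card_map_mk hM.lt.le hcard
    have hfix := hP.card_modEq_card_fixedPoints (M.map (QuotientGroup.mk' Z))
    rw [hcardM] at hfix
    have hdvd : r ∣ Nat.card (MulAction.fixedPoints P (M.map (QuotientGroup.mk' Z))) := by
      have h1 : r ∣ r ^ (2 * n) := dvd_pow_self r (by omega)
      exact (Nat.ModEq.dvd_iff hfix dvd_rfl).mp h1
    have hone : (1 : M.map (QuotientGroup.mk' Z)) ∈ MulAction.fixedPoints P (M.map (QuotientGroup.mk' Z)) := by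
      intro g
      exact map_one (g : MulAut (M.map (QuotientGroup.mk' Z)))
    have hlt : 1 < Nat.card (MulAction.fixedPoints P (M.map (QuotientGroup.mk' Z))) := by
      have : Nonempty (MulAction.fixedPoints P (M.map (QuotientGroup.mk' Z))) := ⟨⟨1, hone⟩⟩
      have h1 : 0 < Nat.card (MulAction.fixedPoints P (M.map (QuotientGroup.mk' Z))) := Nat.card_pos
      exact lt_of_lt_of_le hr.out.one_lt (Nat.le_of_dvd h1 hdvd)
    have hnt : Nontrivial (MulAction.fixedPoints P (M.map (QuotientGroup.mk' Z))) := Finite.one_lt_card_iff_nontrivial.mp hlt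
    obtain ⟨w, hw⟩ := exists_ne (⟨1, hone⟩ : MulAction.fixedPoints P (M.map (QuotientGroup.mk' Z)))
    obtain ⟨x, hx, hxw⟩ := Subgroup.mem_map.mp (w : M.map (QuotientGroup.mk' Z)).2
    have hxZ : x ∉ Z := by
      intro hxZ
      apply hw
      apply Subtype.ext
      apply Subtype.ext
      show ((w : M.map (QuotientGroup.mk' Z)) : A ⧸ Z) = 1
      rw [← hxw]
      exact (QuotientGroup.eq_one_iff x).mpr hxZ
    have hxR : ∀ a ∈ R, ⁅a, x⁆ ∈ Z := by
      intro a ha
      have h1 := w.2 ⟨cj Z M (normal_map hMn) a, ⟨a, ha, rfl⟩⟩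
      have h2 : (((cj Z M (normal_map hMn) a) (w : M.map (QuotientGroup.mk' Z)) : M.map (QuotientGroup.mk' Z)) : A ⧸ Z) =
        ((w : M.map (QuotientGroup.mk' Z)) : A ⧸ Z) := congrArg Subtype.val h1
      rw [cj_apply, ← hxw] at h2
      rw [comm_mem_iff]
      exact mul_inv_eq_iff_eq_mul.mp h2
    let N : Subgroup A := M ⊓ ⨅ a : R, PZ Z (a : A)
    have hmemN : ∀ y, y ∈ N ↔ y ∈ M ∧ ∀ a ∈ R, ⁅a, y⁆ ∈ Z := by
      intro y
      rw [Subgroup.mem_inf, Subgroup.mem_iInf]
      constructor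
      · rintro ⟨h1, h2⟩
        exact ⟨h1, fun a ha => mem_PZ.mp (h2 ⟨a, ha⟩)⟩
      · rintro ⟨h1, h2⟩
        exact ⟨h1, fun a => mem_PZ.mpr (h2 a a.2)⟩
    have hNn : N.Normal := by
      constructor
      intro y hy g
      rw [hmemN] at hy ⊢
      refine ⟨hMn.conj_mem y hy.1 g, ?_⟩
      intro a ha
      have h1 := hy.2 (g⁻¹ * a * g) (by
        have := hR.conj_mem a ha g⁻¹
        rwa [inv_inv] at this)
      have h2 := hZn.conj_mem _ h1 g
      have h3 : ⁅a, g * y * g⁻¹⁆ = g * ⁅g⁻¹ * a * g, y⁆ * g⁻¹ := by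
        simp only [commutatorElement_def]; group
      rw [h3]
      exact h2
    have hZN : Z ≤ N := by
      intro z hz
      rw [hmemN]
      exact ⟨hM.lt.le hz, fun a _ => mem_PZ.mp (Z_le_PZ hz)⟩
    have hNM : N = M := by
      rcases hM.min N hNn hZN inf_le_left with h1 | h1
      · exfalso
        apply hxZ
        rw [← h1, hmemN]
        exact ⟨hx, hxR⟩
      · exact h1
    intro a ha
    rw [mem_CZ]
    intro y hy
    rw [← hNM, hmemN] at hy
    exact hy.2 a ha
  apply le_antisymm ?_ hFR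
  intro a ha
  refine h.mem_of_cz hZ hχ (hRc ha) ?_
  rw [mem_CZ]
  have h1 : F ≤ PZ Z a := by
    apply h.gen
    · exact Z_le_PZ
    · intro M hM _ y hy
      rw [mem_PZ]
      exact mem_CZ.mp (hlayer M hM ha) y hy
  intro x hx
  exact mem_PZ.mp (h1 hx)

end Cfsg.Agent.Lib.OddBaseF
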