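import Cfsg.Agent.Lib.OddBaseF

/-!
# Odd order groups acting on the product of the layers: small cases (helper61)
-/

set_option autoImplicit false

open Subgroup
open scoped commutatorElement

namespace Cfsg.Agent.Lib.OddBaseG

open OddBaseA OddBaseB OddBaseF

theorem fix_mod {G : Type*} [Group G] [Finite G] (D C : Subgroup G) {x : G} {s : ℕ} (hs : s.Prime)
    (hD : ∀ d ∈ D, x * d * x⁻¹ ∈ D) (hx : ∀ d ∈ D, x ^ s * d = d * x ^ s)
    (hC : ∀ g, g ∈ C ↔ g ∈ D ∧ x * g = g * x) : Nat.card D ≡ Nat.card C [MOD s] := by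
  have : Fact s.Prime := ⟨hs⟩
  let f : D → D := fun d => ⟨x * d * x⁻¹, hD d d.2⟩
  have hf : ∀ d, ((f d : D) : G) = x * d * x⁻¹ := fun d => rfl
  have hpow : ∀ (n : ℕ) (d : D), ((f^[n] d : D) : G) = x ^ n * d * (x ^ n)⁻¹ := by
    intro n
    induction n with
    | zero => intro d; simp
    | succ n ih =>
      intro d
      rw [Function.iterate_succ_apply', hf, ih, pow_succ']
      group
  have hfs : ∀ d, f^[s] d = d := by
    intro d
    apply Subtype.ext
    rw [hpow, hx d d.2, mul_inv_cancel_right]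
  have h1 : s - 1 + 1 = s := Nat.sub_add_cancel hs.one_le
  let τ : Equiv.Perm D :=
    { toFun := f
      invFun := f^[s - 1]
      left_inv := by
        intro d
        have := hfs d
        rw [← h1, Function.iterate_succ_apply] at this
        exact this
      right_inv := by
        intro d
        have := hfs d
        rw [← h1, Function.iterate_succ_apply'] at this
        exact this }
  have hτ : ∀ n : ℕ, ∀ d, (τ ^ n) d = f^[n] d := by
    intro n
    induction n with
    | zero => intro d; rfl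
    | succ n ih =>
      intro d
      rw [pow_succ', Equiv.Perm.mul_apply, ih, Function.iterate_succ_apply']
      rfl
  have hτs : τ ^ s = 1 := by
    ext d : 1
    rw [hτ, hfs]
    rfl
  have hp : IsPGroup s (Subgroup.zpowers τ) := by
    rintro ⟨_, k, rfl⟩
    refine ⟨1, ?_⟩
    apply Subtype.ext
    show (τ ^ k) ^ (s ^ 1) = 1
    rw [pow_one, ← zpow_natCast, zpow_comm, zpow_natCast, hτs, one_zpow]
  have h2 := hp.card_modEq_card_fixedPoints D
  refine h2.trans ?_
  have h3 : Nat.card (MulAction.fixedPoints (Subgroup.zpowers τ) D) = Nat.card C := by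
    refine Nat.card_congr
      { toFun := fun d => ⟨(d : D), (hC _).mpr ⟨(d : D).2, ?_⟩⟩
        invFun := fun c => ⟨⟨c, ((hC c).mp c.2).1⟩, ?_⟩
        left_inv := fun d => rfl
        right_inv := fun c => rfl }
    · have := d.2 ⟨τ, Subgroup.mem_zpowers τ⟩
      have h3 : x * ((d : D) : G) * x⁻¹ = ((d : D) : G) := congrArg Subtype.val this
      exact mul_inv_eq_iff_eq_mul.mp h3
    · have h4 : τ • (⟨(c : G), ((hC c).mp c.2).1⟩ : D) = ⟨(c : G), ((hC c).mp c.2).1⟩ := by
        apply Subtype.ext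
        show x * (c : G) * x⁻¹ = c
        rw [((hC c).mp c.2).2, mul_inv_cancel_right]
      rintro ⟨g, hg⟩
      have h5 : Subgroup.zpowers τ ≤ MulAction.stabilizer (Equiv.Perm D) (⟨(c : G), ((hC c).mp c.2).1⟩ : D) := by
        rw [Subgroup.zpowers_le]
        exact h4
      exact h5 hg
  rw [h3]

variable {A : Type*} [Group A] {Z F : Subgroup A}

/-- No element of order 13 for `e = 9`. -/
theorem not_thirteen [Finite A] [Group.IsSolvable A] (hA : Odd (Nat.card A)) (hZ : MaxAb Z) (hcyc : IsCyclic Z) [hZn : Z.Normal]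
    (h : Full Z F 9) {K : Type*} [Field K] [Finite K] {χ : Z →* Kˣ} (hχ : Function.Injective χ) :
    ¬ 13 ∣ F.relIndex (centralizer (Z : Set A)) := by
  intro hdvd
  have hFn := h.norm
  have hpowF := full_pow hZ hcyc h Nat.prime_three (j := 2) (by norm_num)
  have h13 : Nat.Prime 13 := by norm_num
  have : Fact (Nat.Prime 13) := ⟨h13⟩
  -- an element of order 13 modulo F
  obtain ⟨x, hxC, hxF, hx13⟩ : ∃ x ∈ centralizer (Z : Set A), x ∉ F ∧ x ^ 13 ∈ F := by
    have h1 : 13 ∣ Nat.card (centralizer (Z : Set A) ⧸ F.subgroupOf (centralizer (Z : Set A))) := hdvd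
    obtain ⟨y, hy⟩ := exists_prime_orderOf_dvd_card' 13 h1
    obtain ⟨x, rfl⟩ := QuotientGroup.mk_surjective y
    refine ⟨x, x.2, ?_, ?_⟩
    · intro hxF
      have h2 : ((x : centralizer (Z : Set A)) : centralizer (Z : Set A) ⧸ F.subgroupOf (centralizer (Z : Set A))) = 1 :=
        (QuotientGroup.eq_one_iff x).mpr (Subgroup.mem_subgroupOf.mpr hxF)
      rw [h2, orderOf_one] at hy
      norm_num at hy
    · have h2 : ((x ^ 13 : centralizer (Z : Set A)) : centralizer (Z : Set A) ⧸ F.subgroupOf (centralizer (Z : Set A))) = 1 := by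
        rw [QuotientGroup.mk_pow, ← hy, pow_orderOf_eq_one]
      exact Subgroup.mem_subgroupOf.mp ((QuotientGroup.eq_one_iff _).mp h2)
  -- the fixed points in F/Z
  let Fb : Subgroup (A ⧸ Z) := F.map (QuotientGroup.mk' Z)
  have hFb : Fb.Normal := normal_map hFn
  have hcardFb : Nat.card Fb = 81 := by
    have := card_map_mk h.le h.card
    rw [this]; norm_num
  have hcommFb : ∀ u ∈ Fb, ∀ v ∈ Fb, u * v = v * u := by
    rintro _ ⟨u, hu, rfl⟩ _ ⟨v, hv, rfl⟩
    exact (comm_mem_iff Z u v).mp (h.comm u hu v hv)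
  let xb : A ⧸ Z := (x : A ⧸ Z)
  have hx13b : ∀ d ∈ Fb, xb ^ 13 * d = d * xb ^ 13 := by
    intro d hd
    exact hcommFb _ ⟨x ^ 13, hx13, rfl⟩ _ hd
  let Cb : Subgroup (A ⧸ Z) := Fb ⊓ centralizer {xb}
  have hCb : ∀ g, g ∈ Cb ↔ g ∈ Fb ∧ xb * g = g * xb := by
    intro g
    rw [Subgroup.mem_inf, Subgroup.mem_centralizer_iff]
    simp
  have hmod := fix_mod Fb Cb h13 (fun d hd => hFb.conj_mem d hd xb) hx13b hCb
  rw [hcardFb] at hmod
  have hCbF : Cb ≤ Fb := inf_le_left
  have hCbne : Nat.card Cb ≠ 81 := by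
    intro h1
    have h2 : Cb = Fb := Subgroup.eq_of_le_of_card_ge hCbF (by rw [h1, hcardFb])
    apply hxF
    refine h.mem_of_cz hZ hχ hxC ?_
    rw [mem_CZ]
    intro y hy
    rw [comm_mem_iff]
    have h3 : (y : A ⧸ Z) ∈ Cb := by rw [h2]; exact ⟨y, hy, rfl⟩
    exact ((hCb _).mp h3).2
  have hCb3 : Nat.card Cb = 3 := by
    have h1 : Nat.card Cb ∣ 3 ^ 4 := by
      have := Subgroup.card_dvd_of_le hCbF
      rw [hcardFb] at this
      norm_num
      exact this
    obtain ⟨k, hk, hk2⟩ := (Nat.dvd_prime_pow Nat.prime_three).mp h1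
    rw [hk2] at hmod hCbne ⊢
    interval_cases k
    · exact absurd hmod (by decide)
    · norm_num
    · exact absurd hmod (by decide)
    · exact absurd hmod (by decide)
    · exact absurd rfl hCbne
  -- an element y generating Y modulo Z
  have hCbnt : Nontrivial Cb := by
    rw [← Finite.one_lt_card_iff_nontrivial, hCb3]; norm_num
  obtain ⟨yb, hyb⟩ := exists_ne (1 : Cb)
  obtain ⟨y, hyF, hyy⟩ := Subgroup.mem_map.mp (hCbF yb.2)
  have hyZ : y ∉ Z := by
    intro hyZ
    apply hyb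
    apply Subtype.ext
    rw [← hyy]
    exact (QuotientGroup.eq_one_iff y).mpr hyZ
  have hyx : ⁅x, y⁆ ∈ Z := by
    rw [comm_mem_iff]
    have h1 := ((hCb _).mp yb.2).2
    rw [← hyy] at h1
    exact h1
  have hgen : ∀ w ∈ Cb, w ∈ Subgroup.zpowers (yb : A ⧸ Z) := by
    have h1 : Nat.card Cb = 3 := hCb3
    intro w hw
    have : Fact (Nat.Prime 3) := ⟨Nat.prime_three⟩
    have h2 := mem_zpowers_of_prime_card (p := 3) h1 hyb (g' := (⟨w, hw⟩ : Cb))
    obtain ⟨k, hk⟩ := h2
    exact ⟨k, congrArg Subtype.val hk⟩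
  -- the centraliser of y in F
  let X : Subgroup A := F ⊓ centralizer {y}
  have hX : ∀ g, g ∈ X ↔ g ∈ F ∧ y * g = g * y := by
    intro g
    rw [Subgroup.mem_inf, Subgroup.mem_centralizer_iff]
    simp
  have hZX : Z ≤ X := by
    intro z hz
    rw [hX]
    exact ⟨h.le hz, commute_of_le h.cen hyF hz⟩
  have hXF : X ≤ F := inf_le_left
  -- index 3
  have hidx : X.relIndex F = 3 := by
    let φ : F →* Z :=
      { toFun := fun f => ⟨⁅(f : A), y⁆, h.comm f f.2 y hyF⟩
        map_one' := by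
          apply Subtype.ext
          simp
        map_mul' := by
          intro a b
          apply Subtype.ext
          have h5 := PGroupClassTwo.comm_mul_left (comm_mem_center h.cen h.comm) a b ⟨y, hyF⟩
          exact congrArg (fun t : F => (t : A)) h5 }
    have hker : φ.ker = X.subgroupOf F := by
      ext f
      rw [MonoidHom.mem_ker, Subgroup.mem_subgroupOf, hX]
      constructor
      · intro h1
        exact ⟨f.2, (commutatorElement_eq_one_iff_mul_comm.mp (congrArg Subtype.val h1)).symm⟩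
      · rintro ⟨-, h1⟩
        apply Subtype.ext
        exact commutatorElement_eq_one_iff_mul_comm.mpr h1.symm
    have h1 : X.relIndex F = Nat.card φ.range := by
      rw [← Subgroup.index_ker, hker]; rfl
    have h2 : Nat.card φ.range ≤ 3 := by
      have : Fintype Z := Fintype.ofFinite Z
      classical
      have h3 : ((Finset.univ : Finset Z).filter (fun a => a ^ 3 = 1)).card ≤ 3 := IsCyclic.card_pow_eq_one_le (by norm_num)
      refine le_trans ?_ h3
      rw [Nat.card_eq_fintype_card, Fintype.card_subtype]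
      apply Finset.card_le_card
      intro t ht
      rw [Finset.mem_filter] at ht ⊢
      refine ⟨Finset.mem_univ _, ?_⟩
      obtain ⟨f, rfl⟩ := ht.2
      apply Subtype.ext
      exact comm_pow_eq_one h.cen h.comm f.2 hyF (hpowF f f.2)
    have h3 : Nat.card φ.range ≠ 1 := by
      intro h3
      rw [← h1, Subgroup.relIndex_eq_one] at h3
      apply hyZ
      refine hZ.cen_eq hFn h.le h.cen hyF ?_
      intro w hw
      exact ((hX w).mp (h3 hw)).2
    have h4 : Odd (Nat.card φ.range) := by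
      refine hA.of_dvd_nat ?_
      exact (Subgroup.card_subgroup_dvd_card φ.range).trans (Subgroup.card_subgroup_dvd_card Z)
    have h5 : 0 < Nat.card φ.range := Nat.card_pos
    rw [h1]
    obtain ⟨k, hk⟩ := h4
    omega
  have hcardX : Nat.card X = 27 * Nat.card Z := by
    have h1 := card_mul_relIndex hXF
    rw [hidx, h.card] at h1
    omega
  let Xb : Subgroup (A ⧸ Z) := X.map (QuotientGroup.mk' Z)
  have hcardXb : Nat.card Xb = 27 := card_map_mk hZX hcardX
  have hXbF : Xb ≤ Fb := Subgroup.map_mono hXF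
  have hinv : ∀ d ∈ Xb, xb * d * xb⁻¹ ∈ Xb := by
    rintro _ ⟨f, hf, rfl⟩
    refine ⟨x * f * x⁻¹, ?_, rfl⟩
    have hf' := (hX f).mp hf
    show x * f * x⁻¹ ∈ X
    rw [hX]
    refine ⟨hFn.conj_mem f hf'.1 x, ?_⟩
    set c := ⁅x, y⁆ with hc
    have h1 : x * y = c * y * x := by rw [hc, commutatorElement_def]; group
    have hcx : x * c = c * x := (Subgroup.mem_centralizer_iff.mp hxC c hyx).symm
    have hcf : f * c = c * f := commute_of_le h.cen hf'.1 hyx
    have hcy : y * c = c * y := commute_of_le h.cen hyF hyx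
    have hcx' : c⁻¹ * x = x * c⁻¹ := by
      rw [inv_mul_eq_iff_eq_mul, ← mul_assoc, ← hcx, mul_inv_cancel_right]
    have hcf' : f * c⁻¹ = c⁻¹ * f := by
      rw [eq_inv_mul_iff_mul_eq, ← mul_assoc, ← hcf, mul_inv_cancel_right]
    have h2 : y * x = x * (c⁻¹ * y) := by
      rw [← mul_assoc, ← hcx', mul_assoc, h1]; group
    have h3 : x⁻¹ * y = (c⁻¹ * y) * x⁻¹ := by
      rw [inv_mul_eq_iff_eq_mul, ← mul_assoc, ← h2, mul_inv_cancel_right]
    calc y * (x * f * x⁻¹) = (y * x) * f * x⁻¹ := by group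
      _ = x * (c⁻¹ * (y * f)) * x⁻¹ := by rw [h2]; group
      _ = x * ((c⁻¹ * f) * y) * x⁻¹ := by rw [hf'.2]; group
      _ = x * f * ((c⁻¹ * y) * x⁻¹) := by rw [← hcf']; group
      _ = x * f * x⁻¹ * y := by rw [← h3]; group
  have hfixX : ∀ g, g ∈ Cb ↔ g ∈ Xb ∧ xb * g = g * xb := by
    intro g
    constructor
    · intro hg
      refine ⟨?_, ((hCb g).mp hg).2⟩
      obtain ⟨k, hk⟩ := hgen g hg
      simp only at hk
      rw [← hk, ← hyy]
      refine ⟨y ^ k, ?_, ?_⟩
      · show y ^ k ∈ X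
        apply zpow_mem
        rw [hX]
        exact ⟨hyF, rfl⟩
      · rw [map_zpow]
    · rintro ⟨hg1, hg2⟩
      exact (hCb g).mpr ⟨hXbF hg1, hg2⟩
  have hmod2 := fix_mod Xb Cb h13 hinv (fun d hd => hx13b d (hXbF hd)) hfixX
  rw [hcardXb, hCb3] at hmod2
  exact absurd hmod2 (by decide)

theorem mem_sylow_of_pow {H : Type*} [Group H] [Finite H] {p : ℕ} [Fact p.Prime] (P : Sylow p H)
    (hP : (P : Subgroup H).Normal) {x : H} {k : ℕ} (hx : x ^ p ^ k = 1) : x ∈ (P : Subgroup H) := by
  have h1 : IsPGroup p (Subgroup.zpowers x) := by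
    rintro ⟨_, j, rfl⟩
    refine ⟨k, ?_⟩
    apply Subtype.ext
    show (x ^ j) ^ (p ^ k) = 1
    rw [← zpow_natCast, zpow_comm, zpow_natCast, hx, one_zpow]
  obtain ⟨Q, hQ⟩ := h1.exists_le_sylow
  have h2 : Subsingleton (Sylow p H) := (Sylow.unique_of_normal P hP).instSubsingleton
  have h3 : Q = P := Subsingleton.elim _ _
  rw [← h3]
  exact hQ (Subgroup.mem_zpowers x)

theorem nine [Finite A] [Group.IsSolvable A] (hA : Odd (Nat.card A)) (hZ : MaxAb Z) (hcyc : IsCyclic Z) [hZn : Z.Normal]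
    (h : Full Z F 9) {K : Type*} [Field K] [Finite K] {χ : Z →* Kˣ} (hχ : Function.Injective χ) :
    F.relIndex (centralizer (Z : Set A)) ≤ 5 := by
  have hFn := h.norm
  have : Fact (Nat.Prime 3) := ⟨Nat.prime_three⟩
  set C := centralizer (Z : Set A) with hC
  have hCn : C.Normal := by rw [hC]; infer_instance
  have h0 : F.relIndex C ∣ ∏ i : Fin (2 * 2), (3 ^ (2 * 2) - 3 ^ (i : ℕ)) := relIndex_dvd hZ hcyc h hχ (r := 3) (j := 2) (by norm_num)
  have h1 : ∏ i : Fin (2 * 2), (3 ^ (2 * 2) - 3 ^ (i : ℕ)) = 512 * 47385 := by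
    simp only [Fin.prod_univ_succ, Fin.prod_univ_zero]
    norm_num
  rw [h1] at h0
  have hodd : Odd (F.relIndex C) := by
    refine hA.of_dvd_nat ?_
    exact (Subgroup.relIndex_dvd_card F C).trans (Subgroup.card_subgroup_dvd_card C)
  have h2 : F.relIndex C ∣ 47385 := by
    refine Nat.Coprime.dvd_of_dvd_mul_left ?_ h0
    have : Nat.Coprime (F.relIndex C) (2 ^ 9) := Nat.Coprime.pow_right 9 (Nat.coprime_two_right.mpr hodd)
    norm_num at this
    exact this
  have h3 : F.relIndex C ∣ 3 ^ 6 * 5 := by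
    have h4 : Nat.Coprime (F.relIndex C) 13 := by
      rw [Nat.coprime_comm]
      exact (Nat.Prime.coprime_iff_not_dvd (by norm_num)).mpr (not_thirteen hA hZ hcyc h hχ)
    refine Nat.Coprime.dvd_of_dvd_mul_left h4 ?_
    norm_num
    exact h2
  have hFCn : (F.subgroupOf C).Normal := Subgroup.Normal.subgroupOf hFn C
  let H := C ⧸ F.subgroupOf C
  have hcardH : Nat.card H = F.relIndex C := rfl
  obtain ⟨P⟩ : Nonempty (Sylow 3 H) := inferInstance
  have hPidx : (P : Subgroup H).index ∣ 5 := by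
    have h4 : (P : Subgroup H).index ∣ 3 ^ 6 * 5 := ((P : Subgroup H).index_dvd_card.trans (by rw [hcardH])).trans h3
    have h5 : Nat.Coprime (P : Subgroup H).index (3 ^ 6) := by
      apply Nat.Coprime.pow_right
      rw [Nat.coprime_comm]
      exact (Nat.Prime.coprime_iff_not_dvd Nat.prime_three).mpr P.not_dvd_index
    exact Nat.Coprime.dvd_of_dvd_mul_left h5 h4
  have hn1 : Nat.card (Sylow 3 H) = 1 := by
    have h4 : Nat.card (Sylow 3 H) ∣ 5 := P.card_dvd_index.trans hPidx
    have h5 := card_sylow_modEq_one 3 H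
    rcases (Nat.dvd_prime (by norm_num : Nat.Prime 5)).mp h4 with h6 | h6
    · exact h6
    · rw [h6] at h5
      exact absurd h5 (by decide)
  have hPn : (P : Subgroup H).Normal := by
    have : Subsingleton (Sylow 3 H) := (Nat.card_eq_one_iff_unique.mp hn1).1
    exact Sylow.normal_of_subsingleton P
  let R' : Subgroup C := (P : Subgroup H).comap (QuotientGroup.mk' (F.subgroupOf C))
  let R : Subgroup A := R'.map C.subtype
  have hRC : R ≤ C := Subgroup.map_subtype_le _
  have hmemR : ∀ x, x ∈ R ↔ x ∈ C ∧ ∃ k : ℕ, x ^ 3 ^ k ∈ F := by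
    intro x
    constructor
    · rintro ⟨y, hy, rfl⟩
      refine ⟨y.2, ?_⟩
      obtain ⟨k, hk⟩ := P.2 ⟨_, Subgroup.mem_comap.mp hy⟩
      refine ⟨k, ?_⟩
      have h4 : ((y ^ 3 ^ k : C) : H) = 1 := by
        rw [QuotientGroup.mk_pow]
        exact congrArg Subtype.val hk
      exact Subgroup.mem_subgroupOf.mp ((QuotientGroup.eq_one_iff _).mp h4)
    · rintro ⟨hx, k, hk⟩
      refine ⟨⟨x, hx⟩, ?_, rfl⟩
      show (⟨x, hx⟩ : C) ∈ R'
      rw [Subgroup.mem_comap]
      apply mem_sylow_of_pow P hPn (k := k)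
      rw [← map_pow]
      exact (QuotientGroup.eq_one_iff _).mpr (Subgroup.mem_subgroupOf.mpr hk)
  have hRn : R.Normal := by
    constructor
    intro x hx g
    rw [hmemR] at hx ⊢
    refine ⟨hCn.conj_mem x hx.1 g, ?_⟩
    obtain ⟨k, hk⟩ := hx.2
    refine ⟨k, ?_⟩
    rw [conj_pow]
    exact hFn.conj_mem _ hk g
  have hFR : F ≤ R := by
    intro x hx
    rw [hmemR]
    exact ⟨h.cen hx, 0, by simpa using hx⟩
  have hidx : R.relIndex C = (P : Subgroup H).index := by
    have h4 : R.subgroupOf C = R' := by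
      show (R'.map C.subtype).subgroupOf C = R'
      rw [Subgroup.subgroupOf, Subgroup.comap_map_eq_self_of_injective (Subgroup.subtype_injective C)]
    show (R.subgroupOf C).index = _
    rw [h4]
    exact Subgroup.index_comap_of_surjective _ (QuotientGroup.mk'_surjective _)
  have hFRcard : F.relIndex R = Nat.card P := by
    have h4 := Subgroup.relIndex_mul_relIndex F R C hFR hRC
    rw [hidx] at h4
    have h5 := (P : Subgroup H).card_mul_index
    rw [hcardH, ← h4] at h5
    exact (Nat.eq_of_mul_eq_mul_right (Nat.pos_of_ne_zero (P : Subgroup H).index_ne_zero_of_finite) h5).symm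
  obtain ⟨b, hb⟩ := IsPGroup.iff_card.mp P.2
  have hRF := eq_of_normal_pgroup hZ hcyc h hχ (r := 3) (j := 2) (by norm_num) hRn hFR (by rw [← hC]; exact hRC)
    (b := b) (by rw [hFRcard]; exact hb)
  rw [hRF] at hidx
  rw [hidx]
  exact Nat.le_of_dvd (by norm_num) hPidx

theorem small [Finite A] [Group.IsSolvable A] (hA : Odd (Nat.card A)) (hZ : MaxAb Z) (hcyc : IsCyclic Z) [hZn : Z.Normal] {e : ℕ}
    (h : Full Z F e) {K : Type*} [Field K] [Finite K] {χ : Z →* Kˣ} (hχ : Function.Injective χ) :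
    (e = 3 → F.relIndex (centralizer (Z : Set A)) = 1) ∧ (e = 5 → F.relIndex (centralizer (Z : Set A)) ≤ 15) ∧
    (e = 7 → F.relIndex (centralizer (Z : Set A)) ≤ 63) ∧ (e = 9 → F.relIndex (centralizer (Z : Set A)) ≤ 5) := by
  have hodd : Odd (F.relIndex (centralizer (Z : Set A))) := by
    refine hA.of_dvd_nat ?_
    exact (Subgroup.relIndex_dvd_card F _).trans (Subgroup.card_subgroup_dvd_card _)
  have hcop : ∀ n, Nat.Coprime (F.relIndex (centralizer (Z : Set A))) (2 ^ n) := fun n =>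
    Nat.Coprime.pow_right n (Nat.coprime_two_right.mpr hodd)
  refine ⟨?_, ?_, ?_, ?_⟩
  · intro he
    subst he
    have : Fact (Nat.Prime 3) := ⟨Nat.prime_three⟩
    have h0 := relIndex_dvd hZ hcyc h hχ (r := 3) (j := 1) (by norm_num)
    have h1 : ∏ i : Fin (2 * 1), (3 ^ (2 * 1) - 3 ^ (i : ℕ)) = 2 ^ 4 * 3 := by
      simp only [Fin.prod_univ_succ, Fin.prod_univ_zero]
      norm_num
    rw [h1] at h0
    have h2 := Nat.Coprime.dvd_of_dvd_mul_left (hcop 4) h0
    rcases (Nat.dvd_prime Nat.prime_three).mp h2 with h3 | h3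
    · exact h3
    · have h4 := eq_of_normal_pgroup hZ hcyc h hχ (r := 3) (j := 1) (by norm_num)
        (R := centralizer (Z : Set A)) inferInstance h.cen le_rfl (b := 1) (by rw [h3]; norm_num)
      rw [h4, Subgroup.relIndex_self]
  · intro he
    subst he
    have : Fact (Nat.Prime 5) := ⟨by norm_num⟩
    have h0 := relIndex_dvd hZ hcyc h hχ (r := 5) (j := 1) (by norm_num)
    have h1 : ∏ i : Fin (2 * 1), (5 ^ (2 * 1) - 5 ^ (i : ℕ)) = 2 ^ 5 * 15 := by
      simp only [Fin.prod_univ_succ, Fin.prod_univ_zero]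
      norm_num
    rw [h1] at h0
    exact Nat.le_of_dvd (by norm_num) (Nat.Coprime.dvd_of_dvd_mul_left (hcop 5) h0)
  · intro he
    subst he
    have : Fact (Nat.Prime 7) := ⟨by norm_num⟩
    have h0 := relIndex_dvd hZ hcyc h hχ (r := 7) (j := 1) (by norm_num)
    have h1 : ∏ i : Fin (2 * 1), (7 ^ (2 * 1) - 7 ^ (i : ℕ)) = 2 ^ 5 * 63 := by
      simp only [Fin.prod_univ_succ, Fin.prod_univ_zero]
      norm_num
    rw [h1] at h0
    exact Nat.le_of_dvd (by norm_num) (Nat.Coprime.dvd_of_dvd_mul_left (hcop 5) h0)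
  · intro he
    subst he
    exact nine hA hZ hcyc h hχ

end Cfsg.Agent.Lib.OddBaseG
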