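import Cfsg.Agent.Lib.OddBaseD
import Cfsg.Agent.Lib.OddBaseE
import Cfsg.Agent.Lib.OddBaseG

/-!
# Semilinear groups of odd order: base of size two, the homogeneous case (helper61)
-/

set_option autoImplicit false

open Subgroup
open scoped commutatorElement

namespace Cfsg.Agent.Lib.OddBaseH

open OddBaseA OddBaseB OddBaseC OddBaseD OddBaseE OddBaseF OddBaseG

theorem exists_gen (K : Type*) [Field K] [Finite K] :
    ∃ g : K, ∀ f f' : K ≃+* K, f g = f' g → f = f' := by
  obtain ⟨g, hg⟩ := IsCyclic.exists_generator (α := Kˣ)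
  refine ⟨g, ?_⟩
  intro f f' h
  ext x
  by_cases hx : x = 0
  · rw [hx, map_zero, map_zero]
  · obtain ⟨n, hn⟩ := hg (Units.mk0 x hx)
    have h1 : (g : K) ^ n = x := by
      have := congrArg Units.val hn
      simpa using this
    rw [← h1, map_zpow₀, map_zpow₀, h]

theorem card_ringEquiv_le (K : Type*) [Field K] [Finite K] : Nat.card (K ≃+* K) ≤ Nat.card K := by
  obtain ⟨g, hg⟩ := exists_gen K
  exact Nat.card_le_card_of_injective (fun f : K ≃+* K => f g) (fun f f' h => hg f f' h)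

variable {K V A : Type*} [Field K] [AddCommGroup V] [Module K V] [Group A] [DistribMulAction A V]
  {σ : A →* (K ≃+* K)} {Z F : Subgroup A} {χ : Z →* Kˣ}

theorem LS.ker_eq (h : LS V σ Z χ) : σ.ker = centralizer (Z : Set A) := by
  ext a
  rw [MonoidHom.mem_ker]
  exact h.ker a

theorem LS.card_le_mul [Finite K] [Finite A] (h : LS V σ Z χ) : Nat.card A ≤ Nat.card K * Nat.card (centralizer (Z : Set A)) := by
  rw [← LS.ker_eq h, ← Subgroup.card_mul_index σ.ker, Subgroup.index_ker, mul_comm]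
  apply Nat.mul_le_mul_right
  have hfin : Finite (K ≃+* K) := Finite.of_injective (fun f : K ≃+* K => (f : K → K)) DFunLike.coe_injective
  exact (Nat.card_le_card_of_injective _ Subtype.val_injective).trans (card_ringEquiv_le K)

/-- The case of a self-centralising scalar subgroup. -/
theorem LS.base_of_self [Finite K] [Nontrivial V] (h : LS V σ Z χ) (hC : centralizer (Z : Set A) ≤ Z) :
    ∃ v w : V, ∀ a : A, a • v = v → a • w = w → a = 1 := by
  obtain ⟨v, hv⟩ := exists_ne (0 : V)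
  obtain ⟨g, hg⟩ := exists_gen K
  refine ⟨v, g • v, ?_⟩
  intro a h1 h2
  rw [h.semi, h1] at h2
  have h3 : (σ a g - g) • v = 0 := by rw [sub_smul, h2, sub_self]
  have h4 : σ a g = g := sub_eq_zero.mp ((smul_eq_zero.mp h3).resolve_right hv)
  have h5 : σ a = 1 := hg _ _ (by rw [h4]; rfl)
  have h6 : a ∈ Z := hC ((h.ker a).mp h5)
  have h7 := h.chi ⟨a, h6⟩ v
  rw [h1] at h7
  have h8 : (((χ ⟨a, h6⟩ : Kˣ) : K) - 1) • v = 0 := by
    rw [sub_smul, ← h7, one_smul, sub_self]
  have h9 : ((χ ⟨a, h6⟩ : Kˣ) : K) = 1 := sub_eq_zero.mp ((smul_eq_zero.mp h8).resolve_right hv)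
  have h10 : (⟨a, h6⟩ : Z) = 1 := by
    apply h.inj
    rw [map_one]
    exact Units.ext h9
  exact congrArg Subtype.val h10

theorem sq_lt_four_pow (d : ℕ) : d ^ 2 < 4 ^ d := by
  have h1 : d < 2 ^ d := Nat.lt_two_pow_self
  calc d ^ 2 < (2 ^ d) ^ 2 := Nat.pow_lt_pow_left h1 (by norm_num)
    _ = 4 ^ d := by rw [← pow_mul, mul_comm, pow_mul]; norm_num

theorem LS.four_le [Finite K] [Finite A] (hA : Odd (Nat.card A)) (h : LS V σ Z χ) {s : ℕ} (hs : s.Prime) (hsZ : s ∣ Nat.card Z) :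
    4 ≤ Nat.card K := by
  have h1 : 1 < Nat.card K := Finite.one_lt_card
  have h2 : s ∣ Nat.card K - 1 := hsZ.trans h.card_dvd
  have h3 : Odd s := hA.of_dvd_nat (hsZ.trans (Subgroup.card_subgroup_dvd_card Z))
  have h4 := Nat.le_of_dvd (by omega) h2
  have h5 := hs.two_le
  obtain ⟨k, hk⟩ := h3
  omega

theorem LS.core [Finite K] [Finite V] [Nontrivial V] [Finite A] [Group.IsSolvable A] (hA : Odd (Nat.card A)) (h : LS V σ Z χ)
    (hZ : MaxAb Z)
    (hbase : ∀ M, Layer Z M → Nat.card M < Nat.card V * Nat.card Z → (∀ x ∈ M, ∀ y ∈ M, ⁅x, y⁆ ∈ Z) →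
      ∃ x ∈ M, ∃ y ∈ M, ∀ a : A, ⁅a, x⁆ ∈ Z → ⁅a, y⁆ ∈ Z → ∀ m ∈ M, ⁅a, m⁆ ∈ Z) :
    ∃ v w : V, ∀ a : A, a • v = v → a • w = w → a = 1 := by
  have hZn := hZ.norm
  have hcyc := h.cyclic
  set Q := Nat.card K with hQ
  set d := Module.finrank K V with hd
  have hQ1 : 1 < Q := Finite.one_lt_card
  have hVcard : Nat.card V = Q ^ d := card_V_eq
  have hbase' : ∀ M, Layer Z M → ∃ x ∈ M, ∃ y ∈ M, ∀ a : A, ⁅a, x⁆ ∈ Z → ⁅a, y⁆ ∈ Z → ∀ m ∈ M, ⁅a, m⁆ ∈ Z := by
    intro M hM
    refine hbase M hM ?_ hM.comm_mem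
    obtain ⟨r, n, hr, hn, hrZ, -, -⟩ := hM.exists_card hZ hcyc
    have hQ4 : 4 ≤ Q := LS.four_le hA h hr hrZ
    have h1 := h.index_le (V := V) hM.lt.le hM.cen hM.comm_mem (fun x hx hxy => hZ.cen_eq hM.norm hM.lt.le hM.cen hx hxy)
    refine lt_of_le_of_lt h1 ?_
    apply Nat.mul_lt_mul_of_pos_right ?_ Nat.card_pos
    rw [hVcard]
    exact lt_of_lt_of_le (sq_lt_four_pow d) (Nat.pow_le_pow_left hQ4 d)
  obtain ⟨F, e, hF⟩ := exists_full hZ hcyc hbase'
  have hFn := hF.norm
  have hCle := hF.card_le hZ h.inj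
  have he0 : e ≠ 0 := by
    rintro rfl
    have h1 := hF.card
    have h2 : 0 < Nat.card F := Nat.card_pos
    rw [h1] at h2
    simp at h2
  by_cases he1 : e = 1
  · -- C = Z
    apply LS.base_of_self h
    have h1 : Nat.card (centralizer (Z : Set A)) ≤ Nat.card Z := by
      have h2 := hF.card
      rw [he1] at hCle h2
      simp only [one_pow, one_mul] at hCle h2
      rw [← h2]; exact hCle
    have h2 : Z ≤ centralizer (Z : Set A) := hF.le.trans hF.cen
    rw [← Subgroup.eq_of_le_of_card_ge h2 h1]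
  have hedvd : e ^ 2 ∣ Nat.card A := by
    have h1 : e ^ 2 ∣ Nat.card F := by rw [hF.card]; exact dvd_mul_right _ _
    exact h1.trans (Subgroup.card_subgroup_dvd_card F)
  have heodd : Odd e := by
    have h1 : e ∣ Nat.card A := (dvd_pow_self e (by norm_num)).trans hedvd
    exact hA.of_dvd_nat h1
  have he3 : 3 ≤ e := by
    obtain ⟨k, hk⟩ := heodd
    omega
  have hprimeQ : ∀ s : ℕ, s.Prime → s ∣ e → s ∣ Q - 1 := fun s hs hse => (hF.prime s hs hse).trans h.card_dvd
  have hQ4 : 4 ≤ Q := LS.four_le hA h (Nat.minFac_prime he1) (hF.prime _ (Nat.minFac_prime he1) (Nat.minFac_dvd e))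
  have hed : e ≤ d := by
    have h1 := h.index_le (V := V) hF.le hF.cen hF.comm (fun x hx hxy => hZ.cen_eq hFn hF.le hF.cen hx hxy)
    rw [hF.card] at h1
    have h2 : e ^ 2 ≤ d ^ 2 := Nat.le_of_mul_le_mul_right h1 Nat.card_pos
    exact (Nat.pow_le_pow_iff_left (by norm_num)).mp h2
  obtain ⟨s3, s5, s7, s9⟩ := small hA hZ hcyc hF h.inj
  set C := centralizer (Z : Set A) with hCdef
  have hCcard : Nat.card C = F.relIndex C * Nat.card F := by
    rw [mul_comm]; exact (card_mul_relIndex hF.cen).symm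
  have hrel_pos : 0 < F.relIndex C := Nat.pos_of_ne_zero (by
    intro h0
    rw [h0, zero_mul] at hCcard
    exact Nat.card_pos.ne' hCcard)
  have hh : F.relIndex C ≤ e ^ 4 := by
    rw [hCcard] at hCle
    exact Nat.le_of_mul_le_mul_right hCle Nat.card_pos
  by_contra hcon
  push Not at hcon
  have hno : ∀ v w : V, ∃ a : A, a ≠ 1 ∧ a • v = v ∧ a • w = w := by
    intro v w
    obtain ⟨a, h1, h2, h3⟩ := hcon v w
    exact ⟨a, h3, h1, h2⟩
  have hQ6 : Q ≠ 6 := by
    intro h6
    have : Fintype K := Fintype.ofFinite K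
    obtain ⟨p, -, n, hp, hcard⟩ := FiniteField.card' K
    rw [← Nat.card_eq_fintype_card, ← hQ, h6] at hcard
    have h2 : p = 2 := by
      have h3 : 2 ∣ p ^ (n : ℕ) := by rw [← hcard]; norm_num
      exact ((Nat.prime_dvd_prime_iff_eq Nat.prime_two hp).mp (Nat.prime_two.dvd_of_dvd_pow h3)).symm
    have h3 : p = 3 := by
      have h3 : 3 ∣ p ^ (n : ℕ) := by rw [← hcard]; norm_num
      exact ((Nat.prime_dvd_prime_iff_eq Nat.prime_three hp).mp (Nat.prime_three.dvd_of_dvd_pow h3)).symm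
    omega
  obtain ⟨n, hn, hmain⟩ := h.main_count hA hZ hF hno (m := (d + 2) / 3) (by omega) (by omega)
  obtain ⟨T1, T2⟩ := T12 (e := e) (Q := Q) (d := d) (m := (d + 2) / 3) (h := F.relIndex C) heodd he3 hed (by omega) (by omega)
    hQ4 hh s3
    (fun he => ⟨s5 he, by
      have h1 := hprimeQ 5 (by norm_num) (by rw [he])
      omega⟩)
    (fun he => ⟨s7 he, by
      have h1 := hprimeQ 7 (by norm_num) (by rw [he])
      omega⟩)
    s9
    (fun h11 h23 => by
      have hdv : e ∣ Q - 1 := by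
        have hcases : e = 11 ∨ e = 13 ∨ e = 15 ∨ e = 17 ∨ e = 19 ∨ e = 21 ∨ e = 23 := by
          obtain ⟨k, hk⟩ := heodd
          omega
        rcases hcases with he | he | he | he | he | he | he
        · rw [he]; exact hprimeQ 11 (by norm_num) (by rw [he])
        · rw [he]; exact hprimeQ 13 (by norm_num) (by rw [he])
        · have h1 := hprimeQ 3 (by norm_num) (by rw [he]; norm_num)
          have h2 := hprimeQ 5 (by norm_num) (by rw [he]; norm_num)
          rw [he]; omega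
        · rw [he]; exact hprimeQ 17 (by norm_num) (by rw [he])
        · rw [he]; exact hprimeQ 19 (by norm_num) (by rw [he])
        · have h1 := hprimeQ 3 (by norm_num) (by rw [he]; norm_num)
          have h2 := hprimeQ 7 (by norm_num) (by rw [he]; norm_num)
          rw [he]; omega
        · rw [he]; exact hprimeQ 23 (by norm_num) (by rw [he])
      have := Nat.le_of_dvd (by omega) hdv
      omega)
  have hzQ : Nat.card Z < Q := by
    have := Nat.le_of_dvd (by omega) h.card_dvd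
    omega
  exact final (e := e) (Q := Q) (d := d) (m := (d + 2) / 3) (h := F.relIndex C) (z := Nat.card Z) (n := n)
    (a := Nat.card A) (f := Nat.card F) (c := Nat.card C) (by omega) hn hF.card hCcard hzQ (LS.card_le_mul h)
    (by omega) hrel_pos T1 T2 hmain

end Cfsg.Agent.Lib.OddBaseH
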