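import Cfsg.Agent.Lib.OddBaseF
import Cfsg.Agent.Lib.OddBaseC

/-!
# Base of size two for irreducible modules of odd order groups: chief factors and colourings (helper61)
-/

set_option autoImplicit false

open Subgroup
open scoped commutatorElement

namespace Cfsg.Agent.Lib.OddBaseI

open OddBaseA OddBaseB OddBaseC OddBaseF

/-- irreducible action -/
structure Irr (B W : Type*) [Group B] [AddCommGroup W] [DistribMulAction B W] : Prop where
  nt : Nontrivial W
  irr : ∀ U : AddSubgroup W, (∀ (b : B), ∀ u ∈ U, b • u ∈ U) → U = ⊥ ∨ U = ⊤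

/-- base of size two (for the action modulo its kernel) -/
def Base2 (B W : Type*) [Group B] [AddCommGroup W] [DistribMulAction B W] : Prop :=
  ∃ v w : W, ∀ b : B, b • v = v → b • w = w → ∀ x : W, b • x = x

/-- the inductive hypothesis -/
def IH (n : ℕ) : Prop := ∀ (W : Type) [AddCommGroup W] [Finite W] (B : Type) [Group B] [Finite B] [DistribMulAction B W],
  Nat.card W < n → Odd (Nat.card B) → Irr B W → Base2 B W

theorem bridge {n : ℕ} (hIH : IH n) {A : Type} [Group A] [Finite A] (hA : Odd (Nat.card A)) {Z M : Subgroup A} [hZn : Z.Normal]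
    (hM : M.Normal) (hlt : Z < M) (hab : ∀ x ∈ M, ∀ y ∈ M, ⁅x, y⁆ ∈ Z)
    (hmin : ∀ N : Subgroup A, N.Normal → Z ≤ N → N ≤ M → N = Z ∨ N = M) (hcard : Nat.card M < n * Nat.card Z) :
    ∃ x ∈ M, ∃ y ∈ M, ∀ a : A, ⁅a, x⁆ ∈ Z → ⁅a, y⁆ ∈ Z → ∀ m ∈ M, ⁅a, m⁆ ∈ Z := by
  have hMb := normal_map (Z := Z) hM
  let Mb : Subgroup (A ⧸ Z) := M.map (QuotientGroup.mk' Z)
  have hcomm : ∀ u v : Mb, u * v = v * u := by
    rintro ⟨_, u, hu, rfl⟩ ⟨_, v, hv, rfl⟩
    apply Subtype.ext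
    exact (comm_mem_iff Z u v).mp (hab u hu v hv)
  let _ : CommGroup Mb := { (inferInstance : Group Mb) with mul_comm := hcomm }
  let _ : DistribMulAction A (Additive Mb) :=
    { smul := fun a w => Additive.ofMul (cj Z M hMb a w.toMul)
      one_smul := fun w => by
        show Additive.ofMul (cj Z M hMb 1 w.toMul) = w
        rw [map_one]; rfl
      mul_smul := fun a b w => by
        show Additive.ofMul (cj Z M hMb (a * b) w.toMul) = Additive.ofMul (cj Z M hMb a (cj Z M hMb b w.toMul))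
        rw [map_mul]; rfl
      smul_zero := fun a => by
        show Additive.ofMul (cj Z M hMb a 1) = 0
        rw [map_one]; rfl
      smul_add := fun a v w => by
        show Additive.ofMul (cj Z M hMb a (v.toMul * w.toMul)) = Additive.ofMul (cj Z M hMb a v.toMul * cj Z M hMb a w.toMul)
        rw [map_mul] }
  have hsmul : ∀ (a : A) (w : Additive Mb), (((a • w).toMul : Mb) : A ⧸ Z) = (a : A ⧸ Z) * (w.toMul : Mb) * (a : A ⧸ Z)⁻¹ :=
    fun a w => cj_apply hMb a w.toMul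
  have hfin : Finite (Additive Mb) := inferInstanceAs (Finite Mb)
  have hlt' : Nat.card (Additive Mb) < n := by
    have h1 : Nat.card (Additive Mb) * Nat.card Z = Nat.card M := by
      have h2 : Nat.card (Additive Mb) = Z.relIndex M := by
        have h3 := Subgroup.relIndex_ker (K := M) (QuotientGroup.mk' Z)
        rw [QuotientGroup.ker_mk'] at h3
        exact h3.symm
      rw [h2, mul_comm]
      exact card_mul_relIndex hlt.le
    rw [← h1] at hcard
    exact lt_of_mul_lt_mul_right hcard (Nat.zero_le _)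
  have hirr : Irr A (Additive Mb) := by
    constructor
    · obtain ⟨x, hx, hxZ⟩ := SetLike.exists_of_lt hlt
      refine ⟨⟨Additive.ofMul ⟨(x : A ⧸ Z), ⟨x, hx, rfl⟩⟩, 0, ?_⟩⟩
      intro h
      apply hxZ
      rw [← QuotientGroup.eq_one_iff]
      exact congrArg (fun t : Additive Mb => ((t.toMul : Mb) : A ⧸ Z)) h
    · intro U hU
      let N : Subgroup A :=
        { carrier := {x | ∃ hx : x ∈ M, Additive.ofMul (⟨(x : A ⧸ Z), ⟨x, hx, rfl⟩⟩ : Mb) ∈ U}
          one_mem' := ⟨one_mem _, U.zero_mem⟩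
          mul_mem' := by
            rintro x y ⟨hx, hxU⟩ ⟨hy, hyU⟩
            exact ⟨mul_mem hx hy, U.add_mem hxU hyU⟩
          inv_mem' := by
            rintro x ⟨hx, hxU⟩
            exact ⟨inv_mem hx, U.neg_mem hxU⟩ }
      have hNn : N.Normal := by
        constructor
        rintro x ⟨hx, hxU⟩ g
        refine ⟨hM.conj_mem x hx g, ?_⟩
        have h1 := hU g _ hxU
        have h2 : g • (Additive.ofMul (⟨(x : A ⧸ Z), ⟨x, hx, rfl⟩⟩ : Mb)) =
            Additive.ofMul (⟨((g * x * g⁻¹ : A) : A ⧸ Z), ⟨g * x * g⁻¹, hM.conj_mem x hx g, rfl⟩⟩ : Mb) := by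
          apply Additive.toMul.injective
          apply Subtype.ext
          rw [hsmul]
          rfl
        rw [h2] at h1
        exact h1
      have hZN : Z ≤ N := by
        intro z hz
        refine ⟨hlt.le hz, ?_⟩
        have h1 : (⟨(z : A ⧸ Z), ⟨z, hlt.le hz, rfl⟩⟩ : Mb) = 1 := by
          apply Subtype.ext
          exact (QuotientGroup.eq_one_iff z).mpr hz
        rw [h1]
        exact U.zero_mem
      rcases hmin N hNn hZN (fun x hx => hx.1) with h | h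
      · left
        rw [eq_bot_iff]
        intro u hu
        obtain ⟨x, hx, hxu⟩ := Subgroup.mem_map.mp (u.toMul : Mb).2
        have h1 : u = Additive.ofMul (⟨(x : A ⧸ Z), ⟨x, hx, rfl⟩⟩ : Mb) := by
          apply Additive.toMul.injective
          apply Subtype.ext
          exact hxu.symm
        have h2 : x ∈ N := ⟨hx, by rw [← h1]; exact hu⟩
        rw [h] at h2
        rw [AddSubgroup.mem_bot, h1]
        apply Additive.toMul.injective
        apply Subtype.ext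
        exact (QuotientGroup.eq_one_iff x).mpr h2
      · right
        rw [eq_top_iff]
        intro u _
        obtain ⟨x, hx, hxu⟩ := Subgroup.mem_map.mp (u.toMul : Mb).2
        have h1 : u = Additive.ofMul (⟨(x : A ⧸ Z), ⟨x, hx, rfl⟩⟩ : Mb) := by
          apply Additive.toMul.injective
          apply Subtype.ext
          exact hxu.symm
        have h2 : x ∈ N := by rw [h]; exact hx
        obtain ⟨hx', h3⟩ := h2
        rw [h1]
        exact h3
  obtain ⟨v, w, hvw⟩ := hIH (Additive Mb) A hlt' hA hirr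
  obtain ⟨x, hx, hxv⟩ := Subgroup.mem_map.mp (v.toMul : Mb).2
  obtain ⟨y, hy, hyw⟩ := Subgroup.mem_map.mp (w.toMul : Mb).2
  have key : ∀ (a x : A) (u : Additive Mb), ((u.toMul : Mb) : A ⧸ Z) = (x : A ⧸ Z) → (a • u = u ↔ ⁅a, x⁆ ∈ Z) := by
    intro a x u hu
    rw [comm_mem_iff]
    constructor
    · intro h
      have h1 := congrArg (fun t : Additive Mb => ((t.toMul : Mb) : A ⧸ Z)) h
      simp only [hsmul] at h1
      rw [hu] at h1
      exact mul_inv_eq_iff_eq_mul.mp h1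
    · intro h
      apply Additive.toMul.injective
      apply Subtype.ext
      rw [hsmul, hu, h, mul_inv_cancel_right]
  refine ⟨x, hx, y, hy, ?_⟩
  intro a h1 h2 m hm
  have h3 := hvw a ((key a x v hxv.symm).mpr h1) ((key a y w hyw.symm).mpr h2)
    (Additive.ofMul (⟨(m : A ⧸ Z), ⟨m, hm, rfl⟩⟩ : Mb))
  exact (key a m _ rfl).mp h3

theorem pow_succ_eq {G : Type*} [Group G] {a : G} (ha : Odd (orderOf a)) : ∃ k : ℕ, (a ^ 2) ^ k = a := by
  obtain ⟨k, hk⟩ := ha
  refine ⟨k + 1, ?_⟩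
  rw [← pow_mul]
  have : 2 * (k + 1) = orderOf a + 1 := by omega
  rw [this, pow_succ, pow_orderOf_eq_one, one_mul]

/-- an element of odd order preserving a set of three points -/
theorem tri {A Ω : Type*} [Group A] [MulAction A Ω] {a : A} (ha : Odd (orderOf a)) {p q r : Ω} (hpq : p ≠ q) (hpr : p ≠ r)
    (hqr : q ≠ r) (h : ∀ c, a • c ∈ ({p, q, r} : Set Ω) ↔ c ∈ ({p, q, r} : Set Ω)) :
    (a • p = p ∧ a • q = q ∧ a • r = r) ∨ ∃ b : A, b • p = q ∧ b • r = p := by
  have hin : ∀ c ∈ ({p, q, r} : Set Ω), a • c = p ∨ a • c = q ∨ a • c = r := by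
    intro c hc
    have := (h c).mpr hc
    simpa using this
  have hp := hin p (by simp)
  have hq := hin q (by simp)
  have hr := hin r (by simp)
  have inj : ∀ {c d : Ω}, a • c = a • d → c = d := fun h => smul_left_cancel a h
  have sq : ∀ {c : Ω}, a • a • c = c → a • c = c := by
    intro c hc
    apply smul_of_sq ha
    rw [pow_two, mul_smul]; exact hc
  rcases hp with hp | hp | hp
  · rcases hq with hq | hq | hq
    · exact absurd (inj (hp.trans hq.symm)) hpq
    · rcases hr with hr | hr | hr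
      · exact absurd (inj (hp.trans hr.symm)) hpr
      · exact absurd (inj (hq.trans hr.symm)) hqr
      · exact Or.inl ⟨hp, hq, hr⟩
    · rcases hr with hr | hr | hr
      · exact absurd (inj (hp.trans hr.symm)) hpr
      · have h1 : a • a • q = q := by rw [hq, hr]
        have h2 := sq h1
        exact absurd (h2.symm.trans hq) hqr
      · exact absurd (inj (hq.trans hr.symm)) hqr
  · right
    rcases hq with hq | hq | hq
    · have h1 : a • a • p = p := by rw [hp, hq]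
      have h2 := sq h1
      exact absurd (h2.symm.trans hp) hpq
    · exact absurd (inj (hp.trans hq.symm)) hpq
    · rcases hr with hr | hr | hr
      · exact ⟨a, hp, hr⟩
      · exact absurd (inj (hp.trans hr.symm)) hpr
      · exact absurd (inj (hq.trans hr.symm)) hqr
  · right
    rcases hr with hr | hr | hr
    · have h1 : a • a • p = p := by rw [hp, hr]
      have h2 := sq h1
      exact absurd (h2.symm.trans hp) hpr
    · rcases hq with hq | hq | hq
      · refine ⟨a⁻¹, ?_, ?_⟩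
        · rw [← hq, inv_smul_smul]
        · rw [← hp, inv_smul_smul]
      · exact absurd (inj (hr.trans hq.symm)).symm hqr
      · exact absurd (inj (hp.trans hq.symm)) hpq
    · exact absurd (inj (hp.trans hr.symm)) hpr

theorem color {A : Type*} [Group A] [Finite A] (hA : Odd (Nat.card A)) {M K N : Subgroup A} [hK : K.Normal]
    (hN : N.Normal) (hMN : ∀ n ∈ N, n ∈ M → n ∈ K) {x y : A} (hx : x ∈ N) (hy : y ∈ N)
    (hb : ∀ a ∈ M, ⁅a, x⁆ ∈ K → ⁅a, y⁆ ∈ K → a ∈ K) :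
    ∃ S : Set (A ⧸ M), ∀ a : A, (∀ c : A ⧸ M, a • c ∈ S ↔ c ∈ S) → a ∈ K := by
  have hmk : ∀ a : A, a • ((1 : A) : A ⧸ M) = ((1 : A) : A ⧸ M) ↔ a ∈ M := by
    intro a
    rw [MulAction.Quotient.smul_coe, smul_eq_mul, mul_one, eq_comm, QuotientGroup.eq, inv_one, one_mul]
  -- an element of M fixing the point of `n`
  have hfix : ∀ a ∈ M, ∀ n ∈ N, a • (n : A ⧸ M) = (n : A ⧸ M) → ⁅a, n⁆ ∈ K := by
    intro a ha n hn h
    rw [MulAction.Quotient.smul_coe, smul_eq_mul, eq_comm, QuotientGroup.eq] at h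
    -- n⁻¹ a n ∈ M
    have h1 : n⁻¹ * (a * n * a⁻¹) ∈ K := by
      apply hMN
      · exact mul_mem (inv_mem hn) (hN.conj_mem n hn a)
      · have : n⁻¹ * (a * n * a⁻¹) = (n⁻¹ * (a * n)) * a⁻¹ := by group
        rw [this]
        exact mul_mem h (inv_mem ha)
    have h2 := hK.conj_mem _ h1 n
    have h3 : n * (n⁻¹ * (a * n * a⁻¹)) * n⁻¹ = ⁅a, n⁆ := by rw [commutatorElement_def]; group
    rwa [h3] at h2
  have two : ∀ z ∈ N, (∀ a ∈ M, ⁅a, z⁆ ∈ K → a ∈ K) →
      ∃ S : Set (A ⧸ M), ∀ a : A, (∀ c : A ⧸ M, a • c ∈ S ↔ c ∈ S) → a ∈ K := by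
    intro z hz hzb
    refine ⟨{((1 : A) : A ⧸ M), (z : A ⧸ M)}, ?_⟩
    intro a ha
    have ho := odd_orderOf hA a
    have h1 : a • ((1 : A) : A ⧸ M) = ((1 : A) : A ⧸ M) ∨ a • ((1 : A) : A ⧸ M) = (z : A ⧸ M) := by
      have := (ha ((1 : A) : A ⧸ M)).mpr (by simp)
      simpa using this
    have h2 : a • (z : A ⧸ M) = ((1 : A) : A ⧸ M) ∨ a • (z : A ⧸ M) = (z : A ⧸ M) := by
      have := (ha (z : A ⧸ M)).mpr (by simp)
      simpa using this
    have h3 : a • ((1 : A) : A ⧸ M) = ((1 : A) : A ⧸ M) ∧ a • (z : A ⧸ M) = (z : A ⧸ M) := by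
      rcases h1 with h1 | h1
      · refine ⟨h1, ?_⟩
        rcases h2 with h2 | h2
        · have h4 := smul_left_cancel a (h1.trans h2.symm)
          rw [← h4, h1]
        · exact h2
      · rcases h2 with h2 | h2
        · constructor
          · apply smul_of_sq ho
            rw [pow_two, mul_smul, h1, h2]
          · apply smul_of_sq ho
            rw [pow_two, mul_smul, h2, h1]
        · have h4 := smul_left_cancel a (h1.trans h2.symm)
          rw [h1]
          exact ⟨h4.symm, h2⟩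
    have haM := (hmk a).mp h3.1
    exact hzb a haM (hfix a haM z hz h3.2)
  by_cases hx1 : ∀ a ∈ M, ⁅a, x⁆ ∈ K → a ∈ K
  · exact two x hx hx1
  by_cases hy1 : ∀ a ∈ M, ⁅a, y⁆ ∈ K → a ∈ K
  · exact two y hy hy1
  have triv : ∀ z ∈ K, ∀ a : A, ⁅a, z⁆ ∈ K := by
    intro z hz a
    rw [commutatorElement_def]
    exact mul_mem (hK.conj_mem z hz a) (inv_mem hz)
  have hxK : x ∉ K := by
    intro h
    exact hy1 (fun a ha h2 => hb a ha (triv x h a) h2)
  have hyK : y ∉ K := by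
    intro h
    exact hx1 (fun a ha h2 => hb a ha h2 (triv y h a))
  have eqv : ∀ n ∈ N, ∀ n' ∈ N, (n : A ⧸ M) = (n' : A ⧸ M) → n⁻¹ * n' ∈ K := by
    intro n hn n' hn' h
    exact hMN _ (mul_mem (inv_mem hn) hn') (QuotientGroup.eq.mp h)
  have d01 : ((1 : A) : A ⧸ M) ≠ (x : A ⧸ M) := by
    intro h
    have := eqv 1 (one_mem _) x hx h
    rw [inv_one, one_mul] at this
    exact hxK this
  have d02 : ((1 : A) : A ⧸ M) ≠ (y : A ⧸ M) := by
    intro h
    have := eqv 1 (one_mem _) y hy h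
    rw [inv_one, one_mul] at this
    exact hyK this
  have d03 : ((1 : A) : A ⧸ M) ≠ ((y⁻¹ : A) : A ⧸ M) := by
    intro h
    have := eqv 1 (one_mem _) y⁻¹ (inv_mem hy) h
    rw [inv_one, one_mul] at this
    exact hyK (inv_mem_iff.mp this)
  have d12 : (x : A ⧸ M) ≠ (y : A ⧸ M) := by
    intro h
    have h1 := eqv x hx y hy h
    have h2 : (x : A ⧸ K) = (y : A ⧸ K) := QuotientGroup.eq.mpr h1
    apply hx1
    intro a ha h3
    refine hb a ha h3 ?_
    rw [comm_mem_iff] at h3 ⊢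
    rw [← h2]; exact h3
  have d13 : (x : A ⧸ M) ≠ ((y⁻¹ : A) : A ⧸ M) := by
    intro h
    have h1 := eqv x hx y⁻¹ (inv_mem hy) h
    have h2 : (x : A ⧸ K) = ((y⁻¹ : A) : A ⧸ K) := QuotientGroup.eq.mpr h1
    apply hx1
    intro a ha h3
    refine hb a ha h3 ?_
    rw [comm_mem_iff] at h3 ⊢
    have h4 : (y : A ⧸ K) = (x : A ⧸ K)⁻¹ := by rw [h2, QuotientGroup.mk_inv, inv_inv]
    rw [h4]
    exact (Commute.inv_right h3 : _)
  by_contra hcon
  push Not at hcon
  obtain ⟨a0, ha0, ha0K⟩ := hcon {((1 : A) : A ⧸ M), (x : A ⧸ M), (y : A ⧸ M)}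
  obtain ⟨b0, hb0, hb0K⟩ := hcon {((1 : A) : A ⧸ M), (x : A ⧸ M), ((y⁻¹ : A) : A ⧸ M)}
  obtain ⟨a, ha1, ha2⟩ : ∃ a : A, a • ((1 : A) : A ⧸ M) = (x : A ⧸ M) ∧ a • (y : A ⧸ M) = ((1 : A) : A ⧸ M) := by
    rcases tri (odd_orderOf hA a0) d01 d02 d12 ha0 with h | h
    · exfalso
      have haM := (hmk a0).mp h.1
      exact ha0K (hb a0 haM (hfix a0 haM x hx h.2.1) (hfix a0 haM y hy h.2.2))
    · exact h
  obtain ⟨b, hb1, hb2⟩ : ∃ b : A, b • ((1 : A) : A ⧸ M) = (x : A ⧸ M) ∧ b • ((y⁻¹ : A) : A ⧸ M) = ((1 : A) : A ⧸ M) := by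
    rcases tri (odd_orderOf hA b0) d01 d03 d13 hb0 with h | h
    · exfalso
      have haM := (hmk b0).mp h.1
      have h1 := hfix b0 haM y⁻¹ (inv_mem hy) h.2.2
      refine hb0K (hb b0 haM (hfix b0 haM x hx h.2.1) ?_)
      rw [comm_mem_iff] at h1 ⊢
      have h2 : (y : A ⧸ K) = ((y⁻¹ : A) : A ⧸ K)⁻¹ := by rw [QuotientGroup.mk_inv, inv_inv]
      rw [h2]
      exact (Commute.inv_right h1 : _)
    · exact h
  have key : ∀ (c z : A), z ∈ N → c • ((1 : A) : A ⧸ M) = (x : A ⧸ M) → c • (z : A ⧸ M) = ((1 : A) : A ⧸ M) →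
      (c * z * c⁻¹) * x ∈ K := by
    intro c z hz h1 h2
    rw [MulAction.Quotient.smul_coe, smul_eq_mul, eq_comm, QuotientGroup.eq] at h1 h2
    rw [inv_one, one_mul] at h2
    rw [mul_one] at h1
    apply hMN
    · exact mul_mem (hN.conj_mem z hz c) hx
    · have : (c * z * c⁻¹) * x = (c * z) * (x⁻¹ * c)⁻¹ := by group
      rw [this]
      exact mul_mem h2 (inv_mem h1)
  have ka := key a y hy ha1 ha2
  have kb := key b y⁻¹ (inv_mem hy) hb1 hb2
  set g := b * a⁻¹ with hg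
  have hga : (a : A ⧸ K) * y * (a : A ⧸ K)⁻¹ * x = 1 := (QuotientGroup.eq_one_iff _).mpr ka
  have hgb : (b : A ⧸ K) * (y : A ⧸ K)⁻¹ * (b : A ⧸ K)⁻¹ * x = 1 := (QuotientGroup.eq_one_iff _).mpr kb
  have e1 : (y : A ⧸ K) = (a : A ⧸ K)⁻¹ * (x : A ⧸ K)⁻¹ * a := by
    have : (a : A ⧸ K) * y * (a : A ⧸ K)⁻¹ = (x : A ⧸ K)⁻¹ := eq_inv_of_mul_eq_one_left hga
    rw [← this]; group
  have e2 : (b : A ⧸ K) * y * (b : A ⧸ K)⁻¹ = x := by
    have : (b : A ⧸ K) * (y : A ⧸ K)⁻¹ * (b : A ⧸ K)⁻¹ = (x : A ⧸ K)⁻¹ := eq_inv_of_mul_eq_one_left hgb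
    have h2 := congrArg (fun t : A ⧸ K => t⁻¹) this
    simp only [mul_inv_rev, inv_inv] at h2
    rw [← mul_assoc] at h2
    exact h2
  have e3 : (g : A ⧸ K) * (x : A ⧸ K)⁻¹ * (g : A ⧸ K)⁻¹ = x := by
    have : (g : A ⧸ K) = b * (a : A ⧸ K)⁻¹ := rfl
    rw [this]
    calc (b : A ⧸ K) * (a : A ⧸ K)⁻¹ * (x : A ⧸ K)⁻¹ * ((b : A ⧸ K) * (a : A ⧸ K)⁻¹)⁻¹
        = b * ((a : A ⧸ K)⁻¹ * (x : A ⧸ K)⁻¹ * a) * (b : A ⧸ K)⁻¹ := by group
      _ = x := by rw [← e1, e2]
  have e4 : (g : A ⧸ K) * x * (g : A ⧸ K)⁻¹ = (x : A ⧸ K)⁻¹ := by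
    have h2 := congrArg (fun t : A ⧸ K => t⁻¹) e3
    simp only [mul_inv_rev, inv_inv] at h2
    rw [← mul_assoc] at h2
    exact h2
  have e5 : Commute ((g : A ⧸ K) ^ 2) (x : A ⧸ K) := by
    have : (g : A ⧸ K) ^ 2 * x * ((g : A ⧸ K) ^ 2)⁻¹ = x := by
      calc (g : A ⧸ K) ^ 2 * x * ((g : A ⧸ K) ^ 2)⁻¹ = g * (g * x * (g : A ⧸ K)⁻¹) * (g : A ⧸ K)⁻¹ := by
            rw [pow_two]; group
        _ = x := by rw [e4, e3]
    exact mul_inv_eq_iff_eq_mul.mp this
  have e6 : Commute (g : A ⧸ K) (x : A ⧸ K) := by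
    obtain ⟨k, hk⟩ := pow_succ_eq (odd_orderOf hA g)
    have h1 := e5.pow_left k
    rw [← QuotientGroup.mk_pow, ← QuotientGroup.mk_pow, hk] at h1
    exact h1
  have e7 : (x : A ⧸ K) = (x : A ⧸ K)⁻¹ := by
    conv_rhs => rw [← e4]
    rw [e6.eq, mul_inv_cancel_right]
  have e8 : x ^ 2 ∈ K := by
    rw [← QuotientGroup.eq_one_iff, QuotientGroup.mk_pow, pow_two]
    nth_rewrite 1 [e7]
    exact inv_mul_cancel _
  obtain ⟨k, hk⟩ := pow_succ_eq (odd_orderOf hA x)
  apply hxK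
  rw [← hk]
  exact pow_mem e8 k

end Cfsg.Agent.Lib.OddBaseI
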