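import Cfsg.Agent.Lib.OddBaseI
import Cfsg.Agent.Lib.SubgroupTools

/-!
# Colourings of primitive odd order actions (helper61)
-/

set_option autoImplicit false

open Subgroup
open scoped commutatorElement

namespace Cfsg.Agent.Lib.OddBaseJ

open OddBaseA OddBaseB OddBaseC OddBaseF OddBaseI

theorem normal_of_sup {A : Type*} [Group A] {M N D : Subgroup A} (htop : N ⊔ M = ⊤)
    (hM : ∀ m ∈ M, ∀ d ∈ D, m * d * m⁻¹ ∈ D) (hN : ∀ m ∈ N, ∀ d ∈ D, m * d * m⁻¹ ∈ D) : D.Normal := by
  let X : Subgroup A :=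
    { carrier := {g | (∀ d ∈ D, g * d * g⁻¹ ∈ D) ∧ ∀ d ∈ D, g⁻¹ * d * g ∈ D}
      one_mem' := by
        constructor <;> intro d hd <;> simpa using hd
      mul_mem' := by
        rintro a b ⟨ha1, ha2⟩ ⟨hb1, hb2⟩
        constructor
        · intro d hd
          have := ha1 _ (hb1 d hd)
          have h2 : a * b * d * (a * b)⁻¹ = a * (b * d * b⁻¹) * a⁻¹ := by group
          rw [h2]; exact this
        · intro d hd
          have := hb2 _ (ha2 d hd)
          have h2 : (a * b)⁻¹ * d * (a * b) = b⁻¹ * (a⁻¹ * d * a) * b := by group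
          rw [h2]; exact this
      inv_mem' := by
        rintro a ⟨ha1, ha2⟩
        refine ⟨?_, ?_⟩
        · intro d hd
          rw [inv_inv]; exact ha2 d hd
        · intro d hd
          rw [inv_inv]; exact ha1 d hd }
  have hMX : M ≤ X := by
    intro m hm
    refine ⟨hM m hm, ?_⟩
    intro d hd
    have := hM m⁻¹ (inv_mem hm) d hd
    rwa [inv_inv] at this
  have hNX : N ≤ X := by
    intro m hm
    refine ⟨hN m hm, ?_⟩
    intro d hd
    have := hN m⁻¹ (inv_mem hm) d hd
    rwa [inv_inv] at this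
  constructor
  intro d hd g
  have : g ∈ X := by
    have h1 : N ⊔ M ≤ X := sup_le hNX hMX
    rw [htop] at h1
    exact h1 (Subgroup.mem_top g)
  exact this.1 d hd

/-- Chief factors of solvable groups are abelian. -/
theorem chief_abelian {A : Type*} [Group A] [Group.IsSolvable A] {K N : Subgroup A} [hK : K.Normal] (hN : N.Normal) (hlt : K < N)
    (hmin : ∀ L : Subgroup A, L.Normal → K ≤ L → L ≤ N → L = K ∨ L = N) : ∀ x ∈ N, ∀ y ∈ N, ⁅x, y⁆ ∈ K := by
  have hne : N.map (QuotientGroup.mk' K) ≠ ⊥ := by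
    intro h
    rw [Subgroup.map_eq_bot_iff, QuotientGroup.ker_mk'] at h
    exact absurd h hlt.not_ge
  have hlt2 := Group.IsSolvable.commutator_lt_of_ne_bot hne
  rw [← Subgroup.map_commutator] at hlt2
  have hN' : K ⊔ ⁅N, N⁆ = K := by
    rcases hmin (K ⊔ ⁅N, N⁆) inferInstance le_sup_left (sup_le hlt.le (Subgroup.commutator_le_right N N)) with h | h
    · exact h
    · exfalso
      have h1 : N.map (QuotientGroup.mk' K) = (⁅N, N⁆).map (QuotientGroup.mk' K) := by
        conv_lhs => rw [← h]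
        rw [Subgroup.map_sup]
        have : K.map (QuotientGroup.mk' K) = ⊥ := by
          rw [Subgroup.map_eq_bot_iff, QuotientGroup.ker_mk']
        rw [this, bot_sup_eq]
      exact hlt2.ne h1.symm
  intro x hx y hy
  rw [← hN']
  exact (le_sup_right : ⁅N, N⁆ ≤ K ⊔ ⁅N, N⁆) (Subgroup.commutator_mem_commutator hx hy)

theorem color_max {n : ℕ} (hIH : IH n) {A : Type} [Group A] [Finite A] [Group.IsSolvable A] (hA : Odd (Nat.card A)) {M : Subgroup A}
    (hmax : IsCoatom M) (hidx : M.index < n) :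
    ∃ S : Set (A ⧸ M), ∀ a : A, (∀ c : A ⧸ M, a • c ∈ S ↔ c ∈ S) → a ∈ M.normalCore := by
  set K := M.normalCore with hKdef
  have hK : K.Normal := Subgroup.normalCore_normal M
  have hKM : K ≤ M := Subgroup.normalCore_le M
  have hKtop : K < ⊤ := lt_of_le_of_lt hKM hmax.lt_top
  obtain ⟨N, hN⟩ : ∃ N : Subgroup A, Minimal (fun L : Subgroup A => L.Normal ∧ K < L) N := by
    have := (Set.toFinite {L : Subgroup A | L.Normal ∧ K < L}).exists_minimal ⟨⊤, inferInstance, hKtop⟩
    exact this
  have hNn : N.Normal := hN.prop.1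
  have hKN : K < N := hN.prop.2
  have hmin : ∀ L : Subgroup A, L.Normal → K ≤ L → L ≤ N → L = K ∨ L = N := by
    intro L h1 h2 h3
    by_cases h : L = K
    · exact Or.inl h
    · right
      exact le_antisymm h3 (hN.le_of_le ⟨h1, lt_of_le_of_ne h2 (Ne.symm h)⟩ h3)
  have hNM : ¬ N ≤ M := fun h => absurd (Subgroup.normal_le_normalCore.mpr h) hKN.not_ge
  have htop : N ⊔ M = ⊤ := by
    rcases hmax.le_iff.mp (le_sup_right : M ≤ N ⊔ M) with h | h
    · exact h
    · exact absurd (h ▸ le_sup_left) hNM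
  have hab := chief_abelian hNn hKN hmin
  have hint : N ⊓ M = K := by
    have hn : (N ⊓ M).Normal := by
      apply normal_of_sup htop
      · intro m hm d hd
        exact Subgroup.mem_inf.mpr ⟨hNn.conj_mem d hd.1 m, mul_mem (mul_mem hm hd.2) (inv_mem hm)⟩
      · intro m hm d hd
        refine Subgroup.mem_inf.mpr ⟨hNn.conj_mem d hd.1 m, ?_⟩
        have h1 : m * d * m⁻¹ = ⁅m, d⁆ * d := by rw [commutatorElement_def]; group
        rw [h1]
        exact mul_mem (hKM (hab m hm d hd.1)) hd.2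
    apply le_antisymm
    · exact Subgroup.normal_le_normalCore.mpr inf_le_right
    · exact le_inf hKN.le hKM
  have hcard : Nat.card N < n * Nat.card K := by
    have h1 := SubgroupTools.card_sup_mul_card_inf (N := N) (H := M) (by
      rw [Subgroup.normalizer_eq_top_iff.mpr hNn]
      exact le_top)
    rw [htop, hint, Subgroup.card_top, ← Subgroup.card_mul_index M] at h1
    have h2 : Nat.card N = M.index * Nat.card K := by
      have h3 : Nat.card M * (M.index * Nat.card K) = Nat.card M * Nat.card N := by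
        rw [mul_comm (Nat.card M) (Nat.card N), ← h1]; ring
      exact (Nat.eq_of_mul_eq_mul_left Nat.card_pos h3).symm
    rw [h2]
    exact Nat.mul_lt_mul_of_pos_right hidx Nat.card_pos
  obtain ⟨x, hx, y, hy, hxy⟩ := bridge hIH hA hNn hKN hab hmin hcard
  refine color hA hNn (fun n hn hnM => ?_) hx hy ?_
  · rw [← hint]; exact ⟨hn, hnM⟩
  · intro a haM h1 h2
    have hD : (M ⊓ CZ K N).Normal := by
      apply normal_of_sup htop
      · intro m hm d hd
        refine Subgroup.mem_inf.mpr ⟨mul_mem (mul_mem hm hd.1) (inv_mem hm), ?_⟩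
        exact (inferInstance : (CZ K N).Normal).conj_mem d hd.2 m
      · intro m hm d hd
        refine Subgroup.mem_inf.mpr ⟨?_, (inferInstance : (CZ K N).Normal).conj_mem d hd.2 m⟩
        have h1 : m * d * m⁻¹ = ⁅m, d⁆ * d := by rw [commutatorElement_def]; group
        rw [h1]
        exact mul_mem (hKM (comm_symm (mem_CZ.mp hd.2 m hm))) hd.1
    have hle : M ⊓ CZ K N ≤ K := Subgroup.normal_le_normalCore.mpr inf_le_left
    exact hle (Subgroup.mem_inf.mpr ⟨haM, mem_CZ.mpr (hxy a h1 h2)⟩)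

end Cfsg.Agent.Lib.OddBaseJ
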