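import Cfsg.Agent.Lib.OddBaseJ

/-!
# Systems of imprimitivity given by an idempotent (helper61)
-/

set_option autoImplicit false

open Subgroup

namespace Cfsg.Agent.Lib.OddBaseK

open OddBaseC OddBaseI OddBaseJ

section sys

variable {A V : Type*} [Group A] [AddCommGroup V] [DistribMulAction A V]

/-- a projection onto a block of a system of imprimitivity with stabiliser `M` -/
structure Sys (M : Subgroup A) (e : V →+ V) : Prop where
  idem : ∀ v, e (e v) = e v
  ne : ∃ v, e v ≠ 0
  comm : ∀ a ∈ M, ∀ v, e (a • v) = a • e v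
  orth : ∀ a, a ∉ M → ∀ v, e (a • e v) = 0

variable {M : Subgroup A} {e : V →+ V}

/-- the projection onto the block belonging to a coset -/
noncomputable def EE (e : V →+ V) (c : A ⧸ M) : V →+ V :=
  (DistribSMul.toAddMonoidHom V c.out).comp (e.comp (DistribSMul.toAddMonoidHom V (c.out)⁻¹))

theorem EE_apply (c : A ⧸ M) (v : V) : EE e c v = c.out • e ((c.out)⁻¹ • v) := rfl

theorem Sys.EE_mk (h : Sys M e) (a : A) (v : V) : EE e (a : A ⧸ M) v = a • e (a⁻¹ • v) := by
  rw [EE_apply]
  set c := (a : A ⧸ M) with hc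
  have h1 : (c.out)⁻¹ * a ∈ M := by
    rw [← QuotientGroup.eq]
    exact Quotient.out_eq c
  have h2 : (c.out)⁻¹ • v = ((c.out)⁻¹ * a) • (a⁻¹ • v) := by
    rw [smul_smul]; congr 1; group
  rw [h2, h.comm _ h1, smul_smul]
  congr 1
  group

theorem Sys.EE_smul (h : Sys M e) (a : A) (c : A ⧸ M) (v : V) : EE e (a • c) (a • v) = a • EE e c v := by
  induction c using QuotientGroup.induction_on with
  | H b =>
    rw [MulAction.Quotient.smul_coe, smul_eq_mul, h.EE_mk, h.EE_mk, smul_smul, smul_smul]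
    congr 3
    group

theorem Sys.EE_idem (h : Sys M e) (c : A ⧸ M) (v : V) : EE e c (EE e c v) = EE e c v := by
  rw [EE_apply, EE_apply, inv_smul_smul, h.idem]

theorem Sys.EE_orth (h : Sys M e) {c d : A ⧸ M} (hcd : c ≠ d) (v : V) : EE e c (EE e d v) = 0 := by
  rw [EE_apply, EE_apply, smul_smul, h.orth, smul_zero]
  intro hmem
  apply hcd
  rw [← Quotient.out_eq c, ← Quotient.out_eq d]
  exact QuotientGroup.eq.mpr hmem

/-- the index set of a larger subgroup -/
noncomputable def TT [Finite A] (M L : Subgroup A) : Finset (A ⧸ M) := by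
  classical
  exact (Set.toFinite ((fun a : A => (a : A ⧸ M)) '' (L : Set A))).toFinset

theorem mem_TT [Finite A] {L : Subgroup A} {c : A ⧸ M} : c ∈ TT M L ↔ ∃ a ∈ L, (a : A ⧸ M) = c := by
  unfold TT
  rw [Set.Finite.mem_toFinset]
  rfl

theorem smul_mem_TT [Finite A] {L : Subgroup A} {a : A} (ha : a ∈ L) {c : A ⧸ M} (hc : c ∈ TT M L) : a • c ∈ TT M L := by
  rw [mem_TT] at hc ⊢
  obtain ⟨b, hb, rfl⟩ := hc
  exact ⟨a * b, mul_mem ha hb, rfl⟩

/-- Merging blocks. -/
theorem Sys.merge [Finite A] (h : Sys M e) {L : Subgroup A} (hML : M ≤ L) : Sys L (∑ c ∈ TT M L, EE e c) := by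
  classical
  have happ : ∀ v, (∑ c ∈ TT M L, EE e c) v = ∑ c ∈ TT M L, EE e c v := fun v => by
    rw [AddMonoidHom.finsetSum_apply]
  constructor
  · intro v
    rw [happ, happ]
    refine Finset.sum_congr rfl fun c hc => ?_
    rw [map_sum, Finset.sum_eq_single c]
    · exact h.EE_idem c v
    · intro d _ hdc
      exact h.EE_orth hdc.symm v
    · intro h1
      exact absurd hc h1
  · obtain ⟨v, hv⟩ := h.ne
    refine ⟨e v, ?_⟩
    have h1 : EE e ((1 : A) : A ⧸ M) (e v) = e v := by
      rw [h.EE_mk, inv_one, one_smul, one_smul, h.idem]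
    have h1' : EE e ((1 : A) : A ⧸ M) v = e v := by
      rw [h.EE_mk, inv_one, one_smul, one_smul]
    rw [happ, Finset.sum_eq_single ((1 : A) : A ⧸ M), h1]
    · exact hv
    · intro d _ hd
      rw [← h1']
      exact h.EE_orth hd v
    · intro h2
      exact absurd (mem_TT.mpr ⟨1, one_mem _, rfl⟩) h2
  · intro a ha v
    rw [happ, happ, Finset.smul_sum]
    refine Finset.sum_bij' (fun c _ => a⁻¹ • c) (fun c _ => a • c) ?_ ?_ ?_ ?_ ?_
    · intro c hc; exact smul_mem_TT (inv_mem ha) hc
    · intro c hc; exact smul_mem_TT ha hc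
    · intro c _; exact smul_inv_smul a c
    · intro c _; exact inv_smul_smul a c
    · intro c _
      rw [← h.EE_smul, smul_inv_smul]
  · intro a ha v
    rw [happ, happ]
    apply Finset.sum_eq_zero
    intro c hc
    rw [Finset.smul_sum, map_sum]
    apply Finset.sum_eq_zero
    intro d hd
    rw [← h.EE_smul]
    apply h.EE_orth
    rintro rfl
    apply ha
    rw [mem_TT] at hc hd
    obtain ⟨b, hb, rfl⟩ := hd
    obtain ⟨b', hb', hbb⟩ := hc
    rw [MulAction.Quotient.smul_coe, smul_eq_mul, QuotientGroup.eq] at hbb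
    have h1 : a = b' * (b'⁻¹ * (a * b)) * b⁻¹ := by group
    rw [h1]
    exact mul_mem (mul_mem hb' (hML hbb)) (inv_mem hb)

theorem Sys.eq_id (h : Sys (⊤ : Subgroup A) e) (hirr : Irr A V) (v : V) : e v = v := by
  rcases hirr.irr e.range (by
    rintro b _ ⟨u, rfl⟩
    exact ⟨b • u, h.comm b (Subgroup.mem_top b) u⟩) with h1 | h1
  · exfalso
    obtain ⟨v, hv⟩ := h.ne
    apply hv
    have : e v ∈ e.range := ⟨v, rfl⟩
    rw [h1] at this
    exact this
  · have : v ∈ e.range := by rw [h1]; exact AddSubgroup.mem_top v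
    obtain ⟨u, rfl⟩ := this
    exact h.idem u

/-- The blocks add up to the whole space. -/
theorem Sys.sum_eq [Finite A] [Fintype (A ⧸ M)] (h : Sys M e) (hirr : Irr A V) (v : V) : ∑ c : A ⧸ M, EE e c v = v := by
  have h1 := (h.merge (L := ⊤) le_top).eq_id hirr v
  rw [AddMonoidHom.finsetSum_apply] at h1
  have h2 : TT M (⊤ : Subgroup A) = Finset.univ := by
    ext c
    simp only [mem_TT, Finset.mem_univ, iff_true]
    obtain ⟨a, rfl⟩ := QuotientGroup.mk_surjective c
    exact ⟨a, Subgroup.mem_top a, rfl⟩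
  rw [h2] at h1
  exact h1

/-- the block -/
theorem Sys.mem_range (h : Sys M e) {v : V} : v ∈ e.range ↔ e v = v := by
  constructor
  · rintro ⟨u, rfl⟩
    exact h.idem u
  · intro hv
    exact ⟨v, hv⟩

/-- The action of the stabiliser on the block. -/
@[reducible] def Sys.act (h : Sys M e) : DistribMulAction M e.range where
  smul a w := ⟨(a : A) • (w : V), by
    rw [h.mem_range, h.comm _ a.2, h.mem_range.mp w.2]⟩
  one_smul w := by
    apply Subtype.ext
    show ((1 : M) : A) • (w : V) = w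
    rw [OneMemClass.coe_one, one_smul]
  mul_smul a b w := by
    apply Subtype.ext
    show ((a * b : M) : A) • (w : V) = (a : A) • ((b : A) • (w : V))
    rw [Subgroup.coe_mul, mul_smul]
  smul_zero a := by
    apply Subtype.ext
    show (a : A) • (((0 : e.range)) : V) = ((0 : e.range) : V)
    rw [AddSubgroup.coe_zero, smul_zero]
  smul_add a v w := by
    apply Subtype.ext
    show (a : A) • ((v + w : e.range) : V) = (a : A) • (v : V) + (a : A) • (w : V)
    rw [AddSubgroup.coe_add, smul_add]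

theorem Sys.irr [Finite A] (h : Sys M e) (hirr : Irr A V) : @Irr M e.range _ _ h.act := by
  let _ := h.act
  constructor
  · obtain ⟨v, hv⟩ := h.ne
    exact ⟨⟨⟨e v, ⟨v, rfl⟩⟩, 0, fun h' => hv (congrArg Subtype.val h')⟩⟩
  · intro U hU
    by_cases hU0 : U = ⊥
    · exact Or.inl hU0
    right
    -- the subspace generated by the translates of U
    let T : AddSubgroup V := AddSubgroup.closure {v | ∃ (a : A) (u : e.range), u ∈ U ∧ v = a • (u : V)}
    have hT : ∀ (b : A), ∀ u ∈ T, b • u ∈ T := by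
      intro b u hu
      refine AddSubgroup.closure_induction (p := fun u _ => b • u ∈ T) ?_ ?_ ?_ ?_ hu
      · rintro _ ⟨a, u, hu, rfl⟩
        rw [smul_smul]
        exact AddSubgroup.subset_closure ⟨b * a, u, hu, rfl⟩
      · rw [smul_zero]; exact T.zero_mem
      · intro x y _ _ hx hy
        rw [smul_add]; exact T.add_mem hx hy
      · intro x _ hx
        rw [smul_neg]; exact T.neg_mem hx
    have hTtop : T = ⊤ := by
      rcases hirr.irr T hT with h1 | h1
      · exfalso
        apply hU0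
        rw [eq_bot_iff]
        intro u hu
        have h2 : (u : V) ∈ T := AddSubgroup.subset_closure ⟨1, u, hu, (one_smul A (u : V)).symm⟩
        rw [h1, AddSubgroup.mem_bot] at h2
        rw [AddSubgroup.mem_bot]
        exact Subtype.ext h2
      · exact h1
    -- e T ≤ U
    have heT : ∀ v ∈ T, ∃ u : e.range, u ∈ U ∧ (u : V) = e v := by
      intro v hv
      refine AddSubgroup.closure_induction (p := fun v _ => ∃ u : e.range, u ∈ U ∧ (u : V) = e v) ?_ ?_ ?_ ?_ hv
      · rintro _ ⟨a, u, hu, rfl⟩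
        by_cases ha : a ∈ M
        · refine ⟨(⟨a, ha⟩ : M) • u, hU ⟨a, ha⟩ u hu, ?_⟩
          rw [h.comm a ha, h.mem_range.mp u.2]
          rfl
        · refine ⟨0, U.zero_mem, ?_⟩
          have := h.orth a ha (u : V)
          rw [h.mem_range.mp u.2] at this
          rw [this]; rfl
      · exact ⟨0, U.zero_mem, by rw [map_zero]; rfl⟩
      · rintro x y _ _ ⟨u, hu, hux⟩ ⟨w, hw, hwy⟩
        exact ⟨u + w, U.add_mem hu hw, by rw [map_add, ← hux, ← hwy]; rfl⟩
      · rintro x _ ⟨u, hu, hux⟩
        exact ⟨-u, U.neg_mem hu, by rw [map_neg, ← hux]; rfl⟩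
    rw [eq_top_iff]
    intro w _
    obtain ⟨u, hu, huw⟩ := heT (w : V) (by rw [hTtop]; exact AddSubgroup.mem_top _)
    rw [h.mem_range.mp w.2] at huw
    have : u = w := Subtype.ext huw
    rw [← this]; exact hu

theorem Sys.card_range_lt [Finite V] (h : Sys M e) (hM : M ≠ ⊤) : Nat.card e.range < Nat.card V := by
  have hle : Nat.card e.range ≤ Nat.card V := Nat.card_le_card_of_injective _ Subtype.val_injective
  refine lt_of_le_of_ne hle ?_
  intro heq
  have htop : e.range = ⊤ := AddSubgroup.eq_top_of_card_eq _ heq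
  obtain ⟨a, ha⟩ : ∃ a, a ∉ M := by
    by_contra hcon
    push Not at hcon
    exact hM (eq_top_iff.mpr fun x _ => hcon x)
  obtain ⟨v, hv⟩ := h.ne
  have h1 : ∀ v, e v = v := fun v => h.mem_range.mp (by rw [htop]; exact AddSubgroup.mem_top v)
  have h2 := h.orth a ha v
  rw [h1, h1] at h2
  rw [h1] at hv
  exact hv ((smul_eq_zero_iff_eq a).mp h2)

theorem Sys.proj [Finite A] [Fintype (A ⧸ M)] (h : Sys M e) (f : A ⧸ M → e.range) (c : A ⧸ M) :
    e ((c.out)⁻¹ • ∑ d, d.out • ((f d : e.range) : V)) = (f c : V) := by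
  rw [Finset.smul_sum, map_sum, Finset.sum_eq_single c]
  · rw [inv_smul_smul, h.mem_range.mp (f c).2]
  · intro d _ hd
    rw [smul_smul, ← h.mem_range.mp (f d).2]
    apply h.orth
    intro hmem
    apply hd
    rw [← Quotient.out_eq c, ← Quotient.out_eq d]
    exact (QuotientGroup.eq.mpr hmem).symm
  · intro h1
    exact absurd (Finset.mem_univ c) h1

theorem Sys.index_lt [Finite A] [Finite V] (h : Sys M e) : M.index < Nat.card V := by
  have : Fintype (A ⧸ M) := Fintype.ofFinite _
  classical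
  let F : (A ⧸ M → e.range) → V := fun f => ∑ d, d.out • ((f d : e.range) : V)
  have hF : Function.Injective F := by
    intro f g hfg
    ext c
    rw [← h.proj f c, ← h.proj g c]
    exact congrArg (fun t => e ((c.out)⁻¹ • t)) hfg
  have h1 := Nat.card_le_card_of_injective F hF
  rw [Nat.card_fun] at h1
  have h2 : 2 ≤ Nat.card e.range := by
    obtain ⟨v, hv⟩ := h.ne
    have : Nontrivial e.range := ⟨⟨⟨e v, ⟨v, rfl⟩⟩, 0, fun h' => hv (congrArg Subtype.val h')⟩⟩
    exact Finite.one_lt_card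
  calc M.index < 2 ^ M.index := Nat.lt_two_pow_self
    _ ≤ Nat.card e.range ^ M.index := Nat.pow_le_pow_left h2 _
    _ ≤ Nat.card V := h1

end sys

/-- The imprimitive case. -/
theorem Sys.base {A V : Type} [Group A] [Finite A] [Group.IsSolvable A] [AddCommGroup V] [Finite V] [DistribMulAction A V]
    (hIH : IH (Nat.card V)) (hA : Odd (Nat.card A)) (hirr : Irr A V) {M : Subgroup A} (hmax : IsCoatom M) {e : V →+ V}
    (h : Sys M e) : Base2 A V := by
  classical
  have : Fintype (A ⧸ M) := Fintype.ofFinite _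
  obtain ⟨S, hS⟩ := color_max hIH hA hmax h.index_lt
  have hirrW := h.irr hirr
  let _ := h.act
  have hMo : Odd (Nat.card M) := hA.of_dvd_nat (Subgroup.card_subgroup_dvd_card M)
  obtain ⟨v0, w0, h0⟩ := hIH e.range M (h.card_range_lt hmax.ne_top) hMo hirrW
  have hWnt := hirrW.nt
  -- a base pair with different members
  obtain ⟨v1, w1, hne, h1⟩ : ∃ v1 w1 : e.range, v1 ≠ w1 ∧ ∀ m : M, m • v1 = v1 → m • w1 = w1 → ∀ x : e.range, m • x = x := by
    by_cases hvw : v0 = w0
    · by_cases hv0 : v0 = 0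
      · obtain ⟨x, hx⟩ := exists_ne (0 : e.range)
        refine ⟨x, 0, hx, ?_⟩
        intro m _ _
        apply h0
        · rw [hv0, smul_zero]
        · rw [← hvw, hv0, smul_zero]
      · refine ⟨v0, 0, hv0, ?_⟩
        intro m hm _
        exact h0 m hm (by rw [← hvw]; exact hm)
    · exact ⟨v0, w0, hvw, h0⟩
  let f : A ⧸ M → e.range := fun c => if c ∈ S then v1 else w1
  let g : A ⧸ M → e.range := fun c => if c ∈ S then w1 else v1
  let v : V := ∑ d, d.out • ((f d : e.range) : V)
  let w : V := ∑ d, d.out • ((g d : e.range) : V)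
  refine ⟨v, w, ?_⟩
  intro a hav haw
  have hm : ∀ c : A ⧸ M, ((a • c).out)⁻¹ * (a * c.out) ∈ M := by
    intro c
    rw [← QuotientGroup.eq]
    have h2 : ((a • c).out : A ⧸ M) = a • c := Quotient.out_eq _
    rw [h2]
    conv_lhs => rw [← Quotient.out_eq c]
    rfl
  have htrans : ∀ (k : A ⧸ M → e.range), a • (∑ d, d.out • ((k d : e.range) : V)) = (∑ d, d.out • ((k d : e.range) : V)) →
      ∀ c, k (a • c) = (⟨_, hm c⟩ : M) • k c := by
    intro k hk c
    apply Subtype.ext
    show (k (a • c) : V) = (((a • c).out)⁻¹ * (a * c.out)) • ((k c : e.range) : V)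
    rw [← h.proj k (a • c), ← h.proj k c, ← h.comm _ (hm c)]
    congr 1
    conv_lhs => rw [← hk]
    rw [smul_smul, smul_smul]
    congr 1
    group
  have hodd : ∀ m : M, Odd (orderOf m) := fun m => odd_orderOf hMo m
  have hswap : ∀ (m : M) (x y : e.range), y = m • x → x = m • y → x = y := by
    intro m x y h2 h3
    have h4 : m • x = x := by
      apply smul_of_sq (hodd m)
      rw [pow_two, mul_smul, ← h2, ← h3]
    rw [h2, h4]
  have hcol : ∀ c : A ⧸ M, a • c ∈ S ↔ c ∈ S := by
    intro c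
    have h2 := htrans f hav c
    have h3 := htrans g haw c
    by_cases hc : c ∈ S
    · by_cases hc' : a • c ∈ S
      · exact ⟨fun _ => hc, fun _ => hc'⟩
      · exfalso
        simp only [f, g, if_pos hc, if_neg hc'] at h2 h3
        exact hne (hswap _ _ _ h2 h3)
    · by_cases hc' : a • c ∈ S
      · exfalso
        simp only [f, g, if_neg hc, if_pos hc'] at h2 h3
        exact hne (hswap _ _ _ h2 h3).symm
      · exact ⟨fun h => absurd h hc', fun h => absurd h hc⟩
  have hcore := hS a hcol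
  have hfix : ∀ c : A ⧸ M, a • c = c := by
    intro c
    have h2 := (Subgroup.normalCore_normal M).conj_mem a hcore (c.out)⁻¹
    have h3 := Subgroup.normalCore_le M h2
    rw [inv_inv] at h3
    conv_lhs => rw [← Quotient.out_eq c]
    conv_rhs => rw [← Quotient.out_eq c]
    symm
    apply QuotientGroup.eq.mpr
    show (Quotient.out c)⁻¹ * (a * Quotient.out c) ∈ M
    rw [← mul_assoc]
    exact h3
  have htriv : ∀ c : A ⧸ M, ∀ x : e.range, (⟨_, hm c⟩ : M) • x = x := by
    intro c
    have h2 := htrans f hav c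
    have h3 := htrans g haw c
    have hf : f (a • c) = f c := by rw [hfix c]
    have hg : g (a • c) = g c := by rw [hfix c]
    rw [hf] at h2
    rw [hg] at h3
    by_cases hc : c ∈ S
    · simp only [f, g, if_pos hc] at h2 h3
      exact h1 _ h2.symm h3.symm
    · simp only [f, g, if_neg hc] at h2 h3
      exact h1 _ h3.symm h2.symm
  intro x
  rw [← h.sum_eq hirr x, Finset.smul_sum]
  refine Finset.sum_congr rfl fun c _ => ?_
  rw [EE_apply]
  have h2 := htriv c ⟨e ((c.out)⁻¹ • x), ⟨_, rfl⟩⟩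
  have h3 : (((a • c).out)⁻¹ * (a * c.out)) • e ((c.out)⁻¹ • x) = e ((c.out)⁻¹ • x) := congrArg Subtype.val h2
  rw [hfix c] at h3
  rw [smul_smul]
  conv_rhs => rw [← h3]
  rw [smul_smul]
  congr 1
  group

end Cfsg.Agent.Lib.OddBaseK
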