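import Cfsg.Agent.Lib.OddBaseH
import Cfsg.Agent.Lib.OddBaseK

/-!
# The ring generated by an abelian normal subgroup: field or system of imprimitivity (helper61)
-/

set_option autoImplicit false

open Subgroup
open scoped commutatorElement

namespace Cfsg.Agent.Lib.OddBaseL

open OddBaseA OddBaseB OddBaseC OddBaseD OddBaseH OddBaseI OddBaseJ OddBaseK

section ring

variable {A V : Type*} [Group A] [AddCommGroup V] [DistribMulAction A V]

/-- the endomorphism given by a group element -/
def enz (V : Type*) [AddCommGroup V] [DistribMulAction A V] (a : A) : AddMonoid.End V := DistribMulAction.toAddMonoidEnd A V a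

theorem enz_apply (a : A) (v : V) : enz V a v = a • v := rfl

theorem enz_mul (a b : A) : enz V (a * b) = enz V a * enz V b := map_mul (DistribMulAction.toAddMonoidEnd A V) a b

theorem enz_one : enz V (1 : A) = 1 := map_one (DistribMulAction.toAddMonoidEnd A V)

theorem enz_mul_inv (a : A) : enz V a * enz V a⁻¹ = 1 := by rw [← enz_mul, mul_inv_cancel, enz_one]

theorem enz_inv_mul (a : A) : enz V a⁻¹ * enz V a = 1 := by rw [← enz_mul, inv_mul_cancel, enz_one]

/-- the ring generated by a subgroup -/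
def RR (V : Type*) [AddCommGroup V] [DistribMulAction A V] (Z : Subgroup A) : Subring (AddMonoid.End V) :=
  Subring.closure (enz V '' (Z : Set A))

variable {Z : Subgroup A}

theorem enz_mem {z : A} (hz : z ∈ Z) : enz V z ∈ RR V Z := Subring.subset_closure ⟨z, hz, rfl⟩

theorem commute_RR {y : AddMonoid.End V} (hy : ∀ z ∈ Z, y * enz V z = enz V z * y) {x : AddMonoid.End V} (hx : x ∈ RR V Z) :
    y * x = x * y := by
  refine Subring.closure_induction (p := fun x _ => y * x = x * y) ?_ ?_ ?_ ?_ ?_ ?_ hx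
  · rintro _ ⟨z, hz, rfl⟩
    exact hy z hz
  · rw [mul_zero, zero_mul]
  · rw [mul_one, one_mul]
  · intro a b _ _ ha hb
    rw [mul_add, add_mul, ha, hb]
  · intro a _ ha
    rw [mul_neg, neg_mul, ha]
  · intro a b _ _ ha hb
    rw [← mul_assoc, ha, mul_assoc, hb, mul_assoc]

theorem comm_RR (hZ : ∀ x ∈ Z, ∀ y ∈ Z, x * y = y * x) {x y : AddMonoid.End V} (hx : x ∈ RR V Z) (hy : y ∈ RR V Z) :
    x * y = y * x := by
  refine commute_RR ?_ hy
  intro z hz
  symm
  refine commute_RR ?_ hx
  intro z' hz'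
  rw [← enz_mul, ← enz_mul, hZ z hz z' hz']

theorem conj_mem_RR (hZ : Z.Normal) (a : A) {x : AddMonoid.End V} (hx : x ∈ RR V Z) : enz V a * x * enz V a⁻¹ ∈ RR V Z := by
  refine Subring.closure_induction (p := fun x _ => enz V a * x * enz V a⁻¹ ∈ RR V Z) ?_ ?_ ?_ ?_ ?_ ?_ hx
  · rintro _ ⟨z, hz, rfl⟩
    rw [← enz_mul, ← enz_mul]
    exact enz_mem (hZ.conj_mem z hz a)
  · rw [mul_zero, zero_mul]; exact zero_mem _
  · rw [mul_one, enz_mul_inv]; exact one_mem _
  · intro x y _ _ hx hy
    rw [mul_add, add_mul]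
    exact add_mem hx hy
  · intro x _ hx
    rw [mul_neg, neg_mul]
    exact neg_mem hx
  · intro x y _ _ hx hy
    have : enz V a * (x * y) * enz V a⁻¹ = (enz V a * x * enz V a⁻¹) * (enz V a * y * enz V a⁻¹) := by
      calc enz V a * (x * y) * enz V a⁻¹ = enz V a * x * 1 * y * enz V a⁻¹ := by simp only [mul_one, mul_assoc]
        _ = enz V a * x * (enz V a⁻¹ * enz V a) * y * enz V a⁻¹ := by rw [enz_inv_mul]
        _ = _ := by simp only [mul_assoc]
    rw [this]
    exact mul_mem hx hy

/-- every nonzero element of the ring is injective -/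
def Free (V : Type*) [AddCommGroup V] [DistribMulAction A V] (Z : Subgroup A) : Prop :=
  ∀ k ∈ RR V Z, k ≠ 0 → ∀ v : V, k v = 0 → v = 0

/-- commutative ring structure -/
@[reducible] def crK (hZ : ∀ x ∈ Z, ∀ y ∈ Z, x * y = y * x) : CommRing (RR V Z) :=
  { (inferInstance : Ring (RR V Z)) with
    mul_comm := fun x y => Subtype.ext (comm_RR hZ x.2 y.2) }

theorem finite_end [Finite V] : Finite (AddMonoid.End V) :=
  Finite.of_injective (fun f : AddMonoid.End V => (f : V → V)) DFunLike.coe_injective

theorem finite_RR [Finite V] : Finite (RR V Z) := by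
  have := finite_end (V := V)
  infer_instance

theorem isDomain_RR [Nontrivial V] (hf : Free V Z) : IsDomain (RR V Z) := by
  have : Nontrivial (RR V Z) := by
    refine ⟨⟨1, 0, ?_⟩⟩
    intro h
    obtain ⟨v, hv⟩ := exists_ne (0 : V)
    apply hv
    have := congrArg (fun t : RR V Z => (t : AddMonoid.End V) v) h
    exact this
  have : NoZeroDivisors (RR V Z) := by
    constructor
    intro a b hab
    by_contra hne
    push Not at hne
    have h1 : (b : AddMonoid.End V) ≠ 0 := fun h' => hne.2 (Subtype.ext h')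
    have h2 : (a : AddMonoid.End V) ≠ 0 := fun h' => hne.1 (Subtype.ext h')
    apply h1
    ext v
    show (b : AddMonoid.End V) v = 0
    apply hf a a.2 h2
    have h3 : (a : AddMonoid.End V) * (b : AddMonoid.End V) = 0 := congrArg Subtype.val hab
    exact congrArg (fun t : AddMonoid.End V => t v) h3
  exact NoZeroDivisors.to_isDomain _

/-- the field -/
noncomputable abbrev fdK [Finite V] [Nontrivial V] (hZ : ∀ x ∈ Z, ∀ y ∈ Z, x * y = y * x) (hf : Free V Z) : Field (RR V Z) := by
  letI := crK (V := V) hZ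
  haveI := isDomain_RR hf
  haveI := finite_RR (V := V) (Z := Z)
  let _ := Fintype.ofFinite (RR V Z)
  classical
  exact Fintype.fieldOfDomain (RR V Z)

/-- conjugation as a ring automorphism -/
def conjEquiv (hZ : Z.Normal) (a : A) : RR V Z ≃+* RR V Z where
  toFun x := ⟨enz V a * x * enz V a⁻¹, conj_mem_RR hZ a x.2⟩
  invFun x := ⟨enz V a⁻¹ * x * enz V a, by
    have := conj_mem_RR (V := V) hZ a⁻¹ x.2
    rwa [inv_inv] at this⟩
  left_inv := by
    intro x
    apply Subtype.ext
    show enz V a⁻¹ * (enz V a * x * enz V a⁻¹) * enz V a = x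
    calc enz V a⁻¹ * (enz V a * (x : AddMonoid.End V) * enz V a⁻¹) * enz V a =
          (enz V a⁻¹ * enz V a) * x * (enz V a⁻¹ * enz V a) := by simp only [mul_assoc]
      _ = x := by rw [enz_inv_mul, one_mul, mul_one]
  right_inv := by
    intro x
    apply Subtype.ext
    show enz V a * (enz V a⁻¹ * x * enz V a) * enz V a⁻¹ = x
    calc enz V a * (enz V a⁻¹ * (x : AddMonoid.End V) * enz V a) * enz V a⁻¹ =
          (enz V a * enz V a⁻¹) * x * (enz V a * enz V a⁻¹) := by simp only [mul_assoc]
      _ = x := by rw [enz_mul_inv, one_mul, mul_one]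
  map_mul' := by
    intro x y
    apply Subtype.ext
    show enz V a * ((x : AddMonoid.End V) * y) * enz V a⁻¹ = (enz V a * x * enz V a⁻¹) * (enz V a * y * enz V a⁻¹)
    calc enz V a * ((x : AddMonoid.End V) * y) * enz V a⁻¹ = enz V a * x * 1 * y * enz V a⁻¹ := by simp only [mul_one, mul_assoc]
      _ = enz V a * x * (enz V a⁻¹ * enz V a) * y * enz V a⁻¹ := by rw [enz_inv_mul]
      _ = _ := by simp only [mul_assoc]
  map_add' := by
    intro x y
    apply Subtype.ext
    show enz V a * ((x : AddMonoid.End V) + y) * enz V a⁻¹ = enz V a * x * enz V a⁻¹ + enz V a * y * enz V a⁻¹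
    rw [mul_add, add_mul]

theorem conjEquiv_coe (hZ : Z.Normal) (a : A) (x : RR V Z) :
    ((conjEquiv hZ a x : RR V Z) : AddMonoid.End V) = enz V a * x * enz V a⁻¹ := rfl

/-- conjugation as a homomorphism -/
def sgm (hZ : Z.Normal) : A →* (RR V Z ≃+* RR V Z) where
  toFun := conjEquiv hZ
  map_one' := by
    ext x : 1
    apply Subtype.ext
    rw [conjEquiv_coe, inv_one, enz_one, one_mul, mul_one]
    rfl
  map_mul' := by
    intro a b
    ext x : 1
    apply Subtype.ext
    show enz V (a * b) * x * enz V (a * b)⁻¹ = enz V a * (enz V b * x * enz V b⁻¹) * enz V a⁻¹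
    rw [mul_inv_rev, enz_mul, enz_mul]
    simp only [mul_assoc]

end ring

section homog

variable {A V : Type*} [Group A] [AddCommGroup V] [DistribMulAction A V] {Z : Subgroup A}

theorem homog [Finite A] [Group.IsSolvable A] [Finite V] [Nontrivial V] (hA : Odd (Nat.card A)) (hZ : MaxAb Z) (hf : Free V Z)
    (hfaith : ∀ a : A, (∀ v : V, a • v = v) → a = 1)
    (hbase : ∀ M, Layer Z M → Nat.card M < Nat.card V * Nat.card Z → (∀ x ∈ M, ∀ y ∈ M, ⁅x, y⁆ ∈ Z) →
      ∃ x ∈ M, ∃ y ∈ M, ∀ a : A, ⁅a, x⁆ ∈ Z → ⁅a, y⁆ ∈ Z → ∀ m ∈ M, ⁅a, m⁆ ∈ Z) :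
    ∃ v w : V, ∀ a : A, a • v = v → a • w = w → a = 1 := by
  have hZn := hZ.norm
  let _ := fdK (V := V) hZ.comm hf
  have hfin := finite_RR (V := V) (Z := Z)
  let χ : Z →* (RR V Z)ˣ :=
    { toFun := fun z =>
        { val := ⟨enz V (z : A), enz_mem z.2⟩
          inv := ⟨enz V (z : A)⁻¹, enz_mem (inv_mem z.2)⟩
          val_inv := Subtype.ext (enz_mul_inv (z : A))
          inv_val := Subtype.ext (enz_inv_mul (z : A)) }
      map_one' := by
        apply Units.ext
        apply Subtype.ext
        exact enz_one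
      map_mul' := fun x y => by
        apply Units.ext
        apply Subtype.ext
        exact enz_mul (x : A) y }
  have h : LS (K := RR V Z) V (sgm hZn) Z χ := by
    refine ⟨?_, ?_, ?_, ?_, hfaith⟩
    · intro a k v
      show enz V a ((k : AddMonoid.End V) v) = (enz V a * k * enz V a⁻¹) (enz V a v)
      have : (enz V a * (k : AddMonoid.End V) * enz V a⁻¹) * enz V a = enz V a * k := by
        rw [mul_assoc, enz_inv_mul, mul_one]
      exact (congrArg (fun t : AddMonoid.End V => t v) this).symm
    · intro a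
      rw [Subgroup.mem_centralizer_iff]
      constructor
      · intro h1 z hz
        have h2 := congrArg (fun f : RR V Z ≃+* RR V Z => ((f ⟨enz V z, enz_mem hz⟩ : RR V Z) : AddMonoid.End V)) h1
        have h3 : enz V a * enz V z * enz V a⁻¹ = enz V z := h2
        rw [← enz_mul, ← enz_mul] at h3
        have h4 : (a * z * a⁻¹)⁻¹ * z = 1 := by
          apply hfaith
          intro v
          rw [mul_smul, inv_smul_eq_iff]
          exact (congrArg (fun t : AddMonoid.End V => t v) h3).symm
        have h5 : a * z * a⁻¹ = z := (inv_mul_eq_one.mp h4)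
        exact (mul_inv_eq_iff_eq_mul.mp h5).symm
      · intro h1
        ext x : 1
        apply Subtype.ext
        show enz V a * (x : AddMonoid.End V) * enz V a⁻¹ = x
        have h2 : enz V a * (x : AddMonoid.End V) = x * enz V a := by
          refine commute_RR ?_ x.2
          intro z hz
          rw [← enz_mul, ← enz_mul, h1 z hz]
        rw [h2, mul_assoc, enz_mul_inv, mul_one]
    · intro z v
      rfl
    · intro x y hxy
      have h1 : enz V (x : A) = enz V (y : A) := congrArg (fun t : (RR V Z)ˣ => ((t : RR V Z) : AddMonoid.End V)) hxy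
      have h2 : (x : A)⁻¹ * y = 1 := by
        apply hfaith
        intro v
        rw [mul_smul, inv_smul_eq_iff]
        exact (congrArg (fun t : AddMonoid.End V => t v) h1).symm
      exact Subtype.ext (inv_mul_eq_one.mp h2)
  exact LS.core hA h hZ hbase

end homog

section sys

theorem pow_idem {M : Type*} [Monoid M] [Finite M] (x : M) : ∃ n : ℕ, 1 ≤ n ∧ x ^ n * x ^ n = x ^ n := by
  obtain ⟨i, j, hij, h⟩ := Finite.exists_ne_map_eq_of_infinite (fun n : ℕ => x ^ n)
  wlog hlt : i < j generalizing i j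
  · exact this j i hij.symm h.symm (lt_of_le_of_ne (not_lt.mp hlt) hij.symm)
  obtain ⟨p, hp⟩ : ∃ p, j = i + p := ⟨j - i, by omega⟩
  have hp1 : 1 ≤ p := by omega
  have h1 : ∀ n, i ≤ n → x ^ (n + p) = x ^ n := by
    intro n hn
    obtain ⟨m, rfl⟩ : ∃ m, n = i + m := ⟨n - i, by omega⟩
    have : i + m + p = j + m := by omega
    rw [this, pow_add, ← h, ← pow_add]
  have h2 : ∀ s n, i ≤ n → x ^ (n + p * s) = x ^ n := by
    intro s
    induction s with
    | zero => intro n _; simp
    | succ s ih =>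
      intro n hn
      have : n + p * (s + 1) = (n + p * s) + p := by ring
      rw [this, h1 _ (by omega), ih n hn]
  refine ⟨p * (i + 1), by nlinarith, ?_⟩
  rw [← pow_add]
  exact h2 (i + 1) (p * (i + 1)) (by nlinarith)

variable {A V : Type*} [Group A] [AddCommGroup V] [DistribMulAction A V] {Z : Subgroup A}

theorem exists_common [Nontrivial V] (S : Finset (AddMonoid.End V)) (hcomm : ∀ x ∈ S, ∀ y ∈ S, x * y = y * x)
    (hnil : ∀ x ∈ S, ∃ n : ℕ, x ^ n = 0) : ∃ v : V, v ≠ 0 ∧ ∀ x ∈ S, x v = 0 := by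
  classical
  induction S using Finset.induction_on with
  | empty =>
    obtain ⟨v, hv⟩ := exists_ne (0 : V)
    exact ⟨v, hv, by simp⟩
  | insert a S ha ih =>
    obtain ⟨v, hv, hv2⟩ := ih (fun x hx y hy => hcomm x (Finset.mem_insert_of_mem hx) y (Finset.mem_insert_of_mem hy))
      (fun x hx => hnil x (Finset.mem_insert_of_mem hx))
    have hex : ∃ n : ℕ, (a ^ n) v = 0 := by
      obtain ⟨n, hn⟩ := hnil a (Finset.mem_insert_self a S)
      exact ⟨n, by rw [hn]; rfl⟩
    set k := Nat.find hex with hk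
    have hk1 : (a ^ k) v = 0 := Nat.find_spec hex
    have hk0 : k ≠ 0 := by
      intro h0
      rw [h0, pow_zero] at hk1
      exact hv hk1
    obtain ⟨m, hm⟩ := Nat.exists_eq_succ_of_ne_zero hk0
    have hm1 : (a ^ m) v ≠ 0 := Nat.find_min hex (by omega)
    refine ⟨(a ^ m) v, hm1, ?_⟩
    intro x hx
    rcases Finset.mem_insert.mp hx with rfl | hx
    · have : (x * x ^ m) v = 0 := by
        rw [← pow_succ', ← Nat.succ_eq_add_one, ← hm]
        exact hk1
      exact this
    · have h1 : Commute x a := hcomm x (Finset.mem_insert_of_mem hx) a (Finset.mem_insert_self a S)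
      have h2 : x * a ^ m = a ^ m * x := (h1.pow_right m).eq
      have h3 : (x * a ^ m) v = (a ^ m * x) v := by rw [h2]
      have h4 : (a ^ m * x) v = (a ^ m) (x v) := rfl
      rw [hv2 x hx, map_zero] at h4
      rw [h4] at h3
      exact h3

theorem conj_pow_eq (a : A) (x : AddMonoid.End V) (n : ℕ) : (enz V a * x * enz V a⁻¹) ^ n = enz V a * x ^ n * enz V a⁻¹ := by
  induction n with
  | zero => rw [pow_zero, pow_zero, mul_one, enz_mul_inv]
  | succ n ih =>
    rw [pow_succ, ih, pow_succ]
    calc enz V a * x ^ n * enz V a⁻¹ * (enz V a * x * enz V a⁻¹) =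
          enz V a * x ^ n * (enz V a⁻¹ * enz V a) * x * enz V a⁻¹ := by simp only [mul_assoc]
      _ = enz V a * (x ^ n * x) * enz V a⁻¹ := by rw [enz_inv_mul]; simp only [mul_assoc, mul_one]

/-- There is a nontrivial idempotent if the ring is not a field. -/
theorem exists_idem [Finite V] (hirr : Irr A V) (hZn : Z.Normal) (hZ : ∀ x ∈ Z, ∀ y ∈ Z, x * y = y * x)
    (hnf : ¬ Free V Z) : ∃ e ∈ RR V Z, e * e = e ∧ e ≠ 0 ∧ e ≠ 1 := by
  have hnt := hirr.nt
  have hfin := finite_end (V := V)
  by_contra hcon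
  push Not at hcon
  unfold Free at hnf
  push Not at hnf
  obtain ⟨k, hk, hk0, v, hkv, hv⟩ := hnf
  have hnil : ∃ n : ℕ, k ^ n = 0 := by
    obtain ⟨n, hn, hid⟩ := pow_idem k
    refine ⟨n, ?_⟩
    by_contra h0
    have h1 := hcon (k ^ n) (pow_mem hk n) hid h0
    obtain ⟨m, rfl⟩ : ∃ m, n = m + 1 := ⟨n - 1, by omega⟩
    apply hv
    have h2 : (k ^ (m + 1)) v = v := by rw [h1]; rfl
    rw [← h2, pow_succ]
    show (k ^ m) (k v) = 0
    rw [hkv, map_zero]
  let W : AddSubgroup V :=
    { carrier := {v | ∀ x ∈ RR V Z, (∃ n : ℕ, x ^ n = 0) → x v = 0}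
      zero_mem' := fun x _ _ => map_zero x
      add_mem' := by
        intro u w hu hw x hx hn
        rw [map_add, hu x hx hn, hw x hx hn, add_zero]
      neg_mem' := by
        intro u hu x hx hn
        rw [map_neg, hu x hx hn, neg_zero] }
  have hW : ∀ (b : A), ∀ u ∈ W, b • u ∈ W := by
    intro b u hu x hx hn
    have h1 : enz V b⁻¹ * x * enz V b ∈ RR V Z := by
      have := conj_mem_RR (V := V) hZn b⁻¹ hx
      rwa [inv_inv] at this
    obtain ⟨n, hn⟩ := hn
    have h2 : (enz V b⁻¹ * x * enz V b) ^ n = 0 := by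
      have := conj_pow_eq (V := V) b⁻¹ x n
      rw [inv_inv] at this
      rw [this, hn, mul_zero, zero_mul]
    have h3 := hu _ h1 ⟨n, h2⟩
    have h4 : b⁻¹ • (x (b • u)) = 0 := h3
    exact (smul_eq_zero_iff_eq b⁻¹).mp h4
  rcases hirr.irr W hW with h | h
  · let S : Set (AddMonoid.End V) := {x | x ∈ RR V Z ∧ ∃ n : ℕ, x ^ n = 0}
    have hS : S.Finite := Set.toFinite S
    obtain ⟨u, hu, hu2⟩ := exists_common (V := V) hS.toFinset
      (fun x hx y hy => comm_RR hZ (hS.mem_toFinset.mp hx).1 (hS.mem_toFinset.mp hy).1)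
      (fun x hx => (hS.mem_toFinset.mp hx).2)
    apply hu
    have : u ∈ W := fun x hx hn => hu2 x (hS.mem_toFinset.mpr ⟨hx, hn⟩)
    rw [h] at this
    exact this
  · apply hk0
    ext u
    have : u ∈ W := by rw [h]; exact AddSubgroup.mem_top u
    exact this k hk hnil

theorem card_range_lt_of_ne_one [Finite V] {e : AddMonoid.End V} (he : e * e = e) (h1 : e ≠ 1) :
    Nat.card (AddMonoidHom.range (e : V →+ V)) < Nat.card V := by
  have hle : Nat.card (AddMonoidHom.range (e : V →+ V)) ≤ Nat.card V := Nat.card_le_card_of_injective _ Subtype.val_injective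
  refine lt_of_le_of_ne hle ?_
  intro heq
  have htop := AddSubgroup.eq_top_of_card_eq _ heq
  apply h1
  ext v
  have : v ∈ AddMonoidHom.range (e : V →+ V) := by rw [htop]; exact AddSubgroup.mem_top v
  obtain ⟨u, hu⟩ := this
  rw [← hu]
  exact congrArg (fun t : AddMonoid.End V => t u) he

theorem exists_sys [Finite A] [Finite V] (hirr : Irr A V) (hZn : Z.Normal) (hZ : ∀ x ∈ Z, ∀ y ∈ Z, x * y = y * x)
    (hnf : ¬ Free V Z) : ∃ (M : Subgroup A) (e : V →+ V), M ≠ ⊤ ∧ Sys M e := by
  have hnt := hirr.nt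
  have hfin := finite_end (V := V)
  obtain ⟨e0, he0, he0i, he00, he01⟩ := exists_idem hirr hZn hZ hnf
  let S : Set (AddMonoid.End V) := {x | x ∈ RR V Z ∧ x * x = x ∧ x ≠ 0}
  obtain ⟨e, heS, hmin⟩ := Set.exists_min_image S (fun x => Nat.card (AddMonoidHom.range (x : V →+ V))) (Set.toFinite S)
    ⟨e0, he0, he0i, he00⟩
  obtain ⟨heR, hei, hne0⟩ := heS
  have hne1 : e ≠ 1 := by
    rintro rfl
    have h1 := hmin e0 ⟨he0, he0i, he00⟩
    have h2 := card_range_lt_of_ne_one he0i he01
    have h3 : Nat.card (AddMonoidHom.range ((1 : AddMonoid.End V) : V →+ V)) = Nat.card V := by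
      have : AddMonoidHom.range ((1 : AddMonoid.End V) : V →+ V) = ⊤ := by
        rw [eq_top_iff]
        intro v _
        exact ⟨v, rfl⟩
      rw [this]
      exact AddSubgroup.card_top
    rw [h3] at h1
    exact absurd h1 (not_le.mpr h2)
  have hei' : ∀ v, e (e v) = e v := fun v => congrArg (fun t : AddMonoid.End V => t v) hei
  -- minimality
  have key : ∀ g ∈ RR V Z, g * g = g → g ≠ 0 → (∀ f ∈ S, Nat.card (AddMonoidHom.range (g : V →+ V)) ≤ Nat.card (AddMonoidHom.range (f : V →+ V))) →
      ∀ f ∈ RR V Z, f * f = f → g * f ≠ 0 → g * f = g := by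
    intro g hg hgi hg0 hgmin f hf hfi hgf
    have hc := comm_RR hZ hg hf
    have hidem : (g * f) * (g * f) = g * f := by
      calc (g * f) * (g * f) = g * (f * g) * f := by simp only [mul_assoc]
        _ = (g * g) * (f * f) := by rw [← hc]; simp only [mul_assoc]
        _ = g * f := by rw [hgi, hfi]
    have h1 := hgmin (g * f) ⟨mul_mem hg hf, hidem, hgf⟩
    have hle : AddMonoidHom.range ((g * f : AddMonoid.End V) : V →+ V) ≤ AddMonoidHom.range (g : V →+ V) := by
      rintro _ ⟨v, rfl⟩
      exact ⟨f v, rfl⟩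
    have heq : AddMonoidHom.range ((g * f : AddMonoid.End V) : V →+ V) = AddMonoidHom.range (g : V →+ V) :=
      AddSubgroup.eq_of_le_of_card_ge hle h1
    ext v
    have h2 : g v ∈ AddMonoidHom.range ((g * f : AddMonoid.End V) : V →+ V) := by rw [heq]; exact ⟨v, rfl⟩
    obtain ⟨w, hw⟩ := h2
    have h3 : (g * f) (g v) = g v := by
      rw [← hw]
      exact congrArg (fun t : AddMonoid.End V => t w) hidem
    have h4 : (g * f) * g = g * f := by
      rw [mul_assoc, ← hc, ← mul_assoc, hgi]
    rw [← h4]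
    exact h3
  let M : Subgroup A :=
    { carrier := {a | enz V a * e = e * enz V a}
      one_mem' := by
        show enz V (1 : A) * e = e * enz V (1 : A)
        rw [enz_one, one_mul, mul_one]
      mul_mem' := by
        intro a b ha hb
        show enz V (a * b) * e = e * enz V (a * b)
        have ha' : enz V a * e = e * enz V a := ha
        have hb' : enz V b * e = e * enz V b := hb
        rw [enz_mul, mul_assoc, hb', ← mul_assoc, ha', mul_assoc]
      inv_mem' := by
        intro a ha
        show enz V a⁻¹ * e = e * enz V a⁻¹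
        have ha' : enz V a * e = e * enz V a := ha
        calc enz V a⁻¹ * e = enz V a⁻¹ * (e * enz V a) * enz V a⁻¹ := by
              rw [mul_assoc, mul_assoc, enz_mul_inv, mul_one]
          _ = enz V a⁻¹ * (enz V a * e) * enz V a⁻¹ := by rw [ha']
          _ = (enz V a⁻¹ * enz V a) * e * enz V a⁻¹ := by simp only [mul_assoc]
          _ = e * enz V a⁻¹ := by rw [enz_inv_mul, one_mul] }
  have hM : ∀ a, a ∈ M ↔ enz V a * e = e * enz V a := fun a => Iff.rfl
  refine ⟨M, e, ?_, ?_, ?_, ?_, ?_⟩
  · intro htop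
    have hall : ∀ a : A, enz V a * e = e * enz V a := fun a => (hM a).mp (by rw [htop]; exact Subgroup.mem_top a)
    rcases hirr.irr (AddMonoidHom.range (e : V →+ V)) (by
      rintro b _ ⟨u, rfl⟩
      exact ⟨b • u, (congrArg (fun t : AddMonoid.End V => t u) (hall b)).symm⟩) with h | h
    · apply hne0
      ext v
      have : e v ∈ AddMonoidHom.range (e : V →+ V) := ⟨v, rfl⟩
      rw [h] at this
      exact this
    · have h1 := card_range_lt_of_ne_one hei hne1
      rw [h, AddSubgroup.card_top] at h1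
      exact lt_irrefl _ h1
  · exact hei'
  · by_contra hcon
    push Not at hcon
    exact hne0 (AddMonoidHom.ext hcon)
  · intro a ha v
    exact (congrArg (fun t : AddMonoid.End V => t v) ((hM a).mp ha)).symm
  · intro a ha v
    set f := enz V a * e * enz V a⁻¹ with hf
    have hfR : f ∈ RR V Z := conj_mem_RR hZn a heR
    have hfi : f * f = f := by
      have := conj_pow_eq (V := V) a e 2
      rw [pow_two, pow_two, hei] at this
      exact this
    have hf0 : f ≠ 0 := by
      intro h0
      apply hne0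
      calc e = enz V a⁻¹ * (enz V a * e * enz V a⁻¹) * enz V a := by
            have : enz V a⁻¹ * (enz V a * e * enz V a⁻¹) * enz V a = (enz V a⁻¹ * enz V a) * e * (enz V a⁻¹ * enz V a) := by
              simp only [mul_assoc]
            rw [this, enz_inv_mul, one_mul, mul_one]
        _ = 0 := by rw [← hf, h0, mul_zero, zero_mul]
    have hcardf : Nat.card (AddMonoidHom.range (f : V →+ V)) ≤ Nat.card (AddMonoidHom.range (e : V →+ V)) := by
      refine Nat.card_le_card_of_injective (fun t : AddMonoidHom.range (f : V →+ V) =>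
        (⟨a⁻¹ • (t : V), ?_⟩ : AddMonoidHom.range (e : V →+ V))) ?_
      · obtain ⟨u, hu⟩ := t.2
        refine ⟨a⁻¹ • u, ?_⟩
        rw [← hu]
        show e (a⁻¹ • u) = a⁻¹ • (a • e (a⁻¹ • u))
        rw [inv_smul_smul]
      · intro s t hst
        have h1 : a⁻¹ • (s : V) = a⁻¹ • (t : V) := congrArg (fun r : AddMonoidHom.range (e : V →+ V) => (r : V)) hst
        exact Subtype.ext (smul_left_cancel a⁻¹ h1)
    have hef : e * f = 0 := by
      by_contra h0
      have h1 := key e heR hei hne0 hmin f hfR hfi h0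
      have hc := comm_RR hZ heR hfR
      have h2 := key f hfR hfi hf0 (fun g hg => hcardf.trans (hmin g hg)) e heR hei (by rw [← hc]; exact h0)
      have h3 : e = f := by rw [← h1, hc, h2]
      apply ha
      rw [hM]
      calc enz V a * e = (enz V a * e * enz V a⁻¹) * enz V a := by
            rw [mul_assoc (enz V a * e), enz_inv_mul, mul_one]
        _ = e * enz V a := by rw [← hf, ← h3]
    have h1 : (e * f) (a • v) = 0 := by rw [hef]; rfl
    have h2 : (e * f) (a • v) = e (a • e (a⁻¹ • (a • v))) := rfl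
    rw [inv_smul_smul] at h2
    exact h2.symm.trans h1

end sys

end Cfsg.Agent.Lib.OddBaseL
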