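import Cfsg.Agent.Lib.OddBaseL
import Cfsg.Agent.S0205

/-!
# Base of size two for completely reducible modules of odd order groups (helper61)
-/

set_option autoImplicit false

open Subgroup
open scoped commutatorElement

namespace Cfsg.Agent.Lib.OddBaseM

open OddBaseA OddBaseB OddBaseC OddBaseD OddBaseH OddBaseI OddBaseJ OddBaseK OddBaseL

universe u v

/-- reduction to faithful actions in `Type` -/
theorem reduce {B : Type u} [Group B] [Finite B] {V : Type v} [AddCommGroup V] [DistribMulAction B V]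
    (hB : Odd (Nat.card B)) (hirr : Irr B V) {V0 : Type} [AddCommGroup V0] [Finite V0] (ε : V ≃+ V0)
    (H : ∀ (A : Type) [Group A] [Finite A] [DistribMulAction A V0], Odd (Nat.card A) → Irr A V0 →
      (∀ a : A, (∀ v : V0, a • v = v) → a = 1) → ∃ v w : V0, ∀ a : A, a • v = v → a • w = w → a = 1) :
    Base2 B V := by
  have hfin := finite_end (V := V0)
  let ψ : B →* AddMonoid.End V0 :=
    { toFun := fun b => (ε.toAddMonoidHom.comp ((DistribSMul.toAddMonoidHom V b).comp ε.symm.toAddMonoidHom) : V0 →+ V0)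
      map_one' := by
        ext v
        show ε ((1 : B) • ε.symm v) = v
        rw [one_smul, AddEquiv.apply_symm_apply]
      map_mul' := by
        intro a b
        ext v
        show ε ((a * b) • ε.symm v) = ε (a • ε.symm (ε (b • ε.symm v)))
        rw [AddEquiv.symm_apply_apply, mul_smul] }
  have hψ : ∀ b v, ψ b v = ε (b • ε.symm v) := fun b v => rfl
  let φ : B →* (AddMonoid.End V0)ˣ := ψ.toHomUnits
  let A := φ.range
  let act : DistribMulAction A V0 :=
    { smul := fun a v => ((a : (AddMonoid.End V0)ˣ) : AddMonoid.End V0) v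
      one_smul := fun v => rfl
      mul_smul := fun a b v => rfl
      smul_zero := fun a => map_zero ((a : (AddMonoid.End V0)ˣ) : AddMonoid.End V0)
      smul_add := fun a v w => map_add ((a : (AddMonoid.End V0)ˣ) : AddMonoid.End V0) v w }
  have hsm : ∀ (b : B) (v : V0), (⟨φ b, ⟨b, rfl⟩⟩ : A) • v = ε (b • ε.symm v) := fun b v => rfl
  have hoddA : Odd (Nat.card A) := by
    have h1 : Nat.card A ∣ Nat.card B := Subgroup.card_range_dvd φ
    exact hB.of_dvd_nat h1
  have hirrA : Irr A V0 := by
    constructor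
    · have := hirr.nt
      exact ε.symm.toEquiv.nontrivial
    · intro U hU
      rcases hirr.irr (U.comap ε.toAddMonoidHom) (by
        intro b u hu
        show ε (b • u) ∈ U
        have := hU ⟨φ b, ⟨b, rfl⟩⟩ (ε u) hu
        rw [hsm, AddEquiv.symm_apply_apply] at this
        exact this) with h | h
      · left
        rw [eq_bot_iff]
        intro u hu
        have h1 : ε.symm u ∈ U.comap ε.toAddMonoidHom := by
          show ε (ε.symm u) ∈ U
          rw [AddEquiv.apply_symm_apply]; exact hu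
        rw [h, AddSubgroup.mem_bot] at h1
        rw [AddSubgroup.mem_bot, ← ε.apply_symm_apply u, h1, map_zero]
      · right
        rw [eq_top_iff]
        intro u _
        have h1 : ε.symm u ∈ U.comap ε.toAddMonoidHom := by rw [h]; exact AddSubgroup.mem_top _
        have h2 : ε (ε.symm u) ∈ U := h1
        rwa [AddEquiv.apply_symm_apply] at h2
  have hfaith : ∀ a : A, (∀ v : V0, a • v = v) → a = 1 := by
    intro a ha
    apply Subtype.ext
    apply Units.ext
    ext v
    exact ha v
  obtain ⟨v, w, hvw⟩ := H A hoddA hirrA hfaith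
  refine ⟨ε.symm v, ε.symm w, ?_⟩
  intro b h1 h2 x
  have h3 : (⟨φ b, ⟨b, rfl⟩⟩ : A) = 1 := by
    apply hvw
    · rw [hsm, h1, AddEquiv.apply_symm_apply]
    · rw [hsm, h2, AddEquiv.apply_symm_apply]
  have h4 := hsm b (ε x)
  rw [h3, one_smul, AddEquiv.symm_apply_apply] at h4
  exact (ε.injective h4).symm

/-- faithful irreducible modules in `Type` -/
theorem faithful_case {A V : Type} [Group A] [Finite A] [AddCommGroup V] [Finite V] [DistribMulAction A V]
    (hIH : IH (Nat.card V)) (hA : Odd (Nat.card A)) (hirr : Irr A V) (hfaith : ∀ a : A, (∀ v : V, a • v = v) → a = 1) :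
    ∃ v w : V, ∀ a : A, a • v = v → a • w = w → a = 1 := by
  have hsol : Group.IsSolvable A := Cfsg.Agent.S0205.result hA
  have hnt := hirr.nt
  obtain ⟨Z, hZ⟩ := exists_maxAb (A := A)
  have hZn := hZ.norm
  by_cases hf : Free V Z
  · refine homog hA hZ hf hfaith ?_
    intro M hM hcard hcomm
    exact bridge hIH hA hM.norm hM.lt hcomm hM.min hcard
  · obtain ⟨M, e, hM, hS⟩ := exists_sys hirr hZn hZ.comm hf
    obtain ⟨L, hL, hML⟩ := (eq_top_or_exists_le_coatom M).resolve_left hM
    obtain ⟨v, w, hvw⟩ := Sys.base hIH hA hirr hL (hS.merge hML)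
    exact ⟨v, w, fun a h1 h2 => hfaith a (hvw a h1 h2)⟩

theorem ih_all : ∀ n : ℕ, IH n := by
  intro n
  induction n with
  | zero =>
    intro W _ _ B _ _ _ h
    exact absurd h (Nat.not_lt_zero _)
  | succ n ih =>
    intro W _ _ B _ _ _ hW hB hirr
    have hIH : IH (Nat.card W) := by
      intro W' _ _ B' _ _ _ h' hB' hirr'
      exact ih W' B' (lt_of_lt_of_le h' (Nat.lt_succ_iff.mp hW)) hB' hirr'
    exact reduce hB hirr (AddEquiv.refl W) (fun A _ _ _ hA hirrA hfA => faithful_case hIH hA hirrA hfA)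

theorem irr_base {B : Type u} [Group B] [Finite B] {V : Type v} [AddCommGroup V] [Finite V] [DistribMulAction B V]
    (hB : Odd (Nat.card B)) (hirr : Irr B V) : Base2 B V := by
  have hsm : Small.{0} V := Countable.toSmall V
  have hfin : Finite (Shrink.{0} V) := Finite.of_equiv V (equivShrink.{0} V)
  let ε : Shrink.{0} V ≃+ V := Shrink.addEquiv
  exact reduce hB hirr ε.symm
    (fun A _ _ _ hA hirrA hfA => faithful_case (ih_all _) hA hirrA hfA)

section cr

variable {A : Type u} [Group A] [Finite A] {V : Type v} [AddCommGroup V] [Finite V] [DistribMulAction A V]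

/-- the action on an invariant subgroup -/
@[reducible] def subAct (U : AddSubgroup V) (hU : ∀ a : A, ∀ u ∈ U, a • u ∈ U) : DistribMulAction A U where
  smul a u := ⟨a • (u : V), hU a u u.2⟩
  one_smul u := Subtype.ext (one_smul A (u : V))
  mul_smul a b u := Subtype.ext (mul_smul a b (u : V))
  smul_zero a := Subtype.ext (smul_zero a)
  smul_add a u w := Subtype.ext (smul_add a (u : V) (w : V))

theorem cr_aux (hA : Odd (Nat.card A))
    (hcr : ∀ U : AddSubgroup V, (∀ a : A, ∀ v ∈ U, a • v ∈ U) →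
      ∃ W : AddSubgroup V, (∀ a : A, ∀ w ∈ W, a • w ∈ W) ∧ U ⊓ W = ⊥ ∧ U ⊔ W = ⊤) :
    ∀ n : ℕ, ∀ U : AddSubgroup V, (∀ a : A, ∀ v ∈ U, a • v ∈ U) → Nat.card U ≤ n →
      ∃ v ∈ U, ∃ w ∈ U, ∀ a : A, a • v = v → a • w = w → ∀ x ∈ U, a • x = x := by
  intro n
  induction n with
  | zero =>
    intro U _ h
    exact absurd h (by have : 0 < Nat.card U := Nat.card_pos; omega)
  | succ n ih =>
    intro U hU hcard
    by_cases hU0 : U = ⊥
    · refine ⟨0, U.zero_mem, 0, U.zero_mem, ?_⟩
      intro a _ _ x hx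
      rw [hU0, AddSubgroup.mem_bot] at hx
      rw [hx, smul_zero]
    by_cases hirr : ∀ T : AddSubgroup V, (∀ a : A, ∀ v ∈ T, a • v ∈ T) → T ≤ U → T = ⊥ ∨ T = U
    · let _ := subAct U hU
      have hI : Irr A U := by
        constructor
        · obtain ⟨x, hx, hx0⟩ := (AddSubgroup.ne_bot_iff_exists_ne_zero).mp hU0 |> fun ⟨x, hx⟩ =>
            (⟨x.1, x.2, fun h => hx (Subtype.ext h)⟩ : ∃ x : V, ∃ _ : x ∈ U, x ≠ 0)
          exact ⟨⟨⟨x, hx⟩, 0, fun h => hx0 (congrArg Subtype.val h)⟩⟩
        · intro T hT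
          rcases hirr (T.map U.subtype) (by
            rintro a _ ⟨t, ht, rfl⟩
            exact ⟨a • t, hT a t ht, rfl⟩) (by
            rintro _ ⟨t, ht, rfl⟩
            exact t.2) with h | h
          · left
            rw [eq_bot_iff]
            intro t ht
            have : (t : V) ∈ T.map U.subtype := ⟨t, ht, rfl⟩
            rw [h, AddSubgroup.mem_bot] at this
            rw [AddSubgroup.mem_bot]
            exact Subtype.ext this
          · right
            rw [eq_top_iff]
            intro t _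
            have : (t : V) ∈ T.map U.subtype := by rw [h]; exact t.2
            obtain ⟨t', ht', htt⟩ := this
            have h2 : t' = t := Subtype.ext htt
            rw [← h2]; exact ht'
      obtain ⟨v, w, hvw⟩ := irr_base hA hI
      refine ⟨v, v.2, w, w.2, ?_⟩
      intro a h1 h2 x hx
      exact congrArg Subtype.val (hvw a (Subtype.ext h1) (Subtype.ext h2) ⟨x, hx⟩)
    · push Not at hirr
      obtain ⟨T, hT, hTU, hT0, hTne⟩ := hirr
      obtain ⟨W, hW, hTW1, hTW2⟩ := hcr T hT
      have hTlt : T < U := lt_of_le_of_ne hTU hTne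
      have hS : ∀ a : A, ∀ v ∈ U ⊓ W, a • v ∈ U ⊓ W := fun a v hv => ⟨hU a v hv.1, hW a v hv.2⟩
      have hSlt : U ⊓ W < U := by
        refine lt_of_le_of_ne inf_le_left ?_
        intro h
        apply hT0
        rw [eq_bot_iff, ← hTW1]
        intro x hx
        have : x ∈ U ⊓ W := by rw [h]; exact hTU hx
        exact ⟨hx, this.2⟩
      have hlt : ∀ X : AddSubgroup V, X < U → Nat.card X ≤ n := by
        intro X hX
        have h1 : Nat.card X < Nat.card U := by
          refine lt_of_le_of_ne (Nat.card_le_card_of_injective _ (AddSubgroup.inclusion_injective hX.le)) ?_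
          intro h
          exact hX.ne (AddSubgroup.eq_of_le_of_card_ge hX.le h.ge)
        omega
      obtain ⟨v1, hv1, w1, hw1, h1⟩ := ih T hT (hlt T hTlt)
      obtain ⟨v2, hv2, w2, hw2, h2⟩ := ih (U ⊓ W) hS (hlt _ hSlt)
      refine ⟨v1 + v2, U.add_mem (hTU hv1) hv2.1, w1 + w2, U.add_mem (hTU hw1) hw2.1, ?_⟩
      have split : ∀ (a : A) (x y : V), x ∈ T → y ∈ W → a • (x + y) = x + y → a • x = x ∧ a • y = y := by
        intro a x y hx hy h
        have h3 : a • x - x ∈ T := T.sub_mem (hT a x hx) hx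
        have h4 : a • x - x = y - a • y := by
          rw [smul_add] at h
          rw [sub_eq_sub_iff_add_eq_add, h, add_comm]
        have h5 : a • x - x ∈ W := by
          rw [h4]; exact W.sub_mem hy (hW a y hy)
        have h6 : a • x - x ∈ T ⊓ W := ⟨h3, h5⟩
        rw [hTW1, AddSubgroup.mem_bot] at h6
        refine ⟨sub_eq_zero.mp h6, ?_⟩
        rw [h6] at h4
        exact (sub_eq_zero.mp h4.symm).symm
      intro a ha hb x hx
      obtain ⟨e1, e2⟩ := split a v1 v2 hv1 hv2.2 ha
      obtain ⟨e3, e4⟩ := split a w1 w2 hw1 hw2.2 hb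
      have hxt : x ∈ T ⊔ W := by rw [hTW2]; exact AddSubgroup.mem_top x
      obtain ⟨t, ht, y, hy, hty⟩ := AddSubgroup.mem_sup.mp hxt
      have hyU : y ∈ U := by
        have : y = x - t := by rw [← hty, add_sub_cancel_left]
        rw [this]
        exact U.sub_mem hx (hTU ht)
      rw [← hty, smul_add, h1 a e1 e3 t ht, h2 a e2 e4 y ⟨hyU, hy⟩]

theorem cr_base (hA : Odd (Nat.card A)) [FaithfulSMul A V]
    (hcr : ∀ U : AddSubgroup V, (∀ a : A, ∀ v ∈ U, a • v ∈ U) →
      ∃ W : AddSubgroup V, (∀ a : A, ∀ w ∈ W, a • w ∈ W) ∧ U ⊓ W = ⊥ ∧ U ⊔ W = ⊤) :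
    ∃ v w : V, ∀ a : A, a • v = v → a • w = w → a = 1 := by
  obtain ⟨v, -, w, -, h⟩ := cr_aux hA hcr (Nat.card (⊤ : AddSubgroup V)) ⊤ (fun a v _ => AddSubgroup.mem_top _) le_rfl
  refine ⟨v, w, fun a h1 h2 => ?_⟩
  apply FaithfulSMul.eq_of_smul_eq_smul (α := V)
  intro x
  rw [one_smul]
  exact h a h1 h2 x (AddSubgroup.mem_top x)

end cr

end Cfsg.Agent.Lib.OddBaseM
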