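import Mathlib
import Cfsg.Agent.Lib.OddOrth67
import Cfsg.Agent.S2904

/-!
(helper67) `Ω_{2n+1}(q)`, `q` odd, has no element of order `p (q^{n-1} + 1)`.
-/

set_option autoImplicit false

namespace Cfsg.Agent.Lib.OddOrth67

open QuadraticMap Module Cfsg.Agent.Lib.Quad Cfsg.Agent.Lib

universe u v w

/-- scalar action of a `p'`-part on a three-dimensional space with a regular unipotent element. -/
theorem scalar_of_line {F : Type u} {V : Type v} [Field F] [AddCommGroup V] [Module F V] [Nontrivial V]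
    {p : ℕ} [hp : Fact p.Prime] [CharP F p] (u h : V ≃ₗ[F] V) (huh : u * h = h * u) (hup : u ^ p = 1)
    (U : Submodule F V) (hUu : ∀ x ∈ U, u x ∈ U) (hUh : ∀ x ∈ U, h x ∈ U) (α : F)
    (hα : ∀ x ∈ U, u x = x → h x = α • x) {x : V} (hx : x ∈ U) : (h ^ p) x = (α ^ p) • x := by
  have hchar : CharP (End F V) p := charP_of_injective_algebraMap (algebraMap F (End F V)).injective p
  let N : End F V := (u : V →ₗ[F] V) - 1
  let D : End F V := (h : V →ₗ[F] V) - algebraMap F (End F V) α
  have hN : ∀ x, N x = u x - x := fun x => rfl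
  have hD : ∀ x, D x = h x - α • x := fun x => rfl
  have hcomm : N * D = D * N := by
    ext x
    rw [Module.End.mul_apply, Module.End.mul_apply, hN, hD, hN, hD]
    have h1 : u (h x) = h (u x) := LinearEquiv.congr_fun huh x
    simp only [map_sub, map_smul, h1, smul_sub]
    abel
  have hcomm' : ∀ k : ℕ, N ^ k * D = D * N ^ k := by
    intro k
    exact (Commute.pow_left (show Commute N D from hcomm) k)
  have key : ∀ (k : ℕ) (x : V), x ∈ U → (N ^ k) x = 0 → (D ^ k) x = 0 := by
    intro k
    induction k with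
    | zero => intro x _ hx; exact hx
    | succ k ih =>
      intro x hxU hx
      have hNU : ∀ y ∈ U, N y ∈ U := fun y hy => by rw [hN]; exact U.sub_mem (hUu y hy) hy
      have hNkU : ∀ (k : ℕ) (y : V), y ∈ U → (N ^ k) y ∈ U := by
        intro k
        induction k with
        | zero => intro y hy; exact hy
        | succ k ih => intro y hy; rw [pow_succ, Module.End.mul_apply]; exact ih _ (hNU y hy)
      have h1 : N ((N ^ k) x) = 0 := by rw [pow_succ', Module.End.mul_apply] at hx; exact hx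
      rw [hN, sub_eq_zero] at h1
      have h2 : D ((N ^ k) x) = 0 := by
        rw [hD, hα _ (hNkU k x hxU) h1, sub_self]
      rw [pow_succ, Module.End.mul_apply]
      apply ih
      · rw [hD]
        exact U.sub_mem (hUh x hxU) (U.smul_mem _ hxU)
      · rw [← Module.End.mul_apply, hcomm', Module.End.mul_apply, h2]
  have huk : ∀ (k : ℕ) (g : V ≃ₗ[F] V) (x : V), (((g : V →ₗ[F] V) : End F V) ^ k) x = (g ^ k) x := by
    intro k g
    induction k with
    | zero => intro x; rfl
    | succ k ih => intro x; rw [pow_succ, pow_succ, Module.End.mul_apply, ih]; rfl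
  have hNp : (N ^ p) x = 0 := by
    have h1 : N ^ p = ((u : V →ₗ[F] V) : End F V) ^ p - 1 ^ p := sub_pow_char_of_commute p (Commute.one_right _)
    rw [h1, one_pow, LinearMap.sub_apply, huk, hup]
    simp
  have h1 := key p x hx hNp
  have h2 : D ^ p = ((h : V →ₗ[F] V) : End F V) ^ p - (algebraMap F (End F V) α) ^ p :=
    sub_pow_char_of_commute p (show Commute _ _ from (Algebra.commutes α _).symm)
  rw [h2, LinearMap.sub_apply, huk, ← map_pow, sub_eq_zero] at h1
  exact h1

theorem no_element {F : Type u} {V : Type v} [Field F] [Finite F] [AddCommGroup V] [Module F V]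
    [FiniteDimensional F V] {Q : QuadraticForm F V} (hQ : Nd Q) (h2 : (2 : F) ≠ 0) {p : ℕ} [hp : Fact p.Prime]
    [hchar : CharP F p] {d : ℕ} (hd : 2 ≤ d) (hV : finrank F V = 2 * d + 3) {g : V ≃ₗ[F] V} (hg : g ∈ Om Q) :
    orderOf g ≠ p * (Nat.card F ^ d + 1) := by
  classical
  intro hog
  have hf := Fintype.ofFinite F
  have hgen : GenHyp Q := genHyp_of_two_ne_zero h2
  have hgO : g ∈ O Q := Om_le hg
  have hVnt : Nontrivial V := by
    apply Module.nontrivial_of_finrank_pos (R := F); rw [hV]; omega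
  set q := Nat.card F with hq
  have hq1 : 1 < q := Finite.one_lt_card
  -- q is a power of p
  obtain ⟨f, hf0, hqf⟩ : ∃ f : ℕ, 0 < f ∧ q = p ^ f := by
    obtain ⟨n, _, hn⟩ := FiniteField.card F p
    exact ⟨n, n.pos, by rw [hq, Nat.card_eq_fintype_card, hn]⟩
  have hpodd : p ≠ 2 := by
    rintro rfl
    exact h2 (by exact_mod_cast CharP.cast_eq_zero F 2)
  have hqodd : Odd q := by
    rw [hqf]
    exact (hp.out.eq_two_or_odd'.resolve_left hpodd).pow
  set m := q ^ d + 1 with hm
  have hpm : Nat.Coprime p m := by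
    rw [Nat.Prime.coprime_iff_not_dvd hp.out]
    intro h
    have h3 : p ∣ q ^ d := by
      rw [hqf, ← pow_mul]
      exact dvd_pow_self p (by have := Nat.mul_pos hf0 (by omega : 0 < d); omega)
    exact hp.out.one_lt.ne' (Nat.dvd_one.1 ((Nat.dvd_add_right h3).1 h))
  have hm2 : 2 ≤ m := by
    have := Nat.one_le_pow d q (by omega); omega
  have hm_even : Even m := by
    have : Odd (q ^ d) := hqodd.pow
    exact this.add_one
  -- Zsigmondy
  obtain ⟨r, hr, hrq, hrk⟩ := Cfsg.Agent.S2904.result q (2 * d) hq1 (by omega)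
    (by rintro ⟨h3, -⟩; rw [h3] at hqodd; exact absurd hqodd (by decide)) (by rintro ⟨h3, -⟩; omega)
  have hrf : Fact r.Prime := ⟨hr⟩
  have hrF : (r : F) ≠ 0 := by
    intro h0
    have h3 : p ∣ r := (CharP.cast_eq_zero_iff F p r).1 h0
    have h4 : p = r := (Nat.prime_dvd_prime_iff_eq hp.out hr).1 h3
    subst h4
    have h5 : p ∣ q ^ (2 * d) := by
      rw [hqf, ← pow_mul]
      exact dvd_pow_self p (by have := Nat.mul_pos hf0 (by omega : 0 < 2 * d); omega)
    have h6 : 1 ≤ q ^ (2 * d) := Nat.one_le_pow _ _ (by omega)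
    have h7 := (Nat.dvd_sub_iff_right h6 h5).1 hrq
    exact hp.out.one_lt.ne' (Nat.dvd_one.1 h7)
  have hordr : orderOf (q : ZMod r) = 2 * d := by
    rw [orderOf_eq_iff (by omega)]
    refine ⟨(Zsigmondy.dvd_pow_sub_one_iff (by omega)).1 hrq, fun k hk hk0 h3 => ?_⟩
    exact hrk k hk0 hk ((Zsigmondy.dvd_pow_sub_one_iff (by omega)).2 h3)
  have hord : ∀ k, 0 < k → r ∣ q ^ k - 1 → 2 * d ∣ k := by
    intro k _ h3
    rw [← hordr]
    exact orderOf_dvd_of_pow_eq_one ((Zsigmondy.dvd_pow_sub_one_iff (by omega)).1 h3)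
  have hrm : r ∣ m := by
    have h3 : q ^ (2 * d) - 1 = (q ^ d - 1) * (q ^ d + 1) := by
      have h4 : 1 ≤ q ^ d := Nat.one_le_pow _ _ (by omega)
      obtain ⟨t, ht⟩ := Nat.exists_eq_add_of_le h4
      rw [mul_comm 2 d, pow_mul, ht]
      have h5 : (1 + t) ^ 2 = (t * (1 + t + 1)) + 1 := by ring
      rw [h5]
      simp
    rw [h3] at hrq
    rcases (Nat.Prime.dvd_mul hr).1 hrq with h4 | h4
    · exact absurd h4 (hrk d (by omega) (by omega))
    · exact h4
  obtain ⟨c, hc⟩ := hrm
  have hc0 : 0 < c := by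
    rcases Nat.eq_zero_or_pos c with h3 | h3
    · rw [h3, mul_zero] at hc; omega
    · exact h3
  -- the element of order r
  set a := g ^ (p * c) with ha
  have haO : a ∈ O Q := Subgroup.pow_mem _ hgO _
  have har : a ^ r = 1 := by
    rw [ha, ← pow_mul]
    have : p * c * r = orderOf g := by rw [hog, hc]; ring
    rw [this, pow_orderOf_eq_one]
  have ha1 : a ≠ 1 := by
    intro h3
    have h4 := orderOf_dvd_of_pow_eq_one h3
    rw [hog] at h4
    have h5 := Nat.le_of_dvd (Nat.mul_pos hp.out.pos hc0) h4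
    have h6 := Nat.le_of_mul_le_mul_left h5 hp.out.pos
    rw [hc] at h6
    have := hr.two_le
    nlinarith
  obtain ⟨hinf, hsup⟩ := fix_sup_mov har hrF
  have hmov0 : 0 < finrank F (mov a) := by
    rw [Nat.pos_iff_ne_zero]
    intro h3
    exact ha1 (mov_eq_bot.1 (Submodule.finrank_eq_zero.1 h3))
  have hmovr : r ∣ q ^ finrank F (mov a) - 1 := by
    have hinv : ∀ x ∈ mov a, (a : V →ₗ[F] V) x ∈ mov a := fun x hx => comm_mov rfl hx
    let T : End F (mov a) := (a : V →ₗ[F] V).restrict hinv
    have hTpow : ∀ (k : ℕ) (x : mov a), (((T ^ k) x : mov a) : V) = (a ^ k) x := by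
      intro k
      induction k with
      | zero => intro x; rfl
      | succ k ih =>
        intro x
        rw [pow_succ, pow_succ, Module.End.mul_apply, ih]; rfl
    exact FieldStruct67.card_modEq (r := r) T (by
      ext x
      rw [hTpow, har]; rfl) (by
      intro x hx
      apply Subtype.ext
      exact fix_inf_mov har hrF (mem_fixS.2 (congrArg Subtype.val hx)) x.2)
  have hfr := finrank_mov_add_fixS a
  rw [hV] at hfr
  have hW : finrank F (mov a) = 2 * d := by
    obtain ⟨t, ht⟩ := hord _ hmov0 hmovr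
    have ht1 : t = 1 := by
      rcases Nat.lt_trichotomy t 1 with h3 | h3 | h3
      · have : t = 0 := by omega
        rw [this, mul_zero] at ht; omega
      · exact h3
      · have : 2 * d * 2 ≤ 2 * d * t := Nat.mul_le_mul_left _ h3
        omega
    rw [ht, ht1, mul_one]
  have hV0 : finrank F (fixS a) = 3 := by omega
  obtain ⟨K, _, _, _, _, σ, φ, Q', j, hset, hQ', hjinj, hjr, hcent⟩ :=
    structure_lemma hQ h2 (by omega) haO har hrF hW hord ⟨c, hc⟩
  have hcharK : CharP K p := charP_of_injective_algebraMap (algebraMap F K).injective p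
  -- the element of order p
  set u := g ^ m with hu
  have huO : u ∈ O Q := Subgroup.pow_mem _ hgO _
  have huOm : u ∈ Om Q := Subgroup.pow_mem _ hg _
  have hup : u ^ p = 1 := by
    rw [hu, ← pow_mul, mul_comm, ← hog, pow_orderOf_eq_one]
  have hu1 : u ≠ 1 := by
    intro h3
    have h4 := orderOf_dvd_of_pow_eq_one h3
    rw [hog] at h4
    have h5 := Nat.le_of_dvd (by omega) h4
    have := hp.out.two_le
    nlinarith
  have hau : a * u = u * a := by rw [ha, hu]; exact pow_mul_comm g _ _
  obtain ⟨ζu, -, hζu⟩ := hcent u huO hau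
  have hpowj : ∀ (h : V ≃ₗ[F] V) (ζ : K), (∀ x, h (j x) = j (ζ * x)) → ∀ (k : ℕ) (x : K), (h ^ k) (j x) = j (ζ ^ k * x) := by
    intro h ζ hζ k
    induction k with
    | zero => intro x; rw [pow_zero, pow_zero, one_mul]; rfl
    | succ k ih =>
      intro x
      rw [pow_succ]
      show (h ^ k) (h (j x)) = _
      rw [hζ, ih, pow_succ, mul_assoc]
  have hζu1 : ζu = 1 := by
    have h3 := hpowj u ζu hζu p 1
    rw [hup] at h3
    have h4 : (1 : K) = ζu ^ p * 1 := hjinj h3
    rw [mul_one] at h4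
    have h5 : (ζu - 1) ^ p = 0 := by
      rw [sub_pow_char, one_pow, ← h4, sub_self]
    exact sub_eq_zero.1 (pow_eq_zero_iff hp.out.ne_zero |>.1 h5)
  have hmovu : mov a ≤ fixS u := by
    intro x hx
    rw [← hjr] at hx
    obtain ⟨k, rfl⟩ := hx
    rw [mem_fixS, hζu, hζu1, one_mul]
  have hmovu' : mov u ≤ fixS a := by
    rw [hQ.mov_eq huO, hQ.fixS_eq haO]
    intro x hx
    rw [mem_perp] at hx ⊢
    exact fun w hw => hx w (hmovu hw)
  have heven : ∀ h : V ≃ₗ[F] V, h ∈ Om Q → Even (finrank F (mov h)) := by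
    intro h hh
    have h3 := ((mem_Om_iff_homs hQ hgen ⟨h, Om_le hh⟩).1 hh).1
    exact sgn_eq_one_iff.1 h3
  have hu2 : finrank F (mov u) = 2 := by
    have h3 : finrank F (mov u) ≤ 3 := hV0 ▸ Submodule.finrank_mono hmovu'
    have h4 : finrank F (mov u) ≠ 0 := fun h => hu1 (mov_eq_bot.1 (Submodule.finrank_eq_zero.1 h))
    obtain ⟨t, ht⟩ := heven u huOm
    omega
  have hline : finrank F (fixS u ⊓ fixS a : Submodule F V) = 1 := by
    have h3 := Submodule.finrank_sup_add_finrank_inf_eq (fixS u) (fixS a)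
    have h4 : fixS u ⊔ fixS a = ⊤ := by
      rw [eq_top_iff, ← hsup]
      exact sup_le le_sup_right (hmovu.trans le_sup_left)
    have h5 := finrank_mov_add_fixS u
    rw [h4, finrank_top, hV, hV0] at h3
    omega
  -- `h = g ^ p`
  set h := g ^ p with hh
  have hhO : h ∈ O Q := Subgroup.pow_mem _ hgO _
  have hah : a * h = h * a := by rw [ha, hh]; exact pow_mul_comm g _ _
  have huh : u * h = h * u := by rw [hu, hh]; exact pow_mul_comm g _ _
  have hLnt : Nontrivial (fixS u ⊓ fixS a : Submodule F V) := by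
    apply Module.nontrivial_of_finrank_pos (R := F); rw [hline]; omega
  obtain ⟨⟨w, hwu, hwa⟩, hw0⟩ := exists_ne (0 : (fixS u ⊓ fixS a : Submodule F V))
  have hgenL := (finrank_eq_one_iff_of_nonzero' _ hw0).1 hline
  obtain ⟨α, hα⟩ := hgenL ⟨h w, comm_fix huh hwu, comm_fix hah hwa⟩
  have hα' : h w = α • w := (congrArg Subtype.val hα).symm
  have hscal := fun (x : V) (hx : x ∈ fixS a) => scalar_of_line (p := p) u h huh hup (fixS a) (fun x hx => comm_fix hau hx)
    (fun x hx => comm_fix hah hx) α (by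
      intro x hx hxu
      obtain ⟨c', hc'⟩ := hgenL ⟨x, mem_fixS.2 hxu, hx⟩
      have h3 : x = c' • w := (congrArg Subtype.val hc').symm
      rw [h3, map_smul, hα', smul_comm]) hx
  set s := h ^ p with hs
  have hsO : s ∈ O Q := Subgroup.pow_mem _ hhO _
  have hsOm : s ∈ Om Q := Subgroup.pow_mem _ (Subgroup.pow_mem _ hg _) _
  have has : a * s = s * a := by
    rw [hs, hh, ← pow_mul, ha]; exact pow_mul_comm g _ _
  have hsk : ∀ k, s ^ k = 1 → m ∣ k := by
    intro k hk
    rw [hs, hh, ← pow_mul, ← pow_mul] at hk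
    have h3 := orderOf_dvd_of_pow_eq_one hk
    rw [hog] at h3
    have h4 : m ∣ p * k := by
      exact Nat.dvd_of_mul_dvd_mul_left hp.out.pos h3
    exact (Nat.Coprime.symm hpm).dvd_of_dvd_mul_left h4
  -- the scalar is ±1
  have hV0ne : fixS a ≠ ⊥ := by
    intro h3
    rw [h3, finrank_bot] at hV0; omega
  obtain ⟨v0, hv0, hQv0⟩ : ∃ v ∈ fixS a, Q v ≠ 0 := by
    by_contra hcon
    push Not at hcon
    apply hV0ne
    rw [eq_bot_iff]
    intro x hx
    rw [Submodule.mem_bot]
    apply hQ.eq_zero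
    intro y
    have hy : y ∈ fixS a ⊔ mov a := by rw [hsup]; trivial
    obtain ⟨y0, hy0, y1, hy1, rfl⟩ := Submodule.mem_sup.1 hy
    rw [polar_add_right]
    have h3 : polar Q x y0 = 0 := by
      rw [polar, hcon _ (Submodule.add_mem _ hx hy0), hcon _ hx, hcon _ hy0]; ring
    have h4 : polar Q x y1 = 0 := by
      rw [hQ.fixS_eq haO, mem_perp'] at hx
      exact hx y1 hy1
    rw [h3, h4, add_zero]
  have hαα : (α ^ p) * (α ^ p) = 1 := by
    have h3 := hsO v0
    rw [hscal v0 hv0, Q_smul] at h3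
    have h4 : ((α ^ p) * (α ^ p) - 1) * Q v0 = 0 := by linear_combination h3
    exact sub_eq_zero.1 ((mul_eq_zero.1 h4).resolve_right hQv0)
  obtain ⟨ζ, hζσ, hζ⟩ := hcent s hsO has
  -- fixed vectors of `s` in the residual space
  have hfixW : ζ ≠ 1 → ∀ x ∈ mov a, s x = x → x = 0 := by
    intro hne x hx hsx
    rw [← hjr] at hx
    obtain ⟨k, rfl⟩ := hx
    rw [hζ] at hsx
    have h3 := hjinj hsx
    have h4 : (ζ - 1) * k = 0 := by rw [sub_mul, h3, one_mul, sub_self]
    rcases mul_eq_zero.1 h4 with h5 | h5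
    · exact absurd (sub_eq_zero.1 h5) hne
    · rw [h5, map_zero]
  have hseven := heven s hsOm
  have hsfr := finrank_mov_add_fixS s
  rw [hV] at hsfr
  have hα1 : α ^ p = 1 := by
    rcases mul_self_eq_one_iff.1 hαα with h3 | h3
    · exact h3
    exfalso
    have hfixV : fixS s ⊓ fixS a = ⊥ := by
      rw [eq_bot_iff]
      rintro x ⟨hx1, hx2⟩
      rw [Submodule.mem_bot]
      have h4 := hscal x hx2
      rw [h3] at h4
      have h5 : s x = x := mem_fixS.1 hx1
      rw [h5] at h4
      have h6 : (2 : F) • x = 0 := by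
        rw [two_smul]
        conv_lhs => lhs; rw [h4]
        rw [neg_one_smul, neg_add_cancel]
      exact (smul_eq_zero.1 h6).resolve_left h2
    by_cases hζ1 : ζ = 1
    · have h4 : mov a ≤ fixS s := by
        intro x hx
        rw [← hjr] at hx
        obtain ⟨k, rfl⟩ := hx
        rw [mem_fixS, hζ, hζ1, one_mul]
      have h5 := Submodule.finrank_mono h4
      rw [hW] at h5
      have h6 := Submodule.finrank_sup_add_finrank_inf_eq (fixS s) (fixS a)
      rw [hfixV, finrank_bot, hV0] at h6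
      have h7 : finrank F (fixS s ⊔ fixS a : Submodule F V) ≤ 2 * d + 3 := hV ▸ Submodule.finrank_le _
      obtain ⟨t, ht⟩ := hseven
      omega
    · have h4 : fixS s = ⊥ := by
        rw [eq_bot_iff]
        intro x hx
        rw [Submodule.mem_bot]
        have hx' : x ∈ fixS a ⊔ mov a := by rw [hsup]; trivial
        obtain ⟨x0, hx0, x1, hx1, rfl⟩ := Submodule.mem_sup.1 hx'
        have h5 : s (x0 + x1) = x0 + x1 := mem_fixS.1 hx
        have h8 := hscal x0 hx0
        rw [h3, neg_one_smul] at h8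
        rw [map_add, h8] at h5
        have h6 : x0 + x0 = s x1 - x1 := by
          have h9 : s x1 = x0 + x1 + x0 := by rw [← h5]; abel
          rw [h9]; abel
        have h7 : x0 + x0 = 0 := by
          have h10 : x0 + x0 ∈ fixS a ⊓ mov a := ⟨Submodule.add_mem _ hx0 hx0, by
            rw [h6]; exact Submodule.sub_mem _ (comm_mov has hx1) hx1⟩
          rw [hinf, Submodule.mem_bot] at h10
          exact h10
        have hx00 : x0 = 0 := by
          have h11 : (2 : F) • x0 = 0 := by rw [two_smul]; exact h7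
          exact (smul_eq_zero.1 h11).resolve_left h2
        have hx10 : x1 = 0 := by
          apply hfixW hζ1 x1 hx1
          rw [h7] at h6
          exact (sub_eq_zero.1 h6.symm)
        rw [hx00, hx10, add_zero]
      rw [h4, finrank_bot] at hsfr
      obtain ⟨t, ht⟩ := hseven
      omega
  have hs0 : ∀ x ∈ fixS a, s x = x := by
    intro x hx
    have h3 := hscal x hx
    rw [hα1, one_smul] at h3
    exact h3
  have hζk : ∀ k, ζ ^ k = 1 → m ∣ k := by
    intro k hk
    apply hsk
    ext x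
    have hx' : x ∈ fixS a ⊔ mov a := by rw [hsup]; trivial
    obtain ⟨x0, hx0, x1, hx1, rfl⟩ := Submodule.mem_sup.1 hx'
    rw [map_add]
    have h3 : ∀ k : ℕ, (s ^ k) x0 = x0 := by
      intro k
      induction k with
      | zero => rfl
      | succ k ih =>
        rw [pow_succ]
        show (s ^ k) (s x0) = x0
        rw [hs0 x0 hx0, ih]
    rw [← hjr] at hx1
    obtain ⟨k1, rfl⟩ := hx1
    rw [h3, hpowj s ζ hζ, hk, one_mul]; rfl
  have hζ1 : ζ ≠ 1 := by
    intro h3
    have h4 := hζk 1 (by rw [h3, one_pow])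
    have := Nat.le_of_dvd one_pos h4
    omega
  have hζ2 : ζ ^ ((q ^ d + 1) / 2) ≠ 1 := by
    intro h3
    obtain ⟨t, ht⟩ := hm_even
    have h4 := hζk _ h3
    have h5 : (q ^ d + 1) / 2 = t := by omega
    rw [h5] at h4
    have := Nat.le_of_dvd (by omega) h4
    omega
  -- the isometry of `K`
  let g' : K ≃ₗ[F] K := ofMap hset.nd (LinearMap.mulLeft F ζ) (by
    intro x
    rw [hQ', hQ']
    show Q (j (ζ * x)) = _
    rw [← hζ, hsO])
  have hg' : ∀ x, g' x = ζ * x := fun x => rfl
  have hg'O : g' ∈ O Q' := ofMap_mem _ _ _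
  have hns := hset.spin_ne_one (hset.nd.R_eq_O (genHyp_of_two_ne_zero h2)) hζσ hζ2 hg'
  apply hns
  have hsq : IsSquare (wd Q s) := by
    have h3 := ((mem_Om_iff_homs hQ hgen ⟨s, hsO⟩).1 hsOm).2
    exact sgn_eq_one_iff.1 h3
  let b := finBasis F K
  have hKd : finrank F K = 2 * d := hset.fr
  have hne : Nonempty (Fin (finrank F K)) := ⟨⟨0, by omega⟩⟩
  have hli' : LinearIndependent F (fun i => (b i - g' (b i) : K)) := by
    have h3 : (fun i => (b i - g' (b i) : K)) = fun i => (LinearMap.mulLeft F (1 - ζ)) (b i) := by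
      funext i
      rw [hg']
      show _ = (1 - ζ) * b i
      ring
    rw [h3]
    apply b.linearIndependent.map'
    rw [LinearMap.ker_eq_bot]
    intro x y hxy
    exact mul_left_cancel₀ (sub_ne_zero.2 (Ne.symm hζ1)) hxy
  have hli : LinearIndependent F (fun i => (j (b i) - s (j (b i)) : V)) := by
    have h3 : (fun i => (j (b i) - s (j (b i)) : V)) = fun i => j (b i - g' (b i)) := by
      funext i
      rw [hζ, map_sub, hg']
    rw [h3]
    exact hli'.map' j (LinearMap.ker_eq_bot.2 hjinj)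
  have hc1 : Fintype.card (Fin (finrank F K)) = finrank F (mov s) := by
    rw [Fintype.card_fin, hKd]
    have h3 : fixS a ≤ fixS s := fun x hx => mem_fixS.2 (hs0 x hx)
    have h4 : fixS s ⊓ mov a = ⊥ := by
      rw [eq_bot_iff]
      rintro x ⟨hx1, hx2⟩
      exact (Submodule.mem_bot F).2 (hfixW hζ1 x hx2 (mem_fixS.1 hx1))
    have h5 := Submodule.finrank_mono h3
    rw [hV0] at h5
    have h6 := Submodule.finrank_sup_add_finrank_inf_eq (fixS s) (mov a)
    rw [h4, finrank_bot, hW] at h6
    have h7 : finrank F (fixS s ⊔ mov a : Submodule F V) ≤ 2 * d + 3 := hV ▸ Submodule.finrank_le _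
    omega
  have hc2 : Fintype.card (Fin (finrank F K)) = finrank F (mov g') := by
    rw [Fintype.card_fin]
    have h3 : fixS g' = ⊥ := by
      rw [eq_bot_iff]
      intro x hx
      rw [Submodule.mem_bot]
      have h4 : ζ * x = x := mem_fixS.1 hx
      have h5 : (ζ - 1) * x = 0 := by rw [sub_mul, h4, one_mul, sub_self]
      exact (mul_eq_zero.1 h5).resolve_left (sub_ne_zero.2 hζ1)
    have h6 := finrank_mov_add_fixS g'
    rw [h3, finrank_bot] at h6
    omega
  have s1 := SpinTorus67.isSquare_wd_mul hsO (fun i => j (b i)) hli hc1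
  have s2 := SpinTorus67.isSquare_wd_mul hg'O (fun i => b i) hli' hc2
  have n2 := SpinTorus67.gram_det_ne_zero hset.nd hg'O (fun i => b i) hli' hc2
  have hmat : (Matrix.of fun i k => polar Q (j (b i) - s (j (b i))) (j (b k))) =
      (Matrix.of fun i k => polar Q' (b i - g' (b i)) (b k)) := by
    ext i k
    simp only [Matrix.of_apply]
    rw [← polar_map (Q' := Q) (Q := Q') j (fun v => (hQ' v).symm), hζ, map_sub, hg']
  rw [hmat] at s1
  rw [isSquare_mul_iff (wd_ne_zero hQ _) n2] at s1
  rw [isSquare_mul_iff (wd_ne_zero hset.nd _) n2] at s2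
  exact s2.2 (s1.1 hsq)

end Cfsg.Agent.Lib.OddOrth67
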