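import Mathlib.GroupTheory.Sylow
import Mathlib.GroupTheory.Commutator.Basic
import Cfsg.Prelude.Def_PLocal
import Cfsg.Agent.Lib.ThompsonJ

/-! `V` generated by the fixed points of Sylow subgroups (Kurzweil-Stellmacher 9.2.8, 9.2.9). -/

set_option autoImplicit false

namespace Cfsg.Agent.Lib.OffenderGen

open Subgroup commutatorElement
open scoped Pointwise

universe u

variable {G : Type u} [Group G] [Finite G] {p : ℕ} [Fact p.Prime]

omit [Finite G] [Fact p.Prime] in
/-- normal `p`-subgroups lie in all Sylow subgroups -/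
theorem normal_le_sylow {N : Subgroup G} [N.Normal] (hN : IsPGroup p N) (P : Sylow p G) : N ≤ P := by
  have h1 : IsPGroup p (N ⊔ P : Subgroup G) := hN.to_sup_of_normal_left P.2
  have h2 := P.3 h1 le_sup_right
  rw [← h2]
  exact le_sup_left

omit [Finite G] [Fact p.Prime] in
theorem pCore_le_sylow (P : Sylow p G) : Cfsg.pCore p G ≤ P := by
  apply sSup_le
  rintro N ⟨hN, hNp⟩
  exact normal_le_sylow hNp P

/-- normal subgroups that are `p`-groups modulo `C_G(V)` centralize `V`. -/
theorem le_centralizer_of_gen (V : Subgroup G) [V.Normal]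
    (hgen : V ≤ ⨆ S : Sylow p G, V ⊓ centralizer ((S : Subgroup G) : Set G)) (D : Subgroup G) [D.Normal]
    (hD : IsPGroup p (D.map (QuotientGroup.mk' (centralizer (V : Set G))))) : D ≤ centralizer (V : Set G) := by
  rw [le_centralizer_iff]
  refine hgen.trans (iSup_le fun S => ?_)
  rw [le_centralizer_iff]
  intro x hx
  haveI : (D.map (QuotientGroup.mk' (centralizer (V : Set G)))).Normal :=
    Normal.map inferInstance _ (QuotientGroup.mk'_surjective _)
  have h1 := normal_le_sylow hD (S.mapSurjective (QuotientGroup.mk'_surjective (centralizer (V : Set G))))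
  have h2 := h1 (mem_map_of_mem _ hx)
  obtain ⟨s, hs, hsx⟩ := h2
  have h3 : s⁻¹ * x ∈ centralizer (V : Set G) := QuotientGroup.eq.mp hsx
  have h4 : x = s * (s⁻¹ * x) := by group
  rw [h4]
  apply mul_mem
  · have : (S : Subgroup G) ≤ centralizer ((V ⊓ centralizer ((S : Subgroup G) : Set G) : Subgroup G) : Set G) := by
      rw [le_centralizer_iff]; exact inf_le_right
    exact this hs
  · exact centralizer_le (inf_le_left : V ⊓ centralizer ((S : Subgroup G) : Set G) ≤ V) h3

theorem pCore_quotient_eq_bot (V : Subgroup G) [V.Normal]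
    (hgen : V ≤ ⨆ S : Sylow p G, V ⊓ centralizer ((S : Subgroup G) : Set G)) :
    Cfsg.pCore p (G ⧸ centralizer (V : Set G)) = ⊥ := by
  rw [eq_bot_iff]
  apply sSup_le
  rintro N ⟨hN, hNp⟩
  have h1 : (N.comap (QuotientGroup.mk' (centralizer (V : Set G)))).map (QuotientGroup.mk' (centralizer (V : Set G))) = N :=
    map_comap_eq_self_of_surjective (QuotientGroup.mk'_surjective _) N
  have h2 := le_centralizer_of_gen (p := p) V hgen (N.comap (QuotientGroup.mk' (centralizer (V : Set G)))) (by rw [h1]; exact hNp)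
  rw [← h1]
  rw [map_le_iff_le_comap, MonoidHom.comap_bot, QuotientGroup.ker_mk']
  exact h2

omit [Finite G] [Fact p.Prime] in
/-- a join of pairwise commuting elementary abelian subgroups is elementary abelian -/
theorem elemAb_iSup {ι : Type*} (A : ι → Subgroup G) (hA : ∀ i, Cfsg.IsElementaryAbelian p (A i))
    (hc : ∀ i j, A i ≤ centralizer (A j : Set G)) : Cfsg.IsElementaryAbelian p (⨆ i, A i) := by
  rw [ThompsonJ.elemAb_iff]
  have h1 : (⨆ i, A i) ≤ centralizer ((⨆ i, A i : Subgroup G) : Set G) := by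
    apply iSup_le
    intro i
    rw [le_centralizer_iff]
    apply iSup_le
    intro j
    exact hc j i
  refine ⟨h1, ?_⟩
  intro a ha
  refine iSup_induction' A (C := fun a _ => a ^ p = 1) ?_ ?_ ?_ ha
  · intro i x hx
    exact (hA i).2 x hx
  · exact one_pow _
  · intro x y hx hy hxp hyp
    have hcomm : Commute x y := (mem_centralizer_iff.mp (h1 hx) y hy).symm
    rw [hcomm.mul_pow, hxp, hyp, mul_one]

/-- `Z(S) = S ∩ C_G(S)` -/
abbrev zen (S : Sylow p G) : Subgroup G := (S : Subgroup G) ⊓ centralizer ((S : Subgroup G) : Set G)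

/-- the subgroup generated by the `Ω₁(Z(S))` -/
abbrev omegaV (p : ℕ) (G : Type u) [Group G] : Subgroup G :=
  ⨆ S : Sylow p G, Cfsg.omegaOne p ((S : Subgroup G) ⊓ centralizer ((S : Subgroup G) : Set G))

omit [Finite G] [Fact p.Prime] in
theorem zen_comm (S : Sylow p G) : IsMulCommutative ↥(zen S) := by
  rw [← le_centralizer_iff_isMulCommutative]
  exact inf_le_right.trans (centralizer_le inf_le_left)

omit [Finite G] [Fact p.Prime] in
theorem map_zen (g : G) (S : Sylow p G) : (zen S).map (MulAut.conj g).toMonoidHom = zen (g • S) := by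
  ext x
  simp only [zen, mem_inf, mem_map]
  constructor
  · rintro ⟨y, ⟨hy1, hy2⟩, rfl⟩
    refine ⟨⟨y, hy1, rfl⟩, ?_⟩
    rw [mem_centralizer_iff] at hy2 ⊢
    rintro _ ⟨z, hz, rfl⟩
    change (g * z * g⁻¹) * (g * y * g⁻¹) = (g * y * g⁻¹) * (g * z * g⁻¹)
    have := hy2 z hz
    calc (g * z * g⁻¹) * (g * y * g⁻¹) = g * (z * y) * g⁻¹ := by group
      _ = g * (y * z) * g⁻¹ := by rw [this]
      _ = _ := by group
  · rintro ⟨⟨y, hy, rfl⟩, hx⟩
    refine ⟨y, ⟨hy, ?_⟩, rfl⟩
    rw [mem_centralizer_iff] at hx ⊢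
    intro z hz
    have := hx (g * z * g⁻¹) ⟨z, hz, rfl⟩
    change (g * z * g⁻¹) * (g * y * g⁻¹) = (g * y * g⁻¹) * (g * z * g⁻¹) at this
    have h1 : (g * z * g⁻¹) * (g * y * g⁻¹) = g * (z * y) * g⁻¹ := by group
    have h2 : (g * y * g⁻¹) * (g * z * g⁻¹) = g * (y * z) * g⁻¹ := by group
    rw [h1, h2] at this
    simpa using this

omit [Finite G] [Fact p.Prime] in
theorem omegaV_normal : (omegaV p G).Normal := by
  refine Normal.of_conjugate_fixed (fun g => ?_)
  have hmap : ∀ g : G, MulAut.conj g • omegaV p G ≤ omegaV p G := by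
    intro g
    change (omegaV p G).map (MulAut.conj g).toMonoidHom ≤ _
    unfold omegaV
    rw [Subgroup.map_iSup]
    apply iSup_le
    intro S
    rw [ThompsonJ.map_omegaOne (MulAut.conj g).injective]
    have : ((S : Subgroup G) ⊓ centralizer ((S : Subgroup G) : Set G)).map (MulAut.conj g).toMonoidHom = zen (g • S) := map_zen g S
    rw [this]
    exact le_iSup (fun S : Sylow p G => Cfsg.omegaOne p (zen S)) (g • S)
  apply le_antisymm (hmap g)
  have h1 := hmap g⁻¹
  rw [map_inv, pointwise_smul_subset_iff, inv_inv] at h1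
  exact h1

theorem omegaV_elemAb (hc : centralizer (Cfsg.pCore p G : Set G) ≤ Cfsg.pCore p G) :
    Cfsg.IsElementaryAbelian p (omegaV p G) := by
  apply elemAb_iSup
  · intro S
    exact ThompsonJ.elemAb_omegaOne (zen_comm S)
  · intro S T
    have h1 : zen S ≤ T := by
      refine le_trans ?_ (pCore_le_sylow T)
      refine le_trans ?_ hc
      exact inf_le_right.trans (centralizer_le (pCore_le_sylow S))
    have h2 : zen S ≤ centralizer (zen T : Set G) := by
      rw [le_centralizer_iff]
      exact inf_le_right.trans (centralizer_le h1)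
    exact (ThompsonJ.omegaOne_le _).trans (h2.trans (centralizer_le (ThompsonJ.omegaOne_le _)))

omit [Finite G] [Fact p.Prime] in
theorem omegaV_gen : omegaV p G ≤ ⨆ S : Sylow p G, omegaV p G ⊓ centralizer ((S : Subgroup G) : Set G) := by
  apply iSup_le
  intro S
  refine le_trans ?_ (le_iSup _ S)
  apply le_inf
  · exact le_iSup (fun S : Sylow p G => Cfsg.omegaOne p ((S : Subgroup G) ⊓ centralizer ((S : Subgroup G) : Set G))) S
  · exact (ThompsonJ.omegaOne_le _).trans inf_le_right

omit [Finite G] in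
/-- a subgroup `D` with `|D : K|` a power of `p` has `p`-group image modulo `K`. -/
theorem isPGroup_map_mk {K D : Subgroup G} [K.Normal] (hk : ∃ k : ℕ, K.relIndex D = p ^ k) :
    IsPGroup p (D.map (QuotientGroup.mk' K)) := by
  obtain ⟨k, hk⟩ := hk
  apply IsPGroup.of_card (n := k)
  rw [← relIndex_ker, QuotientGroup.ker_mk', hk]

end Cfsg.Agent.Lib.OffenderGen
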