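import Cfsg.Agent.Lib.OmRot

/-!
# The last two cases of the trichotomy, for all fields (helper83)
-/

set_option autoImplicit false
set_option linter.all false

namespace Cfsg.Agent.Lib.OmLowerB

open Cfsg.Agent.Lib.Quad Cfsg.Agent.Lib.ClOrthSiegel QuadraticMap Module AvgTrace OmHyp OmWt OmFix OmTr OmSL OmER OmTB OmPos
  OmSchur OmLower OmComm OmRot

variable {F : Type*} [Field F] [Fintype F] {V : Type*} [AddCommGroup V] [Module ℂ V] [FiniteDimensional ℂ V]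

theorem hypG {W₃ : Type*} [AddCommGroup W₃] [Module F W₃] [Fintype W₃] [FiniteDimensional F W₃] {Q₃ : QuadraticForm F W₃}
    (hQ₃ : Nd Q₃) (hR : R (hyp (hyp (hyp Q₃))) = O (hyp (hyp (hyp Q₃)))) : Hyp (nd_hyp hQ₃) 0
      (Fin.cons e0 (fun i => (0, (Fin.elim0 i : W₃)))) (Fin.cons f0 (fun i => (0, (Fin.elim0 i : W₃)))) := by
  have hfr := frame_cons (frame_zero Q₃)
  have hN := frame_cons (frame_cons hfr)
  exact { hR := hR
          hT := T_eq_Om (nd_hyp (nd_hyp (nd_hyp hQ₃))) hR hN (i := 0) (j := Fin.succ 0) (l := Fin.succ (Fin.succ 0))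
            (Fin.succ_ne_zero _).symm (Fin.succ_ne_zero _).symm
            (fun h => (Fin.succ_ne_zero (0 : Fin (0 + 1))).symm (Fin.succ_injective _ h))
          fr := hfr }

/-- the last two alternatives -/
theorem lowerB {W₃ : Type*} [AddCommGroup W₃] [Module F W₃] [Fintype W₃] [FiniteDimensional F W₃] {Q₃ : QuadraticForm F W₃}
    (hQ₃ : Nd Q₃) (hR : R (hyp (hyp (hyp Q₃))) = O (hyp (hyp (hyp Q₃))))
    (ρ : Representation ℂ (G (nd_hyp (nd_hyp hQ₃))) V) (hρ : ρ.IsIrreducible) (hV : 2 ≤ Module.finrank ℂ V)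
    {ψ : AddChar F ℂ} (hψ : ψ ≠ 0) (hns : ∀ x : (F × F) × ((F × F) × W₃), hyp (hyp Q₃) x ≠ 0 → m (nd_hyp hQ₃) ρ ψ x = 0)
    (h3 : ∀ x : (F × F) × ((F × F) × W₃), hyp (hyp Q₃) x = 0 → LinearMap.trace ℂ V (wt (hQ := nd_hyp (nd_hyp hQ₃)) ρ ψ x) = 1 →
      x.1.2 = 0 → ∀ w, polar (hyp Q₃) w x.2 = 0 →
        ρ (a1 (nd_hyp hQ₃) w) * wt (hQ := nd_hyp (nd_hyp hQ₃)) ρ ψ x = wt (hQ := nd_hyp (nd_hyp hQ₃)) ρ ψ x) :
    2 * (ClOrthOrd.Z (hyp (hyp Q₃)) - 1) ≤ Module.finrank ℂ V ∨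
    ∃ r : ℝ, SL2GapB.Kset (Fintype.card F) r ∧
      (Module.finrank ℂ V : ℝ) * (((Fintype.card F : ℝ) ^ 3 * Fintype.card W₃ + 1) * (Fintype.card F - 1) - Fintype.card F * r) *
        ((Fintype.card F : ℝ) ^ 2 - 1) =
      (Fintype.card F - 1) * (ClOrthOrd.Z (hyp (hyp (hyp Q₃))) - 1) * (ClOrthOrd.Z (hyp (hyp Q₃)) - 1) := by
  classical
  have HG := hypG hQ₃ hR
  by_cases htwo : ∃ x : (F × F) × ((F × F) × W₃), x ≠ 0 ∧ hyp (hyp Q₃) x = 0 ∧ 2 ≤ m (nd_hyp hQ₃) ρ ψ x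
  · left
    obtain ⟨x, hx0, hx, hm⟩ := htwo
    exact sing_two (nd_hyp hQ₃) ρ hψ HG hx0 hx hm
  right
  push Not at htwo
  -- multiplicity one
  have hone : ∀ x : (F × F) × ((F × F) × W₃), x ≠ 0 → hyp (hyp Q₃) x = 0 → m (nd_hyp hQ₃) ρ ψ x = 1 := by
    by_contra hcon
    push Not at hcon
    obtain ⟨x, hx0, hx, hm⟩ := hcon
    have h0 : m (nd_hyp hQ₃) ρ ψ x = 0 := by
      have := htwo x hx0 hx
      omega
    have htriv := trivial_of (nd_hyp hQ₃) ρ hψ HG (fun z hz => by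
      by_cases hz1 : hyp (hyp Q₃) z = 0
      · rw [m_eq (nd_hyp hQ₃) ρ HG ψ hz hx0 (hz1.trans hx.symm), h0]
      · exact hns z hz1)
    have h1 := RepSchur.finrank_le_one_of_comm hρ (fun g h => by rw [htriv g, htriv h])
    omega
  have H : Wts (nd_hyp hQ₃) ρ ψ :=
    { h1 := fun x hx => by
        have := hns x hx
        unfold m at this
        rwa [Submodule.finrank_eq_zero, LinearMap.range_eq_bot] at this
      h2 := fun x hx0 hx => by rw [trace_m (nd_hyp hQ₃), hone x hx0 hx, Nat.cast_one]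
      h3 := fun x hx0 hx hx1 w hw => h3 x hx (by rw [trace_m (nd_hyp hQ₃), hone x hx0 hx, Nat.cast_one]) hx1 w hw }
  obtain ⟨r, hr, c, β, γ, h1, h2, h3', h4⟩ := main_identity (nd_hyp hQ₃) hψ H HG hρ (by omega)
    (K := Fintype.card F * ClOrthOrd.Z Q₃) (fun y hy hy0 => card_K hQ₃ hy hy0)
  refine ⟨r, hr, ?_⟩
  have hq1 : 1 < Fintype.card F := Fintype.one_lt_card
  have hZ1 := ClOrthOrd.Z_split (split_hyp Q₃)
  have hZ2 := ClOrthOrd.Z_split (split_hyp (hyp Q₃))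
  have hZ3 := ClOrthOrd.Z_split (split_hyp (hyp (hyp Q₃)))
  rw [Nat.card_prod, Nat.card_prod] at hZ2
  rw [Nat.card_prod, Nat.card_prod, Nat.card_prod, Nat.card_prod] at hZ3
  simp only [Nat.card_eq_fintype_card] at hZ1 hZ2 hZ3
  set q := Fintype.card F with hqd
  set X := Fintype.card W₃ with hXd
  set σ := ClOrthOrd.Z Q₃ with hσ
  set s₂ := ClOrthOrd.Z (hyp Q₃) with hs₂
  set S := ClOrthOrd.Z (hyp (hyp Q₃)) with hS
  set N := ClOrthOrd.Z (hyp (hyp (hyp Q₃))) with hN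
  set D := Module.finrank ℂ V with hD
  have hX0 : (X : ℂ) ≠ 0 := Nat.cast_ne_zero.2 Fintype.card_ne_zero
  have hq0 : (q : ℂ) ≠ 0 := Nat.cast_ne_zero.2 (by omega)
  have hq1' : (q : ℂ) - 1 ≠ 0 := by
    rw [sub_ne_zero]
    exact_mod_cast hq1.ne'
  have hD0 : (D : ℂ) ≠ 0 := Nat.cast_ne_zero.2 (by omega)
  have z1 : (s₂ : ℂ) = q * σ + (q - 1) * X := by
    rw [hZ1]; push_cast [Nat.cast_sub hq1.le]; ring
  have z2 : (S : ℂ) = q * s₂ + (q - 1) * (q ^ 2 * X) := by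
    rw [hZ2]; push_cast [Nat.cast_sub hq1.le]; ring
  have z3 : (N : ℂ) = q * S + (q - 1) * (q ^ 4 * X) := by
    rw [hZ3]; push_cast [Nat.cast_sub hq1.le]; ring
  have hmain : (D : ℂ) * (((q : ℂ) ^ 3 * X + 1) * (q - 1) - q * r) * ((q : ℂ) ^ 2 - 1) = (q - 1) * (N - 1) * (S - 1) := by
    have e1 : q * β = q * (c + (q * s₂ - 1)) - S - q * (q - 1) * (q * σ) + q := by
      rw [h2]
      push_cast
      field_simp
    have e2 : ((N : ℂ) - 1) * c * (c + (q * s₂ - 1)) =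
        D * (γ * (N - 1) + (β - γ) * ((q : ℂ) ^ 2 * s₂ - 1) + (c - β) * ((q : ℂ) ^ 2 - 1)) := by
      rw [← h4]
      field_simp
    have e3 : (q : ℂ) * (((N : ℂ) - 1) * c * (c + (q * s₂ - 1))) =
        D * ((q * (c - (s₂ - 1) - r) + (s₂ - 1)) * (N - 1 - ((q : ℂ) ^ 2 * s₂ - 1)) +
          (q * (c + (q * s₂ - 1)) - S - q * (q - 1) * (q * σ) + q) * ((q : ℂ) ^ 2 * s₂ - 1 - ((q : ℂ) ^ 2 - 1)) +
            q * c * ((q : ℂ) ^ 2 - 1)) := by
      rw [e2, ← h3', ← e1]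
      ring
    have hc : c = D - (S - 1) := by rw [h1]; ring
    rw [hc] at e3
    have e4 : ((q : ℂ) ^ 3 * X) * (((D : ℂ) * (((q : ℂ) ^ 3 * X + 1) * (q - 1) - q * r) * ((q : ℂ) ^ 2 - 1)) -
        (q - 1) * (N - 1) * (S - 1)) = 0 := by
      rw [z3, z2, z1] at e3 ⊢
      linear_combination (-1) * e3
    have e5 : ((q : ℂ) ^ 3 * X) ≠ 0 := mul_ne_zero (pow_ne_zero 3 hq0) hX0
    exact sub_eq_zero.1 ((mul_eq_zero.1 e4).resolve_left e5)
  exact_mod_cast hmain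


end Cfsg.Agent.Lib.OmLowerB
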