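import Cfsg.Agent.Lib.H70Regular
import Cfsg.Agent.Lib.MaxClassNormal
import Cfsg.Agent.Lib.NormalRankTwoIn
import Cfsg.Agent.Lib.FrattiniP
import Cfsg.Agent.Lib.GroupUtil
import Cfsg.Prelude.Def_OddOrderLocal

/-!
# `|Ω₁(R)| ≤ p²` passes to quotients and implies metacyclic, `p > 3` (helper2)
-/

set_option autoImplicit false

open Subgroup
open scoped commutatorElement

namespace Cfsg.Agent.Lib.OmegaMeta

open Cfsg

universe u

/-- the elements of order dividing `p` in a group of class `< p` form a subgroup -/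
theorem exists_omega {S : Type*} [Group S] [Finite S] {p : ℕ} [hp : Fact p.Prime] (hS : IsPGroup p S)
    (hreg : H70Regular.RegAt p 1 S) : ∃ W : Subgroup S, ∀ x, x ∈ W ↔ x ^ p = 1 := by
  refine ⟨{ carrier := {x | x ^ p = 1}
            mul_mem' := ?_
            one_mem' := one_pow _
            inv_mem' := ?_ }, fun x => Iff.rfl⟩
  · intro a b ha hb
    have := H70Regular.mul_pow_eq_one hS hreg _ ⊤ rfl a (mem_top _) b (mem_top _)
      (by rw [pow_one]; exact ha) (by rw [pow_one]; exact hb)
    rw [pow_one] at this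
    exact this
  · intro a ha
    show (a⁻¹) ^ p = 1
    rw [inv_pow]
    have ha' : a ^ p = 1 := ha
    rw [ha', inv_one]

theorem lcs_of_card {S : Type*} [Group S] [Finite S] {p : ℕ} [hp : Fact p.Prime] {r : ℕ} (hr : 2 ≤ r)
    (hS : Nat.card S = p ^ r) (hrp : r ≤ p) : (⊤ : Subgroup S).lowerCentralSeries (p - 1) = ⊥ := by
  rw [eq_bot_iff, ← MaxClassNormal.lcs_eq_bot hr hS]
  exact Subgroup.lowerCentralSeries_antitone _ (by omega)

/-- the index of `Ω₁` is the number of `p`-th powers -/
theorem card_omega_ge {S : Type*} [Group S] [Finite S] {p : ℕ} [hp : Fact p.Prime] (hS : IsPGroup p S)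
    (hreg : H70Regular.RegAt p 1 S) (T : Subgroup S) (hT : ∀ x : S, x ^ p ∈ T) (W : Subgroup S)
    (hW : ∀ x, x ∈ W ↔ x ^ p = 1) : Nat.card S ≤ Nat.card W * Nat.card T := by
  rw [← W.card_mul_index]
  apply Nat.mul_le_mul_left
  rw [index_eq_card]
  let f : S ⧸ W → T := fun q => ⟨q.out⁻¹ ^ p, hT _⟩
  apply Nat.card_le_card_of_injective f
  intro a b hab
  have h1 : (a.out⁻¹) ^ p = (b.out⁻¹) ^ p := congrArg Subtype.val hab
  have h2 := (H70Regular.pow_eq_iff hS hreg a.out⁻¹ b.out⁻¹).mp (by simpa using h1)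
  rw [pow_one, ← hW, inv_inv] at h2
  rw [← QuotientGroup.out_eq' a, ← QuotientGroup.out_eq' b, QuotientGroup.eq]
  exact h2

/-- `p` odd, `|Ω₁(G)| > p²` gives a subgroup of order `p³` and exponent `p` -/
theorem exists_cube {G : Type*} [Group G] [Finite G] {p : ℕ} [hp : Fact p.Prime] (hp3 : 3 ≤ p) (hG : IsPGroup p G)
    (hO : p ^ 2 < Nat.card ↥(omegaOne p (⊤ : Subgroup G))) :
    ∃ S : Subgroup G, Nat.card S = p ^ 3 ∧ ∀ x ∈ S, x ^ p = 1 := by
  have hnc : ¬ IsCyclic G := by
    intro hc
    letI : CommGroup G := IsCyclic.commGroup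
    let W : Subgroup G :=
      { carrier := {x | x ^ p = 1}
        mul_mem' := by intro a b ha hb; show (a * b) ^ p = 1; rw [mul_pow, ha, hb, one_mul]
        one_mem' := one_pow _
        inv_mem' := by intro a ha; show (a⁻¹) ^ p = 1; rw [inv_pow, ha, inv_one] }
    have h1 : omegaOne p (⊤ : Subgroup G) ≤ W := by
      rw [omegaOne, closure_le]
      rintro x ⟨-, hx⟩
      exact hx
    have h2 : Nat.card W ≤ p := by
      classical
      haveI : Fintype G := Fintype.ofFinite G
      have h3 := IsCyclic.card_pow_eq_one_le (α := G) hp.out.pos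
      have h4 : Nat.card W = (Finset.univ.filter fun x : G => x ^ p = 1).card := by
        show Nat.card {x : G // x ^ p = 1} = _
        rw [Nat.card_eq_fintype_card, Fintype.card_subtype]
      omega
    have h3 := card_le_of_le h1
    have h4 : p ≤ p ^ 2 := by nlinarith
    omega
  obtain ⟨A, -, hAn, hA, hAc⟩ := NormalRankTwoIn.exists_normal_in (by omega : p ≠ 2) hG (⊤ : Subgroup G) (by
    intro h
    apply hnc
    exact isCyclic_of_surjective (Subgroup.topEquiv (G := G)) (Subgroup.topEquiv (G := G)).surjective)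
  obtain ⟨x, hxp, hxA⟩ : ∃ x : G, x ^ p = 1 ∧ x ∉ A := by
    by_contra hcon
    push Not at hcon
    have h1 : omegaOne p (⊤ : Subgroup G) ≤ A := by
      rw [omegaOne, closure_le]
      rintro x ⟨-, hx⟩
      exact hcon x hx
    have := card_le_of_le h1
    omega
  have hcard : Nat.card ↥(A ⊔ zpowers x) = p ^ 3 := by
    rw [PGroupOdd.card_sup_zpowers hAn hxA (by rw [hxp]; exact one_mem _), hAc]
    ring
  refine ⟨A ⊔ zpowers x, hcard, ?_⟩
  set S := A ⊔ zpowers x with hS
  have hSp : IsPGroup p S := hG.to_subgroup _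
  obtain ⟨W, hW⟩ := exists_omega hSp (H70Regular.regAt_of_class (lcs_of_card (by norm_num) hcard hp3))
  have h1 : A ⊔ zpowers x ≤ W.map S.subtype := by
    rw [sup_le_iff, zpowers_le]
    constructor
    · intro a ha
      refine ⟨⟨a, le_sup_left (a := A) ha⟩, ?_, rfl⟩
      rw [SetLike.mem_coe, hW]
      exact Subtype.ext (hA.2 a ha)
    · refine ⟨⟨x, le_sup_right (a := A) (mem_zpowers x)⟩, ?_, rfl⟩
      rw [SetLike.mem_coe, hW]
      exact Subtype.ext hxp
  intro y hy
  obtain ⟨w, hw, rfl⟩ := h1 hy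
  exact congrArg Subtype.val ((hW w).mp hw)

theorem omega_quotient_of_card_prime {R : Type*} [Group R] [Finite R] {p : ℕ} [hp : Fact p.Prime] (hp3 : 3 < p)
    (hR : IsPGroup p R) (hO : Nat.card ↥(omegaOne p (⊤ : Subgroup R)) ≤ p ^ 2) (T : Subgroup R) [T.Normal]
    (hT : Nat.card T = p) : Nat.card ↥(omegaOne p (⊤ : Subgroup (R ⧸ T))) ≤ p ^ 2 := by
  by_contra hcon
  push Not at hcon
  obtain ⟨S₀, hS₀, hS₀p⟩ := exists_cube hp3.le (hR.to_quotient T) hcon
  set S := S₀.comap (QuotientGroup.mk' T) with hS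
  have hTS : T ≤ S := by
    intro t ht
    rw [hS, mem_comap, PGroupOdd.mk'_eq_one_iff.mpr ht]
    exact one_mem _
  have hSc : Nat.card S = p ^ 4 := by
    have h1 : T.relIndex S = p ^ 3 := by
      rw [← hS₀]
      have h2 : S.map (QuotientGroup.mk' T) = S₀ :=
        map_comap_eq_self_of_surjective (QuotientGroup.mk'_surjective T) _
      rw [← h2, ← relIndex_ker, QuotientGroup.ker_mk']
    rw [← GroupUtil.card_mul_relIndex hTS, h1, hT]; ring
  have hSp : IsPGroup p S := hR.to_subgroup _
  have hreg := H70Regular.regAt_of_class (G := S) (lcs_of_card (by norm_num) hSc (by omega))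
  obtain ⟨W, hW⟩ := exists_omega hSp hreg
  have h1 := card_omega_ge hSp hreg (T.subgroupOf S) (by
    intro x
    rw [mem_subgroupOf, ← PGroupOdd.mk'_eq_one_iff, coe_pow, map_pow]
    exact hS₀p _ x.2) W hW
  have h2 : Nat.card (T.subgroupOf S) = p := by
    rw [← hT]; exact Nat.card_congr (subgroupOfEquivOfLe hTS).toEquiv
  have h3 : W.map S.subtype ≤ omegaOne p (⊤ : Subgroup R) := by
    rintro _ ⟨w, hw, rfl⟩
    apply Subgroup.subset_closure
    exact ⟨mem_top _, congrArg Subtype.val ((hW w).mp hw)⟩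
  have h4 := card_le_of_le h3
  rw [Subgroup.card_map_of_injective S.subtype_injective] at h4
  rw [hSc, h2] at h1
  have h5 : p ^ 4 ≤ p ^ 2 * p := h1.trans (Nat.mul_le_mul_right p (h4.trans hO))
  have h6 : p ^ 2 * p = p ^ 3 := by ring
  rw [h6] at h5
  exact absurd h5 (not_le.mpr (Nat.pow_lt_pow_right hp.out.one_lt (by norm_num)))

theorem omega_congr {G H : Type*} [Group G] [Group H] {p : ℕ} (e : G ≃* H) :
    Nat.card ↥(omegaOne p (⊤ : Subgroup G)) = Nat.card ↥(omegaOne p (⊤ : Subgroup H)) := by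
  have h1 : (omegaOne p (⊤ : Subgroup G)).map e.toMonoidHom = omegaOne p (⊤ : Subgroup H) := by
    rw [omegaOne, omegaOne, MonoidHom.map_closure]
    congr 1
    ext y
    constructor
    · rintro ⟨x, ⟨-, hx⟩, rfl⟩
      refine ⟨mem_top _, ?_⟩
      show (e x) ^ p = 1
      rw [← map_pow, hx, map_one]
    · rintro ⟨-, hy⟩
      refine ⟨e.symm y, ⟨mem_top _, ?_⟩, e.apply_symm_apply y⟩
      rw [← map_pow, hy, map_one]
  rw [← h1]
  exact (Subgroup.card_map_of_injective e.injective).symm

/-- **S0637** -/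
theorem omega_quotient {p : ℕ} [hp : Fact p.Prime] (hp3 : 3 < p) : ∀ (n : ℕ) (R : Type u) [Group R] [Finite R],
    Nat.card R ≤ n → IsPGroup p R → Nat.card ↥(omegaOne p (⊤ : Subgroup R)) ≤ p ^ 2 → ∀ (T : Subgroup R) [T.Normal],
    Nat.card ↥(omegaOne p (⊤ : Subgroup (R ⧸ T))) ≤ p ^ 2 := by
  intro n
  induction n with
  | zero =>
    intro R _ _ hn
    exact absurd hn (by have := Nat.card_pos (α := R); omega)
  | succ n ih =>
    intro R _ _ hn hR hO T _
    by_cases hT : T = ⊥
    · subst hT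
      rw [← omega_congr (QuotientGroup.quotientBot (G := R)).symm]
      exact hO
    · obtain ⟨t, htT, htc, hto⟩ := PGroupOdd.exists_central_mem hR (inferInstance : T.Normal) hT
      haveI hZn : (zpowers t).Normal := by
        constructor
        rintro _ ⟨i, rfl⟩ g
        have h1 : g * t ^ i * g⁻¹ = t ^ i := by
          have : Commute g t := mem_center_iff.mp htc g
          rw [(this.zpow_right i).eq]; group
        simp only
        rw [h1]
        exact zpow_mem (mem_zpowers t) i
      have h1 := omega_quotient_of_card_prime hp3 hR hO (zpowers t) (by rw [Nat.card_zpowers, hto])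
      have hle : zpowers t ≤ T := by rw [zpowers_le]; exact htT
      haveI : (T.map (QuotientGroup.mk' (zpowers t))).Normal :=
        (inferInstance : T.Normal).map _ (QuotientGroup.mk'_surjective _)
      have hlt : Nat.card (R ⧸ zpowers t) ≤ n := by
        have h2 := Subgroup.card_eq_card_quotient_mul_card_subgroup (zpowers t)
        rw [Nat.card_zpowers, hto] at h2
        have h3 : 0 < Nat.card (R ⧸ zpowers t) := Nat.card_pos
        have h4 := hp.out.two_le
        nlinarith
      have h2 := ih (R ⧸ zpowers t) hlt (hR.to_quotient _) h1 (T.map (QuotientGroup.mk' (zpowers t)))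
      rw [omega_congr (QuotientGroup.quotientQuotientEquivQuotient (zpowers t) T hle)] at h2
      exact h2

end Cfsg.Agent.Lib.OmegaMeta
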