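import Cfsg.Agent.Lib.OmegaMeta

/-!
# Huppert: `|Ω₁(R)| ≤ p²`, `p > 3`, implies `R` metacyclic (helper2)
-/

set_option autoImplicit false

open Subgroup
open scoped commutatorElement

namespace Cfsg.Agent.Lib.OmegaMeta

open Cfsg

universe u

theorem isCyclic_quotient {R : Type*} [Group R] {w v : R} (hwv : closure ({w, v} : Set R) = ⊤)
    [hn : (zpowers w).Normal] : IsCyclic (R ⧸ zpowers w) := by
  refine ⟨(v : R ⧸ zpowers w), fun x => ?_⟩
  obtain ⟨x, rfl⟩ := QuotientGroup.mk_surjective x
  have h1 : closure ({w, v} : Set R) ≤ (zpowers (v : R ⧸ zpowers w)).comap (QuotientGroup.mk' (zpowers w)) := by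
    rw [closure_le]
    rintro y (rfl | hy)
    · rw [SetLike.mem_coe, mem_comap, PGroupOdd.mk'_eq_one_iff.mpr (mem_zpowers y)]
      exact one_mem _
    · rw [Set.mem_singleton_iff] at hy
      rw [hy, SetLike.mem_coe, mem_comap]
      exact mem_zpowers _
  rw [hwv] at h1
  exact h1 (mem_top x)

theorem exists_pair {R : Type*} [Group R] [Finite R] {p : ℕ} [hp : Fact p.Prime] (hR : IsPGroup p R)
    (hidx : (frattini R).index ≤ p ^ 2) : ∃ a b : R, closure ({a, b} : Set R) = ⊤ := by
  classical
  obtain ⟨n, hn⟩ := hR.index (frattini R)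
  obtain ⟨T, -, hT, hTc⟩ := (FrattiniP.burnside_basis (H70Frattini.commutator_le_frattini hR)
    (H70Frattini.pow_mem_frattini hR) hn).1 Set.univ (by simp)
  have hn2 : n ≤ 2 := by
    rw [hn] at hidx
    exact (Nat.pow_le_pow_iff_right hp.out.one_lt).mp hidx
  interval_cases n
  · rw [Finset.card_eq_zero] at hT
    rw [hT, Finset.coe_empty, Subgroup.closure_empty] at hTc
    refine ⟨1, 1, ?_⟩
    rw [eq_top_iff, ← hTc]
    exact bot_le
  · obtain ⟨a, rfl⟩ := Finset.card_eq_one.mp hT
    refine ⟨a, a, ?_⟩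
    simpa using hTc
  · obtain ⟨a, b, -, rfl⟩ := Finset.card_eq_two.mp hT
    exact ⟨a, b, by simpa using hTc⟩

theorem comm_of_index_le {R : Type*} [Group R] [Finite R] {p : ℕ} [hp : Fact p.Prime] (hR : IsPGroup p R)
    (hidx : (frattini R).index < p ^ 2) (x y : R) : x * y = y * x := by
  classical
  obtain ⟨n, hn⟩ := hR.index (frattini R)
  obtain ⟨T, -, hT, hTc⟩ := (FrattiniP.burnside_basis (H70Frattini.commutator_le_frattini hR)
    (H70Frattini.pow_mem_frattini hR) hn).1 Set.univ (by simp)
  have hn2 : n < 2 := by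
    rw [hn] at hidx
    exact (Nat.pow_lt_pow_iff_right hp.out.one_lt).mp hidx
  have hcyc : ∃ a : R, closure ({a} : Set R) = ⊤ := by
    interval_cases n
    · rw [Finset.card_eq_zero] at hT
      rw [hT, Finset.coe_empty, Subgroup.closure_empty] at hTc
      refine ⟨1, ?_⟩
      rw [eq_top_iff, ← hTc]
      exact bot_le
    · obtain ⟨a, rfl⟩ := Finset.card_eq_one.mp hT
      exact ⟨a, by simpa using hTc⟩
  obtain ⟨a, ha⟩ := hcyc
  rw [← zpowers_eq_closure] at ha
  have hx : x ∈ zpowers a := by rw [ha]; exact mem_top x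
  have hy : y ∈ zpowers a := by rw [ha]; exact mem_top y
  obtain ⟨i, rfl⟩ := hx
  obtain ⟨j, rfl⟩ := hy
  exact ((Commute.refl a).zpow_zpow i j).eq

theorem metacyclic_of_comm {R : Type*} [Group R] [Finite R] {a b : R} (hab : closure ({a, b} : Set R) = ⊤)
    (hc : ∀ x y : R, x * y = y * x) : IsMetacyclic R := by
  haveI hn : (zpowers a).Normal := by
    constructor
    intro n hn g
    rw [hc g n, mul_inv_cancel_right]; exact hn
  exact ⟨zpowers a, hn, inferInstance, isCyclic_quotient hab⟩

/-- the central case -/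
theorem metacyclic_of_central {R : Type*} [Group R] [Finite R] {p : ℕ} [hp : Fact p.Prime] (hp3 : 3 ≤ p)
    (hR : IsPGroup p R) (hO : Nat.card ↥(omegaOne p (⊤ : Subgroup R)) ≤ p ^ 2)
    (hnc : ∃ x y : R, x * y ≠ y * x) (t : R) (ht : orderOf t = p) (htc : t ∈ center R)
    (hD : commutator R ≤ zpowers t) (htD : t ∈ commutator R) : IsMetacyclic R := by
  classical
  have htp : t ^ p = 1 := by rw [← ht]; exact pow_orderOf_eq_one t
  have hDc : ∀ d ∈ commutator R, d ^ p = 1 ∧ ∀ g : R, Commute d g := by
    intro d hd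
    obtain ⟨i, rfl⟩ := hD hd
    simp only
    constructor
    · rw [← zpow_natCast, ← zpow_mul, mul_comm, zpow_mul, zpow_natCast, htp, one_zpow]
    · intro g
      have h1 : Commute g t := mem_center_iff.mp htc g
      exact h1.symm.zpow_left i
  have hchoose : p ∣ p.choose 2 := hp.out.dvd_choose_self (by norm_num) (by omega)
  have hpow : ∀ x y : R, (x * y) ^ p = x ^ p * y ^ p := by
    intro x y
    have hcm : ⁅y⁻¹, x⁻¹⁆ ∈ commutator R := commutator_mem_commutator (mem_top _) (mem_top _)
    obtain ⟨h1, h2⟩ := hDc _ hcm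
    have h3 := PGroupOdd.mul_pow_of_comm (x := x) (y := y) (c := ⁅y⁻¹, x⁻¹⁆)
      (by rw [commutatorElement_def]; group) (h2 x) (h2 y) p
    obtain ⟨k, hk⟩ := hchoose
    rw [h3, hk, pow_mul, h1, one_pow, mul_one]
  let g : R →* R := { toFun := fun x => x ^ p, map_one' := one_pow _, map_mul' := hpow }
  have hker : Nat.card g.ker ≤ p ^ 2 := by
    refine (card_le_of_le ?_).trans hO
    intro x hx
    exact Subgroup.subset_closure ⟨mem_top x, hx⟩
  have hUidx : g.range.index ≤ p ^ 2 := by
    have h1 := g.range.card_mul_index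
    have h2 := g.ker.card_mul_index
    rw [index_ker] at h2
    have h3 : 0 < Nat.card g.range := Nat.card_pos
    have h4 : g.range.index = Nat.card g.ker := by
      apply Nat.eq_of_mul_eq_mul_left h3
      rw [h1, ← h2, mul_comm]
    rw [h4]; exact hker
  have hFidx : p ^ 2 ≤ (frattini R).index := by
    by_contra h
    push Not at h
    obtain ⟨x, y, hxy⟩ := hnc
    exact hxy (comm_of_index_le hR h x y)
  have hUF : g.range ≤ frattini R := by
    rintro _ ⟨x, rfl⟩
    exact H70Frattini.pow_mem_frattini hR x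
  have hUFeq : g.range = frattini R := by
    apply eq_of_le_of_card_ge hUF
    have h1 := g.range.card_mul_index
    have h2 := (frattini R).card_mul_index
    rw [← h1] at h2
    by_contra h3
    push Not at h3
    have h4 : 0 < p ^ 2 := by positivity
    have h5 : Nat.card g.range * g.range.index ≤ Nat.card g.range * p ^ 2 := Nat.mul_le_mul_left _ hUidx
    have h6 : Nat.card (frattini R) * p ^ 2 ≤ Nat.card (frattini R) * (frattini R).index :=
      Nat.mul_le_mul_left _ hFidx
    nlinarith
  have hFidx2 : (frattini R).index ≤ p ^ 2 := by rw [← hUFeq]; exact hUidx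
  -- choose `w` of maximal order with `t ∈ ⟨w⟩`
  obtain ⟨w, hw, hmax⟩ := Set.Finite.exists_maximalFor (fun x : R => orderOf x)
    {x : R | t ∈ zpowers x} (Set.toFinite _) ⟨t, mem_zpowers t⟩
  have hwF : w ∉ frattini R := by
    intro hwF
    rw [← hUFeq] at hwF
    obtain ⟨v, hv⟩ := hwF
    have hv' : v ^ p = w := hv
    have h1 : t ∈ zpowers v := by
      have h2 : zpowers w ≤ zpowers v := by rw [zpowers_le, ← hv']; exact pow_mem (mem_zpowers v) p
      exact h2 hw
    have h2 : orderOf w ≤ orderOf v := by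
      rw [← hv']; exact Nat.le_of_dvd (orderOf_pos v) (orderOf_pow_dvd p)
    have h3 : orderOf v ≤ orderOf w := hmax (j := v) h1 h2
    have h4 : p ∣ orderOf v := by
      obtain ⟨k, hk⟩ := IsPGroup.iff_orderOf.mp hR v
      rw [hk]
      refine dvd_pow_self p ?_
      rintro rfl
      rw [pow_zero, orderOf_eq_one_iff] at hk
      rw [hk, zpowers_one_eq_bot, mem_bot] at h1
      rw [h1, orderOf_one] at ht
      exact hp.out.one_lt.ne ht
    have h5 : orderOf w = orderOf v / p := by
      rw [← hv', orderOf_pow, Nat.gcd_eq_right h4]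
    have h6 : orderOf v / p < orderOf v := Nat.div_lt_self (orderOf_pos v) hp.out.one_lt
    omega
  haveI hwn : (zpowers w).Normal := by
    have h1 : commutator R ≤ zpowers w := hD.trans (by rw [zpowers_le]; exact hw)
    constructor
    intro n hn x
    have h2 : x * n * x⁻¹ = ⁅x, n⁆ * n := by rw [commutatorElement_def]; group
    rw [h2]
    exact mul_mem (h1 (commutator_mem_commutator (mem_top _) (mem_top _))) hn
  refine ⟨zpowers w, hwn, inferInstance, ?_⟩
  -- find `v`
  set M := zpowers w ⊔ frattini R with hM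
  have hFM : frattini R < M := by
    refine lt_of_le_of_ne le_sup_right ?_
    intro h
    apply hwF
    rw [h]
    exact mem_sup_left (mem_zpowers w)
  have hMidx : M.index < p ^ 2 := by
    have h1 := relIndex_mul_index hFM.le
    have h2 : (frattini R).relIndex M ≠ 1 := by
      rw [Ne, relIndex_eq_one]; exact fun h => hFM.not_ge h
    have h3 : (frattini R).index ≠ 0 := index_ne_zero_of_finite
    have h4 : (frattini R).relIndex M ≠ 0 := by intro h; rw [h, zero_mul] at h1; exact h3 h1.symm
    have h5 : 0 < M.index := Nat.pos_of_ne_zero index_ne_zero_of_finite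
    have h6 : 2 ≤ (frattini R).relIndex M := by omega
    nlinarith
  obtain ⟨k, hk⟩ := hR.index M
  rw [hk] at hMidx
  have hk2 : k < 2 := (Nat.pow_lt_pow_iff_right hp.out.one_lt).mp hMidx
  have hMtop : M ≠ ⊤ := by
    intro h
    have h1 := frattini_nongenerating h
    obtain ⟨x, y, hxy⟩ := hnc
    apply hxy
    have hx : x ∈ zpowers w := by rw [h1]; exact mem_top x
    have hy : y ∈ zpowers w := by rw [h1]; exact mem_top y
    obtain ⟨i, rfl⟩ := hx
    obtain ⟨j, rfl⟩ := hy
    exact ((Commute.refl w).zpow_zpow i j).eq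
  have hk1 : k = 1 := by
    interval_cases k
    · rw [pow_zero, index_eq_one] at hk; exact absurd hk hMtop
    · rfl
  rw [hk1, pow_one] at hk
  obtain ⟨v, hv⟩ : ∃ v, v ∉ M := by
    by_contra h
    push Not at h
    exact hMtop (eq_top_iff.mpr fun x _ => h x)
  have hcl : closure ({w, v} : Set R) = ⊤ := by
    apply frattini_nongenerating
    have h1 : M < closure ({w, v} : Set R) ⊔ frattini R := by
      refine lt_of_le_of_ne ?_ ?_
      · rw [hM, sup_le_iff, zpowers_le]
        exact ⟨mem_sup_left (Subgroup.subset_closure (by simp)), le_sup_right⟩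
      · intro h
        apply hv
        rw [h]
        exact mem_sup_left (Subgroup.subset_closure (by simp))
    exact (FrattiniP.isCoatom_of_index_prime hp.out hk).2 _ h1
  exact isCyclic_quotient hcl

/-- **S0639** (Huppert) -/
theorem metacyclic {p : ℕ} [hp : Fact p.Prime] (hp3 : 3 < p) : ∀ (n : ℕ) (R : Type u) [Group R] [Finite R],
    Nat.card R ≤ n → IsPGroup p R → Nat.card ↥(omegaOne p (⊤ : Subgroup R)) ≤ p ^ 2 → IsMetacyclic R := by
  intro n
  induction n with
  | zero =>
    intro R _ _ hn
    exact absurd hn (by have := Nat.card_pos (α := R); omega)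
  | succ n ih =>
    intro R _ _ hn hR hO
    classical
    have hFidx : (frattini R).index ≤ p ^ 2 := by
      have h1 := omega_quotient hp3 _ R le_rfl hR hO (frattini R)
      have h2 : omegaOne p (⊤ : Subgroup (R ⧸ frattini R)) = ⊤ := by
        rw [eq_top_iff]
        intro x _
        obtain ⟨x, rfl⟩ := QuotientGroup.mk_surjective x
        apply Subgroup.subset_closure
        refine ⟨mem_top _, ?_⟩
        rw [← QuotientGroup.mk_pow, QuotientGroup.eq_one_iff]
        exact H70Frattini.pow_mem_frattini hR x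
      rw [h2, Subgroup.card_top] at h1
      rw [index_eq_card]; exact h1
    by_cases hcomm : ∀ x y : R, x * y = y * x
    · obtain ⟨a, b, hab⟩ := exists_pair hR hFidx
      exact metacyclic_of_comm hab hcomm
    push Not at hcomm
    have hDne : commutator R ≠ ⊥ := by
      intro h
      obtain ⟨x, y, hxy⟩ := hcomm
      apply hxy
      have h1 : ⁅x, y⁆ ∈ commutator R := commutator_mem_commutator (mem_top _) (mem_top _)
      rw [h, mem_bot, commutatorElement_eq_one_iff_mul_comm] at h1
      exact h1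
    obtain ⟨t, htD, htc, hto⟩ := PGroupOdd.exists_central_mem hR (inferInstance : (commutator R).Normal) hDne
    have htcomm : ∀ g, Commute t g := fun g => (mem_center_iff.mp htc g : Commute g t).symm
    have htp : t ^ p = 1 := by rw [← hto]; exact pow_orderOf_eq_one t
    haveI hZn : (zpowers t).Normal := by
      constructor
      rintro _ ⟨i, rfl⟩ g
      have h1 : g * t ^ i * g⁻¹ = t ^ i := by rw [← ((htcomm g).zpow_left i).eq]; group
      simp only
      rw [h1]
      exact zpow_mem (mem_zpowers t) i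
    have hlt : Nat.card (R ⧸ zpowers t) ≤ n := by
      have h2 := Subgroup.card_eq_card_quotient_mul_card_subgroup (zpowers t)
      rw [Nat.card_zpowers, hto] at h2
      have h3 : 0 < Nat.card (R ⧸ zpowers t) := Nat.card_pos
      have h4 := hp.out.two_le
      nlinarith
    obtain ⟨N, hNn, hNc, hQc⟩ := ih (R ⧸ zpowers t) hlt (hR.to_quotient _)
      (omega_quotient hp3 _ R le_rfl hR hO (zpowers t))
    obtain ⟨⟨s', hs'N⟩, hs'⟩ := hNc.exists_generator
    obtain ⟨s, rfl⟩ := QuotientGroup.mk_surjective s'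
    obtain ⟨y'', hy''⟩ := hQc.exists_generator
    obtain ⟨y', rfl⟩ := QuotientGroup.mk_surjective y''
    obtain ⟨y, rfl⟩ := QuotientGroup.mk_surjective y'
    set S := N.comap (QuotientGroup.mk' (zpowers t)) with hS
    haveI hSn : S.Normal := hNn.comap _
    have hsS : s ∈ S := hs'N
    have hSrep : ∀ x ∈ S, ∃ i j : ℤ, x = s ^ i * t ^ j := by
      intro x hx
      obtain ⟨i, hi⟩ := hs' ⟨(x : R ⧸ zpowers t), hx⟩
      have hi' : (s : R ⧸ zpowers t) ^ i = x := congrArg Subtype.val hi
      rw [← QuotientGroup.mk_zpow, QuotientGroup.eq] at hi'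
      obtain ⟨j, hj⟩ := hi'
      simp only at hj
      exact ⟨i, j, by rw [hj]; group⟩
    have hRrep : ∀ x : R, ∃ k : ℤ, ∃ w ∈ S, x = y ^ k * w := by
      intro x
      obtain ⟨k, hk⟩ := hy'' ((x : R ⧸ zpowers t) : (R ⧸ zpowers t) ⧸ N)
      simp only at hk
      rw [← QuotientGroup.mk_zpow, ← QuotientGroup.mk_zpow, QuotientGroup.eq] at hk
      exact ⟨k, (y ^ k)⁻¹ * x, hk, by group⟩
    have hScomm : ∀ a ∈ S, ∀ b ∈ S, Commute a b := by
      intro a ha b hb
      obtain ⟨i, j, rfl⟩ := hSrep a ha
      obtain ⟨k, l, rfl⟩ := hSrep b hb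
      refine Commute.mul_left (Commute.mul_right ?_ ?_) (Commute.mul_right ?_ ?_)
      · exact (Commute.refl s).zpow_zpow i k
      · exact ((htcomm s).symm).zpow_zpow i l
      · exact (htcomm s).zpow_zpow j k
      · exact (htcomm t).zpow_zpow j l
    -- `R = ⟨s, y⟩`
    have hsy : closure ({s, y} : Set R) = ⊤ := by
      apply frattini_nongenerating
      rw [eq_top_iff]
      intro x _
      have hs1 : s ∈ closure ({s, y} : Set R) ⊔ frattini R := mem_sup_left (Subgroup.subset_closure (by simp))
      have hy1 : y ∈ closure ({s, y} : Set R) ⊔ frattini R := mem_sup_left (Subgroup.subset_closure (by simp))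
      have ht1 : t ∈ closure ({s, y} : Set R) ⊔ frattini R :=
        mem_sup_right (H70Frattini.commutator_le_frattini hR htD)
      obtain ⟨k, w, hw, rfl⟩ := hRrep x
      obtain ⟨i, j, rfl⟩ := hSrep w hw
      exact mul_mem (zpow_mem hy1 k) (mul_mem (zpow_mem hs1 i) (zpow_mem ht1 j))
    set c := ⁅s, y⁆ with hc
    have hyS : ∀ x ∈ S, y * x * y⁻¹ ∈ S := fun x hx => hSn.conj_mem x hx y
    have hcS : c ∈ S := by
      have : c = s * (y * s⁻¹ * y⁻¹) := by rw [hc, commutatorElement_def]; group
      rw [this]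
      exact mul_mem hsS (hyS _ (inv_mem hsS))
    -- `[x, y] ∈ ⟨c⟩` for `x ∈ S`
    have hxy : ∀ x ∈ S, ⁅x, y⁆ ∈ zpowers c := by
      intro x hx
      obtain ⟨i, j, rfl⟩ := hSrep x hx
      refine ⟨i, ?_⟩
      have h1 : c = s * (y * s * y⁻¹)⁻¹ := by rw [hc, commutatorElement_def]; group
      have h2 : Commute s (y * s * y⁻¹)⁻¹ := (hScomm _ hsS _ (hyS _ hsS)).inv_right
      simp only
      rw [h1, h2.mul_zpow, inv_zpow, conj_zpow, commutatorElement_def]
      have h3 : y * (s ^ i * t ^ j)⁻¹ * y⁻¹ = y * (s ^ i)⁻¹ * y⁻¹ * (t ^ j)⁻¹ := by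
        rw [mul_inv_rev]
        have h4 : Commute (t ^ j)⁻¹ (y * (s ^ i)⁻¹ * y⁻¹) := ((htcomm _).zpow_left j).inv_left
        have h5 : Commute (t ^ j)⁻¹ y := ((htcomm _).zpow_left j).inv_left
        calc y * ((t ^ j)⁻¹ * (s ^ i)⁻¹) * y⁻¹ = (y * (t ^ j)⁻¹) * (s ^ i)⁻¹ * y⁻¹ := by group
          _ = (t ^ j)⁻¹ * (y * (s ^ i)⁻¹ * y⁻¹) := by rw [← h5.eq]; group
          _ = _ := by rw [h4.eq]
      have h4 : s ^ i * t ^ j * y * (s ^ i * t ^ j)⁻¹ * y⁻¹ = s ^ i * t ^ j * (y * (s ^ i * t ^ j)⁻¹ * y⁻¹) := by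
        group
      rw [h4, h3]
      have h5 : Commute (t ^ j) (y * (s ^ i)⁻¹ * y⁻¹) := (htcomm _).zpow_left j
      calc s ^ i * (y * s ^ i * y⁻¹)⁻¹ = s ^ i * (y * (s ^ i)⁻¹ * y⁻¹) := by group
        _ = s ^ i * ((y * (s ^ i)⁻¹ * y⁻¹) * t ^ j) * (t ^ j)⁻¹ := by group
        _ = s ^ i * (t ^ j * (y * (s ^ i)⁻¹ * y⁻¹)) * (t ^ j)⁻¹ := by rw [h5.eq]
        _ = _ := by group
    haveI hcn : (zpowers c).Normal := by
      have h1 : y ∈ normalizer (zpowers c : Set R) := by
        apply GroupUtil.mem_normalizer_of_conj_le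
        rintro _ ⟨i, rfl⟩
        simp only
        rw [← conj_zpow]
        apply zpow_mem
        have h2 := hxy c⁻¹ (inv_mem hcS)
        have h3 : y * c * y⁻¹ = c * ⁅c⁻¹, y⁆ := by rw [commutatorElement_def]; group
        rw [h3]
        exact mul_mem (mem_zpowers c) h2
      have h2 : S ≤ normalizer (zpowers c : Set R) := by
        intro x hx
        apply GroupUtil.mem_normalizer_of_conj_le
        rintro _ ⟨i, rfl⟩
        simp only
        have h3 : x * c ^ i * x⁻¹ = c ^ i := by
          rw [((hScomm x hx c hcS).zpow_right i).eq]; group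
        rw [h3]
        exact zpow_mem (mem_zpowers c) i
      rw [← normalizer_eq_top_iff, eq_top_iff]
      intro x _
      obtain ⟨k, w, hw, rfl⟩ := hRrep x
      exact mul_mem (zpow_mem h1 k) (h2 hw)
    have hDc : commutator R ≤ zpowers c := H70Regular.commutator_le_of_gen hsy (zpowers c) (mem_zpowers c)
    by_cases hts : t ∈ zpowers s
    · -- `S = ⟨s⟩`
      have hSs : S = zpowers s := by
        apply le_antisymm
        · intro x hx
          obtain ⟨i, j, rfl⟩ := hSrep x hx
          exact mul_mem (zpow_mem (mem_zpowers s) i) (zpow_mem hts j)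
        · rw [zpowers_le]; exact hsS
      haveI : (zpowers s).Normal := hSs ▸ hSn
      exact ⟨zpowers s, inferInstance, inferInstance, isCyclic_quotient hsy⟩
    · -- `c ^ p = 1`
      have hcp : c ^ p = 1 := by
        by_contra hcp
        apply hts
        have hcps : zpowers (c ^ p) ≤ zpowers s := by
          rw [zpowers_le]
          obtain ⟨i, j, hij⟩ := hSrep c hcS
          rw [hij, ((htcomm s).symm.zpow_zpow i j).mul_pow]
          have : (t ^ j) ^ p = 1 := by
            rw [← zpow_natCast, ← zpow_mul, mul_comm, zpow_mul, zpow_natCast, htp, one_zpow]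
          rw [this, mul_one]
          exact pow_mem (zpow_mem (mem_zpowers s) i) p
        apply hcps
        obtain ⟨m, hm⟩ := mem_powers_iff_mem_zpowers.mpr (hDc htD)
        simp only at hm
        obtain ⟨k, hk⟩ := IsPGroup.iff_orderOf.mp hR c
        have hk2 : 2 ≤ k := by
          by_contra h
          push Not at h
          apply hcp
          rw [← orderOf_dvd_iff_pow_eq_one, hk]
          calc p ^ k ∣ p ^ 1 := pow_dvd_pow p (by omega)
            _ = p := pow_one p
        obtain ⟨l, rfl⟩ : ∃ l, k = l + 2 := ⟨k - 2, by omega⟩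
        have h1 : p ^ (l + 2) ∣ m * p := by
          rw [← hk, orderOf_dvd_iff_pow_eq_one, pow_mul, hm, htp]
        have h2 : p ∣ m := by
          rw [show l + 2 = l + 1 + 1 by ring, pow_succ] at h1
          have h3 := Nat.dvd_of_mul_dvd_mul_right hp.out.pos h1
          exact (dvd_pow_self p (by omega)).trans h3
        obtain ⟨r, rfl⟩ := h2
        rw [← hm, pow_mul]
        exact pow_mem (mem_zpowers _) r
      have hc1 : c ≠ 1 := by
        intro h
        have := hDc htD
        rw [h, zpowers_one_eq_bot, mem_bot] at this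
        rw [this, orderOf_one] at hto
        exact hp.out.one_lt.ne hto
      have hco : orderOf c = p := orderOf_eq_prime hcp hc1
      have hct : zpowers t = zpowers c := by
        apply eq_of_le_of_card_ge
        · rw [zpowers_le]; exact hDc htD
        · rw [Nat.card_zpowers, Nat.card_zpowers, hto, hco]
      exact metacyclic_of_central hp3.le hR hO hcomm t hto htc (hDc.trans hct.ge) htD

end Cfsg.Agent.Lib.OmegaMeta
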