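import Cfsg.Agent.Lib.HallConverse
import Mathlib.GroupTheory.Perm.Cycle.Type

set_option autoImplicit false

/-!
# Orbits of coprime sizes in an abelian group with operators (helper79)
-/

namespace Cfsg.Agent.Lib.OrbitKey

open MulAction

variable {G V : Type*} [Group G] [Finite G] [CommGroup V] [MulDistribMulAction G V]

/-- If the orbit of `ν` has size `> 1`, coprime to the sizes of the orbits of `μ` and of `ν μ`,
then the prime `r` divides the size of the orbit of `μ` (`ν` an element of `r`-power order). -/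
theorem orbit_key {r : ℕ} (hr : r.Prime) (ν μ : V) {k : ℕ} (hν : ν ^ r ^ k = 1)
    (h12 : (stabilizer G ν).index.Coprime (stabilizer G μ).index)
    (h13 : (stabilizer G (ν * μ)).index.Coprime (stabilizer G ν).index)
    (hne : (stabilizer G ν).index ≠ 1) : r ∣ (stabilizer G μ).index := by
  classical
  obtain ⟨g, hg⟩ : ∃ g : G, g • ν ≠ ν := by
    by_contra hcon
    push Not at hcon
    apply hne
    rw [Subgroup.index_eq_one, eq_top_iff]
    intro g _
    exact hcon g
  set δ : V := ν * (g • ν)⁻¹ with hδ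
  have hδ1 : δ ≠ 1 := by
    intro h
    rw [hδ, mul_inv_eq_one] at h
    exact hg h.symm
  have hδr : δ ^ r ^ k = 1 := by
    rw [hδ, mul_pow, inv_pow, ← smul_pow', hν, smul_one, inv_one, mul_one]
  have hB : ∀ μ' ∈ orbit G μ, μ' * δ ∈ orbit G μ := by
    intro μ' hμ'
    obtain ⟨y, rfl⟩ := hμ'
    -- `y • μ = x • μ` with `x` stabilizing `ν`
    obtain ⟨x, hx, t, ht, hxt⟩ := HallConverse.exists_mul_of_coprime_index h12 y
    have hyx : y • μ = x • μ := by
      rw [← hxt, mul_smul, mem_stabilizer_iff.mp ht]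
    obtain ⟨h, hh, s, hs, hhs⟩ := HallConverse.exists_mul_of_coprime_index h13 (x⁻¹ * g)
    have h1 : h • ν = (x⁻¹ * g) • ν := by
      rw [← hhs, mul_smul, mem_stabilizer_iff.mp hs]
    have h2 : (h • ν) * (h • μ) = ν * μ := by
      rw [← smul_mul']; exact mem_stabilizer_iff.mp hh
    have h3 : x • (h • ν) = g • ν := by rw [h1, smul_smul, mul_inv_cancel_left]
    have h4 : x • ν = ν := mem_stabilizer_iff.mp hx
    have h5 : (g • ν) * (x • (h • μ)) = ν * (x • μ) := by
      rw [← h3, ← smul_mul', h2, smul_mul', h4]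
    refine ⟨x * h, ?_⟩
    show (x * h) • μ = y • μ * δ
    rw [hyx, mul_smul, hδ]
    have h6 : x • (h • μ) = (g • ν)⁻¹ * (ν * (x • μ)) := by rw [← h5, inv_mul_cancel_left]
    rw [h6]
    generalize (g • ν)⁻¹ = A
    generalize x • μ = B
    rw [mul_left_comm, ← mul_assoc, mul_comm (ν * A) B]
  have hfin : Finite (orbit G μ) := Finite.of_surjective (fun g : G => (⟨g • μ, g, rfl⟩ : orbit G μ))
    (by rintro ⟨_, g, rfl⟩; exact ⟨g, rfl⟩)
  have := Fintype.ofFinite (orbit G μ)
  let f : Function.End (orbit G μ) := fun b => ⟨b * δ, hB b b.2⟩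
  have hfn : ∀ (n : ℕ) (b : orbit G μ), (((f ^ n) b : orbit G μ) : V) = b * δ ^ n := by
    intro n
    induction n with
    | zero =>
      intro b
      show ((b : orbit G μ) : V) = b * δ ^ 0
      rw [pow_zero, mul_one]
    | succ n ih =>
      intro b
      rw [pow_succ']
      change ((f ((f ^ n) b) : orbit G μ) : V) = _
      change (((f ^ n) b : orbit G μ) : V) * δ = _
      rw [ih, pow_succ, mul_assoc]
  have hf : f ^ r ^ k = 1 := by
    funext b
    apply Subtype.ext
    rw [hfn, hδr, mul_one]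
    rfl
  have hp : Fact r.Prime := ⟨hr⟩
  have h1 := Equiv.Perm.card_fixedPoints_modEq (p := r) (n := k) hf
  have h2 : Fintype.card f.fixedPoints = 0 := by
    rw [Fintype.card_eq_zero_iff]
    refine ⟨fun ⟨b, hb⟩ => ?_⟩
    have h3 : (b : V) * δ = b := congrArg Subtype.val hb
    exact hδ1 (mul_eq_left.mp h3)
  rw [h2] at h1
  have h3 : r ∣ Fintype.card (orbit G μ) := (Nat.modEq_zero_iff_dvd).mp h1
  rw [index_stabilizer, ← Nat.card_coe_set_eq, Nat.card_eq_fintype_card]
  exact h3

end Cfsg.Agent.Lib.OrbitKey
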