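import Mathlib
import Cfsg.Agent.Lib.OrdDisc

set_option autoImplicit false

/-! Groups of order dividing 7920: coprime action of elements of order 11 (helper42). -/

namespace Cfsg.Agent.Lib.OrdDisc

open scoped Pointwise

theorem card_fixed_modEq {G : Type*} [Group G] [Finite G] {p : ℕ} [Fact p.Prime] (P L : Subgroup G)
    (hP : IsPGroup p P) (hnorm : ∀ r ∈ P, ∀ x ∈ L, r * x * r⁻¹ ∈ L) :
    Nat.card L ≡ Nat.card (L ⊓ Subgroup.centralizer (P : Set G) : Subgroup G) [MOD p] := by
  classical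
  let act : MulAction P L :=
    { smul := fun r x => ⟨r.1 * x.1 * r.1⁻¹, hnorm r.1 r.2 x.1 x.2⟩
      one_smul := fun x => Subtype.ext (by
        show (1 : G) * x.1 * (1 : G)⁻¹ = x.1
        simp)
      mul_smul := fun r s x => Subtype.ext (by
        show (r.1 * s.1) * x.1 * (r.1 * s.1)⁻¹ = r.1 * (s.1 * x.1 * s.1⁻¹) * r.1⁻¹
        group) }
  have h1 := hP.card_modEq_card_fixedPoints L
  have h2 : Nat.card (MulAction.fixedPoints P L) =
      Nat.card (L ⊓ Subgroup.centralizer (P : Set G) : Subgroup G) := by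
    refine Nat.card_congr ⟨fun x => ⟨x.1.1, x.1.2, Subgroup.mem_centralizer_iff.mpr ?_⟩, fun x => ⟨⟨x.1, x.2.1⟩, ?_⟩, fun x => rfl, fun x => rfl⟩
    · intro r hr
      have h3 : r * x.1.1 * r⁻¹ = x.1.1 := congrArg Subtype.val (x.2 ⟨r, hr⟩)
      rw [mul_inv_eq_iff_eq_mul] at h3
      exact h3
    · intro r
      apply Subtype.ext
      show r.1 * x.1 * r.1⁻¹ = x.1
      rw [mul_inv_eq_iff_eq_mul]
      exact (Subgroup.mem_centralizer_iff.mp x.2.2) r.1 r.2
  rw [h2] at h1
  exact h1

theorem pp_cases {q j : ℕ} (hq : q.Prime) (h : q ^ j ∣ 7920) (h11 : ¬ 11 ∣ q ^ j) :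
    q ^ j ∣ 16 ∨ q ^ j ∣ 9 ∨ q ^ j ∣ 5 := by
  rcases Nat.eq_zero_or_pos j with rfl | hj
  · left; simp
  have h1 : q ∣ 7920 := (dvd_pow_self q hj.ne').trans h
  have h2 : q ∣ 2 ^ 4 * 3 ^ 2 * 5 * 11 := by norm_num; exact h1
  rw [hq.dvd_mul, hq.dvd_mul, hq.dvd_mul] at h2
  rcases h2 with ((h2 | h2) | h2) | h2
  · have h3 : q = 2 := (Nat.prime_dvd_prime_iff_eq hq Nat.prime_two).mp (hq.dvd_of_dvd_pow h2)
    subst h3
    left
    have h4 : Nat.Coprime (2 ^ j) 495 := Nat.Coprime.pow_left j (by norm_num)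
    exact h4.dvd_of_dvd_mul_right (by norm_num; exact h)
  · have h3 : q = 3 := (Nat.prime_dvd_prime_iff_eq hq Nat.prime_three).mp (hq.dvd_of_dvd_pow h2)
    subst h3
    right; left
    have h4 : Nat.Coprime (3 ^ j) 880 := Nat.Coprime.pow_left j (by norm_num)
    exact h4.dvd_of_dvd_mul_right (by norm_num; exact h)
  · have h3 : q = 5 := (Nat.prime_dvd_prime_iff_eq hq Nat.prime_five).mp h2
    subst h3
    right; right
    have h4 : Nat.Coprime (5 ^ j) 1584 := Nat.Coprime.pow_left j (by norm_num)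
    exact h4.dvd_of_dvd_mul_right (by norm_num; exact h)
  · have h3 : q = 11 := (Nat.prime_dvd_prime_iff_eq hq (by norm_num)).mp h2
    subst h3
    exact absurd (dvd_pow_self 11 hj.ne') h11

theorem eq_of_modEq {a b : ℕ} (hb : b ∣ 16 ∨ b ∣ 9 ∨ b ∣ 5) (hab : a ∣ b) (h : b ≡ a [MOD 11]) : a = b := by
  have hb16 : b ≤ 16 := by
    rcases hb with h | h | h
    · exact Nat.le_of_dvd (by norm_num) h
    · exact (Nat.le_of_dvd (by norm_num) h).trans (by norm_num)
    · exact (Nat.le_of_dvd (by norm_num) h).trans (by norm_num)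
  have ha : a ≤ b := Nat.le_of_dvd (Nat.pos_of_ne_zero (by rintro rfl; revert hb; decide)) hab
  unfold Nat.ModEq at h
  interval_cases b <;> interval_cases a <;> first | rfl | (revert hb hab h; decide)

variable {H : Type*} [Group H] [Finite H]

theorem sylow_card (hH : Nat.card H ∣ 7920) (h11 : 11 ∣ Nat.card H) [Fact (Nat.Prime 11)] (P : Sylow 11 H) :
    Nat.card (P : Subgroup H) = 11 := by
  have h1 : 11 ∣ Nat.card (P : Subgroup H) := P.dvd_card_of_dvd_card h11
  obtain ⟨k, hk⟩ := IsPGroup.iff_card.mp P.isPGroup'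
  have h2 : Nat.card (P : Subgroup H) ∣ 7920 := (Subgroup.card_subgroup_dvd_card _).trans hH
  rw [hk] at h1 h2 ⊢
  have h3 : k < 2 := by
    by_contra hcon
    push Not at hcon
    have : 11 ^ 2 ∣ 7920 := (pow_dvd_pow 11 hcon).trans h2
    revert this; decide
  interval_cases k
  · norm_num at h1
  · norm_num

/-- An element of order `11` centralizes every normal subgroup of order prime to `11`. -/
theorem centralizes (hH : Nat.card H ∣ 7920) (L : Subgroup H) [L.Normal] (hL : ¬ 11 ∣ Nat.card L)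
    (P : Subgroup H) (hP : Nat.card P = 11) : L ≤ Subgroup.centralizer (P : Set H) := by
  classical
  have hf11 : Fact (Nat.Prime 11) := ⟨by norm_num⟩
  have h11H : 11 ∣ Nat.card H := hP ▸ Subgroup.card_subgroup_dvd_card P
  have hPp : IsPGroup 11 P := IsPGroup.of_card (n := 1) (by rw [hP, pow_one])
  have hdvd : Nat.card L ∣ Nat.card (L ⊓ Subgroup.centralizer (P : Set H) : Subgroup H) := by
    rw [Nat.dvd_iff_prime_pow_dvd_dvd]
    intro q k hq hqk
    have hfq : Fact q.Prime := ⟨hq⟩
    let Q : Sylow q L := default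
    have h1 : q ^ k ∣ Nat.card (Q : Subgroup L) := Q.pow_dvd_card_of_pow_dvd_card hqk
    set Q' : Subgroup H := (Q : Subgroup L).map L.subtype with hQ'
    have hQ'card : Nat.card Q' = Nat.card (Q : Subgroup L) :=
      Subgroup.card_map_of_injective (Subgroup.subtype_injective L)
    have hfrat : Subgroup.normalizer (Q' : Set H) ⊔ L = ⊤ := Sylow.normalizer_sup_eq_top Q
    -- `11` divides the order of the normalizer
    have h2 : 11 ∣ Nat.card (Subgroup.normalizer (Q' : Set H)) := by
      have h3 := Subgroup.relIndex_sup_right (Subgroup.normalizer (Q' : Set H)) L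
      rw [hfrat, Subgroup.relIndex_top_right] at h3
      have h4 : 11 ∣ L.index := by
        rw [← Subgroup.card_mul_index L] at h11H
        exact ((Nat.Prime.dvd_mul (by norm_num)).mp h11H).resolve_left hL
      rw [h3] at h4
      exact h4.trans (Subgroup.relIndex_dvd_card _ _)
    obtain ⟨y, hy⟩ := exists_prime_orderOf_dvd_card' 11 h2
    set R : Subgroup H := Subgroup.zpowers (y : H) with hR
    have hRcard : Nat.card R = 11 := by rw [hR, Nat.card_zpowers, Subgroup.orderOf_coe, hy]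
    have hRp : IsPGroup 11 R := IsPGroup.of_card (n := 1) (by rw [hRcard, pow_one])
    obtain ⟨S, hS⟩ := hRp.exists_le_sylow
    obtain ⟨S', hS'⟩ := hPp.exists_le_sylow
    have hSR : R = (S : Subgroup H) := Subgroup.eq_of_le_of_card_ge hS (by rw [hRcard, sylow_card hH h11H])
    have hSP : P = (S' : Subgroup H) := Subgroup.eq_of_le_of_card_ge hS' (by rw [hP, sylow_card hH h11H])
    obtain ⟨h, hh⟩ := MulAction.exists_smul_eq H S S'
    have hconj : P = MulAut.conj h • R := by
      rw [hSR, hSP, ← hh]; rfl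
    set Q'' : Subgroup H := MulAut.conj h • Q' with hQ''
    have hQ''card : Nat.card Q'' = Nat.card Q' := by
      rw [hQ'']
      exact Nat.card_congr (Subgroup.equivSMul (MulAut.conj h) Q').symm.toEquiv
    have hQ''L : Q'' ≤ L := by
      intro x hx
      obtain ⟨z, hz, rfl⟩ := hx
      obtain ⟨w, _, rfl⟩ := hz
      exact Subgroup.Normal.conj_mem inferInstance _ w.2 h
    have hnorm : ∀ r ∈ P, ∀ x ∈ Q'', r * x * r⁻¹ ∈ Q'' := by
      intro r hr x hx
      rw [hconj] at hr
      obtain ⟨r', hr', rfl⟩ := hr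
      obtain ⟨x', hx', rfl⟩ := hx
      have hr'N : r' ∈ Subgroup.normalizer (Q' : Set H) := by
        have : R ≤ Subgroup.normalizer (Q' : Set H) := by
          rw [hR, Subgroup.zpowers_le]; exact y.2
        exact this hr'
      refine ⟨r' * x' * r'⁻¹, (Subgroup.mem_normalizer_iff.mp hr'N x').mp hx', ?_⟩
      simp
    have hmod := card_fixed_modEq P Q'' hPp hnorm
    have hpp : Nat.card Q'' ∣ 16 ∨ Nat.card Q'' ∣ 9 ∨ Nat.card Q'' ∣ 5 := by
      obtain ⟨j, hj⟩ := IsPGroup.iff_card.mp Q.isPGroup'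
      rw [hQ''card, hQ'card, hj]
      apply pp_cases hq
      · rw [← hj]
        exact ((Subgroup.card_subgroup_dvd_card _).trans (Subgroup.card_subgroup_dvd_card L)).trans hH
      · intro hcon
        rw [← hj] at hcon
        exact hL (hcon.trans (Subgroup.card_subgroup_dvd_card _))
    have heq := eq_of_modEq hpp (Subgroup.card_dvd_of_le inf_le_left) hmod
    rw [← hQ'card, ← hQ''card, ← heq] at h1
    exact h1.trans (Subgroup.card_dvd_of_le (inf_le_inf_right _ hQ''L))
  have h5 : L ⊓ Subgroup.centralizer (P : Set H) = L := by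
    apply Subgroup.eq_of_le_of_card_ge inf_le_left
    exact Nat.le_of_dvd Nat.card_pos hdvd
  rw [← h5]
  exact inf_le_right

end Cfsg.Agent.Lib.OrdDisc
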