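import Mathlib
import Cfsg.Agent.Lib.MobKlein

set_option autoImplicit false

/-! There is no faithful transitive action of degree 45 of a group of order 7920 with the properties
of a conjugation action on Sylow 11-subgroups (helper42). -/

namespace Cfsg.Agent.Lib.OrdDisc

open scoped Pointwise

theorem card_dvd_of_free {K T : Type*} [Group K] [Finite K] [Finite T] [MulAction K T]
    (h : ∀ (k : K) (t : T), k • t = t → k = 1) : Nat.card K ∣ Nat.card T := by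
  classical
  have := Fintype.ofFinite K
  have := Fintype.ofFinite T
  have h1 := MulAction.sum_card_fixedBy_eq_card_orbits_mul_card_group K T
  have h2 : ∀ r : K, Fintype.card (MulAction.fixedBy T r) = if r = 1 then Fintype.card T else 0 := by
    intro r
    split_ifs with hr
    · subst hr
      exact Fintype.card_congr ⟨fun x => x.1, fun x => ⟨x, one_smul _ _⟩, fun x => rfl, fun x => rfl⟩
    · rw [Fintype.card_eq_zero_iff]
      constructor
      rintro ⟨x, hx⟩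
      exact hr (h r x hx)
  rw [Finset.sum_congr rfl fun r _ => h2 r, Finset.sum_ite_eq' Finset.univ (1 : K) (fun _ => Fintype.card T)] at h1
  rw [if_pos (Finset.mem_univ _)] at h1
  rw [Nat.card_eq_fintype_card, Nat.card_eq_fintype_card, h1]
  exact Dvd.intro_left _ rfl

theorem card_dvd_of_free_set {G Ω : Type*} [Group G] [Finite G] [Finite Ω] [MulAction G Ω]
    (P : Subgroup G) (T : Set Ω) (hT : ∀ g ∈ P, ∀ t ∈ T, g • t ∈ T)
    (hfree : ∀ g ∈ P, ∀ t ∈ T, g • t = t → g = 1) : Nat.card P ∣ Nat.card T := by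
  let act : MulAction P T :=
    { smul := fun g t => ⟨g.1 • t.1, hT g.1 g.2 t.1 t.2⟩
      one_smul := fun t => Subtype.ext (one_smul G t.1)
      mul_smul := fun g h t => Subtype.ext (mul_smul g.1 h.1 t.1) }
  apply card_dvd_of_free (K := P) (T := T)
  intro k t hkt
  apply Subtype.ext
  exact hfree k.1 k.2 t.1 t.2 (congrArg Subtype.val hkt)

section

variable {G Ω : Type*} [Group G] [Finite G] [Finite Ω] [MulAction G Ω]

/-- The involution with `23` fixed points. -/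
theorem exists_involution (hΩ : Nat.card Ω = 45) (α : Ω) (P C : Subgroup G) (hP : Nat.card P = 11)
    (hPα : ∀ g ∈ P, g • α = α)
    (hfix : ∀ β, β ≠ α → ∀ g ∈ P, g • β = β → g = 1) (hC8 : 8 ∣ Nat.card C) (hCα : ∀ g ∈ C, g • α = α)
    (hcomm : ∀ c ∈ C, ∀ y ∈ P, c * y = y * c) (hfaith : ∀ g : G, (∀ β : Ω, g • β = β) → g = 1) :
    ∃ s ∈ C, s ^ 2 = 1 ∧ s ≠ 1 ∧ Nat.card {γ : Ω // s • γ = γ} = 23 ∧
      Nat.card {γ : Ω // γ ≠ α ∧ s • γ = γ} = 22 ∧ Nat.card {γ : Ω // γ ≠ α ∧ s • γ ≠ γ} = 22 := by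
  classical
  have hf2 : Fact (Nat.Prime 2) := ⟨by norm_num⟩
  have hf11 : Fact (Nat.Prime 11) := ⟨by norm_num⟩
  obtain ⟨K, hK⟩ := Sylow.exists_subgroup_card_pow_prime (G := C) 2 (n := 3) hC8
  set K' : Subgroup G := K.map C.subtype with hK'
  have hK'c : Nat.card K' = 8 := by
    rw [hK', Subgroup.card_map_of_injective (Subgroup.subtype_injective C), hK]; norm_num
  have hK'C : K' ≤ C := Subgroup.map_subtype_le _
  have hT44 : Nat.card {γ : Ω // γ ≠ α} = 44 := by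
    have h1 := Nat.card_congr (Equiv.sumCompl (fun γ : Ω => γ = α)).symm
    rw [Nat.card_sum, hΩ] at h1
    have h2 : Nat.card {γ : Ω // γ = α} = 1 := by
      rw [Nat.card_eq_one_iff_unique]
      exact ⟨⟨fun a b => Subtype.ext (a.2.trans b.2.symm)⟩, ⟨⟨α, rfl⟩⟩⟩
    rw [h2] at h1
    have h3 : 45 = 1 + Nat.card {γ : Ω // γ ≠ α} := h1
    omega
  have hne : ∀ g : G, g • α = α → ∀ γ : Ω, γ ≠ α → g • γ ≠ α := by
    intro g hg γ hγ h
    rw [← hg] at h
    exact hγ (smul_left_cancel g h)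
  -- some nontrivial element of K' fixes a point different from α
  obtain ⟨k, hk, β, hβ, hkβ, hk1⟩ : ∃ k ∈ K', ∃ β : Ω, β ≠ α ∧ k • β = β ∧ k ≠ 1 := by
    by_contra hcon
    push Not at hcon
    have h1 := card_dvd_of_free_set K' {γ : Ω | γ ≠ α} (fun g hg t ht => hne g (hCα g (hK'C hg)) t ht)
      (fun g hg t ht h => hcon g hg t ht h)
    rw [hK'c] at h1
    have h2 : Nat.card ({γ : Ω | γ ≠ α} : Set Ω) = 44 := hT44
    rw [h2] at h1
    revert h1; decide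
  -- an involution
  obtain ⟨j, hj⟩ : ∃ j, orderOf k = 2 ^ (j + 1) := by
    have h1 : orderOf k ∣ 2 ^ 3 := by
      have := Subgroup.orderOf_dvd_natCard K' hk
      rwa [hK'c] at this
    obtain ⟨j, _, hj⟩ := (Nat.dvd_prime_pow Nat.prime_two).mp h1
    cases j with
    | zero => rw [pow_zero, orderOf_eq_one_iff] at hj; exact absurd hj hk1
    | succ j => exact ⟨j, hj⟩
  set s := k ^ (2 ^ j) with hs
  have hs2 : s ^ 2 = 1 := by
    rw [hs, ← pow_mul, ← pow_succ, ← hj, pow_orderOf_eq_one]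
  have hs1 : s ≠ 1 := by
    intro h
    have := orderOf_dvd_of_pow_eq_one h
    rw [hj, Nat.pow_dvd_pow_iff_le_right (by norm_num)] at this
    omega
  have hsK : s ∈ K' := K'.pow_mem hk _
  have hsC : s ∈ C := hK'C hsK
  have hsβ : s • β = β := by
    rw [hs]
    exact (MulAction.stabilizer G β).pow_mem (show k ∈ MulAction.stabilizer G β from hkβ) _
  have hsα : s • α = α := hCα s hsC
  -- count
  have c1 : 11 ∣ Nat.card {γ : Ω // γ ≠ α ∧ s • γ = γ} := by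
    have := card_dvd_of_free_set P {γ : Ω | γ ≠ α ∧ s • γ = γ} (by
      rintro g hg t ⟨ht1, ht2⟩
      refine ⟨hne g (hPα g hg) t ht1, ?_⟩
      rw [← mul_smul, hcomm s hsC g hg, mul_smul, ht2]) (fun g hg t ht h => hfix t ht.1 g hg h)
    rwa [hP] at this
  have c2 : 2 ∣ Nat.card {γ : Ω // γ ≠ α ∧ s • γ ≠ γ} := by
    have := card_dvd_of_free_set (Subgroup.zpowers s) {γ : Ω | γ ≠ α ∧ s • γ ≠ γ} (by
      rintro g hg t ⟨ht1, ht2⟩
      have hgC : g ∈ C := (Subgroup.zpowers_le.mpr hsC) hg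
      refine ⟨hne g (hCα g hgC) t ht1, ?_⟩
      intro h
      obtain ⟨i, rfl⟩ := Subgroup.mem_zpowers_iff.mp hg
      rw [← mul_smul, ← zpow_one_add, add_comm, zpow_add_one, mul_smul] at h
      exact ht2 (smul_left_cancel _ h)) (by
      rintro g hg t ⟨ht1, ht2⟩ h
      obtain ⟨i, rfl⟩ := Subgroup.mem_zpowers_iff.mp hg
      rcases Int.even_or_odd i with ⟨j, rfl⟩ | ⟨j, rfl⟩
      · rw [← two_mul, zpow_mul]
        have : s ^ (2 : ℤ) = 1 := by exact_mod_cast hs2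
        rw [this, one_zpow]
      · exfalso
        apply ht2
        rw [zpow_add_one, zpow_mul] at h
        have : s ^ (2 : ℤ) = 1 := by exact_mod_cast hs2
        rwa [this, one_zpow, one_mul] at h)
    have ho : orderOf s = 2 := orderOf_eq_prime hs2 hs1
    rwa [Nat.card_zpowers, ho] at this
  have c3 : Nat.card {γ : Ω // γ ≠ α ∧ s • γ = γ} + Nat.card {γ : Ω // γ ≠ α ∧ s • γ ≠ γ} = 44 := by
    rw [← hT44, ← Nat.card_sum]
    refine Nat.card_congr ?_
    refine ((Equiv.sumCompl (fun γ : {γ : Ω // γ ≠ α} => s • γ.1 = γ.1)).symm.trans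
      (Equiv.sumCongr ?_ ?_)).symm
    · exact ⟨fun x => ⟨x.1.1, x.1.2, x.2⟩, fun x => ⟨⟨x.1, x.2.1⟩, x.2.2⟩, fun x => rfl, fun x => rfl⟩
    · exact ⟨fun x => ⟨x.1.1, x.1.2, x.2⟩, fun x => ⟨⟨x.1, x.2.1⟩, x.2.2⟩, fun x => rfl, fun x => rfl⟩
  have c4 : Nat.card {γ : Ω // γ ≠ α ∧ s • γ = γ} ≠ 0 := by
    have : Nonempty {γ : Ω // γ ≠ α ∧ s • γ = γ} := ⟨⟨β, hβ, hsβ⟩⟩
    exact Nat.card_pos.ne'
  have c5 : Nat.card {γ : Ω // γ ≠ α ∧ s • γ ≠ γ} ≠ 0 := by
    obtain ⟨γ, hγ⟩ : ∃ γ : Ω, s • γ ≠ γ := by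
      by_contra hcon
      push Not at hcon
      exact hs1 (hfaith s hcon)
    have : Nonempty {γ : Ω // γ ≠ α ∧ s • γ ≠ γ} := ⟨⟨γ, by rintro rfl; exact hγ hsα, hγ⟩⟩
    exact Nat.card_pos.ne'
  have c6 : Nat.card {γ : Ω // s • γ = γ} = Nat.card {γ : Ω // γ ≠ α ∧ s • γ = γ} + 1 := by
    have h1 := Nat.card_congr (Equiv.sumCompl (fun γ : {γ : Ω // s • γ = γ} => γ.1 = α)).symm
    rw [Nat.card_sum] at h1
    have h2 : Nat.card {γ : {γ : Ω // s • γ = γ} // γ.1 = α} = 1 := by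
      rw [Nat.card_eq_one_iff_unique]
      exact ⟨⟨fun a b => Subtype.ext (Subtype.ext (a.2.trans b.2.symm))⟩, ⟨⟨⟨α, hsα⟩, rfl⟩⟩⟩
    have h3 : Nat.card {γ : {γ : Ω // s • γ = γ} // ¬ γ.1 = α} = Nat.card {γ : Ω // γ ≠ α ∧ s • γ = γ} :=
      Nat.card_congr ⟨fun x => ⟨x.1.1, x.2, x.1.2⟩, fun x => ⟨⟨x.1, x.2.2⟩, x.2.1⟩, fun x => rfl, fun x => rfl⟩
    omega
  have c7 : Nat.card {γ : Ω // γ ≠ α ∧ s • γ = γ} = 22 := by omega
  exact ⟨s, hsC, hs2, hs1, by omega, c7, by omega⟩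

end

end Cfsg.Agent.Lib.OrdDisc
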