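import Mathlib
import Cfsg.Agent.Lib.OrthNdBridge

set_option autoImplicit false
set_option linter.unusedSectionVars false

/-!
Maximality of stabilisers of points in `Om Q`.
-/

namespace Cfsg.Agent.Lib.OrthPoint

open Cfsg Cfsg.Geo Cfsg.Agent.Lib.GeoBridge QuadraticMap Module Cfsg.Agent.Lib.Quad
open Cfsg.Agent.Lib.OrthMax Cfsg.Agent.Lib.OrthNd Cfsg.Agent.Lib.OrthBridge
open scoped MatrixGroups Matrix

variable {F V : Type*} [Field F] [AddCommGroup V] [Module F V] [FiniteDimensional F V]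
  {Q : QuadraticForm F V} {M : Subgroup (V ≃ₗ[F] V)}

theorem exists_sing_avoid [Finite F] (D P : Submodule F V) (h : finrank F P + 3 ≤ finrank F D) :
    ∃ z ∈ D, z ∉ P ∧ Q z = 0 := by
  obtain ⟨C, hC⟩ := Submodule.exists_isCompl P
  have h1 := Submodule.finrank_add_eq_of_isCompl hC
  have h2 := Submodule.finrank_sup_add_finrank_inf_eq D C
  have h3 := Submodule.finrank_le (D ⊔ C)
  obtain ⟨z, hz, hz0, hQz⟩ := exists_sing_in (Q := Q) (D ⊓ C) (by omega)
  refine ⟨z, hz.1, fun hzP => ?_, hQz⟩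
  have : z ∈ P ⊓ C := ⟨hzP, hz.2⟩
  rw [hC.inf_eq_bot, Submodule.mem_bot] at this
  exact hz0 this

theorem point_max [Finite F] (hQ : Nd Q) (hgen : GenHyp Q) (hn : 7 ≤ finrank F V)
    (hM : M ≤ O Q) {v : V} (hv : v ≠ 0)
    (hH : ∀ g ∈ Om Q, g v = v → g ∈ M) (hex : ∃ g ∈ M, g v ∉ F ∙ v) : Om Q ≤ M := by
  have hS : ∀ z y, Q z = 0 → polar Q z y = 0 → polar Q z v = 0 → polar Q y v = 0 → SI Q M z y := by
    intro z y hQz hzy hzv hyv
    refine ⟨sieg hQ hQz hzy, hH _ (SI_Om hQ hgen _ _) ?_, fun x => by rw [sieg_apply, siegMap_apply]⟩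
    rw [sieg_apply, hzv, hyv]; simp
  obtain ⟨g, hg, hgv⟩ := hex
  set v' := g v with hv'
  have hv'0 : v' ≠ 0 := by rw [hv']; simpa using hv
  have hS' : ∀ z y, Q z = 0 → polar Q z y = 0 → polar Q z v' = 0 → polar Q y v' = 0 → SI Q M z y := by
    intro z y hQz hzy hzv hyv
    obtain ⟨z, rfl⟩ := g.surjective z
    obtain ⟨y, rfl⟩ := g.surjective y
    rw [hM hg] at hQz
    rw [hv', O_polar (hM hg)] at hzv hyv
    rw [O_polar (hM hg)] at hzy
    exact (hS z y hQz hzy hzv hyv).map hg (hM hg)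
  set P := Submodule.span F {v, v'} with hP
  set D := perp Q P with hD
  have hDP : finrank F P + finrank F D = finrank F V := hQ.finrank_add_finrank_perp P
  have hPle : finrank F P ≤ 2 := by
    classical
    have h3 := finrank_span_finset_le_card (R := F) ({v, v'} : Finset V)
    have h4 : ({v, v'} : Finset V).card ≤ 2 := Finset.card_le_two (a := v) (b := v')
    rw [Finset.coe_pair] at h3
    exact h3.trans h4
  have hmemD : ∀ x, x ∈ D ↔ polar Q v x = 0 ∧ polar Q v' x = 0 := by
    intro x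
    rw [hD, hP, mem_perp_span]; simp
  have hfull : ∀ z ∈ D, Q z = 0 → z ∉ P → Full Q M z := by
    intro z hz hQz hzP
    obtain ⟨hvz, hv'z⟩ := (hmemD z).1 hz
    have hvs : v ∉ Submodule.span F {z, v'} := by
      intro hmem
      obtain ⟨a, b, hab⟩ := Submodule.mem_span_pair.1 hmem
      by_cases ha : a = 0
      · rw [ha, zero_smul, zero_add] at hab
        have hb : b ≠ 0 := by rintro rfl; rw [zero_smul] at hab; exact hv hab.symm
        apply hgv
        rw [Submodule.mem_span_singleton]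
        exact ⟨b⁻¹, by rw [← hab, smul_smul, inv_mul_cancel₀ hb, one_smul]⟩
      · apply hzP
        have : z = a⁻¹ • v + (-(a⁻¹ * b)) • v' := by
          have h1 : a • z = v - b • v' := by rw [← hab]; abel
          have h2 : z = a⁻¹ • (v - b • v') := by
            rw [← h1, smul_smul, inv_mul_cancel₀ ha, one_smul]
          rw [h2, smul_sub, smul_smul, neg_smul, sub_eq_add_neg]
        rw [this]
        exact P.add_mem (P.smul_mem _ (Submodule.subset_span (by simp)))
          (P.smul_mem _ (Submodule.subset_span (by simp)))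
    obtain ⟨y₀, hy₀, hvy₀⟩ := hQ.exists_polar_one _ hvs
    rw [mem_perp_span] at hy₀
    have hzy₀ : polar Q z y₀ = 0 := hy₀ z (by simp)
    have hv'y₀ : polar Q v' y₀ = 0 := hy₀ v' (by simp)
    refine ⟨hQz, fun y hy => ?_⟩
    have e : y = (y - polar Q v y • y₀) + polar Q v y • y₀ := by abel
    rw [e]
    have h1 : polar Q z (y - polar Q v y • y₀) = 0 := by
      rw [polar_sub_right, polar_smul_right, hy, hzy₀]; simp
    have h2 : polar Q z (polar Q v y • y₀) = 0 := by rw [polar_smul_right, hzy₀]; simp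
    refine SI.add hQz h1 h2 (hS z _ hQz h1 (by rw [polar_comm]; exact hvz) ?_)
      (hS' z _ hQz h2 (by rw [polar_comm]; exact hv'z) ?_)
    · rw [polar_comm, polar_sub_right, polar_smul_right, hvy₀]; simp
    · rw [polar_comm, polar_smul_right, hv'y₀]; simp
  obtain ⟨z, hzD, hzP, hQz⟩ := exists_sing_avoid (Q := Q) D P (by omega)
  obtain ⟨y, hyD, hzy⟩ : ∃ y ∈ D, polar Q z y ≠ 0 := by
    by_contra hcon
    push Not at hcon
    apply hzP
    rw [← hQ.perp_perp P, mem_perp']
    exact hcon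
  obtain ⟨a, ha⟩ := exists_sing_add hQz (y := y) (by rwa [polar_comm])
  have hzy' : polar Q z (y + a • z) ≠ 0 := by
    rw [polar_add_right, polar_smul_right, polar_self', hQz]; simpa using hzy
  refine Om_le_of_two hQ hgen (by omega) hM (hfull z hzD hQz hzP)
    (hfull _ (D.add_mem hyD (D.smul_mem _ hzD)) ha ?_) hzy'
  intro hmem
  apply hzy'
  rw [polar_comm]
  exact mem_perp.1 hzD _ hmem

end Cfsg.Agent.Lib.OrthPoint
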