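import Cfsg.Agent.Lib.ZJeThm
import Cfsg.Agent.Lib.NilFunctors

/-! `Q ↦ Z(J_e(Q))` as a characteristic functor; normal `p`-complements (S0117) and strong fusion (S0118). -/

set_option autoImplicit false
set_option linter.unusedSectionVars false

namespace Cfsg.Agent.Lib.ZJeFunctor

open Subgroup Cfsg.Agent.Lib.CFSylow Cfsg.Agent.Lib.CFControl Cfsg.Agent.Lib.CFSection Cfsg.Agent.Lib.CFMin
  Cfsg.Agent.Lib.CFRed Cfsg.Agent.Lib.CFStmt Cfsg.Agent.Lib.ClsStab Cfsg.Agent.Lib.NilCtrl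
  Cfsg.Agent.Lib.NilFunctors Cfsg.Agent.Lib.ZJeThm Cfsg.Agent.Lib.PStabInvolve
open Cfsg.Agent.Lib.RelSylow (IsSyl)

universe u v

variable {p : ℕ} [hp : Fact p.Prime]

/-- the functor. -/
def WJ (p : ℕ) (Q : Type u) [Group Q] : Subgroup Q := Zc p (⊤ : Subgroup Q)

theorem WJ_isChar : Cfsg.IsCharPFunctor.{u} p (WJ p) := by
  refine ⟨?_, ?_⟩
  · intro Q _ _ hQ hn h0
    obtain ⟨z, hz1, hzp, hz⟩ := ClosedPS.exists_central_order_p (p := p) hQ
    apply hz1
    rw [← mem_bot, ← h0]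
    have hcen : z ∈ centralizer (ThompsonJ.J (Cfsg.IsElementaryAbelian p) (⊤ : Subgroup Q) : Set Q) :=
      center_le_centralizer _ hz
    refine mem_inf.2 ⟨?_, hcen⟩
    obtain ⟨A, hA⟩ := ThompsonJ.maxElem_nonempty p (⊤ : Subgroup Q)
    exact ThompsonJ.le_J hA (ThompsonJ.mem_of_centralizes_elem hA (mem_top z) hzp (center_le_centralizer _ hz))
  · intro Q R _ _ _ hQ φ
    have : Finite R := Finite.of_equiv Q φ.toEquiv
    unfold WJ
    rw [Zc_map φ.toMonoidHom ⊤ (fun x _ h => φ.injective (by rw [map_one]; exact h)),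
      map_top_of_surjective _ φ.surjective]

theorem induced_WJ {G : Type u} [Group G] [Finite G] (D : Subgroup G) : Cfsg.inducedFunctor (WJ p) D = Zc p D := by
  unfold Cfsg.inducedFunctor WJ
  rw [Zc_map D.subtype ⊤ (fun x _ h => Subtype.ext h), ← MonoidHom.range_eq_map, D.range_subtype]

theorem nil_WJ (hp2 : p ≠ 2) {G : Type u} [Group G] [Finite G] (S : Sylow p G)
    (hN : Cfsg.HasNormalPComplement p ↥(normalizer (Zc p (S : Subgroup G) : Set G))) :
    Cfsg.HasNormalPComplement p G := by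
  have hS := sylIn_sylow S
  refine NilMain.nil_all (fl := True) (W := WJ p) WJ_isChar ?_
    (S : Subgroup G) (S : Subgroup G) hS (ClosedCF.ClosedIn.self _ _) (fun _ => rfl) (by rw [induced_WJ]; exact hN)
  intro X _ _ hX _ hc S D hS hD hDS
  have hDS' := hDS trivial
  subst hDS'
  rw [induced_WJ]
  exact Zc_normal hp2 PStabInvolve.obst_sl2 (cls_not_involves hp2 hX) hc (sylIn_iff.1 hS)

theorem ctrl_WJ (hp2 : p ≠ 2) {X : Type v} [Group X] (hX : Obst.{u} p X) {G : Type u} [Group G] [Finite G]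
    (hG : ¬ Cfsg.Involves X G) : CtrlSF p {WJ p} G := by
  have h𝓦 : ∀ W' ∈ ({WJ p} : Set (∀ (Q : Type u) [Group Q], Subgroup Q)),
      Cfsg.IsCharPFunctor.{u} p W' := by
    intro W' hW'; rw [Set.mem_singleton_iff] at hW'; exact hW' ▸ WJ_isChar
  refine sf_all (G := G) h𝓦 ?_ G (isSec_refl G)
  intro Y _ _ hY hC T hT
  obtain ⟨K, f, hf⟩ := hY
  have hYn : ¬ Cfsg.Involves X Y := fun h =>
    hG (involves_of_injective K.subtype K.subtype_injective (involves_of_surjective f hf h))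
  refine famSF_of_normal rfl ?_
  rw [induced_WJ]
  exact Zc_normal hp2 hX hYn hC (sylIn_iff.1 hT)

theorem controlsStrongFusion_Zc (hp2 : p ≠ 2) {X : Type v} [Group X] (hX : Obst.{u} p X) {G : Type u} [Group G]
    [Finite G] (hG : ¬ Cfsg.Involves X G) (S : Sylow p G) :
    Cfsg.ControlsStrongFusion p (Zc p (S : Subgroup G)) := by
  have := controlsStrongFusion_of_ctrlSF WJ_isChar (ctrl_WJ hp2 hX hG) S
  rwa [induced_WJ] at this

theorem sf_Zc (hp2 : p ≠ 2) {X : Type v} [Group X] (hX : Obst.{u} p X) {G : Type u} [Group G] [Finite G]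
    (hG : ¬ Cfsg.Involves X G) (S : Sylow p G) (A : Set G) (h : G) (hA : A ⊆ (S : Subgroup G))
    (hAh : (fun a => h * a * h⁻¹) '' A ⊆ (S : Subgroup G)) :
    ∃ x ∈ normalizer (Zc p (S : Subgroup G) : Set G), ∀ a ∈ A, x * a * x⁻¹ = h * a * h⁻¹ := by
  have h1 := ctrl_WJ hp2 hX hG _ (sylIn_sylow S)
  rw [ind_singleton, famSF_singleton, induced_WJ] at h1
  obtain ⟨x, hx, hxa⟩ := sf_iff_set.1 h1 A h (mem_top h) hA hAh
  exact ⟨x, hx.2, hxa⟩

end Cfsg.Agent.Lib.ZJeFunctor
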