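import Mathlib
import Cfsg.Prelude.Def_Local
import Cfsg.Agent.Lib.BG09a
import Cfsg.Agent.Lib.PConstraint
import Cfsg.Agent.Lib.PLengthOne
import Cfsg.Agent.Lib.PLength
import Cfsg.Agent.Lib.PSolvTools
import Cfsg.Agent.Lib.PSolvDual
import Cfsg.Agent.Lib.NarrowLen
import Cfsg.Agent.Lib.FusionControl
import Cfsg.Agent.Lib.ZJeFunctor
import Cfsg.Agent.Lib.ClSLn
import Cfsg.Agent.S0118

/-!
Simple groups all of whose `p'`-subgroups are abelian, I: strong fusion, `p`-length one (helper9, S1936).
-/

set_option autoImplicit false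
set_option maxHeartbeats 400000
set_option linter.unusedSectionVars false

namespace Cfsg.Agent.Lib.PAbA

open Subgroup Cfsg
open scoped commutatorElement

universe u

/-- a minimal counterexample. -/
structure Cx (p : ℕ) (G : Type u) [Group G] [Finite G] : Prop where
  simple : IsSimpleGroup G
  nsol : ¬ Group.IsSolvable G
  sol : ∀ H : Subgroup G, H ≠ ⊤ → Group.IsSolvable H
  comm : ∀ H : Subgroup G, (Nat.card H).Coprime p → ∀ a ∈ H, ∀ b ∈ H, a * b = b * a
  exp : ∀ H : Subgroup G, (Nat.card H).Coprime p → ∀ x ∈ H, x ^ (p - 1) = 1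
  five : 5 ≤ p

section TypeLevel

variable {N : Type u} [Group N] [Finite N] {p : ℕ} [hp : Fact p.Prime]

theorem coprime_iff {n : ℕ} : n.Coprime p ↔ ¬ p ∣ n := by
  rw [Nat.coprime_comm, hp.out.coprime_iff_not_dvd]

/-- a Hall `p'`-subgroup contains every normal `p'`-subgroup -/
theorem le_of_hall {A K : Subgroup N} [K.Normal] (hA : ¬ p ∣ Nat.card A) (hK : ¬ p ∣ Nat.card K) {k : ℕ}
    (hidx : A.index ∣ p ^ k) : K ≤ A := by
  have h1 : ¬ p ∣ Nat.card (A ⊔ K : Subgroup N) := by
    intro h
    rcases hp.out.dvd_mul.1 (h.trans (Cores.card_sup_dvd A K)) with h | h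
    · exact hA h
    · exact hK h
  have h2 : A.relIndex (A ⊔ K) ∣ p ^ k :=
    (Dvd.intro _ (relIndex_mul_index (le_sup_left : A ≤ A ⊔ K))).trans hidx
  obtain ⟨j, hj, hj2⟩ := (Nat.dvd_prime_pow hp.out).1 h2
  rcases Nat.eq_zero_or_pos j with h0 | h0
  · rw [h0, pow_zero, relIndex_eq_one] at hj2
    exact le_sup_right.trans hj2
  · exfalso
    apply h1
    have h3 : A.relIndex (A ⊔ K) ∣ Nat.card (A ⊔ K : Subgroup N) := relIndex_dvd_card _ _
    rw [hj2] at h3
    exact (dvd_pow_self p h0.ne').trans h3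

theorem sylow_normal_of_le_commutator [hs : Group.IsSolvable N]
    (hab : ∀ H : Subgroup N, (Nat.card H).Coprime p → ∀ a ∈ H, ∀ b ∈ H, a * b = b * a) (P : Sylow p N)
    (hP : (P : Subgroup N) ≤ commutator N) : (P : Subgroup N).Normal := by
  classical
  have hps : IsPSolvable p N := PLength.isPSolvable_of_isSolvable
  obtain ⟨A, hA, k, hk⟩ := PSolvTools.exists_hall hp.out hps
  set O := pCore p N with hO
  set f := QuotientGroup.mk' O with hf
  have hfs : Function.Surjective f := QuotientGroup.mk'_surjective _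
  have hsq : Group.IsSolvable (N ⧸ O) := Group.isSolvable_of_surjective hfs
  have hcore : pCore p (N ⧸ O) = ⊥ := Cores.pCore_quotient_pCore p N
  have hdual := PSolvDual.centralizer_pPrimeCore_le (p := p) (G := N ⧸ O) PLength.isPSolvable_of_isSolvable hcore
  -- the image of `A`
  have hAf : ¬ p ∣ Nat.card (A.map f) := fun h => hA (h.trans (card_map_dvd A f))
  have hidx : (A.map f).index ∣ p ^ k := by rw [← hk]; exact index_map_dvd A hfs
  have hle : pPrimeCore p (N ⧸ O) ≤ A.map f :=
    le_of_hall hAf (coprime_iff.1 (Cores.coprime_card_pPrimeCore p _)) hidx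
  have hle2 : A.map f ≤ pPrimeCore p (N ⧸ O) := by
    refine le_trans ?_ hdual
    rintro _ ⟨a, ha, rfl⟩
    rw [mem_centralizer_iff]
    intro b hb
    obtain ⟨c, hc, rfl⟩ := hle hb
    rw [← map_mul, ← map_mul, hab A (coprime_iff.2 hA) c hc a ha]
  have heq : A.map f = pPrimeCore p (N ⧸ O) := le_antisymm hle2 hle
  -- the preimage of it is everything
  set K := (A.map f).comap f with hK
  have hKn : K.Normal := by rw [hK, heq]; infer_instance
  have hKtop : K = ⊤ := by
    by_contra hne
    have hq : IsPGroup p (N ⧸ K) := by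
      apply IsPGroup.of_card (n := (A.map f).index.factorization p)
      obtain ⟨j, hj, hj2⟩ := (Nat.dvd_prime_pow hp.out).1 hidx
      rw [← index_eq_card, hK, index_comap_of_surjective _ hfs, hj2, Nat.Prime.factorization_pow hp.out]
      simp
    have hPK : (P : Subgroup N).map (QuotientGroup.mk' K) = ⊤ := by
      have h1 := hq.to_subgroup (⊤ : Subgroup (N ⧸ K))
      have h2 := (P.mapSurjective (QuotientGroup.mk'_surjective K)).is_maximal' h1
      exact (h2 le_top).symm
    have hsK : Group.IsSolvable (N ⧸ K) := Group.isSolvable_of_surjective (QuotientGroup.mk'_surjective K)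
    have hnt : Nontrivial (N ⧸ K) := QuotientGroup.nontrivial_iff.2 hne
    have h3 : commutator (N ⧸ K) = ⊤ := by
      rw [eq_top_iff, ← hPK]
      refine (Subgroup.map_mono hP).trans ?_
      rw [_root_.commutator_def, map_commutator]
      exact commutator_mono le_top le_top
    exact (Group.IsSolvable.commutator_lt_top_of_nontrivial (N ⧸ K)).ne h3
  -- hence `P = O`
  have hPO : (P : Subgroup N) ≤ O := by
    have h1 : (A.map f) = ⊤ := by
      have := comap_injective hfs (hK.symm.trans (hKtop.trans (comap_top f).symm))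
      exact this
    have h2 : ¬ p ∣ Nat.card (N ⧸ O) := by
      rw [← card_top (G := N ⧸ O), ← h1]; exact hAf
    have h3 : (P : Subgroup N).map f = ⊥ := by
      apply H32Cores.eq_bot_of_isPGroup_of_coprime p (P.2.map f)
      rw [coprime_iff]
      exact fun h => h2 (h.trans (card_subgroup_dvd_card _))
    rw [Subgroup.map_eq_bot_iff, hf, QuotientGroup.ker_mk'] at h3
    exact h3
  have hPeq : (P : Subgroup N) = O := le_antisymm hPO (Cores.pCore_le_sylow P)
  rw [hPeq]; infer_instance

end TypeLevel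


section PLen

variable {G : Type u} [Group G] [Finite G] {p : ℕ} [hp : Fact p.Prime]

/-- normalizers of Sylow `p`-subgroups control strong fusion -/
def SC (p : ℕ) (G : Type u) [Group G] : Prop :=
  ∀ (P : Sylow p G) (A : Set G), A ⊆ ((P : Subgroup G) : Set G) → ∀ g : G,
    (fun a => g⁻¹ * a * g) '' A ⊆ ((P : Subgroup G) : Set G) →
      ∃ n ∈ normalizer ((P : Subgroup G) : Set G), ∀ a ∈ A, n⁻¹ * a * n = g⁻¹ * a * g

theorem normalizer_le_of_SC (hSC : SC p G) (P : Sylow p G) {R : Subgroup G} (hR : R ≤ P) {g : G}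
    (hg : g ∈ normalizer (R : Set G)) :
    ∃ c ∈ centralizer (R : Set G), ∃ n ∈ normalizer ((P : Subgroup G) : Set G), g = c * n := by
  obtain ⟨n, hn, h⟩ := hSC P (R : Set G) hR g (by
    rintro _ ⟨a, ha, rfl⟩
    apply hR
    have := (mem_normalizer_iff''.1 hg a).1 ha
    exact this)
  refine ⟨g * n⁻¹, ?_, n, hn, by group⟩
  rw [mem_centralizer_iff]
  intro a ha
  have h1 := h a ha
  calc a * (g * n⁻¹) = g * (g⁻¹ * a * g) * n⁻¹ := by group
    _ = g * (n⁻¹ * a * n) * n⁻¹ := by rw [h1]
    _ = g * n⁻¹ * a := by group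

theorem centralizer_le_normalizer' (R : Subgroup G) : centralizer (R : Set G) ≤ normalizer (R : Set G) :=
  centralizer_le_normalizer _

/-- `N_P(R) C(R)` is normal in `N(R)` -/
theorem le_normalizer_sup (hSC : SC p G) (P : Sylow p G) {R : Subgroup G} (hR : R ≤ P) :
    normalizer (R : Set G) ≤
      normalizer ((((P : Subgroup G) ⊓ normalizer (R : Set G)) ⊔ centralizer (R : Set G) : Subgroup G) : Set G) := by
  intro g hg
  apply H32Cores.mem_normalizer_of_conj_le
  set Y := ((P : Subgroup G) ⊓ normalizer (R : Set G)) ⊔ centralizer (R : Set G) with hY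
  have key : Y ≤ Y.comap (MulAut.conj g).toMonoidHom := by
    rw [hY]
    apply sup_le
    · rintro x ⟨hxP, hxN⟩
      rw [← hY]
      change g * x * g⁻¹ ∈ Y
      obtain ⟨c, hc, n, hn, rfl⟩ := normalizer_le_of_SC hSC P hR hg
      have hcY : c ∈ Y := le_sup_right (a := (P : Subgroup G) ⊓ normalizer (R : Set G)) hc
      have hnN : n ∈ normalizer (R : Set G) := by
        have := mul_mem (inv_mem (centralizer_le_normalizer' R hc)) hg
        simpa using this
      have hxY : n * x * n⁻¹ ∈ Y := by
        apply le_sup_left (b := centralizer (R : Set G))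
        exact mem_inf.2 ⟨(mem_normalizer_iff.1 hn x).1 hxP, mul_mem (mul_mem hnN hxN) (inv_mem hnN)⟩
      have : c * n * x * (c * n)⁻¹ = c * (n * x * n⁻¹) * c⁻¹ := by group
      rw [this]
      exact mul_mem (mul_mem hcY hxY) (inv_mem hcY)
    · intro x hx
      rw [← hY]
      change g * x * g⁻¹ ∈ Y
      apply le_sup_right (a := (P : Subgroup G) ⊓ normalizer (R : Set G))
      rw [mem_centralizer_iff] at hx ⊢
      intro a ha
      have h1 := (mem_normalizer_iff''.1 hg a).1 ha
      have h2 := hx _ h1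
      calc a * (g * x * g⁻¹) = g * ((g⁻¹ * a * g) * x) * g⁻¹ := by group
        _ = g * (x * (g⁻¹ * a * g)) * g⁻¹ := by rw [h2]
        _ = g * x * g⁻¹ * a := by group
  exact fun x hx => key hx

theorem pow_mul_mem {C : Subgroup G} {x c : G} (hx : x ∈ normalizer (C : Set G)) (hc : c ∈ C) (k : ℕ) :
    ∃ c' ∈ C, (x * c) ^ k = x ^ k * c' := by
  induction k with
  | zero => exact ⟨1, one_mem _, by simp⟩
  | succ k ih =>
    obtain ⟨c', hc', h⟩ := ih
    refine ⟨(x⁻¹ * c' * x) * c, mul_mem ((mem_normalizer_iff''.1 hx c').1 hc') hc, ?_⟩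
    rw [pow_succ, h, pow_succ]; group

theorem pow_mem_centralizer (P : Sylow p G) {R : Subgroup G} {y : G}
    (hy : y ∈ ((P : Subgroup G) ⊓ normalizer (R : Set G)) ⊔ centralizer (R : Set G)) :
    ∃ k : ℕ, y ^ p ^ k ∈ centralizer (R : Set G) := by
  have hN : normalizer (R : Set G) ≤ normalizer ((centralizer (R : Set G) : Subgroup G) : Set G) := by
    intro g hg
    apply H32Cores.mem_normalizer_of_conj_le
    intro x hx
    rw [mem_centralizer_iff] at hx ⊢
    intro a ha
    have h1 := (mem_normalizer_iff''.1 hg a).1 ha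
    have h2 := hx _ h1
    calc a * (g * x * g⁻¹) = g * ((g⁻¹ * a * g) * x) * g⁻¹ := by group
      _ = g * (x * (g⁻¹ * a * g)) * g⁻¹ := by rw [h2]
      _ = g * x * g⁻¹ * a := by group
  obtain ⟨x, hx, c, hc, rfl⟩ := (ConjSylow.mem_sup_of_le_normalizer (inf_le_right.trans hN)).1 hy
  obtain ⟨k, hk⟩ := P.2 ⟨x, hx.1⟩
  have hk' : x ^ p ^ k = 1 := by simpa using congrArg Subtype.val hk
  obtain ⟨c', hc', h⟩ := pow_mul_mem (hN hx.2) hc (p ^ k)
  refine ⟨k, ?_⟩
  rw [h, hk', one_mul]; exact hc'

/-- solvable subgroups have `p`-length at most one -/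
theorem plen (hSC : SC p G) (L : Subgroup G) (hL : Group.IsSolvable L) (Q : Sylow p L) :
    (Q : Subgroup L) ≤ pPrimePCore p L := by
  classical
  set K := pPrimePCore p ↥L with hK
  have hKn : K.Normal := PLengthOne.normal_pPrimePCore p _
  set A := pPrimeCore p ↥L with hA
  set R := (Q : Subgroup L) ⊓ K with hRdef
  have hR : RelSylow.IsSyl p R K := (RelSylow.isSyl_top_iff Q).inf le_top (by rw [normalizer_eq_top])
  have hsq : Group.IsSolvable (L ⧸ A) := Group.isSolvable_of_surjective (QuotientGroup.mk'_surjective A)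
  have hcons : centralizer (R : Set L) ≤ K :=
    (PConstraint.centralizer_le_iff hR).2
      (Cores.centralizer_pCore_le (Cores.pPrimeCore_quotient_pPrimeCore p L))
  have hRmap := PConstraint.map_sylow_eq hR
  -- the Sylow subgroup of `G`
  obtain ⟨P, hP⟩ := (Q.2.map L.subtype).exists_le_sylow
  set R' := R.map L.subtype with hR'
  have hR'P : R' ≤ P := (Subgroup.map_mono inf_le_left).trans hP
  set Y := ((P : Subgroup G) ⊓ normalizer (R' : Set G)) ⊔ centralizer (R' : Set G) with hY
  set YL := Y.comap L.subtype with hYL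
  have hmem : ∀ l : L, l ∈ normalizer (R : Set L) ↔ (l : G) ∈ normalizer (R' : Set G) := by
    intro l
    rw [mem_normalizer_iff, mem_normalizer_iff]
    constructor
    · intro h x
      constructor
      · rintro ⟨y, hy, rfl⟩
        exact ⟨l * y * l⁻¹, (h y).1 hy, rfl⟩
      · rintro ⟨y, hy, hxy⟩
        refine ⟨l⁻¹ * y * l, ?_, ?_⟩
        · exact (h _).2 (by simpa [mul_assoc] using hy)
        · change (l : G)⁻¹ * (y : G) * l = x
          have : (y : G) = l * x * (l : G)⁻¹ := hxy
          rw [this]; group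
    · intro h x
      constructor
      · intro hx
        obtain ⟨y, hy, hxy⟩ := (h x).1 ⟨x, hx, rfl⟩
        have : y = l * x * l⁻¹ := Subtype.ext hxy
        rwa [← this]
      · intro hx
        obtain ⟨y, hy, hxy⟩ := (h x).2 ⟨_, hx, rfl⟩
        have : y = x := Subtype.ext hxy
        rwa [← this]
  have hNY : normalizer (R : Set L) ≤ normalizer (YL : Set L) := by
    intro l hl
    apply H32Cores.mem_normalizer_of_conj_le
    intro y hy
    have h1 := le_normalizer_sup hSC P hR'P ((hmem l).1 hl)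
    exact (mem_normalizer_iff.1 h1 _).1 hy
  have hQY : (Q : Subgroup L) ≤ YL := by
    intro q hq
    change (q : G) ∈ Y
    apply le_sup_left (b := centralizer (R' : Set G))
    refine ⟨hP ⟨q, hq, rfl⟩, (hmem q).1 ?_⟩
    have h1 : (Q : Subgroup L) ≤ normalizer (R : Set L) := by
      refine le_trans (le_inf le_normalizer ?_) inf_normalizer_le_normalizer_inf
      rw [normalizer_eq_top]; exact le_top
    exact h1 hq
  have hpow : ∀ y ∈ YL, ∃ k : ℕ, y ^ p ^ k ∈ A := by
    intro y hy
    obtain ⟨k, hk⟩ := pow_mem_centralizer P hy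
    have h1 : y ^ p ^ k ∈ centralizer (R : Set L) := by
      rw [mem_centralizer_iff]
      intro r hr
      apply Subtype.ext
      have := mem_centralizer_iff.1 hk _ ⟨r, hr, rfl⟩
      simpa using this
    obtain ⟨j, hj⟩ := PLengthOne.pow_mem_of_mem_pPrimePCore (hcons h1)
    refine ⟨k + j, ?_⟩
    rw [pow_add, pow_mul]; exact hj
  have hAn : A.Normal := by rw [hA]; infer_instance
  have hW : (A ⊔ YL).Normal := by
    rw [← normalizer_eq_top_iff, eq_top_iff]
    intro l _
    obtain ⟨n, hn, x, hx, rfl⟩ := hR.frattini (H := ⊤) (by rw [normalizer_eq_top]) (mem_top l)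
    have h1 : normalizer (R : Set L) ≤ normalizer ((A ⊔ YL : Subgroup L) : Set L) :=
      LocBase.le_normalizer_sup (show normalizer (R : Set L) ≤ normalizer (A : Set L) by
        rw [normalizer_eq_top_iff.2 hAn]; exact le_top) hNY
    refine mul_mem ?_ (h1 hx)
    -- `n = a r`
    have h2 : QuotientGroup.mk' A n ∈ R.map (QuotientGroup.mk' A) := by
      rw [hRmap]; exact hn
    obtain ⟨r, hr, hrn⟩ := h2
    have h3 : n * r⁻¹ ∈ A := by
      rw [← QuotientGroup.ker_mk' A, MonoidHom.mem_ker, map_mul, map_inv, hrn, mul_inv_cancel]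
    have h4 : n = n * r⁻¹ * r := by group
    rw [h4]
    refine mul_mem ?_ (h1 (le_normalizer hr))
    exact le_normalizer (le_sup_left (b := YL) h3)
  have hWK : A ⊔ YL ≤ K := by
    apply PLengthOne.le_pPrimePCore (N := A) hAn hW
    · exact coprime_iff.1 (Cores.coprime_card_pPrimeCore p _)
    · intro w hw
      obtain ⟨a, ha, y, hy, rfl⟩ := mem_sup_of_normal_left.1 hw
      obtain ⟨k, hk⟩ := hpow y hy
      refine ⟨k, ?_⟩
      rw [← QuotientGroup.ker_mk' A, MonoidHom.mem_ker, map_pow, map_mul]
      have h1 : QuotientGroup.mk' A a = 1 := (QuotientGroup.eq_one_iff a).2 ha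
      rw [h1, one_mul, ← map_pow]
      exact (QuotientGroup.eq_one_iff _).2 hk
  exact (hQY.trans le_sup_right).trans hWK

end PLen


section Ctx

variable {G : Type u} [Group G] [Finite G] {p : ℕ} [hp : Fact p.Prime]

theorem not_solvable_SL2 (h5 : 5 ≤ p) : ¬ Group.IsSolvable (Matrix.SpecialLinearGroup (Fin 2) (ZMod p)) := by
  have hperf : commutator (Matrix.SpecialLinearGroup (Fin 2) (ZMod p)) = ⊤ := by
    apply Cfsg.Agent.Lib.ClSLn.commutator_SL_eq_top'
    intro _
    have h2 : (2 : ZMod p) ≠ 0 := by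
      intro h
      have : p ∣ 2 := (ZMod.natCast_eq_zero_iff 2 p).mp (by exact_mod_cast h)
      have := Nat.le_of_dvd (by norm_num) this
      omega
    refine ⟨2, h2, ?_⟩
    intro h
    have : ((3 : ℕ) : ZMod p) = 0 := by push_cast; linear_combination h
    have := (ZMod.natCast_eq_zero_iff 3 p).mp this
    have := Nat.le_of_dvd (by norm_num) this
    omega
  have hnt : Nontrivial (Matrix.SpecialLinearGroup (Fin 2) (ZMod p)) := by
    have hf : Nontrivial (ZMod p) := ZMod.nontrivial_iff.2 (by omega)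
    refine ⟨⟨1, Matrix.SpecialLinearGroup.transvection (i := 0) (j := 1) (by decide) 1, ?_⟩⟩
    intro h
    have h1 := congrArg (fun m : Matrix.SpecialLinearGroup (Fin 2) (ZMod p) => (m : Matrix (Fin 2) (Fin 2) (ZMod p)) 0 1) h
    simp [Matrix.SpecialLinearGroup.transvection_coe] at h1
  intro hs
  exact (Group.IsSolvable.commutator_lt_top_of_nontrivial _).ne hperf

theorem Cx.center_eq_bot (cx : Cx p G) : center G = ⊥ := by
  have := cx.simple
  rcases (inferInstance : (center G).Normal).eq_bot_or_eq_top with h | h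
  · exact h
  · exfalso
    apply cx.nsol
    apply Group.isSolvable_of_comm
    intro a b
    have ha : a ∈ center G := by rw [h]; exact mem_top _
    exact (mem_center_iff.1 ha b).symm

theorem Cx.centralizer_ne_top (cx : Cx p G) {x : G} (hx : x ≠ 1) : centralizer ({x} : Set G) ≠ ⊤ := by
  intro h
  apply hx
  have : x ∈ center G := by
    rw [mem_center_iff]
    intro g
    have hg : g ∈ centralizer ({x} : Set G) := by rw [h]; exact mem_top _
    exact (mem_centralizer_singleton_iff.1 hg)
  rw [cx.center_eq_bot] at this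
  exact mem_bot.1 this

theorem Cx.normalizer_ne_top (cx : Cx p G) {H : Subgroup G} (h1 : H ≠ ⊥) (h2 : H ≠ ⊤) :
    normalizer (H : Set G) ≠ ⊤ := by
  intro h
  have := cx.simple
  have hn : H.Normal := normalizer_eq_top_iff.1 h
  rcases hn.eq_bot_or_eq_top with h | h
  · exact h1 h
  · exact h2 h

theorem Cx.commutator_eq_top (cx : Cx p G) : commutator G = ⊤ := by
  have := cx.simple
  rcases (inferInstance : (commutator G).Normal).eq_bot_or_eq_top with h | h
  · exfalso
    apply cx.nsol
    apply Group.isSolvable_of_comm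
    intro a b
    have h1 : ⁅a, b⁆ ∈ commutator G := commutator_mem_commutator (mem_top a) (mem_top b)
    rw [h, mem_bot, commutatorElement_eq_one_iff_mul_comm] at h1
    exact h1
  · exact h

theorem Cx.ne_top_of_solvable (cx : Cx p G) {H : Subgroup G} (h : Group.IsSolvable H) : H ≠ ⊤ := by
  rintro rfl
  apply cx.nsol
  exact Group.isSolvable_of_surjective (f := (⊤ : Subgroup G).subtype) (fun x => ⟨⟨x, mem_top x⟩, rfl⟩)

theorem Cx.ne_top_of_isPGroup (cx : Cx p G) {q : ℕ} [Fact q.Prime] {H : Subgroup G} (h : IsPGroup q H) : H ≠ ⊤ := by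
  have := h.isNilpotent
  exact cx.ne_top_of_solvable inferInstance

theorem Cx.p_odd (cx : Cx p G) : p ≠ 2 := by have := cx.five; omega

theorem Cx.not_involves (cx : Cx p G) : ¬ ∃ (H K : Subgroup G) (hK : (K.subgroupOf H).Normal),
    Nonempty ((H ⧸ K.subgroupOf H) ≃* Matrix.SpecialLinearGroup (Fin 2) (ZMod p)) := by
  rintro ⟨H, K, hK, ⟨e⟩⟩
  by_cases hH : H = ⊤
  · subst hH
    set φ : G →* Matrix.SpecialLinearGroup (Fin 2) (ZMod p) :=
      (e.toMonoidHom.comp (QuotientGroup.mk' (K.subgroupOf ⊤))).comp (Subgroup.topEquiv (G := G)).symm.toMonoidHom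
      with hφ
    have hsurj : Function.Surjective φ := by
      intro y
      obtain ⟨x, hx⟩ := QuotientGroup.mk'_surjective (K.subgroupOf ⊤) (e.symm y)
      refine ⟨(x : G), ?_⟩
      change e (QuotientGroup.mk' (K.subgroupOf ⊤) (Subgroup.topEquiv.symm (x : G))) = y
      have : (Subgroup.topEquiv (G := G)).symm (x : G) = x := rfl
      rw [this, hx]; simp
    have := cx.simple
    rcases (inferInstance : φ.ker.Normal).eq_bot_or_eq_top with h | h
    · have hinj : Function.Injective φ := (MonoidHom.ker_eq_bot_iff φ).1 h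
      obtain ⟨z, hz⟩ := hsurj (-1)
      have hzc : z ∈ center G := by
        rw [mem_center_iff]
        intro g
        apply hinj
        rw [map_mul, map_mul, hz]
        apply Matrix.SpecialLinearGroup.ext
        intro i j
        simp
      rw [cx.center_eq_bot, mem_bot] at hzc
      rw [hzc, map_one] at hz
      have h1 := congrArg (fun m : Matrix.SpecialLinearGroup (Fin 2) (ZMod p) => (m : Matrix (Fin 2) (Fin 2) (ZMod p)) 0 0) hz
      have h2 : (1 : ZMod p) = -1 := by simpa using h1
      have h3 : ((2 : ℕ) : ZMod p) = 0 := by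
        push_cast; linear_combination h2
      have h4 := (ZMod.natCast_eq_zero_iff 2 p).mp h3
      have h5 := Nat.le_of_dvd (by norm_num) h4
      have := cx.five
      omega
    · apply not_solvable_SL2 cx.five
      apply Group.isSolvable_of_comm
      intro a b
      obtain ⟨x, rfl⟩ := hsurj a
      obtain ⟨y, rfl⟩ := hsurj b
      have hx : x ∈ φ.ker := by rw [h]; exact mem_top _
      rw [MonoidHom.mem_ker] at hx
      rw [hx, one_mul, mul_one]
  · have hs := cx.sol H hH
    apply not_solvable_SL2 cx.five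
    have h1 : Group.IsSolvable (H ⧸ K.subgroupOf H) := Group.isSolvable_of_surjective (QuotientGroup.mk'_surjective _)
    exact Group.isSolvable_of_surjective (f := e.toMonoidHom) e.surjective

theorem Cx.strong (cx : Cx p G) : SC p G := by
  intro P A hA g hAg
  obtain ⟨n, hn, hna⟩ := Cfsg.Agent.S0118.result cx.p_odd cx.not_involves P A hA g hAg
  refine ⟨n, ?_, hna⟩
  set Z := centerThompsonOf p (P : Subgroup G) with hZ
  have hZ' : Z = ZJeThm.Zc p (P : Subgroup G) := ZJeThm.centerThompsonOf_eq _
  by_cases hP1 : (P : Subgroup G) = ⊥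
  · rw [hP1]
    have : normalizer ((⊥ : Subgroup G) : Set G) = ⊤ := normalizer_eq_top (H := (⊥ : Subgroup G))
    rw [this]; exact mem_top _
  have hPnt : Nontrivial (P : Subgroup G) := (Subgroup.nontrivial_iff_ne_bot _).2 hP1
  have hZ1 : Z ≠ ⊥ := by
    intro h
    have h1 := (ZJeFunctor.WJ_isChar (p := p)).1 (P : Subgroup G) P.2 hPnt
    apply h1
    have h2 := ZJeFunctor.induced_WJ (p := p) (P : Subgroup G)
    rw [← hZ', h] at h2
    unfold Cfsg.inducedFunctor at h2
    rwa [map_eq_bot_iff_of_injective _ (P : Subgroup G).subtype_injective] at h2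
  have hZP : Z ≤ P := by rw [hZ']; exact ZJeThm.Zc_le _
  have hZt : Z ≠ ⊤ := by
    intro h
    rw [h, top_le_iff] at hZP
    exact cx.ne_top_of_isPGroup P.2 hZP
  set N := normalizer (Z : Set G) with hN
  have hNt : N ≠ ⊤ := cx.normalizer_ne_top hZ1 hZt
  have hsN := cx.sol N hNt
  have hPN : (P : Subgroup G) ≤ N := by
    refine le_normalizer.trans ?_
    rw [hN, hZ']
    exact ZJeThm.normalizer_le _
  have hctrl : commutator G ⊓ (P : Subgroup G) = ⁅N, N⁆ ⊓ (P : Subgroup G) := by
    apply FusionControl.commutator_inf_eq_of_controls P N hPN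
    intro x hx g hg
    obtain ⟨m, hm, hmx⟩ := Cfsg.Agent.S0118.result cx.p_odd cx.not_involves P {x} (by simpa using hx) g⁻¹ (by
      rintro _ ⟨a, ha, rfl⟩
      rw [Set.mem_singleton_iff] at ha
      subst ha
      simpa using hg)
    refine ⟨m⁻¹, inv_mem hm, ?_⟩
    have := hmx x (Set.mem_singleton x)
    simpa using this
  rw [cx.commutator_eq_top, top_inf_eq] at hctrl
  have hPc : (P : Subgroup G) ≤ ⁅N, N⁆ := by rw [hctrl]; exact inf_le_left
  -- inside `N`
  have hnorm : ((P.subtype hPN : Sylow p N) : Subgroup N).Normal := by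
    apply sylow_normal_of_le_commutator
    · intro H hH a ha b hb
      have h1 := cx.comm (H.map N.subtype) (by rwa [Cores.card_map_subtype]) a ⟨a, ha, rfl⟩ b ⟨b, hb, rfl⟩
      exact Subtype.ext h1
    · intro x hx
      have h1 : (x : G) ∈ ⁅N, N⁆ := hPc hx
      have h2 : ⁅N, N⁆ = (commutator N).map N.subtype := by
        rw [_root_.commutator_def, map_commutator, ← MonoidHom.range_eq_map, range_subtype]
      rw [h2] at h1
      obtain ⟨y, hy, hyx⟩ := h1
      have : y = x := Subtype.ext hyx
      rwa [← this]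
  have hle : N ≤ normalizer ((P : Subgroup G) : Set G) := by
    have h1 : (P : Subgroup G).subgroupOf N = ((P.subtype hPN : Sylow p N) : Subgroup N) := rfl
    rw [← normal_subgroupOf_iff_le_normalizer hPN, h1]
    exact hnorm
  exact hle hn

theorem Cx.plen (cx : Cx p G) {L : Subgroup G} (hL : L ≠ ⊤) (Q : Sylow p L) :
    (Q : Subgroup L) ≤ pPrimePCore p L := PAbA.plen cx.strong L (cx.sol L hL) Q

end Ctx

end Cfsg.Agent.Lib.PAbA
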