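import Mathlib.GroupTheory.Sylow
import Mathlib.GroupTheory.Nilpotent
import Mathlib.GroupTheory.SemidirectProduct
import Mathlib.GroupTheory.Commutator.Basic
import Mathlib.GroupTheory.Subgroup.Centralizer

/-! `p`-elements acting on a `p`-subgroup act nilpotently. -/

set_option autoImplicit false

namespace Cfsg.Agent.Lib.PAction

open Subgroup commutatorElement

/-- in a nilpotent group a subgroup `W ≤ [W, G]` is trivial. -/
theorem eq_bot_of_le_comm {P : Type*} [Group P] [Group.IsNilpotent P] {W : Subgroup P} (h : W ≤ ⁅W, (⊤ : Subgroup P)⁆) :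
    W = ⊥ := by
  obtain ⟨n, hn⟩ := (Subgroup.nilpotent_iff_lowerCentralSeries (G := P)).mp inferInstance
  have key : ∀ n, W ≤ Subgroup.lowerCentralSeries (⊤ : Subgroup P) n := by
    intro n
    induction n with
    | zero => exact le_top
    | succ n ih => exact h.trans (commutator_mono ih le_rfl)
  rw [eq_bot_iff, ← hn]
  exact key n

/-- The semidirect product of `V` with the automorphisms induced by `A`. -/
theorem eq_bot_of_comm_eq {G : Type*} [Group G] [Finite G] {p : ℕ} [Fact p.Prime] {V A W : Subgroup G} (hV : IsPGroup p V)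
    (hAV : A ≤ normalizer (V : Set G)) (hA : ∀ a ∈ A, ∃ k : ℕ, a ^ p ^ k ∈ centralizer (V : Set G)) (hWV : W ≤ V)
    (hW : W ≤ ⁅W, A⁆) : W = ⊥ := by
  let φ : ↥A →* MulAut ↥V := V.normalizerMonoidHom.comp (inclusion hAV)
  have hφ : ∀ (a : ↥A) (v : ↥V), ((φ a v : ↥V) : G) = a * v * (a : G)⁻¹ := fun a v => rfl
  let K := φ.range
  let S := ↥V ⋊[K.subtype] ↥K
  have hK : IsPGroup p K := by
    rintro ⟨_, a, rfl⟩
    obtain ⟨k, hk⟩ := hA a a.2
    refine ⟨k, ?_⟩
    apply Subtype.ext
    change (φ a) ^ p ^ k = 1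
    rw [← map_pow]
    ext v
    rw [hφ]
    change (a : G) ^ p ^ k * v * ((a : G) ^ p ^ k)⁻¹ = v
    rw [← mem_centralizer_iff.mp hk v v.2, mul_inv_cancel_right]
  haveI : Finite (MulAut ↥V) := inferInstance
  haveI : Finite ↥K := inferInstance
  haveI : Finite S := Finite.of_equiv (↥V × ↥K) SemidirectProduct.equivProd.symm
  have hS : IsPGroup p S := by
    obtain ⟨m, hm⟩ := IsPGroup.iff_card.mp hV
    obtain ⟨n, hn⟩ := IsPGroup.iff_card.mp hK
    apply IsPGroup.of_card (n := m + n)
    rw [SemidirectProduct.card, hm, hn, pow_add]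
  haveI : Group.IsNilpotent S := hS.isNilpotent
  have h1 : (W.subgroupOf V).map (SemidirectProduct.inl : ↥V →* S) ≤
      ⁅(W.subgroupOf V).map (SemidirectProduct.inl : ↥V →* S), (⊤ : Subgroup S)⁆ := by
    have hmem : ∀ x (hx : x ∈ ⁅W, A⁆) (hxV : x ∈ V), (SemidirectProduct.inl (⟨x, hxV⟩ : ↥V) : S) ∈
        ⁅(W.subgroupOf V).map (SemidirectProduct.inl : ↥V →* S), (⊤ : Subgroup S)⁆ := by
      intro x hx
      have h0 : ⁅W, A⁆ ≤ V := by
        rw [commutator_le]
        intro w hw a ha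
        rw [commutatorElement_def]
        have : w * a * w⁻¹ * a⁻¹ = w * (a * w⁻¹ * a⁻¹) := by group
        rw [this]
        exact mul_mem (hWV hw) ((mem_normalizer_iff.mp (hAV ha) _).mp (inv_mem (hWV hw)))
      refine closure_induction (p := fun x _ => ∀ hxV : x ∈ V, (SemidirectProduct.inl (⟨x, hxV⟩ : ↥V) : S) ∈
        ⁅(W.subgroupOf V).map (SemidirectProduct.inl : ↥V →* S), (⊤ : Subgroup S)⁆) ?_ ?_ ?_ ?_ hx
      · rintro _ ⟨w, hw, a, ha, rfl⟩ hxV
        have h2 : (SemidirectProduct.inl (⟨⁅w, a⁆, hxV⟩ : ↥V) : S) =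
            ⁅(SemidirectProduct.inl (⟨w, hWV hw⟩ : ↥V) : S),
              (SemidirectProduct.inr (⟨φ ⟨a, ha⟩, MonoidHom.mem_range.mpr ⟨_, rfl⟩⟩ : ↥K) : S)⁆ := by
          have e1 : ∀ (v : ↥V) (k : ↥K), ⁅(SemidirectProduct.inl v : S), (SemidirectProduct.inr k : S)⁆ =
              SemidirectProduct.inl (v * ((k : MulAut ↥V) v)⁻¹) := by
            intro v k
            have e2 : (SemidirectProduct.inl ((k : MulAut ↥V) v⁻¹) : S) =
              SemidirectProduct.inr k * SemidirectProduct.inl v⁻¹ * (SemidirectProduct.inr k)⁻¹ := by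
              rw [← map_inv SemidirectProduct.inr]
              exact SemidirectProduct.inl_aut k v⁻¹
            calc ⁅(SemidirectProduct.inl v : S), (SemidirectProduct.inr k : S)⁆
                = SemidirectProduct.inl v * (SemidirectProduct.inr k * SemidirectProduct.inl v⁻¹ * (SemidirectProduct.inr k)⁻¹) := by
                  rw [commutatorElement_def, map_inv]; simp only [mul_assoc]
              _ = SemidirectProduct.inl (v * ((k : MulAut ↥V) v)⁻¹) := by
                  rw [← e2, map_inv, map_mul]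
          rw [e1]
          refine congrArg _ (Subtype.ext ?_)
          change ⁅w, a⁆ = w * (a * w * a⁻¹)⁻¹
          rw [commutatorElement_def]; group
        rw [h2]
        exact commutator_mem_commutator ⟨_, mem_subgroupOf.mpr hw, rfl⟩ (mem_top _)
      · intro hxV
        have : (⟨1, hxV⟩ : ↥V) = 1 := rfl
        rw [this, map_one]
        exact one_mem _
      · intro x y hx hy ihx ihy hxV
        have hxV' := h0 hx
        have hyV' := h0 hy
        have : (⟨x * y, hxV⟩ : ↥V) = ⟨x, hxV'⟩ * ⟨y, hyV'⟩ := rfl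
        rw [this, map_mul]
        exact mul_mem (ihx hxV') (ihy hyV')
      · intro x hx ihx hxV
        have hxV' := h0 hx
        have : (⟨x⁻¹, hxV⟩ : ↥V) = ⟨x, hxV'⟩⁻¹ := rfl
        rw [this, map_inv]
        exact inv_mem (ihx hxV')
    rintro _ ⟨x, hx, rfl⟩
    exact hmem x.1 (hW (mem_subgroupOf.mp hx)) x.2
  have h2 := eq_bot_of_le_comm h1
  rw [map_eq_bot_iff_of_injective _ SemidirectProduct.inl_injective, subgroupOf_eq_bot] at h2
  rw [eq_bot_iff]
  intro w hw
  exact (disjoint_iff.mp h2 ▸ mem_inf.mpr ⟨hw, hWV hw⟩ : w ∈ (⊥ : Subgroup G))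

end Cfsg.Agent.Lib.PAction
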