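import Cfsg.Agent.Lib.CharBasic2
import Cfsg.Agent.Lib.IndFun
import Cfsg.Agent.Lib.CharDegrees
import Cfsg.Agent.Lib.CliffordCorr
import Cfsg.Agent.Lib.TateApps

set_option autoImplicit false

/-!
Characters of degree prime to `p` and normal `p`-complements (Thompson): if all irreducible
characters of degree prime to `p` are linear then there is a normal `p`-complement.
-/

open Cfsg
open Cfsg.Agent.Lib.CharBasic

namespace Cfsg.Agent.Lib.PDegreeNC

universe u
variable {G : Type u} [Group G]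

/-- A character of degree prime to `p` has an irreducible constituent of degree prime to `p`. -/
theorem exists_irr_not_dvd [Fintype G] {p : ℕ} {χ : G → ℂ} (hχ : IsCharacter G χ) {n : ℕ}
    (hn : χ 1 = n) (hp : ¬ p ∣ n) :
    ∃ ψ : G → ℂ, IsIrrCharacter G ψ ∧ classInner χ ψ ≠ 0 ∧ ∃ m : ℕ, ψ 1 = m ∧ ¬ p ∣ m := by
  classical
  obtain ⟨c, hc, hs⟩ := hχ.exists_coeff
  have hd : ∀ ψ : IrrCharacter G, ∃ m : ℕ, (ψ : G → ℂ) 1 = m := fun ψ => by
    obtain ⟨m, -, hm⟩ := ψ.2.exists_degree
    exact ⟨m, hm⟩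
  choose d hd using hd
  by_contra hcon
  push Not at hcon
  apply hp
  have h1 : (n : ℂ) = ((∑ ψ : IrrCharacter G, c ψ * d ψ : ℕ) : ℂ) := by
    rw [← hn]
    conv_lhs => rw [hs]
    simp [Finset.sum_apply, hd]
  have h2 : n = ∑ ψ : IrrCharacter G, c ψ * d ψ := by exact_mod_cast h1
  rw [h2]
  apply Finset.dvd_sum
  intro ψ _
  by_cases h0 : c ψ = 0
  · rw [h0]; simp
  · exact (hcon ψ ψ.2 (by rw [hc]; exact_mod_cast h0) (d ψ) (hd ψ)).mul_left _

/-- the standard embedding of `Z/p` in the complex units -/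
theorem exists_embedding (p : ℕ) [Fact p.Prime] :
    ∃ ι : Multiplicative (ZMod p) →* ℂˣ, Function.Injective ι ∧
      ∀ u : ℂˣ, u ^ p = 1 → u ∈ ι.range := by
  have hp0 : p ≠ 0 := (Fact.out : p.Prime).ne_zero
  have hne : NeZero p := ⟨hp0⟩
  let ι : Multiplicative (ZMod p) →* ℂˣ := (ZMod.stdAddChar (N := p)).toMonoidHom.toHomUnits
  have hinj : Function.Injective ι := by
    intro a b hab
    have h1 := congrArg Units.val hab
    exact ZMod.injective_stdAddChar h1
  refine ⟨ι, hinj, ?_⟩
  intro u hu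
  let ζ : ℂˣ := ι (Multiplicative.ofAdd 1)
  have hζ : orderOf ζ = p := by
    rw [orderOf_injective ι hinj, orderOf_ofAdd_eq_addOrderOf, ZMod.addOrderOf_one]
  have h2 : IsPrimitiveRoot ζ p := by
    rw [← hζ]; exact IsPrimitiveRoot.orderOf ζ
  obtain ⟨i, -, hi⟩ := (h2.map_of_injective (f := Units.coeHom ℂ) Units.val_injective).eq_pow_of_pow_eq_one
    (ξ := (u : ℂ)) (by rw [← Units.val_pow_eq_pow_val, hu]; rfl)
  refine ⟨(Multiplicative.ofAdd 1) ^ i, ?_⟩
  rw [map_pow]
  exact Units.ext (by simpa using hi)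

theorem exists_extend [Finite G] {p : ℕ} [hp : Fact p.Prime]
    (h : ∀ χ : G → ℂ, IsIrrCharacter G χ → ∀ n : ℕ, χ 1 = n → ¬ p ∣ n → n = 1)
    (P : Sylow p G) (δ : (P : Subgroup G) →* Multiplicative (ZMod p)) :
    ∃ δ' : G →* Multiplicative (ZMod p), ∀ x : (P : Subgroup G), δ' x = δ x := by
  classical
  have : Fintype G := Fintype.ofFinite G
  have : Fintype (P : Subgroup G) := Fintype.ofFinite _
  obtain ⟨ι, hinj, hran⟩ := exists_embedding p
  let lam : ↥(P : Subgroup G) → ℂ := fun x => ((ι.comp δ) x : ℂ)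
  have hlam : IsIrrCharacter (P : Subgroup G) lam := isIrrCharacter_of_unitsHom (ι.comp δ)
  have hlam1 : lam 1 = 1 := by simp [lam]
  obtain ⟨χ, hχ, hin, m, hm, hpm⟩ := exists_irr_not_dvd (p := p)
    (hlam.isCharacter.indFun (P : Subgroup G)) (n := (P : Subgroup G).index)
    (by rw [IndFun.indFun_one, hlam1, mul_one]) P.not_dvd_index
  have hm1 : m = 1 := h χ hχ m hm hpm
  subst hm1
  rw [IndFun.frobenius_reciprocity _ _ _ hχ.isClassFunction] at hin
  have hχ1 : χ 1 = 1 := by simpa using hm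
  have hres : IsIrrCharacter (P : Subgroup G) (fun x : (P : Subgroup G) => χ x) :=
    (hχ.isCharacter.restrict (P : Subgroup G)).isIrr_of_one_eq_one (by simpa using hχ1)
  have heq : lam = fun x : (P : Subgroup G) => χ x := by
    by_contra hne
    exact hin (hlam.classInner_eq_zero hres hne)
  obtain ⟨f, hf⟩ := hχ.isCharacter.exists_hom hχ1
  have hfP : ∀ x : (P : Subgroup G), f x = ι (δ x) := by
    intro x
    apply Units.ext
    rw [← hf]
    exact (congrFun heq x).symm
  -- a power of f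
  have hcop : Nat.Coprime ((P : Subgroup G).index) (Nat.card (P : Subgroup G)) := by
    obtain ⟨j, hj⟩ := IsPGroup.iff_card.mp P.isPGroup'
    rw [hj]
    exact (((Nat.Prime.coprime_iff_not_dvd hp.out).mpr P.not_dvd_index).pow_left j).symm
  obtain ⟨t, ht1, ht2⟩ := Nat.chineseRemainder hcop 0 1
  -- f^t agrees with f on P
  have hft : ∀ x : (P : Subgroup G), f x ^ t = f x := by
    intro x
    have h1 : (f x) ^ Nat.card (P : Subgroup G) = 1 := by
      rw [← map_pow, ← Subgroup.coe_pow, pow_card_eq_one', Subgroup.coe_one, map_one]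
    have h2 : f x ^ t = f x ^ 1 := by
      rw [pow_eq_pow_iff_modEq]
      exact ht2.of_dvd (orderOf_dvd_of_pow_eq_one h1)
    rw [h2, pow_one]
  have hrange : ∀ g : G, (f g) ^ t ∈ ι.range := by
    intro g
    apply hran
    -- the power `g ^ (p-part)` trick
    have h3 : (f g ^ t) ^ Nat.card (P : Subgroup G) = 1 := by
      rw [← pow_mul]
      obtain ⟨s, hs⟩ : (P : Subgroup G).index ∣ t := (Nat.modEq_zero_iff_dvd).mp ht1
      rw [hs, mul_assoc, mul_comm s, ← mul_assoc, mul_comm _ (Nat.card _),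
        (P : Subgroup G).card_mul_index, pow_mul, ← map_pow, pow_card_eq_one', map_one, one_pow]
    -- g ^ t' is a p-element, conjugate into P
    have h4 : (g ^ t) ^ Nat.card (P : Subgroup G) = 1 := by
      rw [← pow_mul]
      obtain ⟨s, hs⟩ : (P : Subgroup G).index ∣ t := (Nat.modEq_zero_iff_dvd).mp ht1
      rw [hs, mul_assoc, mul_comm s, ← mul_assoc, mul_comm _ (Nat.card _),
        (P : Subgroup G).card_mul_index, pow_mul, pow_card_eq_one', one_pow]
    obtain ⟨j, hj⟩ := IsPGroup.iff_card.mp P.isPGroup'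
    have h5 : IsPGroup p (Subgroup.zpowers (g ^ t)) := by
      apply IsPGroup.of_card (n := (Nat.factorization (orderOf (g ^ t)) p))
      rw [Nat.card_zpowers]
      rw [hj] at h4
      obtain ⟨i, -, hi⟩ := (Nat.dvd_prime_pow hp.out).mp (orderOf_dvd_of_pow_eq_one h4)
      rw [hi, hp.out.factorization_pow]
      simp
    obtain ⟨Q, hQ⟩ := h5.exists_le_sylow
    obtain ⟨y, hy⟩ := MulAction.exists_smul_eq G Q P
    have h6 : y * g ^ t * y⁻¹ ∈ (P : Subgroup G) := by
      rw [← hy, Sylow.coe_subgroup_smul]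
      exact Subgroup.smul_mem_pointwise_smul (g ^ t) (MulAut.conj y) (Q : Subgroup G)
        (hQ (Subgroup.mem_zpowers _))
    have h7 : f g ^ t = f (y * g ^ t * y⁻¹) := by
      rw [map_mul, map_mul, map_inv, mul_right_comm, mul_inv_cancel, one_mul, map_pow]
    rw [h7, hfP ⟨_, h6⟩, ← map_pow]
    have h8 : ∀ z : Multiplicative (ZMod p), z ^ p = 1 := by
      intro z
      have := pow_card_eq_one' (x := z)
      have hc : Nat.card (Multiplicative (ZMod p)) = p := by
        rw [Nat.card_congr Multiplicative.toAdd]; simp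
      rwa [hc] at this
    rw [h8, map_one]
  let F : G →* ι.range := (MonoidHom.mk' (fun g => f g ^ t) (fun a b => by
    rw [map_mul, mul_pow])).codRestrict ι.range hrange
  let e := MonoidHom.ofInjective hinj
  refine ⟨e.symm.toMonoidHom.comp F, ?_⟩
  intro x
  change e.symm (F x) = δ x
  rw [MulEquiv.symm_apply_eq]
  apply Subtype.ext
  change f x ^ t = ι (δ x)
  rw [hft, hfP]

/-- **Thompson**: if every irreducible character of degree prime to `p` is linear, then there is
a normal `p`-complement. -/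
theorem hasNormalPComplement [Finite G] {p : ℕ} [hp : Fact p.Prime]
    (h : ∀ χ : G → ℂ, IsIrrCharacter G χ → ∀ n : ℕ, χ 1 = n → ¬ p ∣ n → n = 1) :
    HasNormalPComplement p G := by
  obtain ⟨P⟩ : Nonempty (Sylow p G) := inferInstance
  exact TateApps.hasNormalPComplement_of_extend P (fun δ => exists_extend h P δ)

theorem main [Finite G] (p : ℕ) (hp : p.Prime) :
    (∀ χ : IrrCharacter G, ∃ k : ℕ, (χ : G → ℂ) 1 = (p : ℂ) ^ k) ↔
      ∃ A : Subgroup G, A.Normal ∧ (∀ a ∈ A, ∀ b ∈ A, a * b = b * a) ∧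
        Nat.Coprime (Nat.card A) p ∧ ∃ k : ℕ, A.index = p ^ k := by
  classical
  have hpf : Fact p.Prime := ⟨hp⟩
  have : Fintype G := Fintype.ofFinite G
  constructor
  · intro h
    have h1 : HasNormalPComplement p G := by
      apply hasNormalPComplement
      intro χ hχ n hn hpn
      obtain ⟨k, hk⟩ := h ⟨χ, hχ⟩
      have h2 : n = p ^ k := by
        have : (n : ℂ) = ((p ^ k : ℕ) : ℂ) := by
          rw [← hn]; push_cast; exact hk
        exact_mod_cast this
      rcases Nat.eq_zero_or_pos k with h0 | h0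
      · rw [h2, h0, pow_zero]
      · exact absurd (h2 ▸ dvd_pow_self p h0.ne') hpn
    obtain ⟨N, hN, hNp, k, hk⟩ := PNilp.hasNormalPComplement_iff.mp h1
    have hcop : Nat.Coprime (Nat.card N) p :=
      ((Nat.Prime.coprime_iff_not_dvd hp).mpr hNp).symm
    refine ⟨N, hN, ?_, hcop, k, hk⟩
    have : Fintype N := Fintype.ofFinite N
    have h2 : ∀ θ : N → ℂ, IsIrrCharacter N θ → θ 1 = 1 := by
      intro θ hθ
      obtain ⟨d, hd0, hd⟩ := hθ.exists_degree
      have hne : indFun N θ ≠ 0 := by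
        intro h0
        have h3 := congrFun h0 1
        rw [IndFun.indFun_one] at h3
        simp only [Pi.zero_apply, mul_eq_zero] at h3
        rcases h3 with h3 | h3
        · exact (N.index_ne_zero_of_finite) (by exact_mod_cast h3)
        · exact hθ.one_ne_zero h3
      obtain ⟨χ, hχ, hin⟩ := (hθ.isCharacter.indFun N).exists_constituent hne
      rw [IndFun.frobenius_reciprocity _ _ _ hχ.isClassFunction] at hin
      have hin' := CliffordCorr.classInner_res_ne_zero_comm hin
      have h4 := CliffordCorr.degree_clifford hχ hθ hin'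
      obtain ⟨c, hc⟩ := (hχ.isCharacter.restrict N).classInner_nat hθ.isCharacter
      obtain ⟨k, hk⟩ := h ⟨χ, hχ⟩
      have h5 : d ∣ p ^ k := by
        refine ⟨c * (Clifford.inertia N θ).index, ?_⟩
        have : ((p ^ k : ℕ) : ℂ) = ((d * (c * (Clifford.inertia N θ).index) : ℕ) : ℂ) := by
          push_cast
          rw [← hk]
          change χ 1 = _
          rw [h4, hc, hd]
          ring
        exact_mod_cast this
      have h6 : d ∣ Nat.card N := by
        have h7 := CharDegrees.ito hθ (⊥ : Subgroup N) (by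
          intro a ha b hb
          rw [Subgroup.mem_bot] at ha hb
          rw [ha, hb]) d hd
        rwa [Subgroup.index_bot] at h7
      have h8 : d = 1 := by
        have h9 : Nat.Coprime (Nat.card N) (p ^ k) := hcop.pow_right k
        exact Nat.eq_one_of_dvd_coprimes h9 h6 h5
      rw [hd, h8, Nat.cast_one]
    have h3 := comm_of_forall_irr_linear h2
    intro a ha b hb
    exact congrArg Subtype.val (h3 ⟨a, ha⟩ ⟨b, hb⟩)
  · rintro ⟨A, hA, hab, -, k, hk⟩ χ
    obtain ⟨n, -, hn⟩ := χ.2.exists_degree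
    have h1 := CharDegrees.ito χ.2 A hab n hn
    rw [hk] at h1
    obtain ⟨i, -, hi⟩ := (Nat.dvd_prime_pow hp).mp h1
    refine ⟨i, ?_⟩
    rw [hn, hi]
    push_cast
    rfl

end Cfsg.Agent.Lib.PDegreeNC
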