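import Mathlib
import Cfsg.Agent.Lib.ClSLn

/-!
The projective plane of order 3 and the transvections of SL(3,3), by tables; centralizer orders in SL(3,3) (helper57).
-/

set_option autoImplicit false

namespace Cfsg.Agent.Lib.PG23

open Matrix

abbrev K3 := ZMod 3
abbrev M3 := Matrix (Fin 3) (Fin 3) K3
abbrev S3 := Matrix.SpecialLinearGroup (Fin 3) K3

/-- incidence -/
def inc (i j : Fin 13) : Bool := (i - j).val == 0 || (i - j).val == 1 || (i - j).val == 3 || (i - j).val == 9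

def ptab : List (List K3) := [[1, 0, 0], [0, 1, 0], [0, 0, 1], [1, 1, 0], [0, 1, 1], [1, 1, 1], [1, 2, 1], [1, 2, 2], [1, 0, 1], [1, 2, 0], [0, 1, 2], [1, 1, 2], [1, 0, 2]]
def ltab : List (List K3) := [[0, 0, 1], [1, 0, 0], [1, 2, 0], [1, 2, 1], [0, 1, 2], [1, 0, 2], [1, 1, 0], [1, 2, 2], [1, 1, 2], [1, 1, 1], [0, 1, 1], [1, 0, 1], [0, 1, 0]]
def pt (i : Fin 13) : Fin 3 → K3 := fun k => (ptab.getD i.val []).getD k.val 0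
def ln (i : Fin 13) : Fin 3 → K3 := fun k => (ltab.getD i.val []).getD k.val 0

def mk3 (l : List K3) : M3 := !![l.getD 0 0, l.getD 1 0, l.getD 2 0; l.getD 3 0, l.getD 4 0, l.getD 5 0; l.getD 6 0, l.getD 7 0, l.getD 8 0]

/-- rank one matrices -/
def nil (i j : Fin 13) : M3 := fun a b => pt i a * ln j b

/-- transvections -/
def tauM (i j : Fin 13) (s : Bool) : M3 := if s then 1 + nil i j else 1 - nil i j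

def t0 : M3 := !![1, 0, 1; 0, 1, 0; 0, 0, 1]
def io : M3 := !![2, 0, 0; 0, 2, 0; 0, 0, 1]

def det3 (A : M3) : K3 := A 0 0 * A 1 1 * A 2 2 - A 0 0 * A 1 2 * A 2 1 - A 0 1 * A 1 0 * A 2 2 + A 0 1 * A 1 2 * A 2 0 +
  A 0 2 * A 1 0 * A 2 1 - A 0 2 * A 1 1 * A 2 0

theorem det3_eq (A : M3) : A.det = det3 A := Matrix.det_fin_three A

def cptab : List (List K3) := [[1, 0, 0, 0, 1, 0, 0, 0, 1],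
  [1, 0, 0, 0, 2, 0, 0, 0, 2],
  [],
  [],
  [],
  [],
  [],
  [],
  [1, 0, 0, 0, 2, 0, 0, 2, 2],
  [1, 0, 0, 0, 1, 0, 0, 1, 1],
  [],
  [],
  [],
  [],
  [],
  [],
  [],
  [],
  [],
  [],
  [1, 0, 0, 0, 1, 0, 0, 2, 1],
  [1, 0, 0, 0, 2, 0, 0, 1, 2],
  [],
  [],
  [1, 0, 0, 0, 0, 1, 0, 2, 0],
  [1, 0, 0, 0, 0, 2, 0, 1, 0],
  [0, 2, 0, 1, 0, 0, 0, 0, 1],
  [0, 1, 0, 1, 0, 0, 0, 0, 2],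
  [0, 0, 1, 1, 0, 0, 0, 1, 0],
  [0, 0, 1, 2, 0, 0, 0, 2, 0],
  [],
  [],
  [],
  [],
  [],
  [],
  [0, 1, 0, 1, 0, 0, 0, 1, 2],
  [0, 2, 0, 1, 0, 0, 0, 2, 1],
  [],
  [],
  [],
  [],
  [],
  [],
  [],
  [],
  [],
  [],
  [0, 2, 0, 1, 0, 0, 0, 1, 1],
  [0, 1, 0, 1, 0, 0, 0, 2, 2],
  [],
  [],
  [],
  [],
  [0, 0, 1, 0, 2, 0, 1, 0, 0],
  [0, 0, 1, 0, 1, 0, 2, 0, 0],
  [0, 2, 0, 0, 2, 1, 2, 0, 0],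
  [0, 1, 0, 0, 1, 1, 1, 0, 0],
  [],
  [],
  [],
  [],
  [],
  [],
  [0, 1, 0, 0, 2, 1, 1, 0, 0],
  [0, 2, 0, 0, 1, 1, 2, 0, 0],
  [],
  [],
  [],
  [],
  [],
  [],
  [],
  [],
  [],
  [],
  [0, 1, 0, 0, 0, 1, 1, 0, 0],
  [0, 2, 0, 0, 0, 1, 2, 0, 0],
  [1, 0, 0, 1, 1, 0, 0, 0, 1],
  [1, 0, 0, 1, 2, 0, 0, 0, 2],
  [],
  [],
  [1, 0, 0, 1, 0, 2, 0, 1, 0],
  [1, 0, 0, 1, 0, 1, 0, 2, 0],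
  [1, 0, 0, 1, 1, 0, 0, 1, 1],
  [1, 0, 0, 1, 2, 0, 0, 2, 2],
  [],
  [],
  [],
  [],
  [],
  [],
  [1, 0, 0, 1, 2, 0, 0, 1, 2],
  [1, 0, 0, 1, 1, 0, 0, 2, 1],
  [],
  [],
  [],
  [],
  [],
  [],
  [],
  [],
  [],
  [],
  [],
  [],
  [0, 0, 1, 1, 0, 0, 1, 1, 0],
  [0, 0, 1, 2, 0, 0, 2, 2, 0],
  [],
  [],
  [0, 2, 0, 1, 0, 0, 1, 1, 1],
  [0, 1, 0, 1, 0, 0, 1, 2, 2],
  [0, 1, 0, 1, 0, 0, 1, 0, 2],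
  [0, 2, 0, 1, 0, 0, 1, 0, 1],
  [],
  [],
  [],
  [],
  [],
  [],
  [0, 1, 0, 1, 0, 0, 1, 1, 2],
  [0, 2, 0, 1, 0, 0, 1, 2, 1],
  [],
  [],
  [],
  [],
  [],
  [],
  [],
  [],
  [],
  [],
  [],
  [],
  [1, 0, 0, 1, 0, 2, 1, 1, 0],
  [1, 0, 0, 1, 0, 1, 1, 2, 0],
  [],
  [],
  [1, 0, 0, 1, 2, 0, 1, 2, 2],
  [1, 0, 0, 1, 1, 0, 1, 1, 1],
  [1, 0, 0, 1, 2, 0, 1, 0, 2],
  [1, 0, 0, 1, 1, 0, 1, 0, 1],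
  [],
  [],
  [],
  [],
  [],
  [],
  [1, 0, 0, 1, 1, 0, 1, 2, 1],
  [1, 0, 0, 1, 2, 0, 1, 1, 2],
  [],
  [],
  [],
  [],
  [],
  [],
  [],
  [],
  [],
  [],
  [],
  [],
  [1, 0, 0, 2, 1, 0, 1, 1, 1],
  [1, 0, 0, 2, 2, 0, 1, 2, 2],
  [],
  [],
  [1, 0, 0, 2, 2, 0, 1, 0, 2],
  [1, 0, 0, 2, 1, 0, 1, 0, 1],
  [1, 0, 0, 2, 0, 1, 1, 2, 0],
  [1, 0, 0, 2, 0, 2, 1, 1, 0],
  [],
  [],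
  [],
  [],
  [],
  [],
  [1, 0, 0, 2, 1, 0, 1, 2, 1],
  [1, 0, 0, 2, 2, 0, 1, 1, 2],
  [],
  [],
  [],
  [],
  [],
  [],
  [],
  [],
  [],
  [],
  [],
  [],
  [1, 0, 0, 2, 2, 0, 2, 2, 2],
  [1, 0, 0, 2, 1, 0, 2, 1, 1],
  [],
  [],
  [1, 0, 0, 2, 0, 1, 2, 2, 0],
  [1, 0, 0, 2, 0, 2, 2, 1, 0],
  [1, 0, 0, 2, 2, 0, 2, 1, 2],
  [1, 0, 0, 2, 1, 0, 2, 2, 1],
  [],
  [],
  [],
  [],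
  [],
  [],
  [1, 0, 0, 2, 1, 0, 2, 0, 1],
  [1, 0, 0, 2, 2, 0, 2, 0, 2],
  [],
  [],
  [],
  [],
  [],
  [],
  [],
  [],
  [],
  [],
  [],
  [],
  [1, 0, 0, 0, 2, 0, 1, 0, 2],
  [1, 0, 0, 0, 1, 0, 1, 0, 1],
  [],
  [],
  [1, 0, 0, 0, 2, 0, 1, 1, 2],
  [1, 0, 0, 0, 1, 0, 1, 2, 1],
  [1, 0, 0, 0, 2, 0, 1, 2, 2],
  [1, 0, 0, 0, 1, 0, 1, 1, 1],
  [],
  [],
  [],
  [],
  [],
  [],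
  [1, 0, 0, 0, 0, 1, 1, 2, 0],
  [1, 0, 0, 0, 0, 2, 1, 1, 0],
  [1, 0, 0, 2, 1, 0, 0, 0, 1],
  [1, 0, 0, 2, 2, 0, 0, 0, 2],
  [],
  [],
  [],
  [],
  [],
  [],
  [],
  [],
  [],
  [],
  [1, 0, 0, 2, 0, 1, 0, 2, 0],
  [1, 0, 0, 2, 0, 2, 0, 1, 0],
  [],
  [],
  [1, 0, 0, 2, 2, 0, 0, 2, 2],
  [1, 0, 0, 2, 1, 0, 0, 1, 1],
  [1, 0, 0, 2, 1, 0, 0, 2, 1],
  [1, 0, 0, 2, 2, 0, 0, 1, 2],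
  [],
  [],
  [],
  [],
  [],
  [],
  [],
  [],
  [0, 0, 1, 1, 0, 0, 2, 1, 0],
  [0, 0, 1, 2, 0, 0, 1, 2, 0],
  [],
  [],
  [],
  [],
  [],
  [],
  [],
  [],
  [],
  [],
  [0, 1, 0, 1, 0, 0, 2, 1, 2],
  [0, 2, 0, 1, 0, 0, 2, 2, 1],
  [],
  [],
  [0, 2, 0, 1, 0, 0, 2, 1, 1],
  [0, 1, 0, 1, 0, 0, 2, 2, 2],
  [0, 2, 0, 1, 0, 0, 2, 0, 1],
  [0, 1, 0, 1, 0, 0, 2, 0, 2],
  [],
  [],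
  [],
  [],
  [],
  [],
  [],
  [],
  [1, 0, 0, 1, 0, 2, 2, 1, 0],
  [1, 0, 0, 1, 0, 1, 2, 2, 0],
  [],
  [],
  [],
  [],
  [],
  [],
  [],
  [],
  [],
  [],
  [1, 0, 0, 1, 2, 0, 2, 2, 2],
  [1, 0, 0, 1, 1, 0, 2, 1, 1],
  [],
  [],
  [1, 0, 0, 1, 1, 0, 2, 2, 1],
  [1, 0, 0, 1, 2, 0, 2, 1, 2],
  [1, 0, 0, 1, 1, 0, 2, 0, 1],
  [1, 0, 0, 1, 2, 0, 2, 0, 2],
  [],
  [],
  [],
  [],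
  [],
  [],
  [],
  [],
  [1, 0, 0, 0, 1, 0, 2, 1, 1],
  [1, 0, 0, 0, 2, 0, 2, 2, 2],
  [],
  [],
  [],
  [],
  [],
  [],
  [],
  [],
  [],
  [],
  [1, 0, 0, 0, 1, 0, 2, 2, 1],
  [1, 0, 0, 0, 2, 0, 2, 1, 2],
  [],
  [],
  [1, 0, 0, 0, 1, 0, 2, 0, 1],
  [1, 0, 0, 0, 2, 0, 2, 0, 2],
  [1, 0, 0, 0, 0, 1, 2, 2, 0],
  [1, 0, 0, 0, 0, 2, 2, 1, 0]]

def cP (i j : Fin 13) (s : Bool) : M3 := mk3 (cptab.getD (26 * i.val + 2 * j.val + (if s then 0 else 1)) [])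

theorem conj_table : ∀ i j : Fin 13, inc i j = true → ∀ s : Bool,
    det3 (cP i j s) = 1 ∧ det3 (tauM i j s) = 1 ∧ cP i j s * t0 = tauM i j s * cP i j s := by decide +kernel


end Cfsg.Agent.Lib.PG23
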