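import Cfsg.Agent.Lib.PG5
import Cfsg.Agent.Lib.PG0E
import Cfsg.Agent.S1136

/-!
# Characterization of PGU(3,q), q even: the simple normal subgroup (helper76)
-/

set_option autoImplicit false

namespace Cfsg.Agent.Lib.PG

open Subgroup

section
variable {G : Type*} [Group G] [Finite G] {q : ℕ}

/-- the simple normal subgroup -/
theorem St.getL_aux (h : St G q) {P : Sylow 2 G} {w : G} (hS : Cfsg.IsRankOneSetup G (Sylow 2 G) P w (P : Subgroup G))
    [FaithfulSMul G (Sylow 2 G)] :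
    ∃ L : Subgroup G, L.Normal ∧ Odd L.index ∧ ∃ (F : Type) (_ : Field F) (_ : Fintype F), Fintype.card F = q ^ 2 ∧
      Nonempty (L ≃* Cfsg.PSU 3 F q) := by
  have f2 : Fact (Nat.Prime 2) := ⟨Nat.prime_two⟩
  have hq := h.q_odd.2
  obtain ⟨x, hx, hx2, hx1⟩ := h.exists_inv P
  obtain ⟨y, hy, hy2, hy1, hyx⟩ : ∃ y ∈ P, y * y = 1 ∧ y ≠ 1 ∧ y ≠ x := by
    by_contra hcon
    push Not at hcon
    have h1 := h.inv P
    have h2 : {z : G | z ∈ P ∧ z * z = 1} ⊆ {1, x} := by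
      rintro z ⟨hz, hz2⟩
      by_cases hz1 : z = 1
      · exact Or.inl hz1
      · exact Or.inr (hcon z hz hz2 hz1)
    have h3 := Set.ncard_le_ncard h2 (Set.toFinite _)
    have h4 : ({z : G | z ∈ P ∧ z * z = 1}).ncard = q := h1
    have h5 : ({1, x} : Set G).ncard ≤ 2 := Set.ncard_insert_le _ _ |>.trans (by rw [Set.ncard_singleton])
    omega
  obtain ⟨L, hN, hL, hrest⟩ := Cfsg.Agent.S1136.result hS ⟨x, y, hx1, hy1, Ne.symm hyx, hx2, hy2, (h.PM P hx) y hy hy2⟩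
  refine ⟨L, hN, hL, excl hq ?_ hrest⟩
  intro T
  -- the Sylow subgroups of `L` are Sylow subgroups of `G`
  have hT : IsPGroup 2 ((T : Subgroup L).map L.subtype) := T.2.map _
  obtain ⟨T', hT'⟩ := hT.exists_le_sylow
  have hTL : (T' : Subgroup G) ≤ L := by
    intro x hx
    obtain ⟨k, hk⟩ := two_pow_of_mem (P := T') hx
    exact mem_of_odd_index hN hL hk
  have hTT : (T : Subgroup L) = T'.subtype hTL := by
    have h1 : (T : Subgroup L) ≤ T'.subtype hTL := by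
      intro z hz
      exact hT' ⟨z, hz, rfl⟩
    exact (T.3 (T'.subtype hTL).2 h1).symm
  have hmem : ∀ z : L, z ∈ T ↔ (z : G) ∈ T' := by
    intro z
    show z ∈ (T : Subgroup L) ↔ _
    rw [hTT]; rfl
  constructor
  · rw [← h.cardP T']
    exact Nat.card_congr ⟨fun z => ⟨z.1, (hmem _).1 z.2⟩, fun z => ⟨⟨z.1, hTL z.2⟩, (hmem _).2 z.2⟩, fun z => rfl, fun z => rfl⟩
  · rw [← h.inv T']
    refine Nat.card_congr ⟨fun z => ⟨((z.1 : L) : G), (hmem _).1 z.1.2, ?_⟩, fun z => ⟨⟨⟨z.1, hTL z.2.1⟩, (hmem _).2 z.2.1⟩, ?_⟩,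
      fun z => rfl, fun z => rfl⟩
    · exact congrArg (fun t : T => ((t : L) : G)) z.2
    · exact Subtype.ext (Subtype.ext z.2.2)

end

end Cfsg.Agent.Lib.PG
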