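import Cfsg.Agent.Lib.PG6
import Cfsg.Agent.Lib.PG7
import Cfsg.Agent.Lib.PG8
import Cfsg.Agent.Lib.PG0W
import Cfsg.Agent.Lib.H12PG1

/-!
# Characterization of PGU(3,q), q even: the structure theorem (helper76)
-/

set_option autoImplicit false

namespace Cfsg.Agent.Lib.PG

open Subgroup

section
variable {G : Type*} [Group G] [Finite G] {q : ℕ}

theorem St.final (h : St G q) {F : Type*} [Field F] [Fintype F] (hF : Fintype.card F = q ^ 2) :
    Nonempty (G ≃* (↥(Cfsg.GU 3 F q) ⧸ Subgroup.center ↥(Cfsg.GU 3 F q))) := by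
  have s : Sw G := ⟨fun hPR _ _ hu hu2 hu1 hv hv2 hv1 => exists_swap h hPR hu hu2 hu1 hv hv2 hv1,
    fun hPR _ _ heM heR hw hwP => comm_swap h hPR heM heR hw hwP⟩
  obtain ⟨P⟩ : Nonempty (Sylow 2 G) := inferInstance
  obtain ⟨R, hPR⟩ := h.exR P
  obtain ⟨w, hw, hwP, -⟩ := h.exists_swap' s hPR
  have hS := h.rank1 s hPR hw hwP
  haveI := h.faithful
  obtain ⟨L, hN, hL, F', _, _, hF', ⟨e⟩⟩ := h.getL_aux hS
  exact h.assemble s hF hN hL (h.cent_bot hN hL) hF' e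

end

end Cfsg.Agent.Lib.PG
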