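import Mathlib
import Cfsg.Agent.Lib.PSLTypes

set_option autoImplicit false
set_option linter.unusedSectionVars false

/-!
# Element orders of `PSL₃(q)` and prime graph of `PSL_n(q)` (helper83)
-/

namespace Cfsg.Agent.Lib.PSLSpec83

open Module Polynomial Cfsg.Agent.Lib.PSLSpectrum Cfsg.Agent.Lib.PSLTypes

universe u

theorem mem_range_of_dvd {G : Type*} [Group G] [Finite G] {m : ℕ} (g : G) (h : m ∣ orderOf g) :
    m ∈ Set.range (orderOf : G → ℕ) := by
  obtain ⟨d, hd⟩ := h
  have h0 : 0 < orderOf g := orderOf_pos g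
  have hd0 : d ≠ 0 := by
    rintro rfl
    rw [mul_zero] at hd
    omega
  refine ⟨g ^ d, ?_⟩
  rw [orderOf_pow_of_dvd hd0 (hd ▸ dvd_mul_left d _), hd, Nat.mul_div_cancel _ (Nat.pos_of_ne_zero hd0)]

variable {F : Type*} [Field F] [Finite F]

theorem mem_range_of_end {V : Type*} [AddCommGroup V] [Module F V] [FiniteDimensional F V] {n : ℕ}
    (hV : finrank F V = n) (T : Module.End F V) (hT : LinearMap.det T = 1) {N : ℕ}
    (h : ∀ (k : ℕ) (c : F), T ^ k = c • (1 : Module.End F V) → N ∣ k) :
    N ∈ Set.range (orderOf : Matrix.ProjectiveSpecialLinearGroup (Fin n) F → ℕ) := by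
  obtain ⟨g, hg⟩ := exists_psl hV T hT
  apply mem_range_of_dvd g
  obtain ⟨c, hc⟩ := (hg _).1 (pow_orderOf_eq_one g)
  exact h _ c hc

omit [Finite F] in
theorem pow_eq_smul_of_charpoly_dvd {V : Type*} [AddCommGroup V] [Module F V] [FiniteDimensional F V]
    (T : Module.End F V) {N : ℕ} {c : F} (h : T.charpoly ∣ X ^ N - C c) : T ^ N = c • (1 : Module.End F V) := by
  obtain ⟨Q, hQ⟩ := h
  have h1 := LinearMap.aeval_self_charpoly T
  have h2 : aeval T (X ^ N - C c) = 0 := by rw [hQ, map_mul, h1, zero_mul]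
  rw [map_sub, map_pow, aeval_X, aeval_C, sub_eq_zero] at h2
  rw [h2, Algebra.algebraMap_eq_smul_one]

/-- fixed points of the Frobenius -/
theorem mem_range_of_pow {K : Type*} [Field K] [Algebra F K] {x : K} (hx : x ^ Nat.card F = x) :
    ∃ c : F, algebraMap F K c = x := by
  classical
  have := Fintype.ofFinite F
  rw [Nat.card_eq_fintype_card] at hx
  by_contra hcon
  push Not at hcon
  have hq : 1 < Fintype.card F := Fintype.one_lt_card
  have hne : (X ^ Fintype.card F - X : K[X]) ≠ 0 := FiniteField.X_pow_card_sub_X_ne_zero K hq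
  have h1 : (insert x (Finset.univ.map ⟨algebraMap F K, (algebraMap F K).injective⟩)).card ≤
      (X ^ Fintype.card F - X : K[X]).roots.toFinset.card := by
    apply Finset.card_le_card
    intro y hy
    rw [Multiset.mem_toFinset, mem_roots hne, IsRoot.def, eval_sub, eval_pow, eval_X, sub_eq_zero]
    rcases Finset.mem_insert.1 hy with rfl | hy
    · exact hx
    · obtain ⟨c, -, rfl⟩ := Finset.mem_map.1 hy
      show (algebraMap F K c) ^ _ = algebraMap F K c
      rw [← map_pow, FiniteField.pow_card]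
  have h2 : x ∉ Finset.univ.map ⟨algebraMap F K, (algebraMap F K).injective⟩ := by
    intro h
    obtain ⟨c, -, hc⟩ := Finset.mem_map.1 h
    exact hcon c hc
  rw [Finset.card_insert_of_notMem h2, Finset.card_map, Finset.card_univ] at h1
  have h3 := Multiset.toFinset_card_le (X ^ Fintype.card F - X : K[X]).roots
  have h4 := card_roots' (X ^ Fintype.card F - X : K[X])
  rw [FiniteField.X_pow_card_sub_X_natDegree_eq K hq] at h4
  omega

theorem mem_range_of_pow' {K : Type*} [Field K] [Algebra F K] {x : K} (hx : x ^ (Nat.card F - 1) = 1) :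
    ∃ c : F, algebraMap F K c = x := by
  apply mem_range_of_pow
  have hq : 1 < Nat.card F := Finite.one_lt_card
  have h1 : Nat.card F = (Nat.card F - 1) + 1 := by omega
  rw [h1, pow_succ, hx, one_mul]

/-- the norm of the root of an irreducible polynomial -/
theorem root_pow (f : F[X]) (hf : Irreducible f) (hm : f.Monic) :
    (AdjoinRoot.root f) ^ ((Nat.card F ^ f.natDegree - 1) / (Nat.card F - 1)) =
      AdjoinRoot.of f ((-1) ^ f.natDegree * f.coeff 0) := by
  have : Fact (Irreducible f) := ⟨hf⟩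
  have : Module.Finite F (AdjoinRoot f) := (AdjoinRoot.powerBasis hf.ne_zero).finite
  have hfin : Finite (AdjoinRoot f) := Module.finite_of_finite F
  have hcard : Nat.card (AdjoinRoot f) = Nat.card F ^ f.natDegree := by
    have h1 := Module.natCard_eq_pow_finrank (K := F) (V := AdjoinRoot f)
    rw [h1, (AdjoinRoot.powerBasis hf.ne_zero).finrank, AdjoinRoot.powerBasis_dim]
  have h1 := FiniteField.algebraMap_norm_eq_pow (K := F) (x := AdjoinRoot.root f)
  rw [hcard] at h1
  rw [← h1, AdjoinRoot.algebraMap_eq]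
  congr 1
  have h2 := Algebra.PowerBasis.norm_gen_eq_coeff_zero_minpoly (AdjoinRoot.powerBasis hf.ne_zero)
  rw [AdjoinRoot.powerBasis_gen, AdjoinRoot.powerBasis_dim] at h2
  rw [h2]
  have h3 := AdjoinRoot.minpoly_powerBasis_gen_of_monic hm
  rw [AdjoinRoot.powerBasis_gen] at h3
  rw [h3]

theorem root_pow_card (f : F[X]) (hf : Irreducible f) (h0 : f.coeff 0 ≠ 0) :
    (AdjoinRoot.root f) ^ (Nat.card F ^ f.natDegree - 1) = 1 := by
  have : Fact (Irreducible f) := ⟨hf⟩
  have : Module.Finite F (AdjoinRoot f) := (AdjoinRoot.powerBasis hf.ne_zero).finite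
  have hfin : Finite (AdjoinRoot f) := Module.finite_of_finite F
  have := Fintype.ofFinite (AdjoinRoot f)
  have hcard : Nat.card (AdjoinRoot f) = Nat.card F ^ f.natDegree := by
    have h1 := Module.natCard_eq_pow_finrank (K := F) (V := AdjoinRoot f)
    rw [h1, (AdjoinRoot.powerBasis hf.ne_zero).finrank, AdjoinRoot.powerBasis_dim]
  rw [← hcard, Nat.card_eq_fintype_card]
  apply FiniteField.pow_card_sub_one_eq_one
  intro h
  rw [← AdjoinRoot.mk_X, AdjoinRoot.mk_eq_zero] at h
  obtain ⟨Q, hQ⟩ := h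
  rcases irreducible_X.isUnit_or_isUnit hQ with h1 | h1
  · exact hf.not_isUnit h1
  · obtain ⟨r, hr, rfl⟩ := isUnit_iff.1 h1
    have h2 := congrArg (fun P : F[X] => P.coeff 0) hQ
    simp only [coeff_X_zero, mul_coeff_zero, coeff_C_zero] at h2
    rcases mul_eq_zero.1 h2.symm with h3 | h3
    · exact h0 h3
    · exact hr.ne_zero h3

theorem dvd_iff (f : F[X]) (N : ℕ) (c : F) :
    f ∣ X ^ N - C c ↔ (AdjoinRoot.root f) ^ N = AdjoinRoot.of f c := by
  rw [← AdjoinRoot.mk_eq_zero, map_sub, map_pow, AdjoinRoot.mk_X, AdjoinRoot.mk_C, sub_eq_zero]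

section three

variable {V : Type*} [AddCommGroup V] [Module F V] [FiniteDimensional F V]

theorem coeff_zero (hV : finrank F V = 3) (T : Module.End F V) (hT : LinearMap.det T = 1) :
    T.charpoly.coeff 0 = -1 := by
  have h1 := LinearMap.det_eq_sign_charpoly_coeff T
  rw [hT, hV] at h1
  have h2 : (-1 : F) ^ 3 = -1 := by ring
  rw [h2] at h1
  rw [h1]; ring

/-- the five cases -/
theorem cases_three (p : ℕ) [hp : Fact p.Prime] [hc : CharP F p] (hV : finrank F V = 3) (T : Module.End F V)
    (hT : LinearMap.det T = 1) :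
    (∃ c : F, T ^ ((Nat.card F ^ 2 + Nat.card F + 1) / Nat.gcd 3 (Nat.card F - 1)) = c • (1 : Module.End F V)) ∨
    (∃ c : F, T ^ ((Nat.card F ^ 2 - 1) / Nat.gcd 3 (Nat.card F - 1)) = c • (1 : Module.End F V)) ∨
    (∃ c : F, T ^ (Nat.card F - 1) = c • (1 : Module.End F V)) ∨
    (∃ c : F, T ^ (p * (Nat.card F - 1) / Nat.gcd 3 (Nat.card F - 1)) = c • (1 : Module.End F V)) ∨
    (p = 2 ∧ ∃ c : F, T ^ 4 = c • (1 : Module.End F V)) := by
  set q := Nat.card F with hq
  have hq1 : 1 < q := Finite.one_lt_card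
  obtain ⟨r, hr⟩ : ∃ r, q = r + 1 := ⟨q - 1, by omega⟩
  have hr1 : q - 1 = r := by omega
  have hr0 : 1 ≤ r := by omega
  set d := Nat.gcd 3 (q - 1) with hd
  have hd0 : 0 < d := Nat.gcd_pos_of_pos_left _ (by norm_num)
  have hd3 : d ∣ 3 := Nat.gcd_dvd_left _ _
  have hdr : d ∣ r := hr1 ▸ Nat.gcd_dvd_right _ _
  obtain ⟨m, hm⟩ := hdr
  obtain ⟨e, he⟩ := hd3
  have hmon := T.charpoly_monic
  have hdeg : T.charpoly.natDegree = 3 := by rw [LinearMap.charpoly_natDegree, hV]
  have h0 := coeff_zero hV T hT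
  have hunit : ∀ a : F, a ≠ 0 → a ^ r = 1 := by
    intro a ha
    have := Fintype.ofFinite F
    rw [← hr1, hq, Nat.card_eq_fintype_card]
    exact FiniteField.pow_card_sub_one_eq_one a ha
  by_cases hroot : ∃ a, T.charpoly.IsRoot a
  · obtain ⟨a, ha⟩ := hroot
    obtain ⟨f, hf⟩ := dvd_iff_isRoot.2 ha
    have hfm : f.Monic := by
      have : (X - C a).Monic := monic_X_sub_C a
      exact this.of_mul_monic_left (hf ▸ hmon)
    have hfd : f.natDegree = 2 := by
      have h1 := congrArg natDegree hf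
      rw [hdeg, (monic_X_sub_C a).natDegree_mul hfm, natDegree_X_sub_C] at h1
      omega
    have haf : a * f.coeff 0 = 1 := by
      have h1 := congrArg (fun P : F[X] => P.coeff 0) hf
      simp only [mul_coeff_zero, coeff_sub, coeff_X_zero, coeff_C_zero, h0] at h1
      linear_combination h1
    have ha0 : a ≠ 0 := left_ne_zero_of_mul_eq_one haf
    by_cases hroot2 : ∃ b, f.IsRoot b
    · obtain ⟨b, hb⟩ := hroot2
      obtain ⟨g, hg⟩ := dvd_iff_isRoot.2 hb
      have hgm : g.Monic := by
        have : (X - C b).Monic := monic_X_sub_C b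
        exact this.of_mul_monic_left (hg ▸ hfm)
      have hgd : g.natDegree = 1 := by
        have h1 := congrArg natDegree hg
        rw [hfd, (monic_X_sub_C b).natDegree_mul hgm, natDegree_X_sub_C] at h1
        omega
      obtain ⟨c, hc'⟩ : ∃ c, g = X - C c := by
        refine ⟨-g.coeff 0, ?_⟩
        rw [hgm.eq_X_add_C hgd]
        simp
      subst hc'
      have hfb : f.coeff 0 = b * c := by
        rw [hg]
        simp [mul_coeff_zero]
      have habc : a * (b * c) = 1 := by rw [← hfb]; exact haf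
      have hb0 : b ≠ 0 := by
        rintro rfl
        rw [zero_mul, mul_zero] at habc
        exact zero_ne_one habc
      have hc0 : c ≠ 0 := by
        rintro rfl
        rw [mul_zero, mul_zero] at habc
        exact zero_ne_one habc
      have hχ : T.charpoly = (X - C a) * ((X - C b) * (X - C c)) := by rw [hf, hg]
      have hlin : ∀ (x y : F) (N : ℕ), x ^ N = y → (X - C x) ∣ X ^ N - C y := by
        intro x y N h
        rw [dvd_iff_isRoot, IsRoot.def, eval_sub, eval_pow, eval_X, eval_C, h, sub_self]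
      have hcop : ∀ x y : F, x ≠ y → IsCoprime (X - C x) (X - C y) := fun x y h =>
        isCoprime_X_sub_C_of_isUnit_sub (sub_ne_zero.2 h).isUnit
      -- a repeated root
      have hrep : ∀ x y : F, x ≠ y → x * (x * y) = 1 → T.charpoly ∣ (X - C x) ^ 2 * (X - C y) →
          ∃ c : F, T ^ (p * (q - 1) / d) = c • (1 : Module.End F V) := by
        intro x y hxy hx hdvd
        have hx0 : x ≠ 0 := left_ne_zero_of_mul_eq_one hx
        have h1 : p * (q - 1) / d = p * m := by
          rw [hr1, hm]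
          rw [show p * (d * m) = d * (p * m) by ring, Nat.mul_div_cancel_left _ hd0]
        have h2 : x ^ m = y ^ m := by
          have h3 : (x ^ 3) ^ m = 1 := by
            rw [← pow_mul, he, show d * e * m = (d * m) * e by ring, ← hm, pow_mul, hunit x hx0, one_pow]
          have h4 : (x * (x * y)) ^ m = 1 := by rw [hx, one_pow]
          have h5 : (x ^ m) * (x ^ m) * x ^ m = (x ^ m) * (x ^ m) * y ^ m := by
            have e1 : (x ^ 3) ^ m = (x ^ m) * (x ^ m) * x ^ m := by ring
            have e2 : (x * (x * y)) ^ m = (x ^ m) * (x ^ m) * y ^ m := by ring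
            rw [← e1, ← e2, h3, h4]
          exact mul_left_cancel₀ (mul_ne_zero (pow_ne_zero _ hx0) (pow_ne_zero _ hx0)) h5
        refine ⟨(x ^ m) ^ p, ?_⟩
        rw [h1]
        apply pow_eq_smul_of_charpoly_dvd
        refine hdvd.trans ?_
        have h6 : (X - C x) * (X - C y) ∣ X ^ m - C (x ^ m) :=
          (hcop x y hxy).mul_dvd (hlin x _ m rfl) (hlin y _ m h2.symm)
        have h7 : (X ^ (p * m) - C ((x ^ m) ^ p) : F[X]) = (X ^ m - C (x ^ m)) ^ p := by
          rw [sub_pow_char, ← C_pow, ← pow_mul (X : F[X]) m p, mul_comm m p]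
        rw [h7]
        have h8 : (X - C x) ^ 2 * (X - C y) ∣ ((X - C x) * (X - C y)) ^ p := by
          have h9 : ((X - C x) * (X - C y)) ^ 2 ∣ ((X - C x) * (X - C y)) ^ p := pow_dvd_pow _ hp.out.two_le
          refine Dvd.dvd.trans ?_ h9
          rw [mul_pow]
          exact mul_dvd_mul_left _ (dvd_pow_self _ two_ne_zero)
        exact h8.trans (pow_dvd_pow_of_dvd h6 p)
      by_cases hab : a = b
      · subst hab
        by_cases hac : a = c
        · subst hac
          -- (X - a)^3
          by_cases hp2 : p = 2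
          · right; right; right; right
            refine ⟨hp2, a ^ 4, ?_⟩
            apply pow_eq_smul_of_charpoly_dvd
            rw [hχ]
            have h7 : (X ^ 4 - C (a ^ 4) : F[X]) = (X - C a) ^ 4 := by
              have hc2 : CharP F 2 := hp2 ▸ hc
              have := sub_pow_char_pow (p := 2) (n := 2) (X : F[X]) (C a)
              rw [C_pow]
              exact this.symm
            rw [h7]
            exact ⟨X - C a, by ring⟩
          · right; right; right; left
            have h1 : p * (q - 1) / d = p * m := by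
              rw [hr1, hm]
              rw [show p * (d * m) = d * (p * m) by ring, Nat.mul_div_cancel_left _ hd0]
            refine ⟨(a ^ m) ^ p, ?_⟩
            rw [h1]
            apply pow_eq_smul_of_charpoly_dvd
            rw [hχ]
            have h7 : (X ^ (p * m) - C ((a ^ m) ^ p) : F[X]) = (X ^ m - C (a ^ m)) ^ p := by
              rw [sub_pow_char, ← C_pow, ← pow_mul (X : F[X]) m p, mul_comm m p]
            rw [h7]
            have h3 : 3 ≤ p := by
              have := hp.out.two_le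
              omega
            have h8 : (X - C a) * ((X - C a) * (X - C a)) ∣ (X - C a) ^ p := by
              refine Dvd.dvd.trans ⟨1, ?_⟩ (pow_dvd_pow (X - C a) h3)
              ring
            exact h8.trans (pow_dvd_pow_of_dvd (hlin a _ m rfl) p)
        · right; right; right; left
          apply hrep a c hac habc
          rw [hχ]
          exact ⟨1, by ring⟩
      · by_cases hac : a = c
        · subst hac
          right; right; right; left
          apply hrep a b hab (by rw [← habc]; ring)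
          rw [hχ]
          exact ⟨1, by ring⟩
        · by_cases hbc : b = c
          · subst hbc
            right; right; right; left
            apply hrep b a (Ne.symm hab) (by rw [← habc]; ring)
            rw [hχ]
            exact ⟨1, by ring⟩
          · right; right; left
            refine ⟨1, ?_⟩
            apply pow_eq_smul_of_charpoly_dvd
            rw [hχ, hr1]
            refine ((hcop a b hab).mul_right (hcop a c hac)).mul_dvd (hlin a _ _ (hunit a ha0)) ?_
            exact (hcop b c hbc).mul_dvd (hlin b _ _ (hunit b hb0)) (hlin c _ _ (hunit c hc0))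
    · -- linear times irreducible quadratic
      right; left
      have hirr : Irreducible f := by
        rw [hfm.irreducible_iff_roots_eq_zero_of_degree_le_three (by omega) (by omega)]
        rw [Multiset.eq_zero_iff_forall_notMem]
        intro b hb
        exact hroot2 ⟨b, (mem_roots hfm.ne_zero).1 hb⟩
      have : Fact (Irreducible f) := ⟨hirr⟩
      have hf0 : f.coeff 0 ≠ 0 := right_ne_zero_of_mul_eq_one haf
      have e1 : q ^ 2 - 1 = r * (q + 1) := by
        rw [hr]
        have : (r + 1) ^ 2 = r * (r + 1 + 1) + 1 := by ring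
        omega
      have h1 : (AdjoinRoot.root f) ^ (q ^ 2 - 1) = 1 := by
        have := root_pow_card f hirr hf0
        rwa [hfd] at this
      have h2 : (AdjoinRoot.root f) ^ (q + 1) = AdjoinRoot.of f (f.coeff 0) := by
        have := root_pow f hirr hfm
        rw [hfd, ← hq, hr1, e1, Nat.mul_div_cancel_left _ hr0] at this
        rw [this]
        congr 1
        ring
      have e2 : (q ^ 2 - 1) / d = m * (q + 1) := by
        rw [e1, hm, show d * m * (q + 1) = d * (m * (q + 1)) by ring, Nat.mul_div_cancel_left _ hd0]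
      obtain ⟨c, hc1⟩ : ∃ c : F, algebraMap F (AdjoinRoot f) c = (AdjoinRoot.root f) ^ (m * (q + 1)) := by
        apply mem_range_of_pow'
        rw [← hq, hr1, ← pow_mul, show m * (q + 1) * r = (r * (q + 1)) * m by ring, ← e1, pow_mul, h1, one_pow]
      refine ⟨c, ?_⟩
      rw [e2]
      apply pow_eq_smul_of_charpoly_dvd
      rw [hf]
      have hac : a ^ (m * (q + 1)) = c := by
        apply (AdjoinRoot.of f).injective
        rw [← AdjoinRoot.algebraMap_eq, hc1, AdjoinRoot.algebraMap_eq, map_pow]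
        have h3 : (AdjoinRoot.of f a) ^ (m * (q + 1)) * ((AdjoinRoot.root f) ^ (q + 1)) ^ (m * (q + 1)) = 1 := by
          rw [h2, ← mul_pow, ← map_mul, haf, map_one, one_pow]
        have h4 : (AdjoinRoot.root f) ^ (m * (q + 1)) * ((AdjoinRoot.root f) ^ (q + 1)) ^ (m * (q + 1)) = 1 := by
          rw [← pow_mul, ← pow_add]
          have h5 : m * (q + 1) + (q + 1) * (m * (q + 1)) = (q ^ 2 - 1) * (m + e) := by
            rw [e1]
            have h6 : m * (q + 2) = r * (m + e) := by
              rw [hr, hm]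
              have : m * (d * m + 1 + 2) = m * (d * m + 3) := by ring
              rw [this, he]
              ring
            calc m * (q + 1) + (q + 1) * (m * (q + 1)) = (q + 1) * (m * (q + 2)) := by ring
              _ = r * (q + 1) * (m + e) := by rw [h6]; ring
          rw [h5, pow_mul, h1, one_pow]
        have h5 : ((AdjoinRoot.root f) ^ (q + 1)) ^ (m * (q + 1)) ≠ 0 := by
          intro h
          rw [h, mul_zero] at h4
          exact zero_ne_one h4
        exact mul_right_cancel₀ h5 (h3.trans h4.symm)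
      refine IsCoprime.mul_dvd ?_ ?_ ?_
      · rw [(prime_X_sub_C a).irreducible.coprime_iff_not_dvd]
        intro h
        exact hroot2 ⟨a, dvd_iff_isRoot.1 h⟩
      · rw [dvd_iff_isRoot, IsRoot.def, eval_sub, eval_pow, eval_X, eval_C, hac, sub_self]
      · rw [dvd_iff, ← hc1, AdjoinRoot.algebraMap_eq]
  · -- irreducible cubic
    left
    have hirr : Irreducible T.charpoly := by
      rw [hmon.irreducible_iff_roots_eq_zero_of_degree_le_three (by omega) (by omega)]
      rw [Multiset.eq_zero_iff_forall_notMem]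
      intro b hb
      exact hroot ⟨b, (mem_roots hmon.ne_zero).1 hb⟩
    have : Fact (Irreducible T.charpoly) := ⟨hirr⟩
    have e1 : q ^ 3 - 1 = r * (q ^ 2 + q + 1) := by
      rw [hr]
      have : (r + 1) ^ 3 = r * ((r + 1) ^ 2 + (r + 1) + 1) + 1 := by ring
      omega
    have h2 : (AdjoinRoot.root T.charpoly) ^ (q ^ 2 + q + 1) = 1 := by
      have := root_pow T.charpoly hirr hmon
      rw [hdeg, ← hq, hr1, e1, Nat.mul_div_cancel_left _ hr0, h0] at this
      rw [this]
      have h3 : ((-1 : F) ^ 3 * -1) = 1 := by ring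
      rw [h3, map_one]
    have hdq : d ∣ q ^ 2 + q + 1 := by
      refine ⟨d * m ^ 2 + 3 * m + e, ?_⟩
      rw [hr, hm]
      have : d * (d * m ^ 2 + 3 * m + e) = (d * m) ^ 2 + 3 * (d * m) + d * e := by ring
      rw [this, ← he]
      ring
    obtain ⟨n, hn⟩ := hdq
    have e2 : (q ^ 2 + q + 1) / d = n := by rw [hn, Nat.mul_div_cancel_left _ hd0]
    obtain ⟨c, hc1⟩ : ∃ c : F, algebraMap F (AdjoinRoot T.charpoly) c = (AdjoinRoot.root T.charpoly) ^ n := by
      apply mem_range_of_pow'
      rw [← hq, hr1, ← pow_mul, hm, show n * (d * m) = (d * n) * m by ring, ← hn, pow_mul, h2, one_pow]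
    refine ⟨c, ?_⟩
    rw [e2]
    apply pow_eq_smul_of_charpoly_dvd
    rw [dvd_iff, ← hc1, AdjoinRoot.algebraMap_eq]

end three


/-! ### existence -/

omit [Finite F] in
theorem norm_self_apply' (a : F) : Algebra.norm F a = a := by
  rw [Algebra.norm_self]; rfl

theorem coprime_me {d m e r : ℕ} (hd : d = Nat.gcd 3 r) (hm : r = d * m) (he : 3 = d * e) : m.Coprime e := by
  rw [Nat.coprime_iff_gcd_eq_one]
  set g := Nat.gcd m e with hg
  have h1 : g ∣ m := Nat.gcd_dvd_left _ _
  have h2 : g ∣ e := Nat.gcd_dvd_right _ _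
  have h3 : g ∣ 3 := he ▸ h2.mul_left d
  have h4 : g ∣ r := hm ▸ h1.mul_left d
  have h5 : g ∣ d := hd ▸ Nat.dvd_gcd h3 h4
  rcases (Nat.dvd_prime Nat.prime_three).1 h3 with h | h
  · exact h
  · exfalso
    rw [h] at h5 h2
    obtain ⟨a, ha⟩ := h5
    obtain ⟨b, hb⟩ := h2
    rw [ha, hb] at he
    have h6 : 3 * a * (3 * b) = 3 := he.symm
    have h7 : 3 * a * (3 * b) = 9 * (a * b) := by ring
    omega

theorem char_dvd_card (p : ℕ) [CharP F p] : p ∣ Nat.card F := by
  have := Fintype.ofFinite F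
  rw [Nat.card_eq_fintype_card, ← CharP.cast_eq_zero_iff F p]
  exact FiniteField.cast_card_eq_zero F

theorem unit_pow {a : F} (ha : a ≠ 0) : a ^ (Nat.card F - 1) = 1 := by
  have := Fintype.ofFinite F
  rw [Nat.card_eq_fintype_card]
  exact FiniteField.pow_card_sub_one_eq_one a ha

section ext

variable {K : Type*} [Field K] [Algebra F K] [Finite K]

theorem z_pow {z : Kˣ} {n : ℕ} (hz : orderOf z = n) {k : ℕ} (h : (z : K) ^ k = 1) : n ∣ k := by
  rw [← hz]
  apply orderOf_dvd_of_pow_eq_one
  apply Units.ext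
  rw [Units.val_pow_eq_pow_val, h, Units.val_one]

theorem z_pow_of_mem {z : Kˣ} {n : ℕ} (hz : orderOf z = n) {k : ℕ} {c : F} (h : (z : K) ^ k = algebraMap F K c) :
    n ∣ k * (Nat.card F - 1) := by
  apply z_pow hz
  have hc : c ≠ 0 := by
    rintro rfl
    rw [map_zero] at h
    exact pow_ne_zero k z.ne_zero h
  rw [pow_mul, h, ← map_pow, unit_pow hc, map_one]

end ext

theorem singer : (Nat.card F ^ 2 + Nat.card F + 1) / Nat.gcd 3 (Nat.card F - 1) ∈
    Set.range (orderOf : Matrix.ProjectiveSpecialLinearGroup (Fin 3) F → ℕ) := by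
  obtain ⟨K, _, _, _, hK, z, -, hz, -⟩ := exists_ext F 3 (by norm_num)
  have : FiniteDimensional F K := Module.Finite.of_finite
  set q := Nat.card F with hq
  have hq1 : 1 < q := Finite.one_lt_card
  obtain ⟨r, hr⟩ : ∃ r, q = r + 1 := ⟨q - 1, by omega⟩
  have hr1 : q - 1 = r := by omega
  have hr0 : 1 ≤ r := by omega
  set d := Nat.gcd 3 (q - 1) with hd
  have hd0 : 0 < d := Nat.gcd_pos_of_pos_left _ (by norm_num)
  have hd3 : d ∣ 3 := Nat.gcd_dvd_left _ _
  have hdr : d ∣ r := hr1 ▸ Nat.gcd_dvd_right _ _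
  obtain ⟨m, hm⟩ := hdr
  obtain ⟨e, he⟩ := hd3
  have hcop := coprime_me (hr1 ▸ hd) hm he
  have hn : q ^ 2 + q + 1 = d * (m * (q + 2) + e) := by
    have : d * (m * (q + 2) + e) = (d * m) * (q + 2) + d * e := by ring
    rw [this, ← hm, ← he, hr]; ring
  rw [hn, Nat.mul_div_cancel_left _ hd0]
  refine mem_range_of_end hK (Algebra.lmul F K ((z : K) ^ (q - 1))) ?_ ?_
  · show Algebra.norm F ((z : K) ^ (q - 1)) = 1
    rw [map_pow]
    apply unit_pow
    rw [Ne, Algebra.norm_eq_zero_iff]
    exact z.ne_zero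
  · intro k c h
    rw [lmul_pow_eq_smul_one_iff, ← pow_mul, hr1] at h
    have h1 := z_pow_of_mem hz h
    rw [← hq, hr1] at h1
    have e1 : q ^ 3 - 1 = r * (d * (m * (q + 2) + e)) := by
      rw [← hn, hr]
      have : (r + 1) ^ 3 = r * ((r + 1) ^ 2 + (r + 1) + 1) + 1 := by ring
      omega
    rw [e1] at h1
    have h2 : r * (d * (m * (q + 2) + e)) ∣ r * (d * (m * k)) := by
      refine h1.trans ⟨1, ?_⟩
      rw [hm]; ring
    have h3 := Nat.dvd_of_mul_dvd_mul_left hd0 (Nat.dvd_of_mul_dvd_mul_left hr0 h2)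
    have h4 : (m * (q + 2) + e).Coprime m := by
      rw [Nat.coprime_comm, Nat.coprime_iff_gcd_eq_one, Nat.gcd_mul_left_add_right]
      exact hcop
    exact h4.dvd_of_dvd_mul_left h3

theorem torus2 : (Nat.card F ^ 2 - 1) / Nat.gcd 3 (Nat.card F - 1) ∈
    Set.range (orderOf : Matrix.ProjectiveSpecialLinearGroup (Fin 3) F → ℕ) := by
  obtain ⟨K, _, _, _, hK, z, -, hz, -⟩ := exists_ext F 2 (by norm_num)
  have : FiniteDimensional F K := Module.Finite.of_finite
  set q := Nat.card F with hq
  have hq1 : 1 < q := Finite.one_lt_card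
  obtain ⟨r, hr⟩ : ∃ r, q = r + 1 := ⟨q - 1, by omega⟩
  have hr1 : q - 1 = r := by omega
  have hr0 : 1 ≤ r := by omega
  set d := Nat.gcd 3 (q - 1) with hd
  have hd0 : 0 < d := Nat.gcd_pos_of_pos_left _ (by norm_num)
  have hd3 : d ∣ 3 := Nat.gcd_dvd_left _ _
  have hdr : d ∣ r := hr1 ▸ Nat.gcd_dvd_right _ _
  obtain ⟨m, hm⟩ := hdr
  obtain ⟨e, he⟩ := hd3
  have hcop := coprime_me (hr1 ▸ hd) hm he
  have e1 : q ^ 2 - 1 = r * (q + 1) := by
    rw [hr]
    have : (r + 1) ^ 2 = r * (r + 1 + 1) + 1 := by ring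
    omega
  have e2 : (q ^ 2 - 1) / d = m * (q + 1) := by
    rw [e1, hm, show d * m * (q + 1) = d * (m * (q + 1)) by ring, Nat.mul_div_cancel_left _ hd0]
  rw [e2]
  have hnz : Algebra.norm F (z : K) ≠ 0 := by
    rw [Ne, Algebra.norm_eq_zero_iff]
    exact z.ne_zero
  have hnorm : algebraMap F K (Algebra.norm F (z : K)) = (z : K) ^ (q + 1) := by
    rw [FiniteField.algebraMap_norm_eq_pow]
    congr 1
    have h1 := Module.natCard_eq_pow_finrank (K := F) (V := K)
    rw [h1, hK, ← hq, hr1, e1, Nat.mul_div_cancel_left _ hr0]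
  have hV : finrank F (K × F) = 3 := by rw [finrank_prod, hK, finrank_self]
  refine mem_range_of_end hV ((Algebra.lmul F K (z : K)).prodMap (Algebra.lmul F F (Algebra.norm F (z : K))⁻¹)) ?_ ?_
  · rw [LinearMap.det_prodMap]
    show Algebra.norm F (z : K) * Algebra.norm F (Algebra.norm F (z : K))⁻¹ = 1
    rw [norm_self_apply', mul_inv_cancel₀ hnz]
  · intro k c h
    rw [prodMap_pow', prodMap_eq_smul_one_iff, lmul_pow_eq_smul_one_iff, lmul_pow_eq_smul_one_iff] at h
    obtain ⟨h1, h2⟩ := h
    have h3 := z_pow_of_mem hz h1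
    rw [← hq, hr1, e1, mul_comm k r] at h3
    obtain ⟨j, hj⟩ := Nat.dvd_of_mul_dvd_mul_left hr0 h3
    have h4 : (z : K) ^ ((q + 2) * k) = 1 := by
      have h5 : (z : K) ^ ((q + 2) * k) = (z : K) ^ k * ((z : K) ^ (q + 1)) ^ k := by
        rw [← pow_mul, ← pow_add]; congr 1; ring
      rw [h5, ← hnorm, h1, ← map_pow, ← map_mul]
      have h6 : c = ((Algebra.norm F (z : K))⁻¹) ^ k := h2.symm
      rw [h6, ← mul_pow, inv_mul_cancel₀ hnz, one_pow, map_one]
    have h5 := z_pow hz h4
    rw [e1, hj] at h5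
    have h6 : (q + 1) * (d * m) ∣ (q + 1) * (d * ((m + e) * j)) := by
      refine Dvd.dvd.trans ?_ (h5.trans ⟨1, ?_⟩)
      · rw [← hm, mul_comm]
      · have : q + 2 = d * (m + e) := by
          rw [mul_add, ← hm, ← he, hr]
        rw [this]; ring
    have h7 := Nat.dvd_of_mul_dvd_mul_left hd0 (Nat.dvd_of_mul_dvd_mul_left (Nat.succ_pos q) h6)
    have h8 : m.Coprime (m + e) := by
      rw [Nat.coprime_iff_gcd_eq_one, Nat.gcd_self_add_right]
      exact hcop
    obtain ⟨i, hi⟩ := h8.dvd_of_dvd_mul_left h7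
    exact ⟨i, by rw [hj, hi]; ring⟩

theorem torus1 : Nat.card F - 1 ∈ Set.range (orderOf : Matrix.ProjectiveSpecialLinearGroup (Fin 3) F → ℕ) := by
  have hq1 : 1 < Nat.card F := Finite.one_lt_card
  obtain ⟨a, ha⟩ := exists_orderOf (F := F) (Nat.card F - 1) (by omega) dvd_rfl
  have hV : finrank F (F × (F × F)) = 3 := by rw [finrank_prod, finrank_prod, finrank_self]
  refine mem_range_of_end hV ((Algebra.lmul F F (a : F)).prodMap ((Algebra.lmul F F (a : F)⁻¹).prodMap 1)) ?_ ?_
  · rw [LinearMap.det_prodMap, LinearMap.det_prodMap, map_one, mul_one]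
    show Algebra.norm F (a : F) * Algebra.norm F (a : F)⁻¹ = 1
    rw [norm_self_apply', norm_self_apply', mul_inv_cancel₀ a.ne_zero]
  · intro k c h
    rw [prodMap_pow', prodMap_pow', prodMap_eq_smul_one_iff, prodMap_eq_smul_one_iff, lmul_pow_eq_smul_one_iff,
      one_pow] at h
    obtain ⟨h1, -, h2⟩ := h
    have h3 : c = 1 := by
      have h4 : (1 : F) • (1 : Module.End F F) = c • 1 := by rw [one_smul]; exact h2
      exact (smul_one_inj h4).symm
    rw [h3, map_one] at h1
    exact z_pow ha h1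

theorem parab (p : ℕ) [hp : Fact p.Prime] [CharP F p] : p * (Nat.card F - 1) / Nat.gcd 3 (Nat.card F - 1) ∈
    Set.range (orderOf : Matrix.ProjectiveSpecialLinearGroup (Fin 3) F → ℕ) := by
  set q := Nat.card F with hq
  have hq1 : 1 < q := Finite.one_lt_card
  obtain ⟨r, hr⟩ : ∃ r, q = r + 1 := ⟨q - 1, by omega⟩
  have hr1 : q - 1 = r := by omega
  have hr0 : 1 ≤ r := by omega
  set d := Nat.gcd 3 (q - 1) with hd
  have hd0 : 0 < d := Nat.gcd_pos_of_pos_left _ (by norm_num)
  have hd3 : d ∣ 3 := Nat.gcd_dvd_left _ _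
  have hdr : d ∣ r := hr1 ▸ Nat.gcd_dvd_right _ _
  obtain ⟨m, hm⟩ := hdr
  obtain ⟨e, he⟩ := hd3
  have hcop := coprime_me (hr1 ▸ hd) hm he
  have h1 : p * (q - 1) / d = p * m := by
    rw [hr1, hm]
    rw [show p * (d * m) = d * (p * m) by ring, Nat.mul_div_cancel_left _ hd0]
  rw [h1]
  obtain ⟨a, ha⟩ := exists_orderOf (F := F) (Nat.card F - 1) (by omega) dvd_rfl
  obtain ⟨U, hU1, ⟨v, hv, hUv⟩, -, hU3⟩ := exists_unipotent (F := F) p 2 (by norm_num)
  have hV : finrank F ((Fin 2 → F) × F) = 3 := by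
    rw [finrank_prod, finrank_self, finrank_fin_fun]
  refine mem_range_of_end hV (((a : F) • U).prodMap (Algebra.lmul F F (((a : F) ^ 2)⁻¹))) ?_ ?_
  · rw [LinearMap.det_prodMap, LinearMap.det_smul, hU1, finrank_fin_fun, mul_one]
    show (a : F) ^ 2 * Algebra.norm F ((a : F) ^ 2)⁻¹ = 1
    rw [norm_self_apply', mul_inv_cancel₀ (pow_ne_zero 2 a.ne_zero)]
  · intro k c h
    rw [prodMap_pow', prodMap_eq_smul_one_iff, lmul_pow_eq_smul_one_iff, _root_.smul_pow] at h
    obtain ⟨h2, h3⟩ := h
    have hUk : (U ^ k) v = v := by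
      clear h2 h3
      induction k with
      | zero => simp
      | succ k ih => rw [pow_succ, Module.End.mul_apply, hUv, ih]
    have h4 : (a : F) ^ k = c := by
      have h5 := LinearMap.congr_fun h2 v
      rw [LinearMap.smul_apply, LinearMap.smul_apply, hUk, Module.End.one_apply] at h5
      exact smul_left_injective F hv h5
    have h5 : U ^ k = 1 := by
      rw [← h4] at h2
      have h6 : (a : F) ^ k ≠ 0 := pow_ne_zero k a.ne_zero
      exact smul_right_injective _ h6 h2
    have h6 : p ∣ k := by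
      have := hU3 k h5 0 (by norm_num)
      simpa using this
    have h7 : (a : F) ^ (3 * k) = 1 := by
      have h8 : ((((a : F) ^ 2)⁻¹) : F) ^ k = (a : F) ^ k := by rw [h4]; exact h3
      have h9 : (a : F) ^ (3 * k) = (a : F) ^ k * ((a : F) ^ 2) ^ k := by
        rw [← pow_mul, ← pow_add]; congr 1; ring
      rw [h9, ← h8, ← mul_pow, inv_mul_cancel₀ (pow_ne_zero 2 a.ne_zero), one_pow]
    have h8 := z_pow ha h7
    rw [← hq, hr1, hm, he, mul_assoc] at h8
    have h9 := hcop.dvd_of_dvd_mul_left (Nat.dvd_of_mul_dvd_mul_left hd0 h8)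
    have h10 : p.Coprime m := by
      rw [hp.out.coprime_iff_not_dvd]
      intro h
      have h11 : p ∣ r := hm ▸ h.mul_left d
      have h12 : p ∣ r + 1 := by rw [← hr, hq]; exact char_dvd_card p
      exact hp.out.one_lt.ne' (Nat.dvd_one.1 ((Nat.dvd_add_right h11).1 h12))
    exact h10.mul_dvd_of_dvd_of_dvd h6 h9

theorem four (hp : Fact (Nat.Prime 2)) [CharP F 2] : 4 ∈
    Set.range (orderOf : Matrix.ProjectiveSpecialLinearGroup (Fin 3) F → ℕ) := by
  obtain ⟨U, hU1, ⟨v, hv, hUv⟩, -, hU3⟩ := exists_unipotent (F := F) 2 3 (by norm_num)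
  refine mem_range_of_end (V := Fin 3 → F) (by rw [finrank_fin_fun]) U hU1 ?_
  intro k c h
  have h1 := scalar_eq_one_of_fixed hv hUv h
  rw [h1, one_smul] at h
  exact hU3 k h 1 (by norm_num)

theorem spectrum (p : ℕ) [hp : Fact p.Prime] [hc : CharP F p] :
    Set.range (orderOf : Matrix.ProjectiveSpecialLinearGroup (Fin 3) F → ℕ) =
      {m : ℕ | m ∣ (Nat.card F ^ 2 + Nat.card F + 1) / Nat.gcd 3 (Nat.card F - 1) ∨
        m ∣ (Nat.card F ^ 2 - 1) / Nat.gcd 3 (Nat.card F - 1) ∨ m ∣ Nat.card F - 1 ∨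
        m ∣ p * (Nat.card F - 1) / Nat.gcd 3 (Nat.card F - 1) ∨ (p = 2 ∧ m ∣ 4)} := by
  ext m
  constructor
  · rintro ⟨g, rfl⟩
    obtain ⟨T, hT, hg⟩ := exists_end g
    rcases cases_three p (by rw [finrank_fin_fun]) T hT with h | h | h | h | ⟨h2, h⟩
    · exact Or.inl (orderOf_dvd_of_pow_eq_one ((hg _).2 h))
    · exact Or.inr (Or.inl (orderOf_dvd_of_pow_eq_one ((hg _).2 h)))
    · exact Or.inr (Or.inr (Or.inl (orderOf_dvd_of_pow_eq_one ((hg _).2 h))))
    · exact Or.inr (Or.inr (Or.inr (Or.inl (orderOf_dvd_of_pow_eq_one ((hg _).2 h)))))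
    · exact Or.inr (Or.inr (Or.inr (Or.inr ⟨h2, orderOf_dvd_of_pow_eq_one ((hg _).2 h)⟩)))
  · have key : ∀ N : ℕ, N ∈ Set.range (orderOf : Matrix.ProjectiveSpecialLinearGroup (Fin 3) F → ℕ) → m ∣ N →
        m ∈ Set.range (orderOf : Matrix.ProjectiveSpecialLinearGroup (Fin 3) F → ℕ) := by
      rintro _ ⟨g, rfl⟩ h
      exact mem_range_of_dvd g h
    rintro (h | h | h | h | ⟨h2, h⟩)
    · exact key _ singer h
    · exact key _ torus2 h
    · exact key _ torus1 h
    · exact key _ (parab p) h
    · subst h2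
      exact key _ (four hp) h

end Cfsg.Agent.Lib.PSLSpec83
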