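import Mathlib
import Cfsg.Agent.Lib.PSLSpec83
import Cfsg.Agent.Lib.FieldStruct67
import Cfsg.Agent.Lib.PSL2Orders

set_option autoImplicit false
set_option linter.unusedSectionVars false

/-!
# Prime graph of `PSL_n(q)` (helper83)
-/

namespace Cfsg.Agent.Lib.PSLPG83

open Module Polynomial Cfsg.Agent.Lib.PSLSpectrum Cfsg.Agent.Lib.PSLTypes Cfsg.Agent.Lib.PSLSpec83

section arith

theorem dvd_iff {q r : ℕ} (hq : 1 ≤ q) (k : ℕ) : r ∣ q ^ k - 1 ↔ orderOf ((q : ℕ) : ZMod r) ∣ k := by
  have h1 : 1 ≤ q ^ k := Nat.one_le_pow _ _ hq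
  rw [orderOf_dvd_iff_pow_eq_one, ← ZMod.natCast_eq_zero_iff, Nat.cast_sub h1, Nat.cast_pow, Nat.cast_one, sub_eq_zero]

theorem c1 {R : Type*} [Ring R] (a : R) : a * (a - 1) = (a - 1) * a :=
  ((Commute.refl a).sub_right (Commute.one_right a)).eq

theorem c2 {R : Type*} [Ring R] {a b : R} (h : a * b = b * a) : (a - 1) * (b - 1) = (b - 1) * (a - 1) := by
  have h' : Commute a b := h
  exact ((h'.sub_right (Commute.one_right a)).sub_left (Commute.one_left _)).eq

theorem c3 {R : Type*} [Ring R] {a b : R} (h : a * b = b * a) :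
    a * ((a - 1) * (b - 1)) = ((a - 1) * (b - 1)) * a := by
  have h' : Commute a b := h
  exact (((Commute.refl a).sub_right (Commute.one_right a)).mul_right (h'.sub_right (Commute.one_right a))).eq

end arith

universe u v

variable {F : Type u} [Field F] [Finite F]

/-! ### existence -/

theorem eq_one_of_coprime {c : F} {N : ℕ} (hN0 : N ≠ 0) (h1 : c ^ N = 1) (hN : N.Coprime (Nat.card F - 1)) : c = 1 := by
  have hc : c ≠ 0 := by
    rintro rfl
    rw [zero_pow hN0] at h1
    exact zero_ne_one h1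
  have h2 := unit_pow hc
  have h3 : orderOf c ∣ 1 := by
    rw [← Nat.coprime_iff_gcd_eq_one.1 hN]
    exact Nat.dvd_gcd (orderOf_dvd_of_pow_eq_one h1) (orderOf_dvd_of_pow_eq_one h2)
  exact orderOf_eq_one_iff.1 (Nat.dvd_one.1 h3)

theorem norm_eq_one {K : Type*} [Field K] [Algebra F K] [Finite K] {x : K} {N : ℕ} (hN0 : N ≠ 0) (hx : x ^ N = 1)
    (hN : N.Coprime (Nat.card F - 1)) : Algebra.norm F x = 1 := by
  apply eq_one_of_coprime hN0 _ hN
  rw [← map_pow, hx, map_one]

/-- an element of order `N` in an extension of degree `l` -/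
theorem exists_elt {l N : ℕ} (hl : 1 ≤ l) (hN0 : N ≠ 0) (hN : N ∣ Nat.card F ^ l - 1) :
    ∃ (K : Type) (_ : Field K) (_ : Algebra F K) (_ : Finite K), finrank F K = l ∧ ∃ x : Kˣ, orderOf x = N := by
  obtain ⟨K, _, _, _, hK, -⟩ := exists_ext F l hl
  refine ⟨K, inferInstance, inferInstance, inferInstance, hK, ?_⟩
  have : FiniteDimensional F K := Module.Finite.of_finite
  apply exists_orderOf (F := K) N (Nat.pos_of_ne_zero hN0)
  have h1 := Module.natCard_eq_pow_finrank (K := F) (V := K)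
  rw [h1, hK]
  exact hN

theorem scalar_one {K : Type*} [Field K] [Algebra F K] [Finite K] {x : Kˣ} {N j : ℕ} {c : F} (hN0 : N ≠ 0) (hx : orderOf x = N)
    (hN : N.Coprime (Nat.card F - 1)) (h : (x : K) ^ j = algebraMap F K c) : c = 1 := by
  apply eq_one_of_coprime hN0 _ hN
  apply (algebraMap F K).injective
  rw [map_pow, ← h, ← pow_mul, mul_comm, pow_mul, map_one]
  have : (x : K) ^ N = 1 := by
    rw [← hx, ← Units.val_pow_eq_pow_val, pow_orderOf_eq_one, Units.val_one]
  rw [this, one_pow]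

theorem exists_one {n l N : ℕ} (hl : 1 ≤ l) (hln : l ≤ n) (hN0 : N ≠ 0) (hN : N ∣ Nat.card F ^ l - 1)
    (hcop : N.Coprime (Nat.card F - 1)) :
    N ∈ Set.range (orderOf : Matrix.ProjectiveSpecialLinearGroup (Fin n) F → ℕ) := by
  obtain ⟨K, _, _, _, hK, x, hx⟩ := exists_elt (F := F) hl hN0 hN
  have : FiniteDimensional F K := Module.Finite.of_finite
  have hxN : (x : K) ^ N = 1 := by
    rw [← hx, ← Units.val_pow_eq_pow_val, pow_orderOf_eq_one, Units.val_one]
  have hV : finrank F (K × (Fin (n - l) → F)) = n := by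
    rw [finrank_prod, hK, finrank_fin_fun]; omega
  refine mem_range_of_end hV ((Algebra.lmul F K (x : K)).prodMap 1) ?_ ?_
  · rw [LinearMap.det_prodMap, map_one, mul_one]
    exact norm_eq_one hN0 hxN hcop
  · intro j c h
    rw [prodMap_pow', prodMap_eq_smul_one_iff, lmul_pow_eq_smul_one_iff] at h
    have h1 := scalar_one hN0 hx hcop h.1
    rw [h1, map_one] at h
    exact z_pow hx h.1

theorem exists_two {n k l r s : ℕ} (hk : 1 ≤ k) (hl : 1 ≤ l) (hkl : k + l ≤ n) (hr : r ≠ 0) (hs : s ≠ 0)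
    (hrs : r.Coprime s) (hrk : r ∣ Nat.card F ^ k - 1) (hsl : s ∣ Nat.card F ^ l - 1)
    (hcr : r.Coprime (Nat.card F - 1)) (hcs : s.Coprime (Nat.card F - 1)) :
    r * s ∈ Set.range (orderOf : Matrix.ProjectiveSpecialLinearGroup (Fin n) F → ℕ) := by
  obtain ⟨K, _, _, _, hK, x, hx⟩ := exists_elt (F := F) hk hr hrk
  obtain ⟨L, _, _, _, hL, y, hy⟩ := exists_elt (F := F) hl hs hsl
  have : FiniteDimensional F K := Module.Finite.of_finite
  have : FiniteDimensional F L := Module.Finite.of_finite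
  have hxN : (x : K) ^ r = 1 := by
    rw [← hx, ← Units.val_pow_eq_pow_val, pow_orderOf_eq_one, Units.val_one]
  have hyN : (y : L) ^ s = 1 := by
    rw [← hy, ← Units.val_pow_eq_pow_val, pow_orderOf_eq_one, Units.val_one]
  have hV : finrank F (K × (L × (Fin (n - k - l) → F))) = n := by
    rw [finrank_prod, finrank_prod, hK, hL, finrank_fin_fun]; omega
  refine mem_range_of_end hV ((Algebra.lmul F K (x : K)).prodMap ((Algebra.lmul F L (y : L)).prodMap 1)) ?_ ?_
  · rw [LinearMap.det_prodMap, LinearMap.det_prodMap, map_one, mul_one]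
    show Algebra.norm F (x : K) * Algebra.norm F (y : L) = 1
    rw [norm_eq_one hr hxN hcr, norm_eq_one hs hyN hcs, mul_one]
  · intro j c h
    rw [prodMap_pow', prodMap_eq_smul_one_iff, lmul_pow_eq_smul_one_iff, prodMap_pow', prodMap_eq_smul_one_iff,
      lmul_pow_eq_smul_one_iff] at h
    have h1 := scalar_one hr hx hcr h.1
    rw [h1, map_one, map_one] at h
    exact hrs.mul_dvd_of_dvd_of_dvd (z_pow hx h.1) (z_pow hy h.2.1)

theorem fixed_pow {V : Type*} [AddCommGroup V] [Module F V] {U : Module.End F V} {v : V} (hUv : U v = v) (k : ℕ) :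
    (U ^ k) v = v := by
  induction k with
  | zero => simp
  | succ k ih => rw [pow_succ, Module.End.mul_apply, hUv, ih]

theorem exists_unip (p : ℕ) [hp : Fact p.Prime] [CharP F p] {n k r : ℕ} (hk : 1 ≤ k) (hkn : k + 2 ≤ n) (hr : r ≠ 0)
    (hrp : r.Coprime p) (hrk : r ∣ Nat.card F ^ k - 1) (hcr : r.Coprime (Nat.card F - 1)) :
    r * p ∈ Set.range (orderOf : Matrix.ProjectiveSpecialLinearGroup (Fin n) F → ℕ) := by
  obtain ⟨K, _, _, _, hK, x, hx⟩ := exists_elt (F := F) hk hr hrk
  have : FiniteDimensional F K := Module.Finite.of_finite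
  have hxN : (x : K) ^ r = 1 := by
    rw [← hx, ← Units.val_pow_eq_pow_val, pow_orderOf_eq_one, Units.val_one]
  obtain ⟨U, hU1, ⟨v, hv, hUv⟩, -, hU3⟩ := exists_unipotent (F := F) p (n - k) (by omega)
  have hV : finrank F (K × (Fin (n - k) → F)) = n := by
    rw [finrank_prod, hK, finrank_fin_fun]; omega
  refine mem_range_of_end hV ((Algebra.lmul F K (x : K)).prodMap U) ?_ ?_
  · rw [LinearMap.det_prodMap, hU1, mul_one]
    exact norm_eq_one hr hxN hcr
  · intro j c h
    rw [prodMap_pow', prodMap_eq_smul_one_iff, lmul_pow_eq_smul_one_iff] at h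
    have h1 := scalar_one hr hx hcr h.1
    rw [h1, map_one, one_smul] at h
    have h2 := hU3 j h.2 0 (by simp; omega)
    rw [zero_add, pow_one] at h2
    exact hrp.mul_dvd_of_dvd_of_dvd (z_pow hx h.1) h2

theorem exists_unip_split (p : ℕ) [hp : Fact p.Prime] [CharP F p] {n r : ℕ} (hn : 4 ≤ n) (hr : r ≠ 0)
    (hrp : r.Coprime p) (hrq : r ∣ Nat.card F - 1) :
    r * p ∈ Set.range (orderOf : Matrix.ProjectiveSpecialLinearGroup (Fin n) F → ℕ) := by
  obtain ⟨a, ha⟩ := exists_orderOf (F := F) r (Nat.pos_of_ne_zero hr) hrq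
  obtain ⟨U, hU1, ⟨v, hv, hUv⟩, -, hU3⟩ := exists_unipotent (F := F) p (n - 2) (by omega)
  have hV : finrank F ((F × F) × (Fin (n - 2) → F)) = n := by
    rw [finrank_prod, finrank_prod, finrank_self, finrank_fin_fun]; omega
  refine mem_range_of_end hV (((Algebra.lmul F F (a : F)).prodMap (Algebra.lmul F F (a : F)⁻¹)).prodMap U) ?_ ?_
  · rw [LinearMap.det_prodMap, LinearMap.det_prodMap, hU1, mul_one]
    show Algebra.norm F (a : F) * Algebra.norm F (a : F)⁻¹ = 1
    rw [norm_self_apply', norm_self_apply', mul_inv_cancel₀ a.ne_zero]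
  · intro j c h
    rw [prodMap_pow', prodMap_pow', prodMap_eq_smul_one_iff, prodMap_eq_smul_one_iff, lmul_pow_eq_smul_one_iff] at h
    obtain ⟨⟨h1, -⟩, h2⟩ := h
    have h3 : c = 1 := scalar_eq_one_of_fixed hv hUv h2
    rw [h3, one_smul] at h2
    rw [h3, map_one] at h1
    have h4 := hU3 j h2 0 (by simp; omega)
    rw [zero_add, pow_one] at h4
    exact hrp.mul_dvd_of_dvd_of_dvd (z_pow ha h1) h4

/-! ### non-existence -/

/-- lifting an element of order prime to `q - 1` -/
theorem exists_lift {n N : ℕ} (hN0 : N ≠ 0) (hcop : N.Coprime (Nat.card F - 1))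
    (g : Matrix.ProjectiveSpecialLinearGroup (Fin n) F) (hg : orderOf g = N) :
    ∃ T : Module.End F (Fin n → F), T ^ N = 1 ∧ ∀ j, T ^ j = 1 → N ∣ j := by
  obtain ⟨T, hT, hTg⟩ := exists_end g
  obtain ⟨c, hc⟩ := (hTg N).1 (by rw [← hg]; exact pow_orderOf_eq_one g)
  by_cases hc0 : c = 0
  · -- then the space is trivial
    have h1 : LinearMap.det (T ^ N) = 1 := by rw [map_pow, hT, one_pow]
    rw [hc, hc0, zero_smul] at h1
    have hn : n = 0 := by
      by_contra hn
      rw [LinearMap.det_zero, finrank_fin_fun, zero_pow hn] at h1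
      exact zero_ne_one h1
    subst hn
    refine ⟨T, Subsingleton.elim _ _, fun j _ => ?_⟩
    rw [← hg]
    exact orderOf_dvd_of_pow_eq_one ((hTg j).2 ⟨1, Subsingleton.elim _ _⟩)
  · have hcop' : (Nat.card Fˣ).Coprime N := by
      rw [Nat.card_units]
      exact hcop.symm
    obtain ⟨e, he⟩ := (powCoprime hcop').surjective (Units.mk0 c hc0)
    have he' : (e : F) ^ N = c := by
      have := congrArg (fun z : Fˣ => (z : F)) he
      simpa using this
    refine ⟨((e : F)⁻¹) • T, ?_, fun j hj => ?_⟩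
    · rw [_root_.smul_pow, hc, smul_smul, inv_pow, he', inv_mul_cancel₀ hc0, one_smul]
    · rw [← hg]
      apply orderOf_dvd_of_pow_eq_one
      rw [hTg]
      refine ⟨(e : F) ^ j, ?_⟩
      rw [← hj, _root_.smul_pow, smul_smul, inv_pow, mul_inv_cancel₀ (pow_ne_zero _ e.ne_zero), one_smul]

section lin

variable {V : Type v} [AddCommGroup V] [Module F V] [FiniteDimensional F V]

theorem fpf_range {r : ℕ} (hr : (r : F) ≠ 0) {A : Module.End F V} (hA : A ^ r = 1) {x : V}
    (hx : x ∈ LinearMap.range (A - 1)) (hAx : A x = x) : x = 0 := by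
  obtain ⟨y, rfl⟩ := hx
  set x := (A - 1) y with hxdef
  have h1 : (∑ i ∈ Finset.range r, A ^ i) x = (r : F) • x := by
    rw [LinearMap.sum_apply, Finset.sum_congr rfl (fun i _ => fixed_pow hAx i), Finset.sum_const, Finset.card_range,
      Nat.cast_smul_eq_nsmul]
  have h2 : (∑ i ∈ Finset.range r, A ^ i) * (A - 1) = 0 := by rw [geom_sum_mul, hA, sub_self]
  have h3 : (∑ i ∈ Finset.range r, A ^ i) x = 0 := by
    rw [hxdef, ← Module.End.mul_apply, h2]; rfl
  rw [h3] at h1
  exact (smul_eq_zero.1 h1.symm).resolve_left hr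

theorem dvd_finrank {r : ℕ} [hr : Fact r.Prime] (hr0 : (r : F) ≠ 0) {A C : Module.End F V} (hA : A ^ r = 1)
    (hAC : A * C = C * A) (hC : LinearMap.range C ≤ LinearMap.range (A - 1)) :
    orderOf ((Nat.card F : ℕ) : ZMod r) ∣ finrank F (LinearMap.range C) := by
  rw [← dvd_iff Nat.card_pos]
  have hinv : ∀ x ∈ LinearMap.range C, A x ∈ LinearMap.range C := by
    rintro _ ⟨y, rfl⟩
    refine ⟨A y, ?_⟩
    rw [← Module.End.mul_apply, ← Module.End.mul_apply, hAC]
  apply FieldStruct67.card_modEq (A.restrict hinv)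
  · rw [Module.End.pow_restrict]
    ext x
    rw [LinearMap.restrict_apply]
    show (A ^ r) (x : V) = x
    rw [hA]; rfl
  · intro x hx
    apply Subtype.ext
    apply fpf_range hr0 hA (hC x.2)
    exact congrArg Subtype.val hx

theorem eq_bot_of_nilp {M : Module.End F V} {p : ℕ} (hM : M ^ p = 0) {W : Submodule F V} (h : W ≤ W.map M) : W = ⊥ := by
  have h1 : ∀ j : ℕ, W ≤ W.map (M ^ j) := by
    intro j
    induction j with
    | zero => rw [pow_zero, Module.End.one_eq_id, Submodule.map_id]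
    | succ j ih =>
      rw [pow_succ, Module.End.mul_eq_comp, Submodule.map_comp]
      exact ih.trans (Submodule.map_mono h)
  have h2 := h1 p
  rw [hM, Submodule.map_zero] at h2
  exact le_bot_iff.1 h2

end lin

theorem le_of_dvd {n s : ℕ} [hs : Fact s.Prime] (hs0 : ((s : ℕ) : F) ≠ 0) (hcop : s.Coprime (Nat.card F - 1))
    (hsG : s ∣ Nat.card (Matrix.ProjectiveSpecialLinearGroup (Fin n) F)) :
    orderOf ((Nat.card F : ℕ) : ZMod s) ≤ n := by
  obtain ⟨g, hg⟩ := exists_prime_orderOf_dvd_card' s hsG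
  obtain ⟨T, hT, hT'⟩ := exists_lift hs.out.ne_zero hcop g hg
  have h1 := dvd_finrank (C := T - 1) hs0 hT (c1 T) le_rfl
  have h2 : finrank F (LinearMap.range (T - 1)) ≤ n := by
    have := Submodule.finrank_le (LinearMap.range (T - 1))
    rwa [finrank_fin_fun] at this
  have h3 : 0 < finrank F (LinearMap.range (T - 1)) := by
    rw [Nat.pos_iff_ne_zero, Ne, Submodule.finrank_eq_zero, LinearMap.range_eq_bot, sub_eq_zero]
    intro h
    have := hT' 1 (by rw [h, pow_one])
    exact hs.out.one_lt.ne' (Nat.dvd_one.1 this)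
  exact (Nat.le_of_dvd h3 h1).trans h2

theorem rs_none {n r s : ℕ} [hr : Fact r.Prime] [hs : Fact s.Prime] (hr0 : (r : F) ≠ 0) (hs0 : (s : F) ≠ 0)
    (hcr : r.Coprime (Nat.card F - 1)) (hcs : s.Coprime (Nat.card F - 1)) {k l : ℕ}
    (hk : k = orderOf ((Nat.card F : ℕ) : ZMod r)) (hl : l = orderOf ((Nat.card F : ℕ) : ZMod s))
    (hkl : k ≤ l) (hn : n < k + l) (hdvd : ¬ k ∣ l) :
    r * s ∉ Set.range (orderOf : Matrix.ProjectiveSpecialLinearGroup (Fin n) F → ℕ) := by
  rintro ⟨g, hg⟩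
  obtain ⟨T, hT, hT'⟩ := exists_lift (mul_ne_zero hr.out.ne_zero hs.out.ne_zero) (hcr.mul_left hcs) g hg
  have hA : (T ^ s) ^ r = 1 := by rw [← pow_mul, mul_comm, hT]
  have hB : (T ^ r) ^ s = 1 := by rw [← pow_mul, hT]
  have hAB : T ^ s * T ^ r = T ^ r * T ^ s := by rw [← pow_add, ← pow_add, add_comm]
  have hA1 : T ^ s ≠ 1 := by
    intro h
    have h1 := Nat.le_of_dvd hs.out.pos (hT' s h)
    have := hr.out.one_lt
    have := hs.out.pos
    nlinarith
  have hB1 : T ^ r ≠ 1 := by
    intro h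
    have h1 := Nat.le_of_dvd hr.out.pos (hT' r h)
    have := hs.out.one_lt
    have := hr.out.pos
    nlinarith
  generalize T ^ s = A at hA hAB hA1
  generalize T ^ r = B at hB hAB hB1
  have hposA : 0 < finrank F (LinearMap.range (A - 1)) := by
    rw [Nat.pos_iff_ne_zero, Ne, Submodule.finrank_eq_zero, LinearMap.range_eq_bot, sub_eq_zero]
    exact hA1
  have hposB : 0 < finrank F (LinearMap.range (B - 1)) := by
    rw [Nat.pos_iff_ne_zero, Ne, Submodule.finrank_eq_zero, LinearMap.range_eq_bot, sub_eq_zero]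
    exact hB1
  have hkA := dvd_finrank (C := A - 1) hr0 hA (c1 A) le_rfl
  have hlB := dvd_finrank (C := B - 1) hs0 hB (c1 B) le_rfl
  rw [← hk] at hkA
  rw [← hl] at hlB
  have hcom : (A - 1) * (B - 1) = (B - 1) * (A - 1) := c2 hAB
  have hr1 : LinearMap.range ((A - 1) * (B - 1)) ≤ LinearMap.range (A - 1) := LinearMap.range_comp_le_range _ _
  have hr2 : LinearMap.range ((A - 1) * (B - 1)) ≤ LinearMap.range (B - 1) := by
    rw [hcom]; exact LinearMap.range_comp_le_range _ _
  have hle : ∀ W : Submodule F (Fin n → F), finrank F W ≤ n := by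
    intro W
    have := Submodule.finrank_le W
    rwa [finrank_fin_fun] at this
  by_cases h0 : (A - 1) * (B - 1) = 0
  · -- disjoint
    have hdis : LinearMap.range (A - 1) ⊓ LinearMap.range (B - 1) = ⊥ := by
      rw [eq_bot_iff]
      rintro x ⟨hx1, hx2⟩
      rw [Submodule.mem_bot]
      apply fpf_range hr0 hA hx1
      obtain ⟨y, rfl⟩ := hx2
      have := LinearMap.congr_fun h0 y
      rw [Module.End.mul_apply, LinearMap.sub_apply, Module.End.one_apply, LinearMap.zero_apply, sub_eq_zero] at this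
      exact this
    have h1 := Submodule.finrank_sup_add_finrank_inf_eq (LinearMap.range (A - 1)) (LinearMap.range (B - 1))
    rw [hdis, finrank_bot, add_zero] at h1
    have h2 := hle (LinearMap.range (A - 1) ⊔ LinearMap.range (B - 1))
    have h3 := Nat.le_of_dvd hposA hkA
    have h4 := Nat.le_of_dvd hposB hlB
    omega
  · have hpos : 0 < finrank F (LinearMap.range ((A - 1) * (B - 1))) := by
      rw [Nat.pos_iff_ne_zero, Ne, Submodule.finrank_eq_zero, LinearMap.range_eq_bot]
      exact h0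
    have h1 := dvd_finrank (C := (A - 1) * (B - 1)) hr0 hA (c3 hAB) hr1
    have h2 := dvd_finrank (C := (A - 1) * (B - 1)) hs0 hB (by rw [hcom]; exact c3 hAB.symm) hr2
    rw [← hk] at h1
    rw [← hl] at h2
    have h3 := hle (LinearMap.range ((A - 1) * (B - 1)))
    obtain ⟨t, ht⟩ := h2
    rw [ht] at h1 h3 hpos
    rcases Nat.lt_or_ge t 2 with h4 | h4
    · interval_cases t
      · omega
      · rw [mul_one] at h1
        exact hdvd h1
    · have : l * 2 ≤ l * t := Nat.mul_le_mul_left _ h4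
      omega

theorem rp_none (p : ℕ) [hp : Fact p.Prime] [hc : CharP F p] {n r : ℕ} [hr : Fact r.Prime] (hr0 : (r : F) ≠ 0)
    (hcr : r.Coprime (Nat.card F - 1)) {k : ℕ}
    (hk : k = orderOf ((Nat.card F : ℕ) : ZMod r)) (hk2 : 2 ≤ k) (hn : n < k + 2) :
    r * p ∉ Set.range (orderOf : Matrix.ProjectiveSpecialLinearGroup (Fin n) F → ℕ) := by
  rintro ⟨g, hg⟩
  have hcp : p.Coprime (Nat.card F - 1) := by
    rw [hp.out.coprime_iff_not_dvd]
    intro h
    have h1 := char_dvd_card (F := F) p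
    have h2 : 0 < Nat.card F := Nat.card_pos
    have h3 : Nat.card F = (Nat.card F - 1) + 1 := by omega
    rw [h3] at h1
    exact hp.out.one_lt.ne' (Nat.dvd_one.1 ((Nat.dvd_add_right h).1 h1))
  obtain ⟨T, hT, hT'⟩ := exists_lift (mul_ne_zero hr.out.ne_zero hp.out.ne_zero) (hcr.mul_left hcp) g hg
  have hA : (T ^ p) ^ r = 1 := by rw [← pow_mul, mul_comm, hT]
  have hB : (T ^ r) ^ p = 1 := by rw [← pow_mul, hT]
  have hAB : T ^ p * T ^ r = T ^ r * T ^ p := by rw [← pow_add, ← pow_add, add_comm]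
  have hA1 : T ^ p ≠ 1 := by
    intro h
    have h1 := Nat.le_of_dvd hp.out.pos (hT' p h)
    have := hr.out.one_lt
    have := hp.out.pos
    nlinarith
  have hB1 : T ^ r ≠ 1 := by
    intro h
    have h1 := Nat.le_of_dvd hr.out.pos (hT' r h)
    have := hp.out.one_lt
    have := hr.out.pos
    nlinarith
  generalize T ^ p = A at hA hAB hA1
  generalize T ^ r = B at hB hAB hB1
  have hn0 : Nontrivial (Fin n → F) := by
    by_contra h
    rw [not_nontrivial_iff_subsingleton] at h
    exact hA1 (Subsingleton.elim _ _)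
  have hchar : CharP (Module.End F (Fin n → F)) p :=
    charP_of_injective_algebraMap (algebraMap F (Module.End F (Fin n → F))).injective p
  have hM : (B - 1) ^ p = 0 := by
    rw [sub_pow_char_of_commute p (Commute.one_right B), hB, one_pow, sub_self]
  have hposA : 0 < finrank F (LinearMap.range (A - 1)) := by
    rw [Nat.pos_iff_ne_zero, Ne, Submodule.finrank_eq_zero, LinearMap.range_eq_bot, sub_eq_zero]
    exact hA1
  have hkA := dvd_finrank (C := A - 1) hr0 hA (c1 A) le_rfl
  rw [← hk] at hkA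
  have hcom : (A - 1) * (B - 1) = (B - 1) * (A - 1) := c2 hAB
  have hr1 : LinearMap.range ((A - 1) * (B - 1)) ≤ LinearMap.range (A - 1) := LinearMap.range_comp_le_range _ _
  have hmap : LinearMap.range ((A - 1) * (B - 1)) = (LinearMap.range (A - 1)).map (B - 1) := by
    rw [hcom]
    exact LinearMap.range_comp _ _
  have hle : ∀ W : Submodule F (Fin n → F), finrank F W ≤ n := by
    intro W
    have := Submodule.finrank_le W
    rwa [finrank_fin_fun] at this
  by_cases h0 : (A - 1) * (B - 1) = 0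
  · have hdis : LinearMap.range (A - 1) ⊓ LinearMap.ker (A - 1) = ⊥ := by
      rw [eq_bot_iff]
      rintro x ⟨hx1, hx2⟩
      rw [Submodule.mem_bot]
      apply fpf_range hr0 hA hx1
      have : (A - 1) x = 0 := hx2
      rw [LinearMap.sub_apply, Module.End.one_apply, sub_eq_zero] at this
      exact this
    have hdim := LinearMap.finrank_range_add_finrank_ker (A - 1)
    rw [finrank_fin_fun] at hdim
    have htop : LinearMap.range (A - 1) ⊔ LinearMap.ker (A - 1) = ⊤ := by
      apply Submodule.eq_top_of_finrank_eq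
      have h1 := Submodule.finrank_sup_add_finrank_inf_eq (LinearMap.range (A - 1)) (LinearMap.ker (A - 1))
      rw [hdis, finrank_bot, add_zero] at h1
      rw [h1, hdim, finrank_fin_fun]
    have h2 : LinearMap.range (B - 1) = (LinearMap.ker (A - 1)).map (B - 1) := by
      rw [LinearMap.range_eq_map, ← htop, Submodule.map_sup, ← hmap, h0, LinearMap.range_zero, bot_sup_eq]
    have h3 : LinearMap.range (B - 1) ≤ LinearMap.ker (A - 1) := by
      rintro _ ⟨y, rfl⟩
      rw [LinearMap.mem_ker, ← Module.End.mul_apply, h0]; rfl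
    have h4 : 0 < finrank F (LinearMap.range (B - 1)) := by
      rw [Nat.pos_iff_ne_zero, Ne, Submodule.finrank_eq_zero, LinearMap.range_eq_bot, sub_eq_zero]
      exact hB1
    have h5 := Nat.le_of_dvd hposA hkA
    have h6 : LinearMap.range (B - 1) = LinearMap.ker (A - 1) :=
      Submodule.eq_of_le_of_finrank_le h3 (by omega)
    have h7 := eq_bot_of_nilp hM (W := LinearMap.ker (A - 1)) (by rw [← h2, h6])
    rw [← h6] at h7
    rw [h7, finrank_bot] at h4
    omega
  · have hpos : 0 < finrank F (LinearMap.range ((A - 1) * (B - 1))) := by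
      rw [Nat.pos_iff_ne_zero, Ne, Submodule.finrank_eq_zero, LinearMap.range_eq_bot]
      exact h0
    have h1 := dvd_finrank (C := (A - 1) * (B - 1)) hr0 hA (c3 hAB) hr1
    rw [← hk] at h1
    have h2 : LinearMap.range ((A - 1) * (B - 1)) ≠ LinearMap.range (A - 1) := by
      intro h
      have h3 := eq_bot_of_nilp hM (W := LinearMap.range (A - 1)) (by rw [← hmap, h])
      rw [h3, finrank_bot] at hposA
      omega
    have h3 := Submodule.finrank_lt_finrank_of_lt (lt_of_le_of_ne hr1 h2)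
    have h4 := hle (LinearMap.range (A - 1))
    obtain ⟨a, ha⟩ := h1
    obtain ⟨b, hb⟩ := hkA
    rw [ha] at hpos h3
    rw [hb] at h3 h4
    have h5 : a < b := Nat.lt_of_mul_lt_mul_left h3
    have h6 : 0 < a := Nat.pos_of_mul_pos_left hpos
    have h7 : k * 2 ≤ k * b := Nat.mul_le_mul_left _ (by omega)
    omega

theorem coprime_of_two_le {r : ℕ} [hr : Fact r.Prime] (h : 2 ≤ orderOf ((Nat.card F : ℕ) : ZMod r)) :
    r.Coprime (Nat.card F - 1) := by
  rw [hr.out.coprime_iff_not_dvd]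
  intro h1
  have h3 : r ∣ Nat.card F ^ 1 - 1 := by rw [pow_one]; exact h1
  have h2 := (dvd_iff (q := Nat.card F) Nat.card_pos 1).1 h3
  have h4 := Nat.le_of_dvd one_pos h2
  exact absurd (h.trans h4) (by norm_num)

theorem cast_ne {p r : ℕ} [hp : Fact p.Prime] [CharP F p] [hr : Fact r.Prime] (hrp : r ≠ p) : (r : F) ≠ 0 := by
  rw [Ne, CharP.cast_eq_zero_iff F p]
  intro h
  exact hrp ((Nat.prime_dvd_prime_iff_eq hp.out hr.out).1 h).symm

theorem rs_iff (p : ℕ) [hp : Fact p.Prime] [hc : CharP F p] {n r s : ℕ} [hr : Fact r.Prime] [hs : Fact s.Prime]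
    (hrp : r ≠ p) (hsp : s ≠ p) (hrs : r ≠ s)
    (hsG : s ∣ Nat.card (Matrix.ProjectiveSpecialLinearGroup (Fin n) F)) {k l : ℕ}
    (hk : k = orderOf ((Nat.card F : ℕ) : ZMod r)) (hl : l = orderOf ((Nat.card F : ℕ) : ZMod s))
    (h2k : 2 ≤ k) (hkl : k ≤ l) :
    (r * s ∉ Set.range (orderOf : Matrix.ProjectiveSpecialLinearGroup (Fin n) F → ℕ)) ↔ (n < k + l ∧ ¬ k ∣ l) := by
  have hcr := coprime_of_two_le (F := F) (r := r) (by rw [← hk]; exact h2k)
  have hcs := coprime_of_two_le (F := F) (r := s) (by rw [← hl]; exact h2k.trans hkl)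
  have hr0 : (r : F) ≠ 0 := cast_ne hrp
  have hs0 : (s : F) ≠ 0 := cast_ne hsp
  have hrs' : r.Coprime s := (Nat.coprime_primes hr.out hs.out).2 hrs
  constructor
  · intro h
    by_contra hcon
    apply h
    by_cases hkd : k ∣ l
    · have hln : l ≤ n := hl ▸ le_of_dvd hs0 hcs hsG
      have h1 : r ∣ Nat.card F ^ l - 1 := (dvd_iff Nat.card_pos l).2 (hk ▸ hkd)
      have h2 : s ∣ Nat.card F ^ l - 1 := (dvd_iff Nat.card_pos l).2 (hl ▸ dvd_rfl)
      exact exists_one (by omega) hln (mul_ne_zero hr.out.ne_zero hs.out.ne_zero)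
        (hrs'.mul_dvd_of_dvd_of_dvd h1 h2) (hcr.mul_left hcs)
    · have hkn : k + l ≤ n := by
        by_contra h1
        exact hcon ⟨by omega, hkd⟩
      exact exists_two (by omega) (by omega) hkn hr.out.ne_zero hs.out.ne_zero hrs'
        ((dvd_iff Nat.card_pos k).2 (hk ▸ dvd_rfl)) ((dvd_iff Nat.card_pos l).2 (hl ▸ dvd_rfl)) hcr hcs
  · rintro ⟨h1, h2⟩
    exact rs_none hr0 hs0 hcr hcs hk hl hkl h1 h2

theorem rp_iff (p : ℕ) [hp : Fact p.Prime] [hc : CharP F p] {n r : ℕ} (hn : 2 ≤ n) [hr : Fact r.Prime] (hr2 : r ≠ 2)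
    (hrp : r ≠ p) {k : ℕ} (hk : k = orderOf ((Nat.card F : ℕ) : ZMod r)) :
    (r * p ∉ Set.range (orderOf : Matrix.ProjectiveSpecialLinearGroup (Fin n) F → ℕ)) ↔
      (n - 2 < k ∨ (n = 3 ∧ r = 3 ∧ 3 ∣ Nat.card F - 1 ∧ ¬ 9 ∣ Nat.card F - 1)) := by
  have hr0 : (r : F) ≠ 0 := cast_ne hrp
  have hrp' : r.Coprime p := (Nat.coprime_primes hr.out hp.out).2 hrp
  have hpq := char_dvd_card (F := F) p
  have hq1 : 1 < Nat.card F := Finite.one_lt_card
  have hpn : ∀ N : ℕ, N ∣ Nat.card F ^ 3 - 1 ∨ N ∣ Nat.card F ^ 2 - 1 ∨ N ∣ Nat.card F - 1 → ¬ p ∣ N := by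
    have key : ∀ j : ℕ, 1 ≤ j → ¬ p ∣ Nat.card F ^ j - 1 := by
      intro j hj h
      have h1 : 1 ≤ Nat.card F ^ j := Nat.one_le_pow _ _ Nat.card_pos
      have h2 : p ∣ (Nat.card F ^ j - 1) + 1 := by
        rw [Nat.sub_add_cancel h1]
        exact dvd_pow hpq (by omega)
      exact hp.out.one_lt.ne' (Nat.dvd_one.1 ((Nat.dvd_add_right h).1 h2))
    rintro N (h | h | h) hpN
    · exact key 3 (by norm_num) (hpN.trans h)
    · exact key 2 (by norm_num) (hpN.trans h)
    · exact key 1 le_rfl (by rw [pow_one]; exact hpN.trans h)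
  have hk1 : 1 ≤ k := by
    have h1 : ((Nat.card F : ℕ) : ZMod r) ≠ 0 := by
      rw [Ne, ZMod.natCast_eq_zero_iff]
      intro h
      have hFt := Fintype.ofFinite F
      obtain ⟨f, _, hf⟩ := FiniteField.card F p
      rw [Nat.card_eq_fintype_card, hf] at h
      have := hr.out.dvd_of_dvd_pow h
      exact hrp ((Nat.prime_dvd_prime_iff_eq hr.out hp.out).1 this)
    have h2 := ZMod.pow_card_sub_one_eq_one h1
    have h3 := orderOf_dvd_of_pow_eq_one h2
    rw [← hk] at h3
    have h4 := hr.out.one_lt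
    exact Nat.pos_of_dvd_of_pos h3 (by omega)
  have hrk : r ∣ Nat.card F ^ k - 1 := (dvd_iff Nat.card_pos k).2 (hk ▸ dvd_rfl)
  set q := Nat.card F with hq
  set d := Nat.gcd 3 (q - 1) with hd
  have hd0 : 0 < d := Nat.gcd_pos_of_pos_left _ (by norm_num)
  have hd3 : d ∣ 3 := Nat.gcd_dvd_left _ _
  have hdr : d ∣ q - 1 := Nat.gcd_dvd_right _ _
  obtain ⟨m, hm⟩ := hdr
  have hpd : p * (q - 1) / d = p * m := by
    rw [hm, show p * (d * m) = d * (p * m) by ring, Nat.mul_div_cancel_left _ hd0]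
  have hcube : (q ^ 2 + q + 1) ∣ q ^ 3 - 1 := by
    obtain ⟨t, ht⟩ : ∃ t, q = t + 1 := ⟨q - 1, by omega⟩
    refine ⟨t, ?_⟩
    rw [ht]
    have : (t + 1) ^ 3 = ((t + 1) ^ 2 + (t + 1) + 1) * t + 1 := by ring
    omega
  constructor
  · intro h
    by_contra hcon
    push Not at hcon
    obtain ⟨h1, h2⟩ := hcon
    apply h
    by_cases hk2 : 2 ≤ k
    · have hcr := coprime_of_two_le (F := F) (r := r) (by rw [← hq, ← hk]; exact hk2)
      exact exists_unip p hk1 (by omega) hr.out.ne_zero hrp' hrk hcr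
    · have hk' : k = 1 := by omega
      rw [hk', pow_one] at hrk
      by_cases hn4 : 4 ≤ n
      · exact exists_unip_split p hn4 hr.out.ne_zero hrp' hrk
      · have hn3 : n = 3 := by omega
        subst hn3
        have hsp := spectrum (F := F) p
        rw [hsp]
        right; right; right; left
        rw [← hq, ← hd, hpd, mul_comm r p]
        apply mul_dvd_mul_left
        by_cases hr3 : r = 3
        · subst hr3
          have h9 := h2 rfl rfl hrk
          have hd3' : d = 3 := by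
            rw [hd]
            exact Nat.gcd_eq_left hrk
          rw [hm, hd3'] at h9
          exact Nat.dvd_of_mul_dvd_mul_left (by norm_num : 0 < 3) h9
        · rw [hm] at hrk
          refine ((Nat.Coprime.dvd_mul_left ?_).1 hrk)
          rw [hr.out.coprime_iff_not_dvd]
          intro h3
          exact hr3 ((Nat.prime_dvd_prime_iff_eq hr.out Nat.prime_three).1 (h3.trans hd3))
  · rintro (h | ⟨rfl, rfl, h3, h9⟩)
    · by_cases hk2 : 2 ≤ k
      · exact rp_none p hr0 (coprime_of_two_le (F := F) (r := r) (by rw [← hq, ← hk]; exact hk2)) hk hk2 (by omega)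
      · have hn2 : n = 2 := by omega
        subst hn2
        have hFt := Fintype.ofFinite F
        rw [PSL2Orders.spectrum p]
        rw [← Nat.card_eq_fintype_card, ← hq]
        rintro (h1 | h1 | h1)
        · have h2 := Nat.le_of_dvd hp.out.pos h1
          have := hr.out.one_lt
          have := hp.out.pos
          nlinarith
        · exact hpn _ (Or.inr (Or.inr (Nat.div_dvd_of_dvd (Nat.gcd_dvd_right _ _)))) ((dvd_mul_left p r).trans h1)
        · have h4 : (q + 1) ∣ q ^ 2 - 1 := by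
            obtain ⟨t, ht⟩ : ∃ t, q = t + 1 := ⟨q - 1, by omega⟩
            refine ⟨t, ?_⟩
            rw [ht]
            have : (t + 1) ^ 2 = (t + 1 + 1) * t + 1 := by ring
            omega
          have h5 : Nat.gcd 2 (q - 1) ∣ q + 1 := by
            have h6 : q + 1 = 2 + (q - 1) := by omega
            rw [h6]
            exact dvd_add (Nat.gcd_dvd_left _ _) (Nat.gcd_dvd_right _ _)
          exact hpn _ (Or.inr (Or.inl ((Nat.div_dvd_of_dvd h5).trans h4))) ((dvd_mul_left p r).trans h1)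
    · have hsp := spectrum (F := F) p
      rw [hsp]
      have hd3' : d = 3 := by
        rw [hd]
        exact Nat.gcd_eq_left h3
      rintro (h1 | h1 | h1 | h1 | ⟨h1, h2⟩)
      · have h5 : Nat.gcd 3 (q - 1) ∣ q ^ 2 + q + 1 := by
          rw [← hd, hd3']
          obtain ⟨t, ht⟩ := h3
          refine ⟨3 * t ^ 2 + 3 * t + 1, ?_⟩
          have : q = 3 * t + 1 := by omega
          rw [this]; ring
        exact hpn _ (Or.inl ((Nat.div_dvd_of_dvd h5).trans hcube)) ((dvd_mul_left p 3).trans h1)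
      · have h5 : Nat.gcd 3 (q - 1) ∣ q ^ 2 - 1 := by
          refine (Nat.gcd_dvd_right _ _).trans ?_
          obtain ⟨t, ht⟩ : ∃ t, q = t + 1 := ⟨q - 1, by omega⟩
          refine ⟨q + 1, ?_⟩
          rw [ht]
          have h6 : (t + 1) ^ 2 = t * (t + 1 + 1) + 1 := by ring
          have h7 : t + 1 - 1 = t := by omega
          rw [h7]
          omega
        exact hpn _ (Or.inr (Or.inl (Nat.div_dvd_of_dvd h5))) ((dvd_mul_left p 3).trans h1)
      · exact hpn _ (Or.inr (Or.inr dvd_rfl)) ((dvd_mul_left p 3).trans h1)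
      · rw [← hq, ← hd, hpd, mul_comm 3 p] at h1
        have h2 := Nat.dvd_of_mul_dvd_mul_left hp.out.pos h1
        apply h9
        rw [hm, hd3']
        exact mul_dvd_mul_left 3 h2
      · have := Nat.le_of_dvd (by norm_num) h2
        have := hp.out.two_le
        omega

end Cfsg.Agent.Lib.PSLPG83
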