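import Mathlib

set_option autoImplicit false

namespace Cfsg.Agent.Lib.PSQ

abbrev L := Matrix.SpecialLinearGroup (Fin 2) (ZMod 3)

/-- elements of the quaternion group -/
def Qd (a : L) : Prop := a * a = 1 ∨ a * a = -1

instance : DecidablePred Qd := fun a => by unfold Qd; infer_instance

theorem card_L : Fintype.card L = 24 := by decide +kernel

theorem q_mul : ∀ a b : L, Qd a → Qd b → Qd (a * b) := by decide +kernel

theorem q_inv : ∀ a : L, Qd a → Qd a⁻¹ := by decide +kernel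

theorem q_inv_or : ∀ a : L, Qd a → a⁻¹ = a ∨ a⁻¹ = -a := by decide +kernel

theorem q_or : ∀ a : L, Qd a ∨ a * a * a = 1 ∨ a * a * a = -1 := by decide +kernel

theorem q_comm : ∀ a b : L, Qd a → Qd b → a * b = b * a ∨ a * b = -(b * a) := by decide +kernel

theorem q_conj : ∀ w a : L, Qd a → Qd (w * a * w⁻¹) := by decide +kernel

theorem q_conj_or : ∀ w a : L, Qd w → Qd a → w * a * w⁻¹ = a ∨ w * a * w⁻¹ = -a := by decide +kernel

theorem neg_ne : ∀ a : L, -a ≠ a := by decide +kernel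

theorem q_neg {a : L} (h : Qd a) : Qd (-a) := by
  rcases h with h | h
  · left; rw [neg_mul_neg, h]
  · right; rw [neg_mul_neg, h]

theorem q_one : Qd 1 := Or.inl (one_mul _)

/-- the quaternion group as a subgroup -/
def Q : Subgroup L where
  carrier := {a | Qd a}
  mul_mem' := fun {a b} ha hb => q_mul a b ha hb
  one_mem' := q_one
  inv_mem' := fun {a} ha => q_inv a ha

theorem mem_Q {a : L} : a ∈ Q ↔ Qd a := Iff.rfl

structure Sit {G : Type*} [Group G] (f : L × L →* G) (s t : G) : Prop where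
  ker : ∀ p, f p = 1 ↔ p = 1 ∨ p = (-1, -1)
  ss : s * s = 1
  sw : ∀ a b, s * f (a, b) = f (b, a) * s
  ht : t = f (1, -1)
  out : ∀ p, f p ≠ s
  cent : ∀ g, g * t = t * g → ∃ p, g = f p ∨ g = f p * s

variable {G : Type*} [Group G] {f : L × L →* G} {s t : G}

namespace Sit

theorem eq_iff (h : Sit f s t) {p q : L × L} : f p = f q ↔ p = q ∨ p = (-q.1, -q.2) := by
  have h1 : f p = f q ↔ f (p * q⁻¹) = 1 := by
    rw [map_mul, map_inv, mul_inv_eq_one]
  rw [h1, h.ker]
  constructor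
  · rintro (h2 | h2)
    · left; exact mul_inv_eq_one.1 h2
    · right
      have h3 : p = (-1, -1) * q := by rw [← h2]; group
      rw [h3]
      ext : 1
      · show (-1 : L) * q.1 = -q.1
        rw [neg_mul, one_mul]
      · show (-1 : L) * q.2 = -q.2
        rw [neg_mul, one_mul]
  · rintro (h2 | h2)
    · left; rw [h2, mul_inv_cancel]
    · right
      rw [h2]
      ext : 1
      · show -q.1 * q.1⁻¹ = -1
        rw [neg_mul, mul_inv_cancel]
      · show -q.2 * q.2⁻¹ = -1
        rw [neg_mul, mul_inv_cancel]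

theorem f_neg (h : Sit f s t) (a b : L) : f (-a, -b) = f (a, b) := by
  rw [h.eq_iff]; right; rfl

theorem ne_s (h : Sit f s t) (p q : L × L) : f p ≠ f q * s := by
  intro h1
  apply h.out (q⁻¹ * p)
  rw [map_mul, map_inv, h1]; group

theorem sw' (h : Sit f s t) (a b : L) : s * f (a, b) * s = f (b, a) := by
  rw [h.sw, mul_assoc, h.ss, mul_one]

theorem s_inv (h : Sit f s t) : s⁻¹ = s := inv_eq_of_mul_eq_one_left h.ss

/-- the reflections -/
def r (f : L × L →* G) (s : G) (a : L) : G := f (a, a⁻¹) * s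

theorem r_one (_h : Sit f s t) : r f s 1 = s := by
  unfold r
  have : ((1 : L), (1 : L)⁻¹) = 1 := by rw [inv_one]; rfl
  rw [this, map_one, one_mul]

theorem mul_f (a b c d : L) : f (a, b) * f (c, d) = f (a * c, b * d) := by
  rw [← map_mul]; rfl

theorem inv_f (a b : L) : (f (a, b))⁻¹ = f (a⁻¹, b⁻¹) := by
  rw [← map_inv]; rfl

theorem r_mul (h : Sit f s t) (a b : L) : r f s a * r f s b = f (a * b⁻¹, a⁻¹ * b) := by
  unfold r
  calc f (a, a⁻¹) * s * (f (b, b⁻¹) * s) = f (a, a⁻¹) * (s * f (b, b⁻¹) * s) := by group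
    _ = _ := by rw [h.sw', mul_f]

theorem r_sq (h : Sit f s t) (a : L) : r f s a * r f s a = 1 := by
  rw [h.r_mul, mul_inv_cancel, inv_mul_cancel]; exact map_one f

theorem conj_r (h : Sit f s t) (p q a : L) : f (p, q) * r f s a * (f (p, q))⁻¹ = r f s (p * a * q⁻¹) := by
  unfold r
  rw [inv_f]
  calc f (p, q) * (f (a, a⁻¹) * s) * f (p⁻¹, q⁻¹) = f (p, q) * f (a, a⁻¹) * (s * f (p⁻¹, q⁻¹)) := by group
    _ = f (p, q) * f (a, a⁻¹) * f (q⁻¹, p⁻¹) * s := by rw [h.sw, ← mul_assoc]
    _ = _ := by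
      rw [mul_f, mul_f]
      congr 3
      group

theorem conj_s_r (h : Sit f s t) (a : L) : s * r f s a * s⁻¹ = r f s a⁻¹ := by
  unfold r
  rw [h.s_inv]
  calc s * (f (a, a⁻¹) * s) * s = (s * f (a, a⁻¹)) * (s * s) := by group
    _ = f (a⁻¹, a) * s := by rw [h.sw, h.ss, mul_one]
    _ = _ := by rw [inv_inv]

theorem t_comm_f (h : Sit f s t) (p : L × L) : f p * t = t * f p := by
  rw [h.ht, ← map_mul, ← map_mul]
  congr 1
  ext : 1
  · show p.1 * 1 = 1 * p.1
    rw [mul_one, one_mul]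
  · show p.2 * (-1) = (-1) * p.2
    rw [mul_neg, neg_mul, mul_one, one_mul]

theorem t_comm_s (h : Sit f s t) : s * t = t * s := by
  rw [h.ht, h.sw]
  congr 1
  rw [h.eq_iff]; right
  ext : 1
  · rfl
  · show (1 : L) = - -1
    rw [neg_neg]

theorem tt (h : Sit f s t) : t * t = 1 := by
  rw [h.ht, mul_f, one_mul, neg_mul_neg, one_mul]; exact map_one f

theorem t_ne (h : Sit f s t) : t ≠ 1 := by
  rw [h.ht]
  intro h1
  rw [h.ker] at h1
  rcases h1 with h1 | h1
  · have := congrArg Prod.snd h1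
    exact neg_ne 1 this
  · have := congrArg Prod.fst h1
    exact neg_ne 1 this.symm

theorem comm_of (h : Sit f s t) {g : G} (hg : ∃ p, g = f p ∨ g = f p * s) : g * t = t * g := by
  obtain ⟨p, hp | hp⟩ := hg
  · rw [hp]; exact h.t_comm_f p
  · rw [hp, mul_assoc, h.t_comm_s, ← mul_assoc, h.t_comm_f, mul_assoc]

/-- the twisted situation -/
theorem twist (h : Sit f s t) : Sit f (t * s) t := by
  refine ⟨h.ker, ?_, ?_, h.ht, ?_, ?_⟩
  · calc t * s * (t * s) = t * (s * t) * s := by group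
      _ = (t * t) * (s * s) := by rw [h.t_comm_s]; group
      _ = 1 := by rw [h.tt, h.ss, one_mul]
  · intro a b
    rw [mul_assoc, h.sw, ← mul_assoc, ← h.t_comm_f, mul_assoc]
  · intro p hp
    apply h.ne_s p (1, -1)
    rw [← h.ht]; exact hp
  · intro g hg
    obtain ⟨p, hp | hp⟩ := h.cent g hg
    · exact ⟨p, Or.inl hp⟩
    · refine ⟨p * (1, -1), Or.inr ?_⟩
      rw [map_mul, ← h.ht, hp]
      calc f p * s = f p * (t * t) * s := by rw [h.tt, mul_one]
        _ = _ := by group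

theorem r_twist (h : Sit f s t) (a : L) : r f (t * s) a = t * r f s a := by
  unfold r
  rw [← mul_assoc, ← mul_assoc, h.t_comm_f]

/-- subgroups of the centralizer -/
def KK (h : Sit f s t) (H : Subgroup (L × L)) (hsw : ∀ a b, (a, b) ∈ H → (b, a) ∈ H) : Subgroup G where
  carrier := {g | ∃ p ∈ H, g = f p ∨ g = f p * s}
  one_mem' := ⟨1, one_mem _, Or.inl (map_one f).symm⟩
  mul_mem' := by
    rintro x y ⟨p, hp, hx⟩ ⟨⟨a, b⟩, hq, hy⟩
    rcases hx with hx | hx <;> rcases hy with hy | hy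
    · exact ⟨p * (a, b), mul_mem hp hq, Or.inl (by rw [hx, hy, map_mul])⟩
    · exact ⟨p * (a, b), mul_mem hp hq, Or.inr (by rw [hx, hy, map_mul, mul_assoc])⟩
    · exact ⟨p * (b, a), mul_mem hp (hsw _ _ hq), Or.inr (by rw [hx, hy, mul_assoc, h.sw, map_mul, mul_assoc])⟩
    · refine ⟨p * (b, a), mul_mem hp (hsw _ _ hq), Or.inl ?_⟩
      rw [hx, hy, map_mul, ← h.sw' a b]; group
  inv_mem' := by
    rintro x ⟨⟨a, b⟩, hp, hx⟩
    rcases hx with hx | hx
    · exact ⟨(a, b)⁻¹, inv_mem hp, Or.inl (by rw [hx, map_inv])⟩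
    · refine ⟨(b, a)⁻¹, inv_mem (hsw _ _ hp), Or.inr ?_⟩
      rw [hx, mul_inv_rev, h.s_inv, ← map_inv]
      show s * f (a⁻¹, b⁻¹) = f (b⁻¹, a⁻¹) * s
      exact h.sw _ _

theorem mem_KK (h : Sit f s t) {H : Subgroup (L × L)} {hsw : ∀ a b, (a, b) ∈ H → (b, a) ∈ H} {g : G} :
    g ∈ h.KK H hsw ↔ ∃ p ∈ H, g = f p ∨ g = f p * s := Iff.rfl

theorem card_KK (h : Sit f s t) (H : Subgroup (L × L)) (hsw : ∀ a b, (a, b) ∈ H → (b, a) ∈ H)
    (h1 : ((-1 : L), (-1 : L)) ∈ H) : Nat.card (h.KK H hsw) = Nat.card H := by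
  have e1 : Nat.card H = 2 * Nat.card (H.map f) := by
    let g := f.comp H.subtype
    have h2 : g.range = H.map f := by
      rw [MonoidHom.range_comp, Subgroup.range_subtype]
    have h3 : Nat.card g.ker = 2 := by
      have : (g.ker : Set H) = {1, ⟨((-1 : L), (-1 : L)), h1⟩} := by
        ext x
        rw [SetLike.mem_coe, MonoidHom.mem_ker]
        show f x.1 = 1 ↔ _
        rw [h.ker]
        simp only [Set.mem_insert_iff, Set.mem_singleton_iff]
        constructor
        · rintro (h | h)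
          · left; exact Subtype.ext h
          · right; exact Subtype.ext h
        · rintro (h | h)
          · left; rw [h]; rfl
          · right; rw [h]
      have h4 : Nat.card g.ker = (g.ker : Set H).ncard := rfl
      rw [h4, this, Set.ncard_pair]
      intro h5
      have h6 := congrArg (fun x : H => x.1.1) h5
      exact neg_ne 1 h6.symm
    have h4 := g.ker.card_mul_index
    rw [h3, Subgroup.index_ker, h2] at h4
    exact h4.symm
  have e2 : Nat.card (h.KK H hsw) = 2 * Nat.card (H.map f) := by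
    have hs : s ∈ h.KK H hsw := ⟨1, one_mem _, Or.inr (by rw [map_one, one_mul])⟩
    have hf : ∀ x ∈ H.map f, x ∈ h.KK H hsw := by
      rintro x ⟨p, hp, rfl⟩; exact ⟨p, hp, Or.inl rfl⟩
    let φ : Bool × (H.map f) → h.KK H hsw := fun z => if z.1 then ⟨z.2.1 * s, mul_mem (hf _ z.2.2) hs⟩ else ⟨z.2.1, hf _ z.2.2⟩
    have hb : Function.Bijective φ := by
      constructor
      · rintro ⟨b, x, hx⟩ ⟨b', y, hy⟩ hxy
        obtain ⟨p, hp, rfl⟩ := hx
        obtain ⟨q, hq, rfl⟩ := hy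
        cases b <;> cases b'
        · have := congrArg Subtype.val hxy
          exact Prod.ext rfl (Subtype.ext this)
        · exact absurd (congrArg Subtype.val hxy) (h.ne_s p q)
        · exact absurd (congrArg Subtype.val hxy).symm (h.ne_s q p)
        · have := congrArg Subtype.val hxy
          exact Prod.ext rfl (Subtype.ext (mul_right_cancel this))
      · rintro ⟨x, p, hp, hx | hx⟩
        · exact ⟨(false, ⟨f p, p, hp, rfl⟩), Subtype.ext hx.symm⟩
        · exact ⟨(true, ⟨f p, p, hp, rfl⟩), Subtype.ext hx.symm⟩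
    have := Nat.card_congr (Equiv.ofBijective φ hb)
    rw [← this, Nat.card_prod]
    congr 1
    simp
  rw [e1, e2]

end Sit

end Cfsg.Agent.Lib.PSQ
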