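import Cfsg.Agent.Lib.PSQ9

set_option autoImplicit false
set_option linter.unusedSectionVars false

namespace Cfsg.Agent.Lib.PSQ

def UL : List ℕ := [14, 13, 11, 7, 3, 5, 6, 9, 10, 12]

def QL : List ℕ := [15, 1, 2, 4, 8]

theorem VL_UL : ∀ v ∈ Sit.VL, v ≠ 0 → v ∉ QL → v ∈ UL := by decide +kernel

theorem UL_VL : ∀ v ∈ UL, v ∈ Sit.VL ∧ v ≠ 0 ∧ v ∉ QL := by decide +kernel

theorem UL_p : ∀ a ∈ UL, ∃ p ∈ QL, p ∈ Sit.VL ∧ (p ^^^ a) ∈ QL ∧ (p ^^^ a) ∈ Sit.VL := by decide +kernel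

theorem UL_pp : ∀ a ∈ UL, ∀ b ∈ UL, (a ^^^ b) ∈ UL → ∃ p ∈ QL, p ∈ Sit.VL ∧ ((p ^^^ a) ∈ QL ∧ (p ^^^ a) ∈ Sit.VL) ∧
    ((p ^^^ b) ∈ QL ∧ (p ^^^ b) ∈ Sit.VL) := by decide +kernel

theorem dih {G : Type*} [Group G] [Finite G] {x y : G} (hx : x * x = 1) (hy : y * y = 1) :
    (∃ g, (∀ u, u * x = x * u → u * y = y * u → u * g = g * u) ∧ g * x * g⁻¹ = y) ∨
    (∃ z, z ≠ 1 ∧ z * z = 1 ∧ z * x = x * z ∧ z * y = y * z ∧ (∀ u, u * x = x * u → u * y = y * u → u * z = z * u) ∧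
      ∃ g, (z * y = g * y * g⁻¹ ∨ z * y = g * x * g⁻¹)) := by
  have hxi : x⁻¹ = x := inv_eq_of_mul_eq_one_left hx
  have hyi : y⁻¹ = y := inv_eq_of_mul_eq_one_left hy
  obtain ⟨w, hw⟩ : ∃ w, w = x * y := ⟨_, rfl⟩
  have hwi : w⁻¹ = y * x := by rw [hw, mul_inv_rev, hxi, hyi]
  have hpx : ∀ m : ℕ, w ^ m * x = x * (w ^ m)⁻¹ := by
    intro m
    have h1 : x * w * x⁻¹ = w⁻¹ := by
      rw [hwi, hw, hxi]
      calc x * (x * y) * x = (x * x) * y * x := by group
        _ = y * x := by rw [hx, one_mul]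
    have h2 : x * w ^ m * x⁻¹ = (w ^ m)⁻¹ := by rw [← conj_pow, h1, inv_pow]
    rw [← h2, hxi]
    calc w ^ m * x = (x * x) * w ^ m * x := by rw [hx, one_mul]
      _ = _ := by group
  have hpy : ∀ m : ℕ, w ^ m * y = y * (w ^ m)⁻¹ := by
    intro m
    have h1 : y * w * y⁻¹ = w⁻¹ := by
      rw [hwi, hw, hyi]
      calc y * (x * y) * y = y * x * (y * y) := by group
        _ = y * x := by rw [hy, mul_one]
    have h2 : y * w ^ m * y⁻¹ = (w ^ m)⁻¹ := by rw [← conj_pow, h1, inv_pow]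
    rw [← h2, hyi]
    calc w ^ m * y = (y * y) * w ^ m * y := by rw [hy, one_mul]
      _ = _ := by group
  have hcx : ∀ m : ℕ, w ^ m * x * (w ^ m)⁻¹ = w ^ (2 * m) * x := by
    intro m
    rw [mul_assoc, ← hpx m, ← mul_assoc, ← pow_add, ← two_mul]
  have hcy : ∀ m : ℕ, w ^ m * y * (w ^ m)⁻¹ = w ^ (2 * m) * y := by
    intro m
    rw [mul_assoc, ← hpy m, ← mul_assoc, ← pow_add, ← two_mul]
  have hcw : ∀ (m : ℕ) (u : G), u * x = x * u → u * y = y * u → u * w ^ m = w ^ m * u := by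
    intro m u h1 h2
    have h3 : Commute u w := by
      show u * w = w * u
      rw [hw, ← mul_assoc, h1, mul_assoc, h2, ← mul_assoc]
    exact h3.pow_right m
  have hpos : 0 < orderOf w := orderOf_pos w
  have hwn : w ^ orderOf w = 1 := pow_orderOf_eq_one w
  rcases Nat.even_or_odd' (orderOf w) with ⟨m, hm | hm⟩
  · right
    have hzz : w ^ m * w ^ m = 1 := by rw [← pow_add, ← two_mul, ← hm, hwn]
    have hzi : (w ^ m)⁻¹ = w ^ m := inv_eq_of_mul_eq_one_left hzz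
    refine ⟨w ^ m, ?_, hzz, ?_, ?_, hcw m, ?_⟩
    · intro h1
      have := orderOf_le_of_pow_eq_one (by omega) h1
      omega
    · rw [hpx, hzi]
    · rw [hpy, hzi]
    · rcases Nat.even_or_odd' m with ⟨j, hj | hj⟩
      · refine ⟨w ^ j, Or.inl ?_⟩
        rw [hcy j, ← hj]
      · refine ⟨w ^ j, Or.inr ?_⟩
        rw [hcx j, hj, pow_succ, mul_assoc]
        congr 1
        rw [hw, mul_assoc, hy, mul_one]
  · left
    refine ⟨w ^ m, hcw m, ?_⟩
    rw [hcx m]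
    have h1 : w ^ (2 * m) = w⁻¹ := by
      apply eq_inv_of_mul_eq_one_left
      rw [← pow_succ, ← hm, hwn]
    rw [h1, hwi, mul_assoc, hx, mul_one]

namespace Five

open Sit

variable {G : Type*} [Group G] [Finite G] {f : L × L →* G} {s t : G}

theorem ev_QL (h : Sit f s t) {v : ℕ} (hv : v ∈ VL) : ev f s v ∈ PP f s t ↔ v ∈ QL := h.ev_P hv

theorem cc {g a n : G} (h : g * a = a * g) : (n * g * n⁻¹) * (n * a * n⁻¹) = (n * a * n⁻¹) * (n * g * n⁻¹) := by
  calc n * g * n⁻¹ * (n * a * n⁻¹) = n * (g * a) * n⁻¹ := by group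
    _ = n * (a * g) * n⁻¹ := by rw [h]
    _ = _ := by group

theorem ne_one_conj {a n : G} (h : a ≠ 1) : n * a * n⁻¹ ≠ 1 := by
  intro h1
  apply h
  have : a = n⁻¹ * (n * a * n⁻¹) * n := by group
  rw [this, h1]; group

theorem E_of_conj (H : Five f s t) {g n : G} (hn : n ∈ H.NN) (h : n * g * n⁻¹ ∈ H.toSit.E) : g ∈ H.toSit.E :=
  (Subgroup.mem_normalizer_iff.1 hn g).2 h

theorem N_of_conj (H : Five f s t) {g n : G} (hn : n ∈ H.NN) (h : n * g * n⁻¹ ∈ H.NN) : g ∈ H.NN := by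
  have h4 := mul_mem (mul_mem (inv_mem hn) h) hn
  have h5 : n⁻¹ * (n * g * n⁻¹) * n = g := by group
  rwa [h5] at h4

/-- image of `ev a`, `a = p + (p + a)` -/
theorem img_tx (H : Five f s t) {n : G} (hn : n ∈ H.NN) {p a : ℕ} (hnp : n * ev f s p * n⁻¹ = t)
    (hpa : (p ^^^ a) ∈ QL) (hpaV : (p ^^^ a) ∈ VL) (ha0 : a ≠ 0) (haV : a ∈ VL) : ∃ i, n * ev f s a * n⁻¹ = t * x f s i := by
  have h1 : ev f s (p ^^^ a) ∈ PP f s t := (ev_QL H.toSit hpaV).2 hpa
  have h2 := H.N_P hn h1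
  have h3 : n * ev f s a * n⁻¹ = t * (n * ev f s (p ^^^ a) * n⁻¹) := by
    rw [← hnp]
    calc n * ev f s a * n⁻¹ = n * (ev f s p * ev f s (p ^^^ a)) * n⁻¹ := by
          rw [← H.toSit.ev_mul, ← Nat.xor_assoc, Nat.xor_self, Nat.zero_xor]
      _ = _ := by group
  rcases h2 with h2 | ⟨i, h2⟩
  · exfalso
    rw [h2, H.toSit.tt] at h3
    have h4 : ev f s a ≠ 1 := by
      intro h5
      rw [← ev_zero (f := f) (s := s)] at h5
      exact ha0 (H.toSit.ev_inj _ haV _ (by decide) h5)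
    exact ne_one_conj h4 h3
  · exact ⟨i, by rw [h3, h2]⟩

/-- (6a') -/
theorem cent2 (H : Five f s t) {a b : ℕ} (ha : a ∈ UL) (hb : b ∈ UL) (hab : (a ^^^ b) ∈ UL) {g : G}
    (hga : g * ev f s a = ev f s a * g) (hgb : g * ev f s b = ev f s b * g) : g ∈ H.toSit.E := by
  obtain ⟨p, hp, hpV, ⟨hpa, hpaV⟩, ⟨hpb, hpbV⟩⟩ := UL_pp a ha b hb hab
  obtain ⟨n, hn, hnp⟩ := H.tr ((ev_QL H.toSit hpV).2 hp)
  obtain ⟨i, hi⟩ := H.img_tx hn hnp hpa hpaV (UL_VL a ha).2.1 (UL_VL a ha).1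
  obtain ⟨j, hj⟩ := H.img_tx hn hnp hpb hpbV (UL_VL b hb).2.1 (UL_VL b hb).1
  have hij : i ≠ j := by
    intro h1
    rw [h1, ← hj] at hi
    have h2 : ev f s a = ev f s b := mul_left_cancel (mul_right_cancel hi)
    have h3 := H.toSit.ev_inj _ (UL_VL a ha).1 _ (UL_VL b hb).1 h2
    rw [h3, Nat.xor_self] at hab
    exact (UL_VL 0 hab).2.1 rfl
  apply H.E_of_conj hn
  apply H.centV hij
  · rw [← hi]; exact cc hga
  · rw [← hj]; exact cc hgb

theorem ev_eq14 (h : Sit f s t) : ev f s 14 = t * x f s 0 := by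
  have : ev f s 14 = ev f s (15 ^^^ 1) := rfl
  rw [this, h.ev_mul, h.ev_15, ev_1]

/-- (6d) for `ev 14` -/
theorem cent14 (H : Five f s t) {k : G} (hk : k * ev f s 14 = ev f s 14 * k) : k ∈ H.NN := by
  by_contra hkN
  have hS := H.toSit
  have hy2 : k * x f s 1 * k⁻¹ * (k * x f s 1 * k⁻¹) = 1 := by
    calc k * x f s 1 * k⁻¹ * (k * x f s 1 * k⁻¹) = k * (x f s 1 * x f s 1) * k⁻¹ := by group
      _ = 1 := by rw [hS.xx]; group
  have hyD : k * x f s 1 * k⁻¹ ∈ DD t := DD_conj (H.P_D (x_P 1)) k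
  have hku : k * ev f s 14 * k⁻¹ = ev f s 14 := by rw [hk]; group
  have huV : ev f s 14 ∈ hS.E := hS.mem_E.2 ⟨14, by decide, rfl⟩
  have hut : ev f s 14 * t = t * ev f s 14 := hS.E_comm huV hS.t_mem_E
  have huy : ev f s 14 * (k * x f s 1 * k⁻¹) = (k * x f s 1 * k⁻¹) * ev f s 14 := by
    have := cc (n := k) (hS.E_comm huV (hS.x_mem_E 1))
    rwa [hku] at this
  have huyD : ev f s 14 * (k * x f s 1 * k⁻¹) ∉ DD t := by
    have h1 : ev f s 14 * (k * x f s 1 * k⁻¹) = k * ev f s 12 * k⁻¹ := by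
      have h2 : ev f s 12 = ev f s (14 ^^^ 2) := rfl
      rw [h2, hS.ev_mul, ev_2]
      conv_lhs => rw [← hku]
      group
    rw [h1]
    intro h2
    have h3 := DD_conj' h2
    rw [H.DE 12 (by decide)] at h3
    revert h3; decide
  have hut1 : ev f s 14 * t = x f s 0 := by
    rw [ev_eq14 hS, mul_assoc, ← hS.E_comm hS.t_mem_E (hS.x_mem_E 0), ← mul_assoc, hS.tt, one_mul]
  generalize hyy : k * x f s 1 * k⁻¹ = y at *
  rcases dih hS.tt hy2 with ⟨g, hg1, hg2⟩ | ⟨z, hz1, hz2, hzt, hzy, hzu, g, hg⟩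
  · apply huyD
    have h1 := hg1 _ hut huy
    have h2 : ev f s 14 * y = g * x f s 0 * g⁻¹ := by
      rw [← hut1, ← hg2]
      calc ev f s 14 * (g * t * g⁻¹) = (ev f s 14 * g) * t * g⁻¹ := by group
        _ = _ := by rw [h1]; group
    rw [h2]
    exact DD_conj (H.P_D (x_P 0)) g
  · have hzu' := hzu _ hut huy
    have hz0 : z * s = s * z := by
      have h0 := hS.x_zero
      have h1 : z * x f s 0 = x f s 0 * z := by
        rw [← hut1, ← mul_assoc, ← hzu', mul_assoc, hzt, ← mul_assoc]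
      rwa [h0] at h1
    have hzE := hS.n3_sq0 hzt hz0 hz2
    obtain ⟨a, ha, hza⟩ := hS.mem_E.1 hzE
    by_cases hzeq : z = ev f s 14
    · rw [← hzeq] at huyD
      apply huyD
      rcases hg with hg | hg
      · rw [hg]; exact DD_conj hyD g
      · rw [hg]; exact DD_conj t_D g
    -- y normalizes E
    have hyz : y * z = z * y := hzy.symm
    have hyu : y * ev f s 14 = ev f s 14 * y := huy.symm
    have hyN : y ∈ H.NN := by
      have hu1 : ev f s 14 ≠ 1 := by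
        intro h5
        rw [← ev_zero (f := f) (s := s)] at h5
        have := hS.ev_inj _ (by decide) _ (by decide) h5
        omega
      have ha0 : a ≠ 0 := by
        intro h5
        rw [h5, ev_zero] at hza
        exact hz1 hza
      have hVL := VL_xor a ha 14 (by decide)
      by_cases h1 : a ∈ QL
      · apply H.L1 (d := z) (e := ev f s 14) _ huV hu1 (Ne.symm hzeq) hyz hyu
        rw [hza]; exact (ev_QL hS ha).2 h1
      by_cases h2 : (a ^^^ 14) ∈ QL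
      · have h3 : z * ev f s 14 = ev f s (a ^^^ 14) := by rw [hS.ev_mul, hza]
        apply H.L1 (d := z * ev f s 14) (e := ev f s 14) _ huV hu1 _ _ hyu
        · rw [h3]; exact (ev_QL hS hVL).2 h2
        · intro h4
          apply hz1
          have : z * ev f s 14 = 1 * ev f s 14 := by rw [one_mul]; exact h4.symm
          exact mul_right_cancel this
        · rw [← mul_assoc, hyz, mul_assoc, hyu, ← mul_assoc]
      · have h3 := VL_UL a ha ha0 h1
        have h4 : (a ^^^ 14) ∈ UL := by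
          apply VL_UL _ hVL _ h2
          intro h5
          rw [Nat.xor_eq_zero_iff] at h5
          rw [h5] at hza
          exact hzeq hza
        have h5 := H.cent2 h3 (by decide : 14 ∈ UL) h4 (by rw [← hza]; exact hyz) hyu
        exact Subgroup.le_normalizer h5
    have hyE := H.G6 hyN hyD
    obtain ⟨n, hn, hn1⟩ := H.tr (x_P (f := f) (s := s) (t := t) 1)
    -- images
    have hp := H.N_P hn t_P
    have hq := H.N_P hn (x_P 0)
    have hpi : ∃ i, n * t * n⁻¹ = x f s i := by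
      rcases hp with hp | hp
      · exfalso
        have hp' := hp.trans hn1.symm
        exact hS.x_ne_t 1 (mul_left_cancel (mul_right_cancel hp')).symm
      · exact hp
    have hqj : ∃ j, n * x f s 0 * n⁻¹ = x f s j := by
      rcases hq with hq | hq
      · exfalso
        rw [← hn1] at hq
        have := hS.x_inj (mul_left_cancel (mul_right_cancel hq))
        revert this; decide
      · exact hq
    obtain ⟨i, hi⟩ := hpi
    obtain ⟨j, hj⟩ := hqj
    have hij : i ≠ j := by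
      intro h1
      rw [h1, ← hj] at hi
      exact hS.x_ne_t 0 (mul_left_cancel (mul_right_cancel hi)).symm
    have hw : ∀ e ∈ hS.E, n * k⁻¹ * e * (n * k⁻¹)⁻¹ ∈ hS.S := by
      intro e he
      have c1 : (k⁻¹ * e * k) * x f s 1 = x f s 1 * (k⁻¹ * e * k) := by
        apply comm_conj
        rw [hyy]; exact hS.E_comm he hyE
      have c2 : (k⁻¹ * e * k) * ev f s 14 = ev f s 14 * (k⁻¹ * e * k) := by
        apply comm_conj
        rw [hku]; exact hS.E_comm he huV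
      have c3 := cc (n := n) c1
      have c4 := cc (n := n) c2
      rw [hn1] at c3
      have h5 : n * ev f s 14 * n⁻¹ = x f s i * x f s j := by
        rw [ev_eq14 hS, ← hi, ← hj]; group
      rw [h5] at c4
      have h6 := hS.n2 hij c3 c4
      have h7 : n * k⁻¹ * e * (n * k⁻¹)⁻¹ = n * (k⁻¹ * e * k) * n⁻¹ := by group
      rw [h7]; exact h6
    have h8 := hS.weak hS.pgroup_S hS.E_le_S hw
    apply hkN
    have h9 := mul_mem (inv_mem h8) hn
    have h10 : (n * k⁻¹)⁻¹ * n = k := by group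
    rwa [h10] at h9

/-- (6d) -/
theorem centU (H : Five f s t) {v : ℕ} (hv : v ∈ UL) {k : G} (hk : k * ev f s v = ev f s v * k) : k ∈ H.NN := by
  obtain ⟨p, hp, hpV, hpa, hpaV⟩ := UL_p v hv
  obtain ⟨n, hn, hnp⟩ := H.tr ((ev_QL H.toSit hpV).2 hp)
  obtain ⟨i, hi⟩ := H.img_tx hn hnp hpa hpaV (UL_VL v hv).2.1 (UL_VL v hv).1
  have h1 : ((sig f i)⁻¹ * n) * ev f s v * ((sig f i)⁻¹ * n)⁻¹ = ev f s 14 := by
    rw [cmul, hi, ev_eq14 H.toSit]
    have e1 := cinv (H.toSit.sig_conj_t i)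
    have e2 := H.toSit.sig_x i 0
    rw [kf_zero] at e2
    have e3 := cinv e2
    calc (sig f i)⁻¹ * (t * x f s i) * (sig f i)⁻¹⁻¹ = ((sig f i)⁻¹ * t * (sig f i)⁻¹⁻¹) * ((sig f i)⁻¹ * x f s i * (sig f i)⁻¹⁻¹) := by group
      _ = _ := by rw [e1, e3]
  have hm : (sig f i)⁻¹ * n ∈ H.NN := mul_mem (inv_mem (H.toSit.sig_N i)) hn
  apply H.N_of_conj hm
  apply H.cent14
  rw [← h1]; exact cc hk

end Five

end Cfsg.Agent.Lib.PSQ
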