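import Cfsg.Agent.Lib.PSQ10

set_option autoImplicit false
set_option linter.unusedSectionVars false

namespace Cfsg.Agent.Lib.PSQ

namespace Five

open Sit

variable {G : Type*} [Group G] [Finite G] {f : L × L →* G} {s t : G}

theorem comm_back {g a n : G} (h : (n * g * n⁻¹) * (n * a * n⁻¹) = (n * a * n⁻¹) * (n * g * n⁻¹)) : g * a = a * g := by
  have h1 : n * (g * a) * n⁻¹ = n * (a * g) * n⁻¹ := by
    calc n * (g * a) * n⁻¹ = n * g * n⁻¹ * (n * a * n⁻¹) := by group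
      _ = n * a * n⁻¹ * (n * g * n⁻¹) := h
      _ = _ := by group
  exact mul_left_cancel (mul_right_cancel h1)

/-- (G8) -/
theorem G8 (H : Five f s t) {x : G} (hx : x ∈ DD t) : ∃ p ∈ PP f s t, x * p = p * x := by
  have hS := H.toSit
  have hx2 := hS.D_sq hx
  have huE : ev f s 3 ∈ hS.E := hS.mem_E.2 ⟨3, by decide, rfl⟩
  have hu2 := hS.E_sq huE
  rcases dih hx2 hu2 with ⟨g, -, hg⟩ | ⟨z, hz1, hz2, hzx, hzu, -, -⟩
  · exfalso
    apply H.ev3_D
    rw [← hg]; exact DD_conj hx g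
  · have hzN := H.centU (by decide : 3 ∈ UL) hzu
    by_cases hzE : z ∈ hS.E
    · obtain ⟨a, ha, hza⟩ := hS.mem_E.1 hzE
      have ha0 : a ≠ 0 := by
        intro h5
        rw [h5, ev_zero] at hza
        exact hz1 hza
      by_cases h1 : a ∈ QL
      · exact ⟨z, by rw [hza]; exact (ev_QL hS ha).2 h1, hzx.symm⟩
      · have hxN := H.centU (VL_UL a ha ha0 h1) (k := x) (by rw [← hza]; exact hzx.symm)
        have hxE := H.G6 hxN hx
        exact ⟨t, t_P, hS.E_comm hxE hS.t_mem_E⟩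
    · obtain ⟨p, hp, c, -, hc1, hc2⟩ := H.inv_N hzN hz2 hzE
      refine ⟨p, hp, ?_⟩
      apply comm_back (n := c)
      rw [hc1]
      have h3 : (c * x * c⁻¹) * ev f s 3 = ev f s 3 * (c * x * c⁻¹) := by
        rw [← hc2]; exact cc hzx.symm
      have h4 := H.G6 (H.centU (by decide : 3 ∈ UL) h3) (DD_conj hx c)
      exact hS.E_comm h4 hS.t_mem_E

theorem r_D (H : Five f s t) (a : L) : r f s a ∈ DD t := by
  rw [H.toSit.r_conj_s]
  apply DD_conj
  have := H.P_D (x_P (f := f) (s := s) (t := t) 0)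
  have h1 := H.toSit.x_zero
  rwa [h1] at this

/-- `D ∩ C(t)` -/
theorem DC (H : Five f s t) {y : G} (hy : y ∈ DD t) (hyt : y * t = t * y) : y = t ∨ ∃ a, y = r f s a := by
  have hf : Fact (Nat.Prime 2) := ⟨Nat.prime_two⟩
  have hS := H.toSit
  have hy2 := hS.D_sq hy
  have hz : IsPGroup 2 (Subgroup.zpowers y) := by
    have h1 : Nat.card (Subgroup.zpowers y) ∣ 2 ^ 1 := by
      rw [Nat.card_zpowers]
      exact orderOf_dvd_of_pow_eq_one (by rw [pow_one, sq]; exact hy2)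
    obtain ⟨k, -, hk⟩ := (Nat.dvd_prime_pow Nat.prime_two).1 h1
    exact IsPGroup.of_card hk
  have h1 : hS.S ≤ Subgroup.centralizer {t} := fun x hx => Subgroup.mem_centralizer_singleton_iff.2 (hS.S_le_cent hx)
  have h2 : Subgroup.zpowers y ≤ Subgroup.centralizer {t} := by
    rw [Subgroup.zpowers_le]
    exact Subgroup.mem_centralizer_singleton_iff.2 hyt
  obtain ⟨c, hc, T, hT, hST, hTC, hcT⟩ := two_sub h1 h2 hS.pgroup_S hz
  rw [Subgroup.mem_centralizer_singleton_iff] at hc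
  have hTS := hS.S_max hT hST (fun g hg => Subgroup.mem_centralizer_singleton_iff.1 (hTC hg))
  have h3 := hcT y (Subgroup.mem_zpowers y)
  rw [hTS] at h3
  have h4 := H.G6 (hS.S_N h3) (DD_conj hy c)
  have h5 := (H.mem_D h4).1 (DD_conj hy c)
  have hct : c⁻¹ * t = t * c⁻¹ := by
    calc c⁻¹ * t = c⁻¹ * (t * c) * c⁻¹ := by group
      _ = c⁻¹ * (c * t) * c⁻¹ := by rw [hc]
      _ = _ := by group
  rcases h5 with h5 | ⟨i, h5⟩
  · left
    have : y = c⁻¹ * (c * y * c⁻¹) * c := by group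
    rw [this, h5, hct]; group
  · right
    obtain ⟨a, ha⟩ := hS.conj_s_r' (g := c⁻¹ * sig f i) (by
      calc c⁻¹ * sig f i * t = c⁻¹ * (sig f i * t) := by group
        _ = (c⁻¹ * t) * sig f i := by rw [hS.sig_t]; group
        _ = _ := by rw [hct]; group)
    refine ⟨a, ?_⟩
    rw [← ha, cmul]
    have e0 := hS.x_zero
    have e1 := hS.sig_x i 0
    rw [kf_zero, e0] at e1
    rw [e1, ← h5]; group

/-- (G9) for `t` -/
theorem G9t (H : Five f s t) {y : G} (hy : y ∈ DD t) : (t * y) ^ 2 = 1 ∨ (t * y) ^ 3 = 1 := by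
  have hS := H.toSit
  have hcomm2 : ∀ {a b : G}, a * a = 1 → b * b = 1 → a * b = b * a → (a * b) ^ 2 = 1 := by
    intro a b ha hb hab
    rw [sq]
    calc a * b * (a * b) = a * (b * a) * b := by group
      _ = (a * a) * (b * b) := by rw [← hab]; group
      _ = 1 := by rw [ha, hb, one_mul]
  obtain ⟨p, hp, hyp⟩ := H.G8 hy
  obtain ⟨n, hn, hnp⟩ := H.tr hp
  have h1 := cc (n := n) hyp
  rw [hnp] at h1
  have h2 := H.N_P hn t_P
  have hy' := DD_conj hy n
  have key : (n * t * n⁻¹ * (n * y * n⁻¹)) ^ 2 = 1 ∨ (n * t * n⁻¹ * (n * y * n⁻¹)) ^ 3 = 1 := by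
    rcases h2 with h2 | ⟨i, h2⟩
    · left
      rw [h2]
      exact hcomm2 hS.tt (hS.D_sq hy') h1.symm
    · rcases H.DC hy' h1 with h3 | ⟨a, h3⟩
      · left
        rw [h2, h3]
        exact hcomm2 (hS.xx i) hS.tt (hS.E_comm (hS.x_mem_E i) hS.t_mem_E)
      · rw [h2, h3]
        exact hS.n9 _ _
  have h3 : n * t * n⁻¹ * (n * y * n⁻¹) = n * (t * y) * n⁻¹ := by group
  rw [h3, conj_pow, conj_pow] at key
  have back : ∀ {g : G}, n * g * n⁻¹ = 1 → g = 1 := by
    intro g hg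
    have : g = n⁻¹ * (n * g * n⁻¹) * n := by group
    rw [this, hg]; group
  rcases key with h4 | h4
  · left; exact back h4
  · right; exact back h4

/-- (G9) -/
theorem G9 (H : Five f s t) {x y : G} (hx : x ∈ DD t) (hy : y ∈ DD t) : (x * y) ^ 2 = 1 ∨ (x * y) ^ 3 = 1 := by
  obtain ⟨k, rfl⟩ := hx
  have h1 : k * t * k⁻¹ * y = k * (t * (k⁻¹ * y * k⁻¹⁻¹)) * k⁻¹ := by group
  rw [h1, conj_pow, conj_pow]
  rcases H.G9t (DD_conj hy k⁻¹) with h | h
  · left; rw [h]; group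
  · right; rw [h]; group

end Five

end Cfsg.Agent.Lib.PSQ
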