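import Cfsg.Agent.Lib.PSQ11
import Cfsg.Prelude.Def_SporadicB

set_option autoImplicit false
set_option linter.unusedSectionVars false

namespace Cfsg.Agent.Lib.PSQ

theorem dec_u : (qi * wL⁻¹ * qi⁻¹ * wL) * (qi * wL⁻¹ * qi⁻¹ * wL) = -1 := by decide +kernel

theorem dec_w : wL⁻¹ * wL⁻¹ ≠ 1 ∧ wL⁻¹ * wL⁻¹ ≠ -1 := by decide +kernel

theorem exists_central {Γ : Type*} [Group Γ] [Finite Γ] (hΓ : IsPGroup 2 Γ) (A : Subgroup Γ) [A.Normal] (hne : A ≠ ⊥) :
    ∃ a ∈ A, a ≠ 1 ∧ ∀ x, a * x = x * a := by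
  have hf : Fact (Nat.Prime 2) := ⟨Nat.prime_two⟩
  letI : MulAction Γ A := MulAction.compHom A (MulAut.conjNormal : Γ →* MulAut A)
  have hsm : ∀ (x : Γ) (a : A), ((x • a : A) : Γ) = x * a * x⁻¹ := fun x a => MulAut.conjNormal_apply x a
  have h1 : (1 : A) ∈ MulAction.fixedPoints Γ A := by
    intro x
    apply Subtype.ext
    rw [hsm]
    show x * 1 * x⁻¹ = 1
    group
  have h2 : 2 ∣ Nat.card A := by
    have hA := hΓ.to_subgroup A
    obtain ⟨n, hn⟩ := IsPGroup.iff_card.1 hA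
    rw [hn]
    rcases Nat.eq_zero_or_pos n with h0 | h0
    · exfalso
      rw [h0, pow_zero] at hn
      exact hne (Subgroup.card_eq_one.1 hn)
    · exact dvd_pow_self 2 (by omega)
  obtain ⟨b, hb, hb1⟩ := hΓ.exists_fixed_point_of_prime_dvd_card_of_fixed_point A h2 h1
  refine ⟨b.1, b.2, fun h3 => hb1 (Subtype.ext h3.symm), ?_⟩
  intro x
  have h3 := congrArg Subtype.val (hb x)
  rw [hsm] at h3
  exact (mul_inv_eq_iff_eq_mul.1 h3).symm

namespace Five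

open Sit

variable {G : Type*} [Group G] [Finite G] {f : L × L →* G} {s t : G}

def G1 (t : G) : Subgroup G := Subgroup.closure (DD t)

instance G1_normal (t : G) : (G1 t).Normal := by
  constructor
  intro x hx g
  unfold G1 at hx ⊢
  induction hx using Subgroup.closure_induction with
  | mem x hx => exact Subgroup.subset_closure (DD_conj hx g)
  | one => rw [mul_one, mul_inv_cancel]; exact one_mem _
  | mul x y _ _ h1 h2 =>
    have : g * (x * y) * g⁻¹ = (g * x * g⁻¹) * (g * y * g⁻¹) := by group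
    rw [this]; exact mul_mem h1 h2
  | inv x _ h1 =>
    have : g * x⁻¹ * g⁻¹ = (g * x * g⁻¹)⁻¹ := by group
    rw [this]; exact inv_mem h1

theorem D_G1 {g : G} (hg : g ∈ DD t) : g ∈ G1 t := Subgroup.subset_closure hg

theorem S_le_G1 (H : Five f s t) : H.toSit.S ≤ G1 t := by
  have hS := H.toSit
  have hr : ∀ a, r f s a ∈ G1 t := fun a => D_G1 (H.r_D a)
  have hcc : ∀ b c : L, f (c, b⁻¹ * c⁻¹ * b) ∈ G1 t := by
    intro b c
    have h1 := mul_mem (hr (c * b)) (hr b)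
    rw [hS.r_mul] at h1
    have e1 : c * b * b⁻¹ = c := by group
    have e2 : (c * b)⁻¹ * b = b⁻¹ * c⁻¹ * b := by group
    rw [e1, e2] at h1
    exact h1
  have hu : f (1, qi * wL⁻¹ * qi⁻¹ * wL) ∈ G1 t := by
    have h1 := mul_mem (inv_mem (hcc 1 qi)) (hcc wL qi)
    rw [inv_f, mul_f] at h1
    have e1 : qi⁻¹ * qi = 1 := by group
    have e2 : (1⁻¹ * qi⁻¹ * 1)⁻¹ * (wL⁻¹ * qi⁻¹ * wL) = qi * wL⁻¹ * qi⁻¹ * wL := by group
    rw [e1, e2] at h1
    exact h1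
  have hq : ∀ q : L, q * q = -1 → f (1, q) ∈ G1 t := by
    intro q hq
    obtain ⟨c, hc⟩ := q_conj4 q hq
    obtain ⟨d, hd⟩ := q_conj4 _ dec_u
    have h1 := (G1_normal t).conj_mem _ hu (f (1, c⁻¹ * d))
    rw [inv_f, mul_f, mul_f] at h1
    have e1 : (c⁻¹ * d) * (qi * wL⁻¹ * qi⁻¹ * wL) * (c⁻¹ * d)⁻¹ = q := by
      calc (c⁻¹ * d) * (qi * wL⁻¹ * qi⁻¹ * wL) * (c⁻¹ * d)⁻¹ = c⁻¹ * (d * (qi * wL⁻¹ * qi⁻¹ * wL) * d⁻¹) * c := by group
        _ = c⁻¹ * (c * q * c⁻¹) * c := by rw [hd, hc]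
        _ = _ := by group
    have e2 : (1 : L) * 1 * 1⁻¹ = 1 := by group
    rw [e1, e2] at h1
    exact h1
  have hQ : ∀ q : L, Qd q → f (1, q) ∈ G1 t := by
    intro q hq'
    rcases hq' with h1 | h1
    · rcases q_ord4 q h1 with h2 | h2
      · rw [h2]; rw [show f ((1 : L), (1 : L)) = 1 from map_one f]; exact one_mem _
      · rw [h2]
        have h3 : t ∈ G1 t := D_G1 t_D
        have h4 := hS.ht
        exact h4 ▸ h3
    · exact hq q h1
  have hs : s ∈ G1 t := by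
    have := hr 1
    rwa [hS.r_one] at this
  have hQ' : ∀ q : L, Qd q → f (q, 1) ∈ G1 t := by
    intro q hq'
    rw [← hS.sw']
    exact mul_mem (mul_mem hs (hQ q hq')) hs
  rintro g ⟨⟨a, b⟩, ⟨ha, hb⟩, hp⟩
  have h1 : f (a, b) ∈ G1 t := by
    have h2 := mul_mem (hQ' a ha) (hQ b hb)
    rw [mul_f, mul_one, one_mul] at h2
    exact h2
  rcases hp with hp | hp
  · rw [hp]; exact h1
  · rw [hp]; exact mul_mem h1 hs

/-- Frattini -/
theorem frat (H : Five f s t) (g : G) : ∃ c ∈ G1 t, g * t * g⁻¹ = c * t * c⁻¹ := by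
  have hf : Fact (Nat.Prime 2) := ⟨Nat.prime_two⟩
  have hS := H.toSit
  have h2 : cjs g hS.S ≤ G1 t := by
    rintro _ ⟨x, hx, rfl⟩
    exact (G1_normal t).conj_mem _ (H.S_le_G1 hx) g
  obtain ⟨c, hc, T, hT, hST, hTC, hcT⟩ := two_sub H.S_le_G1 h2 hS.pgroup_S (hS.pgroup_S.map _)
  have hTS : T = hS.S := by
    obtain ⟨P, hP⟩ := hS.exists_sylow
    have h3 := P.is_maximal' hT (by rw [hP]; exact hST)
    rw [hP] at h3
    exact h3
  rw [hTS] at hcT
  have h3 : ∀ x ∈ hS.S, (c * g) * x * (c * g)⁻¹ ∈ hS.S := by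
    intro x hx
    have := hcT (g * x * g⁻¹) ⟨x, hx, rfl⟩
    rw [cmul]; exact this
  have hN : (c * g) ∈ Subgroup.normalizer (hS.S : Set G) := mem_norm h3
  have hgt : (c * g) * t * (c * g)⁻¹ = 1 ∨ (c * g) * t * (c * g)⁻¹ = t := by
    apply hS.center_S (hS.S_le_cent (h3 t hS.t_mem_S))
    intro x hx
    rw [Subgroup.mem_normalizer_iff''] at hN
    have h1 := hS.S_le_cent ((hN x).1 hx)
    calc (c * g) * t * (c * g)⁻¹ * x = (c * g) * (t * ((c * g)⁻¹ * x * (c * g))) * (c * g)⁻¹ := by group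
      _ = (c * g) * (((c * g)⁻¹ * x * (c * g)) * t) * (c * g)⁻¹ := by rw [h1]
      _ = _ := by group
  refine ⟨c⁻¹, inv_mem hc, ?_⟩
  rcases hgt with h4 | h4
  · exfalso
    exact ne_one_conj hS.t_ne h4
  · rw [cmul] at h4
    have : g * t * g⁻¹ = c⁻¹ * (c * (g * t * g⁻¹) * c⁻¹) * c := by group
    rw [this, h4]; group

def D1 (t : G) : Set (G1 t) := {x | x.1 ∈ DD t}

def t1 (t : G) : G1 t := ⟨t, D_G1 t_D⟩

theorem closure_D1 (t : G) : Subgroup.closure (D1 t) = ⊤ := by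
  have := Subgroup.closure_closure_coe_preimage (k := DD t)
  exact this

theorem D1_conj (H : Five f s t) {x : G1 t} (hx : x ∈ D1 t) : ∃ c : G1 t, c * t1 t * c⁻¹ = x := by
  obtain ⟨g, hg⟩ := hx
  obtain ⟨c, hc, hcg⟩ := H.frat g
  exact ⟨⟨c, hc⟩, Subtype.ext (by rw [← hg, hcg]; rfl)⟩

theorem isClass (H : Five f s t) : Cfsg.IsThreeTranspositionClass (D1 t) := by
  refine ⟨⟨?_, ?_⟩, ⟨t1 t, t_D, ?_⟩, closure_D1 t⟩
  · intro d hd
    have h2 := H.toSit.D_sq hd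
    apply orderOf_eq_prime
    · rw [sq]; exact Subtype.ext h2
    · intro h1
      apply H.toSit.one_notin_D
      have : d.1 ∈ DD t := hd
      rw [h1] at this
      exact this
  · intro d hd e he
    rcases H.G9 (x := d.1) (y := e.1) hd he with h | h
    · left; exact Subtype.ext h
    · right; exact Subtype.ext h
  · ext x
    constructor
    · intro hx
      obtain ⟨c, hc⟩ := H.D1_conj hx
      show IsConj (t1 t) x
      exact isConj_iff.2 ⟨c, hc⟩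
    · intro hx
      obtain ⟨c, hc⟩ := isConj_iff.1 (show IsConj (t1 t) x from hx)
      rw [← hc]
      exact ⟨c.1, rfl⟩

theorem t1_prod (H : Five f s t) : ∃ x : Fin 4 → G1 t, (∀ i, x i ∈ D1 t) ∧ x 0 * x 1 * x 2 * x 3 = t1 t := by
  refine ⟨fun i => ⟨x f s i, D_G1 (H.P_D (x_P i))⟩, fun i => H.P_D (x_P i), ?_⟩
  exact Subtype.ext H.toSit.x_prod

theorem commutator_top (H : Five f s t) : commutator (G1 t) = ⊤ := by
  rw [eq_top_iff, ← closure_D1 t, Subgroup.closure_le]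
  have h1 : ∀ x ∈ D1 t, Abelianization.of x = Abelianization.of (t1 t) := by
    intro x hx
    obtain ⟨c, hc⟩ := H.D1_conj hx
    rw [← hc, map_mul, map_mul, mul_comm (Abelianization.of c), mul_assoc, ← map_mul, mul_inv_cancel, map_one, mul_one]
  have ht : Abelianization.of (t1 t) = 1 := by
    obtain ⟨x, hx, hprod⟩ := H.t1_prod
    have h2 : Abelianization.of (t1 t) = Abelianization.of (t1 t) * Abelianization.of (t1 t) * Abelianization.of (t1 t) * Abelianization.of (t1 t) := by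
      conv_lhs => rw [← hprod, map_mul, map_mul, map_mul, h1 _ (hx 0), h1 _ (hx 1), h1 _ (hx 2), h1 _ (hx 3)]
    have h3 : Abelianization.of (t1 t) * Abelianization.of (t1 t) = 1 := by
      rw [← map_mul]
      have : t1 t * t1 t = 1 := Subtype.ext H.toSit.tt
      rw [this, map_one]
    rw [h3, one_mul, h3] at h2
    exact h2
  intro x hx
  have h4 := h1 x hx
  rw [ht] at h4
  have h5 : x ∈ (Abelianization.of (G := G1 t)).ker := h4
  rwa [Abelianization.ker_of] at h5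

theorem hperf (H : Five f s t) : ⁅commutator (G1 t), commutator (G1 t)⁆ = commutator (G1 t) := by
  rw [H.commutator_top]
  exact H.commutator_top


/-- no elementary abelian normal 2-subgroup -/
theorem no_two (H : Five f s t) (A : Subgroup (G1 t)) (hA : A.Normal) (hne : A ≠ ⊥) (h2 : ∀ a ∈ A, a * a = 1) : False := by
  have hf : Fact (Nat.Prime 2) := ⟨Nat.prime_two⟩
  have hS := H.toSit
  have hA2 : IsPGroup 2 A := by
    intro a
    refine ⟨1, ?_⟩
    rw [pow_one, sq]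
    exact Subtype.ext (h2 a.1 a.2)
  have hS2 : IsPGroup 2 (hS.S.subgroupOf (G1 t)) := hS.pgroup_S.comap_of_injective (G1 t).subtype Subtype.val_injective
  have hAS : IsPGroup 2 (A ⊔ hS.S.subgroupOf (G1 t) : Subgroup (G1 t)) := hA2.to_sup_of_normal_left hS2
  have hAS' : IsPGroup 2 ((A ⊔ hS.S.subgroupOf (G1 t)).map (G1 t).subtype) := hAS.map _
  have hle : hS.S ≤ (A ⊔ hS.S.subgroupOf (G1 t)).map (G1 t).subtype := by
    intro x hx
    exact ⟨⟨x, H.S_le_G1 hx⟩, le_sup_right (a := A) (Subgroup.mem_subgroupOf.2 hx), rfl⟩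
  have hTS : (A ⊔ hS.S.subgroupOf (G1 t)).map (G1 t).subtype = hS.S := by
    obtain ⟨P, hP⟩ := hS.exists_sylow
    have h3 := P.is_maximal' hAS' (by rw [hP]; exact hle)
    rw [hP] at h3
    exact h3
  have hAle : ∀ a ∈ A, a.1 ∈ hS.S := by
    intro a ha
    rw [← hTS]
    exact ⟨a, le_sup_left (a := A) ha, rfl⟩
  let B : Subgroup hS.S := (A.map (G1 t).subtype).subgroupOf hS.S
  have hB : B.Normal := by
    constructor
    intro b hb x
    rw [Subgroup.mem_subgroupOf] at hb ⊢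
    obtain ⟨a, ha, hab⟩ := hb
    refine ⟨⟨x.1, H.S_le_G1 x.2⟩ * a * ⟨x.1, H.S_le_G1 x.2⟩⁻¹, hA.conj_mem a ha _, ?_⟩
    show x.1 * a.1 * x.1⁻¹ = x.1 * b.1 * x.1⁻¹
    rw [← hab]; rfl
  have hBne : B ≠ ⊥ := by
    intro h1
    apply hne
    rw [eq_bot_iff]
    intro a ha
    have h3 : (⟨a.1, hAle a ha⟩ : hS.S) ∈ B := Subgroup.mem_subgroupOf.2 ⟨a, ha, rfl⟩
    rw [h1, Subgroup.mem_bot] at h3
    rw [Subgroup.mem_bot]
    have h4 : a.1 = (1 : G) := congrArg (fun z : hS.S => z.1) h3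
    exact Subtype.ext h4
  obtain ⟨b, hbB, hb1, hbc⟩ := exists_central hS.pgroup_S B hBne
  have hbt : b.1 = t := by
    rcases hS.center_S (hS.S_le_cent b.2) (fun x hx => congrArg Subtype.val (hbc ⟨x, hx⟩)) with h3 | h3
    · exact absurd (Subtype.ext h3) hb1
    · exact h3
  obtain ⟨a, ha, hab⟩ := Subgroup.mem_subgroupOf.1 hbB
  have hat : a = t1 t := by
    apply Subtype.ext
    have h4 : a.1 = b.1 := hab
    exact h4.trans hbt
  rw [hat] at ha
  have hDA : ∀ x ∈ D1 t, x ∈ A := by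
    intro x hx
    obtain ⟨c, hc⟩ := H.D1_conj hx
    rw [← hc]; exact hA.conj_mem _ ha c
  have h3 := mul_mem (hDA ⟨r f s 1, D_G1 (H.r_D 1)⟩ (H.r_D 1)) (hDA ⟨r f s wL, D_G1 (H.r_D wL)⟩ (H.r_D wL))
  have h4 := congrArg Subtype.val (h2 _ h3)
  have h5 : (r f s 1 * r f s wL) * (r f s 1 * r f s wL) = 1 := h4
  rw [hS.r_mul, mul_f] at h5
  have h6 : f ((1 : L) * wL⁻¹ * (1 * wL⁻¹), 1⁻¹ * wL * (1⁻¹ * wL)) = f (1, 1) := by rw [h5]; exact (map_one f).symm
  rw [hS.f_eq, one_mul] at h6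
  rcases h6 with h6 | h6
  · exact dec_w.1 h6.1
  · exact dec_w.2 h6.1

theorem conj_ff_S (h : Sit f s t) {a : G} (ha : a * t = t * a) {c d : L} (hc : Qd c) (hd : Qd d) :
    a * f (c, d) * a⁻¹ ∈ h.S := by
  obtain ⟨⟨p, q⟩, hp | hp⟩ := h.cent a ha
  · rw [hp, inv_f, mul_f, mul_f, h.f_mem_S]
    exact ⟨q_conj _ _ hc, q_conj _ _ hd⟩
  · have h1 : a * f (c, d) * a⁻¹ = f (p, q) * (s * f (c, d) * s⁻¹) * (f (p, q))⁻¹ := by rw [hp]; group
    rw [h1, h.s_inv, h.sw', inv_f, mul_f, mul_f, h.f_mem_S]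
    exact ⟨q_conj _ _ hd, q_conj _ _ hc⟩

theorem no_odd (H : Five f s t) (A : Subgroup (G1 t)) (hA : A.Normal)
    (hodd : Odd (Nat.card A)) : A = ⊥ := by
  have hS := H.toSit
  have hcop : ∀ a ∈ A, a.1 ∈ hS.S → a = 1 := by
    intro a ha haS
    have h1 : orderOf a ∣ Nat.card A := Subgroup.orderOf_dvd_natCard A ha
    have h2 : orderOf a.1 ∣ 64 := by
      rw [← hS.card_S]; exact Subgroup.orderOf_dvd_natCard hS.S haS
    rw [Subgroup.orderOf_coe] at h2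
    have h3 : Nat.Coprime (Nat.card A) 64 := by
      rw [show 64 = 2 ^ 6 by norm_num]
      exact Nat.Coprime.pow_right 6 (Nat.coprime_two_right.2 hodd)
    have h4 : orderOf a ∣ 1 := by rw [← h3]; exact Nat.dvd_gcd h1 h2
    exact orderOf_eq_one_iff.1 (Nat.dvd_one.1 h4)
  have hfix : ∀ a ∈ A, a * t1 t = t1 t * a → a = 1 := by
    intro a ha hat
    have hat' : a.1 * t = t * a.1 := congrArg Subtype.val hat
    have key : ∀ c d : L, Qd c → Qd d → a.1 * f (c, d) = f (c, d) * a.1 := by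
      intro c d hc hd
      have hy := hS.ff_S hc hd
      have h1 : a * ⟨f (c, d), H.S_le_G1 hy⟩ * a⁻¹ * (⟨f (c, d), H.S_le_G1 hy⟩)⁻¹ = 1 := by
        apply hcop
        · have e1 : a * ⟨f (c, d), H.S_le_G1 hy⟩ * a⁻¹ * (⟨f (c, d), H.S_le_G1 hy⟩)⁻¹ =
            a * (⟨f (c, d), H.S_le_G1 hy⟩ * a⁻¹ * (⟨f (c, d), H.S_le_G1 hy⟩)⁻¹) := by group
          rw [e1]
          exact mul_mem ha (hA.conj_mem _ (inv_mem ha) _)
        · exact mul_mem (conj_ff_S hS hat' hc hd) (inv_mem hy)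
      have h2 := congrArg Subtype.val h1
      have h3 : a.1 * f (c, d) * a.1⁻¹ * (f (c, d))⁻¹ = 1 := h2
      rw [mul_inv_eq_one, mul_inv_eq_iff_eq_mul] at h3
      exact h3
    rcases hS.n6 hat' (key _ _ q_i q_one) (key _ _ q_j q_one) (key _ _ q_one q_i) (key _ _ q_one q_j) with h1 | h1
    · exact Subtype.ext h1
    · apply hcop a ha
      rw [h1]; exact hS.t_mem_S
  have ht1 : t1 t * t1 t = 1 := Subtype.ext hS.tt
  have hinv := inverts' (K := A) ht1 hfix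
  have hinvD : ∀ d ∈ D1 t, ∀ a ∈ A, d * a * d⁻¹ = a⁻¹ := by
    intro d hd a ha
    obtain ⟨c, hc⟩ := H.D1_conj hd
    have h1 : c⁻¹ * a * c ∈ A := by
      have := hA.conj_mem a ha c⁻¹
      rwa [inv_inv] at this
    rw [← hc]
    calc c * t1 t * c⁻¹ * a * (c * t1 t * c⁻¹)⁻¹ = c * (t1 t * (c⁻¹ * a * c) * (t1 t)⁻¹) * c⁻¹ := by group
      _ = c * (c⁻¹ * a * c)⁻¹ * c⁻¹ := by rw [hinv _ h1]
      _ = a⁻¹ := by group
  rw [eq_bot_iff]
  intro a ha
  rw [Subgroup.mem_bot]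
  apply hfix a ha
  obtain ⟨x, hx, hprod⟩ := H.t1_prod
  have h1 : t1 t * a * (t1 t)⁻¹ = a := by
    rw [← hprod, cmul, cmul, cmul, hinvD _ (hx 3) a ha, hinvD _ (hx 2) _ (inv_mem ha), inv_inv, hinvD _ (hx 1) a ha,
      hinvD _ (hx 0) _ (inv_mem ha), inv_inv]
  exact (mul_inv_eq_iff_eq_mul.1 h1).symm

end Five

end Cfsg.Agent.Lib.PSQ
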