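import Cfsg.Agent.Lib.PSQ12

set_option autoImplicit false
set_option linter.unusedSectionVars false

namespace Cfsg.Agent.Lib.PSQ

def half : Finset L := Finset.univ.filter fun a => a.1 0 0 = 1 ∨ (a.1 0 0 = 0 ∧ a.1 0 1 = 1)

theorem card_half : half.card = 12 := by decide +kernel

theorem half_or : ∀ a : L, a ∈ half ∨ -a ∈ half := by decide +kernel

namespace Five

open Sit

variable {G : Type*} [Group G] [Finite G] {f : L × L →* G} {s t : G}

def Dp (t p : G) : Set G := {y | y ∈ DD t ∧ y * p = p * y}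

theorem card_Dt (H : Five f s t) : (Dp t t).ncard ≤ 13 := by
  have h1 : Dp t t ⊆ insert t (r f s '' (half : Set L)) := by
    rintro y ⟨hy, hyt⟩
    rcases H.DC hy hyt with h | ⟨a, h⟩
    · left; exact h
    · right
      rcases half_or a with h2 | h2
      · exact ⟨a, h2, h.symm⟩
      · exact ⟨-a, h2, by rw [h, H.toSit.r_eq]; right; rfl⟩
  have h2 : (r f s '' (half : Set L)).ncard ≤ 12 := by
    refine (Set.ncard_image_le (Set.toFinite _)).trans ?_
    rw [Set.ncard_coe_finset, card_half]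
  exact (Set.ncard_le_ncard h1 (Set.toFinite _)).trans ((Set.ncard_insert_le _ _).trans (by omega))

theorem card_Dp (H : Five f s t) {p : G} (hp : p ∈ PP f s t) : (Dp t p).ncard ≤ 13 := by
  obtain ⟨n, hn, hnp⟩ := H.tr hp
  refine le_trans ?_ H.card_Dt
  apply Set.ncard_le_ncard_of_injOn (fun y => n * y * n⁻¹)
  · rintro y ⟨hy, hyp⟩
    refine ⟨DD_conj hy n, ?_⟩
    have := cc (n := n) hyp
    rwa [hnp] at this
  · intro a _ b _ hab
    exact mul_left_cancel (mul_right_cancel hab)

theorem card_D (H : Five f s t) : (DD t).ncard ≤ 65 := by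
  have h1 : DD t ⊆ Dp t t ∪ Dp t (x f s 0) ∪ Dp t (x f s 1) ∪ Dp t (x f s 2) ∪ Dp t (x f s 3) := by
    intro y hy
    obtain ⟨p, hp, hyp⟩ := H.G8 hy
    rcases hp with hp | ⟨i, hp⟩
    · left; left; left; left; exact ⟨hy, by rw [← hp]; exact hyp⟩
    · rw [hp] at hyp
      fin_cases i
      · left; left; left; right; exact ⟨hy, hyp⟩
      · left; left; right; exact ⟨hy, hyp⟩
      · left; right; exact ⟨hy, hyp⟩
      · right; exact ⟨hy, hyp⟩
  have e0 := H.card_Dt
  have e1 := H.card_Dp (x_P (f := f) (s := s) (t := t) 0)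
  have e2 := H.card_Dp (x_P (f := f) (s := s) (t := t) 1)
  have e3 := H.card_Dp (x_P (f := f) (s := s) (t := t) 2)
  have e4 := H.card_Dp (x_P (f := f) (s := s) (t := t) 3)
  refine (Set.ncard_le_ncard h1 (Set.toFinite _)).trans ?_
  have u1 := Set.ncard_union_le (Dp t t ∪ Dp t (x f s 0) ∪ Dp t (x f s 1) ∪ Dp t (x f s 2)) (Dp t (x f s 3))
  have u2 := Set.ncard_union_le (Dp t t ∪ Dp t (x f s 0) ∪ Dp t (x f s 1)) (Dp t (x f s 2))
  have u3 := Set.ncard_union_le (Dp t t ∪ Dp t (x f s 0)) (Dp t (x f s 1))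
  have u4 := Set.ncard_union_le (Dp t t) (Dp t (x f s 0))
  omega

theorem card_class (H : Five f s t) : Nat.card (ConjClasses.mk (t1 t)).carrier ≤ 65 := by
  refine le_trans ?_ H.card_D
  have e0 : Nat.card (ConjClasses.mk (t1 t)).carrier = (ConjClasses.mk (t1 t)).carrier.ncard := rfl
  rw [e0]
  apply Set.ncard_le_ncard_of_injOn (fun y : G1 t => y.1)
  · intro y hy
    rw [ConjClasses.mem_carrier_iff_mk_eq] at hy
    obtain ⟨c, hc⟩ := isConj_iff.1 (ConjClasses.mk_eq_mk_iff_isConj.1 hy).symm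
    exact ⟨c.1, congrArg Subtype.val hc⟩
  · intro a _ b _ hab
    exact Subtype.ext hab

theorem top_of_card (H : Five f s t) (hc : Nat.card (G1 t) = 25920) : G1 t = ⊤ := by
  have h1 := card_carrier_mul_centralizer (t1 t)
  rw [hc] at h1
  have h2 := H.card_class
  have hle : (Subgroup.centralizer ({t1 t} : Set (G1 t))).map (G1 t).subtype ≤ Subgroup.centralizer {t} := by
    rintro _ ⟨z, hz, rfl⟩
    rw [Subgroup.mem_centralizer_singleton_iff]
    exact congrArg Subtype.val (Subgroup.mem_centralizer_singleton_iff.1 hz)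
  have hcard : Nat.card ((Subgroup.centralizer ({t1 t} : Set (G1 t))).map (G1 t).subtype) =
      Nat.card (Subgroup.centralizer ({t1 t} : Set (G1 t))) :=
    Subgroup.card_map_of_injective Subtype.val_injective
  have h3 : Nat.card (Subgroup.centralizer ({t1 t} : Set (G1 t))) ∣ 576 := by
    rw [← hcard, ← H.toSit.card_cent]
    exact Subgroup.card_dvd_of_le hle
  obtain ⟨q, hq⟩ := h3
  have h4 : 25920 ≤ 65 * Nat.card (Subgroup.centralizer ({t1 t} : Set (G1 t))) := by
    rw [← h1]; exact Nat.mul_le_mul_right _ h2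
  have hq1 : q = 1 := by
    rcases Nat.lt_or_ge q 2 with h5 | h5
    · interval_cases q
      · omega
      · rfl
    · exfalso
      have : Nat.card (Subgroup.centralizer ({t1 t} : Set (G1 t))) * 2 ≤ 576 := by
        rw [hq]; exact Nat.mul_le_mul_left _ h5
      omega
  rw [hq1, mul_one] at hq
  have heq : (Subgroup.centralizer ({t1 t} : Set (G1 t))).map (G1 t).subtype = Subgroup.centralizer {t} := by
    apply Subgroup.eq_of_le_of_card_ge hle
    rw [hcard, ← hq, H.toSit.card_cent]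
  rw [eq_top_iff]
  intro g _
  obtain ⟨c, hc, hcg⟩ := H.frat g
  have h6 : c⁻¹ * g ∈ Subgroup.centralizer {t} := by
    rw [Subgroup.mem_centralizer_singleton_iff]
    calc c⁻¹ * g * t = c⁻¹ * (g * t * g⁻¹) * g := by group
      _ = c⁻¹ * (c * t * c⁻¹) * g := by rw [hcg]
      _ = _ := by group
  rw [← heq] at h6
  obtain ⟨z, -, hz⟩ := h6
  have h7 : g = c * z.1 := by
    have : z.1 = c⁻¹ * g := hz
    rw [this]; group
  rw [h7]; exact mul_mem hc z.2

end Five

end Cfsg.Agent.Lib.PSQ
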