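import Cfsg.Agent.Lib.PSQ1

set_option autoImplicit false

namespace Cfsg.Agent.Lib.PSQ

def qi : L := ⟨!![0, 1; -1, 0], by decide⟩
def qj : L := ⟨!![1, 1; 1, -1], by decide⟩
def qk : L := qi * qj
def wL : L := ⟨!![1, 1; 0, 1], by decide⟩

def qe : Fin 4 → L := ![1, qi, qj, qk]

theorem q_list : ∀ a : L, Qd a → ∃ i, a = qe i ∨ a = -qe i := by decide +kernel

theorem q_qe : ∀ i, Qd (qe i) := by decide +kernel

theorem q_ord4 : ∀ a : L, a * a = 1 → a = 1 ∨ a = -1 := by decide +kernel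

theorem q_conj4 : ∀ a : L, a * a = -1 → ∃ c : L, c * a * c⁻¹ = qi := by decide +kernel

theorem q_div : ∀ a b : L, Qd a → Qd b → a⁻¹ * b = a * b⁻¹ ∨ a⁻¹ * b = -(a * b⁻¹) := by decide +kernel

theorem q_norm : ∀ p c : L, c * c = -1 → (p * c = c * p ∨ p * c = -(c * p)) → Qd p := by decide +kernel

theorem q_cent : ∀ p : L, p * qi = qi * p → p * qj = qj * p → p = 1 ∨ p = -1 := by decide +kernel

theorem qe_div : ∀ i j, i ≠ j → (qe i * (qe j)⁻¹) * (qe i * (qe j)⁻¹) = -1 := by decide +kernel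

theorem w_ni : ¬ Qd wL := by decide +kernel

theorem w_act : wL * qi = - (qj * wL) ∧ wL * qj = -(qk * wL) ∧ wL * qk = qi * wL := by decide +kernel


def HE : Subgroup (L × L) where
  carrier := {p | Qd p.1 ∧ (p.2 = p.1 ∨ p.2 = -p.1)}
  one_mem' := ⟨q_one, Or.inl rfl⟩
  mul_mem' := by
    rintro ⟨a, b⟩ ⟨c, d⟩ ⟨h1, h2⟩ ⟨h3, h4⟩
    refine ⟨q_mul _ _ h1 h3, ?_⟩
    rcases h2 with h2 | h2 <;> rcases h4 with h4 | h4 <;> simp only at h2 h4 <;> subst h2 <;> subst h4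
    · left; rfl
    · right; exact mul_neg _ _
    · right; exact neg_mul _ _
    · left; exact neg_mul_neg _ _
  inv_mem' := by
    rintro ⟨a, b⟩ ⟨h1, h2⟩
    refine ⟨q_inv _ h1, ?_⟩
    rcases h2 with h2 | h2 <;> simp only at h2 <;> subst h2
    · left; rfl
    · right
      show (-a)⁻¹ = -a⁻¹
      rw [inv_eq_iff_mul_eq_one, neg_mul_neg, mul_inv_cancel]

theorem mem_HE {a b : L} : (a, b) ∈ HE ↔ Qd a ∧ (b = a ∨ b = -a) := Iff.rfl

def HS : Subgroup (L × L) := Q.prod Q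

theorem mem_HS {a b : L} : (a, b) ∈ HS ↔ Qd a ∧ Qd b := Iff.rfl

theorem HE_sw : ∀ a b, (a, b) ∈ HE → (b, a) ∈ HE := by
  rintro a b ⟨h1, h2⟩
  change Qd a at h1
  rcases h2 with h2 | h2 <;> simp only at h2 <;> subst h2
  · exact ⟨h1, Or.inl rfl⟩
  · exact ⟨q_neg h1, Or.inr (neg_neg _).symm⟩

theorem HS_sw : ∀ a b, (a, b) ∈ HS → (b, a) ∈ HS := fun _ _ h => ⟨h.2, h.1⟩

theorem HE_le_HS : HE ≤ HS := by
  rintro ⟨a, b⟩ ⟨h1, h2⟩
  refine ⟨h1, ?_⟩
  rcases h2 with h2 | h2 <;> simp only at h2 <;> subst h2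
  · exact h1
  · exact q_neg h1

theorem neg_mem_HE : ((-1 : L), (-1 : L)) ∈ HE := ⟨q_neg q_one, Or.inl rfl⟩

theorem card_Q : Nat.card Q = 8 := by
  have : Nat.card Q = Fintype.card {a : L // Qd a} := by
    rw [← Nat.card_eq_fintype_card]; rfl
  rw [this]; decide +kernel

theorem card_HS : Nat.card HS = 64 := by
  rw [HS, Nat.card_congr (Subgroup.prodEquiv Q Q).toEquiv, Nat.card_prod, card_Q]

theorem card_top : Nat.card (⊤ : Subgroup (L × L)) = 576 := by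
  rw [Subgroup.card_top, Nat.card_prod, Nat.card_eq_fintype_card, card_L]

theorem card_HE : Nat.card HE = 16 := by
  have e : Bool × Q ≃ HE := by
    refine Equiv.ofBijective (fun z => ⟨(z.2.1, if z.1 then z.2.1 else -z.2.1), z.2.2, ?_⟩) ⟨?_, ?_⟩
    · cases z.1
      · right; rfl
      · left; rfl
    · rintro ⟨b, x, hx⟩ ⟨b', y, hy⟩ hxy
      have h1 := congrArg (fun z : HE => z.1.1) hxy
      have h2 := congrArg (fun z : HE => z.1.2) hxy
      simp only at h1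
      subst h1
      cases b <;> cases b'
      · rfl
      · exact absurd h2 (neg_ne x)
      · exact absurd h2.symm (neg_ne x)
      · rfl
    · rintro ⟨⟨a, b⟩, h1, h2⟩
      rcases h2 with h2 | h2 <;> simp only at h2 <;> subst h2
      · exact ⟨(true, ⟨_, h1⟩), rfl⟩
      · exact ⟨(false, ⟨_, h1⟩), rfl⟩
  rw [← Nat.card_congr e, Nat.card_prod, card_Q]
  simp

namespace Sit

variable {G : Type*} [Group G] {f : L × L →* G} {s t : G}

def E (h : Sit f s t) : Subgroup G := h.KK HE HE_sw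
def S (h : Sit f s t) : Subgroup G := h.KK HS HS_sw

theorem card_E (h : Sit f s t) : Nat.card h.E = 16 := by
  rw [E, h.card_KK HE HE_sw neg_mem_HE, card_HE]

theorem card_S (h : Sit f s t) : Nat.card h.S = 64 := by
  rw [S, h.card_KK HS HS_sw (HE_le_HS neg_mem_HE), card_HS]

theorem cent_eq (h : Sit f s t) : Subgroup.centralizer {t} = h.KK ⊤ (fun _ _ _ => Subgroup.mem_top _) := by
  ext g
  rw [Subgroup.mem_centralizer_singleton_iff, mem_KK]
  constructor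
  · intro hg
    obtain ⟨p, hp⟩ := h.cent g hg
    exact ⟨p, Subgroup.mem_top _, hp⟩
  · rintro ⟨p, -, hp⟩
    exact h.comm_of ⟨p, hp⟩

theorem card_cent (h : Sit f s t) : Nat.card (Subgroup.centralizer {t}) = 576 := by
  rw [h.cent_eq, h.card_KK _ _ (Subgroup.mem_top _), card_top]

theorem E_le_S (h : Sit f s t) : h.E ≤ h.S := by
  rintro g ⟨p, hp, hg⟩
  exact ⟨p, HE_le_HS hp, hg⟩

theorem S_le_cent (h : Sit f s t) {g : G} (hg : g ∈ h.S) : g * t = t * g := by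
  obtain ⟨p, hp, hg⟩ := hg
  exact h.comm_of ⟨p, hg⟩

theorem E_le_cent (h : Sit f s t) {g : G} (hg : g ∈ h.E) : g * t = t * g := h.S_le_cent (h.E_le_S hg)

theorem mem_KK_f (h : Sit f s t) {H : Subgroup (L × L)} {hsw} (h1 : ((-1 : L), (-1 : L)) ∈ H) {p : L × L} :
    f p ∈ h.KK H hsw ↔ p ∈ H := by
  constructor
  · rintro ⟨q, hq, hg | hg⟩
    · rw [h.eq_iff] at hg
      rcases hg with hg | hg
      · rw [hg]; exact hq
      · have : p = (-1, -1) * q := by
          rw [hg]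
          ext : 1
          · show -q.1 = (-1 : L) * q.1
            rw [neg_mul, one_mul]
          · show -q.2 = (-1 : L) * q.2
            rw [neg_mul, one_mul]
        rw [this]; exact mul_mem h1 hq
    · exact absurd hg (h.ne_s _ _)
  · intro hp
    exact ⟨p, hp, Or.inl rfl⟩

theorem s_mem_KK (h : Sit f s t) {H : Subgroup (L × L)} {hsw} : s ∈ h.KK H hsw :=
  ⟨1, one_mem _, Or.inr (by rw [map_one, one_mul])⟩

theorem mem_KK_fs (h : Sit f s t) {H : Subgroup (L × L)} {hsw} (h1 : ((-1 : L), (-1 : L)) ∈ H) {p : L × L} :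
    f p * s ∈ h.KK H hsw ↔ p ∈ H := by
  rw [Subgroup.mul_mem_cancel_right _ h.s_mem_KK, h.mem_KK_f h1]

theorem f_mem_E (h : Sit f s t) {a b : L} : f (a, b) ∈ h.E ↔ Qd a ∧ (b = a ∨ b = -a) := by
  rw [E, h.mem_KK_f neg_mem_HE, mem_HE]

theorem fs_mem_E (h : Sit f s t) {a b : L} : f (a, b) * s ∈ h.E ↔ Qd a ∧ (b = a ∨ b = -a) := by
  rw [E, h.mem_KK_fs neg_mem_HE, mem_HE]

theorem f_mem_S (h : Sit f s t) {a b : L} : f (a, b) ∈ h.S ↔ Qd a ∧ Qd b := by
  rw [S, h.mem_KK_f (HE_le_HS neg_mem_HE), mem_HS]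

theorem fs_mem_S (h : Sit f s t) {a b : L} : f (a, b) * s ∈ h.S ↔ Qd a ∧ Qd b := by
  rw [S, h.mem_KK_fs (HE_le_HS neg_mem_HE), mem_HS]

theorem s_mem_E (h : Sit f s t) : s ∈ h.E := h.s_mem_KK

theorem t_mem_E (h : Sit f s t) : t ∈ h.E := by
  have h1 : f (1, -1) ∈ h.E := by rw [h.f_mem_E]; exact ⟨q_one, Or.inr rfl⟩
  have h2 := h.ht
  exact h2.symm ▸ h1

theorem r_mem_E (h : Sit f s t) {a : L} : r f s a ∈ h.E ↔ Qd a := by
  unfold r
  rw [h.fs_mem_E]
  constructor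
  · exact fun h => h.1
  · intro ha; exact ⟨ha, q_inv_or a ha⟩

theorem f_eq (h : Sit f s t) {a b c d : L} : f (a, b) = f (c, d) ↔ (a = c ∧ b = d) ∨ (a = -c ∧ b = -d) := by
  rw [h.eq_iff]
  constructor
  · rintro (h1 | h1)
    · left; exact ⟨congrArg Prod.fst h1, congrArg Prod.snd h1⟩
    · right; exact ⟨congrArg Prod.fst h1, congrArg Prod.snd h1⟩
  · rintro (⟨h1, h2⟩ | ⟨h1, h2⟩)
    · left; rw [h1, h2]
    · right; rw [h1, h2]

theorem r_eq (h : Sit f s t) {a b : L} : r f s a = r f s b ↔ a = b ∨ a = -b := by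
  unfold r
  rw [mul_left_inj, h.f_eq]
  constructor
  · rintro (h1 | h1)
    · left; exact h1.1
    · right; exact h1.1
  · rintro (h1 | h1)
    · left; rw [h1]; exact ⟨rfl, rfl⟩
    · right; rw [h1]; refine ⟨rfl, ?_⟩
      rw [inv_eq_iff_mul_eq_one, neg_mul_neg, mul_inv_cancel]

/-- involutions in `f(Q × Q) s` are in `E` -/
theorem fs_sq (h : Sit f s t) {a b : L} (ha : Qd a) (hb : Qd b) (h1 : f (a, b) * s * (f (a, b) * s) = 1) : b = a ∨ b = -a := by
  have h2 : f (a, b) * s * (f (a, b) * s) = f (a * b, b * a) := by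
    calc f (a, b) * s * (f (a, b) * s) = f (a, b) * (s * f (a, b) * s) := by group
      _ = _ := by rw [h.sw', mul_f]
  have h3 : f (a * b, b * a) = f (1, 1) := by rw [← h2, h1]; exact (map_one f).symm
  rw [h.f_eq] at h3
  rcases h3 with ⟨h3, -⟩ | ⟨h3, -⟩
  · rw [mul_eq_one_iff_inv_eq] at h3
    rw [← h3]; exact q_inv_or a ha
  · have h4 : b = -a⁻¹ := by
      have : a⁻¹ * (a * b) = a⁻¹ * (-1) := by rw [h3]
      rw [inv_mul_cancel_left, mul_neg, mul_one] at this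
      exact this
    rw [h4]
    rcases q_inv_or a ha with h5 | h5
    · right; rw [h5]
    · left; rw [h5, neg_neg]


theorem conj_E_aux (h : Sit f s t) {a b : L} (h0 : ∀ c, Qd c → Qd (a * c * a⁻¹) ∧ (b * c * b⁻¹ = a * c * a⁻¹ ∨ b * c * b⁻¹ = - (a * c * a⁻¹)))
    (h1 : Qd (a * b⁻¹)) {x : G} (hx : x ∈ h.E) : f (a, b) * x * (f (a, b))⁻¹ ∈ h.E := by
  have key : ∀ c d : L, (c, d) ∈ HE → f (a, b) * f (c, d) * (f (a, b))⁻¹ ∈ h.E := by
    intro c d hc
    rw [inv_f, mul_f, mul_f, h.f_mem_E]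
    obtain ⟨h3, h4⟩ := h0 c hc.1
    refine ⟨h3, ?_⟩
    rcases hc.2 with h5 | h5 <;> simp only at h5 <;> rw [h5]
    · exact h4
    · rw [mul_neg, neg_mul]
      rcases h4 with h4 | h4
      · right; rw [h4]
      · left; rw [h4, neg_neg]
  obtain ⟨⟨c, d⟩, hc, hx | hx⟩ := hx
  · rw [hx]; exact key c d hc
  · have h2 : f (a, b) * (f (c, d) * s) * (f (a, b))⁻¹ = (f (a, b) * f (c, d) * (f (a, b))⁻¹) * (f (a, b) * r f s 1 * (f (a, b))⁻¹) := by
      rw [h.r_one]; group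
    rw [hx, h2]
    apply mul_mem (key c d hc)
    rw [h.conj_r, h.r_mem_E, mul_one]
    exact h1

theorem conj_f_E (h : Sit f s t) {a b : L} (ha : Qd a) (hb : Qd b) {x : G} (hx : x ∈ h.E) :
    f (a, b) * x * (f (a, b))⁻¹ ∈ h.E := by
  apply h.conj_E_aux _ (q_mul _ _ ha (q_inv _ hb)) hx
  intro c hc
  refine ⟨q_conj a c hc, ?_⟩
  rcases q_conj_or a c ha hc with h1 | h1 <;> rcases q_conj_or b c hb hc with h2 | h2 <;> rw [h1, h2]
  · left; rfl
  · right; rfl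
  · right; rw [neg_neg]
  · left; rfl

theorem conj_ww_E (h : Sit f s t) (a b : L) (hab : b = a ∨ b = -a) {x : G} (hx : x ∈ h.E) :
    f (a, b) * x * (f (a, b))⁻¹ ∈ h.E := by
  apply h.conj_E_aux _ _ hx
  · intro c hc
    refine ⟨q_conj a c hc, Or.inl ?_⟩
    rcases hab with hab | hab <;> rw [hab]
    rw [neg_mul, show (-a)⁻¹ = -a⁻¹ by rw [inv_eq_iff_mul_eq_one, neg_mul_neg, mul_inv_cancel], neg_mul_neg]
  · rcases hab with hab | hab <;> rw [hab]
    · rw [mul_inv_cancel]; exact q_one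
    · rw [show (-a)⁻¹ = -a⁻¹ by rw [inv_eq_iff_mul_eq_one, neg_mul_neg, mul_inv_cancel], mul_neg, mul_inv_cancel]
      exact q_neg q_one

theorem conj_s_E (h : Sit f s t) {x : G} (hx : x ∈ h.E) : s * x * s⁻¹ ∈ h.E :=
  mul_mem (mul_mem h.s_mem_E hx) (inv_mem h.s_mem_E)

/-- `S` normalizes `E` -/
theorem S_norm (h : Sit f s t) {g x : G} (hg : g ∈ h.S) (hx : x ∈ h.E) : g * x * g⁻¹ ∈ h.E := by
  obtain ⟨⟨a, b⟩, hab, hg | hg⟩ := hg
  · rw [hg]; exact h.conj_f_E hab.1 hab.2 hx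
  · have h1 : g * x * g⁻¹ = f (a, b) * (s * x * s⁻¹) * (f (a, b))⁻¹ := by
      rw [hg]; group
    rw [h1]; exact h.conj_f_E hab.1 hab.2 (h.conj_s_E hx)

/-- elements of the centralizer commuting with `s` -/
theorem comm_s (h : Sit f s t) {a b : L} (hg : f (a, b) * s = s * f (a, b)) : b = a ∨ b = -a := by
  rw [h.sw, mul_left_inj, h.f_eq] at hg
  rcases hg with hg | hg
  · left; exact hg.2
  · right; exact hg.2

theorem exists_s (h : Sit f s t) {g : G} (hg : g * t = t * g) (hs : g * s = s * g) :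
    ∃ a b : L, (b = a ∨ b = -a) ∧ (g = f (a, b) ∨ g = f (a, b) * s) := by
  obtain ⟨⟨a, b⟩, hp⟩ := h.cent g hg
  refine ⟨a, b, ?_, hp⟩
  apply h.comm_s
  rcases hp with hp | hp
  · rw [← hp]; exact hs
  · rw [hp] at hs
    have : f (a, b) * s * s * s = s * (f (a, b) * s) * s := by rw [hs]
    calc f (a, b) * s = f (a, b) * s * (s * s) := by rw [h.ss, mul_one]
      _ = f (a, b) * s * s * s := by group
      _ = s * (f (a, b) * s) * s := this
      _ = s * f (a, b) * (s * s) := by group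
      _ = _ := by rw [h.ss, mul_one]

theorem n3_norm0 (h : Sit f s t) {g x : G} (hg : g * t = t * g) (hs : g * s = s * g) (hx : x ∈ h.E) :
    g * x * g⁻¹ ∈ h.E := by
  obtain ⟨a, b, hab, hp | hp⟩ := h.exists_s hg hs
  · rw [hp]; exact h.conj_ww_E a b hab hx
  · have h1 : g * x * g⁻¹ = f (a, b) * (s * x * s⁻¹) * (f (a, b))⁻¹ := by
      rw [hp]; group
    rw [h1]; exact h.conj_ww_E a b hab (h.conj_s_E hx)

theorem n3_sq0 (h : Sit f s t) {g : G} (hg : g * t = t * g) (hs : g * s = s * g) (h2 : g * g = 1) : g ∈ h.E := by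
  obtain ⟨a, b, hab, hp⟩ := h.exists_s hg hs
  have hc : s * f (a, b) = f (a, b) * s := by
    rcases hp with hp | hp
    · rw [← hp]; exact hs.symm
    · have : f (a, b) = g * s := by rw [hp, mul_assoc, h.ss, mul_one]
      rw [this, ← mul_assoc, ← hs]
  have h3 : f (a, b) * f (a, b) = 1 := by
    rcases hp with hp | hp
    · rw [← hp]; exact h2
    · calc f (a, b) * f (a, b) = f (a, b) * (f (a, b) * s) * s := by rw [mul_assoc (f (a, b)) _ s, mul_assoc (f (a, b)) s s, h.ss, mul_one]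
        _ = f (a, b) * (s * f (a, b)) * s := by rw [hc]
        _ = (f (a, b) * s) * (f (a, b) * s) := by group
        _ = 1 := by rw [← hp]; exact h2
  have h4 : Qd a := by
    rw [mul_f] at h3
    have h5 : f (a * a, b * b) = f (1, 1) := by rw [h3]; exact (map_one f).symm
    rw [h.f_eq] at h5
    rcases h5 with h5 | h5
    · left; exact h5.1
    · right; exact h5.1
  rcases hp with hp | hp
  · rw [hp, h.f_mem_E]; exact ⟨h4, hab⟩
  · rw [hp, h.fs_mem_E]; exact ⟨h4, hab⟩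

/-- translating to `s` -/
theorem r_conj_s (h : Sit f s t) (a : L) : r f s a = f (a, 1) * s * (f (a, 1))⁻¹ := by
  have h1 := h.conj_r a 1 1
  rw [h.r_one, inv_one, mul_one, mul_one] at h1
  exact h1.symm

theorem comm_conj {g c x : G} (h : g * (c * x * c⁻¹) = (c * x * c⁻¹) * g) : (c⁻¹ * g * c) * x = x * (c⁻¹ * g * c) := by
  calc (c⁻¹ * g * c) * x = c⁻¹ * (g * (c * x * c⁻¹)) * c := by group
    _ = c⁻¹ * ((c * x * c⁻¹) * g) * c := by rw [h]
    _ = _ := by group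

theorem comm_conj_t (h : Sit f s t) {g : G} (hg : g * t = t * g) (p : L × L) :
    ((f p)⁻¹ * g * f p) * t = t * ((f p)⁻¹ * g * f p) := by
  have h1 : (f p)⁻¹ * t = t * (f p)⁻¹ := by rw [← map_inv]; exact h.t_comm_f _
  calc ((f p)⁻¹ * g * f p) * t = (f p)⁻¹ * g * (f p * t) := by group
    _ = (f p)⁻¹ * (g * t) * f p := by rw [h.t_comm_f]; group
    _ = ((f p)⁻¹ * t) * g * f p := by rw [hg]; group
    _ = _ := by rw [h1]; group

theorem n3_norm (h : Sit f s t) {g x : G} {a : L} (ha : Qd a) (hg : g * t = t * g) (hs : g * r f s a = r f s a * g) (hx : x ∈ h.E) :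
    g * x * g⁻¹ ∈ h.E := by
  rw [h.r_conj_s] at hs
  have h1 := h.n3_norm0 (h.comm_conj_t hg (a, 1)) (comm_conj hs) (x := (f (a, 1))⁻¹ * x * f (a, 1)) (by
    have := h.conj_f_E (q_inv _ ha) q_one hx
    have h2 : f (a⁻¹, 1) = (f (a, 1))⁻¹ := by rw [inv_f, inv_one]
    rw [h2, inv_inv] at this
    exact this)
  have h2 := h.conj_f_E ha q_one h1
  have h3 : g * x * g⁻¹ = f (a, 1) * ((f (a, 1))⁻¹ * g * f (a, 1) * ((f (a, 1))⁻¹ * x * f (a, 1)) * ((f (a, 1))⁻¹ * g * f (a, 1))⁻¹) * (f (a, 1))⁻¹ := by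
    group
  rw [h3]; exact h2

theorem n3_sq (h : Sit f s t) {g : G} {a : L} (ha : Qd a) (hg : g * t = t * g) (hs : g * r f s a = r f s a * g) (h2 : g * g = 1) :
    g ∈ h.E := by
  rw [h.r_conj_s] at hs
  have h1 := h.n3_sq0 (h.comm_conj_t hg (a, 1)) (comm_conj hs) (by
    calc (f (a, 1))⁻¹ * g * f (a, 1) * ((f (a, 1))⁻¹ * g * f (a, 1)) = (f (a, 1))⁻¹ * (g * g) * f (a, 1) := by group
      _ = 1 := by rw [h2]; group)
  have h2 := h.conj_f_E ha q_one h1
  have h3 : g = f (a, 1) * ((f (a, 1))⁻¹ * g * f (a, 1)) * (f (a, 1))⁻¹ := by group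
  rw [h3]; exact h2

/-- (n2) -/
theorem n2 (h : Sit f s t) {g : G} {i j : Fin 4} (hij : i ≠ j) (hg : g * t = t * g)
    (hs : g * (r f s (qe i) * r f s (qe j)) = (r f s (qe i) * r f s (qe j)) * g) : g ∈ h.S := by
  have hc := qe_div i j hij
  have hd := q_div (qe i) (qe j) (q_qe i) (q_qe j)
  rw [h.r_mul] at hs
  generalize qe i * (qe j)⁻¹ = c at hc hd hs
  generalize (qe i)⁻¹ * qe j = d at hd hs
  have hdd : d * d = -1 := by
    rcases hd with hd | hd <;> rw [hd]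
    · exact hc
    · rw [neg_mul_neg]; exact hc
  have key : ∀ {x y u v : L}, f (x, y) = f (u, v) → (x = u ∨ x = -u) ∧ (y = v ∨ y = -v) := by
    intro x y u v hxy
    rw [h.f_eq] at hxy
    rcases hxy with h1 | h1
    · exact ⟨Or.inl h1.1, Or.inl h1.2⟩
    · exact ⟨Or.inr h1.1, Or.inr h1.2⟩
  obtain ⟨⟨a, b⟩, hp | hp⟩ := h.cent g hg
  · rw [hp, mul_f, mul_f] at hs
    obtain ⟨h1, h2⟩ := key hs
    rw [hp, h.f_mem_S]
    exact ⟨q_norm a c hc h1, q_norm b d hdd h2⟩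
  · rw [hp] at hs
    have h3 : f (a, b) * s * f (c, d) = f (a * d, b * c) * s := by
      rw [mul_assoc, h.sw, ← mul_assoc, mul_f]
    rw [h3, ← mul_assoc, mul_f, mul_left_inj] at hs
    obtain ⟨h1, h2⟩ := key hs
    rw [hp, h.fs_mem_S]
    constructor
    · apply q_norm a c hc
      rcases hd with hd | hd <;> rw [hd] at h1
      · exact h1
      · rw [mul_neg] at h1
        rcases h1 with h1 | h1
        · right; rw [← h1, neg_neg]
        · left; exact neg_injective h1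
    · apply q_norm b d hdd
      have hc' : c = d ∨ c = -d := by
        rcases hd with hd | hd
        · left; exact hd.symm
        · right; rw [hd, neg_neg]
      rcases hc' with hd | hd <;> rw [hd] at h2
      · exact h2
      · rw [mul_neg] at h2
        rcases h2 with h2 | h2
        · right; rw [← h2, neg_neg]
        · left; exact neg_injective h2

/-- (n2') -/
theorem cent_two (h : Sit f s t) {g : G} {i j : Fin 4} (hij : i ≠ j) (hg : g * t = t * g)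
    (hi : g * r f s (qe i) = r f s (qe i) * g) (hj : g * r f s (qe j) = r f s (qe j) * g) : g ∈ h.E := by
  have hS : g ∈ h.S := by
    apply h.n2 hij hg
    rw [← mul_assoc, hi, mul_assoc, hj, ← mul_assoc]
  -- conjugate to s
  have hi' := hi
  rw [h.r_conj_s] at hi'
  have h1 := comm_conj hi'
  have h2 := h.comm_conj_t hg (qe i, 1)
  have hSf : f (qe i, 1) ∈ h.S := by rw [h.f_mem_S]; exact ⟨q_qe i, q_one⟩
  have h3 : (f (qe i, 1))⁻¹ * g * f (qe i, 1) ∈ h.S := mul_mem (mul_mem (inv_mem hSf) hS) hSf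
  have h4 : (f (qe i, 1))⁻¹ * g * f (qe i, 1) ∈ h.E := by
    obtain ⟨a, b, hab, hp⟩ := h.exists_s h2 h1
    rcases hp with hp | hp
    · rw [hp] at h3 ⊢
      rw [h.f_mem_S] at h3
      rw [h.f_mem_E]
      exact ⟨h3.1, hab⟩
    · rw [hp] at h3 ⊢
      rw [h.fs_mem_S] at h3
      rw [h.fs_mem_E]
      exact ⟨h3.1, hab⟩
  have h5 := h.conj_f_E (q_qe i) q_one h4
  have h6 : g = f (qe i, 1) * ((f (qe i, 1))⁻¹ * g * f (qe i, 1)) * (f (qe i, 1))⁻¹ := by group
  rw [h6]; exact h5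

/-- (n4) -/
theorem n4 (h : Sit f s t) {g : G} {a : L} (hg : g * t = t * g) (hE : g * r f s a * g⁻¹ ∈ h.E) :
    ∃ j, g * r f s a * g⁻¹ = r f s (qe j) := by
  have key : ∀ a, r f s a ∈ h.E → ∃ j, r f s a = r f s (qe j) := by
    intro a ha
    rw [h.r_mem_E] at ha
    obtain ⟨j, hj⟩ := q_list a ha
    exact ⟨j, h.r_eq.2 hj⟩
  obtain ⟨⟨p, q⟩, hp | hp⟩ := h.cent g hg
  · rw [hp, h.conj_r] at hE ⊢
    exact key _ hE
  · have h1 : f (p, q) * s * r f s a * (f (p, q) * s)⁻¹ = f (p, q) * (s * r f s a * s⁻¹) * (f (p, q))⁻¹ := by group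
    rw [hp, h1, h.conj_s_r, h.conj_r] at hE ⊢
    exact key _ hE

end Sit

end Cfsg.Agent.Lib.PSQ
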