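import Cfsg.Agent.Lib.PSQ2

set_option autoImplicit false

namespace Cfsg.Agent.Lib.PSQ

theorem qe_comm : ∀ i j : Fin 4, (qe j * (qe i)⁻¹ = qe i * (qe j)⁻¹ ∧ (qe j)⁻¹ * qe i = (qe i)⁻¹ * qe j) ∨
    (qe j * (qe i)⁻¹ = -(qe i * (qe j)⁻¹) ∧ (qe j)⁻¹ * qe i = -((qe i)⁻¹ * qe j)) := by decide +kernel

theorem qe_prod : (qe 0 * (qe 1)⁻¹) * (qe 2 * (qe 3)⁻¹) = -1 ∧ ((qe 0)⁻¹ * qe 1) * ((qe 2)⁻¹ * qe 3) = 1 := by
  decide +kernel

theorem qe_inv : ∀ i : Fin 4, i ≠ 0 → (qe i)⁻¹ = - qe i := by decide +kernel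

/-- Klein four addition on indices -/
def kf (i j : Fin 4) : Fin 4 := ![![0, 1, 2, 3], ![1, 0, 3, 2], ![2, 3, 0, 1], ![3, 2, 1, 0]] i j

theorem qe_kf : ∀ i j : Fin 4, qe i * qe j = qe (kf i j) ∨ qe i * qe j = - qe (kf i j) := by decide +kernel

theorem comm4 {G : Type*} [Group G] {a0 a1 a2 a3 b0 b1 b2 b3 : G} (h01 : a1 * b0 = b0 * a1) (h02 : a2 * b0 = b0 * a2)
    (h03 : a3 * b0 = b0 * a3) (h12 : a2 * b1 = b1 * a2) (h13 : a3 * b1 = b1 * a3) (h23 : a3 * b2 = b2 * a3) :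
    (a0 * b0) * (a1 * b1) * (a2 * b2) * (a3 * b3) = (a0 * a1 * a2 * a3) * (b0 * b1 * b2 * b3) := by
  have e1 : a3 * (b0 * b1 * b2) = (b0 * b1 * b2) * a3 := by
    calc a3 * (b0 * b1 * b2) = (a3 * b0) * b1 * b2 := by group
      _ = b0 * (a3 * b1) * b2 := by rw [h03]; group
      _ = b0 * b1 * (a3 * b2) := by rw [h13]; group
      _ = _ := by rw [h23]; group
  have e2 : a2 * (b0 * b1) = (b0 * b1) * a2 := by
    calc a2 * (b0 * b1) = (a2 * b0) * b1 := by group
      _ = b0 * (a2 * b1) := by rw [h02]; group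
      _ = _ := by rw [h12]; group
  calc (a0 * b0) * (a1 * b1) * (a2 * b2) * (a3 * b3) = a0 * (b0 * a1) * b1 * a2 * b2 * a3 * b3 := by group
    _ = a0 * a1 * ((b0 * b1) * a2) * b2 * a3 * b3 := by rw [← h01]; group
    _ = a0 * a1 * a2 * ((b0 * b1 * b2) * a3) * b3 := by rw [← e2]; group
    _ = a0 * a1 * a2 * (a3 * (b0 * b1 * b2)) * b3 := by rw [← e1]
    _ = _ := by group

namespace Sit

variable {G : Type*} [Group G] {f : L × L →* G} {s t : G}

/-- the four reflections -/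
def x (f : L × L →* G) (s : G) (i : Fin 4) : G := r f s (qe i)

theorem xx (h : Sit f s t) (i : Fin 4) : x f s i * x f s i = 1 := h.r_sq _

theorem x_comm (h : Sit f s t) (i j : Fin 4) : x f s i * x f s j = x f s j * x f s i := by
  unfold x
  rw [h.r_mul, h.r_mul]
  symm
  rw [h.f_eq]
  exact qe_comm i j

theorem x_prod (h : Sit f s t) : x f s 0 * x f s 1 * x f s 2 * x f s 3 = t := by
  rw [mul_assoc (x f s 0 * x f s 1)]
  unfold x
  have e1 := h.r_mul (qe 0) (qe 1)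
  have e2 := h.r_mul (qe 2) (qe 3)
  have e3 := h.ht
  rw [e1, e2, mul_f, qe_prod.1, qe_prod.2, e3, h.f_eq]
  right; exact ⟨rfl, (neg_neg _).symm⟩

theorem x_zero (h : Sit f s t) : x f s 0 = s := h.r_one

def bx (f : L × L →* G) (s : G) (i : Fin 4) (b : Bool) : G := if b then x f s i else 1

theorem bx_xor (h : Sit f s t) (i : Fin 4) (a b : Bool) : bx f s i (a ^^ b) = bx f s i a * bx f s i b := by
  cases a <;> cases b <;> simp [bx, h.xx]

theorem bx_comm (h : Sit f s t) (i j : Fin 4) (a b : Bool) : bx f s i a * bx f s j b = bx f s j b * bx f s i a := by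
  cases a <;> cases b <;> simp [bx, h.x_comm i j]

def ev (f : L × L →* G) (s : G) (v : ℕ) : G :=
  bx f s 0 (v.testBit 0) * bx f s 1 (v.testBit 1) * bx f s 2 (v.testBit 2) * bx f s 3 (v.testBit 3)

theorem ev_mul (h : Sit f s t) (a b : ℕ) : ev f s (a ^^^ b) = ev f s a * ev f s b := by
  unfold ev
  simp only [Nat.testBit_xor, h.bx_xor]
  exact comm4 (h.bx_comm _ _ _ _) (h.bx_comm _ _ _ _) (h.bx_comm _ _ _ _) (h.bx_comm _ _ _ _) (h.bx_comm _ _ _ _) (h.bx_comm _ _ _ _)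

theorem ev_zero : ev f s 0 = 1 := by simp [ev, bx]

theorem ev_1 : ev f s 1 = x f s 0 := by
  simp [ev, bx, show Nat.testBit 1 1 = false from rfl, show Nat.testBit 1 2 = false from rfl, show Nat.testBit 1 3 = false from rfl]

theorem ev_2 : ev f s 2 = x f s 1 := by
  simp [ev, bx, show Nat.testBit 2 0 = false from rfl, show Nat.testBit 2 1 = true from rfl, show Nat.testBit 2 2 = false from rfl, show Nat.testBit 2 3 = false from rfl]

theorem ev_4 : ev f s 4 = x f s 2 := by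
  simp [ev, bx, show Nat.testBit 4 0 = false from rfl, show Nat.testBit 4 1 = false from rfl, show Nat.testBit 4 2 = true from rfl, show Nat.testBit 4 3 = false from rfl]

theorem ev_8 : ev f s 8 = x f s 3 := by
  simp [ev, bx, show Nat.testBit 8 0 = false from rfl, show Nat.testBit 8 1 = false from rfl, show Nat.testBit 8 2 = false from rfl, show Nat.testBit 8 3 = true from rfl]

theorem ev_15 (h : Sit f s t) : ev f s 15 = t := by
  have := h.x_prod
  rw [← this]
  simp [ev, bx, show Nat.testBit 15 0 = true from rfl, show Nat.testBit 15 1 = true from rfl, show Nat.testBit 15 2 = true from rfl, show Nat.testBit 15 3 = true from rfl]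

def VL : List ℕ := [0, 1, 2, 3, 4, 5, 6, 7, 8, 9, 10, 11, 12, 13, 14, 15]

theorem VL_xor : ∀ a ∈ VL, ∀ b ∈ VL, a ^^^ b ∈ VL := by decide +kernel

/-- the subgroup of values of `ev` -/
def EV (h : Sit f s t) : Subgroup G where
  carrier := {g | ∃ v ∈ VL, g = ev f s v}
  one_mem' := ⟨0, by decide, ev_zero.symm⟩
  mul_mem' := by
    rintro g g' ⟨a, ha, hg⟩ ⟨b, hb, hg'⟩
    refine ⟨a ^^^ b, VL_xor a ha b hb, ?_⟩
    rw [h.ev_mul, hg, hg']
  inv_mem' := by
    rintro g ⟨a, ha, hg⟩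
    refine ⟨a, ha, ?_⟩
    rw [hg, inv_eq_iff_mul_eq_one, ← h.ev_mul, Nat.xor_self, ev_zero]

theorem x_mem_EV (h : Sit f s t) (i : Fin 4) : x f s i ∈ h.EV := by
  fin_cases i
  · exact ⟨1, by decide, ev_1.symm⟩
  · exact ⟨2, by decide, ev_2.symm⟩
  · exact ⟨4, by decide, ev_4.symm⟩
  · exact ⟨8, by decide, ev_8.symm⟩

theorem t_mem_EV (h : Sit f s t) : t ∈ h.EV := ⟨15, by decide, h.ev_15.symm⟩

theorem x_mem_E (h : Sit f s t) (i : Fin 4) : x f s i ∈ h.E := h.r_mem_E.2 (q_qe i)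

theorem E_eq_EV (h : Sit f s t) : h.E = h.EV := by
  apply le_antisymm
  · have h1 : ∀ a : L, Qd a → f (a, -a) ∈ h.EV := by
      have key : ∀ i : Fin 4, f (qe i, - qe i) ∈ h.EV := by
        intro i
        by_cases hi : i = 0
        · rw [hi]
          have : f (qe 0, - qe 0) = t := h.ht.symm
          have h2 := h.t_mem_EV
          exact this.symm ▸ h2
        · have h2 : x f s i * x f s 0 ∈ h.EV := mul_mem (h.x_mem_EV i) (h.x_mem_EV 0)
          unfold x at h2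
          rw [h.r_mul, qe_inv i hi] at h2
          have h3 : (qe i * (qe 0)⁻¹) = qe i := by
            show qe i * (1 : L)⁻¹ = qe i
            rw [inv_one, mul_one]
          have h4 : - qe i * qe 0 = - qe i := by
            show - qe i * (1 : L) = - qe i
            rw [mul_one]
          rw [h3, h4] at h2
          exact h2
      intro a ha
      obtain ⟨i, hi | hi⟩ := q_list a ha
      · rw [hi]; exact key i
      · rw [hi, h.f_neg]; exact key i
    have h2 : ∀ a b : L, (a, b) ∈ HE → f (a, b) ∈ h.EV := by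
      rintro a b ⟨h3, h4⟩
      rcases h4 with h4 | h4 <;> simp only at h4 <;> rw [h4]
      · have : f (a, a) = f (a, -a) * t := by
          have := h.ht
          rw [this, mul_f, mul_one, neg_mul_neg, mul_one]
        rw [this]; exact mul_mem (h1 a h3) h.t_mem_EV
      · exact h1 a h3
    have hs : s ∈ h.EV := by
      have := h.x_mem_EV 0
      rw [h.x_zero] at this
      exact this
    rintro g ⟨⟨a, b⟩, hp, hg | hg⟩
    · rw [hg]; exact h2 a b hp
    · rw [hg]; exact mul_mem (h2 a b hp) hs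
  · rintro g ⟨v, hv, hg⟩
    have hb : ∀ i b, bx f s i b ∈ h.E := by
      intro i b
      unfold bx
      split_ifs
      · exact h.x_mem_E i
      · exact one_mem _
    rw [hg]
    exact mul_mem (mul_mem (mul_mem (hb _ _) (hb _ _)) (hb _ _)) (hb _ _)

theorem mem_E (h : Sit f s t) {g : G} : g ∈ h.E ↔ ∃ v ∈ VL, g = ev f s v := by
  rw [h.E_eq_EV]; rfl

theorem E_comm (h : Sit f s t) {g g' : G} (hg : g ∈ h.E) (hg' : g' ∈ h.E) : g * g' = g' * g := by
  rw [h.mem_E] at hg hg'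
  obtain ⟨a, -, rfl⟩ := hg
  obtain ⟨b, -, rfl⟩ := hg'
  rw [← h.ev_mul, ← h.ev_mul, Nat.xor_comm]

theorem E_sq (h : Sit f s t) {g : G} (hg : g ∈ h.E) : g * g = 1 := by
  rw [h.mem_E] at hg
  obtain ⟨a, -, rfl⟩ := hg
  rw [← h.ev_mul, Nat.xor_self, ev_zero]

theorem ev_inj (h : Sit f s t) : ∀ a ∈ VL, ∀ b ∈ VL, ev f s a = ev f s b → a = b := by
  have h1 : ∀ a : Fin 16, a.val ∈ VL := by decide +kernel
  let φ : Fin 16 → h.E := fun a => ⟨ev f s a.val, h.mem_E.2 ⟨a.val, h1 a, rfl⟩⟩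
  have hsurj : Function.Surjective φ := by
    rintro ⟨g, hg⟩
    have hg' := hg
    rw [h.mem_E] at hg'
    obtain ⟨v, hv, hgv⟩ := hg'
    have hlt : ∀ v ∈ VL, v < 16 := by decide +kernel
    exact ⟨⟨v, hlt v hv⟩, Subtype.ext hgv.symm⟩
  have hfin : Finite h.E := Nat.finite_of_card_ne_zero (by rw [h.card_E]; norm_num)
  have hbij : Function.Bijective φ := by
    rw [Nat.bijective_iff_surjective_and_card]
    refine ⟨hsurj, ?_⟩
    rw [h.card_E]; simp
  intro a ha b hb hab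
  have hlt : ∀ v ∈ VL, v < 16 := by decide +kernel
  have h3 : φ ⟨a, hlt a ha⟩ = φ ⟨b, hlt b hb⟩ := Subtype.ext hab
  have := hbij.1 h3
  exact congrArg Fin.val this

/-- linear extension -/
def lin (c : Fin 4 → ℕ) (v : ℕ) : ℕ :=
  (if v.testBit 0 then c 0 else 0) ^^^ (if v.testBit 1 then c 1 else 0) ^^^ (if v.testBit 2 then c 2 else 0) ^^^
    (if v.testBit 3 then c 3 else 0)

theorem conj_ev (h : Sit f s t) {g : G} {c : Fin 4 → ℕ} (hc : ∀ i, g * x f s i * g⁻¹ = ev f s (c i)) (v : ℕ) :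
    g * ev f s v * g⁻¹ = ev f s (lin c v) := by
  have hb : ∀ i b, g * bx f s i b * g⁻¹ = ev f s (if b then c i else 0) := by
    intro i b
    cases b
    · simp [bx, ev_zero]
    · simp [bx, hc]
  unfold lin
  rw [h.ev_mul, h.ev_mul, h.ev_mul, ← hb, ← hb, ← hb, ← hb]
  conv_lhs => unfold ev
  group

end Sit

end Cfsg.Agent.Lib.PSQ
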