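import Cfsg.Agent.Lib.PSQ3

set_option autoImplicit false

namespace Cfsg.Agent.Lib.PSQ

theorem q_sqQ : ∀ a : L, Qd (a * a) → Qd a := by decide +kernel

theorem neg_inv' (a : L) : (-a)⁻¹ = -a⁻¹ := by rw [inv_eq_iff_mul_eq_one, neg_mul_neg, mul_inv_cancel]

namespace Sit

variable {G : Type*} [Group G] {f : L × L →* G} {s t : G}

def rho (f : L × L →* G) : G := f (wL, wL)

def sig (f : L × L →* G) (i : Fin 4) : G := f (qe i, 1)

theorem rho_t (h : Sit f s t) : rho f * t = t * rho f := h.t_comm_f _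

theorem sig_t (h : Sit f s t) (i : Fin 4) : sig f i * t = t * sig f i := h.t_comm_f _

theorem rho_E (h : Sit f s t) {g : G} (hg : g ∈ h.E) : rho f * g * (rho f)⁻¹ ∈ h.E := h.conj_ww_E _ _ (Or.inl rfl) hg

theorem sig_S (h : Sit f s t) (i : Fin 4) : sig f i ∈ h.S := by
  unfold sig
  rw [h.f_mem_S]; exact ⟨q_qe i, q_one⟩

theorem sig_E (h : Sit f s t) (i : Fin 4) {g : G} (hg : g ∈ h.E) : sig f i * g * (sig f i)⁻¹ ∈ h.E :=
  h.S_norm (h.sig_S i) hg

theorem rho_conj_r (h : Sit f s t) {a b : L} (hab : wL * a = b * wL ∨ wL * a = -(b * wL)) :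
    rho f * r f s a * (rho f)⁻¹ = r f s b := by
  unfold rho
  rw [h.conj_r, h.r_eq]
  rcases hab with hab | hab
  · left; rw [hab, mul_inv_cancel_right]
  · right; rw [hab, neg_mul, mul_inv_cancel_right]

theorem rho_x (h : Sit f s t) (i : Fin 4) : rho f * x f s i * (rho f)⁻¹ = x f s (![0, 2, 3, 1] i) := by
  fin_cases i
  · exact h.rho_conj_r (a := 1) (b := 1) (Or.inl (by rw [mul_one, one_mul]))
  · exact h.rho_conj_r (Or.inr w_act.1)
  · exact h.rho_conj_r (Or.inr w_act.2.1)
  · exact h.rho_conj_r (Or.inl w_act.2.2)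

theorem sig_x (h : Sit f s t) (i j : Fin 4) : sig f i * x f s j * (sig f i)⁻¹ = x f s (kf i j) := by
  unfold sig x
  rw [h.conj_r, inv_one, mul_one, h.r_eq]
  exact qe_kf i j

theorem x_ev (f : L × L →* G) (s : G) (i : Fin 4) : x f s i = ev f s (![1, 2, 4, 8] i) := by
  fin_cases i
  · exact ev_1.symm
  · exact ev_2.symm
  · exact ev_4.symm
  · exact ev_8.symm

def rhoV (v : ℕ) : ℕ := lin ![1, 4, 8, 2] v

def sigV (i : Fin 4) (v : ℕ) : ℕ := lin (fun j => ![1, 2, 4, 8] (kf i j)) v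

theorem rho_ev (h : Sit f s t) (v : ℕ) : rho f * ev f s v * (rho f)⁻¹ = ev f s (rhoV v) := by
  apply h.conj_ev
  intro i
  rw [h.rho_x]
  fin_cases i
  · exact ev_1.symm
  · exact ev_4.symm
  · exact ev_8.symm
  · exact ev_2.symm

theorem sig_ev (h : Sit f s t) (i : Fin 4) (v : ℕ) : sig f i * ev f s v * (sig f i)⁻¹ = ev f s (sigV i v) := by
  apply h.conj_ev
  intro j
  rw [h.sig_x]
  exact x_ev f s _

/-- (n5) -/
theorem n5 (h : Sit f s t) {g : G} (hg : g ∈ h.S) (h2 : g * g = 1) (hE : g ∉ h.E) :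
    ∃ c, c * t = t * c ∧ c * g * c⁻¹ = x f s 0 * x f s 1 := by
  obtain ⟨⟨a, b⟩, ⟨ha, hb⟩, hp | hp⟩ := hg
  · change Qd a at ha
    change Qd b at hb
    rw [hp, mul_f] at h2
    have h5 : f (a * a, b * b) = f (1, 1) := by rw [h2]; exact (map_one f).symm
    rw [h.f_eq] at h5
    rcases h5 with ⟨h3, h4⟩ | ⟨h3, h4⟩
    · exfalso; apply hE
      rw [hp, h.f_mem_E]
      refine ⟨ha, ?_⟩
      rcases q_ord4 a h3 with h3 | h3 <;> rcases q_ord4 b h4 with h4 | h4 <;> rw [h3, h4]
      · left; rfl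
      · right; rfl
      · right; rw [neg_neg]
      · left; rfl
    · have h6 : a⁻¹ * a⁻¹ = -1 := by rw [← mul_inv_rev, h3, neg_inv', inv_one]
      obtain ⟨c, hc⟩ := q_conj4 a⁻¹ h6
      obtain ⟨d, hd⟩ := q_conj4 b h4
      have hc' : c * a * c⁻¹ = qi⁻¹ := by rw [← hc]; group
      refine ⟨f (c, d), h.t_comm_f _, ?_⟩
      unfold x
      rw [hp, inv_f, mul_f, mul_f, h.r_mul, hc', hd]
      show f (qi⁻¹, qi) = f (1 * qi⁻¹, 1⁻¹ * qi)
      rw [one_mul, inv_one, one_mul]
  · exfalso; apply hE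
    change Qd a at ha
    change Qd b at hb
    rw [hp] at h2
    rw [hp, h.fs_mem_E]
    exact ⟨ha, h.fs_sq ha hb h2⟩

/-- (n5') -/
theorem n5' (h : Sit f s t) {g : G} (hg : g * t = t * g) (h2 : g * g = 1) (hE : g * s * g⁻¹ ∈ h.E) : g ∈ h.S := by
  obtain ⟨⟨a, b⟩, hp | hp⟩ := h.cent g hg
  · rw [hp, mul_f] at h2
    have h5 : f (a * a, b * b) = f (1, 1) := by rw [h2]; exact (map_one f).symm
    rw [h.f_eq] at h5
    rw [hp, h.f_mem_S]
    rcases h5 with ⟨h3, h4⟩ | ⟨h3, h4⟩
    · exact ⟨Or.inl h3, Or.inl h4⟩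
    · exact ⟨Or.inr h3, Or.inr h4⟩
  · rw [hp] at h2 hE
    have h3 : f (a, b) * s * s * (f (a, b) * s)⁻¹ = r f s (a * b⁻¹) := by
      have e1 := h.conj_r a b 1
      rw [mul_one, h.r_one] at e1
      rw [← e1]; group
    rw [h3, h.r_mem_E] at hE
    have h4 : f (a, b) * s * (f (a, b) * s) = f (a * b, b * a) := by
      calc f (a, b) * s * (f (a, b) * s) = f (a, b) * (s * f (a, b) * s) := by group
        _ = _ := by rw [h.sw', mul_f]
    have h5 : f (a * b, b * a) = f (1, 1) := by rw [← h4, h2]; exact (map_one f).symm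
    rw [h.f_eq] at h5
    have h6 : b⁻¹ = a ∨ b⁻¹ = -a := by
      rcases h5 with ⟨h5, -⟩ | ⟨h5, -⟩
      · left; exact inv_eq_of_mul_eq_one_left h5
      · right; exact inv_eq_of_mul_eq_one_left (by rw [neg_mul, h5, neg_neg])
    have ha : Qd a := by
      apply q_sqQ
      rcases h6 with h6 | h6 <;> rw [h6] at hE
      · exact hE
      · rw [mul_neg] at hE
        have := q_neg hE
        rwa [neg_neg] at this
    have hb : Qd b := by
      have : Qd b⁻¹ := by
        rcases h6 with h6 | h6 <;> rw [h6]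
        · exact ha
        · exact q_neg ha
      have h7 := q_inv _ this
      rwa [inv_inv] at h7
    rw [hp, h.fs_mem_S]
    exact ⟨ha, hb⟩

/-- (n6) -/
theorem n6 (h : Sit f s t) {g : G} (hg : g * t = t * g) (h1 : g * f (qi, 1) = f (qi, 1) * g)
    (h2 : g * f (qj, 1) = f (qj, 1) * g) (h3 : g * f (1, qi) = f (1, qi) * g)
    (h4 : g * f (1, qj) = f (1, qj) * g) : g = 1 ∨ g = t := by
  obtain ⟨⟨a, b⟩, hp | hp⟩ := h.cent g hg
  · rw [hp, mul_f, mul_f, h.f_eq] at h1 h2 h3 h4
    simp only [mul_one, one_mul] at h1 h2 h3 h4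
    have e1 : a * qi = qi * a := by
      rcases h1 with h1 | h1
      · exact h1.1
      · exact absurd h1.2.symm (neg_ne b)
    have e2 : a * qj = qj * a := by
      rcases h2 with h2 | h2
      · exact h2.1
      · exact absurd h2.2.symm (neg_ne b)
    have e3 : b * qi = qi * b := by
      rcases h3 with h3 | h3
      · exact h3.2
      · exact absurd h3.1.symm (neg_ne a)
    have e4 : b * qj = qj * b := by
      rcases h4 with h4 | h4
      · exact h4.2
      · exact absurd h4.1.symm (neg_ne a)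
    have ht := h.ht
    rcases q_cent a e1 e2 with ha | ha <;> rcases q_cent b e3 e4 with hb | hb
    · left; rw [hp, ha, hb]; exact map_one f
    · right; rw [hp, ha, hb, ht]
    · right; rw [hp, ha, hb, ht, h.f_eq]; right; exact ⟨rfl, (neg_neg _).symm⟩
    · left; rw [hp, ha, hb, h.f_neg]; exact map_one f
  · exfalso
    rw [hp] at h1
    have e1 : f (a, b) * s * f (qi, 1) = f (a, b * qi) * s := by
      rw [mul_assoc, h.sw, ← mul_assoc, mul_f, mul_one]
    rw [e1, ← mul_assoc, mul_f, mul_left_inj, h.f_eq] at h1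
    have hq : qi ≠ 1 ∧ qi ≠ -1 := by decide +kernel
    rcases h1 with h1 | h1
    · have h5 := h1.1
      have : qi = 1 := by
        have h6 : qi * a = 1 * a := by rw [one_mul]; exact h5.symm
        exact mul_right_cancel h6
      exact hq.1 this
    · have h5 := h1.1
      have : qi = -1 := by
        have h6 : qi * a = -1 * a := by rw [neg_mul, one_mul]; rw [← neg_neg (qi * a), ← h5]
        exact mul_right_cancel h6
      exact hq.2 this

/-- (n9) -/
theorem n9 (h : Sit f s t) (a b : L) : (r f s a * r f s b) ^ 2 = 1 ∨ (r f s a * r f s b) ^ 3 = 1 := by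
  rw [h.r_mul]
  have hc : a⁻¹ * b = a⁻¹ * (a * b⁻¹)⁻¹ * a := by group
  rw [hc]
  generalize a * b⁻¹ = c
  rcases q_or c with (h1 | h1) | h1 | h1
  · left
    rw [sq, mul_f, h1]
    have : a⁻¹ * c⁻¹ * a * (a⁻¹ * c⁻¹ * a) = a⁻¹ * (c * c)⁻¹ * a := by group
    rw [this, h1, inv_one, mul_one, inv_mul_cancel]
    exact map_one f
  · left
    rw [sq, mul_f, h1]
    have : a⁻¹ * c⁻¹ * a * (a⁻¹ * c⁻¹ * a) = a⁻¹ * (c * c)⁻¹ * a := by group
    rw [this, h1, neg_inv', inv_one, mul_neg, mul_one, neg_mul, inv_mul_cancel, h.f_neg]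
    exact map_one f
  · right
    rw [pow_succ, sq, mul_f, mul_f, h1]
    have : a⁻¹ * c⁻¹ * a * (a⁻¹ * c⁻¹ * a) * (a⁻¹ * c⁻¹ * a) = a⁻¹ * (c * c * c)⁻¹ * a := by group
    rw [this, h1, inv_one, mul_one, inv_mul_cancel]
    exact map_one f
  · right
    rw [pow_succ, sq, mul_f, mul_f, h1]
    have : a⁻¹ * c⁻¹ * a * (a⁻¹ * c⁻¹ * a) * (a⁻¹ * c⁻¹ * a) = a⁻¹ * (c * c * c)⁻¹ * a := by group
    rw [this, h1, neg_inv', inv_one, mul_neg, mul_one, neg_mul, inv_mul_cancel, h.f_neg]
    exact map_one f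

/-- conjugates of `s` in the centralizer -/
theorem conj_s_r' (h : Sit f s t) {g : G} (hg : g * t = t * g) : ∃ a, g * s * g⁻¹ = r f s a := by
  obtain ⟨⟨p, q⟩, hp | hp⟩ := h.cent g hg
  · have e1 := h.conj_r p q 1
    rw [h.r_one] at e1
    exact ⟨_, by rw [hp]; exact e1⟩
  · have e1 := h.conj_r p q 1
    rw [h.r_one] at e1
    refine ⟨_, Eq.trans ?_ e1⟩
    rw [hp]; group

/-- (n7) -/
theorem n7 (h : Sit f s t) (F : Subgroup G) (hF : F ≤ h.S) (h2 : ∀ g ∈ F, g * g = 1) (hc : Nat.card F = 16) : F = h.E := by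
  have hcomm : ∀ g ∈ F, ∀ g' ∈ F, g * g' = g' * g := by
    intro g hg g' hg'
    have e1 := h2 _ (mul_mem hg hg')
    have e2 := h2 g hg
    have e3 := h2 g' hg'
    calc g * g' = g * (g * g' * (g * g')) * g' := by rw [e1]; group; 
      _ = (g * g) * g' * g * (g' * g') := by group
      _ = g' * g := by rw [e2, e3]; group
  have hfinS : Finite h.S := Nat.finite_of_card_ne_zero (by rw [h.card_S]; norm_num)
  -- some element outside `f (Q × Q)`
  have hex : ∃ a b : L, f (a, b) * s ∈ F := by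
    by_contra hno
    push Not at hno
    let φ : F × Fin 4 × Bool → h.S := fun z => ⟨z.1.1 * sig f z.2.1 * (if z.2.2 then s else 1), by
      apply mul_mem (mul_mem (hF z.1.2) (h.sig_S _))
      split_ifs
      · exact h.E_le_S h.s_mem_E
      · exact one_mem _⟩
    have hF' : ∀ g ∈ F, ∃ p : L × L, g = f p := by
      intro g hg
      obtain ⟨⟨a, b⟩, -, hp | hp⟩ := hF hg
      · exact ⟨_, hp⟩
      · exact absurd (hp ▸ hg) (hno a b)
    have hinj : Function.Injective φ := by
      rintro ⟨⟨g, hg⟩, i, b⟩ ⟨⟨g', hg'⟩, i', b'⟩ hz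
      have hz' : g * sig f i * (if b then s else 1) = g' * sig f i' * (if b' then s else 1) := congrArg Subtype.val hz
      obtain ⟨p, hp⟩ := hF' g hg
      obtain ⟨p', hp'⟩ := hF' g' hg'
      have hbb : b = b' := by
        cases b <;> cases b'
        · rfl
        · exfalso
          simp only [Bool.false_eq_true, if_false, if_true, mul_one] at hz'
          unfold sig at hz'
          rw [hp, hp', ← map_mul, ← map_mul] at hz'
          exact h.ne_s _ _ hz'
        · exfalso
          simp only [Bool.false_eq_true, if_false, if_true, mul_one] at hz'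
          unfold sig at hz'
          rw [hp, hp', ← map_mul, ← map_mul] at hz'
          exact h.ne_s _ _ hz'.symm
        · rfl
      subst hbb
      have hz2 : g * sig f i = g' * sig f i' := mul_right_cancel hz'
      have h3 : g'⁻¹ * g = f (qe i' * (qe i)⁻¹, 1) := by
        have : g'⁻¹ * g = sig f i' * (sig f i)⁻¹ := by
          calc g'⁻¹ * g = g'⁻¹ * (g * sig f i) * (sig f i)⁻¹ := by group
            _ = _ := by rw [hz2]; group
        rw [this]
        unfold sig
        rw [inv_f, mul_f, inv_one, mul_one]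
      have h4 := h2 _ (mul_mem (inv_mem hg') hg)
      by_cases hi : i' = i
      · subst hi
        have : g = g' := mul_right_cancel hz2
        subst this
        rfl
      · exfalso
        rw [h3, mul_f, qe_div i' i hi, mul_one] at h4
        have h5 : f (-1, 1) = f (1, 1) := by rw [h4]; exact (map_one f).symm
        rw [h.f_eq] at h5
        rcases h5 with h5 | h5
        · exact neg_ne 1 h5.1
        · exact neg_ne 1 h5.2.symm
    have := Nat.card_le_card_of_injective φ hinj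
    rw [h.card_S, Nat.card_prod, Nat.card_prod, hc] at this
    simp at this
  obtain ⟨a, b, hab⟩ := hex
  have hS := hF hab
  rw [h.fs_mem_S] at hS
  obtain ⟨ha, hb⟩ := hS
  have hba := h.fs_sq ha hb (h2 _ hab)
  have h0E : f (a, b) * s ∈ h.E := h.fs_mem_E.2 ⟨ha, hba⟩
  have key : ∀ c d : L, f (c, d) ∈ F → Qd c → f (c, d) ∈ h.E := by
    intro c d hcd hc
    rw [h.f_mem_E]
    refine ⟨hc, ?_⟩
    have e1 := hcomm _ hcd _ hab
    have e2 : f (a, b) * s * f (c, d) = f (a * d, b * c) * s := by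
      rw [mul_assoc, h.sw, ← mul_assoc, mul_f]
    rw [e2, ← mul_assoc, mul_f, mul_left_inj, h.f_eq] at e1
    have e3 : c * a = a * d ∨ c * a = -(a * d) := by
      rcases e1 with e1 | e1
      · exact Or.inl e1.1
      · exact Or.inr e1.1
    have e4 : d = a⁻¹ * c * a ∨ d = -(a⁻¹ * c * a) := by
      rcases e3 with e3 | e3
      · left; rw [mul_assoc, e3]; group
      · right; rw [mul_assoc, e3, mul_neg, neg_neg]; group
    have e5 := q_conj_or a⁻¹ c (q_inv a ha) hc
    rw [inv_inv] at e5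
    rcases e4 with e4 | e4 <;> rcases e5 with e5 | e5 <;> rw [e4, e5]
    · left; rfl
    · right; rfl
    · right; rfl
    · left; rw [neg_neg]
  have hle : F ≤ h.E := by
    intro g hg
    obtain ⟨⟨c, d⟩, hcd, hp | hp⟩ := hF hg
    · rw [hp]; exact key c d (hp ▸ hg) hcd.1
    · have h3 : g * (f (a, b) * s) ∈ F := mul_mem hg hab
      have h4 : g * (f (a, b) * s) = f (c * b, d * a) := by
        rw [hp]
        calc f (c, d) * s * (f (a, b) * s) = f (c, d) * (s * f (a, b) * s) := by group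
          _ = _ := by rw [h.sw', mul_f]
      rw [h4] at h3
      have h5 := key _ _ h3 (q_mul _ _ hcd.1 hb)
      rw [← h4] at h5
      rwa [Subgroup.mul_mem_cancel_right _ h0E] at h5
  have hfin : Finite h.E := Nat.finite_of_card_ne_zero (by rw [h.card_E]; norm_num)
  exact Subgroup.eq_of_le_of_card_ge hle (by rw [h.card_E, hc])

end Sit

end Cfsg.Agent.Lib.PSQ
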