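import Cfsg.Agent.Lib.PSQ4

set_option autoImplicit false
set_option linter.unusedSectionVars false

namespace Cfsg.Agent.Lib.PSQ

section Gen

variable {G : Type*} [Group G] [Finite G]

theorem mem_norm {S : Set G} {g : G} (h : ∀ x ∈ S, g * x * g⁻¹ ∈ S) : g ∈ Subgroup.normalizer S := by
  have hinj : Function.Injective (fun x : G => g * x * g⁻¹) := by
    intro a b hab
    exact mul_left_cancel (mul_right_cancel hab)
  have himg : (fun x => g * x * g⁻¹) '' S = S := by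
    apply Set.eq_of_subset_of_ncard_le
    · rintro _ ⟨x, hx, rfl⟩; exact h x hx
    · rw [Set.ncard_image_of_injective S hinj]
    · exact Set.toFinite S
  rw [Subgroup.mem_set_normalizer_iff]
  intro x
  constructor
  · exact h x
  · intro hx
    rw [← himg] at hx
    obtain ⟨y, hy, hyx⟩ := hx
    have : y = x := hinj hyx
    rw [← this]; exact hy

theorem ngrow {A B : Subgroup G} (hB : IsPGroup 2 B) (hAB : A ≤ B) (hne : A ≠ B) :
    ∃ g ∈ B, g ∉ A ∧ ∀ x ∈ A, g * x * g⁻¹ ∈ A := by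
  have hf : Fact (Nat.Prime 2) := ⟨Nat.prime_two⟩
  have hn : Group.IsNilpotent B := hB.isNilpotent
  have hc : NormalizerCondition B := Group.normalizerCondition_of_isNilpotent
  have hlt : A.subgroupOf B < ⊤ := by
    rw [lt_top_iff_ne_top]
    intro h1
    rw [Subgroup.subgroupOf_eq_top] at h1
    exact hne (le_antisymm hAB h1)
  have h2 := hc _ hlt
  obtain ⟨g, hg, hgA⟩ := SetLike.exists_of_lt h2
  refine ⟨g.1, g.2, fun h3 => hgA (Subgroup.mem_subgroupOf.2 h3), ?_⟩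
  intro x hx
  rw [Subgroup.mem_normalizer_iff] at hg
  have := (hg ⟨x, hAB hx⟩).1 (Subgroup.mem_subgroupOf.2 hx)
  exact Subgroup.mem_subgroupOf.1 this

theorem two_sub {A B C : Subgroup G} (hA : A ≤ C) (hB : B ≤ C) (hA2 : IsPGroup 2 A) (hB2 : IsPGroup 2 B) :
    ∃ c ∈ C, ∃ T : Subgroup G, IsPGroup 2 T ∧ A ≤ T ∧ T ≤ C ∧ ∀ b ∈ B, c * b * c⁻¹ ∈ T := by
  have hf : Fact (Nat.Prime 2) := ⟨Nat.prime_two⟩
  have hA' : IsPGroup 2 (A.subgroupOf C) := hA2.comap_of_injective C.subtype Subtype.val_injective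
  have hB' : IsPGroup 2 (B.subgroupOf C) := hB2.comap_of_injective C.subtype Subtype.val_injective
  obtain ⟨P, hP⟩ := hA'.exists_le_sylow
  obtain ⟨R, hR⟩ := hB'.exists_le_sylow
  obtain ⟨c, hc⟩ := MulAction.exists_smul_eq C R P
  refine ⟨c.1, c.2, (P : Subgroup C).map C.subtype, P.isPGroup'.map _, ?_, ?_, ?_⟩
  · intro x hx
    exact ⟨⟨x, hA hx⟩, hP (Subgroup.mem_subgroupOf.2 hx), rfl⟩
  · rintro _ ⟨x, -, rfl⟩; exact x.2
  · intro b hb
    refine ⟨c * ⟨b, hB hb⟩ * c⁻¹, ?_, rfl⟩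
    rw [← hc]
    have h1 : (⟨b, hB hb⟩ : C) ∈ (R : Subgroup C) := hR (Subgroup.mem_subgroupOf.2 hb)
    rw [Sylow.coe_subgroup_smul]
    exact Subgroup.smul_mem_pointwise_smul _ (MulAut.conj c) _ h1

/-- the conjugate subgroup -/
def cjs (k : G) (A : Subgroup G) : Subgroup G := A.map (MulAut.conj k).toMonoidHom

theorem mem_cjs {k : G} {A : Subgroup G} {x : G} : x ∈ cjs k A ↔ ∃ a ∈ A, k * a * k⁻¹ = x := Iff.rfl

theorem card_cjs (k : G) (A : Subgroup G) : Nat.card (cjs k A) = Nat.card A := by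
  unfold cjs
  exact Subgroup.card_map_of_injective (MulAut.conj k).injective

end Gen

namespace Sit

variable {G : Type*} [Group G] [Finite G] {f : L × L →* G} {s t : G}

theorem pgroup_S (h : Sit f s t) : IsPGroup 2 h.S := by
  apply IsPGroup.of_card (n := 6)
  rw [h.card_S]; norm_num

theorem pgroup_E (h : Sit f s t) : IsPGroup 2 h.E := by
  apply IsPGroup.of_card (n := 4)
  rw [h.card_E]; norm_num

theorem ff_S (h : Sit f s t) {a b : L} (ha : Qd a) (hb : Qd b) : f (a, b) ∈ h.S := h.f_mem_S.2 ⟨ha, hb⟩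

theorem q_i : Qd qi := q_qe 1
theorem q_j : Qd qj := q_qe 2

/-- centre of `S` -/
theorem center_S (h : Sit f s t) {g : G} (hg : g * t = t * g) (hc : ∀ x ∈ h.S, g * x = x * g) : g = 1 ∨ g = t :=
  h.n6 hg (hc _ (h.ff_S q_i q_one)) (hc _ (h.ff_S q_j q_one)) (hc _ (h.ff_S q_one q_i)) (hc _ (h.ff_S q_one q_j))

theorem t_mem_S (h : Sit f s t) : t ∈ h.S := h.E_le_S h.t_mem_E

/-- 2-subgroups of the centralizer containing `S` -/
theorem S_max (h : Sit f s t) {T : Subgroup G} (hT : IsPGroup 2 T) (hST : h.S ≤ T) (hTc : ∀ g ∈ T, g * t = t * g) : T = h.S := by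
  have hf : Fact (Nat.Prime 2) := ⟨Nat.prime_two⟩
  have h1 : T ≤ Subgroup.centralizer {t} := fun g hg => Subgroup.mem_centralizer_singleton_iff.2 (hTc g hg)
  have h2 : Nat.card T ∣ 576 := by
    rw [← h.card_cent]; exact Subgroup.card_dvd_of_le h1
  obtain ⟨n, hn⟩ := IsPGroup.iff_card.1 hT
  have h3 : n ≤ 6 := by
    by_contra h4
    have h5 : 2 ^ 7 ∣ Nat.card T := by rw [hn]; exact pow_dvd_pow 2 (by omega)
    have := h5.trans h2
    norm_num at this
  symm
  apply Subgroup.eq_of_le_of_card_ge hST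
  rw [h.card_S, hn]
  exact (Nat.pow_le_pow_right (by norm_num) h3).trans (by norm_num)

/-- (G1) -/
theorem exists_sylow (h : Sit f s t) : ∃ P : Sylow 2 G, (P : Subgroup G) = h.S := by
  have hf : Fact (Nat.Prime 2) := ⟨Nat.prime_two⟩
  obtain ⟨P, hP⟩ := h.pgroup_S.exists_le_sylow
  refine ⟨P, ?_⟩
  by_contra hne
  obtain ⟨g, hgP, hgS, hg⟩ := ngrow P.isPGroup' hP (Ne.symm hne)
  have hgt : g * t * g⁻¹ = 1 ∨ g * t * g⁻¹ = t := by
    have hm := hg t h.t_mem_S
    apply h.center_S (h.S_le_cent hm)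
    intro x hx
    have hgn : g ∈ Subgroup.normalizer (h.S : Set G) := mem_norm hg
    rw [Subgroup.mem_normalizer_iff''] at hgn
    have h1 := h.S_le_cent ((hgn x).1 hx)
    calc g * t * g⁻¹ * x = g * (t * (g⁻¹ * x * g)) * g⁻¹ := by group
      _ = g * ((g⁻¹ * x * g) * t) * g⁻¹ := by rw [h1]
      _ = _ := by group
  have hgt2 : g * t = t * g := by
    rcases hgt with h1 | h1
    · exfalso
      apply h.t_ne
      have : t = g⁻¹ * (g * t * g⁻¹) * g := by group
      rw [this, h1]; group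
    · exact mul_inv_eq_iff_eq_mul.1 h1
  have h3 : (P : Subgroup G) ⊓ Subgroup.centralizer {t} = h.S := by
    apply h.S_max (P.isPGroup'.to_le inf_le_left)
    · exact le_inf hP (fun x hx => Subgroup.mem_centralizer_singleton_iff.2 (h.S_le_cent hx))
    · intro x hx
      exact Subgroup.mem_centralizer_singleton_iff.1 hx.2
  apply hgS
  rw [← h3]
  exact ⟨hgP, Subgroup.mem_centralizer_singleton_iff.2 hgt2⟩

theorem not_128 (h : Sit f s t) : ¬ 128 ∣ Nat.card G := by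
  have hf : Fact (Nat.Prime 2) := ⟨Nat.prime_two⟩
  obtain ⟨P, hP⟩ := h.exists_sylow
  intro hd
  have h1 : 2 ^ 7 ∣ Nat.card P := P.pow_dvd_card_of_pow_dvd_card (by rw [show (2 : ℕ) ^ 7 = 128 by norm_num]; exact hd)
  have h2 : Nat.card P = 64 := by rw [← h.card_S, ← hP]
  rw [h2] at h1
  norm_num at h1

/-- (G2) weak closure -/
theorem weak (h : Sit f s t) {T : Subgroup G} (hT : IsPGroup 2 T) (hE : h.E ≤ T) {k : G} (hk : ∀ e ∈ h.E, k * e * k⁻¹ ∈ T) :
    k ∈ Subgroup.normalizer (h.E : Set G) := by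
  have hf : Fact (Nat.Prime 2) := ⟨Nat.prime_two⟩
  obtain ⟨P, hP⟩ := h.exists_sylow
  have hstep : ∀ k : G, (∀ e ∈ h.E, k * e * k⁻¹ ∈ h.S) → k ∈ Subgroup.normalizer (h.E : Set G) := by
    intro k hk
    apply mem_norm
    have h1 : cjs k h.E = h.E := by
      apply h.n7
      · rintro x ⟨a, ha, rfl⟩; exact hk a ha
      · rintro x ⟨a, ha, rfl⟩
        show k * a * k⁻¹ * (k * a * k⁻¹) = 1
        calc k * a * k⁻¹ * (k * a * k⁻¹) = k * (a * a) * k⁻¹ := by group
          _ = 1 := by rw [h.E_sq ha]; group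
      · rw [card_cjs, h.card_E]
    intro x hx
    have h2 : k * x * k⁻¹ ∈ cjs k h.E := ⟨x, hx, rfl⟩
    rw [h1] at h2
    exact h2
  obtain ⟨R, hR⟩ := hT.exists_le_sylow
  obtain ⟨c, hc⟩ := MulAction.exists_smul_eq G R P
  have hcR : ∀ x ∈ T, c * x * c⁻¹ ∈ h.S := by
    intro x hx
    rw [← hP, ← hc, Sylow.coe_subgroup_smul]
    exact Subgroup.smul_mem_pointwise_smul _ (MulAut.conj c) _ (hR hx)
  have h1 := hstep c (fun e he => hcR e (hE he))
  have h2 := hstep (c * k) (fun e he => by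
    have := hcR _ (hk e he)
    have h3 : c * k * e * (c * k)⁻¹ = c * (k * e * k⁻¹) * c⁻¹ := by group
    rw [h3]; exact this)
  have h3 := mul_mem (inv_mem h1) h2
  rwa [inv_mul_cancel_left] at h3

/-- (G3) fusion is controlled by the normalizer -/
theorem fus (h : Sit f s t) {x y k : G} (hx : x ∈ h.E) (hy : y ∈ h.E) (hk : k * x * k⁻¹ = y) :
    ∃ n ∈ Subgroup.normalizer (h.E : Set G), n * x * n⁻¹ = y := by
  have h1 : h.E ≤ Subgroup.centralizer {y} := fun g hg =>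
    Subgroup.mem_centralizer_singleton_iff.2 (h.E_comm hg hy)
  have h2 : cjs k h.E ≤ Subgroup.centralizer {y} := by
    rintro _ ⟨a, ha, rfl⟩
    rw [Subgroup.mem_centralizer_singleton_iff]
    show k * a * k⁻¹ * y = y * (k * a * k⁻¹)
    rw [← hk]
    calc k * a * k⁻¹ * (k * x * k⁻¹) = k * (a * x) * k⁻¹ := by group
      _ = k * (x * a) * k⁻¹ := by rw [h.E_comm ha hx]
      _ = _ := by group
  obtain ⟨c, hc, T, hT, hET, -, hcT⟩ := two_sub h1 h2 h.pgroup_E (h.pgroup_E.map _)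
  have h3 := h.weak hT hET (k := c * k) (fun e he => by
    have := hcT (k * e * k⁻¹) ⟨e, he, rfl⟩
    have h4 : c * k * e * (c * k)⁻¹ = c * (k * e * k⁻¹) * c⁻¹ := by group
    rw [h4]; exact this)
  refine ⟨c * k, h3, ?_⟩
  rw [Subgroup.mem_centralizer_singleton_iff] at hc
  have h4 : c * k * x * (c * k)⁻¹ = c * (k * x * k⁻¹) * c⁻¹ := by group
  rw [h4, hk, hc]; group

/-- normalizer elements -/
theorem norm_iff (h : Sit f s t) {n : G} (hn : n ∈ Subgroup.normalizer (h.E : Set G)) {x : G} (hx : x ∈ h.E) :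
    n * x * n⁻¹ ∈ h.E := (Subgroup.mem_normalizer_iff.1 hn x).1 hx

theorem rho_N (h : Sit f s t) : rho f ∈ Subgroup.normalizer (h.E : Set G) := mem_norm fun _ hx => h.rho_E hx

theorem S_N (h : Sit f s t) : h.S ≤ Subgroup.normalizer (h.E : Set G) := fun _ hg => mem_norm fun _ hx => h.S_norm hg hx

theorem sig_N (h : Sit f s t) (i : Fin 4) : sig f i ∈ Subgroup.normalizer (h.E : Set G) := h.S_N (h.sig_S i)

end Sit

end Cfsg.Agent.Lib.PSQ
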