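import Cfsg.Agent.Lib.PSQ5

set_option autoImplicit false
set_option linter.unusedSectionVars false

namespace Cfsg.Agent.Lib.PSQ

theorem perm3 : ∀ p : Fin 4 → Fin 4, (∀ i, p (p (p i)) = i) → ∃ i, p i = i := by decide +kernel

theorem rhoV_fix : ∀ v ∈ Sit.VL, Sit.rhoV v = v → v = 0 ∨ v = 15 ∨ v = 1 ∨ v = 14 := by decide +kernel

theorem rhoV_mem : ∀ v ∈ Sit.VL, Sit.rhoV v ∈ Sit.VL := by decide +kernel

theorem case15 : ∀ a ∈ Sit.VL, ∀ b ∈ Sit.VL, a ≠ 15 → b ≠ 15 → a ≠ b → (1 ^^^ 15 ^^^ a ^^^ b) ≠ 15 → a ≠ (1 ^^^ 15 ^^^ a ^^^ b) →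
    b ≠ (1 ^^^ 15 ^^^ a ^^^ b) → (Sit.rhoV a ∈ [15, a, b, (1 ^^^ 15 ^^^ a ^^^ b)]) → (Sit.rhoV b ∈ [15, a, b, (1 ^^^ 15 ^^^ a ^^^ b)]) →
    (Sit.rhoV (1 ^^^ 15 ^^^ a ^^^ b) ∈ [15, a, b, (1 ^^^ 15 ^^^ a ^^^ b)]) →
    (a ∈ [2, 4, 8] ∧ b ∈ [2, 4, 8] ∧ (1 ^^^ 15 ^^^ a ^^^ b) ∈ [2, 4, 8]) := by decide +kernel

theorem case14 : ∀ a ∈ Sit.VL, ∀ b ∈ Sit.VL, a ≠ 14 → b ≠ 14 → a ≠ b → (1 ^^^ 14 ^^^ a ^^^ b) ≠ 14 → a ≠ (1 ^^^ 14 ^^^ a ^^^ b) →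
    b ≠ (1 ^^^ 14 ^^^ a ^^^ b) → (Sit.rhoV a ∈ [14, a, b, (1 ^^^ 14 ^^^ a ^^^ b)]) → (Sit.rhoV b ∈ [14, a, b, (1 ^^^ 14 ^^^ a ^^^ b)]) →
    (Sit.rhoV (1 ^^^ 14 ^^^ a ^^^ b) ∈ [14, a, b, (1 ^^^ 14 ^^^ a ^^^ b)]) →
    (a ∈ [3, 5, 9] ∧ b ∈ [3, 5, 9] ∧ (1 ^^^ 14 ^^^ a ^^^ b) ∈ [3, 5, 9]) := by decide +kernel


theorem kf_zero : ∀ i, kf i 0 = i := by decide

theorem kf_self : ∀ i, kf i i = 0 := by decide

theorem xv_mem : ∀ i : Fin 4, (![1, 2, 4, 8] i : ℕ) ∈ Sit.VL := by decide +kernel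

theorem xv_inj : ∀ i j : Fin 4, (![1, 2, 4, 8] i : ℕ) = ![1, 2, 4, 8] j → i = j := by decide +kernel

theorem xv_ne : ∀ i : Fin 4, (![1, 2, 4, 8] i : ℕ) ≠ 15 ∧ (![1, 2, 4, 8] i : ℕ) ≠ 0 := by decide +kernel

theorem xor4 {a b c d e : ℕ} (h : a ^^^ b ^^^ c ^^^ d = e) : d = e ^^^ a ^^^ b ^^^ c := by
  have h1 : a ^^^ b ^^^ c ^^^ (a ^^^ b ^^^ c ^^^ d) = d := by
    rw [← Nat.xor_assoc, Nat.xor_self, Nat.zero_xor]
  rw [h] at h1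
  rw [← h1, Nat.xor_comm _ e]
  simp only [Nat.xor_assoc]

namespace Sit

variable {G : Type*} [Group G] [Finite G] {f : L × L →* G} {s t : G}

theorem x_inj (h : Sit f s t) {i j : Fin 4} (hij : x f s i = x f s j) : i = j := by
  rw [x_ev, x_ev] at hij
  exact xv_inj i j (h.ev_inj _ (xv_mem i) _ (xv_mem j) hij)

theorem x_ne_t (h : Sit f s t) (i : Fin 4) : x f s i ≠ t := by
  intro hi
  have h1 := h.ev_15
  rw [← h1, x_ev] at hi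
  exact (xv_ne i).1 (h.ev_inj _ (xv_mem i) _ (by decide) hi)

theorem x_ne_one (h : Sit f s t) (i : Fin 4) : x f s i ≠ 1 := by
  intro hi
  rw [← ev_zero (f := f) (s := s), x_ev] at hi
  exact (xv_ne i).2 (h.ev_inj _ (xv_mem i) _ (by decide) hi)

theorem perm_of_stab (h : Sit f s t) {k : G} (hk : k ∈ Subgroup.normalizer (h.E : Set G)) (hkt : k * t = t * k) :
    ∃ p : Fin 4 → Fin 4, ∀ i, k * x f s i * k⁻¹ = x f s (p i) := by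
  have : ∀ i, ∃ j, k * x f s i * k⁻¹ = x f s j := fun i => h.n4 hkt (h.norm_iff hk (h.x_mem_E i))
  choose p hp using this
  exact ⟨p, hp⟩

theorem rho_cube : rho f * rho f * rho f = 1 := by
  unfold rho
  rw [mul_f, mul_f]
  have : wL * wL * wL = 1 := by decide +kernel
  rw [this]; exact map_one f

theorem fixpt (h : Sit f s t) {n : G} (hn : n ∈ Subgroup.normalizer (h.E : Set G))
    (hr : rho f * (n * t * n⁻¹) = (n * t * n⁻¹) * rho f) :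
    ∃ p : Fin 4 → Fin 4, (∀ i, rho f * (n * x f s i * n⁻¹) * (rho f)⁻¹ = n * x f s (p i) * n⁻¹) ∧ ∃ i, p i = i := by
  have hk : n⁻¹ * rho f * n ∈ Subgroup.normalizer (h.E : Set G) := mul_mem (mul_mem (inv_mem hn) h.rho_N) hn
  have hkt : n⁻¹ * rho f * n * t = t * (n⁻¹ * rho f * n) := comm_conj hr
  obtain ⟨p, hp⟩ := h.perm_of_stab hk hkt
  have h1 : ∀ i, rho f * (n * x f s i * n⁻¹) * (rho f)⁻¹ = n * x f s (p i) * n⁻¹ := by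
    intro i
    rw [← hp i]; group
  refine ⟨p, h1, perm3 p fun i => ?_⟩
  apply h.x_inj
  have h2 : n * x f s (p (p (p i))) * n⁻¹ = n * x f s i * n⁻¹ := by
    rw [← h1, ← h1, ← h1]
    calc rho f * (rho f * (rho f * (n * x f s i * n⁻¹) * (rho f)⁻¹) * (rho f)⁻¹) * (rho f)⁻¹
        = (rho f * rho f * rho f) * (n * x f s i * n⁻¹) * (rho f * rho f * rho f)⁻¹ := by group
      _ = _ := by rw [rho_cube]; group
  exact mul_left_cancel (mul_right_cancel h2)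

theorem rho_fix (h : Sit f s t) {v : ℕ} (hv : v ∈ VL) (hr : rho f * ev f s v * (rho f)⁻¹ = ev f s v) :
    v = 0 ∨ v = 15 ∨ v = 1 ∨ v = 14 := by
  apply rhoV_fix v hv
  rw [h.rho_ev] at hr
  exact h.ev_inj _ (rhoV_mem v hv) _ hv hr

theorem rho_x0 (h : Sit f s t) : rho f * x f s 0 = x f s 0 * rho f := by
  have := h.rho_x 0
  exact mul_inv_eq_iff_eq_mul.1 this

/-- coordinates of a conjugated basis -/
theorem coords (h : Sit f s t) {n : G} (hn : n ∈ Subgroup.normalizer (h.E : Set G)) :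
    ∃ c : Fin 4 → ℕ, (∀ i, c i ∈ VL) ∧ (∀ i, n * x f s i * n⁻¹ = ev f s (c i)) ∧ (∀ i j, c i = c j → i = j) ∧
      n * t * n⁻¹ = ev f s (c 0 ^^^ c 1 ^^^ c 2 ^^^ c 3) := by
  have : ∀ i, ∃ v ∈ VL, n * x f s i * n⁻¹ = ev f s v := fun i => h.mem_E.1 (h.norm_iff hn (h.x_mem_E i))
  choose c hc1 hc2 using this
  refine ⟨c, hc1, hc2, ?_, ?_⟩
  · intro i j hij
    have h1 : n * x f s i * n⁻¹ = n * x f s j * n⁻¹ := by rw [hc2, hc2, hij]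
    exact h.x_inj (mul_left_cancel (mul_right_cancel h1))
  · rw [h.ev_mul, h.ev_mul, h.ev_mul, ← hc2, ← hc2, ← hc2, ← hc2]
    have := h.x_prod
    conv_lhs => rw [← this]
    group

theorem sig_conj_t (h : Sit f s t) (i : Fin 4) : sig f i * t * (sig f i)⁻¹ = t := by
  rw [h.sig_t i]; group

theorem key0 (h : Sit f s t) {n : G} (hn : n ∈ Subgroup.normalizer (h.E : Set G)) (hnt : n * t * n⁻¹ = x f s 0) :
    ∃ n' ∈ Subgroup.normalizer (h.E : Set G), n' * t * n'⁻¹ = x f s 0 ∧ ∃ c : Fin 4 → ℕ, (∀ i, c i ∈ VL) ∧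
      (∀ i, n' * x f s i * n'⁻¹ = ev f s (c i)) ∧ (∀ i j, c i = c j → i = j) ∧
      ((c 0 = 15 ∧ c 1 ∈ [2, 4, 8] ∧ c 2 ∈ [2, 4, 8] ∧ c 3 ∈ [2, 4, 8]) ∨
       (c 0 = 14 ∧ c 1 ∈ [3, 5, 9] ∧ c 2 ∈ [3, 5, 9] ∧ c 3 ∈ [3, 5, 9])) := by
  obtain ⟨p, hp, i₀, hi₀⟩ := h.fixpt hn (by rw [hnt]; exact h.rho_x0)
  have hn' : n * sig f i₀ ∈ Subgroup.normalizer (h.E : Set G) := mul_mem hn (h.sig_N i₀)
  have hn't : n * sig f i₀ * t * (n * sig f i₀)⁻¹ = x f s 0 := by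
    rw [← hnt]
    calc n * sig f i₀ * t * (n * sig f i₀)⁻¹ = n * (sig f i₀ * t * (sig f i₀)⁻¹) * n⁻¹ := by group
      _ = _ := by rw [h.sig_conj_t]
  refine ⟨n * sig f i₀, hn', hn't, ?_⟩
  obtain ⟨c, hc1, hc2, hc3, hc4⟩ := h.coords hn'
  refine ⟨c, hc1, hc2, hc3, ?_⟩
  have hx0 : n * sig f i₀ * x f s 0 * (n * sig f i₀)⁻¹ = n * x f s i₀ * n⁻¹ := by
    calc n * sig f i₀ * x f s 0 * (n * sig f i₀)⁻¹ = n * (sig f i₀ * x f s 0 * (sig f i₀)⁻¹) * n⁻¹ := by group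
      _ = _ := by rw [h.sig_x, kf_zero]
  have hc0 : c 0 = 0 ∨ c 0 = 15 ∨ c 0 = 1 ∨ c 0 = 14 := by
    apply h.rho_fix (hc1 0)
    rw [← hc2, hx0, hp i₀, hi₀]
  have hX : ∀ i, ev f s (c i) ≠ ev f s (c 0 ^^^ c 1 ^^^ c 2 ^^^ c 3) := by
    intro i hi
    rw [← hc4, ← hc2] at hi
    exact h.x_ne_t i (mul_left_cancel (mul_right_cancel hi))
  have hsum : c 0 ^^^ c 1 ^^^ c 2 ^^^ c 3 = 1 := by
    apply h.ev_inj _ (VL_xor _ (VL_xor _ (VL_xor _ (hc1 0) _ (hc1 1)) _ (hc1 2)) _ (hc1 3)) _ (by decide)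
    rw [← hc4, ev_1]; exact hn't
  rw [hsum] at hX
  have hc3' : c 3 = 1 ^^^ c 0 ^^^ c 1 ^^^ c 2 := by
    exact xor4 hsum
  obtain ⟨p', hp', -⟩ := h.fixpt hn' (by rw [hn't]; exact h.rho_x0)
  have hrc : ∀ i, rhoV (c i) ∈ [c 0, c 1, c 2, c 3] := by
    intro i
    have h1 : rhoV (c i) = c (p' i) := by
      apply h.ev_inj _ (rhoV_mem _ (hc1 i)) _ (hc1 _)
      rw [← h.rho_ev, ← hc2, ← hc2]
      exact hp' i
    rw [h1]
    have : ∀ j : Fin 4, c j ∈ [c 0, c 1, c 2, c 3] := by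
      intro j; fin_cases j <;> simp
    exact this _
  have hne : ∀ i j : Fin 4, i ≠ j → c i ≠ c j := fun i j hij h1 => hij (hc3 i j h1)
  rcases hc0 with h0 | h0 | h0 | h0
  · exfalso
    have := hc2 0
    rw [h0, ev_zero] at this
    apply h.x_ne_one 0
    have h2 : x f s 0 = (n * sig f i₀)⁻¹ * (n * sig f i₀ * x f s 0 * (n * sig f i₀)⁻¹) * (n * sig f i₀) := by group
    rw [h2, this]; group
  · left
    refine ⟨h0, ?_⟩
    rw [h0] at hc3' hrc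
    have e1 := hrc 1
    have e2 := hrc 2
    have e3 := hrc 3
    rw [hc3'] at e1 e2 e3 ⊢
    exact case15 (c 1) (hc1 1) (c 2) (hc1 2) (h0 ▸ hne 1 0 (by decide)) (h0 ▸ hne 2 0 (by decide)) (hne 1 2 (by decide))
      (by have := hne 3 0 (by decide); rw [hc3', h0] at this; exact this) (by have := hne 1 3 (by decide); rw [hc3'] at this; exact this)
      (by have := hne 2 3 (by decide); rw [hc3'] at this; exact this) e1 e2 e3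
  · exact absurd (by rw [h0]) (hX 0)
  · right
    refine ⟨h0, ?_⟩
    rw [h0] at hc3' hrc
    have e1 := hrc 1
    have e2 := hrc 2
    have e3 := hrc 3
    rw [hc3'] at e1 e2 e3 ⊢
    exact case14 (c 1) (hc1 1) (c 2) (hc1 2) (h0 ▸ hne 1 0 (by decide)) (h0 ▸ hne 2 0 (by decide)) (hne 1 2 (by decide))
      (by have := hne 3 0 (by decide); rw [hc3', h0] at this; exact this) (by have := hne 1 3 (by decide); rw [hc3'] at this; exact this)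
      (by have := hne 2 3 (by decide); rw [hc3'] at this; exact this) e1 e2 e3

end Sit

end Cfsg.Agent.Lib.PSQ
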