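import Cfsg.Agent.Lib.PSQ6

set_option autoImplicit false
set_option linter.unusedSectionVars false

namespace Cfsg.Agent.Lib.PSQ

theorem sigV1 : Sit.sigV 1 3 = 3 ∧ Sit.sigV 1 2 = 1 := by decide +kernel

theorem even_orb : ∀ v ∈ [3, 5, 6, 9, 10, 12], Sit.rhoV 3 = 5 ∧ Sit.rhoV 5 = 9 ∧
    ∃ i : Fin 4, Sit.sigV i 3 = v ∨ Sit.sigV i 5 = v ∨ Sit.sigV i 9 = v := by decide +kernel

theorem odd_cases : ∀ v ∈ Sit.VL, v ≠ 0 → v ≠ 15 → v ∉ [3, 5, 6, 9, 10, 12] → v ∈ [1, 2, 4, 8] ∨ v ∈ [14, 13, 11, 7] := by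
  decide +kernel

theorem odd2 : ∀ v ∈ [14, 13, 11, 7], ∃ i : Fin 4, Sit.sigV i 14 = v := by decide +kernel

theorem xvP : ∀ i : Fin 4, (![1, 2, 4, 8] i : ℕ) ∈ ([15, 1, 2, 4, 8] : List ℕ) := by decide +kernel

def OL : List ℕ := [1, 2, 4, 8]

theorem xor15 : ∀ a ∈ OL, ∀ b ∈ OL, ∀ c ∈ OL, ∀ d ∈ OL, (a ≠ b ∧ a ≠ c ∧ a ≠ d ∧
    b ≠ c ∧ b ≠ d ∧ c ≠ d) → a ^^^ b ^^^ c ^^^ d = 15 := by decide +kernel

theorem card_carrier_mul_centralizer {G : Type*} [Group G] (g : G) :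
    Nat.card (ConjClasses.mk g).carrier * Nat.card (Subgroup.centralizer ({g} : Set G)) = Nat.card G := by
  rw [Subgroup.nat_card_centralizer_nat_card_stabilizer, ← ConjAct.orbit_eq_carrier_conjClasses,
    Nat.card_coe_set_eq, ← MulAction.index_stabilizer, mul_comm, Subgroup.card_mul_index]
  rfl

theorem cmul {G : Type*} [Group G] (a b x : G) : a * b * x * (a * b)⁻¹ = a * (b * x * b⁻¹) * a⁻¹ := by group

theorem cinv {G : Type*} [Group G] {a x y : G} (h : a * x * a⁻¹ = y) : a⁻¹ * y * (a⁻¹)⁻¹ = x := by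
  rw [← h]; group

namespace Sit

variable {G : Type*} [Group G] [Finite G] {f : L × L →* G} {s t : G}

theorem conj_two (h : Sit f s t) {g : G} {a b c d : ℕ} (h1 : g * ev f s a * g⁻¹ = ev f s c) (h2 : g * ev f s b * g⁻¹ = ev f s d) :
    g * ev f s (a ^^^ b) * g⁻¹ = ev f s (c ^^^ d) := by
  rw [h.ev_mul, h.ev_mul, ← h1, ← h2]; group

theorem no14 (h : Sit f s t) {n : G} (hn : n ∈ Subgroup.normalizer (h.E : Set G)) (hnt : n * t * n⁻¹ = x f s 0)
    {c : Fin 4 → ℕ} (hc1 : ∀ i, c i ∈ VL) (hc2 : ∀ i, n * x f s i * n⁻¹ = ev f s (c i)) (hc3 : ∀ i j, c i = c j → i = j)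
    (h0 : c 0 = 14) (h1 : c 1 ∈ [3, 5, 9]) (h2 : c 2 ∈ [3, 5, 9]) (h3 : c 3 ∈ [3, 5, 9]) : False := by
  have hj : ∃ j, c j = 3 := by
    have e12 : c 1 ≠ c 2 := fun h => absurd (hc3 _ _ h) (by decide)
    have e13 : c 1 ≠ c 3 := fun h => absurd (hc3 _ _ h) (by decide)
    have e23 : c 2 ≠ c 3 := fun h => absurd (hc3 _ _ h) (by decide)
    have h1' : c 1 = 3 ∨ c 1 = 5 ∨ c 1 = 9 := by simpa using h1
    have h2' : c 2 = 3 ∨ c 2 = 5 ∨ c 2 = 9 := by simpa using h2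
    have h3' : c 3 = 3 ∨ c 3 = 5 ∨ c 3 = 9 := by simpa using h3
    have : c 1 = 3 ∨ c 2 = 3 ∨ c 3 = 3 := by omega
    rcases this with h | h | h
    · exact ⟨_, h⟩
    · exact ⟨_, h⟩
    · exact ⟨_, h⟩
  obtain ⟨j, hj⟩ := hj
  have h15 : ev f s 15 = t := h.ev_15
  have a1 : n * ev f s 15 * n⁻¹ = ev f s 1 := by rw [h15, ev_1]; exact hnt
  have a2 : n * ev f s 1 * n⁻¹ = ev f s 14 := by rw [ev_1, hc2, h0]
  -- b = n * sig j
  have b1 : (n * sig f j) * ev f s 15 * (n * sig f j)⁻¹ = ev f s 1 := by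
    rw [cmul, h15, h.sig_conj_t, ← h15]; exact a1
  have b2 : (n * sig f j) * ev f s 1 * (n * sig f j)⁻¹ = ev f s 3 := by
    rw [cmul, ev_1, h.sig_x, kf_zero, hc2, hj]
  have b3 : (n * sig f j) * ev f s 14 * (n * sig f j)⁻¹ = ev f s 2 := h.conj_two b1 b2
  have s1 : sig f 1 * ev f s 3 * (sig f 1)⁻¹ = ev f s 3 := by rw [h.sig_ev, sigV1.1]
  have s2 : sig f 1 * ev f s 2 * (sig f 1)⁻¹ = ev f s 1 := by rw [h.sig_ev, sigV1.2]
  have g1 : ((n * sig f j)⁻¹ * (sig f 1 * ((n * sig f j) * n))) * ev f s 15 * ((n * sig f j)⁻¹ * (sig f 1 * ((n * sig f j) * n)))⁻¹ = ev f s 1 := by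
    rw [cmul, cmul (sig f 1), cmul (n * sig f j), a1, b2, s1]
    exact cinv b2
  have g2 : ((n * sig f j)⁻¹ * (sig f 1 * ((n * sig f j) * n))) * ev f s 1 * ((n * sig f j)⁻¹ * (sig f 1 * ((n * sig f j) * n)))⁻¹ = ev f s 15 := by
    rw [cmul, cmul (sig f 1), cmul (n * sig f j), a2, b3, s2]
    exact cinv b1
  have hgN : ((n * sig f j)⁻¹ * (sig f 1 * ((n * sig f j) * n))) ∈ Subgroup.normalizer (h.E : Set G) :=
    mul_mem (inv_mem (mul_mem hn (h.sig_N j))) (mul_mem (h.sig_N 1) (mul_mem (mul_mem hn (h.sig_N j)) hn))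
  generalize ((n * sig f j)⁻¹ * (sig f 1 * ((n * sig f j) * n))) = g at g1 g2 hgN
  have k1 : (n⁻¹ * g) * t * (n⁻¹ * g)⁻¹ = t := by
    rw [cmul, ← h15, g1]; exact cinv a1
  obtain ⟨p, hp⟩ := h.perm_of_stab (mul_mem (inv_mem hn) hgN) (mul_inv_eq_iff_eq_mul.1 k1)
  have k2 : ev f s 15 = ev f s (c (p 0)) := by
    rw [← hc2, ← hp, cmul, ← ev_1, g2]; group
  have k3 := h.ev_inj _ (by decide) _ (hc1 _) k2
  have k4 : ∀ i, c i ≠ 15 := by
    intro i
    have h1' : c 1 = 3 ∨ c 1 = 5 ∨ c 1 = 9 := by simpa using h1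
    have h2' : c 2 = 3 ∨ c 2 = 5 ∨ c 2 = 9 := by simpa using h2
    have h3' : c 3 = 3 ∨ c 3 = 5 ∨ c 3 = 9 := by simpa using h3
    fin_cases i
    · show c 0 ≠ 15; omega
    · show c 1 ≠ 15; omega
    · show c 2 ≠ 15; omega
    · show c 3 ≠ 15; omega
  exact k4 _ k3.symm

/-- the set of five -/
def PP (f : L × L →* G) (s t : G) : Set G := {g | g = t ∨ ∃ i, g = x f s i}

theorem t_P : t ∈ PP f s t := Or.inl rfl
theorem x_P (i : Fin 4) : x f s i ∈ PP f s t := Or.inr ⟨i, rfl⟩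

theorem P_E (h : Sit f s t) {g : G} (hg : g ∈ PP f s t) : g ∈ h.E := by
  rcases hg with hg | ⟨i, hg⟩
  · rw [hg]; exact h.t_mem_E
  · rw [hg]; exact h.x_mem_E i

theorem ev_P (h : Sit f s t) {v : ℕ} (hv : v ∈ VL) : ev f s v ∈ PP f s t ↔ v ∈ [15, 1, 2, 4, 8] := by
  constructor
  · rintro (hg | ⟨i, hg⟩)
    · have h15 := h.ev_15
      rw [← h15] at hg
      rw [h.ev_inj _ hv _ (by decide) hg]
      decide
    · rw [x_ev] at hg
      rw [h.ev_inj _ hv _ (xv_mem i) hg]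
      exact xvP i
  · intro hv'
    have hv'' : v = 15 ∨ v = 1 ∨ v = 2 ∨ v = 4 ∨ v = 8 := by simpa using hv'
    rcases hv'' with h1 | h1 | h1 | h1 | h1 <;> rw [h1]
    · left; exact h.ev_15
    · right; exact ⟨0, ev_1⟩
    · right; exact ⟨1, ev_2⟩
    · right; exact ⟨2, ev_4⟩
    · right; exact ⟨3, ev_8⟩

/-- the class of `t` -/
def DD (t : G) : Set G := {g | ∃ k : G, k * t * k⁻¹ = g}

theorem DD_conj {g : G} (hg : g ∈ DD t) (k : G) : k * g * k⁻¹ ∈ DD t := by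
  obtain ⟨l, rfl⟩ := hg
  exact ⟨k * l, by group⟩

theorem DD_conj' {g k : G} (hg : k * g * k⁻¹ ∈ DD t) : g ∈ DD t := by
  have := DD_conj hg k⁻¹
  have h1 : k⁻¹ * (k * g * k⁻¹) * k⁻¹⁻¹ = g := by group
  rwa [h1] at this

theorem stab_P (h : Sit f s t) {k : G} (hk : k ∈ Subgroup.normalizer (h.E : Set G)) (hkt : k * t * k⁻¹ = t) :
    k ∈ Subgroup.normalizer (PP f s t) := by
  obtain ⟨p, hp⟩ := h.perm_of_stab hk (mul_inv_eq_iff_eq_mul.1 hkt)
  apply mem_norm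
  rintro g (hg | ⟨i, hg⟩)
  · rw [hg, hkt]; exact t_P
  · rw [hg, hp]; exact x_P _

theorem block (h : Sit f s t) (htr : ∀ z ∈ PP f s t, ∃ k ∈ Subgroup.normalizer (h.E : Set G),
      k ∈ Subgroup.normalizer (PP f s t) ∧ k * t * k⁻¹ = z) {k p : G}
    (hk : k ∈ Subgroup.normalizer (h.E : Set G)) (hp : p ∈ PP f s t) (hkp : k * p * k⁻¹ ∈ PP f s t) :
    k ∈ Subgroup.normalizer (PP f s t) := by
  obtain ⟨k₁, h1, h2, h3⟩ := htr p hp
  obtain ⟨k₂, h4, h5, h6⟩ := htr _ hkp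
  have h7 : (k₂⁻¹ * (k * k₁)) * t * (k₂⁻¹ * (k * k₁))⁻¹ = t := by
    rw [cmul, cmul, h3, ← h6]; group
  have h8 := h.stab_P (mul_mem (inv_mem h4) (mul_mem hk h1)) h7
  have h9 := mul_mem (mul_mem h5 h8) (inv_mem h2)
  have h10 : k₂ * (k₂⁻¹ * (k * k₁)) * k₁⁻¹ = k := by group
  rwa [h10] at h9


theorem htr (h : Sit f s t) {n : G} (hn : n ∈ Subgroup.normalizer (h.E : Set G)) (hnt : n * t * n⁻¹ = x f s 0)
    {c : Fin 4 → ℕ} (hc2 : ∀ i, n * x f s i * n⁻¹ = ev f s (c i))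
    (h0 : c 0 = 15) (h1 : c 1 ∈ [2, 4, 8]) (h2 : c 2 ∈ [2, 4, 8]) (h3 : c 3 ∈ [2, 4, 8]) :
    ∀ z ∈ PP f s t, ∃ k ∈ Subgroup.normalizer (h.E : Set G), k ∈ Subgroup.normalizer (PP f s t) ∧ k * t * k⁻¹ = z := by
  have hP : ∀ v, v ∈ [2, 4, 8] → ev f s v ∈ PP f s t := by
    intro v hv
    have hv' : v = 2 ∨ v = 4 ∨ v = 8 := by simpa using hv
    rcases hv' with h | h | h <;> rw [h]
    · right; exact ⟨1, ev_2⟩
    · right; exact ⟨2, ev_4⟩
    · right; exact ⟨3, ev_8⟩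
  have hnP : n ∈ Subgroup.normalizer (PP f s t) := by
    apply mem_norm
    rintro g (hg | ⟨i, hg⟩)
    · rw [hg, hnt]; exact x_P _
    · rw [hg, hc2]
      fin_cases i
      · show ev f s (c 0) ∈ _
        rw [h0, h.ev_15]; exact t_P
      · exact hP _ h1
      · exact hP _ h2
      · exact hP _ h3
  rintro z (hz | ⟨i, hz⟩)
  · exact ⟨1, one_mem _, one_mem _, by rw [hz]; group⟩
  · refine ⟨sig f i * n, mul_mem (h.sig_N i) hn, mul_mem (h.stab_P (h.sig_N i) (h.sig_conj_t i)) hnP, ?_⟩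
    rw [cmul, hnt, h.sig_x, kf_zero, hz]

theorem A15 (h : Sit f s t) {n : G} (hn : n ∈ Subgroup.normalizer (h.E : Set G)) (hnt : n * t * n⁻¹ = x f s 0)
    {c : Fin 4 → ℕ} (hc1 : ∀ i, c i ∈ VL) (hc2 : ∀ i, n * x f s i * n⁻¹ = ev f s (c i)) (hc3 : ∀ i j, c i = c j → i = j)
    (h0 : c 0 = 15) (h1 : c 1 ∈ [2, 4, 8]) (h2 : c 2 ∈ [2, 4, 8]) (h3 : c 3 ∈ [2, 4, 8]) :
    ev f s 14 ∉ DD t ∧ ev f s 3 ∉ DD t := by
  have htr := h.htr hn hnt hc2 h0 h1 h2 h3
  have h15 : ev f s 15 = t := h.ev_15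
  have hA : ev f s 14 ∉ DD t := by
    rintro ⟨k, hk⟩
    obtain ⟨m, hm, hmt⟩ := h.fus h.t_mem_E (h.mem_E.2 ⟨14, by decide, rfl⟩) hk
    have hr : rho f * ev f s 14 * (rho f)⁻¹ = ev f s 14 := by
      rw [h.rho_ev]; rfl
    obtain ⟨p, hp, i, hi⟩ := h.fixpt hm (by rw [hmt]; exact mul_inv_eq_iff_eq_mul.1 hr)
    obtain ⟨v, hv, hyv⟩ := h.mem_E.1 (h.norm_iff hm (h.x_mem_E i))
    have hfix : v = 0 ∨ v = 15 ∨ v = 1 ∨ v = 14 := by
      apply h.rho_fix hv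
      rw [← hyv, hp i, hi]
    have hm14 : ∀ {k}, k ∈ Subgroup.normalizer (PP f s t) → k * t * k⁻¹ = ev f s 14 → False := by
      intro k hk1 hk2
      have h4 := (Subgroup.mem_set_normalizer_iff.1 hk1 t).1 t_P
      rw [hk2, h.ev_P (by decide)] at h4
      revert h4; decide
    rcases hfix with h4 | h4 | h4 | h4
    · apply h.x_ne_one i
      rw [h4, ev_zero] at hyv
      have : x f s i = m⁻¹ * (m * x f s i * m⁻¹) * m := by group
      rw [this, hyv]; group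
    · apply hm14 (h.block htr hm (x_P i) _) hmt
      rw [hyv, h4, h15]; exact t_P
    · apply hm14 (h.block htr hm (x_P i) _) hmt
      rw [hyv, h4, ev_1]; exact x_P 0
    · rw [h4, ← hmt] at hyv
      exact h.x_ne_t i (mul_left_cancel (mul_right_cancel hyv))
  refine ⟨hA, fun hB => hA ?_⟩
  have hj : ∃ j, c j = 2 := by
    have e12 : c 1 ≠ c 2 := fun h => absurd (hc3 _ _ h) (by decide)
    have e13 : c 1 ≠ c 3 := fun h => absurd (hc3 _ _ h) (by decide)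
    have e23 : c 2 ≠ c 3 := fun h => absurd (hc3 _ _ h) (by decide)
    have h1' : c 1 = 2 ∨ c 1 = 4 ∨ c 1 = 8 := by simpa using h1
    have h2' : c 2 = 2 ∨ c 2 = 4 ∨ c 2 = 8 := by simpa using h2
    have h3' : c 3 = 2 ∨ c 3 = 4 ∨ c 3 = 8 := by simpa using h3
    have : c 1 = 2 ∨ c 2 = 2 ∨ c 3 = 2 := by omega
    rcases this with h | h | h
    · exact ⟨_, h⟩
    · exact ⟨_, h⟩
    · exact ⟨_, h⟩
  obtain ⟨j, hj⟩ := hj
  have b1 : (n * sig f j) * ev f s 15 * (n * sig f j)⁻¹ = ev f s 1 := by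
    rw [cmul, h15, h.sig_conj_t, ev_1]; exact hnt
  have b2 : (n * sig f j) * ev f s 1 * (n * sig f j)⁻¹ = ev f s 2 := by
    rw [cmul, ev_1, h.sig_x, kf_zero, hc2, hj]
  have b3 : (n * sig f j) * ev f s 14 * (n * sig f j)⁻¹ = ev f s 3 := h.conj_two b1 b2
  exact DD_conj' (b3.symm ▸ hB)

theorem evens (h : Sit f s t) (h3 : ev f s 3 ∈ DD t) : ∀ v ∈ [3, 5, 6, 9, 10, 12], ev f s v ∈ DD t := by
  intro v hv
  obtain ⟨e1, e2, i, hi⟩ := even_orb v hv
  have h5 : ev f s 5 ∈ DD t := by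
    have := DD_conj h3 (rho f)
    rwa [h.rho_ev, e1] at this
  have h9 : ev f s 9 ∈ DD t := by
    have := DD_conj h5 (rho f)
    rwa [h.rho_ev, e2] at this
  rcases hi with hi | hi | hi
  · have := DD_conj h3 (sig f i)
    rwa [h.sig_ev, hi] at this
  · have := DD_conj h5 (sig f i)
    rwa [h.sig_ev, hi] at this
  · have := DD_conj h9 (sig f i)
    rwa [h.sig_ev, hi] at this


theorem caseB (h : Sit f s t) (h3 : ev f s 3 ∈ DD t) (h1 : ev f s 1 ∉ DD t) (h14 : ev f s 14 ∉ DD t) : False := by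
  have h15 : ev f s 15 = t := h.ev_15
  have htD : t ∈ DD t := ⟨1, by group⟩
  -- images of x 0 under the normalizer
  have himg : ∀ k ∈ Subgroup.normalizer (h.E : Set G), ∃ v, (v ∈ OL ∨ v ∈ [14, 13, 11, 7]) ∧ v ∈ VL ∧ k * x f s 0 * k⁻¹ = ev f s v := by
    intro k hk
    obtain ⟨v, hv, hkv⟩ := h.mem_E.1 (h.norm_iff hk (h.x_mem_E 0))
    have hD : ev f s v ∉ DD t := by
      intro h4
      rw [← hkv] at h4
      have := DD_conj' h4
      rw [← ev_1] at this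
      exact h1 this
    refine ⟨v, odd_cases v hv ?_ ?_ ?_, hv, hkv⟩
    · intro h0
      rw [h0, ev_zero] at hkv
      apply h.x_ne_one 0
      have : x f s 0 = k⁻¹ * (k * x f s 0 * k⁻¹) * k := by group
      rw [this, hkv]; group
    · intro h0
      rw [h0, h15] at hD
      exact hD htD
    · intro h0
      exact hD (h.evens h3 v h0)
  obtain ⟨k, hk⟩ := h3
  obtain ⟨n, hn, hnt⟩ := h.fus h.t_mem_E (h.mem_E.2 ⟨3, by decide, rfl⟩) hk
  by_cases hm : ∃ m ∈ Subgroup.normalizer (h.E : Set G), m * x f s 0 * m⁻¹ = ev f s 14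
  · obtain ⟨m, hm, hm14⟩ := hm
    -- all eight odd elements are conjugate in the normalizer
    have hall : ∀ v ∈ [1, 2, 4, 8, 14, 13, 11, 7], ∃ k ∈ Subgroup.normalizer (h.E : Set G), k * x f s 0 * k⁻¹ = ev f s v := by
      intro v hv
      have hv' : (∃ i : Fin 4, v = ![1, 2, 4, 8] i) ∨ v ∈ [14, 13, 11, 7] := by
        revert hv; revert v; decide +kernel
      rcases hv' with ⟨i, hi⟩ | hv'
      · exact ⟨sig f i, h.sig_N i, by rw [h.sig_x, kf_zero, hi, x_ev]⟩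
      · obtain ⟨i, hi⟩ := odd2 v hv'
        exact ⟨sig f i * m, mul_mem (h.sig_N i) hm, by rw [cmul, hm14, h.sig_ev, hi]⟩
    let N := Subgroup.normalizer (h.E : Set G)
    have hEN : h.E ≤ N := Subgroup.le_normalizer
    let y : N := ⟨x f s 0, hEN (h.x_mem_E 0)⟩
    have hcl : Nat.card (ConjClasses.mk y).carrier = 8 := by
      have hV8 : ∀ v ∈ ([1, 2, 4, 8, 14, 13, 11, 7] : List ℕ), v ∈ VL := by decide +kernel
      have himage : (fun z : N => z.1) '' (ConjClasses.mk y).carrier =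
          (ev f s) '' ({1, 2, 4, 8, 14, 13, 11, 7} : Finset ℕ) := by
        ext g
        constructor
        · rintro ⟨z, hz, rfl⟩
          have hz' : IsConj y z := by
            rw [ConjClasses.mem_carrier_iff_mk_eq] at hz
            exact (ConjClasses.mk_eq_mk_iff_isConj.1 hz).symm
          obtain ⟨k, hk⟩ := isConj_iff.1 hz'
          have hk' : k.1 * x f s 0 * k.1⁻¹ = z.1 := congrArg Subtype.val hk
          obtain ⟨v, hv, -, hkv⟩ := himg k.1 k.2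
          refine ⟨v, ?_, ?_⟩
          · have : ∀ v, (v ∈ OL ∨ v ∈ [14, 13, 11, 7]) → v ∈ ({1, 2, 4, 8, 14, 13, 11, 7} : Finset ℕ) := by
              intro v hv
              simp [OL] at hv ⊢
              tauto
            exact this v hv
          · show ev f s v = z.1
            rw [← hkv, hk']
        · rintro ⟨v, hv, rfl⟩
          have hv' : v ∈ [1, 2, 4, 8, 14, 13, 11, 7] := by
            simp at hv ⊢; exact hv
          obtain ⟨k, hk, hkv⟩ := hall v hv'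
          refine ⟨⟨k, hk⟩ * y * ⟨k, hk⟩⁻¹, ?_, ?_⟩
          · rw [ConjClasses.mem_carrier_iff_mk_eq, ConjClasses.mk_eq_mk_iff_isConj]
            exact (isConj_iff.2 ⟨⟨k, hk⟩, rfl⟩ : IsConj y _).symm
          · exact hkv
      have e1 : (ConjClasses.mk y).carrier.ncard = 8 := by
        rw [← Set.ncard_image_of_injective (ConjClasses.mk y).carrier (f := fun z : N => z.1) Subtype.val_injective, himage,
          Set.ncard_image_of_injOn]
        · rw [Set.ncard_coe_finset]; rfl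
        · intro a ha b hb hab
          have ha' : a ∈ [1, 2, 4, 8, 14, 13, 11, 7] := by simp at ha ⊢; exact ha
          have hb' : b ∈ [1, 2, 4, 8, 14, 13, 11, 7] := by simp at hb ⊢; exact hb
          exact h.ev_inj a (hV8 a ha') b (hV8 b hb') hab
      rw [← e1]; rfl
    have hcc := card_carrier_mul_centralizer y
    rw [hcl] at hcc
    have h16 : 16 ∣ Nat.card (Subgroup.centralizer ({y} : Set N)) := by
      have hle : h.E.subgroupOf N ≤ Subgroup.centralizer ({y} : Set N) := by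
        intro z hz
        rw [Subgroup.mem_centralizer_singleton_iff]
        apply Subtype.ext
        exact h.E_comm (Subgroup.mem_subgroupOf.1 hz) (h.x_mem_E 0)
      have := Subgroup.card_dvd_of_le hle
      rwa [Nat.card_congr (Subgroup.subgroupOfEquivOfLe hEN).toEquiv, h.card_E] at this
    apply h.not_128
    obtain ⟨q, hq⟩ := h16
    rw [hq] at hcc
    have h5 : Nat.card N ∣ Nat.card G := Subgroup.card_subgroup_dvd_card N
    rw [← hcc] at h5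
    exact Dvd.dvd.trans ⟨q, by ring⟩ h5
  · push Not at hm
    have hX : ∀ k ∈ Subgroup.normalizer (h.E : Set G), ∀ i, ∃ v ∈ OL, k * x f s i * k⁻¹ = ev f s v := by
      intro k hk i
      obtain ⟨v, hv1, hv2, hkv⟩ := himg (k * sig f i) (mul_mem hk (h.sig_N i))
      rw [cmul, h.sig_x, kf_zero] at hkv
      rcases hv1 with hv1 | hv1
      · exact ⟨v, hv1, hkv⟩
      · exfalso
        obtain ⟨j, hj⟩ := odd2 v hv1
        apply hm ((sig f j)⁻¹ * (k * sig f i)) (mul_mem (inv_mem (h.sig_N j)) (mul_mem hk (h.sig_N i)))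
        rw [cmul, cmul, h.sig_x, kf_zero, hkv, ← hj]
        exact cinv (h.sig_ev j 14)
    obtain ⟨c, hc1, hc2, hc3, hc4⟩ := h.coords hn
    have hcO : ∀ i, c i ∈ OL := by
      intro i
      obtain ⟨v, hv, hv2⟩ := hX n hn i
      rw [hc2] at hv2
      have hOV : ∀ v ∈ OL, v ∈ VL := by decide +kernel
      rw [h.ev_inj _ (hc1 i) _ (hOV v hv) hv2]
      exact hv
    have hne : ∀ i j : Fin 4, i ≠ j → c i ≠ c j := fun i j hij h1 => hij (hc3 i j h1)
    have h5 := xor15 _ (hcO 0) _ (hcO 1) _ (hcO 2) _ (hcO 3) ⟨hne 0 1 (by decide), hne 0 2 (by decide), hne 0 3 (by decide),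
      hne 1 2 (by decide), hne 1 3 (by decide), hne 2 3 (by decide)⟩
    rw [h5, hnt] at hc4
    have := h.ev_inj _ (by decide) _ (by decide) hc4
    omega

end Sit

end Cfsg.Agent.Lib.PSQ
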