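import Cfsg.Agent.Lib.PSQ7

set_option autoImplicit false
set_option linter.unusedSectionVars false

namespace Cfsg.Agent.Lib.PSQ

theorem fix5 : ∀ p : Fin 5 → Fin 5, (∀ i, p (p i) = i) → ∃ i, p i = i := by decide +kernel

theorem VL_odd1 : ∀ v ∈ OL, ∃ i : Fin 4, v = ![1, 2, 4, 8] i := by decide +kernel

theorem VL_odd2 : ∀ v ∈ [14, 13, 11, 7], v ∈ Sit.VL ∧ ∃ i : Fin 4, v = 15 ^^^ ![1, 2, 4, 8] i := by decide +kernel

theorem VL_even : ∀ v ∈ [3, 5, 6, 9, 10, 12], v ∈ Sit.VL ∧ ∃ i j : Fin 4, i ≠ j ∧ v = ![1, 2, 4, 8] i ^^^ ![1, 2, 4, 8] j := by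
  decide +kernel

theorem U_even_or : ∀ v ∈ Sit.VL, v ≠ 0 → v ∉ [15, 1, 2, 4, 8] → v ∈ [14, 13, 11, 7] ∨ v ∈ [3, 5, 6, 9, 10, 12] := by
  decide +kernel

namespace Sit

variable {G : Type*} [Group G] [Finite G] {f : L × L →* G} {s t : G}

theorem one_notin_D (h : Sit f s t) : (1 : G) ∉ DD t := by
  rintro ⟨k, hk⟩
  apply h.t_ne
  have : t = k⁻¹ * (k * t * k⁻¹) * k := by group
  rw [this, hk]; group

theorem t_D : t ∈ DD t := ⟨1, by group⟩

theorem D_sq (h : Sit f s t) {g : G} (hg : g ∈ DD t) : g * g = 1 := by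
  obtain ⟨k, rfl⟩ := hg
  calc k * t * k⁻¹ * (k * t * k⁻¹) = k * (t * t) * k⁻¹ := by group
    _ = 1 := by rw [h.tt]; group

theorem evens' (h : Sit f s t) {v : ℕ} (hv : v ∈ [3, 5, 6, 9, 10, 12]) (hD : ev f s v ∈ DD t) : ev f s 3 ∈ DD t := by
  obtain ⟨e1, e2, i, hi⟩ := even_orb v hv
  have h53 : ev f s 5 ∈ DD t → ev f s 3 ∈ DD t := by
    intro h5
    rw [← e1, ← h.rho_ev] at h5
    exact DD_conj' h5
  have h95 : ev f s 9 ∈ DD t → ev f s 5 ∈ DD t := by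
    intro h5
    rw [← e2, ← h.rho_ev] at h5
    exact DD_conj' h5
  rcases hi with hi | hi | hi
  · rw [← hi, ← h.sig_ev] at hD
    exact DD_conj' hD
  · rw [← hi, ← h.sig_ev] at hD
    exact h53 (DD_conj' hD)
  · rw [← hi, ← h.sig_ev] at hD
    exact h53 (h95 (DD_conj' hD))

theorem odds' (h : Sit f s t) {v : ℕ} (hv : v ∈ [14, 13, 11, 7]) (hD : ev f s v ∈ DD t) : ev f s 14 ∈ DD t := by
  obtain ⟨i, hi⟩ := odd2 v hv
  rw [← hi, ← h.sig_ev] at hD
  exact DD_conj' hD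

theorem five0 (h : Sit f s t) (h0 : x f s 0 ∈ DD t) : ∀ v ∈ VL, ev f s v ∈ DD t ↔ v ∈ [15, 1, 2, 4, 8] := by
  obtain ⟨k, hk⟩ := h0
  obtain ⟨n, hn, hnt⟩ := h.fus h.t_mem_E (h.x_mem_E 0) hk
  obtain ⟨n', hn', hnt', c, hc1, hc2, hc3, hc⟩ := h.key0 hn hnt
  rcases hc with ⟨c0, c1, c2, c3⟩ | ⟨c0, c1, c2, c3⟩
  · obtain ⟨h14, h3⟩ := h.A15 hn' hnt' hc1 hc2 hc3 c0 c1 c2 c3
    intro v hv
    constructor
    · intro hD
      by_contra hno
      have hv0 : v ≠ 0 := by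
        intro h0
        rw [h0, ev_zero] at hD
        exact h.one_notin_D hD
      rcases U_even_or v hv hv0 hno with h4 | h4
      · exact h14 (h.odds' h4 hD)
      · exact h3 (h.evens' h4 hD)
    · intro hv'
      have := (h.ev_P hv).2 hv'
      rcases this with h4 | ⟨i, h4⟩
      · rw [h4]; exact t_D
      · rw [h4]
        have h5 : x f s 0 ∈ DD t := ⟨k, hk⟩
        have h6 := DD_conj h5 (sig f i)
        rwa [h.sig_x, kf_zero] at h6
  · exact (h.no14 hn' hnt' hc1 hc2 hc3 c0 c1 c2 c3).elim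

theorem exists_five (h : Sit f s t) (hiso : ¬ ∀ g : G, g * t * g⁻¹ ∈ h.S → g * t * g⁻¹ = t) :
    ∃ s', ∃ _h' : Sit f s' t, ∀ v ∈ VL, ev f s' v ∈ DD t ↔ v ∈ [15, 1, 2, 4, 8] := by
  by_cases h0 : x f s 0 ∈ DD t
  · exact ⟨s, h, h.five0 h0⟩
  by_cases h14 : ev f s 14 ∈ DD t
  · refine ⟨t * s, h.twist, h.twist.five0 ?_⟩
    have e1 : x f (t * s) 0 = ev f s 14 := by
      rw [x, h.r_twist]
      have e2 : ev f s 14 = ev f s (15 ^^^ 1) := rfl
      rw [e2, h.ev_mul, h.ev_15, ev_1]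
      rfl
    rw [e1]; exact h14
  exfalso
  have h3 : ev f s 3 ∉ DD t := by
    intro h3
    exact h.caseB h3 (by rw [ev_1]; exact h0) h14
  apply hiso
  intro g hg
  have hD : g * t * g⁻¹ ∈ DD t := ⟨g, rfl⟩
  by_cases hE : g * t * g⁻¹ ∈ h.E
  · obtain ⟨v, hv, hgv⟩ := h.mem_E.1 hE
    rw [hgv] at hD
    have hv0 : v ≠ 0 := by
      intro h0
      rw [h0, ev_zero] at hD
      exact h.one_notin_D hD
    by_cases hP : v ∈ [15, 1, 2, 4, 8]
    · have := (h.ev_P hv).2 hP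
      rcases this with h4 | ⟨i, h4⟩
      · rw [hgv, h4]
      · exfalso
        rw [h4] at hD
        apply h0
        have e1 := h.sig_x i 0
        rw [kf_zero] at e1
        rw [← e1] at hD
        exact DD_conj' hD
    · exfalso
      rcases U_even_or v hv hv0 hP with h4 | h4
      · exact h14 (h.odds' h4 hD)
      · exact h3 (h.evens' h4 hD)
  · exfalso
    obtain ⟨c, -, hc⟩ := h.n5 hg (h.D_sq hD) hE
    apply h3
    have e1 : ev f s 3 = x f s 0 * x f s 1 := by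
      have : ev f s 3 = ev f s (1 ^^^ 2) := rfl
      rw [this, h.ev_mul, ev_1, ev_2]
    rw [e1, ← hc]
    exact DD_conj hD c

end Sit

/-- the situation after the choice of `s` -/
structure Five {G : Type*} [Group G] (f : L × L →* G) (s t : G) : Prop extends Sit f s t where
  DE : ∀ v ∈ Sit.VL, Sit.ev f s v ∈ Sit.DD t ↔ v ∈ [15, 1, 2, 4, 8]

namespace Five

open Sit

variable {G : Type*} [Group G] [Finite G] {f : L × L →* G} {s t : G}

theorem mem_D (H : Five f s t) {g : G} (hg : g ∈ H.toSit.E) : g ∈ DD t ↔ g ∈ PP f s t := by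
  obtain ⟨v, hv, rfl⟩ := H.toSit.mem_E.1 hg
  rw [H.DE v hv, H.toSit.ev_P hv]

theorem P_D (H : Five f s t) {g : G} (hg : g ∈ PP f s t) : g ∈ DD t := (H.mem_D (H.toSit.P_E hg)).2 hg

/-- the normalizer of `E` -/
abbrev NN (H : Five f s t) : Subgroup G := Subgroup.normalizer (H.toSit.E : Set G)

theorem N_P (H : Five f s t) {n p : G} (hn : n ∈ H.NN) (hp : p ∈ PP f s t) : n * p * n⁻¹ ∈ PP f s t :=
  (H.mem_D (H.toSit.norm_iff hn (H.toSit.P_E hp))).1 (DD_conj (H.P_D hp) n)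

theorem tr (H : Five f s t) {p : G} (hp : p ∈ PP f s t) : ∃ n ∈ H.NN, n * p * n⁻¹ = t := by
  obtain ⟨k, hk⟩ := H.P_D hp
  obtain ⟨n, hn, hnt⟩ := H.toSit.fus H.toSit.t_mem_E (H.toSit.P_E hp) hk
  refine ⟨n⁻¹, inv_mem hn, ?_⟩
  exact cinv hnt

def y5 (f : L × L →* G) (s t : G) : Fin 5 → G := ![t, x f s 0, x f s 1, x f s 2, x f s 3]

theorem P_y5 {g : G} : g ∈ PP f s t ↔ ∃ i, g = y5 f s t i := by
  constructor
  · rintro (h | ⟨i, h⟩)
    · exact ⟨0, h⟩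
    · fin_cases i
      · exact ⟨1, h⟩
      · exact ⟨2, h⟩
      · exact ⟨3, h⟩
      · exact ⟨4, h⟩
  · rintro ⟨i, h⟩
    fin_cases i
    · left; exact h
    · right; exact ⟨0, h⟩
    · right; exact ⟨1, h⟩
    · right; exact ⟨2, h⟩
    · right; exact ⟨3, h⟩

theorem y5_inj (H : Five f s t) {i j : Fin 5} (hij : y5 f s t i = y5 f s t j) : i = j := by
  have hv : ∀ i : Fin 5, y5 f s t i = ev f s (![15, 1, 2, 4, 8] i) := by
    intro i
    fin_cases i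
    · exact H.toSit.ev_15.symm
    · exact ev_1.symm
    · exact ev_2.symm
    · exact ev_4.symm
    · exact ev_8.symm
  rw [hv, hv] at hij
  have h1 : ∀ i : Fin 5, (![15, 1, 2, 4, 8] i : ℕ) ∈ VL := by decide +kernel
  have h2 : ∀ i j : Fin 5, (![15, 1, 2, 4, 8] i : ℕ) = ![15, 1, 2, 4, 8] j → i = j := by decide +kernel
  exact h2 _ _ (H.toSit.ev_inj _ (h1 i) _ (h1 j) hij)

/-- an involution normalizing `E` fixes one of the five -/
theorem fix_P (H : Five f s t) {g : G} (hg : g ∈ H.NN) (h2 : g * g = 1) : ∃ p ∈ PP f s t, g * p = p * g := by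
  have : ∀ i, ∃ j, g * y5 f s t i * g⁻¹ = y5 f s t j := fun i => P_y5.1 (H.N_P hg (P_y5.2 ⟨i, rfl⟩))
  choose p hp using this
  obtain ⟨i, hi⟩ := fix5 p (fun i => by
    apply H.y5_inj
    rw [← hp, ← hp]
    calc g * (g * y5 f s t i * g⁻¹) * g⁻¹ = (g * g) * y5 f s t i * (g * g)⁻¹ := by group
      _ = _ := by rw [h2]; group)
  refine ⟨y5 f s t i, P_y5.2 ⟨i, rfl⟩, ?_⟩
  have := hp i
  rw [hi] at this
  exact mul_inv_eq_iff_eq_mul.1 this

theorem ev3 (h : Sit f s t) : ev f s 3 = x f s 0 * x f s 1 := by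
  have : ev f s 3 = ev f s (1 ^^^ 2) := rfl
  rw [this, h.ev_mul, ev_1, ev_2]

theorem ev3_D (H : Five f s t) : ev f s 3 ∉ DD t := by
  rw [H.DE 3 (by decide)]; decide

/-- involutions in the normalizer of `E` outside `E` are conjugate to `ev 3` -/
theorem inv_N (H : Five f s t) {g : G} (hg : g ∈ H.NN) (h2 : g * g = 1) (hE : g ∉ H.toSit.E) :
    ∃ p ∈ PP f s t, ∃ c, g * p = p * g ∧ c * p * c⁻¹ = t ∧ c * g * c⁻¹ = ev f s 3 := by
  obtain ⟨p, hp, hgp⟩ := H.fix_P hg h2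
  obtain ⟨n, hn, hnp⟩ := H.tr hp
  have h1 : (n * g * n⁻¹) * t = t * (n * g * n⁻¹) := by
    rw [← hnp]
    calc n * g * n⁻¹ * (n * p * n⁻¹) = n * (g * p) * n⁻¹ := by group
      _ = n * (p * g) * n⁻¹ := by rw [hgp]
      _ = _ := by group
  have h3 : (n * g * n⁻¹) * (n * g * n⁻¹) = 1 := by
    calc n * g * n⁻¹ * (n * g * n⁻¹) = n * (g * g) * n⁻¹ := by group
      _ = 1 := by rw [h2]; group
  have hN : n * g * n⁻¹ ∈ H.NN := mul_mem (mul_mem hn hg) (inv_mem hn)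
  have hS := H.toSit.n5' h1 h3 (H.toSit.norm_iff hN H.toSit.s_mem_E)
  have hE' : n * g * n⁻¹ ∉ H.toSit.E := by
    intro h4
    exact hE ((Subgroup.mem_normalizer_iff.1 hn g).2 h4)
  obtain ⟨c, hc1, hc2⟩ := H.toSit.n5 hS h3 hE'
  refine ⟨p, hp, c * n, hgp, ?_, ?_⟩
  · rw [cmul, hnp, hc1]; group
  · rw [cmul, hc2, ev3 H.toSit]

/-- (G6) -/
theorem G6 (H : Five f s t) {g : G} (hg : g ∈ H.NN) (hD : g ∈ DD t) : g ∈ H.toSit.E := by
  by_contra hE
  obtain ⟨p, -, c, -, -, hc⟩ := H.inv_N hg (H.toSit.D_sq hD) hE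
  apply H.ev3_D
  rw [← hc]
  exact DD_conj hD c

/-- (L1) for `t` -/
theorem L1t (H : Five f s t) {g : G} {v : ℕ} (hv : v ∈ VL) (h0 : v ≠ 0) (h15 : v ≠ 15) (hgt : g * t = t * g)
    (hgv : g * ev f s v = ev f s v * g) : g ∈ H.NN := by
  have hcx : ∀ i, g * x f s i = x f s i * g → g ∈ H.NN := by
    intro i hi
    exact mem_norm fun y hy => H.toSit.n3_norm (q_qe i) hgt hi hy
  by_cases hE : v ∈ [3, 5, 6, 9, 10, 12]
  · obtain ⟨-, i, j, hij, hvij⟩ := VL_even v hE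
    apply H.toSit.S_N
    apply H.toSit.n2 hij hgt
    rw [hvij, H.toSit.ev_mul, ← x_ev, ← x_ev] at hgv
    exact hgv
  · rcases odd_cases v hv h0 h15 hE with h1 | h1
    · obtain ⟨i, hi⟩ := VL_odd1 v h1
      rw [hi, ← x_ev] at hgv
      exact hcx i hgv
    · obtain ⟨-, i, hi⟩ := VL_odd2 v h1
      apply hcx i
      rw [hi, H.toSit.ev_mul, H.toSit.ev_15, ← x_ev] at hgv
      have h3 : x f s i = t * (t * x f s i) := by rw [← mul_assoc, H.toSit.tt, one_mul]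
      calc g * x f s i = g * t * (t * x f s i) := by rw [mul_assoc, ← h3]
        _ = t * (g * (t * x f s i)) := by rw [hgt]; group
        _ = t * (t * x f s i * g) := by rw [hgv]
        _ = (t * t) * x f s i * g := by group
        _ = _ := by rw [H.toSit.tt, one_mul]

/-- (L1) -/
theorem L1 (H : Five f s t) {g d e : G} (hd : d ∈ PP f s t) (he : e ∈ H.toSit.E) (h1 : e ≠ 1) (hed : e ≠ d)
    (hgd : g * d = d * g) (hge : g * e = e * g) : g ∈ H.NN := by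
  obtain ⟨n, hn, hnd⟩ := H.tr hd
  obtain ⟨v, hv, hnv⟩ := H.toSit.mem_E.1 (H.toSit.norm_iff hn he)
  have cc : ∀ a, g * a = a * g → (n * g * n⁻¹) * (n * a * n⁻¹) = (n * a * n⁻¹) * (n * g * n⁻¹) := by
    intro a ha
    calc n * g * n⁻¹ * (n * a * n⁻¹) = n * (g * a) * n⁻¹ := by group
      _ = n * (a * g) * n⁻¹ := by rw [ha]
      _ = _ := by group
  have e1 := cc d hgd
  have e2 := cc e hge
  rw [hnd] at e1
  rw [hnv] at e2
  have h3 : n * g * n⁻¹ ∈ H.NN := by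
    apply H.L1t hv _ _ e1 e2
    · intro h0
      apply h1
      rw [h0, ev_zero] at hnv
      have : e = n⁻¹ * (n * e * n⁻¹) * n := by group
      rw [this, hnv]; group
    · intro h15
      apply hed
      rw [h15, H.toSit.ev_15, ← hnd] at hnv
      exact mul_left_cancel (mul_right_cancel hnv)
  have h4 := mul_mem (mul_mem (inv_mem hn) h3) hn
  have h5 : n⁻¹ * (n * g * n⁻¹) * n = g := by group
  rwa [h5] at h4

end Five

end Cfsg.Agent.Lib.PSQ
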