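import Cfsg.Agent.Lib.PSQ8

set_option autoImplicit false
set_option linter.unusedSectionVars false

namespace Cfsg.Agent.Lib.PSQ

theorem inverts' {G : Type*} [Group G] [Finite G] {K : Subgroup G} [K.Normal] {v : G} (hv : v * v = 1)
    (hfix : ∀ k ∈ K, k * v = v * k → k = 1) : ∀ k ∈ K, v * k * v⁻¹ = k⁻¹ := by
  have hf : MonoidHom.FixedPointFree (MulAut.conjNormal v : MulAut K).toMonoidHom := by
    intro k hk
    have h1 : v * (k : G) * v⁻¹ = k := by
      have := congrArg Subtype.val hk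
      simpa [MulAut.conjNormal_apply] using this
    exact Subtype.ext (hfix k k.2 (mul_inv_eq_iff_eq_mul.1 h1).symm)
  have h2 : Function.Involutive (MulAut.conjNormal v : MulAut K).toMonoidHom := by
    intro k
    apply Subtype.ext
    show ((MulAut.conjNormal v (MulAut.conjNormal v k) : K) : G) = k
    rw [MulAut.conjNormal_apply, MulAut.conjNormal_apply]
    calc v * (v * (k : G) * v⁻¹) * v⁻¹ = (v * v) * k * (v * v)⁻¹ := by group
      _ = k := by rw [hv]; group
  intro k hk
  have h3 := hf.coe_eq_inv_of_involutive h2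
  have h4 := congrFun h3 ⟨k, hk⟩
  have h5 := congrArg Subtype.val h4
  simpa [MulAut.conjNormal_apply] using h5

theorem burn {Γ : Type*} [Group Γ] [Finite Γ] (P : Sylow 2 Γ)
    (hP : Subgroup.normalizer (P : Set Γ) ≤ Subgroup.centralizer (P : Set Γ)) (x : Fin 4 → Γ) (t : Γ)
    (hprod : x 0 * x 1 * x 2 * x 3 = t) (hx : ∀ i, x i * x i = 1) (ht : t * t = 1)
    (hcent : ∀ z, z * t = t * z → z ∈ (P : Subgroup Γ))
    (hci : ∀ i, (∀ z, z * x i = x i * z → z ∈ (P : Subgroup Γ)) ∨ (∃ u, (∀ z, z * u = u * z) ∧ x i = t * u)) :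
    ∀ z, z ∈ (P : Subgroup Γ) := by
  have hf : Fact (Nat.Prime 2) := ⟨Nat.prime_two⟩
  have hc := MonoidHom.ker_transferSylow_isComplement' P hP
  set O := (MonoidHom.transferSylow P hP).ker with hO
  have hdisj : ∀ z ∈ O, z ∈ (P : Subgroup Γ) → z = 1 := by
    intro z h1 h2
    have := hc.disjoint
    rw [Subgroup.disjoint_def] at this
    exact this h1 h2
  have hinvt : ∀ k ∈ O, t * k * t⁻¹ = k⁻¹ := inverts' ht (fun k hk h1 => hdisj k hk (hcent k h1))
  have hinvx : ∀ i, ∀ k ∈ O, x i * k * (x i)⁻¹ = k⁻¹ := by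
    intro i
    rcases hci i with h1 | ⟨u, hu, hxu⟩
    · exact inverts' (hx i) (fun k hk h2 => hdisj k hk (h1 k h2))
    · intro k hk
      rw [hxu, cmul]
      have : u * k * u⁻¹ = k := by rw [← hu k]; group
      rw [this]; exact hinvt k hk
  have hO1 : ∀ z ∈ O, z = 1 := by
    intro z hz
    have h1 : t * z * t⁻¹ = z := by
      rw [← hprod, cmul, cmul, cmul, hinvx 3 z hz, hinvx 2 _ (inv_mem hz), inv_inv, hinvx 1 z hz, hinvx 0 _ (inv_mem hz), inv_inv]
    exact hdisj z hz (hcent z (mul_inv_eq_iff_eq_mul.1 h1).symm)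
  intro z
  obtain ⟨⟨a, b⟩, hab⟩ := hc.2 z
  have ha := hO1 a.1 a.2
  have : z = b.1 := by
    rw [← hab]
    show a.1 * b.1 = b.1
    rw [ha, one_mul]
  rw [this]; exact b.2

theorem dec6a : ∀ i j : Fin 4, i ≠ j → ∀ a ∈ ([15, 1, 2, 4, 8] : List ℕ), (a ^^^ (15 ^^^ ![1, 2, 4, 8] i)) ∈ ([15, 1, 2, 4, 8] : List ℕ) →
    (a ^^^ (15 ^^^ ![1, 2, 4, 8] j)) ∈ ([15, 1, 2, 4, 8] : List ℕ) → a = 15 := by decide +kernel

theorem dec6a' : ∀ i j : Fin 4, (15 ^^^ ![1, 2, 4, 8] i : ℕ) ∈ Sit.VL ∧ (15 ^^^ ![1, 2, 4, 8] j : ℕ) ∈ Sit.VL := by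
  decide +kernel

namespace Five

open Sit

variable {G : Type*} [Group G] [Finite G] {f : L × L →* G} {s t : G}

theorem mem_P_ev (h : Sit f s t) {g : G} (hg : g ∈ PP f s t) : ∃ v ∈ ([15, 1, 2, 4, 8] : List ℕ), v ∈ VL ∧ g = ev f s v := by
  rcases hg with hg | ⟨i, hg⟩
  · exact ⟨15, by decide, by decide, by rw [hg, h.ev_15]⟩
  · exact ⟨_, xvP i, xv_mem i, by rw [hg, x_ev]⟩

theorem tx_comm (h : Sit f s t) {g : G} {i : Fin 4} (hgt : g * t = t * g) (hgi : g * (t * x f s i) = (t * x f s i) * g) :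
    g * x f s i = x f s i * g := by
  have h3 : x f s i = t * (t * x f s i) := by rw [← mul_assoc, h.tt, one_mul]
  calc g * x f s i = g * t * (t * x f s i) := by rw [mul_assoc, ← h3]
    _ = t * (g * (t * x f s i)) := by rw [hgt]; group
    _ = t * (t * x f s i * g) := by rw [hgi]
    _ = (t * t) * x f s i * g := by group
    _ = _ := by rw [h.tt, one_mul]

/-- (6a) -/
theorem centV (H : Five f s t) {i j : Fin 4} (hij : i ≠ j) {g : G} (hi : g * (t * x f s i) = (t * x f s i) * g)
    (hj : g * (t * x f s j) = (t * x f s j) * g) : g ∈ H.toSit.E := by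
  have hf : Fact (Nat.Prime 2) := ⟨Nat.prime_two⟩
  have hS := H.toSit
  let K : Subgroup G := Subgroup.centralizer {t * x f s i} ⊓ Subgroup.centralizer {t * x f s j}
  have memK : ∀ z, z ∈ K ↔ z * (t * x f s i) = (t * x f s i) * z ∧ z * (t * x f s j) = (t * x f s j) * z := by
    intro z
    show z ∈ Subgroup.centralizer {t * x f s i} ∧ z ∈ Subgroup.centralizer {t * x f s j} ↔ _
    rw [Subgroup.mem_centralizer_singleton_iff, Subgroup.mem_centralizer_singleton_iff]
  have htx : ∀ i, t * x f s i ∈ H.toSit.E := fun i => mul_mem H.toSit.t_mem_E (H.toSit.x_mem_E i)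
  have hEK : H.toSit.E ≤ K := by
    intro z hz
    rw [memK]
    exact ⟨H.toSit.E_comm hz (htx i), H.toSit.E_comm hz (htx j)⟩
  -- commuting with t inside K
  have hKt : ∀ z ∈ K, z * t = t * z → z ∈ H.toSit.E := by
    intro z hz hzt
    rw [memK] at hz
    exact H.toSit.cent_two hij hzt (tx_comm H.toSit hzt hz.1) (tx_comm H.toSit hzt hz.2)
  have hKN : ∀ z ∈ K, z ∈ H.NN → z ∈ H.toSit.E := by
    intro z hz hzN
    apply hKt z hz
    rw [memK] at hz
    have hp := H.N_P hzN t_P
    obtain ⟨a, ha, haV, hpa⟩ := mem_P_ev H.toSit hp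
    have key : ∀ k, z * (t * x f s k) = (t * x f s k) * z → (a ^^^ (15 ^^^ ![1, 2, 4, 8] k)) ∈ ([15, 1, 2, 4, 8] : List ℕ) := by
      intro k hk
      have h1 := H.N_P hzN (x_P k)
      have h2 : z * x f s k * z⁻¹ = ev f s (a ^^^ (15 ^^^ ![1, 2, 4, 8] k)) := by
        rw [H.toSit.ev_mul, H.toSit.ev_mul, ← hpa, H.toSit.ev_15, ← x_ev]
        have h3 : z * (t * x f s k) * z⁻¹ = t * x f s k := by rw [hk]; group
        have h4 : x f s k = t * (t * x f s k) := by rw [← mul_assoc, H.toSit.tt, one_mul]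
        calc z * x f s k * z⁻¹ = z * (t * (t * x f s k)) * z⁻¹ := by rw [← h4]
          _ = z * t * z⁻¹ * (z * (t * x f s k) * z⁻¹) := by group
          _ = _ := by rw [h3]
      rw [h2, H.toSit.ev_P (VL_xor _ haV _ (dec6a' k k).1)] at h1
      exact h1
    have h15 := dec6a i j hij a ha (key i hz.1) (key j hz.2)
    rw [h15, H.toSit.ev_15] at hpa
    exact mul_inv_eq_iff_eq_mul.1 hpa
  -- E is a Sylow subgroup of K
  have hE2 : IsPGroup 2 (H.toSit.E.subgroupOf K) := H.toSit.pgroup_E.comap_of_injective K.subtype Subtype.val_injective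
  obtain ⟨P, hP⟩ := hE2.exists_le_sylow
  have hPE : (P : Subgroup K) = H.toSit.E.subgroupOf K := by
    by_contra hne
    obtain ⟨z, hzP, hzE, hz⟩ := ngrow P.isPGroup' hP (Ne.symm hne)
    apply hzE
    rw [Subgroup.mem_subgroupOf]
    apply hKN z.1 z.2
    apply mem_norm
    intro y hy
    have := hz ⟨y, hEK hy⟩ (Subgroup.mem_subgroupOf.2 hy)
    exact Subgroup.mem_subgroupOf.1 this
  have hmemP : ∀ z : K, z ∈ (P : Subgroup K) ↔ z.1 ∈ H.toSit.E := by
    intro z; rw [hPE]; exact Subgroup.mem_subgroupOf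
  have hnc : Subgroup.normalizer (P : Set K) ≤ Subgroup.centralizer (P : Set K) := by
    intro z hz
    have h1 : z.1 ∈ H.toSit.E := by
      apply hKN z.1 z.2
      apply mem_norm
      intro y hy
      have h2 := (Subgroup.mem_normalizer_iff.1 hz ⟨y, hEK hy⟩).1 ((hmemP _).2 hy)
      exact (hmemP _).1 h2
    rw [Subgroup.mem_centralizer_iff]
    intro y hy
    apply Subtype.ext
    exact H.toSit.E_comm ((hmemP y).1 hy) h1
  have hfin := burn P hnc (fun k => ⟨x f s k, hEK (H.toSit.x_mem_E k)⟩) ⟨t, hEK H.toSit.t_mem_E⟩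
    (Subtype.ext H.toSit.x_prod) (fun k => Subtype.ext (H.toSit.xx k)) (Subtype.ext H.toSit.tt)
    (fun z hz => (hmemP z).2 (hKt z.1 z.2 (congrArg Subtype.val hz))) (by
      intro k
      by_cases hki : k = i
      · right
        refine ⟨⟨t * x f s i, hEK (htx i)⟩, ?_, ?_⟩
        · intro z
          exact Subtype.ext ((memK z.1).1 z.2).1
        · apply Subtype.ext
          show x f s k = t * (t * x f s i)
          rw [hki, ← mul_assoc, H.toSit.tt, one_mul]
      · by_cases hkj : k = j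
        · right
          refine ⟨⟨t * x f s j, hEK (htx j)⟩, ?_, ?_⟩
          · intro z
            exact Subtype.ext ((memK z.1).1 z.2).2
          · apply Subtype.ext
            show x f s k = t * (t * x f s j)
            rw [hkj, ← mul_assoc, H.toSit.tt, one_mul]
        · left
          intro z hz
          rw [hmemP]
          apply hKN z.1 z.2
          have hzK := (memK z.1).1 z.2
          -- z commutes with x k and x i x j
          apply H.L1 (d := x f s k) (e := (t * x f s i) * (t * x f s j)) (x_P k) (mul_mem (htx i) (htx j))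
          · intro h1
            have h2 : t * x f s i = t * x f s j := by
              have h3 := H.toSit.E_sq (htx j)
              calc t * x f s i = (t * x f s i) * (t * x f s j) * (t * x f s j) := by rw [mul_assoc, h3, mul_one]
                _ = _ := by rw [h1, one_mul]
            exact hij (H.toSit.x_inj (mul_left_cancel h2))
          · intro h1
            have h2 : ev f s ((15 ^^^ ![1, 2, 4, 8] i) ^^^ (15 ^^^ ![1, 2, 4, 8] j)) = ev f s (![1, 2, 4, 8] k) := by
              rw [H.toSit.ev_mul, H.toSit.ev_mul, H.toSit.ev_mul, H.toSit.ev_15, ← x_ev, ← x_ev, ← x_ev]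
              exact h1
            have h3 := H.toSit.ev_inj _ (VL_xor _ (dec6a' i j).1 _ (dec6a' i j).2) _ (xv_mem k) h2
            have : ∀ i j k : Fin 4, ((15 ^^^ ![1, 2, 4, 8] i) ^^^ (15 ^^^ ![1, 2, 4, 8] j) : ℕ) ≠ ![1, 2, 4, 8] k := by decide +kernel
            exact this i j k h3
          · exact congrArg Subtype.val hz
          · rw [← mul_assoc, hzK.1, mul_assoc, hzK.2, ← mul_assoc])
  exact (hmemP ⟨g, (memK g).2 ⟨hi, hj⟩⟩).1 (hfin _)

end Five

end Cfsg.Agent.Lib.PSQ
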