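import Mathlib
import Cfsg.Prelude.Def_Classical
import Cfsg.Agent.Lib.K4
import Cfsg.Agent.Lib.SUTransport
import Cfsg.Agent.Lib.ClUnitary2
import Cfsg.Agent.Lib.ClSymp2

/-!
# The forty points of `PSU₄(2) ≅ PSp₄(3)` (helper14)
-/

set_option autoImplicit false

namespace Cfsg.Agent.Lib.Psu42

open Matrix Cfsg Cfsg.Agent.Lib.K4

/-! ### labelled actions -/

section Lab

variable {G V X : Type*} [Group G]

/-- an action on vectors with labels for its projective points -/
structure Lab (act : G → V → V) (S : V → Prop) (R : V → V → Prop) (P : X → V) (lab : V → X) : Prop where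
  one : ∀ v, act 1 v = v
  mul : ∀ g h v, act (g * h) v = act g (act h v)
  pres : ∀ g v, S v → S (act g v)
  SP : ∀ x, S (P x)
  labP : ∀ x, lab (P x) = x
  rel : ∀ v, S v → R v (P (lab v))
  comp : ∀ g v w, S v → R v w → R (act g v) (act g w)
  labR : ∀ v w, S v → R v w → lab v = lab w

variable {act : G → V → V} {S : V → Prop} {R : V → V → Prop} {P : X → V} {lab : V → X}

theorem Lab.act_lab (h : Lab act S R P lab) (g : G) (v : V) (hv : S v) : lab (act g (P (lab v))) = lab (act g v) :=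
  (h.labR _ _ (h.pres g v hv) (h.comp g _ _ hv (h.rel v hv))).symm

/-- the permutation representation -/
def Lab.hom (h : Lab act S R P lab) : G →* Equiv.Perm X where
  toFun g :=
    { toFun := fun x => lab (act g (P x))
      invFun := fun x => lab (act g⁻¹ (P x))
      left_inv := fun x => by
        change lab (act g⁻¹ (P (lab (act g (P x))))) = x
        rw [h.act_lab _ _ (h.pres g _ (h.SP x)), ← h.mul, inv_mul_cancel, h.one, h.labP]
      right_inv := fun x => by
        change lab (act g (P (lab (act g⁻¹ (P x))))) = x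
        rw [h.act_lab _ _ (h.pres g⁻¹ _ (h.SP x)), ← h.mul, mul_inv_cancel, h.one, h.labP] }
  map_one' := by
    ext x
    change lab (act 1 (P x)) = x
    rw [h.one, h.labP]
  map_mul' a b := by
    ext x
    change lab (act (a * b) (P x)) = lab (act a (P (lab (act b (P x)))))
    rw [h.act_lab _ _ (h.pres b _ (h.SP x)), h.mul]

theorem Lab.hom_apply (h : Lab act S R P lab) (g : G) (x : X) : h.hom g x = lab (act g (P x)) := rfl

end Lab

/-! ### tables -/

def pt : ℕ := 1413512708290641075708407444772247325226745237186987241922657217640797678296831065883759403339840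
def qt : ℕ := 1679480309882548236179071819049413778266877007688685739328646358803387356798249148410021708562752
def lt3 : ℕ := 82501854630768094732516002149755920965694528909379890488366982661847279018954589906163445250274908148188363416405599243633656692652646551813095424
def lt4 : ℕ := 1867655787882549138780708254899453643717014073102153008616401681241729801066187475371677844726062015738939326525833513239936494359716259544990397122202473177045171809521967472598277112447388642128780238673029550054216688490316697738512786700044025908439523954246961068041006237381862144919686779434110569102426662441423894804902688135043454059748250846035645125889218717594190399114407161831516779076865872517689474923550244926344331981595709155731566493696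

def p0 (x : Fin 40) : ZMod 3 := (⟨(pt >>> (8 * x.val)) % 4 % 3, Nat.mod_lt _ (by decide)⟩ : Fin 3)
def p1 (x : Fin 40) : ZMod 3 := (⟨(pt >>> (8 * x.val + 2)) % 4 % 3, Nat.mod_lt _ (by decide)⟩ : Fin 3)
def p2 (x : Fin 40) : ZMod 3 := (⟨(pt >>> (8 * x.val + 4)) % 4 % 3, Nat.mod_lt _ (by decide)⟩ : Fin 3)
def p3 (x : Fin 40) : ZMod 3 := (⟨(pt >>> (8 * x.val + 6)) % 4 % 3, Nat.mod_lt _ (by decide)⟩ : Fin 3)
def q0 (x : Fin 40) : K4 := (⟨(qt >>> (8 * x.val)) % 4, Nat.mod_lt _ (by decide)⟩ : Fin 4)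
def q1 (x : Fin 40) : K4 := (⟨(qt >>> (8 * x.val + 2)) % 4, Nat.mod_lt _ (by decide)⟩ : Fin 4)
def q2 (x : Fin 40) : K4 := (⟨(qt >>> (8 * x.val + 4)) % 4, Nat.mod_lt _ (by decide)⟩ : Fin 4)
def q3 (x : Fin 40) : K4 := (⟨(qt >>> (8 * x.val + 6)) % 4, Nat.mod_lt _ (by decide)⟩ : Fin 4)

def n3 (a : ZMod 3) : ℕ := (a : Fin 3).val
def n4 (a : K4) : ℕ := (a : Fin 4).val

def l3 (a b c d : ZMod 3) : Fin 40 :=
  ⟨(lt3 >>> (6 * (27 * n3 a + 9 * n3 b + 3 * n3 c + n3 d))) % 64 % 40, Nat.mod_lt _ (by decide)⟩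
def l4 (a b c d : K4) : Fin 40 :=
  ⟨(lt4 >>> (6 * (64 * n4 a + 16 * n4 b + 4 * n4 c + n4 d))) % 64 % 40, Nat.mod_lt _ (by decide)⟩

theorem c1 : ∀ a b c d : ZMod 3, ¬ (a = 0 ∧ b = 0 ∧ c = 0 ∧ d = 0) →
    (a = p0 (l3 a b c d) ∧ b = p1 (l3 a b c d) ∧ c = p2 (l3 a b c d) ∧ d = p3 (l3 a b c d)) ∨
    (a = - p0 (l3 a b c d) ∧ b = - p1 (l3 a b c d) ∧ c = - p2 (l3 a b c d) ∧ d = - p3 (l3 a b c d)) := by
  decide +kernel

theorem c2 : ∀ x : Fin 40, l3 (p0 x) (p1 x) (p2 x) (p3 x) = x ∧ ¬ (p0 x = 0 ∧ p1 x = 0 ∧ p2 x = 0 ∧ p3 x = 0) := by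
  decide +kernel

theorem c3 : ∀ a b c d : ZMod 3, l3 (-a) (-b) (-c) (-d) = l3 a b c d := by decide +kernel

/-- the norm on `K4^4` -/
def nm (a b c d : K4) : K4 := a * (a * a) + b * (b * b) + c * (c * c) + d * (d * d)

theorem d1 : ∀ a b c d : K4, nm a b c d = 1 →
    (a = q0 (l4 a b c d) ∧ b = q1 (l4 a b c d) ∧ c = q2 (l4 a b c d) ∧ d = q3 (l4 a b c d)) ∨
    (a = om * q0 (l4 a b c d) ∧ b = om * q1 (l4 a b c d) ∧ c = om * q2 (l4 a b c d) ∧ d = om * q3 (l4 a b c d)) ∨
    (a = om' * q0 (l4 a b c d) ∧ b = om' * q1 (l4 a b c d) ∧ c = om' * q2 (l4 a b c d) ∧ d = om' * q3 (l4 a b c d)) := by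
  decide +kernel

theorem d2 : ∀ x : Fin 40, l4 (q0 x) (q1 x) (q2 x) (q3 x) = x ∧ nm (q0 x) (q1 x) (q2 x) (q3 x) = 1 := by
  decide +kernel

theorem d3 : ∀ a b c d : K4, l4 (om * a) (om * b) (om * c) (om * d) = l4 a b c d ∧
    l4 (om' * a) (om' * b) (om' * c) (om' * d) = l4 a b c d := by decide +kernel

/-- symplectic form -/
def fB (a b c d a' b' c' d' : ZMod 3) : ZMod 3 := (c * a' - a * c') + (d * b' - b * d')
/-- hermitian form -/
def fH (a b c d a' b' c' d' : K4) : K4 := a * (a' * a') + b * (b' * b') + c * (c' * c') + d * (d' * d')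

/-- the transvection with centre `x`, applied to the point `y` -/
def tP (x y : Fin 40) : Fin 40 :=
  l3 (p0 y + fB (p0 x) (p1 x) (p2 x) (p3 x) (p0 y) (p1 y) (p2 y) (p3 y) * p0 x)
    (p1 y + fB (p0 x) (p1 x) (p2 x) (p3 x) (p0 y) (p1 y) (p2 y) (p3 y) * p1 x)
    (p2 y + fB (p0 x) (p1 x) (p2 x) (p3 x) (p0 y) (p1 y) (p2 y) (p3 y) * p2 x)
    (p3 y + fB (p0 x) (p1 x) (p2 x) (p3 x) (p0 y) (p1 y) (p2 y) (p3 y) * p3 x)

/-- the reflection with centre `x`, applied to the point `y` -/
def tQ (x y : Fin 40) : Fin 40 :=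
  l4 (om' * q0 y + om * fH (q0 y) (q1 y) (q2 y) (q3 y) (q0 x) (q1 x) (q2 x) (q3 x) * q0 x)
    (om' * q1 y + om * fH (q0 y) (q1 y) (q2 y) (q3 y) (q0 x) (q1 x) (q2 x) (q3 x) * q1 x)
    (om' * q2 y + om * fH (q0 y) (q1 y) (q2 y) (q3 y) (q0 x) (q1 x) (q2 x) (q3 x) * q2 x)
    (om' * q3 y + om * fH (q0 y) (q1 y) (q2 y) (q3 y) (q0 x) (q1 x) (q2 x) (q3 x) * q3 x)

theorem main_check : ∀ x y : Fin 40, tP x y = tQ x y := by decide +kernel

/-! ### the symplectic side -/

abbrev V3 := Fin 2 ⊕ Fin 2 → ZMod 3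
noncomputable abbrev G3 := ClSymp.Spg (ClIso.sympForm (Fin 2) (ZMod 3))

def P (x : Fin 40) : V3 := Sum.elim ![p0 x, p1 x] ![p2 x, p3 x]
def lab3 (v : V3) : Fin 40 := l3 (v (.inl 0)) (v (.inl 1)) (v (.inr 0)) (v (.inr 1))

theorem ext3 {u v : V3} (h0 : u (.inl 0) = v (.inl 0)) (h1 : u (.inl 1) = v (.inl 1)) (h2 : u (.inr 0) = v (.inr 0))
    (h3 : u (.inr 1) = v (.inr 1)) : u = v := by
  funext i
  rcases i with i | i <;> fin_cases i <;> assumption

theorem form3 (u v : V3) : ClIso.sympForm (Fin 2) (ZMod 3) u v =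
    fB (u (.inl 0)) (u (.inl 1)) (u (.inr 0)) (u (.inr 1)) (v (.inl 0)) (v (.inl 1)) (v (.inr 0)) (v (.inr 1)) := by
  rw [ClIso.sympForm_apply, Fin.sum_univ_two, fB]

theorem isLab3 : Lab (fun (g : G3) (v : V3) => g.1 v) (fun v => v ≠ 0) (fun v w => v = w ∨ v = -w) P lab3 where
  one _ := rfl
  mul _ _ _ := rfl
  pres g v hv := by
    change g.1 v ≠ 0
    rwa [Ne, LinearEquiv.map_eq_zero_iff]
  SP x := by
    intro h
    exact (c2 x).2 ⟨congrFun h (.inl 0), congrFun h (.inl 1), congrFun h (.inr 0), congrFun h (.inr 1)⟩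
  labP x := (c2 x).1
  rel v hv := by
    have h := c1 (v (.inl 0)) (v (.inl 1)) (v (.inr 0)) (v (.inr 1)) (fun h => hv (ext3 h.1 h.2.1 h.2.2.1 h.2.2.2))
    rcases h with ⟨h0, h1, h2, h3⟩ | ⟨h0, h1, h2, h3⟩
    · left; exact ext3 h0 h1 h2 h3
    · right; exact ext3 h0 h1 h2 h3
  comp g v w _ h := by
    rcases h with rfl | rfl
    · left; rfl
    · right; exact map_neg g.1 w
  labR v w _ h := by
    rcases h with rfl | rfl
    · rfl
    · exact c3 _ _ _ _

/-- the permutation representation of the symplectic group -/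
noncomputable def al : G3 →* Equiv.Perm (Fin 40) := isLab3.hom

theorem al_tv (x y : Fin 40) : al (ClSymp.tv ClSymp2.isSymp_sympForm 1 (P x)) y = tP x y := by
  change lab3 ((ClSymp.tv ClSymp2.isSymp_sympForm 1 (P x)).1 (P y)) = tP x y
  rw [ClSymp.tv_apply, one_mul, form3]
  rfl

/-- elements fixing all points are central -/
theorem eq_of_fix (g : G3) (hg : al g = 1) : (∀ v, g.1 v = v) ∨ (∀ v, g.1 v = -v) := by
  have h1 : ∀ v : V3, v ≠ 0 → g.1 v = v ∨ g.1 v = -v := by
    intro v hv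
    have h2 : lab3 (g.1 (P (lab3 v))) = lab3 v := congrArg (fun π : Equiv.Perm (Fin 40) => π (lab3 v)) hg
    have h3 : g.1 (P (lab3 v)) = P (lab3 v) ∨ g.1 (P (lab3 v)) = -P (lab3 v) := by
      have := isLab3.rel _ (isLab3.pres g _ (isLab3.SP (lab3 v)))
      change g.1 (P (lab3 v)) = P (lab3 (g.1 (P (lab3 v)))) ∨ g.1 (P (lab3 v)) = - P (lab3 (g.1 (P (lab3 v)))) at this
      rwa [h2] at this
    rcases isLab3.rel v hv with h4 | h4
    · rw [← h4] at h3; exact h3
    · have h5 : P (lab3 v) = -v := by rw [h4]; simp only [neg_neg]; rw [← h4]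
      rw [h5, map_neg] at h3
      rcases h3 with h3 | h3
      · left; exact neg_injective h3
      · right; rw [← neg_injective h3]
  by_cases hall : ∀ v, g.1 v = v
  · left; exact hall
  · right
    push Not at hall
    obtain ⟨u, hu⟩ := hall
    have hu0 : u ≠ 0 := by rintro rfl; exact hu (map_zero _)
    have hu2 : g.1 u = -u := (h1 u hu0).resolve_left hu
    have two : ∀ w : V3, w = -w → w = 0 := by
      intro w hw
      funext i
      have h3 := congrFun hw i
      have : ∀ a : ZMod 3, a = -a → a = 0 := by decide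
      exact this _ h3
    intro v
    by_contra hv
    have hv0 : v ≠ 0 := by rintro rfl; exact hv (by rw [map_zero, neg_zero])
    have hv2 : g.1 v = v := (h1 v hv0).resolve_right hv
    by_cases huv : u + v = 0
    · have : v = -u := by rw [eq_neg_iff_add_eq_zero, add_comm]; exact huv
      rw [this, map_neg, hu2, neg_neg] at hv2
      exact hu0 (two u hv2)
    · rcases h1 (u + v) huv with h3 | h3
      · rw [map_add, hu2, hv2] at h3
        exact hu0 (two u (add_right_cancel h3).symm)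
      · rw [map_add, hu2, hv2, neg_add] at h3
        exact hv0 (two v (add_left_cancel h3))

/-! ### the unitary side -/

abbrev V4 := Fin 4 → K4
abbrev G4 := SU 4 K4 2

def Q (x : Fin 40) : V4 := ![q0 x, q1 x, q2 x, q3 x]
def lab4 (v : V4) : Fin 40 := l4 (v 0) (v 1) (v 2) (v 3)

theorem ext4 {u v : V4} (h0 : u 0 = v 0) (h1 : u 1 = v 1) (h2 : u 2 = v 2) (h3 : u 3 = v 3) : u = v := by
  funext i
  fin_cases i <;> assumption

theorem form4 (u v : V4) : hermForm 4 K4 2 u v = fH (u 0) (u 1) (u 2) (u 3) (v 0) (v 1) (v 2) (v 3) := by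
  simp [hermForm, Fin.sum_univ_four, fH, pow_two]

theorem isLab4 : Lab (fun (g : G4) (v : V4) => g.1.1 *ᵥ v) (fun v => hermForm 4 K4 2 v v = 1)
    (fun v w => v = w ∨ v = om • w ∨ v = om' • w) Q lab4 where
  one v := Matrix.one_mulVec v
  mul g h v := (Matrix.mulVec_mulVec v g.1.1 h.1.1).symm
  pres g v hv := (g.2 v v).trans hv
  SP x := by rw [form4]; exact (d2 x).2
  labP x := (d2 x).1
  rel v hv := by
    rw [form4] at hv
    rcases d1 (v 0) (v 1) (v 2) (v 3) hv with ⟨h0, h1, h2, h3⟩ | ⟨h0, h1, h2, h3⟩ | ⟨h0, h1, h2, h3⟩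
    · left; exact ext4 h0 h1 h2 h3
    · right; left; exact ext4 h0 h1 h2 h3
    · right; right; exact ext4 h0 h1 h2 h3
  comp g v w _ h := by
    rcases h with rfl | rfl | rfl
    · left; rfl
    · right; left; exact Matrix.mulVec_smul _ _ _
    · right; right; exact Matrix.mulVec_smul _ _ _
  labR v w _ h := by
    rcases h with rfl | rfl | rfl
    · rfl
    · exact (d3 _ _ _ _).1
    · exact (d3 _ _ _ _).2

/-- the permutation representation of the unitary group -/
noncomputable def be : G4 →* Equiv.Perm (Fin 40) := isLab4.hom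

/-- the unitary reflection -/
def rM (w : V4) : Matrix (Fin 4) (Fin 4) K4 := om' • 1 + om • vecMulVec w (fun j => w j * w j)

theorem rM_mulVec (w u : V4) : rM w *ᵥ u = om' • u + (om * hermForm 4 K4 2 u w) • w := by
  rw [rM, Matrix.add_mulVec, Matrix.smul_mulVec, Matrix.one_mulVec, Matrix.smul_mulVec, Matrix.vecMulVec_mulVec]
  congr 1
  funext i
  simp only [Pi.smul_apply, smul_eq_mul, MulOpposite.smul_eq_mul_unop, MulOpposite.unop_op, form4, fH, dotProduct,
    Fin.sum_univ_four]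
  ring

theorem card_K4' : Fintype.card K4 = 2 ^ 2 := by rw [card_K4]; norm_num

theorem om_facts : om' ^ 4 * (1 + om * om) = 1 ∧ om * om' = 1 ∧ om' * om' = om ∧ om * om = om' ∧ om + om' = 1 := by decide

theorem rM_det (w : V4) (hw : hermForm 4 K4 2 w w = 1) : (rM w).det = 1 := by
  have h1 : rM w = om' • (1 + vecMulVec ((om * om) • w) (fun j => w j * w j)) := by
    rw [smul_add, Matrix.smul_vecMulVec, smul_smul, rM]
    congr 2
  rw [h1, Matrix.det_smul, Fintype.card_fin, Matrix.vecMulVec_eq Unit, Matrix.det_one_add_replicateCol_mul_replicateRow]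
  have h2 : (fun j => w j * w j) ⬝ᵥ ((om * om) • w) = om * om := by
    rw [dotProduct_smul, smul_eq_mul]
    have : (fun j => w j * w j) ⬝ᵥ w = 1 := by
      rw [← hw, form4, fH]
      simp only [dotProduct, Fin.sum_univ_four]
      ring
    rw [this, mul_one]
  rw [h2]
  exact om_facts.1

theorem rM_iso (w : V4) (hw : hermForm 4 K4 2 w w = 1) (u v : V4) :
    hermForm 4 K4 2 (rM w *ᵥ u) (rM w *ᵥ v) = hermForm 4 K4 2 u v := by
  have hF := card_K4'
  rw [rM_mulVec, rM_mulVec]
  simp only [HermMat.hermForm_add_left, HermMat.hermForm_add_right hF, HermMat.hermForm_smul_left,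
    HermMat.hermForm_smul_right, hw]
  have h1 : hermForm 4 K4 2 w v = hermForm 4 K4 2 v w ^ 2 := (HermMat.hermForm_swap hF v w).symm
  rw [h1]
  generalize hermForm 4 K4 2 u v = a
  generalize hermForm 4 K4 2 u w = b
  generalize hermForm 4 K4 2 v w = c
  revert a b c
  decide

/-- the unitary reflection as an element of `SU₄(2)` -/
def rS (w : V4) (hw : hermForm 4 K4 2 w w = 1) : G4 := ⟨⟨rM w, rM_det w hw⟩, rM_iso w hw⟩

theorem be_rS (x y : Fin 40) : be (rS (Q x) (isLab4.SP x)) y = tQ x y := by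
  change lab4 (rM (Q x) *ᵥ Q y) = tQ x y
  rw [rM_mulVec, form4]
  rfl

theorem al_eq_be (x : Fin 40) : al (ClSymp.tv ClSymp2.isSymp_sympForm 1 (P x)) = be (rS (Q x) (isLab4.SP x)) := by
  apply Equiv.ext
  intro y
  rw [al_tv, be_rS, main_check]

theorem range_le : al.range ≤ be.range := by
  have h1 : be.range.comap al = ⊤ := by
    apply ClSymp2.eq_top_of_tv_mem
    have key : ∀ x : Fin 40, ClSymp.tv ClSymp2.isSymp_sympForm 1 (P x) ∈ be.range.comap al := fun x =>
      ⟨rS (Q x) (isLab4.SP x), (al_eq_be x).symm⟩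
    have key2 : ∀ w : V3, w ≠ 0 → ClSymp.tv ClSymp2.isSymp_sympForm 1 w ∈ be.range.comap al := by
      intro w hw
      rcases isLab3.rel w hw with h | h
      · rw [h]; exact key _
      · rw [h, ← neg_one_smul (ZMod 3) (P (lab3 w)), ClSymp.tv_smul]
        have : (1 : ZMod 3) * (-1) ^ 2 = 1 := by decide
        rw [this]
        exact key _
    intro a w
    by_cases hw : w = 0
    · have : ClSymp.tv (ClSymp2.isSymp_sympForm (l := Fin 2) (F := ZMod 3)) a w = 1 := by
        apply ClSymp.Spg_ext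
        intro x
        rw [ClSymp.tv_apply, hw]
        simp
      rw [this]
      exact Subgroup.one_mem _
    · have ha : a = 0 ∨ a = 1 ∨ a = 1 + 1 := by revert a; decide
      rcases ha with rfl | rfl | rfl
      · rw [ClSymp.tv_zero]; exact Subgroup.one_mem _
      · exact key2 w hw
      · rw [← ClSymp.tv_mul]
        exact Subgroup.mul_mem _ (key2 w hw) (key2 w hw)
  rintro _ ⟨g, rfl⟩
  have : g ∈ be.range.comap al := by rw [h1]; trivial
  exact this

end Cfsg.Agent.Lib.Psu42
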