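import Mathlib
import Cfsg.Prelude.Def_Classical
import Cfsg.Agent.Lib.ClUnitary2
import Cfsg.Agent.S0822

/-!
# Identification by the 2-part of the order (helper54)
-/

set_option autoImplicit false
set_option linter.all false

namespace Cfsg.Agent.Lib.PSQI

open Subgroup Cfsg

theorem card_PSU42 {F : Type*} [Field F] [Fintype F] (hF : Fintype.card F = 4) : Nat.card (PSU 4 F 2) = 25920 := by
  have h := ClUnitary.card_PSU (F := F) (n := 4) (q := 2) (by rw [hF]; norm_num) (by norm_num)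
  have h2 : 2 ^ (4 * (4 - 1) / 2) * ∏ i ∈ Finset.range 4, (if Even i then 2 ^ (i + 1) + 1 else 2 ^ (i + 1) - 1) =
      Nat.gcd 4 (2 + 1) * ((2 + 1) * 25920) := by
    rw [Finset.prod_range_succ, Finset.prod_range_succ, Finset.prod_range_succ, Finset.prod_range_one]
    decide
  rw [h2] at h
  exact Nat.eq_of_mul_eq_mul_left (by norm_num) (Nat.eq_of_mul_eq_mul_left (by norm_num) h)

theorem card_PSU52 {F : Type*} [Field F] [Fintype F] (hF : Fintype.card F = 4) : Nat.card (PSU 5 F 2) = 13685760 := by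
  have h := ClUnitary.card_PSU (F := F) (n := 5) (q := 2) (by rw [hF]; norm_num) (by norm_num)
  have h2 : 2 ^ (5 * (5 - 1) / 2) * ∏ i ∈ Finset.range 5, (if Even i then 2 ^ (i + 1) + 1 else 2 ^ (i + 1) - 1) =
      Nat.gcd 5 (2 + 1) * ((2 + 1) * 13685760) := by
    rw [Finset.prod_range_succ, Finset.prod_range_succ, Finset.prod_range_succ, Finset.prod_range_succ, Finset.prod_range_one]
    decide
  rw [h2] at h
  exact Nat.eq_of_mul_eq_mul_left (by norm_num) (Nat.eq_of_mul_eq_mul_left (by norm_num) h)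

theorem ident {G : Type*} [Group G] [Finite G]
    (hc : Nonempty (G ≃* Equiv.Perm (Fin 5)) ∨ Nonempty (G ≃* Equiv.Perm (Fin 6)) ∨
      ∃ (F : Type) (_ : Field F) (_ : Fintype F), Fintype.card F = 4 ∧
        (Nonempty (G ≃* Cfsg.PSU 4 F 2) ∨ Nonempty (G ≃* Cfsg.PSU 5 F 2)))
    (h64 : 64 ∣ Nat.card G) (h128 : ¬ 128 ∣ Nat.card G) :
    Nat.card G = 25920 ∧ ∀ (K : Type*) [Field K] [Fintype K], Fintype.card K = 3 → Nonempty (G ≃* Cfsg.PSp 2 K) := by
  rcases hc with ⟨⟨e⟩⟩ | ⟨⟨e⟩⟩ | ⟨F, _, _, hF, ⟨⟨e⟩⟩ | ⟨⟨e⟩⟩⟩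
  · exfalso
    rw [Nat.card_congr e.toEquiv, Nat.card_perm, Nat.card_eq_fintype_card, Fintype.card_fin] at h64
    revert h64; decide
  · exfalso
    rw [Nat.card_congr e.toEquiv, Nat.card_perm, Nat.card_eq_fintype_card, Fintype.card_fin] at h64
    revert h64; decide
  · refine ⟨by rw [Nat.card_congr e.toEquiv, card_PSU42 hF], ?_⟩
    intro K _ _ hK
    obtain ⟨f⟩ := Cfsg.Agent.S0822.result (F := F) (K := K) hF hK
    exact ⟨e.trans f⟩
  · exfalso
    apply h128
    rw [Nat.card_congr e.toEquiv, card_PSU52 hF]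
    norm_num

end Cfsg.Agent.Lib.PSQI
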