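import Cfsg.Agent.Lib.H88Sp4f
import Cfsg.Agent.Lib.PSQ1

/-! The centralizer of a 2-central involution of `PSp(4,3)`. -/

set_option autoImplicit false
set_option maxHeartbeats 400000

namespace Cfsg.Agent.Lib.PSQP

open Matrix H88Sp4 PSQ
open scoped MatrixGroups

theorem center_L : ∀ a : L, (∀ x : L, a * x = x * a) → a = 1 ∨ a = -1 := by decide +kernel

theorem exists_ne_L : ∃ x : L, x ≠ 1 ∧ x ≠ -1 := by decide +kernel

section gen

variable {G H : Type*} [Group G] [Group H] {f : L × L →* G} {s t : G}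

/-- a central involution of the centralizer of `t` is `t` -/
theorem central_eq (h : Sit f s t) {z : G} (hzt : z * t = t * z) (hz : ∀ g : G, g * t = t * g → g * z = z * g) :
    z = 1 ∨ z = t := by
  obtain ⟨⟨a, b⟩, hp | hp⟩ := h.cent z hzt
  · have ha : a = 1 ∨ a = -1 := by
      apply center_L
      intro x
      have h1 := hz (f (x, 1)) (h.t_comm_f _)
      rw [hp, Sit.mul_f, Sit.mul_f, one_mul, mul_one, h.eq_iff] at h1
      rcases h1 with h1 | h1
      · exact (congrArg Prod.fst h1).symm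
      · exact absurd (congrArg Prod.snd h1).symm (neg_ne b)
    have hb : b = 1 ∨ b = -1 := by
      apply center_L
      intro x
      have h1 := hz (f (1, x)) (h.t_comm_f _)
      rw [hp, Sit.mul_f, Sit.mul_f, one_mul, mul_one, h.eq_iff] at h1
      rcases h1 with h1 | h1
      · exact (congrArg Prod.snd h1).symm
      · exact absurd (congrArg Prod.fst h1).symm (neg_ne a)
    have e1 : f (1, 1) = 1 := map_one f
    rcases ha with rfl | rfl <;> rcases hb with rfl | rfl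
    · left; rw [hp, e1]
    · right; rw [hp, h.ht]
    · right
      rw [hp, h.ht]
      have := h.f_neg 1 (-1)
      rw [neg_neg] at this
      exact this
    · left
      rw [hp, h.f_neg 1 1, e1]
  · exfalso
    obtain ⟨x, hx1, hx2⟩ := exists_ne_L
    have h1 := hz (f (x, 1)) (h.t_comm_f _)
    rw [hp, mul_assoc, h.sw, ← mul_assoc, ← mul_assoc, Sit.mul_f, Sit.mul_f] at h1
    have h2 := mul_right_cancel h1
    rw [h.eq_iff] at h2
    rcases h2 with h2 | h2
    · have h3 : 1 * b = b * x := congrArg Prod.snd h2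
      rw [one_mul] at h3
      exact hx1 (mul_left_cancel (a := b) (by rw [mul_one]; exact h3.symm))
    · have h3 : 1 * b = -(b * x) := congrArg Prod.snd h2
      rw [one_mul] at h3
      apply hx2
      apply mul_left_cancel (a := b)
      rw [mul_neg, mul_one]
      nth_rewrite 2 [h3]
      rw [neg_neg]

theorem sit_conj (h : Sit f s t) (g : G) :
    Sit ((MulAut.conj g).toMonoidHom.comp f) (g * s * g⁻¹) (g * t * g⁻¹) := by
  have e : ∀ p, (MulAut.conj g).toMonoidHom.comp f p = g * f p * g⁻¹ := fun p => rfl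
  refine ⟨?_, ?_, ?_, ?_, ?_, ?_⟩
  · intro p
    rw [e, ← h.ker]
    constructor
    · intro h1
      have h2 : f p = g⁻¹ * (g * f p * g⁻¹) * g := by group
      rw [h2, h1]; group
    · intro h1
      rw [h1]; group
  · calc g * s * g⁻¹ * (g * s * g⁻¹) = g * (s * s) * g⁻¹ := by group
      _ = 1 := by rw [h.ss]; group
  · intro a b
    rw [e, e]
    calc g * s * g⁻¹ * (g * f (a, b) * g⁻¹) = g * (s * f (a, b)) * g⁻¹ := by group
      _ = _ := by rw [h.sw]; group
  · rw [e, h.ht]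
  · intro p hp
    rw [e] at hp
    exact h.out p (mul_left_cancel (mul_right_cancel hp))
  · intro x hx
    have h1 : (g⁻¹ * x * g) * t = t * (g⁻¹ * x * g) := by
      calc (g⁻¹ * x * g) * t = g⁻¹ * (x * (g * t * g⁻¹)) * g := by group
        _ = _ := by rw [hx]; group
    obtain ⟨p, hp | hp⟩ := h.cent _ h1
    · refine ⟨p, Or.inl ?_⟩
      rw [e, ← hp]; group
    · refine ⟨p, Or.inr ?_⟩
      rw [e]
      calc x = g * (g⁻¹ * x * g) * g⁻¹ := by group
        _ = _ := by rw [hp]; group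

/-- transport along an isomorphism of centralizers -/
theorem sit_pull (h : Sit f s t) {u : H}
    (e : ↥(Subgroup.centralizer ({u} : Set H)) ≃* ↥(Subgroup.centralizer ({t} : Set G)))
    (he : ∀ z : ↥(Subgroup.centralizer ({u} : Set H)), (z : H) = u → (e z : G) = t) :
    ∃ (f' : L × L →* H) (s' : H), Sit f' s' u := by
  have hf : ∀ p, f p ∈ Subgroup.centralizer ({t} : Set G) := fun p => by
    rw [Subgroup.mem_centralizer_singleton_iff]
    exact h.t_comm_f p
  have hs : s ∈ Subgroup.centralizer ({t} : Set G) := by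
    rw [Subgroup.mem_centralizer_singleton_iff]
    exact h.t_comm_s
  have huu : u ∈ Subgroup.centralizer ({u} : Set H) := by
    rw [Subgroup.mem_centralizer_singleton_iff]
  let f₁ : L × L →* ↥(Subgroup.centralizer ({t} : Set G)) := f.codRestrict _ hf
  let f' : L × L →* H := (Subgroup.subtype _).comp (e.symm.toMonoidHom.comp f₁)
  have ef : ∀ p, f' p = (e.symm (f₁ p) : H) := fun p => rfl
  have ef1 : ∀ p, (f₁ p : G) = f p := fun p => rfl
  have hu : (e ⟨u, huu⟩ : G) = t := he _ rfl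
  refine ⟨f', (e.symm ⟨s, hs⟩ : H), ?_, ?_, ?_, ?_, ?_, ?_⟩
  · intro p
    rw [← h.ker, ef, OneMemClass.coe_eq_one, EmbeddingLike.map_eq_one_iff, ← OneMemClass.coe_eq_one, ef1]
  · rw [← Subgroup.coe_mul, ← map_mul, OneMemClass.coe_eq_one, EmbeddingLike.map_eq_one_iff]
    exact Subtype.ext h.ss
  · intro a b
    rw [ef, ef, ← Subgroup.coe_mul, ← Subgroup.coe_mul, ← map_mul, ← map_mul]
    congr 2
    exact Subtype.ext (h.sw a b)
  · rw [ef]
    have h1 : f₁ (1, -1) = e ⟨u, huu⟩ := Subtype.ext (by rw [hu, ef1, h.ht])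
    rw [h1, MulEquiv.symm_apply_apply]
  · intro p hp
    rw [ef] at hp
    have h1 := e.symm.injective (Subtype.ext hp)
    exact h.out p (congrArg Subtype.val h1)
  · intro g hg
    have hg' : g ∈ Subgroup.centralizer ({u} : Set H) := by
      rw [Subgroup.mem_centralizer_singleton_iff]
      exact hg
    have h1 : (e ⟨g, hg'⟩ : G) * t = t * (e ⟨g, hg'⟩ : G) := by
      have := (e ⟨g, hg'⟩).2
      rw [Subgroup.mem_centralizer_singleton_iff] at this
      exact this
    obtain ⟨p, hp | hp⟩ := h.cent _ h1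
    · refine ⟨p, Or.inl ?_⟩
      have h2 : e ⟨g, hg'⟩ = f₁ p := Subtype.ext hp
      rw [ef, ← h2, MulEquiv.symm_apply_apply]
    · refine ⟨p, Or.inr ?_⟩
      have h2 : e ⟨g, hg'⟩ = f₁ p * ⟨s, hs⟩ := Subtype.ext hp
      rw [ef, ← Subgroup.coe_mul, ← map_mul, ← h2, MulEquiv.symm_apply_apply]

end gen

section psp

variable {F : Type*} [Field F] [Fintype F]

theorem exists_iso (hF : Fintype.card F = 3) : ∃ φ : L →* SL(2, F), Function.Bijective φ ∧ φ (-1) = n1 := by
  let e : ZMod 3 ≃+* F := ZMod.ringEquivOfPrime F Nat.prime_three hF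
  let φ : L →* SL(2, F) := Matrix.SpecialLinearGroup.map e.toRingHom
  let ψ : SL(2, F) →* L := Matrix.SpecialLinearGroup.map e.symm.toRingHom
  have hφ : ∀ (a : L) i j, (φ a : M2 F) i j = e ((a : M2 (ZMod 3)) i j) := fun a i j => rfl
  have hψ : ∀ (a : SL(2, F)) i j, (ψ a : M2 (ZMod 3)) i j = e.symm ((a : M2 F) i j) := fun a i j => rfl
  have h1 : Function.LeftInverse ψ φ := by
    intro a
    ext i j
    rw [hψ, hφ, RingEquiv.symm_apply_apply]
  have h2 : Function.RightInverse ψ φ := by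
    intro a
    ext i j
    rw [hφ, hψ, RingEquiv.apply_symm_apply]
  refine ⟨φ, ⟨h1.injective, h2.surjective⟩, ?_⟩
  apply mt_inj
  rw [n1_val]
  ext i j
  show e (((-1 : L) : M2 (ZMod 3)) i j) = _
  rw [Matrix.SpecialLinearGroup.coe_neg, Matrix.SpecialLinearGroup.coe_one]
  fin_cases i <;> fin_cases j <;> simp

theorem sit_psp (hF : Fintype.card F = 3) :
    ∃ (f : L × L →* Cfsg.PSp 2 F) (s : Cfsg.PSp 2 F), Sit f s (pr (D (1, n1))) := by
  have h2 : (2 : F) ≠ 0 := two_ne (by rw [hF])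
  obtain ⟨φ, hφ, hφ1⟩ := exists_iso hF
  let f : L × L →* Cfsg.PSp 2 F := pr.comp (D.comp (MonoidHom.prodMap φ φ))
  have ef : ∀ a b, f (a, b) = pr (D (φ a, φ b)) := fun a b => rfl
  have hN : ∀ a b : SL(2, F), D (a, b) = N1 ↔ a = n1 ∧ b = n1 := fun a b =>
    ⟨fun h => D_inj h, fun h => by rw [h.1, h.2]; rfl⟩
  have hN1 : ∀ a b : SL(2, F), D (a, b) = 1 ↔ a = 1 ∧ b = 1 := fun a b =>
    ⟨fun h => D_inj (h.trans (map_one D).symm), fun h => by rw [h.1, h.2]; exact map_one D⟩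
  have h11 : φ 1 = 1 := map_one φ
  refine ⟨f, pr W, ?_, ?_, ?_, ?_, ?_, ?_⟩
  · rintro ⟨a, b⟩
    rw [ef, pr_one_iff, hN, hN1, ← h11, ← hφ1, hφ.injective.eq_iff, hφ.injective.eq_iff, hφ.injective.eq_iff,
      hφ.injective.eq_iff]
    constructor
    · rintro (⟨rfl, rfl⟩ | ⟨rfl, rfl⟩)
      · left; rfl
      · right; rfl
    · rintro (h | h)
      · left; exact ⟨congrArg Prod.fst h, congrArg Prod.snd h⟩
      · right; exact ⟨congrArg Prod.fst h, congrArg Prod.snd h⟩
  · rw [← map_mul, W_mul, map_one]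
  · intro a b
    rw [ef, ef, ← map_mul, ← map_mul, W_D]
  · rw [ef, h11, hφ1]
  · rintro ⟨a, b⟩ h
    rw [ef, pr_eq_iff] at h
    rcases h with h | h
    · apply D_ne_DW (φ a) (φ b) 1 1
      rw [h, show (D (1, 1) : Sp F) = 1 from map_one D, one_mul]
    · apply D_ne_DW (φ a) (φ b) n1 n1
      rw [h]; rfl
  · intro g hg
    obtain ⟨u, rfl⟩ := pr_surj g
    rw [← map_mul, ← map_mul, pr_eq_iff, D_one_n1] at hg
    have key : u * D (n1, 1) = D (n1, 1) * u ∨ u * D (n1, 1) = D (1, n1) * u := by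
      rcases hg with h | h
      · left
        rw [← mul_assoc, ← N1_comm, mul_assoc, mul_assoc] at h
        exact mul_left_cancel h
      · right
        rw [← mul_assoc, ← N1_comm, mul_assoc, mul_assoc] at h
        rw [D_one_n1, mul_assoc]
        exact mul_left_cancel h
    rcases key with h | h
    · obtain ⟨a, b, rfl⟩ := comm_iff h2 u h
      obtain ⟨a', rfl⟩ := hφ.surjective a
      obtain ⟨b', rfl⟩ := hφ.surjective b
      exact ⟨(a', b'), Or.inl rfl⟩
    · have h3 : (W * u) * D (n1, 1) = D (n1, 1) * (W * u) := by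
        rw [mul_assoc, h, ← mul_assoc, W_D, mul_assoc]
      obtain ⟨a, b, hab⟩ := comm_iff h2 _ h3
      obtain ⟨a', rfl⟩ := hφ.surjective a
      obtain ⟨b', rfl⟩ := hφ.surjective b
      refine ⟨(b', a'), Or.inr ?_⟩
      rw [ef, ← map_mul]
      congr 1
      have h4 : u = W * D (φ a', φ b') := by
        rw [← hab, ← mul_assoc, W_mul, one_mul]
      rw [h4, W_D]

theorem conj_z0 (hF : Fintype.card F = 3) (U : Sylow 2 (Cfsg.PSp 2 F)) (t₀ : Cfsg.PSp 2 F) (ht₀ : orderOf t₀ = 2)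
    (ht₀U : t₀ ∈ (U : Subgroup (Cfsg.PSp 2 F)))
    (ht₀c : ∀ u ∈ (U : Subgroup (Cfsg.PSp 2 F)), u * t₀ = t₀ * u) :
    ∃ g : Cfsg.PSp 2 F, t₀ = g * pr (D (1, n1)) * g⁻¹ := by
  have hodd : Fintype.card F % 2 = 1 := by rw [hF]
  have h2 : (2 : F) ≠ 0 := two_ne hodd
  obtain ⟨Q⟩ : Nonempty (Sylow 2 SL(2, F)) := inferInstance
  obtain ⟨k, c, h, -⟩ := exists_QS (Nat.odd_iff.2 hodd) h2 Q
  obtain ⟨S0, hS0⟩ := exists_S0 hodd Q
  obtain ⟨g, hg⟩ := MulAction.exists_smul_eq (Cfsg.PSp 2 F) S0 U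
  have hmem : ∀ x : Cfsg.PSp 2 F, g * x * g⁻¹ ∈ (U : Subgroup (Cfsg.PSp 2 F)) ↔ x ∈ (S0 : Subgroup (Cfsg.PSp 2 F)) := by
    intro x
    rw [← hg, Sylow.coe_subgroup_smul]
    constructor
    · intro h1
      have := Subgroup.mem_pointwise_smul_iff_inv_smul_mem.1 h1
      have e : (MulAut.conj g)⁻¹ • (g * x * g⁻¹) = x := by
        rw [← map_inv, MulAut.smul_def, MulAut.conj_apply]; group
      rwa [e] at this
    · intro h1
      apply Subgroup.mem_pointwise_smul_iff_inv_smul_mem.2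
      have e : (MulAut.conj g)⁻¹ • (g * x * g⁻¹) = x := by
        rw [← map_inv, MulAut.smul_def, MulAut.conj_apply]; group
      rwa [e]
  have h1 : g⁻¹ * t₀ * g ∈ (S0 : Subgroup (Cfsg.PSp 2 F)) := by
    rw [← hmem]
    have : g * (g⁻¹ * t₀ * g) * g⁻¹ = t₀ := by group
    rw [this]; exact ht₀U
  have h3 := h1
  rw [hS0] at h3
  obtain ⟨z, hz, hzt⟩ := h3
  have hz1 : pr z = g⁻¹ * t₀ * g := hzt
  have hc : ∀ s ∈ SS (Q : Subgroup SL(2, F)), z * s * z⁻¹ = s ∨ z * s * z⁻¹ = N1 * s := by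
    intro s hs
    have h4 : pr s ∈ (S0 : Subgroup (Cfsg.PSp 2 F)) := by rw [hS0]; exact ⟨s, hs, rfl⟩
    rw [← hmem] at h4
    have h5 := ht₀c _ h4
    have h6 : pr (z * s * z⁻¹) = pr s := by
      rw [map_mul, map_mul, map_inv, hz1]
      calc g⁻¹ * t₀ * g * pr s * (g⁻¹ * t₀ * g)⁻¹ = g⁻¹ * (t₀ * (g * pr s * g⁻¹)) * t₀⁻¹ * g := by group
        _ = pr s := by rw [← h5]; group
    exact (pr_eq_iff _ _).1 h6
  have hne : t₀ ≠ 1 := by
    intro h4
    rw [h4, orderOf_one] at ht₀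
    omega
  have hne' : pr z ≠ 1 := by
    rw [hz1]
    intro h4
    apply hne
    calc t₀ = g * (g⁻¹ * t₀ * g) * g⁻¹ := by group
      _ = 1 := by rw [h4]; group
  have h7 : pr z = pr (D (1, n1)) := by
    rcases center_of h2 h hz hc with h4 | h4 | h4 | h4
    · exact absurd (by rw [h4, map_one]) hne'
    · exact absurd (by rw [h4, pr_N1]) hne'
    · rw [h4, D_one_n1, map_mul, pr_N1, one_mul]
    · rw [h4]
  refine ⟨g, ?_⟩
  rw [← h7, hz1]; group

end psp

theorem exists_sit {G : Type*} [Group G] [Finite G] {F : Type*} [Field F] [Fintype F] (hF : Fintype.card F = 3)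
    (U : Sylow 2 (Cfsg.PSp 2 F)) (t₀ : Cfsg.PSp 2 F) (ht₀ : orderOf t₀ = 2)
    (ht₀U : t₀ ∈ (U : Subgroup (Cfsg.PSp 2 F)))
    (ht₀c : ∀ u ∈ (U : Subgroup (Cfsg.PSp 2 F)), u * t₀ = t₀ * u) (t : G) (ht : orderOf t = 2)
    (e : ↥(Subgroup.centralizer ({t} : Set G)) ≃* ↥(Subgroup.centralizer ({t₀} : Set (Cfsg.PSp 2 F)))) :
    ∃ (f : L × L →* G) (s : G), Sit f s t := by
  obtain ⟨g, hg⟩ := conj_z0 hF U t₀ ht₀ ht₀U ht₀c
  obtain ⟨f, s, h⟩ := sit_psp (F := F) hF
  have h1 := sit_conj h g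
  rw [← hg] at h1
  refine sit_pull h1 e ?_
  rintro ⟨z, hz⟩ hzt
  have hzt' : z = t := hzt
  subst hzt'
  have h3 : (e ⟨z, hz⟩ : Cfsg.PSp 2 F) * t₀ = t₀ * (e ⟨z, hz⟩ : Cfsg.PSp 2 F) := by
    have := (e ⟨z, hz⟩).2
    rw [Subgroup.mem_centralizer_singleton_iff] at this
    exact this
  rcases central_eq h1 h3 (by
    intro x hx
    have hx' : x ∈ Subgroup.centralizer ({t₀} : Set (Cfsg.PSp 2 F)) := by
      rw [Subgroup.mem_centralizer_singleton_iff]
      exact hx
    obtain ⟨y, hy⟩ := e.surjective ⟨x, hx'⟩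
    have h4 : y * ⟨z, hz⟩ = ⟨z, hz⟩ * y := by
      apply Subtype.ext
      have := y.2
      rw [Subgroup.mem_centralizer_singleton_iff] at this
      exact this
    have h5 := congrArg e h4
    rw [map_mul, map_mul, hy] at h5
    exact congrArg Subtype.val h5) with h4 | h4
  · exfalso
    have h5 : e ⟨z, hz⟩ = 1 := Subtype.ext h4
    rw [EmbeddingLike.map_eq_one_iff] at h5
    have h6 : z = 1 := congrArg Subtype.val h5
    rw [h6, orderOf_one] at ht
    omega
  · exact h4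

end Cfsg.Agent.Lib.PSQP
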