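import Mathlib

/-!
# No solvable normal subgroups (helper54)
-/

set_option autoImplicit false
set_option linter.all false

namespace Cfsg.Agent.Lib.PSQR

open Subgroup

theorem exists_abelian {H : Type*} [Group H] (N : Subgroup H) (hN : N.Normal) (hN1 : N ≠ ⊥)
    (hsol : Group.IsSolvable N) : ∃ A : Subgroup H, A.Normal ∧ A ≤ N ∧ A ≠ ⊥ ∧ ∀ x ∈ A, ∀ y ∈ A, x * y = y * x := by
  classical
  obtain ⟨m, hm⟩ := hsol.solvable
  have hex : ∃ m, derivedSeries N m = ⊥ := ⟨m, hm⟩
  set j := Nat.find hex with hj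
  have hj0 : j ≠ 0 := by
    intro h0
    have h1 := Nat.find_spec hex
    rw [← hj, h0, derivedSeries_zero] at h1
    apply hN1
    rw [eq_bot_iff]
    intro x hx
    have h2 : (⟨x, hx⟩ : N) ∈ (⊤ : Subgroup N) := trivial
    rw [h1, Subgroup.mem_bot] at h2
    exact congrArg Subtype.val h2
  obtain ⟨i, hi⟩ : ∃ i, j = i + 1 := ⟨j - 1, by omega⟩
  have hi1 : derivedSeries N i ≠ ⊥ := Nat.find_min hex (by omega)
  have hi2 : derivedSeries N (i + 1) = ⊥ := by rw [← hi]; exact Nat.find_spec hex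
  haveI := hN
  haveI : (derivedSeries N i).Characteristic := derivedSeries_characteristic _ _
  refine ⟨(derivedSeries N i).map N.subtype, inferInstance, ?_, ?_, ?_⟩
  · rintro _ ⟨x, -, rfl⟩; exact x.2
  · intro h1
    apply hi1
    rwa [Subgroup.map_eq_bot_iff_of_injective _ N.subtype_injective] at h1
  · rintro _ ⟨x, hx, rfl⟩ _ ⟨y, hy, rfl⟩
    rw [derivedSeries_succ, Subgroup.commutator_eq_bot_iff_le_centralizer] at hi2
    have h1 := Subgroup.mem_centralizer_iff.1 (hi2 hx) y hy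
    exact (congrArg Subtype.val h1).symm

theorem sol_bot {Γ : Type*} [Group Γ] [Finite Γ]
    (h2 : ∀ A : Subgroup Γ, A.Normal → A ≠ ⊥ → (∀ a ∈ A, a * a = 1) → False)
    (hodd : ∀ A : Subgroup Γ, A.Normal → (∀ a ∈ A, ∀ b ∈ A, a * b = b * a) → Odd (Nat.card A) → A = ⊥) :
    ∀ N : Subgroup Γ, N.Normal → Group.IsSolvable ↥N → N = ⊥ := by
  intro N hN hs
  by_contra hne
  obtain ⟨A, hAn, -, hA1, hcomm⟩ := exists_abelian N hN hne hs
  let T : Subgroup Γ :=
    { carrier := {a | a ∈ A ∧ a * a = 1}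
      one_mem' := ⟨one_mem A, one_mul 1⟩
      mul_mem' := by
        rintro a b ⟨ha, ha'⟩ ⟨hb, hb'⟩
        refine ⟨mul_mem ha hb, ?_⟩
        calc a * b * (a * b) = a * (b * a) * b := by group
          _ = a * (a * b) * b := by rw [hcomm b hb a ha]
          _ = a * a * (b * b) := by group
          _ = 1 := by rw [ha', hb', one_mul]
      inv_mem' := by
        rintro a ⟨ha, ha'⟩
        refine ⟨inv_mem ha, ?_⟩
        rw [← mul_inv_rev, ha', inv_one] }
  have hTn : T.Normal := by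
    refine ⟨?_⟩
    rintro a ⟨ha, ha'⟩ g
    refine ⟨hAn.conj_mem a ha g, ?_⟩
    calc g * a * g⁻¹ * (g * a * g⁻¹) = g * (a * a) * g⁻¹ := by group
      _ = 1 := by rw [ha']; group
  by_cases hT : T = ⊥
  · apply hA1
    apply hodd A hAn hcomm
    rw [← Nat.not_even_iff_odd, even_iff_two_dvd]
    intro hd
    haveI : Fact (Nat.Prime 2) := ⟨Nat.prime_two⟩
    obtain ⟨x, hx⟩ := exists_prime_orderOf_dvd_card' (G := A) 2 hd
    have hx2 : (x : Γ) * x = 1 := by
      have h1 : x ^ 2 = 1 := by rw [← hx]; exact pow_orderOf_eq_one x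
      have h2 := congrArg Subtype.val h1
      rw [← pow_two]
      exact h2
    have hxT : (x : Γ) ∈ T := ⟨x.2, hx2⟩
    rw [hT, mem_bot] at hxT
    have : x = 1 := Subtype.ext hxT
    rw [this, orderOf_one] at hx
    norm_num at hx
  · exact h2 T hTn hT (fun a ha => ha.2)

end Cfsg.Agent.Lib.PSQR
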