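import Cfsg.Agent.Lib.PSQ5
import Cfsg.Agent.Lib.Burnside

set_option autoImplicit false

namespace Cfsg.Agent.Lib.PSQS

open PSQ

/-- the centralizer has order 2^6 3^2, hence is solvable -/
theorem solv {G : Type*} [Group G] [Finite G] {f : L × L →* G} {s t : G} (h : Sit f s t) :
    Group.IsSolvable ↥(Subgroup.centralizer ({t} : Set G)) :=
  Burnside.isSolvable_of_card_eq _ 2 3 6 2 Nat.prime_two Nat.prime_three (by rw [h.card_cent]; norm_num) rfl

end Cfsg.Agent.Lib.PSQS
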