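import Mathlib
import Cfsg.Agent.Lib.PSQ2
import Cfsg.Agent.Lib.IsolatedZ
import Cfsg.Agent.Lib.ZStarU
import Cfsg.Agent.Lib.Burnside

/-!
# The involution is not isolated (helper54)
-/

set_option autoImplicit false
set_option linter.all false

namespace Cfsg.Agent.Lib.PSQZ

open Subgroup Cfsg Cfsg.Agent.Lib.PSQ

variable {G : Type*} [Group G] {f : L × L →* G} {s t : G}

theorem ord_t (h : Sit f s t) : orderOf t = 2 :=
  orderOf_eq_prime (by rw [pow_two]; exact h.tt) h.t_ne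

theorem index_two [Finite G] (h : Sit f s t) (hiso : IsIsolatedInvolution t) : ∃ H : Subgroup G, H.index = 2 := by
  haveI hNn : (oddCore G).Normal := inferInstanceAs (pPrimeCore 2 G).Normal
  let H : Subgroup G :=
    { carrier := {g | ∃ n ∈ oddCore G, ∃ p, g = n * f p}
      one_mem' := ⟨1, one_mem _, 1, by rw [map_one, mul_one]⟩
      mul_mem' := by
        rintro _ _ ⟨n, hn, p, rfl⟩ ⟨m, hm, q, rfl⟩
        refine ⟨n * (f p * m * (f p)⁻¹), mul_mem hn (hNn.conj_mem m hm _), p * q, ?_⟩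
        rw [map_mul]; group
      inv_mem' := by
        rintro _ ⟨n, hn, p, rfl⟩
        refine ⟨(f p)⁻¹ * n⁻¹ * ((f p)⁻¹)⁻¹, hNn.conj_mem _ (inv_mem hn) _, p⁻¹, ?_⟩
        rw [map_inv]; group }
  refine ⟨H, Subgroup.index_eq_two_iff_exists_notMem_and.2 ⟨s, ?_, ?_⟩⟩
  · rintro ⟨n, hn, p, hp⟩
    -- `n` is of odd order and its square is in the range of `f`
    have hn1 : n = s * (f p)⁻¹ := by rw [hp]; group
    obtain ⟨a, b⟩ := p
    have hn2 : n * n = f (b⁻¹ * a⁻¹, a⁻¹ * b⁻¹) := by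
      have e1 : s * f (a⁻¹, b⁻¹) * s = f (b⁻¹, a⁻¹) := h.sw' _ _
      have e2 : n = s * f (a⁻¹, b⁻¹) := by rw [hn1, Sit.inv_f]
      calc n * n = s * f (a⁻¹, b⁻¹) * s * f (a⁻¹, b⁻¹) := by rw [e2]; group
        _ = _ := by rw [e1, Sit.mul_f]
    have hodd : Odd (orderOf n) := by
      have h1 : orderOf n ∣ Nat.card (oddCore G) := Subgroup.orderOf_dvd_natCard _ hn
      exact Odd.of_dvd_nat IsolatedZ.odd_card_oddCore h1
    obtain ⟨k, hk⟩ := hodd
    have hn3 : n = (n * n) ^ (k + 1) := by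
      have e3 : n ^ (2 * k + 1) = 1 := by rw [← hk]; exact pow_orderOf_eq_one n
      calc n = n ^ (2 * k + 1) * n := by rw [e3, one_mul]
        _ = (n * n) ^ (k + 1) := by rw [← pow_two, ← pow_mul, ← pow_succ]; congr 1
    rw [hn2, ← map_pow] at hn3
    apply h.out ((b⁻¹ * a⁻¹, a⁻¹ * b⁻¹) ^ (k + 1) * (a, b))
    rw [map_mul, ← hn3]
    exact hp.symm
  · intro b
    obtain ⟨n, hn, c, hc, rfl⟩ := IsolatedZ.exists_mul hiso b
    obtain ⟨p, hp | hp⟩ := h.cent c (mem_centralizer_singleton_iff.1 hc)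
    · right
      exact ⟨n, hn, p, by rw [hp]⟩
    · left
      refine ⟨n, hn, p, ?_⟩
      rw [hp, mul_assoc, mul_assoc, h.ss, mul_one]

theorem isolated_of [Finite G] (h : Sit f s t) (P : Sylow 2 G) (hP : (P : Subgroup G) = h.S)
    (hiso : ∀ g : G, g * t * g⁻¹ ∈ h.S → g * t * g⁻¹ = t) : IsIsolatedInvolution t := by
  have htP : t ∈ P := by
    have : t ∈ (P : Subgroup G) := by rw [hP]; exact h.E_le_S h.t_mem_E
    exact this
  have hz := ZStarU.inZStar_of_sylow P htP (by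
    intro g hg
    apply hiso
    have : g * t * g⁻¹ ∈ (P : Subgroup G) := hg
    rwa [hP] at this)
  refine ⟨ord_t h, ?_⟩
  intro g hg
  have h1 : g * t * g⁻¹ * t⁻¹ ∈ oddCore G := hz g
  have ht2 : t * t = 1 := h.tt
  have hti : t⁻¹ = t := inv_eq_of_mul_eq_one_left ht2
  have h2 : (g * t * g⁻¹ * t⁻¹) ^ 2 = 1 := by
    have e1 : (g * t * g⁻¹) * (g * t * g⁻¹) = 1 := by
      calc (g * t * g⁻¹) * (g * t * g⁻¹) = g * (t * t) * g⁻¹ := by group
        _ = 1 := by rw [ht2]; group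
    rw [pow_two, hti]
    calc g * t * g⁻¹ * t * (g * t * g⁻¹ * t) = g * t * g⁻¹ * (t * (g * t * g⁻¹)) * t := by group
      _ = g * t * g⁻¹ * ((g * t * g⁻¹) * t) * t := by rw [hg.eq]
      _ = (g * t * g⁻¹) * (g * t * g⁻¹) * (t * t) := by group
      _ = 1 := by rw [e1, ht2, one_mul]
  have h3 : orderOf (g * t * g⁻¹ * t⁻¹) ∣ 2 := orderOf_dvd_of_pow_eq_one h2
  have h4 : orderOf (g * t * g⁻¹ * t⁻¹) ∣ Nat.card (oddCore G) := Subgroup.orderOf_dvd_natCard _ h1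
  have h5 : orderOf (g * t * g⁻¹ * t⁻¹) = 1 :=
    Nat.eq_one_of_dvd_coprimes ((Nat.coprime_two_left).2 IsolatedZ.odd_card_oddCore) h3 h4
  rw [orderOf_eq_one_iff, mul_inv_eq_one] at h5
  exact h5

theorem no_isolated [Finite G] (h : Sit f s t) (hG : ∀ H : Subgroup G, H.index ≠ 2) (P : Sylow 2 G)
    (hP : (P : Subgroup G) = h.S) (hiso : ∀ g : G, g * t * g⁻¹ ∈ h.S → g * t * g⁻¹ = t) : False := by
  obtain ⟨H, hH⟩ := index_two h (isolated_of h P hP hiso)
  exact hG H hH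

theorem solv (h : Sit f s t) : Group.IsSolvable ↥(Subgroup.centralizer ({t} : Set G)) := by
  have hc : Nat.card (Subgroup.centralizer ({t} : Set G)) = 2 ^ 6 * 3 ^ 2 := by
    rw [h.card_cent]; norm_num
  haveI : Finite ↥(Subgroup.centralizer ({t} : Set G)) := Nat.finite_of_card_ne_zero (by rw [hc]; norm_num)
  exact Burnside.isSolvable_of_card_eq _ 2 3 6 2 Nat.prime_two Nat.prime_three hc rfl

end Cfsg.Agent.Lib.PSQZ
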