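import Cfsg.Agent.Lib.PSpField2

set_option autoImplicit false

/-!
# Automorphisms of `PSp_{2m}(F)` permuting the groups of transvections (helper45)

The argument of `PSpThm`, for an automorphism that is assumed to permute the transvection groups (needed when `m = 2`,
`char F = 2`).
-/

namespace Cfsg.Agent.Lib.PSpAut

open Matrix
open Cfsg.Agent.Lib.ClIso Cfsg.Agent.Lib.ClSymp Cfsg.Agent.Lib.ClSymp2

variable {m : ℕ} {F : Type*} [Field F]

theorem perm_dg_mul {θ : MulAut (PSp m F)} (hθ : ∀ {w : Fin m ⊕ Fin m → F}, w ≠ 0 → ∃ w', w' ≠ 0 ∧ (Tg w).map θ.toMonoidHom = Tg w')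
    {g : GSp m F} {w : Fin m ⊕ Fin m → F} (hw : w ≠ 0) : ∃ w', w' ≠ 0 ∧ (Tg w).map ((dg g)⁻¹ * θ).toMonoidHom = Tg w' := by
  obtain ⟨w', hw', h⟩ := hθ hw
  refine ⟨(g⁻¹).1.1 *ᵥ w', ?_, ?_⟩
  · intro h0
    apply hw'
    have h1 := congrArg (fun x => g.1.1 *ᵥ x) h0
    simpa only [GSp_mulVec_inv, Matrix.mulVec_zero] using h1
  · rw [map_mul_aut, h, ← map_inv, map_dg_Tg]

/-- first normalisation: the frame is fixed. -/
theorem step_frame' [Fintype F] (hm : 2 ≤ m) (θ : MulAut (PSp m F))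
    (hθ : ∀ {w : Fin m ⊕ Fin m → F}, w ≠ 0 → ∃ w', w' ≠ 0 ∧ (Tg w).map θ.toMonoidHom = Tg w') :
    ∃ g : GSp m F, (∀ i, (Tg (e i)).map ((dg g)⁻¹ * θ).toMonoidHom = Tg (e i)) ∧
      (∀ i, (Tg (f i)).map ((dg g)⁻¹ * θ).toMonoidHom = Tg (f i)) := by
  classical
  choose b hb0 hb using fun i => hθ (e_ne (F := F) i)
  choose c hc0 hc using fun i => hθ (f_ne (F := F) i)
  have hbb : ∀ i j, B (b i) (b j) = 0 := by
    intro i j
    rw [← ortho_iff hm θ (e_ne i) (e_ne j) (hb0 i) (hb0 j) (hb i) (hb j), B_ee]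
  have hcc : ∀ i j, B (c i) (c j) = 0 := by
    intro i j
    rw [← ortho_iff hm θ (f_ne i) (f_ne j) (hc0 i) (hc0 j) (hc i) (hc j), B_ff]
  have hbc : ∀ i j, B (b i) (c j) = 0 ↔ i ≠ j := by
    intro i j
    rw [← ortho_iff hm θ (e_ne i) (f_ne j) (hb0 i) (hc0 j) (hb i) (hc j), B_ef]
    by_cases h : i = j <;> simp [h]
  have hne : ∀ i, B (b i) (c i) ≠ 0 := fun i h => (hbc i i).1 h rfl
  let c' : Fin m → (Fin m ⊕ Fin m → F) := fun i => (-(B (b i) (c i))⁻¹) • c i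
  have hk : ∀ i, -(B (b i) (c i))⁻¹ ≠ 0 := fun i => neg_ne_zero.2 (inv_ne_zero (hne i))
  obtain ⟨s, hs1, hs2⟩ := exists_SG' b c' hbb (by
      intro i j
      simp only [c']
      rw [B_smul_left, B_smul_right, hcc, mul_zero, mul_zero]) (by
      intro i j hij
      simp only [c']
      rw [B_smul_right, (hbc i j).2 hij, mul_zero]) (by
      intro i
      simp only [c']
      rw [B_smul_right, neg_mul, inv_mul_cancel₀ (hne i)])
  refine ⟨toGSp s, fun i => ?_, fun i => ?_⟩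
  · apply map_dg_inv_mul
    rw [toGSp_coe, hs1, hb]
  · apply map_dg_inv_mul
    rw [toGSp_coe, hs2, hc]
    simp only [c']
    rw [Tg_smul (hk i)]

/-- second normalisation -/
theorem step_diag' [Fintype F] (hm : 2 ≤ m) (θ : MulAut (PSp m F))
    (hθ : ∀ {w : Fin m ⊕ Fin m → F}, w ≠ 0 → ∃ w', w' ≠ 0 ∧ (Tg w).map θ.toMonoidHom = Tg w') (z : Fin m)
    (he : ∀ i, (Tg (e i)).map θ.toMonoidHom = Tg (e i)) (hf : ∀ i, (Tg (f i)).map θ.toMonoidHom = Tg (f i)) :
    ∃ g : GSp m F, (∀ i, (Tg (e i)).map ((dg g)⁻¹ * θ).toMonoidHom = Tg (e i)) ∧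
      (∀ i, (Tg (f i)).map ((dg g)⁻¹ * θ).toMonoidHom = Tg (f i)) ∧
      (∀ j, j ≠ z → (Tg (e z + e j)).map ((dg g)⁻¹ * θ).toMonoidHom = Tg (e z + e j)) := by
  classical
  have hne : ∀ j, j ≠ z → (e z + e j : Fin m ⊕ Fin m → F) ≠ 0 := by
    intro j hj h
    have := congrFun h (Sum.inl j)
    rw [Pi.add_apply, e_inl, e_inl, if_neg hj, if_pos rfl, zero_add] at this
    exact one_ne_zero this
  have h1 : ∀ j, ∃ c : F, c ≠ 0 ∧ (j ≠ z → (Tg (e z + e j)).map θ.toMonoidHom = Tg (e z + c • e j)) ∧ (j = z → c = 1) := by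
    intro j
    by_cases hj : j = z
    · exact ⟨1, one_ne_zero, fun h => absurd hj h, fun _ => rfl⟩
    obtain ⟨v, hv0, hv⟩ := hθ (hne j hj)
    have hve : ∀ k, v (Sum.inr k) = 0 := by
      intro k
      have h2 := (ortho_iff hm θ (e_ne k) (hne j hj) (e_ne k) hv0 (he k) hv).1 (by rw [B_add_right, B_ee, B_ee, add_zero])
      rw [B_e] at h2
      exact neg_eq_zero.1 h2
    have hvf : ∀ k, v (Sum.inl k) = 0 ↔ (k ≠ z ∧ k ≠ j) := by
      intro k
      have h2 := ortho_iff hm θ (f_ne k) (hne j hj) (f_ne k) hv0 (hf k) hv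
      rw [B_f, B_f, Pi.add_apply, e_inl, e_inl] at h2
      rw [← h2]
      by_cases h3 : k = z
      · subst h3
        have : ¬ k = j := fun h => hj h.symm
        simp [this]
      · by_cases h5 : k = j
        · subst h5; simp [h3]
        · simp [h3, h5]
    have hvz : v (Sum.inl z) ≠ 0 := fun h => ((hvf z).1 h).1 rfl
    have hvj : v (Sum.inl j) ≠ 0 := fun h => ((hvf j).1 h).2 rfl
    refine ⟨v (Sum.inl j) / v (Sum.inl z), div_ne_zero hvj hvz, fun _ => ?_, fun h => absurd h hj⟩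
    rw [hv]
    have h3 : v = v (Sum.inl z) • (e z + (v (Sum.inl j) / v (Sum.inl z)) • e j) := by
      ext k
      rcases k with k | k
      · simp only [Pi.smul_apply, Pi.add_apply, e_inl, smul_eq_mul]
        by_cases h3 : k = z
        · subst h3
          have : ¬ k = j := fun h => hj h.symm
          simp [this]
        · by_cases h5 : k = j
          · subst h5
            simp only [h3, if_false, if_true, zero_add, mul_one]
            field_simp
          · simp only [h3, h5, if_false, mul_zero, add_zero]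
            exact (hvf k).2 ⟨h3, h5⟩
      · simp only [Pi.smul_apply, Pi.add_apply, e_inr, smul_eq_mul, mul_zero, add_zero]
        exact hve k
    rw [h3, Tg_smul hvz, ← h3]
  choose c hc0 hc hcz using h1
  obtain ⟨s, hs1, hs2⟩ := exists_SG' (fun i => c i • e i) (fun i => (c i)⁻¹ • f i)
    (by
      intro i j
      show B (c i • e i) (c j • e j) = (0 : F)
      rw [B_smul_left, B_smul_right, B_ee, mul_zero, mul_zero])
    (by
      intro i j
      show B ((c i)⁻¹ • f i) ((c j)⁻¹ • f j) = (0 : F)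
      rw [B_smul_left, B_smul_right, B_ff, mul_zero, mul_zero])
    (by
      intro i j hij
      show B (c i • e i) ((c j)⁻¹ • f j) = (0 : F)
      rw [B_smul_left, B_smul_right, B_ef, if_neg hij, mul_zero, mul_zero])
    (by
      intro i
      show B (c i • e i) ((c i)⁻¹ • f i) = -1
      rw [B_smul_left, B_smul_right, B_ef, if_pos rfl]
      have := hc0 i
      field_simp)
  refine ⟨toGSp s, fun i => ?_, fun i => ?_, fun j hj => ?_⟩
  · apply map_dg_inv_mul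
    rw [toGSp_coe, hs1, Tg_smul (hc0 i), he]
  · apply map_dg_inv_mul
    rw [toGSp_coe, hs2, Tg_smul (inv_ne_zero (hc0 i)), hf]
  · apply map_dg_inv_mul
    rw [toGSp_coe, Matrix.mulVec_add, hs1, hs1, hcz z rfl, one_smul, hc j hj]

/-- **Automorphisms of `PSp_{2m}(F)`**, for automorphisms permuting the transvection groups. -/
theorem aut_psp' [Fintype F] (hm : 2 ≤ m) (θ : MulAut (PSp m F))
    (hθ : ∀ {w : Fin m ⊕ Fin m → F}, w ≠ 0 → ∃ w', w' ≠ 0 ∧ (Tg w).map θ.toMonoidHom = Tg w') :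
    ∃ (g : GSp m F) (σ : F ≃+* F), θ = dg g * fd σ := by
  classical
  let z : Fin m := ⟨0, by omega⟩
  obtain ⟨g1, he1, hf1⟩ := step_frame' hm θ hθ
  obtain ⟨g2, he2, hf2, hz2⟩ := step_diag' hm _ (perm_dg_mul hθ) z he1 hf1
  obtain ⟨θ2, hθ2⟩ : ∃ θ2 : MulAut (PSp m F), θ2 = (dg g2)⁻¹ * ((dg g1)⁻¹ * θ) := ⟨_, rfl⟩
  rw [← hθ2] at he2 hf2 hz2
  -- rescale
  obtain ⟨φ2, hφ2, -, hφ20, -⟩ := exists_coord hm (e_ne z) (he2 z)
  let c : Fˣ := Units.mk0 (φ2 1) (hφ20 1 one_ne_zero)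
  obtain ⟨θ3, hθ3⟩ : ∃ θ3 : MulAut (PSp m F), θ3 = (dg (simG c))⁻¹ * θ2 := ⟨_, rfl⟩
  have he3 : ∀ i, (Tg (e i)).map θ3.toMonoidHom = Tg (e i) := by
    intro i
    rw [hθ3]
    apply map_dg_inv_mul
    rw [simG_e, Tg_smul c.ne_zero, he2]
  have hf3 : ∀ i, (Tg (f i)).map θ3.toMonoidHom = Tg (f i) := by
    intro i
    rw [hθ3]
    apply map_dg_inv_mul
    rw [simG_f, hf2]
  have hz3 : ∀ j, j ≠ z → (Tg (e z + e j)).map θ3.toMonoidHom = Tg (e z + e j) := by
    intro j hj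
    rw [hθ3]
    apply map_dg_inv_mul
    rw [Matrix.mulVec_add, simG_e, simG_e, ← smul_add, Tg_smul c.ne_zero, hz2 j hj]
  have h13 : θ3 (tb 1 (e z)) = tb 1 (e z) := by
    rw [hθ3, MulAut.mul_apply, hφ2]
    have h1 : dg (simG c) (tb 1 (e z)) = tb (φ2 1) (e z) := by
      rw [dg_tb (simG c) c.ne_zero (simG_mul c), simG_e, tb_smul]
      congr 1
      have := c.ne_zero
      field_simp
      rfl
    rw [← h1]
    exact MulAut.inv_apply_self _ _ _
  -- the field automorphism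
  obtain ⟨φ, hφ, hφadd, hφ0, hφinj⟩ := exists_coord hm (e_ne z) (he3 z)
  obtain ⟨ψ, hψ, -, -, -⟩ := exists_coord hm (f_ne z) (hf3 z)
  have hφ1 : φ 1 = 1 := by
    rw [hφ] at h13
    exact scalar_eq_of_tM_eq (e_ne z) (tb_inj hm h13)
  obtain ⟨-, hsq⟩ := rank_one hm (by rw [B_fe, if_pos rfl] : B (f z) (e z : Fin m ⊕ Fin m → F) = 1) hφ hψ (he3 z) (hf3 z) hφ0
  have hψφ : ∀ a, ψ a = φ a := by
    intro a
    have := hsq 1 a one_ne_zero
    rw [hφ1, one_pow, one_mul, one_mul] at this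
    exact this.symm
  obtain ⟨σ, hσ⟩ := exists_ringEquiv hφadd hφinj hφ1 (fun a t ha => by rw [hsq a t ha, hψφ])
  obtain ⟨θ4, hθ4⟩ : ∃ θ4 : MulAut (PSp m F), θ4 = (fd σ)⁻¹ * θ3 := ⟨_, rfl⟩
  have hfdmap : ∀ w : Fin m ⊕ Fin m → F, (fun k => σ (w k)) = w → (Tg w).map θ3.toMonoidHom = Tg w →
      (Tg w).map θ4.toMonoidHom = Tg w := by
    intro w hw h
    rw [hθ4, map_mul_aut, h]
    apply map_aut_inv
    rw [map_fd_Tg, hw]
  have hfix : ∀ w : Fin m ⊕ Fin m → F, (fun k => σ (w k)) = w → (∀ a, θ3 (tb a w) = tb (σ a) w) →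
      ∀ a, θ4 (tb a w) = tb a w := by
    intro w hw h a
    rw [hθ4, MulAut.mul_apply, h]
    have h1 : fd σ (tb a w) = tb (σ a) w := by rw [fd_tb, hw]
    rw [← h1]
    exact MulAut.inv_apply_self _ _ _
  have h1 : θ4 = 1 := rigid hm (z := z)
    (hfix _ (map_e σ z) (fun a => by rw [hφ, hσ]))
    (hfix _ (map_f σ z) (fun a => by rw [hψ, hψφ, hσ]))
    (fun i => hfdmap _ (map_e σ i) (he3 i)) (fun i => hfdmap _ (map_f σ i) (hf3 i))
    (fun j hj => hfdmap _ (map_ee σ z j) (hz3 j hj))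
  refine ⟨g1 * g2 * simG c, σ, ?_⟩
  have h2 : θ3 = fd σ := by
    have := hθ4
    rw [h1] at this
    exact (inv_mul_eq_one.1 this.symm).symm
  rw [map_mul, map_mul]
  have h3 : θ2 = dg (simG c) * θ3 := by rw [hθ3, mul_inv_cancel_left]
  have h5 : θ = dg g1 * (dg g2 * θ2) := by rw [hθ2, mul_inv_cancel_left, mul_inv_cancel_left]
  rw [h5, h3, h2]
  simp only [mul_assoc]

end Cfsg.Agent.Lib.PSpAut
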