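import Cfsg.Agent.Lib.IsoRk1U
import Cfsg.Agent.Lib.FFSU3

/-!
# Subgroups of `SU_3(q)` containing large parts of a Borel subgroup: basic counting (helper66)
-/

set_option autoImplicit false
set_option linter.unusedSectionVars false

namespace Cfsg.Agent.Lib.PU3

open Subgroup Matrix Cfsg Cfsg.Agent.Lib.ClUnitary Cfsg.Agent.Lib.HermMat Cfsg.Agent.Lib.SylU3
open Cfsg.Agent.Lib.SU3Gen (UJ mx mx_mul mx_one mx_inj mul_vec3 X Y T W mx_X mx_Y mx_T mx_W mul3 exists_X exists_upper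
  X_congr X_mul X_one X_inv X_conj T_conj)
open Cfsg.Agent.Lib.IsoRk1 (U1 mem_U1 X_mem_U1 eq_X norm_U1 co_mul co_inv W_e1 X_e3 inv_vec bruhatU line_of_comm T_e1)

/-! ### general counting -/

/-- product formula -/
theorem card_mul_of_prod {G : Type*} [Group G] {H B K : Subgroup G} (hHK : H ≤ K) (hBK : B ≤ K)
    (h : ∀ u ∈ K, ∃ x ∈ H, ∃ b ∈ B, u = x * b) :
    Nat.card K * Nat.card (H ⊓ B : Subgroup G) = Nat.card H * Nat.card B := by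
  choose! f hf g hg e using h
  rw [← Nat.card_prod, ← Nat.card_prod]
  refine Nat.card_congr (Equiv.ofBijective
    (fun p : K × (H ⊓ B : Subgroup G) => ((⟨f p.1 * p.2, mul_mem (hf _ p.1.2) (Subgroup.mem_inf.1 p.2.2).1⟩ : H),
      (⟨(p.2 : G)⁻¹ * g p.1, mul_mem (inv_mem (Subgroup.mem_inf.1 p.2.2).2) (hg _ p.1.2)⟩ : B))) ⟨?_, ?_⟩)
  · rintro ⟨⟨k, hk⟩, ⟨x, hx⟩⟩ ⟨⟨k', hk'⟩, ⟨x', hx'⟩⟩ he
    have h1 : f k * x = f k' * x' := congrArg (fun z : H × B => (z.1 : G)) he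
    have h2 : x⁻¹ * g k = x'⁻¹ * g k' := congrArg (fun z : H × B => (z.2 : G)) he
    have h3 : k = k' := by
      rw [e k hk, e k' hk']
      calc f k * g k = (f k * x) * (x⁻¹ * g k) := by group
        _ = (f k' * x') * (x'⁻¹ * g k') := by rw [h1, h2]
        _ = _ := by group
    subst h3
    have h4 := mul_left_cancel h1
    subst h4
    rfl
  · rintro ⟨⟨x, hx⟩, ⟨b, hb⟩⟩
    have hk : x * b ∈ K := mul_mem (hHK hx) (hBK hb)
    have h1 := e (x * b) hk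
    have h2 : (f (x * b))⁻¹ * x = g (x * b) * b⁻¹ := by
      rw [inv_mul_eq_iff_eq_mul, ← mul_assoc, ← h1]; group
    refine ⟨(⟨x * b, hk⟩, ⟨(f (x * b))⁻¹ * x, Subgroup.mem_inf.2 ⟨mul_mem (inv_mem (hf _ hk)) hx, ?_⟩⟩), ?_⟩
    · rw [h2]; exact mul_mem (hg _ hk) (inv_mem hb)
    · refine Prod.ext (Subtype.ext ?_) (Subtype.ext ?_)
      · show f (x * b) * ((f (x * b))⁻¹ * x) = x
        group
      · show ((f (x * b))⁻¹ * x)⁻¹ * g (x * b) = b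
        rw [h2]; group

/-- first isomorphism theorem, counting -/
theorem card_ker_range {G L : Type*} [Group G] [Group L] (f : G →* L) :
    Nat.card G = Nat.card f.range * Nat.card f.ker := by
  rw [Subgroup.card_eq_card_quotient_mul_card_subgroup f.ker,
    Nat.card_congr (QuotientGroup.quotientKerEquivRange f).toEquiv]

section gen

variable {F : Type*} [Field F] {σ : F →+* F} (hσ : ∀ x, σ (σ x) = x)

/-! ### the subgroups -/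

/-- the Borel subgroup -/
def Bo (σ : F →+* F) : Subgroup (UJ σ) where
  carrier := {g | ∃ l, l ≠ 0 ∧ mx g *ᵥ ![1, 0, 0] = ![l, 0, 0]}
  one_mem' := ⟨1, one_ne_zero, by rw [mx_one, one_mulVec]⟩
  mul_mem' {a b} := by
    rintro ⟨l, hl, h1⟩ ⟨l', hl', h2⟩
    refine ⟨l' * l, mul_ne_zero hl' hl, ?_⟩
    have e1 : (![l', 0, 0] : Fin 3 → F) = l' • ![1, 0, 0] := by ext i; fin_cases i <;> simp
    rw [mx_mul, ← mulVec_mulVec, h2, e1, mulVec_smul, h1]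
    ext i; fin_cases i <;> simp
  inv_mem' {a} := by
    rintro ⟨l, hl, h1⟩
    refine ⟨l⁻¹, inv_ne_zero hl, ?_⟩
    have h2 := inv_vec h1
    have e1 : (![l, 0, 0] : Fin 3 → F) = l • ![1, 0, 0] := by ext i; fin_cases i <;> simp
    rw [e1, mulVec_smul] at h2
    have h3 : mx a⁻¹ *ᵥ ![1, 0, 0] = l⁻¹ • (l • (mx a⁻¹ *ᵥ ![1, 0, 0])) := by
      rw [smul_smul, inv_mul_cancel₀ hl, one_smul]
    rw [h3, h2]
    ext i; fin_cases i <;> simp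

theorem mem_Bo {g : UJ σ} : g ∈ Bo σ ↔ ∃ l, l ≠ 0 ∧ mx g *ᵥ ![1, 0, 0] = ![l, 0, 0] := Iff.rfl

theorem Bo_col {g : UJ σ} (hg : g ∈ Bo σ) : mx g *ᵥ ![1, 0, 0] = ![mx g 0 0, 0, 0] := by
  obtain ⟨l, hl, h⟩ := hg
  have : mx g 0 0 = l := by
    have h1 := congrFun h 0
    rw [mul_vec3] at h1
    simpa using h1
  rw [this]; exact h

theorem Bo_ne {g : UJ σ} (hg : g ∈ Bo σ) : mx g 0 0 ≠ 0 := by
  obtain ⟨l, hl, h⟩ := hg
  have : mx g 0 0 = l := by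
    have h1 := congrFun h 0
    rw [mul_vec3] at h1
    simpa using h1
  rwa [this]

theorem mul00 {g h : UJ σ} (hh : h ∈ Bo σ) : mx (g * h) 0 0 = mx g 0 0 * mx h 0 0 := by
  have h1 := congrFun (Bo_col hh) 1
  have h2 := congrFun (Bo_col hh) 2
  rw [mul_vec3] at h1 h2
  simp at h1 h2
  rw [mx_mul, Matrix.mul_apply, Fin.sum_univ_three, h1, h2]
  ring

include hσ in
theorem X_mem_Bo {a b : F} (h : b + σ b + a * σ a = 0) : X hσ a b h ∈ Bo σ :=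
  ⟨1, one_ne_zero, X_mem_U1 hσ h⟩

include hσ in
theorem T_mem_Bo {t : F} (ht : t ≠ 0) : T hσ t ht ∈ Bo σ := ⟨t, ht, T_e1 hσ ht⟩

theorem U1_le_Bo : U1 σ ≤ Bo σ := fun _ hg => ⟨1, one_ne_zero, hg⟩

theorem mem_U1_iff {g : UJ σ} (hg : g ∈ Bo σ) : g ∈ U1 σ ↔ mx g 0 0 = 1 := by
  rw [mem_U1, Bo_col hg]
  constructor
  · intro h; simpa using congrFun h 0
  · intro h; rw [h]

/-- elements of the Borel subgroup -/
theorem exists_XT {g : UJ σ} (hg : g ∈ Bo σ) : ∃ (a b : F) (h : b + σ b + a * σ a = 0),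
    g = X hσ a b h * T hσ (mx g 0 0) (Bo_ne hg) := by
  have h1 : g * (T hσ (mx g 0 0) (Bo_ne hg))⁻¹ ∈ Bo σ := mul_mem hg (inv_mem (T_mem_Bo hσ _))
  have h2 : g * (T hσ (mx g 0 0) (Bo_ne hg))⁻¹ ∈ U1 σ := by
    rw [mem_U1_iff h1]
    have h3 : mx (g * (T hσ (mx g 0 0) (Bo_ne hg))⁻¹ * T hσ (mx g 0 0) (Bo_ne hg)) 0 0 = mx g 0 0 := by
      rw [inv_mul_cancel_right]
    rw [mul00 (T_mem_Bo hσ _)] at h3
    have h4 : mx (T hσ (mx g 0 0) (Bo_ne hg)) 0 0 = mx g 0 0 := by rw [mx_T]; simp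
    rw [h4] at h3
    exact mul_right_cancel₀ (Bo_ne hg) (by rw [h3, one_mul])
  obtain ⟨a, b, h, e⟩ := exists_X hσ _ h2
  exact ⟨a, b, h, by rw [← e, inv_mul_cancel_right]⟩

theorem T_congr {t t' : F} {ht : t ≠ 0} (e : t = t') : T hσ t ht = T hσ t' (e ▸ ht) := by
  subst e; rfl

/-- the torus coordinate -/
noncomputable def tau (σ : F →+* F) : ↥(Bo σ) →* Fˣ where
  toFun g := Units.mk0 (mx g.1 0 0) (Bo_ne g.2)
  map_one' := by apply Units.ext; show mx (1 : UJ σ) 0 0 = 1; rw [mx_one]; simp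
  map_mul' g h := by apply Units.ext; exact mul00 h.2

theorem tau_val (g : ↥(Bo σ)) : ((tau σ g : Fˣ) : F) = mx g.1 0 0 := rfl

include hσ in
theorem conj_U1 {g : UJ σ} (hg : g ∈ Bo σ) {u : UJ σ} (hu : u ∈ U1 σ) : g * u * g⁻¹ ∈ U1 σ := by
  obtain ⟨l, hl, h⟩ := hg
  exact (mem_normalizer_iff.1 (norm_U1 hl h) u).1 hu

/-- the long root group -/
def Zo (σ : F →+* F) : Subgroup (UJ σ) where
  carrier := {g | g ∈ U1 σ ∧ mx g 0 1 = 0}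
  one_mem' := ⟨one_mem _, by rw [mx_one]; simp⟩
  mul_mem' {a b} := by
    rintro ⟨ha, ha1⟩ ⟨hb, hb1⟩
    refine ⟨mul_mem ha hb, ?_⟩
    have h1 := congrFun (show mx b *ᵥ ![1, 0, 0] = ![1, 0, 0] from hb) 1
    have h2 := congrFun (show mx a *ᵥ ![1, 0, 0] = ![1, 0, 0] from ha) 0
    rw [mul_vec3] at h1 h2
    simp at h1 h2
    rw [mx_mul, Matrix.mul_apply, Fin.sum_univ_three, ha1, hb1, mul_zero, zero_mul, zero_add, zero_add]
    -- the entry (2,1)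
    have h3 := b.2 ![1, 0, 0] ![0, 1, 0]
    have h4 : SU3Gen.J σ (![1, 0, 0] : Fin 3 → F) ![0, 1, 0] = 0 := by simp [SU3Gen.J]
    have h5 : SU3Gen.J σ (mx b *ᵥ ![1, 0, 0]) (mx b *ᵥ ![0, 1, 0]) = σ (mx b 2 1) := by
      rw [show mx b *ᵥ ![1, 0, 0] = ![1, 0, 0] from hb, mul_vec3]
      simp [SU3Gen.J]
    have h6 : σ (mx b 2 1) = 0 := h5.symm.trans (h3.trans h4)
    have h7 : mx b 2 1 = 0 := (map_eq_zero σ).1 h6
    rw [h7, mul_zero]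
  inv_mem' {a} := by
    rintro ⟨ha, ha1⟩
    refine ⟨inv_mem ha, ?_⟩
    have h3 := a.2 ![1, 0, 0] ![0, 1, 0]
    have h4 : SU3Gen.J σ (![1, 0, 0] : Fin 3 → F) ![0, 1, 0] = 0 := by simp [SU3Gen.J]
    have h5 : SU3Gen.J σ (mx a *ᵥ ![1, 0, 0]) (mx a *ᵥ ![0, 1, 0]) = σ (mx a 2 1) := by
      rw [show mx a *ᵥ ![1, 0, 0] = ![1, 0, 0] from ha, mul_vec3]
      simp [SU3Gen.J]
    have h6 : σ (mx a 2 1) = 0 := h5.symm.trans (h3.trans h4)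
    have h7 : mx a 2 1 = 0 := (map_eq_zero σ).1 h6
    have h8 : mx a *ᵥ ![0, 1, 0] = ![0, mx a 1 1, 0] := by
      rw [mul_vec3, h7, ha1]; simp
    have h9 := inv_vec h8
    have e1 : (![0, mx a 1 1, 0] : Fin 3 → F) = (mx a 1 1) • ![0, 1, 0] := by ext i; fin_cases i <;> simp
    rw [e1, mulVec_smul] at h9
    have h10 := congrFun h9 0
    have h11 := congrFun h9 1
    rw [mul_vec3] at h10 h11
    simp at h10 h11
    rcases h10 with h | h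
    · rw [h, zero_mul] at h11; exact absurd h11 zero_ne_one
    · exact h

theorem mem_Zo {g : UJ σ} : g ∈ Zo σ ↔ g ∈ U1 σ ∧ mx g 0 1 = 0 := Iff.rfl

include hσ in
theorem exists_Z {g : UJ σ} (hg : g ∈ Zo σ) : ∃ (b : F) (h : b + σ b + 0 * σ 0 = 0), g = X hσ 0 b h := by
  obtain ⟨a, b, h, e⟩ := exists_X hσ g hg.1
  have h1 := hg.2
  rw [e, mx_X] at h1
  simp at h1
  subst h1
  exact ⟨b, h, e⟩

include hσ in
theorem X0_mem_Zo {b : F} (h : b + σ b + 0 * σ 0 = 0) : X hσ 0 b h ∈ Zo σ := by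
  refine ⟨X_mem_U1 hσ h, ?_⟩
  rw [mx_X]; simp

/-- the stabilizer of the second line -/
def Ns (σ : F →+* F) : Subgroup (UJ σ) where
  carrier := {g | ∃ l, l ≠ 0 ∧ mx g *ᵥ ![0, 1, 0] = ![0, l, 0]}
  one_mem' := ⟨1, one_ne_zero, by rw [mx_one, one_mulVec]⟩
  mul_mem' {a b} := by
    rintro ⟨l, hl, h1⟩ ⟨l', hl', h2⟩
    refine ⟨l' * l, mul_ne_zero hl' hl, ?_⟩
    have e1 : (![0, l', 0] : Fin 3 → F) = l' • ![0, 1, 0] := by ext i; fin_cases i <;> simp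
    rw [mx_mul, ← mulVec_mulVec, h2, e1, mulVec_smul, h1]
    ext i; fin_cases i <;> simp
  inv_mem' {a} := by
    rintro ⟨l, hl, h1⟩
    refine ⟨l⁻¹, inv_ne_zero hl, ?_⟩
    have h2 := inv_vec h1
    have e1 : (![0, l, 0] : Fin 3 → F) = l • ![0, 1, 0] := by ext i; fin_cases i <;> simp
    rw [e1, mulVec_smul] at h2
    have h3 : mx a⁻¹ *ᵥ ![0, 1, 0] = l⁻¹ • (l • (mx a⁻¹ *ᵥ ![0, 1, 0])) := by
      rw [smul_smul, inv_mul_cancel₀ hl, one_smul]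
    rw [h3, h2]
    ext i; fin_cases i <;> simp

theorem mem_Ns {g : UJ σ} : g ∈ Ns σ ↔ ∃ l, l ≠ 0 ∧ mx g *ᵥ ![0, 1, 0] = ![0, l, 0] := Iff.rfl

/-- the shape of the elements of `Ns` -/
theorem Ns_shape {g : UJ σ} (hg : g ∈ Ns σ) : mx g 1 1 ≠ 0 ∧ mx g 0 1 = 0 ∧ mx g 2 1 = 0 ∧ mx g 1 0 = 0 ∧ mx g 1 2 = 0 := by
  obtain ⟨l, hl, h⟩ := hg
  have h0 := congrFun h 0
  have h1 := congrFun h 1
  have h2 := congrFun h 2
  rw [mul_vec3] at h0 h1 h2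
  simp at h0 h1 h2
  have hl' : σ l ≠ 0 := (map_ne_zero σ).2 hl
  refine ⟨by rw [h1]; exact hl, h0, h2, ?_, ?_⟩
  · have h3 := g.2 ![1, 0, 0] ![0, 1, 0]
    have h4 : SU3Gen.J σ (![1, 0, 0] : Fin 3 → F) ![0, 1, 0] = 0 := by simp [SU3Gen.J]
    have h5 : SU3Gen.J σ (mx g *ᵥ ![1, 0, 0]) (mx g *ᵥ ![0, 1, 0]) = mx g 1 0 * σ l := by
      rw [h, mul_vec3]
      simp [SU3Gen.J]
    have h6 : mx g 1 0 * σ l = 0 := h5.symm.trans (h3.trans h4)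
    exact (mul_eq_zero.1 h6).resolve_right hl'
  · have h3 := g.2 ![0, 0, 1] ![0, 1, 0]
    have h4 : SU3Gen.J σ (![0, 0, 1] : Fin 3 → F) ![0, 1, 0] = 0 := by simp [SU3Gen.J]
    have h5 : SU3Gen.J σ (mx g *ᵥ ![0, 0, 1]) (mx g *ᵥ ![0, 1, 0]) = mx g 1 2 * σ l := by
      rw [h, mul_vec3]
      simp [SU3Gen.J]
    have h6 : mx g 1 2 * σ l = 0 := h5.symm.trans (h3.trans h4)
    exact (mul_eq_zero.1 h6).resolve_right hl'

theorem Ns_of {g : UJ σ} (h0 : mx g 0 1 = 0) (h2 : mx g 2 1 = 0) : g ∈ Ns σ := by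
  refine ⟨mx g 1 1, ?_, ?_⟩
  · intro h1
    have hd : (mx g).det = 1 := g.1.2
    rw [det_fin_three, h0, h1, h2] at hd
    simp at hd
  · rw [mul_vec3, h0, h2]; simp

include hσ in
theorem X0_mem_Ns {b : F} (h : b + σ b + 0 * σ 0 = 0) : X hσ 0 b h ∈ Ns σ :=
  Ns_of (by rw [mx_X]; simp) (by rw [mx_X]; simp)

include hσ in
theorem T_mem_Ns {t : F} (ht : t ≠ 0) : T hσ t ht ∈ Ns σ :=
  Ns_of (by rw [mx_T]; simp) (by rw [mx_T]; simp)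

theorem W_mem_Ns : (W : UJ σ) ∈ Ns σ := Ns_of (by rw [mx_W]; simp) (by rw [mx_W]; simp)

include hσ in
theorem Zo_le_Ns : Zo σ ≤ Ns σ := by
  intro g hg
  obtain ⟨b, h, rfl⟩ := exists_Z hσ hg
  exact X0_mem_Ns hσ h

include hσ in
/-- `U1 ∩ Ns = Zo` -/
theorem U1_inf_Ns {g : UJ σ} (h1 : g ∈ U1 σ) (h2 : g ∈ Ns σ) : g ∈ Zo σ := ⟨h1, (Ns_shape h2).2.1⟩

include hσ in
/-- Bruhat decomposition of `Ns` -/
theorem bruhatN {g : UJ σ} (hg : g ∈ Ns σ) : g ∈ Bo σ ∨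
    ∃ (b : F) (h : b + σ b + 0 * σ 0 = 0) (n : UJ σ), n ∈ Bo σ ∧ n ∈ Ns σ ∧ g = X hσ 0 b h * W * n := by
  rcases bruhatU hσ g with h | ⟨u, hu, n, hn, e⟩
  · left; exact h
  · right
    obtain ⟨a, b, h, rfl⟩ := exists_X hσ u hu
    obtain ⟨l, hl, hn1⟩ := hn
    have h1 : mx g *ᵥ ![1, 0, 0] = l • ![b, -σ a, 1] := by
      have e1 : (![l, 0, 0] : Fin 3 → F) = l • ![1, 0, 0] := by ext i; fin_cases i <;> simp
      rw [e, mx_mul, mx_mul, ← mulVec_mulVec, ← mulVec_mulVec, hn1, e1, mulVec_smul, mulVec_smul, W_e1, X_e3]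
    have h2 := congrFun h1 1
    rw [mul_vec3] at h2
    simp [(Ns_shape hg).2.2.2.1] at h2
    have ha : a = 0 := h2.resolve_left hl
    subst ha
    refine ⟨b, h, n, ⟨l, hl, hn1⟩, ?_, e⟩
    have e2 : n = (X hσ 0 b h * W)⁻¹ * g := by rw [e]; group
    rw [e2]
    exact mul_mem (inv_mem (mul_mem (X0_mem_Ns hσ h) W_mem_Ns)) hg

end gen

end Cfsg.Agent.Lib.PU3
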