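import Cfsg.Agent.Lib.PU3a

/-!
# Counting in `SU_3(q)` and transitivity of large subgroups (helper66)
-/

set_option autoImplicit false
set_option linter.unusedSectionVars false

namespace Cfsg.Agent.Lib.PU3

open Subgroup Matrix Cfsg Cfsg.Agent.Lib.ClUnitary Cfsg.Agent.Lib.HermMat Cfsg.Agent.Lib.SylU3
open Cfsg.Agent.Lib.SU3Gen (UJ mx mx_mul mx_one mx_inj mul_vec3 X Y T W mx_X mx_Y mx_T mx_W mul3 exists_X exists_upper
  X_congr X_mul X_one X_inv X_conj T_conj)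
open Cfsg.Agent.Lib.IsoRk1 (U1 mem_U1 X_mem_U1 eq_X norm_U1 co_mul co_inv W_e1 X_e3 inv_vec bruhatU line_of_comm T_e1
  card_U1 card_UJ)

section gen

variable {F : Type*} [Field F] {σ : F →+* F} (hσ : ∀ x, σ (σ x) = x)

/-- the torus part of `H ∩ B` -/
noncomputable def tauH (H : Subgroup (UJ σ)) : ↥(H ⊓ Bo σ) →* Fˣ := (tau σ).comp (Subgroup.inclusion inf_le_right)

/-- the image in the torus -/
noncomputable def Cx (H : Subgroup (UJ σ)) : Subgroup Fˣ := (tauH H).range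

theorem mem_Cx {H : Subgroup (UJ σ)} {s : Fˣ} : s ∈ Cx H ↔ ∃ g ∈ H, g ∈ Bo σ ∧ mx g 0 0 = s := by
  constructor
  · rintro ⟨g, rfl⟩
    exact ⟨g.1, (Subgroup.mem_inf.1 g.2).1, (Subgroup.mem_inf.1 g.2).2, rfl⟩
  · rintro ⟨g, h1, h2, h3⟩
    exact ⟨⟨g, Subgroup.mem_inf.2 ⟨h1, h2⟩⟩, Units.ext h3⟩

theorem card_HB (H : Subgroup (UJ σ)) :
    Nat.card (H ⊓ Bo σ : Subgroup (UJ σ)) = Nat.card (Cx H) * Nat.card (H ⊓ U1 σ : Subgroup (UJ σ)) := by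
  rw [card_ker_range (tauH H)]
  congr 1
  refine Nat.card_congr (Equiv.ofBijective (fun g => (⟨g.1.1, Subgroup.mem_inf.2 ⟨(Subgroup.mem_inf.1 g.1.2).1, ?_⟩⟩ :
    (H ⊓ U1 σ : Subgroup (UJ σ)))) ⟨?_, ?_⟩)
  · rw [mem_U1_iff (Subgroup.mem_inf.1 g.1.2).2]
    have h1 := (MonoidHom.mem_ker).1 g.2
    exact congrArg (fun u : Fˣ => (u : F)) h1
  · intro g g' h
    have h1 : g.1.1 = g'.1.1 := congrArg (fun z : (H ⊓ U1 σ : Subgroup (UJ σ)) => (z : UJ σ)) h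
    exact Subtype.ext (Subtype.ext h1)
  · rintro ⟨g, hg⟩
    have h1 := (Subgroup.mem_inf.1 hg).1
    have h2 := (Subgroup.mem_inf.1 hg).2
    refine ⟨⟨⟨g, Subgroup.mem_inf.2 ⟨h1, U1_le_Bo h2⟩⟩, ?_⟩, rfl⟩
    rw [MonoidHom.mem_ker]
    exact Units.ext ((mem_U1_iff (U1_le_Bo h2)).1 h2)

/-- the first coordinate on `H ∩ U1` -/
def alpH (H : Subgroup (UJ σ)) : ↥(H ⊓ U1 σ) →* Multiplicative F where
  toFun g := Multiplicative.ofAdd (mx g.1 0 1)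
  map_one' := by
    show Multiplicative.ofAdd (mx (1 : UJ σ) 0 1) = 1
    rw [mx_one]; simp
  map_mul' g h := by
    show Multiplicative.ofAdd (mx (g.1 * h.1) 0 1) = _
    rw [co_mul hσ (Subgroup.mem_inf.1 g.2).2 (Subgroup.mem_inf.1 h.2).2]
    rfl

/-- the first coordinates of the elements of `H ∩ U1` -/
def Ax (H : Subgroup (UJ σ)) : AddSubgroup F where
  carrier := {a | ∃ b h, X hσ a b h ∈ H}
  zero_mem' := ⟨0, by simp, by rw [X_one]; exact one_mem _⟩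
  add_mem' := by
    rintro x x' ⟨y, h1, hx⟩ ⟨y', h2, hx'⟩
    obtain ⟨h3, e⟩ := X_mul hσ h1 h2
    exact ⟨_, h3, by rw [← e]; exact mul_mem hx hx'⟩
  neg_mem' := by
    rintro x ⟨y, h1, hx⟩
    obtain ⟨h3, e⟩ := X_inv hσ h1
    exact ⟨_, h3, by rw [← e]; exact inv_mem hx⟩

theorem mem_Ax {H : Subgroup (UJ σ)} {a : F} : a ∈ Ax hσ H ↔ ∃ b h, X hσ a b h ∈ H := Iff.rfl

theorem mem_Ax' {H : Subgroup (UJ σ)} {a : F} : a ∈ Ax hσ H ↔ ∃ g ∈ H, g ∈ U1 σ ∧ mx g 0 1 = a := by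
  constructor
  · rintro ⟨b, h, hm⟩
    exact ⟨_, hm, X_mem_U1 hσ h, rfl⟩
  · rintro ⟨g, h1, h2, h3⟩
    obtain ⟨a', b, h, rfl⟩ := exists_X hσ g h2
    have : a' = a := h3
    subst this
    exact ⟨b, h, h1⟩

theorem card_HU (H : Subgroup (UJ σ)) :
    Nat.card (H ⊓ U1 σ : Subgroup (UJ σ)) = Nat.card (Ax hσ H) * Nat.card (H ⊓ Zo σ : Subgroup (UJ σ)) := by
  rw [card_ker_range (alpH hσ H)]
  congr 1
  · refine Nat.card_congr (Equiv.subtypeEquiv (Multiplicative.toAdd) ?_)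
    intro x
    constructor
    · rintro ⟨g, rfl⟩
      exact (mem_Ax' hσ).2 ⟨g.1, (Subgroup.mem_inf.1 g.2).1, (Subgroup.mem_inf.1 g.2).2, rfl⟩
    · intro h
      obtain ⟨g, h1, h2, h3⟩ := (mem_Ax' hσ).1 h
      exact ⟨⟨g, Subgroup.mem_inf.2 ⟨h1, h2⟩⟩, congrArg Multiplicative.ofAdd h3⟩
  · refine Nat.card_congr (Equiv.ofBijective (fun g => (⟨g.1.1, Subgroup.mem_inf.2 ⟨(Subgroup.mem_inf.1 g.1.2).1, ?_⟩⟩ :
      (H ⊓ Zo σ : Subgroup (UJ σ)))) ⟨?_, ?_⟩)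
    · have h1 := (MonoidHom.mem_ker).1 g.2
      exact ⟨(Subgroup.mem_inf.1 g.1.2).2, congrArg Multiplicative.toAdd h1⟩
    · intro g g' h
      have h1 : g.1.1 = g'.1.1 := congrArg (fun z : (H ⊓ Zo σ : Subgroup (UJ σ)) => (z : UJ σ)) h
      exact Subtype.ext (Subtype.ext h1)
    · rintro ⟨g, hg⟩
      have h1 := (Subgroup.mem_inf.1 hg).1
      have h2 := (Subgroup.mem_inf.1 hg).2
      refine ⟨⟨⟨g, Subgroup.mem_inf.2 ⟨h1, h2.1⟩⟩, ?_⟩, rfl⟩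
      rw [MonoidHom.mem_ker]
      exact congrArg Multiplicative.ofAdd h2.2

include hσ in
/-- action of the torus part on the first coordinates -/
theorem mul_mem_Ax {H : Subgroup (UJ σ)} {s : Fˣ} (hs : s ∈ Cx H) {a : F} (ha : a ∈ Ax hσ H) :
    (s : F) ^ 2 * (σ s)⁻¹ * a ∈ Ax hσ H := by
  obtain ⟨g, hg, hgB, hs0⟩ := mem_Cx.1 hs
  obtain ⟨b, h, hm⟩ := ha
  obtain ⟨a', b', h', e⟩ := exists_XT hσ hgB
  obtain ⟨h2, e2⟩ := T_conj hσ (Bo_ne hgB) h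
  obtain ⟨h3, e3⟩ := X_conj hσ h' h2
  have h4 : g * X hσ a b h * g⁻¹ ∈ H := mul_mem (mul_mem hg hm) (inv_mem hg)
  have e4 : g * X hσ a b h * g⁻¹ = X hσ a' b' h' * (T hσ (mx g 0 0) (Bo_ne hgB) * X hσ a b h *
      (T hσ (mx g 0 0) (Bo_ne hgB))⁻¹) * (X hσ a' b' h')⁻¹ := by
    conv_lhs => rw [e]
    group
  rw [e4, e2, e3] at h4
  rw [← hs0]
  exact ⟨_, _, h4⟩

include hσ in
/-- action of the torus part on the long root elements -/
theorem mul_mem_Z {H : Subgroup (UJ σ)} {s : Fˣ} (hs : s ∈ Cx H) {b : F} {h : b + σ b + 0 * σ 0 = 0}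
    (hb : X hσ 0 b h ∈ H) : ∃ h', X hσ 0 ((s : F) * σ s * b) h' ∈ H := by
  obtain ⟨g, hg, hgB, hs0⟩ := mem_Cx.1 hs
  obtain ⟨a', b', h', e⟩ := exists_XT hσ hgB
  obtain ⟨h2, e2⟩ := T_conj hσ (Bo_ne hgB) h
  obtain ⟨h3, e3⟩ := X_conj hσ h' h2
  have h4 : g * X hσ 0 b h * g⁻¹ ∈ H := mul_mem (mul_mem hg hb) (inv_mem hg)
  have e4 : g * X hσ 0 b h * g⁻¹ = X hσ a' b' h' * (T hσ (mx g 0 0) (Bo_ne hgB) * X hσ 0 b h *
      (T hσ (mx g 0 0) (Bo_ne hgB))⁻¹) * (X hσ a' b' h')⁻¹ := by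
    conv_lhs => rw [e]
    group
  have h5 : (s : F) * σ s * b + σ ((s : F) * σ s * b) + 0 * σ 0 = 0 := by
    have : σ b = - b := by rw [zero_mul, add_zero] at h; linear_combination h
    simp only [map_mul, hσ, this]; ring
  refine ⟨h5, ?_⟩
  rw [e4, e2, e3] at h4
  have h6 : X hσ 0 ((s : F) * σ s * b) h5 = X hσ _ _ h3 := by
    apply X_congr hσ
    · rw [mul_zero]
    · rw [hs0]; simp
  rw [h6]; exact h4

include hσ in
/-- commutators -/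
theorem comm_mem_Z {H : Subgroup (UJ σ)} {a a' : F} (ha : a ∈ Ax hσ H) (ha' : a' ∈ Ax hσ H) :
    ∃ h, X hσ 0 (a' * σ a - a * σ a') h ∈ H := by
  obtain ⟨b, h, hm⟩ := ha
  obtain ⟨b', h', hm'⟩ := ha'
  obtain ⟨h1, e1⟩ := X_conj hσ h h'
  have h2 : a' * σ a - a * σ a' + σ (a' * σ a - a * σ a') + 0 * σ 0 = 0 := by
    simp only [map_sub, map_mul, hσ]; ring
  refine ⟨h2, ?_⟩
  have h3 : X hσ a b h * X hσ a' b' h' * (X hσ a b h)⁻¹ * (X hσ a' b' h')⁻¹ ∈ H :=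
    mul_mem (mul_mem (mul_mem hm hm') (inv_mem hm)) (inv_mem hm')
  have h4 : X hσ a b h * X hσ a' b' h' * (X hσ a b h)⁻¹ * (X hσ a' b' h')⁻¹ = X hσ 0 (a' * σ a - a * σ a') h2 := by
    rw [mul_inv_eq_iff_eq_mul, e1]
    obtain ⟨h5, e5⟩ := X_mul hσ h2 h'
    rw [e5]
    apply X_congr hσ
    · ring
    · ring
  rw [← h4]; exact h3

/-! ### conjugate subgroups -/

/-- the conjugate `x H x⁻¹` -/
def cj {G : Type*} [Group G] (x : G) (H : Subgroup G) : Subgroup G := H.map (MulAut.conj x).toMonoidHom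

theorem mem_cj {G : Type*} [Group G] {x : G} {H : Subgroup G} {g : G} : g ∈ cj x H ↔ x⁻¹ * g * x ∈ H := by
  constructor
  · rintro ⟨h, hh, rfl⟩
    have : x⁻¹ * (MulAut.conj x h) * x = h := by rw [MulAut.conj_apply]; group
    show x⁻¹ * (MulAut.conj x h) * x ∈ H
    rw [this]; exact hh
  · intro h
    refine ⟨x⁻¹ * g * x, h, ?_⟩
    show MulAut.conj x (x⁻¹ * g * x) = g
    rw [MulAut.conj_apply]; group

theorem card_cj {G : Type*} [Group G] (x : G) (H : Subgroup G) : Nat.card (cj x H) = Nat.card H :=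
  Nat.card_congr (H.equivMapOfInjective _ (MulAut.conj x).injective).symm.toEquiv

theorem cj_inf {G : Type*} [Group G] (x : G) (H K : Subgroup G) : cj x (H ⊓ K) = cj x H ⊓ cj x K := by
  ext g; simp only [mem_cj, Subgroup.mem_inf]

theorem cj_eq {G : Type*} [Group G] {x : G} {K : Subgroup G} (hx : x ∈ normalizer (K : Set G)) : cj x K = K := by
  ext g
  rw [mem_cj]
  have h1 := mem_normalizer_iff.1 (inv_mem hx) g
  rw [inv_inv] at h1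
  exact h1.symm

theorem card_cj_inf {G : Type*} [Group G] {x : G} {K : Subgroup G} (hx : x ∈ normalizer (K : Set G)) (H : Subgroup G) :
    Nat.card (cj x H ⊓ K : Subgroup G) = Nat.card (H ⊓ K : Subgroup G) := by
  conv_lhs => rw [← cj_eq hx]
  rw [← cj_inf, card_cj]

/-! ### transitivity -/

/-- `H` is transitive on the isotropic points -/
def Tr (H : Subgroup (UJ σ)) : Prop := ∀ u : UJ σ, ∃ h ∈ H, ∃ b ∈ Bo σ, u = h * b

theorem Tr.cj {H : Subgroup (UJ σ)} (hH : Tr H) (x : UJ σ) : Tr (cj x H) := by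
  intro u
  obtain ⟨h, hh, b, hb, e⟩ := hH (x⁻¹ * u)
  obtain ⟨h', hh', b', hb', e'⟩ := hH (x⁻¹)
  refine ⟨x * (h * h'⁻¹) * x⁻¹, mem_cj.2 ?_, b'⁻¹ * b, mul_mem (inv_mem hb') hb, ?_⟩
  · have : x⁻¹ * (x * (h * h'⁻¹) * x⁻¹) * x = h * h'⁻¹ := by group
    rw [this]
    exact mul_mem hh (inv_mem hh')
  · have h2 : h'⁻¹ * x⁻¹ = b' := by rw [e']; group
    calc u = x * (x⁻¹ * u) := by group
      _ = x * (h * b) := by rw [e]
      _ = x * h * (b' * (b'⁻¹ * b)) := by group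
      _ = x * h * ((h'⁻¹ * x⁻¹) * (b'⁻¹ * b)) := by rw [h2]
      _ = _ := by group

end gen

end Cfsg.Agent.Lib.PU3
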