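import Cfsg.Agent.Lib.PU3b

/-!
# Counting in `SU_3(q)` and transitivity of large subgroups (helper66)
-/

set_option autoImplicit false
set_option linter.unusedSectionVars false

namespace Cfsg.Agent.Lib.PU3

open Subgroup Matrix Cfsg Cfsg.Agent.Lib.ClUnitary Cfsg.Agent.Lib.HermMat Cfsg.Agent.Lib.SylU3
open Cfsg.Agent.Lib.SU3Gen (UJ mx mx_mul mx_one mx_inj mul_vec3 X Y T W mx_X mx_Y mx_T mx_W mul3 exists_X exists_upper
  X_congr X_mul X_one X_inv X_conj T_conj)
open Cfsg.Agent.Lib.IsoRk1 (U1 mem_U1 X_mem_U1 eq_X norm_U1 co_mul co_inv W_e1 X_e3 inv_vec bruhatU line_of_comm T_e1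
  card_U1 card_UJ)

/-! ### Fisher's inequality -/

/-- an intransitive subgroup of a 2-transitive group has index at least the degree -/
theorem fisher {G Ω : Type*} [Group G] [Finite G] [MulAction G Ω] [Finite Ω]
    (htr : ∀ x y : Ω, ∃ g : G, g • x = y)
    (h2 : ∀ x y x' y' : Ω, x ≠ y → x' ≠ y' → ∃ g : G, g • x = x' ∧ g • y = y')
    (H : Subgroup G) (x0 y0 : Ω) (h0 : ∀ h ∈ H, h • x0 ≠ y0) : Nat.card Ω ≤ H.index := by
  classical
  have : Fintype G := Fintype.ofFinite G
  have : Fintype Ω := Fintype.ofFinite Ω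
  have : Fintype (G ⧸ H) := Fintype.ofFinite _
  set O : Set Ω := {x | ∃ h ∈ H, h • x0 = x} with hO
  have hOH : ∀ h ∈ H, ∀ x, h • x ∈ O ↔ x ∈ O := by
    intro h hh x
    constructor
    · rintro ⟨k, hk, e⟩
      exact ⟨h⁻¹ * k, mul_mem (inv_mem hh) hk, by rw [mul_smul, e, inv_smul_smul]⟩
    · rintro ⟨k, hk, rfl⟩
      exact ⟨h * k, mul_mem hh hk, by rw [mul_smul]⟩
  have hx0 : x0 ∈ O := ⟨1, one_mem _, one_smul _ _⟩
  have hy0 : y0 ∉ O := by rintro ⟨h, hh, e⟩; exact h0 h hh e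
  let N : Ω → Ω → ℕ := fun x y => (Finset.univ.filter (fun g : G => g⁻¹ • x ∈ O ∧ g⁻¹ • y ∈ O)).card
  have hN : ∀ (k : G) (x y : Ω), N (k • x) (k • y) = N x y := by
    intro k x y
    apply Finset.card_bij (fun g _ => k⁻¹ * g)
    · intro g hg
      rw [Finset.mem_filter] at hg ⊢
      refine ⟨Finset.mem_univ _, ?_⟩
      rw [_root_.mul_inv_rev, inv_inv, mul_smul, mul_smul]
      exact hg.2
    · intro a _ b _ h
      exact mul_left_cancel h
    · intro g hg
      rw [Finset.mem_filter] at hg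
      refine ⟨k * g, ?_, by group⟩
      rw [Finset.mem_filter]
      refine ⟨Finset.mem_univ _, ?_⟩
      rw [_root_.mul_inv_rev, mul_smul, mul_smul, inv_smul_smul, inv_smul_smul]
      exact hg.2
  have hxy : x0 ≠ y0 := fun e => hy0 (e ▸ hx0)
  have hNd : ∀ x, N x x = N x0 x0 := by
    intro x
    obtain ⟨g, rfl⟩ := htr x0 x
    exact hN g x0 x0
  have hNo : ∀ x y, x ≠ y → N x y = N x0 y0 := by
    intro x y hxy'
    obtain ⟨g, rfl, rfl⟩ := h2 x0 y0 x y hxy hxy'
    exact hN g x0 y0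
  have hlt : N x0 y0 < N x0 x0 := by
    apply Finset.card_lt_card
    rw [Finset.ssubset_iff_subset_ne]
    constructor
    · intro g hg
      rw [Finset.mem_filter] at hg ⊢
      exact ⟨hg.1, hg.2.1, hg.2.1⟩
    · intro e
      have h1 : (1 : G) ∈ Finset.univ.filter (fun g : G => g⁻¹ • x0 ∈ O ∧ g⁻¹ • x0 ∈ O) := by
        rw [Finset.mem_filter, inv_one, one_smul]
        exact ⟨Finset.mem_univ _, hx0, hx0⟩
      rw [← e, Finset.mem_filter, inv_one, one_smul, one_smul] at h1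
      exact hy0 h1.2.2
  -- the linear map
  let φ : (Ω → ℚ) →ₗ[ℚ] (G ⧸ H → ℚ) :=
    { toFun := fun f c => ∑ x, if (c.out)⁻¹ • x ∈ O then f x else 0
      map_add' := by
        intro f f'
        funext c
        simp only [Pi.add_apply]
        rw [← Finset.sum_add_distrib]
        apply Finset.sum_congr rfl
        intro x _
        split_ifs <;> simp
      map_smul' := by
        intro r f
        funext c
        simp only [Pi.smul_apply, smul_eq_mul, RingHom.id_apply]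
        rw [Finset.mul_sum]
        apply Finset.sum_congr rfl
        intro x _
        split_ifs <;> simp }
  have hφ : ∀ f : Ω → ℚ, φ f = 0 → ∀ g : G, (∑ x, if g⁻¹ • x ∈ O then f x else 0) = 0 := by
    intro f hf g
    have h1 := congrFun hf (g : G ⧸ H)
    have h3 : ∃ h : H, ((g : G ⧸ H)).out = g * h := by
      obtain ⟨h, hh⟩ := QuotientGroup.mk_out_eq_mul H g
      exact ⟨h, hh⟩
    obtain ⟨h, hh⟩ := h3
    change (∑ x, if (((g : G ⧸ H)).out)⁻¹ • x ∈ O then f x else 0) = 0 at h1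
    refine Eq.trans ?_ h1
    apply Finset.sum_congr rfl
    intro x _
    have h4 : (((g : G ⧸ H)).out)⁻¹ • x ∈ O ↔ g⁻¹ • x ∈ O := by
      rw [hh, _root_.mul_inv_rev, mul_smul]
      exact hOH _ (inv_mem h.2) _
    simp only [h4]
  have hinj : Function.Injective φ := by
    rw [← LinearMap.ker_eq_bot, LinearMap.ker_eq_bot']
    intro f hf
    have h1 := hφ f hf
    have h3 : ∀ y, ((N x0 x0 : ℚ) - N x0 y0) * f y + N x0 y0 * ∑ x, f x = 0 := by
      intro y
      have h4 : (∑ g : G, if g⁻¹ • y ∈ O then (∑ x, if g⁻¹ • x ∈ O then f x else 0) else 0) = 0 := by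
        apply Finset.sum_eq_zero
        intro g _
        rw [h1 g]; simp
      have h5 : (∑ g : G, if g⁻¹ • y ∈ O then (∑ x, if g⁻¹ • x ∈ O then f x else 0) else 0) =
          ∑ x, f x * N x y := by
        have h6 : ∀ g : G, (if g⁻¹ • y ∈ O then (∑ x, if g⁻¹ • x ∈ O then f x else 0) else 0) =
            ∑ x, (if g⁻¹ • x ∈ O ∧ g⁻¹ • y ∈ O then f x else 0) := by
          intro g
          split_ifs with hy
          · apply Finset.sum_congr rfl
            intro x _
            simp [hy]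
          · symm
            apply Finset.sum_eq_zero
            intro x _
            simp [hy]
        simp only [h6]
        rw [Finset.sum_comm]
        apply Finset.sum_congr rfl
        intro x _
        rw [← Finset.sum_filter, Finset.sum_const, nsmul_eq_mul, mul_comm]
      rw [h5, ← Finset.add_sum_erase _ _ (Finset.mem_univ y)] at h4
      have h7 : ∑ x ∈ Finset.univ.erase y, f x * (N x y : ℚ) = ∑ x ∈ Finset.univ.erase y, f x * (N x0 y0 : ℚ) := by
        apply Finset.sum_congr rfl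
        intro x hx
        rw [hNo x y (Finset.ne_of_mem_erase hx)]
      rw [h7, hNd y, ← Finset.sum_mul] at h4
      have h8 : ∑ x, f x = f y + ∑ x ∈ Finset.univ.erase y, f x := (Finset.add_sum_erase _ _ (Finset.mem_univ y)).symm
      rw [h8]
      linear_combination h4
    have hpos : (0 : ℚ) < (N x0 x0 : ℚ) - N x0 y0 := by
      rw [sub_pos]; exact_mod_cast hlt
    have hconst : ∀ y, f y = f x0 := by
      intro y
      have h4 := h3 y
      have h5 := h3 x0
      have h6 : ((N x0 x0 : ℚ) - N x0 y0) * (f y - f x0) = 0 := by linear_combination h4 - h5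
      rcases mul_eq_zero.1 h6 with h | h
      · exact absurd h (ne_of_gt hpos)
      · linear_combination h
    have h4 := h1 1
    simp only [inv_one, one_smul, hconst] at h4
    rw [← Finset.sum_filter, Finset.sum_const, nsmul_eq_mul] at h4
    have h5 : (Finset.univ.filter (fun x : Ω => x ∈ O)).card ≠ 0 := by
      rw [Finset.card_ne_zero]
      exact ⟨x0, by rw [Finset.mem_filter]; exact ⟨Finset.mem_univ _, hx0⟩⟩
    have h6 : f x0 = 0 := by
      rcases mul_eq_zero.1 h4 with h | h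
      · exact absurd (by exact_mod_cast h) h5
      · exact h
    funext y
    rw [hconst y, h6]; rfl
  have h1 := LinearMap.finrank_le_finrank_of_injective hinj
  rw [Module.finrank_fintype_fun_eq_card, Module.finrank_fintype_fun_eq_card] at h1
  rw [Nat.card_eq_fintype_card, Subgroup.index, Nat.card_eq_fintype_card]
  exact h1

section fin

variable {F : Type*} [Field F] [Fintype F] {q : ℕ} (hF : Fintype.card F = q ^ 2)

theorem fr (x : F) : frob hF x = x ^ q := rfl

include hF in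
theorem card_units : Nat.card Fˣ = q ^ 2 - 1 := by
  classical
  rw [Nat.card_eq_fintype_card, Fintype.card_units, hF]

theorem Ax_U1 : Ax (frob_frob hF) (U1 (frob hF)) = ⊤ := by
  rw [eq_top_iff]
  intro a _
  obtain ⟨b, hb⟩ := exists_trace hF (c := -(a * a ^ q)) (by rw [neg_pow_q hF, mul_pow, pow_q_pow_q hF, mul_comm])
  have h : b + frob hF b + a * frob hF a = 0 := by
    change b + b ^ q + a * a ^ q = 0
    linear_combination hb
  exact ⟨b, h, X_mem_U1 (frob_frob hF) h⟩

theorem card_Zo : Nat.card (Zo (frob hF)) = q := by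
  have h1 := card_HU (frob_frob hF) (U1 (frob hF))
  rw [inf_idem, Ax_U1, card_U1 hF] at h1
  have h2 : U1 (frob hF) ⊓ Zo (frob hF) = Zo (frob hF) := inf_eq_right.2 (fun g hg => hg.1)
  rw [h2] at h1
  have h3 : Nat.card (⊤ : AddSubgroup F) = q ^ 2 := by
    rw [AddSubgroup.card_top, Nat.card_eq_fintype_card, hF]
  rw [h3] at h1
  have hq := two_le_q hF
  have h4 : q ^ 2 * Nat.card (Zo (frob hF)) = q ^ 2 * q := by rw [← h1]; ring
  exact Nat.eq_of_mul_eq_mul_left (by positivity) h4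

theorem Cx_top {K : Subgroup (UJ (frob hF))} (hK : ∀ (t : F) (ht : t ≠ 0), T (frob_frob hF) t ht ∈ K) : Cx K = ⊤ := by
  rw [eq_top_iff]
  intro s _
  exact mem_Cx.2 ⟨T (frob_frob hF) s s.ne_zero, hK _ _, T_mem_Bo _ _, by rw [mx_T]; simp⟩

theorem card_Bo : Nat.card (Bo (frob hF)) = q ^ 3 * (q ^ 2 - 1) := by
  have h1 := card_HB (Bo (frob hF))
  rw [inf_idem, Cx_top hF (fun t ht => T_mem_Bo _ ht), inf_eq_right.2 U1_le_Bo, card_U1 hF, Subgroup.card_top,
    card_units hF] at h1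
  rw [h1, mul_comm]

theorem card_BN : Nat.card (Ns (frob hF) ⊓ Bo (frob hF) : Subgroup (UJ (frob hF))) = q * (q ^ 2 - 1) := by
  have h1 := card_HB (Ns (frob hF))
  have h2 : Ns (frob hF) ⊓ U1 (frob hF) = Zo (frob hF) := by
    ext g
    constructor
    · intro hg
      exact U1_inf_Ns (frob_frob hF) (Subgroup.mem_inf.1 hg).2 (Subgroup.mem_inf.1 hg).1
    · intro hg
      exact Subgroup.mem_inf.2 ⟨Zo_le_Ns (frob_frob hF) hg, hg.1⟩
  rw [Cx_top hF (fun t ht => T_mem_Ns _ ht), h2, card_Zo hF, Subgroup.card_top, card_units hF] at h1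
  rw [h1, mul_comm]

/-- the vector of a big cell element -/
theorem cell_vec {σ : F →+* F} (hσ : ∀ x, σ (σ x) = x) {a b : F} (h : b + σ b + a * σ a = 0) {n : UJ σ} (hn : n ∈ Bo σ) :
    mx (X hσ a b h * W * n) *ᵥ ![1, 0, 0] = mx n 0 0 • ![b, -σ a, 1] := by
  have e1 : (![mx n 0 0, 0, 0] : Fin 3 → F) = mx n 0 0 • ![1, 0, 0] := by ext i; fin_cases i <;> simp
  rw [mx_mul, mx_mul, ← mulVec_mulVec, ← mulVec_mulVec, Bo_col hn, e1, mulVec_smul, mulVec_smul, W_e1, X_e3]

theorem card_Ns : Nat.card (Ns (frob hF)) = (q + 1) * Nat.card (Ns (frob hF) ⊓ Bo (frob hF) : Subgroup (UJ (frob hF))) := by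
  set σ := frob hF with hσd
  have hσ : ∀ x, σ (σ x) = x := frob_frob hF
  have hb0 : ∀ b : F, b + b ^ q = 0 → b + σ b + 0 * σ 0 = 0 := by
    intro b hb
    change b + b ^ q + 0 * σ 0 = 0
    rw [hb]; ring
  let f : Option {b : F // b + b ^ q = 0} × (Ns σ ⊓ Bo σ : Subgroup (UJ σ)) → Ns σ := fun p =>
    match p with
    | (none, n) => ⟨n.1, (Subgroup.mem_inf.1 n.2).1⟩
    | (some b, n) => ⟨X hσ 0 b.1 (hb0 b.1 b.2) * W * n.1, mul_mem (mul_mem (X0_mem_Ns hσ _) W_mem_Ns) (Subgroup.mem_inf.1 n.2).1⟩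
  have hf : Function.Bijective f := by
    constructor
    · rintro ⟨o, n⟩ ⟨o', n'⟩ h
      have hnB := (Subgroup.mem_inf.1 n.2).2
      have hnB' := (Subgroup.mem_inf.1 n'.2).2
      rcases o with _ | b <;> rcases o' with _ | b'
      · have h1 : n.1 = n'.1 := congrArg (fun z : Ns σ => (z : UJ σ)) h
        have h2 : n = n' := Subtype.ext h1
        rw [h2]
      · exfalso
        have h1 : n.1 = X hσ 0 b'.1 (hb0 b'.1 b'.2) * W * n'.1 := congrArg (fun z : Ns σ => (z : UJ σ)) h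
        have h2 := cell_vec hσ (hb0 b'.1 b'.2) hnB'
        rw [← h1, Bo_col hnB] at h2
        have h3 := congrFun h2 2
        simp at h3
        exact Bo_ne hnB' h3.symm
      · exfalso
        have h1 : X hσ 0 b.1 (hb0 b.1 b.2) * W * n.1 = n'.1 := congrArg (fun z : Ns σ => (z : UJ σ)) h
        have h2 := cell_vec hσ (hb0 b.1 b.2) hnB
        rw [h1, Bo_col hnB'] at h2
        have h3 := congrFun h2 2
        simp at h3
        exact Bo_ne hnB h3.symm
      · have h1 : X hσ 0 b.1 (hb0 b.1 b.2) * W * n.1 = X hσ 0 b'.1 (hb0 b'.1 b'.2) * W * n'.1 :=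
          congrArg (fun z : Ns σ => (z : UJ σ)) h
        have h2 := cell_vec hσ (hb0 b.1 b.2) hnB
        rw [h1, cell_vec hσ (hb0 b'.1 b'.2) hnB'] at h2
        have h3 := congrFun h2 2
        have h4 := congrFun h2 0
        simp at h3 h4
        rw [h3] at h4
        have h5 : b'.1 = b.1 := mul_left_cancel₀ (Bo_ne hnB) h4
        have h6 : b' = b := Subtype.ext h5
        subst h6
        have h7 : n = n' := Subtype.ext (mul_left_cancel h1)
        rw [h7]
    · rintro ⟨g, hg⟩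
      rcases bruhatN hσ hg with h | ⟨b, h, n, hn, hn', e⟩
      · exact ⟨(none, ⟨g, Subgroup.mem_inf.2 ⟨hg, h⟩⟩), rfl⟩
      · refine ⟨(some ⟨b, ?_⟩, ⟨n, Subgroup.mem_inf.2 ⟨hn', hn⟩⟩), ?_⟩
        · change b + b ^ q + 0 * σ 0 = 0 at h
          linear_combination h
        · exact Subtype.ext e.symm
  rw [← Nat.card_congr (Equiv.ofBijective f hf), Nat.card_prod, Finite.card_option,
    card_fiber hF 0 (by rw [zero_pow (by have := two_le_q hF; omega)])]

/-- transitive subgroups -/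
theorem Tr.card {H : Subgroup (UJ (frob hF))} (hH : Tr H) :
    Nat.card H = (q ^ 3 + 1) * Nat.card (H ⊓ Bo (frob hF) : Subgroup (UJ (frob hF))) := by
  have h1 := card_mul_of_prod (le_top : H ≤ ⊤) (le_top : Bo (frob hF) ≤ ⊤) (fun u _ => hH u)
  rw [Subgroup.card_top, card_UJ hF, card_Bo hF] at h1
  have hq := two_le_q hF
  have h2 : 0 < q ^ 3 * (q ^ 2 - 1) := by
    have : 1 < q ^ 2 := by nlinarith
    have : 0 < q ^ 2 - 1 := by omega
    positivity
  have h3 : (q ^ 3 * (q ^ 2 - 1)) * ((q ^ 3 + 1) * Nat.card (H ⊓ Bo (frob hF) : Subgroup (UJ (frob hF)))) =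
      (q ^ 3 * (q ^ 2 - 1)) * Nat.card H := by
    calc _ = q ^ 3 * ((q ^ 2 - 1) * (q ^ 3 + 1)) * Nat.card (H ⊓ Bo (frob hF) : Subgroup (UJ (frob hF))) := by ring
      _ = _ := by rw [h1]; ring
  exact (Nat.eq_of_mul_eq_mul_left h2 h3).symm

theorem index_Bo : (Bo (frob hF)).index = q ^ 3 + 1 := by
  have h1 := (Bo (frob hF)).card_mul_index
  rw [card_UJ hF, card_Bo hF] at h1
  have hq := two_le_q hF
  have h2 : 0 < q ^ 3 * (q ^ 2 - 1) := by
    have : 1 < q ^ 2 := by nlinarith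
    have : 0 < q ^ 2 - 1 := by omega
    positivity
  apply Nat.eq_of_mul_eq_mul_left h2
  rw [h1]; ring

/-- large subgroups are transitive -/
theorem tr_of_index {H : Subgroup (UJ (frob hF))} (hH : H.index ≤ q ^ 3) : Tr H := by
  have hσ : ∀ x, (frob hF) ((frob hF) x) = x := frob_frob hF
  by_contra hnt
  unfold Tr at hnt
  push Not at hnt
  obtain ⟨u, hu⟩ := hnt
  have hbig : ∀ g : UJ (frob hF), g ∉ Bo (frob hF) → ∃ b ∈ Bo (frob hF), ∃ b' ∈ Bo (frob hF), g = b * W * b' := by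
    intro g hg
    rcases bruhatU hσ g with h | ⟨v, hv, n, hn, e⟩
    · exact absurd h hg
    · exact ⟨v, U1_le_Bo hv, n, hn, e⟩
  have key : ∀ x : UJ (frob hF) ⧸ Bo (frob hF), x ≠ ((1 : UJ (frob hF)) : UJ (frob hF) ⧸ Bo (frob hF)) → ∃ b ∈ Bo (frob hF), b • ((W : UJ (frob hF)) : UJ (frob hF) ⧸ Bo (frob hF)) = x := by
    intro x hx
    induction x using QuotientGroup.induction_on with
    | H g =>
      have hg : g ∉ Bo (frob hF) := by
        intro h
        apply hx
        rw [QuotientGroup.eq]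
        rw [mul_one]; exact inv_mem h
      obtain ⟨b, hb, b', hb', e⟩ := hbig g hg
      refine ⟨b, hb, ?_⟩
      rw [MulAction.Quotient.smul_coe, smul_eq_mul, QuotientGroup.eq, e]
      have : (b * W)⁻¹ * (b * W * b') = b' := by group
      rw [this]; exact hb'
  have htr : ∀ x y : UJ (frob hF) ⧸ Bo (frob hF), ∃ g : UJ (frob hF), g • x = y := fun x y => MulAction.exists_smul_eq _ x y
  have h1 : ∀ b ∈ Bo (frob hF), b • ((1 : UJ (frob hF)) : UJ (frob hF) ⧸ Bo (frob hF)) = ((1 : UJ (frob hF)) : UJ (frob hF) ⧸ Bo (frob hF)) := by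
    intro b hb
    rw [MulAction.Quotient.smul_coe, smul_eq_mul, mul_one, QuotientGroup.eq, mul_one]
    exact inv_mem hb
  have h2 : ∀ x y x' y' : UJ (frob hF) ⧸ Bo (frob hF), x ≠ y → x' ≠ y' → ∃ g : UJ (frob hF), g • x = x' ∧ g • y = y' := by
    have h3 : ∀ x y : UJ (frob hF) ⧸ Bo (frob hF), x ≠ y → ∃ g : UJ (frob hF), g • ((1 : UJ (frob hF)) : UJ (frob hF) ⧸ Bo (frob hF)) = x ∧ g • ((W : UJ (frob hF)) : UJ (frob hF) ⧸ Bo (frob hF)) = y := by
      intro x y hxy
      obtain ⟨g, hg⟩ := htr ((1 : UJ (frob hF)) : UJ (frob hF) ⧸ Bo (frob hF)) x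
      have h4 : g⁻¹ • y ≠ ((1 : UJ (frob hF)) : UJ (frob hF) ⧸ Bo (frob hF)) := by
        intro e
        apply hxy
        rw [← hg, ← e, smul_inv_smul]
      obtain ⟨b, hb, e⟩ := key _ h4
      refine ⟨g * b, ?_, ?_⟩
      · rw [mul_smul, h1 b hb, hg]
      · rw [mul_smul, e, smul_inv_smul]
    intro x y x' y' hxy hxy'
    obtain ⟨g, hg1, hg2⟩ := h3 x y hxy
    obtain ⟨g', hg1', hg2'⟩ := h3 x' y' hxy'
    refine ⟨g' * g⁻¹, ?_, ?_⟩
    · rw [mul_smul, ← hg1, inv_smul_smul, hg1']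
    · rw [mul_smul, ← hg2, inv_smul_smul, hg2']
  have h3 := fisher htr h2 H ((1 : UJ (frob hF)) : UJ (frob hF) ⧸ Bo (frob hF)) ((u : UJ (frob hF)) : UJ (frob hF) ⧸ Bo (frob hF)) (by
    intro h hh e
    rw [MulAction.Quotient.smul_coe, smul_eq_mul, mul_one, QuotientGroup.eq] at e
    exact hu h hh _ e (by group))
  have h4 : Nat.card (UJ (frob hF) ⧸ Bo (frob hF)) = q ^ 3 + 1 := index_Bo hF
  rw [h4] at h3
  omega

end fin

end Cfsg.Agent.Lib.PU3
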