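import Mathlib

/-!
Packed arithmetic on natural numbers (lanes of `w` bits), for kernel computations.

* `P f w n = ∑ i < n, f i * 2 ^ (w * i)`
* `testBit_P`, `P_lt`, `P_inj`
* `lane_shift_and` : lane-wise shift and mask
* `extract` : extraction of one lane
-/

set_option autoImplicit false

namespace Cfsg.Agent.Lib.PackLane

open Finset

/-- pack `n` lanes of width `w` -/
def P (f : ℕ → ℕ) (w n : ℕ) : ℕ := ∑ i ∈ range n, f i * 2 ^ (w * i)

theorem P_zero (f : ℕ → ℕ) (w : ℕ) : P f w 0 = 0 := rfl

theorem P_succ (f : ℕ → ℕ) (w n : ℕ) : P f w (n + 1) = 2 ^ (w * n) * f n + P f w n := by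
  rw [P, sum_range_succ, add_comm, mul_comm]; rfl

theorem P_lt {f : ℕ → ℕ} {w n : ℕ} (hf : ∀ i < n, f i < 2 ^ w) : P f w n < 2 ^ (w * n) := by
  induction n with
  | zero => rw [P_zero]; positivity
  | succ n ih =>
    rw [P_succ]
    have h1 := ih (fun i hi => hf i (by omega))
    have h2 := hf n (by omega)
    calc 2 ^ (w * n) * f n + P f w n < 2 ^ (w * n) * f n + 2 ^ (w * n) := by omega
      _ = 2 ^ (w * n) * (f n + 1) := by ring
      _ ≤ 2 ^ (w * n) * 2 ^ w := Nat.mul_le_mul_left _ h2
      _ = 2 ^ (w * (n + 1)) := by rw [← pow_add]; ring_nf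

theorem testBit_P {f : ℕ → ℕ} {w n : ℕ} (hf : ∀ i < n, f i < 2 ^ w) (q t : ℕ) (ht : t < w) :
    (P f w n).testBit (w * q + t) = (decide (q < n) && (f q).testBit t) := by
  induction n with
  | zero => rw [P_zero, Nat.zero_testBit]; simp
  | succ n ih =>
    rw [P_succ, Nat.testBit_two_pow_mul_add _ (P_lt (fun i hi => hf i (by omega)))]
    rcases lt_trichotomy q n with h | h | h
    · have h1 : w * q + t < w * n := by
        calc w * q + t < w * q + w := by omega
          _ = w * (q + 1) := by ring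
          _ ≤ w * n := Nat.mul_le_mul_left _ h
      rw [if_pos h1, ih (fun i hi => hf i (by omega))]
      have h2 : q < n + 1 := by omega
      simp [h, h2]
    · subst h
      rw [if_neg (by omega), Nat.add_sub_cancel_left]
      simp
    · have h1 : w * n + w ≤ w * q := by
        calc w * n + w = w * (n + 1) := by ring
          _ ≤ w * q := Nat.mul_le_mul_left _ h
      rw [if_neg (by omega)]
      have h2 : (f n).testBit (w * q + t - w * n) = false := by
        apply Nat.testBit_lt_two_pow
        exact lt_of_lt_of_le (hf n (by omega)) (Nat.pow_le_pow_right (by norm_num) (by omega))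
      rw [h2]
      have h3 : ¬ q < n + 1 := by omega
      simp [h3]

theorem testBit_div_mod {w : ℕ} (hw : 0 < w) (a b : ℕ)
    (h : ∀ q t, t < w → a.testBit (w * q + t) = b.testBit (w * q + t)) : a = b := by
  apply Nat.eq_of_testBit_eq
  intro j
  have := h (j / w) (j % w) (Nat.mod_lt _ hw)
  rwa [Nat.div_add_mod] at this

/-- lane-wise shift and mask -/
theorem lane_shift_and {f : ℕ → ℕ} {w n s m : ℕ} (hw : 0 < w) (hf : ∀ i < n, f i < 2 ^ w) (hs : s ≤ w)
    (hm : m < 2 ^ (w - s)) :
    (P f w n >>> s) &&& P (fun _ => m) w n = P (fun i => (f i >>> s) &&& m) w n := by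
  have hm' : m < 2 ^ w := lt_of_lt_of_le hm (Nat.pow_le_pow_right (by norm_num) (by omega))
  apply testBit_div_mod hw
  intro q t ht
  rw [Nat.testBit_and, Nat.testBit_shiftRight, testBit_P (fun _ _ => hm') q t ht,
    testBit_P (f := fun i => (f i >>> s) &&& m)
      (fun i hi => lt_of_le_of_lt Nat.and_le_right hm') q t ht]
  rw [Nat.testBit_and, Nat.testBit_shiftRight]
  by_cases h : t < w - s
  · rw [show s + (w * q + t) = w * q + (s + t) by ring, testBit_P hf q (s + t) (by omega)]
    cases decide (q < n) <;> simp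
  · have h1 : m.testBit t = false :=
      Nat.testBit_lt_two_pow (lt_of_lt_of_le hm (Nat.pow_le_pow_right (by norm_num) (by omega)))
    rw [h1]
    simp

/-- extraction of a lane -/
theorem extract {f : ℕ → ℕ} {w n : ℕ} (hw : 0 < w) (hf : ∀ i < n, f i < 2 ^ w) {k : ℕ} (hk : k < n) :
    (P f w n >>> (w * k)) &&& (2 ^ w - 1) = f k := by
  apply testBit_div_mod hw
  intro q t ht
  rw [Nat.testBit_and, Nat.testBit_shiftRight, Nat.testBit_two_pow_sub_one]
  by_cases h : q = 0
  · subst h
    rw [show w * k + (w * 0 + t) = w * k + t by ring, testBit_P hf k t ht]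
    simp [hk, ht]
  · have h1 : w ≤ w * q + t := by
      have : w * 1 ≤ w * q := Nat.mul_le_mul_left _ (Nat.one_le_iff_ne_zero.2 h)
      omega
    have h2 : (f k).testBit (w * q + t) = false :=
      Nat.testBit_lt_two_pow (lt_of_lt_of_le (hf k hk) (Nat.pow_le_pow_right (by norm_num) h1))
    have h3 : ¬ (w * q + t < w) := by omega
    rw [h2]
    simp [h3]

theorem P_congr {f g : ℕ → ℕ} {w n : ℕ} (h : ∀ i < n, f i = g i) : P f w n = P g w n := by
  rw [P, P]
  apply sum_congr rfl
  intro i hi
  rw [h i (mem_range.1 hi)]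

theorem P_inj {f g : ℕ → ℕ} {w n : ℕ} (hw : 0 < w) (hf : ∀ i < n, f i < 2 ^ w) (hg : ∀ i < n, g i < 2 ^ w)
    (h : P f w n = P g w n) : ∀ i < n, f i = g i := by
  intro i hi
  rw [← extract hw hf hi, ← extract hw hg hi, h]

theorem P_mul (f : ℕ → ℕ) (w n c : ℕ) : P f w n * c = P (fun i => f i * c) w n := by
  rw [P, P, sum_mul]
  apply sum_congr rfl
  intro i _
  ring

theorem P_add (f g : ℕ → ℕ) (w n : ℕ) : P f w n + P g w n = P (fun i => f i + g i) w n := by
  rw [P, P, P, ← sum_add_distrib]
  apply sum_congr rfl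
  intro i _
  ring

/-- product of packed numbers with different strides -/
theorem P_mul_P (f g : ℕ → ℕ) (w v n m : ℕ) :
    P f w n * P g v m = P (fun i => P (fun j => f i * g j) v m) w n := by
  simp only [P, sum_mul, mul_sum]
  rw [sum_comm]
  apply sum_congr rfl
  intro i _
  apply sum_congr rfl
  intro j _
  ring

theorem P_sum {K : ℕ} (f : ℕ → ℕ → ℕ) (w n : ℕ) :
    ∑ k ∈ range K, P (f k) w n = P (fun i => ∑ k ∈ range K, f k i) w n := by
  simp only [P, sum_mul]
  rw [sum_comm]

/-- two-level packing -/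
theorem P_flat (f : ℕ → ℕ) (w n m : ℕ) :
    P f w (n * m) = P (fun i => P (fun j => f (m * i + j)) w m) (w * m) n := by
  induction n with
  | zero => rw [Nat.zero_mul, P_zero, P_zero]
  | succ n ih =>
    rw [P_succ, ← ih]
    have h : ∀ k, P f w (n * m + k) = 2 ^ (w * m * n) * P (fun j => f (m * n + j)) w k + P f w (n * m) := by
      intro k
      induction k with
      | zero => rw [P_zero]; simp
      | succ k ihk =>
        rw [← Nat.add_assoc, P_succ, ihk, P_succ]
        have e1 : n * m + k = m * n + k := by ring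
        have e2 : 2 ^ (w * (n * m + k)) = 2 ^ (w * m * n) * 2 ^ (w * k) := by rw [← pow_add]; ring_nf
        rw [e2, e1]
        ring
    rw [Nat.succ_mul, h m]

/-- reduction of every lane by a multiply-shift -/
theorem lane_red {f : ℕ → ℕ} {w n p m s b : ℕ} (hw : 0 < w) (hs : s ≤ w) (hf : ∀ i < n, f i ≤ b)
    (hb : b * m < 2 ^ w) (hp : ∀ x ≤ b, ((x * m) >>> s) &&& (2 ^ (w - s) - 1) = x / p) :
    P f w n - p * (((P f w n * m) >>> s) &&& P (fun _ => 2 ^ (w - s) - 1) w n) = P (fun i => f i % p) w n := by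
  have h1 : ((P f w n * m) >>> s) &&& P (fun _ => 2 ^ (w - s) - 1) w n = P (fun i => f i / p) w n := by
    rw [P_mul, lane_shift_and hw (fun i hi => lt_of_le_of_lt (Nat.mul_le_mul_right m (hf i hi)) hb) hs
      (by have := Nat.two_pow_pos (w - s); omega)]
    exact P_congr fun i hi => hp _ (hf i hi)
  rw [h1, mul_comm, P_mul]
  have h2 : P f w n = P (fun i => f i % p) w n + P (fun i => f i / p * p) w n := by
    rw [P_add]
    apply P_congr
    intro i _
    rw [add_comm, mul_comm]
    exact (Nat.div_add_mod (f i) p).symm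
  omega

end Cfsg.Agent.Lib.PackLane
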