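import Cfsg.Agent.Lib.PackMat

/-!
Fast check that a number is the packed form of a matrix over `ZMod p` (seven operations), see `rep_dec_of_okS`.
-/

set_option autoImplicit false

namespace Cfsg.Agent.Lib.PackMat

open Finset Cfsg.Agent.Lib.PackLane

theorem P_lanes {c w m : ℕ} (hw : 0 < w) (h : c < 2 ^ (w * m)) :
    c = P (fun l => (c >>> (w * l)) &&& (2 ^ w - 1)) w m := by
  have hlt : ∀ l, (c >>> (w * l)) &&& (2 ^ w - 1) < 2 ^ w := by
    intro l
    have := Nat.two_pow_pos w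
    exact lt_of_le_of_lt Nat.and_le_right (by omega)
  apply testBit_div_mod hw
  intro q t ht
  rw [testBit_P (fun l _ => hlt l) q t ht, Nat.testBit_and, Nat.testBit_shiftRight, Nat.testBit_two_pow_sub_one]
  by_cases hq : q < m
  · simp [hq, ht]
  · have h1 : c.testBit (w * q + t) = false := by
      apply Nat.testBit_lt_two_pow
      apply lt_of_lt_of_le h
      apply Nat.pow_le_pow_right (by norm_num)
      have : w * m ≤ w * q := Nat.mul_le_mul_left _ (by omega)
      omega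
    rw [h1]
    simp [hq]

/-- `top = 2 ^ (w * m)`, `M` the mask of the high parts of the lanes, `A` the constant `2 ^ kb - p` in each lane -/
def okS (kb top M A c : ℕ) : Bool :=
  cond (Nat.blt c top) (cond (Nat.beq (Nat.land (Nat.shiftRight c kb) M) 0)
    (Nat.beq (Nat.land (Nat.shiftRight (Nat.add c A) kb) M) 0) false) false

theorem lanes_lt_of_okS {w m p kb top M A c : ℕ} (hw : kb + 1 ≤ w) (hp : p ≤ 2 ^ kb) (hp0 : 0 < p)
    (htop : top = 2 ^ (w * m)) (hM : M = P (fun _ => 2 ^ (w - kb) - 1) w m) (hA : A = P (fun _ => 2 ^ kb - p) w m)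
    (h : okS kb top M A c = true) : c < 2 ^ (w * m) ∧ ∀ l < m, (c >>> (w * l)) &&& (2 ^ w - 1) < p := by
  unfold okS at h
  have hc : ∀ a b : Bool, cond a b false = true → a = true ∧ b = true := by
    intro a b; cases a <;> simp
  obtain ⟨h1, h2⟩ := hc _ _ h
  obtain ⟨h2, h3⟩ := hc _ _ h2
  have h1' : c < 2 ^ (w * m) := by rw [← htop]; exact Nat.le_of_ble_eq_true h1
  refine ⟨h1', ?_⟩
  have hw0 : 0 < w := by omega
  have hlt : ∀ l, (c >>> (w * l)) &&& (2 ^ w - 1) < 2 ^ w := by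
    intro l
    have := Nat.two_pow_pos w
    exact lt_of_le_of_lt Nat.and_le_right (by omega)
  have e1 := P_lanes hw0 h1'
  have hm : 2 ^ (w - kb) - 1 < 2 ^ (w - kb) := by have := Nat.two_pow_pos (w - kb); omega
  -- general: a zero high part
  have key : ∀ g : ℕ → ℕ, (∀ i < m, g i < 2 ^ w) → (P g w m >>> kb) &&& M = 0 → ∀ l < m, g l < 2 ^ kb := by
    intro g hg h4 l hl
    rw [hM, lane_shift_and hw0 hg (by omega) hm] at h4
    have h5 : P (fun i => (g i >>> kb) &&& (2 ^ (w - kb) - 1)) w m = P (fun _ => 0) w m := by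
      rw [h4]
      simp [P]
    have hle : 2 ^ (w - kb) ≤ 2 ^ w := Nat.pow_le_pow_right (by norm_num) (by omega)
    have h6 := P_inj hw0 (fun i _ => lt_of_lt_of_le (lt_of_le_of_lt Nat.and_le_right hm) hle)
      (fun i _ => Nat.two_pow_pos w) h5 l hl
    have h7 : g l >>> kb < 2 ^ (w - kb) := by
      rw [Nat.shiftRight_eq_div_pow]
      apply Nat.div_lt_of_lt_mul
      rw [← pow_add]
      have : kb + (w - kb) = w := by omega
      rw [this]
      exact hg l hl
    rw [Nat.and_two_pow_sub_one_eq_mod, Nat.mod_eq_of_lt h7, Nat.shiftRight_eq_div_pow] at h6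
    exact (Nat.div_eq_zero_iff_lt (Nat.two_pow_pos kb)).1 h6
  have k1 : ∀ l < m, (c >>> (w * l)) &&& (2 ^ w - 1) < 2 ^ kb := by
    apply key _ (fun l _ => hlt l)
    rw [← e1]
    exact Nat.eq_of_beq_eq_true h2
  have hkw : 2 ^ kb + 2 ^ kb ≤ 2 ^ w := by
    calc 2 ^ kb + 2 ^ kb = 2 ^ (kb + 1) := by ring
      _ ≤ 2 ^ w := Nat.pow_le_pow_right (by norm_num) hw
  have k2 : ∀ l < m, ((c >>> (w * l)) &&& (2 ^ w - 1)) + (2 ^ kb - p) < 2 ^ kb := by
    apply key (fun l => ((c >>> (w * l)) &&& (2 ^ w - 1)) + (2 ^ kb - p))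
    · intro l hl
      have := k1 l hl
      show _ + _ < _
      omega
    · rw [← P_add, ← e1, ← hA]
      exact Nat.eq_of_beq_eq_true h3
  intro l hl
  have := k2 l hl
  omega

theorem rep_dec_of_okS {n p w kb top M A c : ℕ} [NeZero p] (hw : kb + 1 ≤ w) (hp : p ≤ 2 ^ kb)
    (htop : top = 2 ^ (w * (n * n))) (hM : M = P (fun _ => 2 ^ (w - kb) - 1) w (n * n))
    (hA : A = P (fun _ => 2 ^ kb - p) w (n * n))
    (h : okS kb top M A c = true) : rep w (dec n p w c) = c := by
  have hp0 : 0 < p := Nat.pos_of_ne_zero (NeZero.ne p)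
  obtain ⟨h1, h2⟩ := lanes_lt_of_okS hw hp hp0 htop hM hA h
  conv_rhs => rw [P_lanes (by omega) h1]
  rw [rep]
  apply P_congr
  intro l hl
  have hn : 0 < n := by
    rcases Nat.eq_zero_or_pos n with h | h
    · subst h; simp at hl
    · exact h
  have hi : l / n < n := Nat.div_lt_of_lt_mul hl
  have hj : l % n < n := Nat.mod_lt _ hn
  have h3 : ent (dec n p w c) (l / n) (l % n) = ((dec n p w c) ⟨l / n, hi⟩ ⟨l % n, hj⟩).val := by
    unfold ent
    rw [dif_pos ⟨hi, hj⟩]
  rw [h3, dec, Matrix.of_apply, ZMod.val_natCast]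
  have h4 : w * (n * (l / n) + l % n) = w * l := by rw [Nat.div_add_mod]
  show ((c >>> (w * (n * (l / n) + l % n))) &&& (2 ^ w - 1)) % p = _
  rw [h4]
  exact Nat.mod_eq_of_lt (h2 l hl)

end Cfsg.Agent.Lib.PackMat
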