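import Cfsg.Agent.Lib.BlockColumn
import Cfsg.Agent.Lib.H76Char

/-!
Pairs of elements of order `p` and the principal block: basic identities.
-/

set_option autoImplicit false

namespace Cfsg.Agent.Lib.PairChar1

open Cfsg Cfsg.Agent.Lib.CharBasic Cfsg.Agent.Lib.BlockRing Cfsg.Agent.Lib.BlockIdem
  Cfsg.Agent.Lib.BlockThird
open scoped ComplexConjugate

universe u

variable {G : Type u} [Group G] {p : ℕ} {M : Ideal AlgInt}

/-- the centralizer of `u` has a normal `p`-complement of index `q` -/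
def CentComp (p q : ℕ) (u : G) : Prop :=
  ∃ N : Subgroup ↥(Subgroup.centralizer ({u} : Set G)), N.Normal ∧ ¬ p ∣ Nat.card N ∧ N.index = q

section basics
variable [Finite G]

/-- the principal block as a finset -/
noncomputable def PB (M : Ideal AlgInt) (G : Type u) [Group G] [Finite G] : Finset (IrrCharacter G) :=
  (Set.toFinite (principalBlock M G)).toFinset

theorem mem_PB {χ : IrrCharacter G} : χ ∈ PB M G ↔ χ ∈ principalBlock M G := by
  rw [PB, Set.Finite.mem_toFinset]

theorem mem_cent {u g : G} : g ∈ Subgroup.centralizer ({u} : Set G) ↔ Commute u g := by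
  rw [Subgroup.mem_centralizer_singleton_iff]
  exact ⟨fun h => h.symm, fun h => h.symm⟩

theorem conj_val (χ : IrrCharacter G) (g y : G) : (χ : G → ℂ) (g * y * g⁻¹) = (χ : G → ℂ) y :=
  χ.2.isClassFunction y g

open scoped Classical in
theorem col_sum (hM : IsPModular p M) {y y' : G} {k k' n : ℕ} (hy : orderOf y = p ^ k)
    (hy' : orderOf y' = p ^ k') (hc : CentComp p (p ^ n) y) :
    ∑ χ ∈ PB M G, (χ : G → ℂ) y * conj ((χ : G → ℂ) y') = if IsConj y y' then ((p ^ n : ℕ) : ℂ) else 0 := by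
  have h1r : ∀ {X : Type u} [Group X], ¬ p ∣ orderOf (1 : X) := by
    intro X _
    rw [orderOf_one, Nat.dvd_one]; exact hM.1.one_lt.ne'
  split_ifs with h
  · obtain ⟨N, hN, hNp, hNi⟩ := hc
    have h2 := BlockSection.principal_section_sum hM hy (H := Subgroup.centralizer ({y} : Set G))
      (fun g => mem_cent) (y := 1) (y' := 1) h1r h1r
    rw [BlockSection.sum_principal_of_normal_complement hM hNp hNi h1r h1r] at h2
    rw [finsum_mem_eq_finite_toFinset_sum _ (Set.toFinite _)] at h2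
    simp only [Subgroup.coe_one, mul_one] at h2
    push_cast
    rw [← h2]
    refine Finset.sum_congr rfl fun χ _ => ?_
    obtain ⟨g, hg⟩ := isConj_iff.1 h
    rw [← hg, conj_val χ]
  · have h2 := BlockOrth.block_orthogonality hM (B := principalBlock M G) (g := y) (h := y') (u := y) (v := y')
      isPBlock_principal ⟨1, by simp, Commute.one_right _, ⟨k, hy⟩, h1r⟩
      ⟨1, by simp, Commute.one_right _, ⟨k', hy'⟩, h1r⟩ h
    rw [finsum_mem_eq_finite_toFinset_sum _ (Set.toFinite _)] at h2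
    rw [← h2]
    refine Finset.sum_congr rfl fun χ _ => ?_
    rw [χ.2.inv]

theorem sum_regular (hM : IsPModular p M) {y g : G} {k : ℕ} (hy : orderOf y = p ^ k) (hy1 : y ≠ 1)
    (hg : ¬ p ∣ orderOf g) : ∑ χ ∈ PB M G, (χ : G → ℂ) y * (χ : G → ℂ) g = 0 := by
  have h1r : ∀ {X : Type u} [Group X], ¬ p ∣ orderOf (1 : X) := by
    intro X _
    rw [orderOf_one, Nat.dvd_one]; exact hM.1.one_lt.ne'
  have h2 := BlockOrth.block_orthogonality hM (B := principalBlock M G) (g := y) (h := g⁻¹) (u := y) (v := 1)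
      isPBlock_principal ⟨1, by simp, Commute.one_right _, ⟨k, hy⟩, h1r⟩
      ⟨g⁻¹, by simp, Commute.one_left _, ⟨0, by simp⟩, by rwa [orderOf_inv]⟩ (by
        rw [isConj_one_left]; exact hy1)
  rw [finsum_mem_eq_finite_toFinset_sum _ (Set.toFinite _), inv_inv] at h2
  exact h2

theorem val_eq (hM : IsPModular p M) {u v : G} {k n : ℕ} (hu : orderOf u = p ^ k) (huv : Commute u v)
    (hv : ¬ p ∣ orderOf v) (hc : CentComp p (p ^ n) u) {χ : IrrCharacter G} (hχ : χ ∈ PB M G) :
    (χ : G → ℂ) (u * v) = (χ : G → ℂ) u := by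
  obtain ⟨N, hN, hNp, hNi⟩ := hc
  have hv' : (⟨v, mem_cent.2 huv⟩ : ↥(Subgroup.centralizer ({u} : Set G))) ∈ N := by
    refine BlockCore.mem_of_regular hM.1 hNi ?_
    rwa [Subgroup.orderOf_mk]
  exact BlockSection.eq_of_mem_core hM hu (H := Subgroup.centralizer ({u} : Set G)) (fun g => mem_cent)
    hNp hv' (mem_PB.1 hχ)

end basics

/-! ### powers of an element of order `p` -/

section powers
variable [Finite G]

theorem orderOf_pow_of_mem (hp : p.Prime) {x : G} (hx : orderOf x = p) {j : ℕ} (hj : j ∈ Finset.Ico 1 p) :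
    orderOf (x ^ j) = p := by
  rw [Finset.mem_Ico] at hj
  rw [orderOf_pow' x (by omega), hx]
  have : Nat.gcd p j = 1 := by
    rw [← Nat.coprime_iff_gcd_eq_one, Nat.Prime.coprime_iff_not_dvd hp]
    exact Nat.not_dvd_of_pos_of_lt (by omega) hj.2
  rw [this, Nat.div_one]

/-- inverses mod `p` inside `[1, p)` -/
theorem exists_inv (hp : p.Prime) {l : ℕ} (hl : l ∈ Finset.Ico 1 p) : ∃ l' ∈ Finset.Ico 1 p, l * l' % p = 1 := by
  rw [Finset.mem_Ico] at hl
  have hc : Nat.Coprime l p := by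
    rw [Nat.coprime_comm, Nat.Prime.coprime_iff_not_dvd hp]
    exact Nat.not_dvd_of_pos_of_lt (by omega) hl.2
  obtain ⟨m, hm, hm'⟩ := Nat.exists_mul_mod_eq_one_of_coprime hc hp.one_lt
  refine ⟨m, ?_, hm'⟩
  rw [Finset.mem_Ico]
  refine ⟨?_, hm⟩
  rcases Nat.eq_zero_or_pos m with rfl | h
  · rw [mul_zero, Nat.zero_mod] at hm'; omega
  · exact h

theorem mul_mod_mem (hp : p.Prime) {i l : ℕ} (hi : i ∈ Finset.Ico 1 p) (hl : l ∈ Finset.Ico 1 p) :
    i * l % p ∈ Finset.Ico 1 p := by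
  rw [Finset.mem_Ico] at *
  refine ⟨?_, Nat.mod_lt _ hp.pos⟩
  rcases Nat.eq_zero_or_pos (i * l % p) with h | h
  · have := Nat.dvd_of_mod_eq_zero h
    rcases hp.dvd_mul.1 this with h' | h'
    · exact absurd h' (Nat.not_dvd_of_pos_of_lt (by omega) hi.2)
    · exact absurd h' (Nat.not_dvd_of_pos_of_lt (by omega) hl.2)
  · exact h

open scoped Classical in
/-- number of exponents `j` with `x^j` conjugate to `x` -/
noncomputable def en (p : ℕ) (x : G) : ℕ := ((Finset.Ico 1 p).filter (fun j => IsConj x (x ^ j))).card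

open scoped Classical in
theorem isConj_pow {x y : G} (h : IsConj x y) (n : ℕ) : IsConj (x ^ n) (y ^ n) := by
  obtain ⟨g, hg⟩ := isConj_iff.1 h
  exact isConj_iff.2 ⟨g, by rw [← hg, conj_pow]⟩

open scoped Classical in
theorem en_eq (hp : p.Prime) {x : G} (hx : orderOf x = p) {l : ℕ} (hl : l ∈ Finset.Ico 1 p) :
    ((Finset.Ico 1 p).filter (fun i => IsConj (x ^ i) (x ^ l))).card = en p x := by
  obtain ⟨l', hl', hll⟩ := exists_inv hp hl
  have hll' : l' * l % p = 1 := by rw [mul_comm]; exact hll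
  have hpw : ∀ j, x ^ (j % p) = x ^ j := fun j => by rw [← hx, pow_mod_orderOf]
  rw [en]
  refine Finset.card_nbij' (fun i => i * l' % p) (fun j => j * l % p) ?_ ?_ ?_ ?_
  · intro i hi
    simp only [Finset.coe_filter, Set.mem_ofPred_eq] at hi ⊢
    refine ⟨mul_mod_mem hp hi.1 hl', ?_⟩
    have h1 := isConj_pow hi.2 l'
    rw [← pow_mul, ← pow_mul, ← hpw (l * l'), hll, pow_one] at h1
    rw [hpw]
    exact h1.symm
  · intro j hj
    simp only [Finset.coe_filter, Set.mem_ofPred_eq] at hj ⊢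
    refine ⟨mul_mod_mem hp hj.1 hl, ?_⟩
    have h1 := isConj_pow hj.2 l
    rw [hpw, pow_mul]
    exact h1.symm
  · intro i hi
    simp only [Finset.coe_filter, Set.mem_ofPred_eq, Finset.mem_Ico] at hi
    have h1 : i * l' % p * l % p = i := by
      rw [Nat.mod_mul_mod, mul_assoc, Nat.mul_mod, hll', mul_one, Nat.mod_mod, Nat.mod_eq_of_lt hi.1.2]
    exact h1
  · intro j hj
    simp only [Finset.coe_filter, Set.mem_ofPred_eq, Finset.mem_Ico] at hj
    have h1 : j * l % p * l' % p = j := by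
      rw [Nat.mod_mul_mod, mul_assoc, Nat.mul_mod, hll, mul_one, Nat.mod_mod, Nat.mod_eq_of_lt hj.1.2]
    exact h1

end powers

end Cfsg.Agent.Lib.PairChar1
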