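import Cfsg.Agent.Lib.PairChar1
import Cfsg.Agent.Lib.ClsStab
import Cfsg.Agent.Lib.CFSylow

/-!
Pairs of elements of order `p` and the principal block: the basic inequality.
-/

set_option autoImplicit false

namespace Cfsg.Agent.Lib.PairChar2

open Cfsg Cfsg.Agent.Lib.CharBasic Cfsg.Agent.Lib.BlockRing Cfsg.Agent.Lib.BlockIdem
  Cfsg.Agent.Lib.BlockThird Cfsg.Agent.Lib.PairChar1
open scoped ComplexConjugate

universe u

variable {G : Type u} [Group G] [Finite G] {p n : ℕ} {M : Ideal AlgInt}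

/-- sum of the values at the nontrivial powers of `x` -/
noncomputable def TT (p : ℕ) (x : G) (χ : IrrCharacter G) : ℂ := ∑ j ∈ Finset.Ico 1 p, (χ : G → ℂ) (x ^ j)

theorem conj_TT (hp : p.Prime) {x : G} (hx : orderOf x = p) (χ : IrrCharacter G) : conj (TT p x χ) = TT p x χ := by
  rw [TT, map_sum]
  refine Finset.sum_nbij' (fun j => p - j) (fun j => p - j) ?_ ?_ ?_ ?_ ?_
  · intro j hj; rw [Finset.mem_Ico] at *; omega
  · intro j hj; rw [Finset.mem_Ico] at *; omega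
  · intro j hj; rw [Finset.mem_Ico] at hj; show p - (p - j) = j; omega
  · intro j hj; rw [Finset.mem_Ico] at hj; show p - (p - j) = j; omega
  · intro j hj
    rw [Finset.mem_Ico] at hj
    rw [← χ.2.inv]
    have : (x ^ j)⁻¹ = x ^ (p - j) := by
      rw [inv_eq_iff_mul_eq_one, ← pow_add, Nat.add_sub_cancel' hj.2.le, ← hx, pow_orderOf_eq_one]
    rw [this]

theorem sum_inv_TT (hp : p.Prime) {x : G} (hx : orderOf x = p) (χ : IrrCharacter G) :
    ∑ j ∈ Finset.Ico 1 p, (χ : G → ℂ) (x ^ j)⁻¹ = TT p x χ := by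
  rw [← conj_TT hp hx, TT, map_sum]
  exact Finset.sum_congr rfl fun j _ => χ.2.inv _

theorem delta_reg (hM : IsPModular p M) {x : G} (hx : orderOf x = p) {g : G} (hg : ¬ p ∣ orderOf g) :
    ∑ χ ∈ PB M G, TT p x χ * (χ : G → ℂ) g = 0 := by
  simp only [TT, Finset.sum_mul]
  rw [Finset.sum_comm]
  refine Finset.sum_eq_zero fun j hj => ?_
  have h1 := orderOf_pow_of_mem hM.1 hx hj
  refine sum_regular hM (k := 1) (by rw [h1, pow_one]) ?_ hg
  intro h
  rw [h, orderOf_one] at h1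
  exact hM.1.ne_one h1.symm

theorem delta_sing (hM : IsPModular p M) {x : G} (hx : orderOf x = p)
    (hC : ∀ u : G, orderOf u = p → CentComp p (p ^ n) u)
    (hone : ∀ u : G, orderOf u = p → ∃ l ∈ Finset.Ico 1 p, IsConj u (x ^ l))
    {u v : G} (huv : Commute u v) (hu : orderOf u = p) (hv : ¬ p ∣ orderOf v) :
    ∑ χ ∈ PB M G, TT p x χ * (χ : G → ℂ) (u * v) = ((p ^ n * en p x : ℕ) : ℂ) := by
  classical
  have hu' : orderOf u = p ^ 1 := by rw [hu, pow_one]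
  have h1 : ∀ χ ∈ PB M G, TT p x χ * (χ : G → ℂ) (u * v) =
      ∑ j ∈ Finset.Ico 1 p, (χ : G → ℂ) (x ^ j) * conj ((χ : G → ℂ) u⁻¹) := by
    intro χ hχ
    rw [val_eq hM hu' huv hv (hC u hu) hχ, TT, Finset.sum_mul]
    refine Finset.sum_congr rfl fun j _ => ?_
    rw [← χ.2.inv, inv_inv]
  rw [Finset.sum_congr rfl h1, Finset.sum_comm]
  have hui : orderOf u⁻¹ = p := by rw [orderOf_inv, hu]
  obtain ⟨l, hl, hul⟩ := hone _ hui
  have h2 : ∀ j ∈ Finset.Ico 1 p, ∑ χ ∈ PB M G, (χ : G → ℂ) (x ^ j) * conj ((χ : G → ℂ) u⁻¹) =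
      if IsConj (x ^ j) (x ^ l) then ((p ^ n : ℕ) : ℂ) else 0 := by
    intro j hj
    have hxj := orderOf_pow_of_mem hM.1 hx hj
    rw [col_sum hM (k := 1) (k' := 1) (by rw [hxj, pow_one]) (by rw [hui, pow_one]) (hC _ hxj)]
    refine if_congr ⟨fun h => h.trans hul, fun h => h.trans hul.symm⟩ rfl rfl
  rw [Finset.sum_congr rfl h2, Finset.sum_ite, Finset.sum_const_zero, add_zero, Finset.sum_const,
    en_eq hM.1 hx hl, nsmul_eq_mul]
  push_cast; ring

/-- the full double sum -/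
theorem main_sum [Fintype G] (hM : IsPModular p M) {x : G} (hx : orderOf x = p) :
    ∑ j ∈ Finset.Ico 1 p, ∑ k ∈ Finset.Ico 1 p, ∑ h : G, ∑ χ ∈ PB M G,
      TT p x χ * (χ : G → ℂ) ((x ^ j)⁻¹ * (h * x ^ k * h⁻¹)) =
      (Nat.card G : ℂ) * ∑ χ ∈ PB M G, TT p x χ ^ 3 / (χ : G → ℂ) 1 := by
  have h1 : ∀ j ∈ Finset.Ico 1 p, ∀ k ∈ Finset.Ico 1 p, ∑ h : G, ∑ χ ∈ PB M G,
      TT p x χ * (χ : G → ℂ) ((x ^ j)⁻¹ * (h * x ^ k * h⁻¹)) =
      ∑ χ ∈ PB M G, TT p x χ * ((Nat.card G : ℂ) * (χ : G → ℂ) (x ^ j)⁻¹ * (χ : G → ℂ) (x ^ k) / (χ : G → ℂ) 1) := by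
    intro j _ k _
    rw [Finset.sum_comm]
    refine Finset.sum_congr rfl fun χ _ => ?_
    rw [← Finset.mul_sum, ← BlockOsima.sum_conj_eq_omega χ.2]
    simp only [mul_assoc]
  rw [Finset.sum_congr rfl fun j hj => Finset.sum_congr rfl fun k hk => h1 j hj k hk]
  rw [Finset.sum_congr rfl fun j hj => Finset.sum_comm, Finset.sum_comm, Finset.mul_sum]
  refine Finset.sum_congr rfl fun χ _ => ?_
  have h2 : ∀ j ∈ Finset.Ico 1 p, ∑ k ∈ Finset.Ico 1 p,
      TT p x χ * ((Nat.card G : ℂ) * (χ : G → ℂ) (x ^ j)⁻¹ * (χ : G → ℂ) (x ^ k) / (χ : G → ℂ) 1) =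
      (Nat.card G : ℂ) * TT p x χ * TT p x χ / (χ : G → ℂ) 1 * (χ : G → ℂ) (x ^ j)⁻¹ := by
    intro j _
    have : ∀ k, TT p x χ * ((Nat.card G : ℂ) * (χ : G → ℂ) (x ^ j)⁻¹ * (χ : G → ℂ) (x ^ k) / (χ : G → ℂ) 1) =
        ((Nat.card G : ℂ) * TT p x χ / (χ : G → ℂ) 1 * (χ : G → ℂ) (x ^ j)⁻¹) * (χ : G → ℂ) (x ^ k) := by
      intro k; ring
    simp only [this]
    rw [← Finset.mul_sum, ← TT]
    ring
  rw [Finset.sum_congr rfl h2, ← Finset.mul_sum, sum_inv_TT hM.1 hx]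
  ring

/-- the `p`-solvable pair condition at `x`, in the form used here -/
def PairCond (p : ℕ) (x : G) : Prop :=
  ∀ h : G, ∃ K : Subgroup G, (Nat.card K).Coprime p ∧
    ∀ w ∈ Subgroup.closure ({x, h * x * h⁻¹} : Set G), w ^ p ∈ K

theorem pow_eq_of_mem (hp : p.Prime) {y : G} (hy : orderOf y = p) {K : Subgroup G} (hK : (Nat.card K).Coprime p)
    {k k' : ℕ} (hk : k ∈ Finset.Ico 1 p) (hk' : k' ∈ Finset.Ico 1 p) (h : (y ^ k)⁻¹ * y ^ k' ∈ K) : k = k' := by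
  rw [Finset.mem_Ico] at hk hk'
  have h1 : ((y ^ k)⁻¹ * y ^ k') ^ Nat.card K = 1 := by
    have := pow_card_eq_one' (G := K) (x := ⟨_, h⟩)
    exact congrArg Subtype.val this
  have h2 : (y ^ k)⁻¹ * y ^ k' = y ^ ((k' : ℤ) - k) := by
    rw [zpow_sub, zpow_natCast, zpow_natCast]
    exact ((Commute.refl y).pow_pow k k').inv_left.eq
  rw [h2, ← zpow_natCast, ← zpow_mul, ← orderOf_dvd_iff_zpow_eq_one, hy] at h1
  have h3 : (p : ℤ) ∣ (k' : ℤ) - k := by
    refine IsCoprime.dvd_of_dvd_mul_right ?_ h1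
    rw [Nat.isCoprime_iff_coprime]
    exact hK.symm
  obtain ⟨c, hc⟩ := h3
  have h4 : c = 0 := by
    by_contra hne
    have : (p : ℤ) ≤ |(p : ℤ) * c| := by
      rw [abs_mul, abs_of_nonneg (by positivity : (0 : ℤ) ≤ (p : ℤ))]
      nlinarith [Int.one_le_abs hne, hp.pos]
    rw [← hc] at this
    have h5 : |(k' : ℤ) - k| < p := by
      rw [abs_lt]; constructor <;> omega
    omega
  rw [h4, mul_zero] at hc
  omega

theorem mem_of_regular_pow (hp : p.Prime) {K : Subgroup G} {g : G} (hg : ¬ p ∣ orderOf g) (h : g ^ p ∈ K) : g ∈ K := by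
  refine Cfsg.Agent.Lib.ClsStab.mem_of_pow_coprime (m := orderOf g) (n := p) ?_ (by rw [pow_orderOf_eq_one]; exact one_mem _) h
  exact ((Nat.Prime.coprime_iff_not_dvd hp).2 hg).symm

open scoped Classical in
/-- the main inequality -/
theorem main_ineq [Fintype G] (hM : IsPModular p M) {x : G} (hx : orderOf x = p)
    (hC : ∀ u : G, orderOf u = p → CentComp p (p ^ n) u)
    (hone : ∀ u : G, orderOf u = p → ∃ l ∈ Finset.Ico 1 p, IsConj u (x ^ l)) (hpair : PairCond p x) :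
    ((p : ℝ) - 1) * ((p : ℝ) - 2) * ((p ^ n * en p x : ℕ) : ℝ) ≤
      ∑ χ ∈ PB M G, (TT p x χ).re ^ 3 / charDegree (χ : G → ℂ) := by
  have hp := hM.1
  have hp2 := hp.two_le
  -- values of the inner sum
  have hval : ∀ (h : G) (j k : ℕ), j ∈ Finset.Ico 1 p → k ∈ Finset.Ico 1 p →
      ∑ χ ∈ PB M G, TT p x χ * (χ : G → ℂ) ((x ^ j)⁻¹ * (h * x ^ k * h⁻¹)) =
      if p ∣ orderOf ((x ^ j)⁻¹ * (h * x ^ k * h⁻¹)) then ((p ^ n * en p x : ℕ) : ℂ) else 0 := by
    intro h j k hj hk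
    split_ifs with hd
    · obtain ⟨K, hKp, hK⟩ := hpair h
      set g := (x ^ j)⁻¹ * (h * x ^ k * h⁻¹) with hg
      have hgH : g ∈ Subgroup.closure ({x, h * x * h⁻¹} : Set G) := by
        have h1 : x ∈ Subgroup.closure ({x, h * x * h⁻¹} : Set G) := Subgroup.subset_closure (by simp)
        have h2 : h * x * h⁻¹ ∈ Subgroup.closure ({x, h * x * h⁻¹} : Set G) := Subgroup.subset_closure (by simp)
        rw [hg, ← conj_pow]
        exact mul_mem (inv_mem (pow_mem h1 j)) (pow_mem h2 k)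
      have hgp := hK g hgH
      have hord : orderOf g ∣ p * Nat.card K := by
        apply orderOf_dvd_of_pow_eq_one
        rw [pow_mul]
        have := pow_card_eq_one' (G := K) (x := ⟨_, hgp⟩)
        exact congrArg Subtype.val this
      obtain ⟨u, s, hus, hcomm, hu, hs, -, -⟩ := BlockOsima.exists_p_decomp hp (g := g) (orderOf_pos g).ne'
      have hfac : (orderOf g).factorization p = 1 := by
        have h1 : 1 ≤ (orderOf g).factorization p :=
          (hp.dvd_iff_one_le_factorization (orderOf_pos g).ne').1 hd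
        have h2 : (orderOf g).factorization p ≤ (p * Nat.card K).factorization p :=
          (Nat.factorization_le_iff_dvd (orderOf_pos g).ne' (mul_ne_zero hp.ne_zero Nat.card_pos.ne')).2 hord p
        rw [Nat.factorization_mul hp.ne_zero Nat.card_pos.ne', Finsupp.add_apply, hp.factorization_self,
          Nat.factorization_eq_zero_of_not_dvd ((Nat.Prime.coprime_iff_not_dvd hp).1 hKp.symm)] at h2
        omega
      rw [hfac, pow_one] at hu
      rw [← hus]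
      exact delta_sing hM hx hC hone hcomm hu hs
    · exact delta_reg hM hx hd
  have hmain := main_sum (M := M) hM hx
  rw [Finset.sum_congr rfl fun j hj => Finset.sum_congr rfl fun k hk => Finset.sum_congr rfl fun h _ =>
    hval h j k hj hk] at hmain
  -- count
  have hcount : ∀ (h : G), ∀ j ∈ Finset.Ico 1 p,
      ((p : ℝ) - 2) * ((p ^ n * en p x : ℕ) : ℝ) ≤
      ∑ k ∈ Finset.Ico 1 p, (if p ∣ orderOf ((x ^ j)⁻¹ * (h * x ^ k * h⁻¹)) then ((p ^ n * en p x : ℕ) : ℝ) else 0) := by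
    intro h j hj
    obtain ⟨K, hKp, hK⟩ := hpair h
    have h1 : ((Finset.Ico 1 p).filter (fun k => ¬ p ∣ orderOf ((x ^ j)⁻¹ * (h * x ^ k * h⁻¹)))).card ≤ 1 := by
      rw [Finset.card_le_one]
      intro k hk k' hk'
      rw [Finset.mem_filter] at hk hk'
      have hmem : ∀ k, ¬ p ∣ orderOf ((x ^ j)⁻¹ * (h * x ^ k * h⁻¹)) → (x ^ j)⁻¹ * (h * x ^ k * h⁻¹) ∈ K := by
        intro k hk
        refine mem_of_regular_pow hp hk (hK _ ?_)
        have h1 : x ∈ Subgroup.closure ({x, h * x * h⁻¹} : Set G) := Subgroup.subset_closure (by simp)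
        have h2 : h * x * h⁻¹ ∈ Subgroup.closure ({x, h * x * h⁻¹} : Set G) := Subgroup.subset_closure (by simp)
        rw [← conj_pow]
        exact mul_mem (inv_mem (pow_mem h1 j)) (pow_mem h2 k)
      have h2 := mul_mem (inv_mem (hmem k hk.2)) (hmem k' hk'.2)
      have h3 : ((x ^ j)⁻¹ * (h * x ^ k * h⁻¹))⁻¹ * ((x ^ j)⁻¹ * (h * x ^ k' * h⁻¹)) =
          ((h * x * h⁻¹) ^ k)⁻¹ * (h * x * h⁻¹) ^ k' := by
        rw [conj_pow, conj_pow]; group
      rw [h3] at h2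
      exact pow_eq_of_mem hp (y := h * x * h⁻¹) (by rw [BlockThird.orderOf_conj]; exact hx) hKp hk.1 hk'.1 h2
    have h2 := Finset.card_filter_add_card_filter_not (s := Finset.Ico 1 p)
      (fun k => p ∣ orderOf ((x ^ j)⁻¹ * (h * x ^ k * h⁻¹)))
    rw [Nat.card_Ico] at h2
    rw [Finset.sum_ite, Finset.sum_const_zero, add_zero, Finset.sum_const, nsmul_eq_mul]
    have h3 : (p : ℝ) - 2 ≤ (((Finset.Ico 1 p).filter (fun k => p ∣ orderOf ((x ^ j)⁻¹ * (h * x ^ k * h⁻¹)))).card : ℝ) := by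
      have h4 : p ≤ ((Finset.Ico 1 p).filter (fun k => p ∣ orderOf ((x ^ j)⁻¹ * (h * x ^ k * h⁻¹)))).card + 2 := by omega
      have h5 : (p : ℝ) ≤ (((Finset.Ico 1 p).filter (fun k => p ∣ orderOf ((x ^ j)⁻¹ * (h * x ^ k * h⁻¹)))).card : ℝ) + 2 := by
        exact_mod_cast h4
      linarith
    exact mul_le_mul_of_nonneg_right h3 (by positivity)
  -- real parts
  have hre := congrArg Complex.re hmain
  have hL : (∑ j ∈ Finset.Ico 1 p, ∑ k ∈ Finset.Ico 1 p, ∑ h : G,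
      (if p ∣ orderOf ((x ^ j)⁻¹ * (h * x ^ k * h⁻¹)) then ((p ^ n * en p x : ℕ) : ℂ) else 0)).re =
      ∑ h : G, ∑ j ∈ Finset.Ico 1 p, ∑ k ∈ Finset.Ico 1 p,
      (if p ∣ orderOf ((x ^ j)⁻¹ * (h * x ^ k * h⁻¹)) then ((p ^ n * en p x : ℕ) : ℝ) else 0) := by
    rw [Finset.sum_congr rfl fun j hj => Finset.sum_comm, Finset.sum_comm, Complex.re_sum]
    refine Finset.sum_congr rfl fun h _ => ?_
    rw [Complex.re_sum]
    refine Finset.sum_congr rfl fun j _ => ?_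
    rw [Complex.re_sum]
    refine Finset.sum_congr rfl fun k _ => ?_
    split_ifs
    · exact Complex.natCast_re _
    · rfl
  have hR : ((Nat.card G : ℂ) * ∑ χ ∈ PB M G, TT p x χ ^ 3 / (χ : G → ℂ) 1).re =
      (Nat.card G : ℝ) * ∑ χ ∈ PB M G, (TT p x χ).re ^ 3 / charDegree (χ : G → ℂ) := by
    have h1 : ∀ χ ∈ PB M G, TT p x χ ^ 3 / (χ : G → ℂ) 1 =
        (((TT p x χ).re ^ 3 / charDegree (χ : G → ℂ) : ℝ) : ℂ) := by
      intro χ _
      have h2 : TT p x χ = ((TT p x χ).re : ℂ) := (Complex.conj_eq_iff_re.1 (conj_TT hp hx χ)).symm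
      rw [← BlockDeg.charDegree_cast_irr χ]
      conv_lhs => rw [h2]
      push_cast; rfl
    rw [Finset.sum_congr rfl h1, ← Complex.ofReal_sum, ← Complex.ofReal_natCast, ← Complex.ofReal_mul,
      Complex.ofReal_re]
  rw [hL, hR] at hre
  have hG : (0 : ℝ) < Nat.card G := by exact_mod_cast Nat.card_pos
  have hlow : (Nat.card G : ℝ) * (((p : ℝ) - 1) * ((p : ℝ) - 2) * ((p ^ n * en p x : ℕ) : ℝ)) ≤
      ∑ h : G, ∑ j ∈ Finset.Ico 1 p, ∑ k ∈ Finset.Ico 1 p,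
      (if p ∣ orderOf ((x ^ j)⁻¹ * (h * x ^ k * h⁻¹)) then ((p ^ n * en p x : ℕ) : ℝ) else 0) := by
    have h1 : ∀ h ∈ (Finset.univ : Finset G), ((p : ℝ) - 1) * ((p : ℝ) - 2) * ((p ^ n * en p x : ℕ) : ℝ) ≤
        ∑ j ∈ Finset.Ico 1 p, ∑ k ∈ Finset.Ico 1 p,
      (if p ∣ orderOf ((x ^ j)⁻¹ * (h * x ^ k * h⁻¹)) then ((p ^ n * en p x : ℕ) : ℝ) else 0) := by
      intro h _
      have h2 := Finset.card_nsmul_le_sum (Finset.Ico 1 p) _ _ (hcount h)
      rw [Nat.card_Ico, nsmul_eq_mul, Nat.cast_sub (by omega), Nat.cast_one, ← mul_assoc] at h2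
      exact h2
    have h3 := Finset.card_nsmul_le_sum Finset.univ _ _ h1
    rwa [Finset.card_univ, ← Nat.card_eq_fintype_card, nsmul_eq_mul] at h3
  rw [hre] at hlow
  exact le_of_mul_le_mul_left hlow hG

end Cfsg.Agent.Lib.PairChar2
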