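import Cfsg.Agent.Lib.PairChar2
import Cfsg.Agent.Lib.H32PSolv
import Cfsg.Agent.Lib.Cores
import Cfsg.Agent.Lib.H76Ker
import Cfsg.Agent.Lib.H55WeakFinal

/-!
Pairs of elements of order `p` and the principal block: abelian Sylow subgroups and the square sums.
-/

set_option autoImplicit false

namespace Cfsg.Agent.Lib.PairChar3

open Cfsg Cfsg.Agent.Lib.CharBasic Cfsg.Agent.Lib.BlockRing Cfsg.Agent.Lib.BlockIdem
  Cfsg.Agent.Lib.BlockThird Cfsg.Agent.Lib.PairChar1 Cfsg.Agent.Lib.PairChar2 Subgroup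
open scoped ComplexConjugate

universe u

/-- all `p`-subgroups are commutative -/
def AbSyl (p : ℕ) (G : Type u) [Group G] : Prop :=
  ∀ Q : Subgroup G, IsPGroup p Q → ∀ a ∈ Q, ∀ b ∈ Q, a * b = b * a

variable {G : Type u} [Group G] {p n : ℕ}

theorem exists_conj_sylow [Finite G] [Fact p.Prime] (P : Sylow p G) {Q : Subgroup G} (hQ : IsPGroup p Q) :
    ∃ g : G, ∀ c ∈ Q, g⁻¹ * c * g ∈ (P : Subgroup G) := by
  obtain ⟨R, hR⟩ := hQ.exists_le_sylow
  obtain ⟨g, hg⟩ := MulAction.exists_smul_eq G P R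
  refine ⟨g, fun c hc => ?_⟩
  have h1 : c ∈ (R : Subgroup G) := hR hc
  rw [← hg, Sylow.coe_subgroup_smul, Subgroup.mem_pointwise_smul_iff_inv_smul_mem] at h1
  simpa [MulAut.smul_def] using h1

theorem abSyl_of_sylow [Finite G] [Fact p.Prime] (P : Sylow p G)
    (hP : ∀ a ∈ (P : Subgroup G), ∀ b ∈ (P : Subgroup G), a * b = b * a) : AbSyl p G := by
  intro Q hQ a ha b hb
  obtain ⟨g, hm⟩ := exists_conj_sylow P hQ
  have h2 := hP _ (hm a ha) _ (hm b hb)
  have h3 : g⁻¹ * (a * b) * g = g⁻¹ * (b * a) * g := by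
    calc g⁻¹ * (a * b) * g = g⁻¹ * a * g * (g⁻¹ * b * g) := by group
      _ = g⁻¹ * b * g * (g⁻¹ * a * g) := h2
      _ = _ := by group
  exact mul_left_cancel (mul_right_cancel h3)

theorem AbSyl.subgroup (h : AbSyl p G) (H : Subgroup G) : AbSyl p H := by
  intro Q hQ a ha b hb
  have h1 := h (Q.map H.subtype) (hQ.map _) a ⟨a, ha, rfl⟩ b ⟨b, hb, rfl⟩
  exact Subtype.ext h1

theorem AbSyl.map [Finite G] [Fact p.Prime] {K : Type u} [Group K] (h : AbSyl p G) (f : G →* K)
    (hf : Function.Surjective f) : AbSyl p K := by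
  haveI : Finite K := Finite.of_surjective f hf
  intro Q hQ a ha b hb
  obtain ⟨R, hR⟩ := hQ.exists_le_sylow
  obtain ⟨S, rfl⟩ := Sylow.mapSurjective_surjective hf p R
  rw [Sylow.coe_mapSurjective] at hR
  obtain ⟨a', ha', rfl⟩ := hR ha
  obtain ⟨b', hb', rfl⟩ := hR hb
  rw [← map_mul, h S S.isPGroup' a' ha' b' hb', map_mul]

/-- in a `p`-solvable group with abelian Sylow `p`-subgroups generated by elements of exponent `p`, every
`p`-th power lies in `O_{p'}` -/
theorem pow_mem_core [Finite G] [hp : Fact p.Prime] (hS : IsPSolvable p G) (hab : AbSyl p G) {s : Set G}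
    (hs : closure s = ⊤) (hsp : ∀ a ∈ s, a ^ p = 1) (w : G) : w ^ p ∈ pPrimeCore p G := by
  set N := pPrimeCore p G with hN
  haveI hNn : N.Normal := by rw [hN]; infer_instance
  have hbot : pPrimeCore p (G ⧸ N) = ⊥ := Cores.pPrimeCore_quotient_pPrimeCore p G
  have hSQ : IsPSolvable p (G ⧸ N) := H32PSolv.isPSolvable_quotient hS N
  have habQ : AbSyl p (G ⧸ N) := hab.map (QuotientGroup.mk' N) (QuotientGroup.mk'_surjective N)
  have hC := H32PSolv.centralizer_pCore_le hSQ hbot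
  have hmem : ∀ a ∈ s, (QuotientGroup.mk' N a) ∈ pCore p (G ⧸ N) := by
    intro a ha
    have h1 : IsPGroup p (zpowers (QuotientGroup.mk' N a)) := by
      rw [IsPGroup.iff_card]
      have h2 : (QuotientGroup.mk' N a) ^ p = 1 := by rw [← map_pow, hsp a ha, map_one]
      have h3 := orderOf_dvd_of_pow_eq_one h2
      rw [Nat.card_zpowers]
      obtain ⟨k, -, hk⟩ := (Nat.dvd_prime_pow hp.out).1 (h3.trans (dvd_of_eq (pow_one p).symm))
      exact ⟨k, hk⟩
    obtain ⟨R, hR⟩ := h1.exists_le_sylow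
    apply hC
    rw [mem_centralizer_iff]
    intro b hb
    exact habQ R R.isPGroup' b (Cores.pCore_le_sylow R hb) _ (hR (mem_zpowers _))
  have htop : pCore p (G ⧸ N) = ⊤ := by
    rw [eq_top_iff]
    have h1 : (⊤ : Subgroup (G ⧸ N)) = (⊤ : Subgroup G).map (QuotientGroup.mk' N) := by
      rw [← MonoidHom.range_eq_map, MonoidHom.range_eq_top.2 (QuotientGroup.mk'_surjective N)]
    rw [h1, ← hs, MonoidHom.map_closure, closure_le]
    rintro _ ⟨a, ha, rfl⟩
    exact hmem a ha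
  have hP : IsPGroup p (⊤ : Subgroup (G ⧸ N)) := by rw [← htop]; exact Cores.isPGroup_pCore p _
  have hcomm := habQ ⊤ hP
  have hall : ∀ z ∈ closure s, (QuotientGroup.mk' N z) ^ p = 1 := by
    intro z hz
    induction hz using closure_induction with
    | mem a ha => rw [← map_pow, hsp a ha, map_one]
    | one => rw [map_one, one_pow]
    | mul a b _ _ ha hb =>
      have h1 : Commute (QuotientGroup.mk' N a) (QuotientGroup.mk' N b) := hcomm _ trivial _ trivial
      rw [map_mul, h1.mul_pow, ha, hb, one_mul]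
    | inv a _ ha => rw [map_inv, inv_pow, ha, inv_one]
  have h1 := hall w (by rw [hs]; trivial)
  rw [← map_pow] at h1
  exact (QuotientGroup.eq_one_iff _).1 h1

theorem pairCond_of [Finite G] [hp : Fact p.Prime] (hab : AbSyl p G) {x : G} (hx : orderOf x = p)
    (hc : ∀ x y : G, orderOf x = p → orderOf y = p → IsPSolvable p ↥(closure ({x, y} : Set G))) :
    PairCond p x := by
  intro h
  set H := closure ({x, h * x * h⁻¹} : Set G) with hH
  have hS : IsPSolvable p H := hc x (h * x * h⁻¹) hx (by rw [BlockThird.orderOf_conj, hx])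
  refine ⟨(pPrimeCore p H).map H.subtype, ?_, ?_⟩
  · rw [Cores.card_map_subtype]; exact Cores.coprime_card_pPrimeCore p H
  · intro w hw
    have hgen : closure ((↑) ⁻¹' ({x, h * x * h⁻¹} : Set G) : Set H) = ⊤ := by
      rw [hH]; exact closure_closure_coe_preimage
    have h1 := pow_mem_core hS (hab.subgroup H) hgen (by
      rintro ⟨a, ha⟩ ha'
      rcases ha' with h1 | h1
      · have h1' : a = x := h1
        apply Subtype.ext
        show a ^ p = 1
        rw [h1', ← hx, pow_orderOf_eq_one]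
      · have h1' : a = h * x * h⁻¹ := h1
        apply Subtype.ext
        show a ^ p = 1
        rw [h1', conj_pow, ← hx, pow_orderOf_eq_one, mul_one, mul_inv_cancel]) ⟨w, hw⟩
    exact ⟨_, h1, rfl⟩

/-- centralizers in a group with a full Sylow subgroup inside -/
theorem centComp_of [Finite G] [hp : Fact p.Prime] (P : Sylow p G) (hn : Nat.card (P : Subgroup G) = p ^ n)
    (hab : AbSyl p G) {u : G} (hu : orderOf u = p)
    (h : HasNormalPComplement p ↥(centralizer ({u} : Set G))) : CentComp p (p ^ n) u := by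
  obtain ⟨Q, N, hN, hNQ⟩ := h
  have h1 := hNQ.symm.index_eq_card
  have hQ : Nat.card (Q : Subgroup ↥(centralizer ({u} : Set G))) = p ^ n := by
    have huP : IsPGroup p (zpowers u) := IsPGroup.of_card (n := 1) (by rw [Nat.card_zpowers, hu, pow_one])
    obtain ⟨R, hR⟩ := huP.exists_le_sylow
    have hRC : (R : Subgroup G) ≤ centralizer ({u} : Set G) := by
      intro r hr
      rw [mem_centralizer_singleton_iff]
      exact hab R R.isPGroup' r hr u (hR (mem_zpowers u))
    have hcP : Nat.card (P : Subgroup G) = p ^ (Nat.card G).factorization p := P.card_eq_multiplicity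
    have hcR : Nat.card (R : Subgroup G) = p ^ n := by rw [← hn, hcP]; exact R.card_eq_multiplicity
    rw [Q.card_eq_multiplicity]
    congr 1
    have h2 : (Nat.card G).factorization p = n := Nat.pow_right_injective hp.out.two_le (hcP.symm.trans hn)
    apply le_antisymm
    · rw [← h2]
      exact (Nat.factorization_le_iff_dvd Nat.card_pos.ne' Nat.card_pos.ne').2 (card_subgroup_dvd_card _) p
    · rw [← hp.out.pow_dvd_iff_le_factorization Nat.card_pos.ne', ← hcR]
      exact card_dvd_of_le hRC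
  refine ⟨N, hN, ?_, ?_⟩
  · intro hd
    rw [← hNQ.index_eq_card] at hd
    exact Q.not_dvd_index hd
  · rw [h1]; exact hQ

/-! ### square sums -/

theorem TT_real (hp : p.Prime) [Finite G] {x : G} (hx : orderOf x = p) (χ : IrrCharacter G) :
    TT p x χ = ((TT p x χ).re : ℂ) := (Complex.conj_eq_iff_re.1 (conj_TT hp hx χ)).symm

theorem TT_triv (hp : p.Prime) [Finite G] (x : G) : (TT p x (triv G)).re = (p : ℝ) - 1 := by
  have h1 : TT p x (triv G) = ((p - 1 : ℕ) : ℂ) := by
    rw [TT]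
    simp only [coe_triv, Finset.sum_const, Nat.card_Ico, nsmul_eq_mul, mul_one]
  rw [h1, Complex.natCast_re, Nat.cast_sub hp.one_le, Nat.cast_one]

variable {M : Ideal AlgInt}

theorem sum_TT_sq [Finite G] (hM : IsPModular p M) {x : G} (hx : orderOf x = p)
    (hC : ∀ u : G, orderOf u = p → CentComp p (p ^ n) u) :
    ∑ χ ∈ PB M G, (TT p x χ).re ^ 2 = ((p : ℝ) - 1) * ((p ^ n * en p x : ℕ) : ℝ) := by
  classical
  have hp := hM.1
  have h1 : ∀ χ ∈ PB M G, (((TT p x χ).re ^ 2 : ℝ) : ℂ) =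
      ∑ k ∈ Finset.Ico 1 p, ∑ j ∈ Finset.Ico 1 p, (χ : G → ℂ) (x ^ j) * conj ((χ : G → ℂ) (x ^ k)) := by
    intro χ _
    push_cast
    rw [← TT_real hp hx χ, sq]
    nth_rewrite 2 [← conj_TT hp hx χ]
    rw [TT, map_sum, Finset.sum_mul_sum, Finset.sum_comm]
  have h2 : ((∑ χ ∈ PB M G, (TT p x χ).re ^ 2 : ℝ) : ℂ) = (((p - 1 : ℕ) * (p ^ n * en p x : ℕ) : ℕ) : ℂ) := by
    push_cast [-Complex.ofReal_pow]
    rw [Finset.sum_congr rfl h1, Finset.sum_comm]
    have h3 : ∀ k ∈ Finset.Ico 1 p, ∑ χ ∈ PB M G, ∑ j ∈ Finset.Ico 1 p,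
        (χ : G → ℂ) (x ^ j) * conj ((χ : G → ℂ) (x ^ k)) = ((p ^ n * en p x : ℕ) : ℂ) := by
      intro k hk
      rw [Finset.sum_comm]
      have h4 : ∀ j ∈ Finset.Ico 1 p, ∑ χ ∈ PB M G, (χ : G → ℂ) (x ^ j) * conj ((χ : G → ℂ) (x ^ k)) =
          if IsConj (x ^ j) (x ^ k) then ((p ^ n : ℕ) : ℂ) else 0 := by
        intro j hj
        have hxj := orderOf_pow_of_mem hM.1 hx hj
        have hxk := orderOf_pow_of_mem hM.1 hx hk
        rw [col_sum hM (k := 1) (k' := 1) (by rw [hxj, pow_one]) (by rw [hxk, pow_one]) (hC _ hxj)]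
      rw [Finset.sum_congr rfl h4, Finset.sum_ite, Finset.sum_const_zero, add_zero, Finset.sum_const,
        en_eq hM.1 hx hk, nsmul_eq_mul]
      push_cast; ring
    rw [Finset.sum_congr rfl h3, Finset.sum_const, Nat.card_Ico, nsmul_eq_mul]
    push_cast; ring
  have h5 : (∑ χ ∈ PB M G, (TT p x χ).re ^ 2 : ℝ) = (((p - 1 : ℕ) * (p ^ n * en p x : ℕ) : ℕ) : ℝ) := by
    exact_mod_cast h2
  rw [h5, Nat.cast_mul, Nat.cast_sub hp.one_le, Nat.cast_one]

theorem sum_TT_deg [Finite G] (hM : IsPModular p M) {x : G} (hx : orderOf x = p) :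
    ∑ χ ∈ PB M G, (TT p x χ).re * charDegree (χ : G → ℂ) = 0 := by
  have h1 := delta_reg hM hx (g := (1 : G)) (by rw [orderOf_one, Nat.dvd_one]; exact hM.1.one_lt.ne')
  have h2 : ((∑ χ ∈ PB M G, (TT p x χ).re * charDegree (χ : G → ℂ) : ℝ) : ℂ) = 0 := by
    rw [← h1]
    push_cast
    refine Finset.sum_congr rfl fun χ _ => ?_
    rw [BlockDeg.charDegree_cast_irr, ← TT_real hM.1 hx χ]
  exact_mod_cast h2

theorem sum_zpowers [Finite G] {x : G} (hp : p.Prime) (hx : orderOf x = p) (f : G → ℂ)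
    [Fintype ↥(zpowers x)] : ∑ g : ↥(zpowers x), f g = f 1 + ∑ j ∈ Finset.Ico 1 p, f (x ^ j) := by
  classical
  have h1 : ∑ g : ↥(zpowers x), f g = ∑ j : Fin (orderOf x), f (x ^ (j : ℕ)) := by
    symm
    refine Fintype.sum_equiv (finEquivZPowers (isOfFinOrder_of_finite x)) _ _ fun j => ?_
    rw [finEquivZPowers_apply]
  rw [h1, Fin.sum_univ_eq_sum_range (fun j => f (x ^ j)) (orderOf x), hx, Finset.range_eq_Ico,
    Finset.sum_eq_sum_Ico_succ_bot hp.pos, pow_zero]

theorem exists_mult [Finite G] {x : G} (hp : p.Prime) (hx : orderOf x = p) {χ : G → ℂ} (hχ : IsCharacter G χ) :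
    ∃ α : ℕ, (p : ℂ) * α = χ 1 + ∑ j ∈ Finset.Ico 1 p, χ (x ^ j) := by
  classical
  haveI := Fintype.ofFinite ↥(zpowers x)
  obtain ⟨α, hα⟩ := (hχ.restrict (zpowers x)).classInner_nat (isCharacter_one (G := ↥(zpowers x)))
  refine ⟨α, ?_⟩
  rw [← hα, classInner_def]
  have h1 : (p : ℂ) ≠ 0 := by exact_mod_cast hp.ne_zero
  simp only [Pi.one_apply, map_one, mul_one]
  rw [Nat.card_zpowers, hx, mul_inv_cancel_left₀ h1]
  exact sum_zpowers hp hx χ

end Cfsg.Agent.Lib.PairChar3
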