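import Cfsg.Agent.Lib.PairChar3

/-!
Pairs of elements of order `p` and the principal block: the one class case.
-/

set_option autoImplicit false

namespace Cfsg.Agent.Lib.PairChar4

open Cfsg Cfsg.Agent.Lib.CharBasic Cfsg.Agent.Lib.BlockRing Cfsg.Agent.Lib.BlockIdem
  Cfsg.Agent.Lib.BlockThird Cfsg.Agent.Lib.PairChar1 Cfsg.Agent.Lib.PairChar2
  Cfsg.Agent.Lib.PairChar3 Subgroup
open scoped ComplexConjugate

universe u

theorem num1951 {ι : Type*} (S : Finset ι) (c : ι → ℤ) (d : ι → ℕ) {p q : ℕ} (hp : 3 ≤ p) (hpq : p ≤ q)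
    (hp3 : p = 3 → q = 3 ∨ 9 ≤ q) (hp5 : p = 3 ∨ 5 ≤ p) (h2 : ∑ i ∈ S, (c i : ℝ) ^ 2 = q - 1)
    (h3 : ((p : ℝ) - 2) * q - ((p : ℝ) - 1) ≤ ((p : ℝ) - 1) * ∑ i ∈ S, (c i : ℝ) ^ 3 / d i)
    (h1 : ∑ i ∈ S, (c i : ℝ) * d i = -1) (hd : ∀ i ∈ S, 0 < c i → c i + q ≤ d i) : False := by
  classical
  have hpR : (3 : ℝ) ≤ p := by exact_mod_cast hp
  have hqR : (p : ℝ) ≤ q := by exact_mod_cast hpq
  have hsq : ∀ i ∈ S, (c i : ℝ) ^ 2 ≤ q - 1 := by
    intro i hi
    rw [← h2]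
    exact Finset.single_le_sum (f := fun i => (c i : ℝ) ^ 2) (fun j _ => sq_nonneg _) hi
  have key : ∀ r : ℝ, (0 ≤ r) → (∀ i ∈ S, 0 < c i → (c i : ℝ) ≤ r * d i) →
      ∀ i ∈ S, (c i : ℝ) ^ 3 / d i ≤ if 0 < c i then r * (c i : ℝ) ^ 2 else 0 := by
    intro r hr hri i hi
    split_ifs with hc
    · have h4 := hri i hi hc
      have h5 := hd i hi hc
      have h6 : (0 : ℝ) < d i := by
        have : (0 : ℤ) < d i := by omega
        exact_mod_cast this
      rw [div_le_iff₀ h6]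
      have h7 : (0 : ℝ) < c i := by exact_mod_cast hc
      nlinarith [mul_le_mul_of_nonneg_left h4 (sq_nonneg (c i : ℝ))]
    · apply div_nonpos_of_nonpos_of_nonneg _ (Nat.cast_nonneg _)
      have h7 : (c i : ℝ) ≤ 0 := by exact_mod_cast not_lt.1 hc
      have : (c i : ℝ) ^ 3 = (c i : ℝ) ^ 2 * c i := by ring
      rw [this]
      exact mul_nonpos_of_nonneg_of_nonpos (sq_nonneg _) h7
  rcases hp5 with hp5 | hp5
  · subst hp5
    have hr : ∀ i ∈ S, 0 < c i → (c i : ℝ) ≤ (1 / 4) * d i := by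
      intro i hi hc
      have h4 := hd i hi hc
      have h5 : (c i) ^ 2 ≤ (q : ℤ) - 1 := by
        have := hsq i hi
        have h6 : (((c i) ^ 2 : ℤ) : ℝ) ≤ (((q : ℤ) - 1 : ℤ) : ℝ) := by push_cast; exact this
        exact_mod_cast h6
      have h6 : 3 * c i ≤ q := by
        rcases hp3 rfl with h7 | h7
        · subst h7
          by_contra hcon
          have h8 : 2 ≤ c i := by omega
          have h9 : (c i) ^ 2 ≤ 2 := by norm_num at h5; exact h5
          nlinarith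
        · by_contra hcon
          push Not at hcon
          have : (9 : ℤ) ≤ q := by exact_mod_cast h7
          nlinarith
      have h7 : 4 * c i ≤ d i := by omega
      have h8 : (4 : ℝ) * c i ≤ d i := by exact_mod_cast h7
      linarith
    have h4 := Finset.sum_le_sum (key (1 / 4) (by norm_num) hr)
    -- a negative entry
    obtain ⟨i₀, hi₀, hc₀⟩ : ∃ i ∈ S, c i < 0 := by
      by_contra hcon
      push Not at hcon
      have : 0 ≤ ∑ i ∈ S, (c i : ℝ) * d i :=
        Finset.sum_nonneg fun i hi => mul_nonneg (by exact_mod_cast hcon i hi) (Nat.cast_nonneg _)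
      linarith
    have h5 : ∑ i ∈ S, (if 0 < c i then (1 / 4 : ℝ) * (c i : ℝ) ^ 2 else 0) ≤ (1 / 4) * (q - 2) := by
      rw [← Finset.add_sum_erase S _ hi₀, if_neg (by omega), zero_add]
      have h6 : ∑ i ∈ S.erase i₀, (if 0 < c i then (1 / 4 : ℝ) * (c i : ℝ) ^ 2 else 0) ≤
          ∑ i ∈ S.erase i₀, (1 / 4 : ℝ) * (c i : ℝ) ^ 2 := by
        refine Finset.sum_le_sum fun i _ => ?_
        split_ifs
        · exact le_rfl
        · positivity
      rw [← Finset.mul_sum] at h6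
      rw [← Finset.add_sum_erase S _ hi₀] at h2
      have h7 : (1 : ℝ) ≤ (c i₀ : ℝ) ^ 2 := by
        have : (1 : ℤ) ≤ (c i₀) ^ 2 := by nlinarith
        exact_mod_cast this
      linarith
    push_cast at *
    nlinarith
  · have hr : ∀ i ∈ S, 0 < c i → (c i : ℝ) ≤ (1 / 2) * d i := by
      intro i hi hc
      have h4 := hd i hi hc
      have h5 : (c i) ^ 2 ≤ (q : ℤ) - 1 := by
        have := hsq i hi
        have h6 : (((c i) ^ 2 : ℤ) : ℝ) ≤ (((q : ℤ) - 1 : ℤ) : ℝ) := by push_cast; exact this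
        exact_mod_cast h6
      have h6 : c i ≤ q := by nlinarith
      have h7 : 2 * c i ≤ d i := by omega
      have h8 : (2 : ℝ) * c i ≤ d i := by exact_mod_cast h7
      linarith
    have h4 := Finset.sum_le_sum (key (1 / 2) (by norm_num) hr)
    have h5 : ∑ i ∈ S, (if 0 < c i then (1 / 2 : ℝ) * (c i : ℝ) ^ 2 else 0) ≤ (1 / 2) * (q - 1) := by
      have h6 : ∑ i ∈ S, (if 0 < c i then (1 / 2 : ℝ) * (c i : ℝ) ^ 2 else 0) ≤
          ∑ i ∈ S, (1 / 2 : ℝ) * (c i : ℝ) ^ 2 := by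
        refine Finset.sum_le_sum fun i _ => ?_
        split_ifs
        · exact le_rfl
        · positivity
      rw [← Finset.mul_sum] at h6
      rwa [h2] at h6
    have hp5' : (5 : ℝ) ≤ p := by exact_mod_cast hp5
    have h6 := h4.trans h5
    have h7 := mul_le_mul_of_nonneg_left h6 (by linarith : (0 : ℝ) ≤ p - 1)
    nlinarith [mul_le_mul_of_nonneg_left hqR (by linarith : (0 : ℝ) ≤ p - 3)]

variable {G : Type u} [Group G] {p n : ℕ}

theorem CentComp.conj [Finite G] {q : ℕ} {u : G} (h : CentComp p q u) (g : G) : CentComp p q (g * u * g⁻¹) := by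
  obtain ⟨N, hN, hNp, hNi⟩ := h
  have hmem : ∀ c : ↥(centralizer ({g * u * g⁻¹} : Set G)), g⁻¹ * (c : G) * g ∈ centralizer ({u} : Set G) := by
    intro c
    have h1 := mem_centralizer_singleton_iff.1 c.2
    rw [mem_centralizer_singleton_iff]
    calc g⁻¹ * (c : G) * g * u = g⁻¹ * (c * (g * u * g⁻¹)) * g := by group
      _ = g⁻¹ * (g * u * g⁻¹ * c) * g := by rw [h1]
      _ = _ := by group
  let f : ↥(centralizer ({g * u * g⁻¹} : Set G)) →* ↥(centralizer ({u} : Set G)) :=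
    { toFun := fun c => ⟨g⁻¹ * (c : G) * g, hmem c⟩
      map_one' := by apply Subtype.ext; simp
      map_mul' := fun a b => by apply Subtype.ext; simp only [Subgroup.coe_mul]; group }
  have hfi : Function.Injective f := by
    intro a b hab
    have h1 : g⁻¹ * (a : G) * g = g⁻¹ * (b : G) * g := congrArg Subtype.val hab
    exact Subtype.ext (mul_left_cancel (mul_right_cancel h1))
  have hfs : Function.Surjective f := by
    intro b
    have h1 := mem_centralizer_singleton_iff.1 b.2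
    refine ⟨⟨g * b * g⁻¹, ?_⟩, ?_⟩
    · rw [mem_centralizer_singleton_iff]
      calc g * (b : G) * g⁻¹ * (g * u * g⁻¹) = g * (b * u) * g⁻¹ := by group
        _ = g * (u * b) * g⁻¹ := by rw [h1]
        _ = _ := by group
    · apply Subtype.ext
      show g⁻¹ * (g * (b : G) * g⁻¹) * g = b
      group
  refine ⟨N.comap f, hN.comap f, ?_, ?_⟩
  · intro hd
    exact hNp (hd.trans (card_comap_dvd_of_injective N f hfi))
  · rw [index_comap_of_surjective _ hfs, hNi]

theorem mult_subgroup [Finite G] {χ : G → ℂ} (hχ : IsCharacter G χ) (P : Subgroup G) {c : ℂ}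
    (h : ∀ y ∈ P, y ≠ 1 → χ y = c) : ∃ α : ℕ, (Nat.card P : ℂ) * α = χ 1 + ((Nat.card P : ℂ) - 1) * c := by
  classical
  haveI := Fintype.ofFinite ↥P
  obtain ⟨α, hα⟩ := (hχ.restrict P).classInner_nat (isCharacter_one (G := ↥P))
  refine ⟨α, ?_⟩
  rw [← hα, classInner_def]
  have h1 : (Nat.card P : ℂ) ≠ 0 := by exact_mod_cast Nat.card_pos.ne'
  simp only [Pi.one_apply, map_one, mul_one]
  rw [mul_inv_cancel_left₀ h1, ← Finset.add_sum_erase Finset.univ _ (Finset.mem_univ (1 : ↥P))]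
  congr 1
  have h2 : ∀ y ∈ Finset.univ.erase (1 : ↥P), χ (y : G) = c := fun y hy =>
    h y y.2 (fun h' => (Finset.mem_erase.1 hy).1 (Subtype.ext h'))
  rw [Finset.sum_congr rfl h2, Finset.sum_const, Finset.card_erase_of_mem (Finset.mem_univ _), Finset.card_univ, ← Nat.card_eq_fintype_card,
    nsmul_eq_mul, Nat.cast_sub Nat.card_pos, Nat.cast_one]

open scoped Classical in
theorem en_eq_pred {x : G} (h : ∀ j ∈ Finset.Ico 1 p, IsConj x (x ^ j)) : en p x = p - 1 := by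
  rw [en, Finset.filter_true_of_mem h, Nat.card_Ico]

/-- the one class case -/
theorem one_class [Finite G] [IsSimpleGroup G] [hp : Fact p.Prime] (hp2 : p ≠ 2) {x : G} (hx : orderOf x = p)
    (P : Subgroup G) (hP : Nat.card P = p ^ n) (hn : n ≠ 0) (hPx : ∀ y ∈ P, y ≠ 1 → IsConj x y)
    (hC : ∀ u : G, orderOf u = p → CentComp p (p ^ n) u)
    (hone : ∀ u : G, orderOf u = p → IsConj x u) (hpair : PairCond p x) : False := by
  classical
  haveI := Fintype.ofFinite G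
  obtain ⟨M, hM⟩ := H76Char.exists_isPModular p
  haveI := hM.2.1.isPrime
  have hp1 := hp.out.one_lt
  have hx1 : x ≠ 1 := by
    rintro rfl
    rw [orderOf_one] at hx; omega
  have hval : ∀ χ : IrrCharacter G, ∀ j ∈ Finset.Ico 1 p, (χ : G → ℂ) (x ^ j) = (χ : G → ℂ) x := by
    intro χ j hj
    obtain ⟨g, hg⟩ := isConj_iff.1 (hone _ (orderOf_pow_of_mem hp.out hx hj))
    rw [← hg, conj_val]
  have hTT : ∀ χ : IrrCharacter G, TT p x χ = ((p : ℂ) - 1) * (χ : G → ℂ) x := by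
    intro χ
    rw [TT, Finset.sum_congr rfl (hval χ), Finset.sum_const, Nat.card_Ico, nsmul_eq_mul, Nat.cast_sub hp1.le,
      Nat.cast_one]
  have hen : en p x = p - 1 := en_eq_pred (fun j hj => hone _ (orderOf_pow_of_mem hp.out hx hj))
  have hpc : ((p : ℂ) - 1) ≠ 0 := by
    have : (p : ℂ) ≠ 1 := by exact_mod_cast hp1.ne'
    exact sub_ne_zero.2 this
  have hint : ∀ χ : IrrCharacter G, ∃ c : ℤ, (χ : G → ℂ) x = c := by
    intro χ
    obtain ⟨α, hα⟩ := exists_mult hp.out hx χ.2.isCharacter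
    rw [← TT, hTT χ, ← BlockDeg.charDegree_cast_irr χ] at hα
    refine CharCentral.exists_int_of_isIntegral_rat (H76Char.isIntegral_of_isCharacter χ.2.isCharacter x)
      (((p : ℚ) * α - charDegree (χ : G → ℂ)) / ((p : ℚ) - 1)) ?_
    push_cast
    rw [hα, add_sub_cancel_left, mul_div_cancel_left₀ _ hpc]
  choose c hc using hint
  have hre : ∀ χ : IrrCharacter G, (TT p x χ).re = ((p : ℝ) - 1) * c χ := by
    intro χ
    rw [hTT χ, hc χ]
    have : ((p : ℂ) - 1) * (c χ : ℂ) = ((((p : ℝ) - 1) * c χ : ℝ) : ℂ) := by push_cast; rfl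
    rw [this, Complex.ofReal_re]
  have hone' : ∀ u : G, orderOf u = p → ∃ l ∈ Finset.Ico 1 p, IsConj u (x ^ l) := fun u hu =>
    ⟨1, Finset.mem_Ico.2 ⟨le_rfl, hp1⟩, by rw [pow_one]; exact (hone u hu).symm⟩
  have e1 := sum_TT_sq hM hx hC
  have e2 := sum_TT_deg hM hx
  have e3 := main_ineq hM hx hC hone' hpair
  rw [hen] at e1 e3
  simp only [hre] at e1 e2 e3
  have hpR : (0 : ℝ) < (p : ℝ) - 1 := by
    have : (1 : ℝ) < p := by exact_mod_cast hp1
    linarith
  have hpred : ((p ^ n * (p - 1) : ℕ) : ℝ) = (p ^ n : ℕ) * ((p : ℝ) - 1) := by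
    rw [Nat.cast_mul, Nat.cast_sub hp1.le, Nat.cast_one]
  rw [hpred] at e1 e3
  -- clean identities on the block
  have f1 : ∑ χ ∈ PB M G, (c χ : ℝ) ^ 2 = (p ^ n : ℕ) := by
    have h1 : ∑ χ ∈ PB M G, (((p : ℝ) - 1) * c χ) ^ 2 = ((p : ℝ) - 1) ^ 2 * ∑ χ ∈ PB M G, (c χ : ℝ) ^ 2 := by
      rw [Finset.mul_sum]; exact Finset.sum_congr rfl fun χ _ => by ring
    rw [h1] at e1
    have h2 : ((p : ℝ) - 1) ^ 2 ≠ 0 := by positivity
    apply mul_left_cancel₀ h2
    rw [e1]; ring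
  have f2 : ∑ χ ∈ PB M G, (c χ : ℝ) * charDegree (χ : G → ℂ) = 0 := by
    have h1 : ∑ χ ∈ PB M G, ((p : ℝ) - 1) * c χ * charDegree (χ : G → ℂ) =
        ((p : ℝ) - 1) * ∑ χ ∈ PB M G, (c χ : ℝ) * charDegree (χ : G → ℂ) := by
      rw [Finset.mul_sum]; exact Finset.sum_congr rfl fun χ _ => by ring
    rw [h1] at e2
    exact (mul_eq_zero.1 e2).resolve_left hpR.ne'
  have f3 : ((p : ℝ) - 2) * (p ^ n : ℕ) ≤
      ((p : ℝ) - 1) * ∑ χ ∈ PB M G, (c χ : ℝ) ^ 3 / charDegree (χ : G → ℂ) := by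
    have h1 : ∑ χ ∈ PB M G, (((p : ℝ) - 1) * c χ) ^ 3 / charDegree (χ : G → ℂ) =
        ((p : ℝ) - 1) ^ 3 * ∑ χ ∈ PB M G, (c χ : ℝ) ^ 3 / charDegree (χ : G → ℂ) := by
      rw [Finset.mul_sum]; exact Finset.sum_congr rfl fun χ _ => by ring
    rw [h1] at e3
    have h2 : 0 < ((p : ℝ) - 1) ^ 2 := by positivity
    apply le_of_mul_le_mul_left _ h2
    calc _ = ((p : ℝ) - 1) * ((p : ℝ) - 2) * ((p ^ n : ℕ) * ((p : ℝ) - 1)) := by ring
      _ ≤ _ := e3
      _ = _ := by ring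
  have ht : triv G ∈ PB M G := mem_PB.2 triv_mem
  have hct : c (triv G) = 1 := by
    have : (c (triv G) : ℂ) = 1 := (hc (triv G)).symm
    exact_mod_cast this
  have hdt : charDegree ((triv G : IrrCharacter G) : G → ℂ) = 1 := by
    have : ((charDegree ((triv G : IrrCharacter G) : G → ℂ) : ℕ) : ℂ) = 1 := BlockDeg.charDegree_cast_irr (triv G)
    exact_mod_cast this
  rw [← Finset.add_sum_erase _ _ ht, hct] at f1 f2 f3
  rw [hdt] at f2 f3
  norm_num at f1 f2 f3
  have hq : p ≤ p ^ n := Nat.le_self_pow hn p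
  refine num1951 ((PB M G).erase (triv G)) c (fun χ => charDegree (χ : G → ℂ)) (p := p) (q := p ^ n) ?_ hq ?_ ?_ ?_ ?_ ?_ ?_
  · have := hp.out.two_le; omega
  · intro h3
    subst h3
    rcases Nat.lt_or_ge n 2 with h | h
    · left
      have : n = 1 := by omega
      rw [this, pow_one]
    · right
      calc 9 = 3 ^ 2 := by norm_num
        _ ≤ 3 ^ n := Nat.pow_le_pow_right (by norm_num) h
  · have h2 := hp.out.two_le
    by_contra hcon
    push Not at hcon
    have : p = 4 := by omega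
    rw [this] at hp
    exact absurd hp.out (by norm_num)
  · push_cast; linarith
  · push_cast; linarith
  · linarith
  · intro χ hχ hcpos
    rw [Finset.mem_erase] at hχ
    obtain ⟨β, hβ⟩ := mult_subgroup χ.2.isCharacter P (c := (c χ : ℂ)) (fun y hy hy1 => by
      obtain ⟨g, hg⟩ := isConj_iff.1 (hPx y hy hy1)
      rw [← hg, conj_val, hc])
    rw [← BlockDeg.charDegree_cast_irr χ, hP] at hβ
    have h1 : ((p ^ n : ℕ) : ℤ) * β = charDegree (χ : G → ℂ) + (((p ^ n : ℕ) : ℤ) - 1) * c χ := by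
      have : ((((p ^ n : ℕ) : ℤ) * β : ℤ) : ℂ) =
          ((charDegree (χ : G → ℂ) + (((p ^ n : ℕ) : ℤ) - 1) * c χ : ℤ) : ℂ) := by
        push_cast; push_cast at hβ; exact hβ
      exact_mod_cast this
    have h2 : (c χ : ℝ) ≤ charDegree (χ : G → ℂ) := by
      have h3 := H76Ker.norm_le χ.2.isCharacter x (BlockDeg.charDegree_cast_irr χ).symm
      rw [hc] at h3
      have h4 := (Complex.re_le_norm ((c χ : ℂ))).trans h3
      simpa using h4
    have h3 : c χ ≤ charDegree (χ : G → ℂ) := by exact_mod_cast h2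
    have h4 : c χ ≠ charDegree (χ : G → ℂ) := by
      intro h
      have h5 : (χ : G → ℂ) x = (χ : G → ℂ) 1 := by
        rw [hc, h, ← BlockDeg.charDegree_cast_irr χ]; push_cast; rfl
      have h6 := H55WeakGrp.eq_one_of_simple hx1 χ.2 h5
      exact hχ.1 (Subtype.ext h6)
    have h5 : ((p ^ n : ℕ) : ℤ) ∣ charDegree (χ : G → ℂ) - c χ := ⟨β - c χ, by linarith⟩
    have h6 := Int.le_of_dvd (by omega) h5
    omega

end Cfsg.Agent.Lib.PairChar4
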