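import Cfsg.Agent.Lib.PairChar4
import Cfsg.Agent.Lib.CharBasic2

/-!
Pairs of elements of order `p` and the principal block: degree bounds.
-/

set_option autoImplicit false

namespace Cfsg.Agent.Lib.PairChar5

open Cfsg Cfsg.Agent.Lib.CharBasic Cfsg.Agent.Lib.BlockRing Cfsg.Agent.Lib.BlockIdem
  Cfsg.Agent.Lib.BlockThird Cfsg.Agent.Lib.PairChar1 Cfsg.Agent.Lib.PairChar2
  Cfsg.Agent.Lib.PairChar3 Subgroup
open scoped ComplexConjugate

universe u

variable {G : Type u} [Group G] {p n : ℕ} {M : Ideal AlgInt}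

theorem norm_sq_cast (z : ℂ) : ((‖z‖ ^ 2 : ℝ) : ℂ) = z * conj z := by
  rw [Complex.mul_conj, Complex.normSq_eq_norm_sq]

open scoped Classical in
/-- Bessel inequality for the columns of the principal block -/
theorem bessel [Finite G] [Fintype G] (hM : IsPModular p M) (P : Subgroup G) (hP : IsPGroup p P)
    (hC : ∀ u ∈ P, u ≠ 1 → CentComp p (p ^ n) u) {e : ℕ} (he : 0 < e)
    (hfus : ∀ u ∈ P, u ≠ 1 → ((Finset.univ.filter (fun w : G => w ∈ P ∧ w ≠ 1)).filter
      (fun w => IsConj u w)).card ≤ e)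
    {χ : IrrCharacter G} (hχ : χ ∈ PB M G) :
    ∑ u ∈ Finset.univ.filter (fun u : G => u ∈ P ∧ u ≠ 1), ‖(χ : G → ℂ) u‖ ^ 2 < ((p ^ n * e : ℕ) : ℝ) := by
  set F := Finset.univ.filter (fun u : G => u ∈ P ∧ u ≠ 1) with hF
  set A : ℝ := ∑ u ∈ F, ‖(χ : G → ℂ) u‖ ^ 2 with hA
  set w : IrrCharacter G → ℂ := fun ψ => ∑ u ∈ F, conj ((χ : G → ℂ) u) * (ψ : G → ℂ) u with hw
  haveI : Fact p.Prime := ⟨hM.1⟩
  have hpn : 0 < p ^ n := pow_pos hM.1.pos n
  have hord : ∀ u ∈ F, ∃ k, orderOf u = p ^ k := by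
    intro u hu
    rw [hF, Finset.mem_filter] at hu
    obtain ⟨k, hk⟩ := IsPGroup.iff_orderOf.1 hP ⟨u, hu.2.1⟩
    exact ⟨k, by rw [← hk, Subgroup.orderOf_mk]⟩
  have hwχ : w χ = (A : ℂ) := by
    rw [hw, hA]
    push_cast [-Complex.ofReal_pow]
    refine Finset.sum_congr rfl fun u _ => ?_
    rw [norm_sq_cast, mul_comm]
  have h1 : ∑ ψ ∈ PB M G, ‖w ψ‖ ^ 2 ≤ ((p ^ n * e : ℕ) : ℝ) * A := by
    have h2 : ((∑ ψ ∈ PB M G, ‖w ψ‖ ^ 2 : ℝ) : ℂ) =
        ((∑ u ∈ F, ((p ^ n : ℕ) : ℝ) * ‖(χ : G → ℂ) u‖ ^ 2 * (F.filter (fun w => IsConj u w)).card : ℝ) : ℂ) := by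
      push_cast [-Complex.ofReal_pow]
      have h3 : ∀ ψ ∈ PB M G, ((‖w ψ‖ ^ 2 : ℝ) : ℂ) = ∑ u ∈ F, ∑ v ∈ F,
          conj ((χ : G → ℂ) u) * (χ : G → ℂ) v * ((ψ : G → ℂ) u * conj ((ψ : G → ℂ) v)) := by
        intro ψ _
        rw [norm_sq_cast, hw]
        simp only [map_sum, map_mul, Complex.conj_conj]
        rw [Finset.sum_mul_sum]
        refine Finset.sum_congr rfl fun u _ => Finset.sum_congr rfl fun v _ => ?_
        ring
      rw [Finset.sum_congr rfl h3, Finset.sum_comm]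
      refine Finset.sum_congr rfl fun u hu => ?_
      rw [Finset.sum_comm]
      have h4 : ∀ v ∈ F, ∑ ψ ∈ PB M G, conj ((χ : G → ℂ) u) * (χ : G → ℂ) v *
          ((ψ : G → ℂ) u * conj ((ψ : G → ℂ) v)) =
          if IsConj u v then ((p ^ n : ℕ) : ℂ) * ((‖(χ : G → ℂ) u‖ ^ 2 : ℝ) : ℂ) else 0 := by
        intro v hv
        rw [← Finset.mul_sum]
        obtain ⟨k, hk⟩ := hord u hu
        obtain ⟨k', hk'⟩ := hord v hv
        have hu' := (Finset.mem_filter.1 hu).2
        rw [col_sum hM hk hk' (hC u hu'.1 hu'.2)]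
        split_ifs with hc
        · obtain ⟨g, hg⟩ := isConj_iff.1 hc
          rw [norm_sq_cast, ← hg, conj_val]
          ring
        · rw [mul_zero]
      rw [Finset.sum_congr rfl h4, Finset.sum_ite, Finset.sum_const_zero, add_zero, Finset.sum_const, nsmul_eq_mul]
      push_cast; ring
    have h3 : (∑ ψ ∈ PB M G, ‖w ψ‖ ^ 2 : ℝ) =
        (∑ u ∈ F, ((p ^ n : ℕ) : ℝ) * ‖(χ : G → ℂ) u‖ ^ 2 * (F.filter (fun w => IsConj u w)).card : ℝ) := by
      exact_mod_cast h2
    rw [h3, hA, Finset.mul_sum]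
    refine Finset.sum_le_sum fun u hu => ?_
    have hu' := (Finset.mem_filter.1 hu).2
    have h4 : ((F.filter (fun w => IsConj u w)).card : ℝ) ≤ e := by exact_mod_cast hfus u hu'.1 hu'.2
    have h5 : (0 : ℝ) ≤ ((p ^ n : ℕ) : ℝ) * ‖(χ : G → ℂ) u‖ ^ 2 := by positivity
    calc _ ≤ ((p ^ n : ℕ) : ℝ) * ‖(χ : G → ℂ) u‖ ^ 2 * e := mul_le_mul_of_nonneg_left h4 h5
      _ = _ := by push_cast; ring
  have h2 : ∑ ψ ∈ PB M G, w ψ * (ψ : G → ℂ) 1 = 0 := by
    simp only [hw, Finset.sum_mul]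
    rw [Finset.sum_comm]
    refine Finset.sum_eq_zero fun u hu => ?_
    simp only [mul_assoc]
    rw [← Finset.mul_sum]
    obtain ⟨k, hk⟩ := hord u hu
    have hu' := (Finset.mem_filter.1 hu).2
    rw [sum_regular hM hk hu'.2 (by rw [orderOf_one, Nat.dvd_one]; exact hM.1.one_lt.ne'), mul_zero]
  have hA0 : 0 ≤ A := Finset.sum_nonneg fun u _ => by positivity
  rcases hA0.eq_or_lt with h0 | h0
  · rw [← h0]
    have : 0 < p ^ n * e := Nat.mul_pos hpn he
    exact_mod_cast this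
  · rw [← Finset.add_sum_erase _ _ hχ] at h1 h2
    have h3 : ∃ ψ ∈ (PB M G).erase χ, w ψ ≠ 0 := by
      by_contra hcon
      push Not at hcon
      rw [Finset.sum_eq_zero (s := (PB M G).erase χ) (fun ψ hψ => by rw [hcon ψ hψ, zero_mul]), add_zero, hwχ] at h2
      rcases mul_eq_zero.1 h2 with h | h
      · have : A = 0 := by exact_mod_cast h
        exact h0.ne' this
      · exact χ.2.one_ne_zero h
    obtain ⟨ψ, hψ, hψ0⟩ := h3
    have h4 : 0 < ∑ ψ ∈ (PB M G).erase χ, ‖w ψ‖ ^ 2 := by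
      have h5 : 0 < ‖w ψ‖ ^ 2 := by positivity
      exact h5.trans_le (Finset.single_le_sum (f := fun ψ => ‖w ψ‖ ^ 2) (fun _ _ => by positivity) hψ)
    have h5 : ‖w χ‖ = A := by rw [hwχ, Complex.norm_real, Real.norm_of_nonneg hA0]
    rw [h5] at h1
    have h6 : A * A < ((p ^ n * e : ℕ) : ℝ) * A := by nlinarith
    exact lt_of_mul_lt_mul_right h6 hA0

/-- Parseval bound on an abelian subgroup -/
theorem deg_le [Finite G] [Fintype G] (P : Subgroup G) (hcomm : ∀ a b : P, a * b = b * a) {χ : G → ℂ}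
    (hχ : IsCharacter G χ) {d : ℕ} (hd : χ 1 = d) [Fintype P] :
    (Nat.card P : ℝ) * d ≤ ∑ u : P, ‖χ u‖ ^ 2 := by
  classical
  have hf := hχ.restrict P
  choose b hb using fun lam : IrrCharacter P => hf.classInner_nat lam.2.isCharacter
  have h1 : (d : ℂ) = ∑ lam : IrrCharacter P, (b lam : ℂ) := by
    have h2 := hf.isClassFunction.expansion_apply 1
    rw [Subgroup.coe_one] at h2
    rw [← hd, h2]
    refine Finset.sum_congr rfl fun lam _ => ?_
    rw [hb, lam.2.one_eq_one_of_comm hcomm, mul_one]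
  have h2 : classInner (fun h : P => χ h) (fun h : P => χ h) = ∑ lam : IrrCharacter P, (b lam : ℂ) ^ 2 := by
    rw [hf.isClassFunction.classInner_eq_sum]
    refine Finset.sum_congr rfl fun lam _ => ?_
    rw [hb, Complex.conj_natCast, sq]
  have h3 : ((∑ u : P, ‖χ u‖ ^ 2 : ℝ) : ℂ) = (Nat.card P : ℂ) * ∑ lam : IrrCharacter P, (b lam : ℂ) ^ 2 := by
    rw [← h2, classInner_def]
    have h4 : (Nat.card P : ℂ) ≠ 0 := by exact_mod_cast Nat.card_pos.ne'
    rw [mul_inv_cancel_left₀ h4]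
    push_cast [-Complex.ofReal_pow]
    exact Finset.sum_congr rfl fun u _ => norm_sq_cast _
  have h4 : (∑ u : P, ‖χ u‖ ^ 2 : ℝ) = (Nat.card P : ℝ) * ∑ lam : IrrCharacter P, (b lam : ℝ) ^ 2 := by
    exact_mod_cast h3
  have h5 : (d : ℝ) = ∑ lam : IrrCharacter P, (b lam : ℝ) := by exact_mod_cast h1
  rw [h4, h5]
  refine mul_le_mul_of_nonneg_left (Finset.sum_le_sum fun lam _ => ?_) (Nat.cast_nonneg _)
  have : (b lam) ≤ (b lam) ^ 2 := Nat.le_self_pow two_ne_zero _
  exact_mod_cast this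

open scoped Classical in
/-- many nontrivial constituents on `⟨x⟩` -/
theorem mult_le [Finite G] [hp : Fact p.Prime] {x : G} (hx : orderOf x = p) {χ : G → ℂ}
    (hχ : IsCharacter G χ) (hne : χ x ≠ χ 1) {d α : ℕ} (hd : χ 1 = d)
    (hα : (p : ℂ) * α = χ 1 + ∑ j ∈ Finset.Ico 1 p, χ (x ^ j)) : α + en p x ≤ d := by
  haveI := Fintype.ofFinite ↥(zpowers x)
  set H := zpowers x with hH
  have hcomm : ∀ a b : H, a * b = b * a := fun a b => (inferInstance : IsMulCommutative ↥(zpowers x)).is_comm.comm a b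
  have hf := hχ.restrict H
  have hcard : Nat.card H = p := by rw [hH, Nat.card_zpowers, hx]
  have hp0 : (p : ℂ) ≠ 0 := by exact_mod_cast hp.out.ne_zero
  choose b hb using fun lam : IrrCharacter H => hf.classInner_nat lam.2.isCharacter
  have hlin : ∀ lam : IrrCharacter H, (lam : H → ℂ) 1 = 1 := fun lam => lam.2.one_eq_one_of_comm hcomm
  have h1 : d = ∑ lam : IrrCharacter H, b lam := by
    have h2 := hf.isClassFunction.expansion_apply 1
    rw [Subgroup.coe_one, hd] at h2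
    have h4 : (d : ℂ) = ((∑ lam : IrrCharacter H, b lam : ℕ) : ℂ) := by
      rw [h2]
      push_cast
      refine Finset.sum_congr rfl fun lam _ => ?_
      rw [hb, hlin, mul_one]
    exact_mod_cast h4
  have hbα : b (triv H) = α := by
    have h2 := hb (triv H)
    rw [classInner_def, hcard] at h2
    simp only [coe_triv, map_one, mul_one] at h2
    rw [sum_zpowers hp.out hx χ, ← hα, inv_mul_cancel_left₀ hp0] at h2
    exact_mod_cast h2.symm
  -- a nontrivial constituent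
  obtain ⟨lam, hlam, hlb⟩ : ∃ lam : IrrCharacter H, lam ≠ triv H ∧ b lam ≠ 0 := by
    by_contra hcon
    push Not at hcon
    apply hne
    have hval : ∀ h : H, χ h = b (triv H) := by
      intro h
      have h2 := hf.isClassFunction.expansion_apply h
      rw [Finset.sum_eq_single (triv H)] at h2
      · rw [hb] at h2
        have h3 : ((triv H : IrrCharacter H) : H → ℂ) h = 1 := rfl
        rw [h3, mul_one] at h2
        exact h2
      · intro lam _ hlam
        rw [hb, hcon lam hlam]; simp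
      · intro h; exact absurd (Finset.mem_univ _) h
    have h2 := hval ⟨x, mem_zpowers x⟩
    have h3 := hval 1
    rw [Subgroup.coe_one] at h3
    rw [h3, ← h2]
  -- its powers
  have hpowirr : ∀ j : ℕ, IsIrrCharacter H (fun h => (lam : H → ℂ) h ^ j) := by
    intro j
    have h2 : IsCharacter H ((lam : H → ℂ) ^ j) := lam.2.isCharacter.pow j
    refine IsCharacter.isIrr_of_one_eq_one h2 ?_
    show (lam : H → ℂ) 1 ^ j = 1
    rw [hlin, one_pow]
  set L : ℕ → IrrCharacter H := fun j => ⟨fun h => (lam : H → ℂ) h ^ j, hpowirr j⟩ with hL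
  set X : H := ⟨x, mem_zpowers x⟩ with hX
  have hXgen : ∀ h : H, ∃ i : ℕ, h = X ^ i := by
    rintro ⟨h, hh⟩
    obtain ⟨i, hi⟩ := (Submonoid.mem_powers_iff _ _).1 (mem_powers_iff_mem_zpowers.2 hh)
    exact ⟨i, Subtype.ext (by rw [hX]; simpa using hi.symm)⟩
  have hmul := lam.2.isCharacter.map_mul_of_linear (hlin lam)
  have hpow : ∀ (h : H) (j : ℕ), (lam : H → ℂ) (h ^ j) = (lam : H → ℂ) h ^ j := by
    intro h j
    induction j with
    | zero => rw [pow_zero, pow_zero, hlin]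
    | succ j ih => rw [pow_succ, pow_succ, hmul, ih]
  have hlx : (lam : H → ℂ) X ≠ 1 := by
    intro h
    apply hlam
    apply Subtype.ext
    funext h'
    obtain ⟨i, rfl⟩ := hXgen h'
    rw [hpow, h, one_pow]; rfl
  have hlxp : (lam : H → ℂ) X ^ p = 1 := by
    rw [← hpow]
    have : X ^ p = 1 := Subtype.ext (by rw [hX]; simp [← hx, pow_orderOf_eq_one])
    rw [this, hlin]
  have hprim : IsPrimitiveRoot ((lam : H → ℂ) X) p := by
    rw [← orderOf_eq_prime hlxp hlx]
    exact IsPrimitiveRoot.orderOf _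
  set J := (Finset.Ico 1 p).filter (fun j => IsConj x (x ^ j)) with hJ
  have hbL : ∀ j ∈ J, b (L j) = b lam := by
    intro j hj
    rw [hJ, Finset.mem_filter] at hj
    have hcop : (Nat.card H).Coprime j := by
      rw [hcard, Nat.Prime.coprime_iff_not_dvd hp.out]
      exact Nat.not_dvd_of_pos_of_lt (by have := (Finset.mem_Ico.1 hj.1).1; omega) (Finset.mem_Ico.1 hj.1).2
    have h2 : classInner (fun h : H => χ h) (L j : H → ℂ) = classInner (fun h : H => χ h) (lam : H → ℂ) := by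
      rw [classInner_def, classInner_def]
      congr 1
      refine Eq.trans ?_ (Equiv.sum_comp (powCoprime hcop) (fun h : H => χ h * conj ((lam : H → ℂ) h)))
      refine Finset.sum_congr rfl fun h _ => ?_
      rw [powCoprime_apply, hpow]
      have h3 : ((L j : IrrCharacter H) : H → ℂ) h = (lam : H → ℂ) h ^ j := rfl
      rw [h3]
      congr 1
      obtain ⟨i, rfl⟩ := hXgen h
      have h4 : (((X ^ i : H) : G)) = x ^ i := by rw [hX]; simp
      have h5 : ((((X ^ i) ^ j : H) : G)) = (x ^ j) ^ i := by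
        rw [hX]; simp [← pow_mul, mul_comm]
      rw [h4, h5]
      obtain ⟨g, hg⟩ := isConj_iff.1 (isConj_pow hj.2 i)
      rw [← hg]
      exact (hχ.isClassFunction _ _).symm
    have h3 := hb (L j)
    rw [h2, hb lam] at h3
    exact_mod_cast h3.symm
  have hinj : ∀ j ∈ J, ∀ j' ∈ J, L j = L j' → j = j' := by
    intro j hj j' hj' h
    rw [hJ, Finset.mem_filter, Finset.mem_Ico] at hj hj'
    have h2 : (lam : H → ℂ) X ^ j = (lam : H → ℂ) X ^ j' := congrFun (congrArg Subtype.val h) X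
    exact hprim.pow_inj hj.1.2 hj'.1.2 h2
  have hnt : triv H ∉ J.image L := by
    intro h
    obtain ⟨j, hj, hj'⟩ := Finset.mem_image.1 h
    rw [hJ, Finset.mem_filter, Finset.mem_Ico] at hj
    have h2 : (lam : H → ℂ) X ^ j = 1 := congrFun (congrArg Subtype.val hj') X
    have h3 := (hprim.pow_eq_one_iff_dvd j).1 h2
    exact Nat.not_dvd_of_pos_of_lt (by omega) hj.1.2 h3
  have h6 : ∑ mu ∈ insert (triv H) (J.image L), b mu ≤ ∑ mu : IrrCharacter H, b mu :=
    Finset.sum_le_sum_of_subset (Finset.subset_univ _)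
  rw [Finset.sum_insert hnt, Finset.sum_image (fun j hj j' hj' h => hinj j hj j' hj' h), hbα, ← h1] at h6
  have h7 : J.card ≤ ∑ j ∈ J, b (L j) := by
    rw [Finset.sum_congr rfl hbL, Finset.sum_const, smul_eq_mul]
    exact Nat.le_mul_of_pos_right _ (Nat.pos_of_ne_zero hlb)
  have h8 : J.card = en p x := by
    rw [hJ, en]
  omega

end Cfsg.Agent.Lib.PairChar5
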