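import Cfsg.Agent.Lib.PairChar5
import Cfsg.Agent.Lib.CyclicSylow
import Cfsg.Agent.Lib.PGroupRankThree

/-!
Pairs of elements of order `p` and the principal block: cyclic Sylow subgroups.
-/

set_option autoImplicit false

namespace Cfsg.Agent.Lib.PairChar6

open Cfsg Cfsg.Agent.Lib.PairChar1 Cfsg.Agent.Lib.PairChar3 Subgroup

universe u

variable {G : Type u} [Group G] [Finite G] {p n : ℕ} [hp : Fact p.Prime]

theorem le_cent (P : Sylow p G) (hcomm : ∀ a ∈ (P : Subgroup G), ∀ b ∈ (P : Subgroup G), a * b = b * a) {u : G}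
    (hu : u ∈ (P : Subgroup G)) : (P : Subgroup G) ≤ centralizer ({u} : Set G) := by
  intro a ha
  rw [mem_centralizer_singleton_iff]
  exact hcomm a ha u hu

theorem cyc_comm {P : Subgroup G} (hc : IsCyclic P) : ∀ a ∈ P, ∀ b ∈ P, a * b = b * a := by
  intro a ha b hb
  exact congrArg Subtype.val ((inferInstance : IsMulCommutative P).is_comm.comm (⟨a, ha⟩ : P) ⟨b, hb⟩)

theorem compl_of {H : Type u} [Group H] [Finite H] (P : Sylow p H) (h : HasNormalPComplement p H) :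
    ∃ N : Subgroup H, N.Normal ∧ ¬ p ∣ Nat.card N ∧ N.IsComplement' (P : Subgroup H) := by
  obtain ⟨Q, N, hN, hNQ⟩ := h
  have h1 : ¬ p ∣ Nat.card N := by
    rw [← hNQ.index_eq_card]; exact Q.not_dvd_index
  have h2 : Nat.card (P : Subgroup H) = Nat.card (Q : Subgroup H) := by
    rw [P.card_eq_multiplicity, Q.card_eq_multiplicity]
  refine ⟨N, hN, h1, isComplement'_of_coprime ?_ ?_⟩
  · rw [h2]; exact hNQ.card_mul
  · obtain ⟨k, hk⟩ := IsPGroup.iff_card.1 P.isPGroup'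
    rw [hk]
    exact Nat.Coprime.pow_right k (((Nat.Prime.coprime_iff_not_dvd hp.out).2 h1).symm)

theorem centPC (P : Sylow p G) (hc : IsCyclic (P : Subgroup G)) {u : G} (hu : u ∈ (P : Subgroup G)) (hu1 : u ≠ 1) :
    HasNormalPComplement p ↥(centralizer ({u} : Set G)) := by
  have hPC := le_cent P (cyc_comm hc) hu
  have hcyc : IsCyclic (P.subtype hPC) := by
    rw [Sylow.coe_subtype]
    exact isCyclic_of_surjective _ (subgroupOfEquivOfLe hPC).symm.surjective
  refine CyclicSylow.hasNormalPComplement_of_central (P.subtype hPC)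
    ⟨u, mem_centralizer_singleton_iff.2 rfl⟩ ?_ ?_ ?_
  · rw [mem_center_iff]
    intro g
    exact Subtype.ext (mem_centralizer_singleton_iff.1 g.2)
  · rw [Sylow.coe_subtype, mem_subgroupOf]; exact hu
  · intro h; exact hu1 (congrArg Subtype.val h)

theorem centComp_cyc (P : Sylow p G) (hn : Nat.card (P : Subgroup G) = p ^ n) (hc : IsCyclic (P : Subgroup G))
    {u : G} (hu : u ∈ (P : Subgroup G)) (hu1 : u ≠ 1) : CentComp p (p ^ n) u := by
  have hPC := le_cent P (cyc_comm hc) hu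
  obtain ⟨N, hN, hNp, hNP⟩ := compl_of (P.subtype hPC) (centPC P hc hu hu1)
  refine ⟨N, hN, hNp, ?_⟩
  rw [hNP.symm.index_eq_card, Sylow.coe_subtype, ← hn]
  exact Nat.card_congr (subgroupOfEquivOfLe hPC).toEquiv

theorem norm_cent (P : Sylow p G) (hc : IsCyclic (P : Subgroup G)) {u g : G} (hu : u ∈ (P : Subgroup G))
    (hu1 : u ≠ 1) (hg : g ∈ normalizer ((P : Subgroup G) : Set G)) (hgu : g * u = u * g) :
    ∀ t ∈ (P : Subgroup G), g * t = t * g := by
  have hPC := le_cent P (cyc_comm hc) hu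
  obtain ⟨N, hN, hNp, hNP⟩ := compl_of (P.subtype hPC) (centPC P hc hu hu1)
  set h : ↥(centralizer ({u} : Set G)) := ⟨g, mem_centralizer_singleton_iff.2 hgu⟩ with hh
  have hmem : h ∈ N ⊔ (P.subtype hPC : Subgroup _) := by rw [hNP.sup_eq_top]; trivial
  obtain ⟨k, hk, y, hy, hky⟩ := mem_sup_of_normal_left.1 hmem
  rw [Sylow.coe_subtype, mem_subgroupOf] at hy
  have hky' : (k : G) * y = g := by
    have := congrArg Subtype.val hky
    simpa [hh] using this
  intro t ht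
  have hkn : (k : G) ∈ normalizer ((P : Subgroup G) : Set G) := by
    have : (k : G) = g * (y : G)⁻¹ := by rw [← hky']; group
    rw [this]
    exact mul_mem hg (inv_mem (le_normalizer hy))
  have htC := hPC ht
  have hkt : (k : G) * t = t * k := by
    have h1 : k * ⟨t, htC⟩ * k⁻¹ * ⟨t, htC⟩⁻¹ ∈ N := by
      have : k * ⟨t, htC⟩ * k⁻¹ * ⟨t, htC⟩⁻¹ = k * (⟨t, htC⟩ * k⁻¹ * ⟨t, htC⟩⁻¹) := by group
      rw [this]
      exact mul_mem hk (hN.conj_mem _ (inv_mem hk) _)
    have h2 : k * ⟨t, htC⟩ * k⁻¹ * ⟨t, htC⟩⁻¹ ∈ (P.subtype hPC : Subgroup _) := by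
      rw [Sylow.coe_subtype, mem_subgroupOf]
      exact mul_mem ((mem_normalizer_iff.1 hkn t).1 ht) (inv_mem ht)
    have h3 := (disjoint_def.1 hNP.disjoint) h1 h2
    have h4 : (k : G) * t * (k : G)⁻¹ * t⁻¹ = 1 := congrArg Subtype.val h3
    rw [mul_inv_eq_one, mul_inv_eq_iff_eq_mul] at h4
    exact h4
  rw [← hky', mul_assoc, cyc_comm hc _ hy t ht, ← mul_assoc, hkt, mul_assoc]

/-- fusion in the Sylow subgroup -/
theorem fusion (P : Sylow p G) (hc : IsCyclic (P : Subgroup G)) {u w : G} (hu : u ∈ (P : Subgroup G))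
    (hw : w ∈ (P : Subgroup G)) (h : IsConj u w) :
    ∃ g ∈ normalizer ((P : Subgroup G) : Set G), g * u * g⁻¹ = w := by
  obtain ⟨c, hcc⟩ := isConj_iff.1 h
  haveI : IsMulCommutative (P : Subgroup G) := inferInstance
  obtain ⟨m, hm, hmm⟩ := P.conj_eq_normalizer_conj_of_mem u c⁻¹ hu (by rw [inv_inv, hcc]; exact hw)
  refine ⟨m⁻¹, inv_mem hm, ?_⟩
  rw [inv_inv, ← hmm, inv_inv, hcc]

theorem exists_pow_eq {P : Subgroup G} (hc : IsCyclic P) {x y : G} (hx : orderOf x = p) (hxP : x ∈ P)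
    (hy : orderOf y = p) (hyP : y ∈ P) : ∃ i ∈ Finset.Ico 1 p, y = x ^ i := by
  have h1 := PGroupRankThree.mem_zpowers_of_isCyclic_subgroup hc hxP hyP (by rw [hx, hy])
  rw [← mem_powers_iff_mem_zpowers, Submonoid.mem_powers_iff] at h1
  obtain ⟨i, hi⟩ := h1
  have h2 : x ^ (i % p) = y := by rw [← hi, ← hx, pow_mod_orderOf]
  refine ⟨i % p, ?_, h2.symm⟩
  rw [Finset.mem_Ico]
  refine ⟨?_, Nat.mod_lt _ hp.out.pos⟩
  rcases Nat.eq_zero_or_pos (i % p) with h | h
  · rw [h, pow_zero] at h2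
    rw [← h2, orderOf_one] at hy
    exact absurd hy.symm hp.out.ne_one
  · exact h

theorem exists_order_p {P : Subgroup G} (hP : IsPGroup p P) {u : G} (hu : u ∈ P) (hu1 : u ≠ 1) :
    ∃ k : ℕ, orderOf (u ^ k) = p := by
  obtain ⟨m, hm⟩ := IsPGroup.iff_orderOf.1 hP ⟨u, hu⟩
  rw [Subgroup.orderOf_mk] at hm
  have hm0 : m ≠ 0 := by
    rintro rfl
    rw [pow_zero, orderOf_eq_one_iff] at hm
    exact hu1 hm
  refine ⟨p ^ (m - 1), ?_⟩
  rw [orderOf_pow' u (pow_pos hp.out.pos _).ne', hm, Nat.gcd_eq_right (pow_dvd_pow p (Nat.sub_le m 1)),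
    Nat.pow_div (Nat.sub_le m 1) hp.out.pos, Nat.sub_sub_self (Nat.one_le_iff_ne_zero.2 hm0), pow_one]

open scoped Classical in
theorem fus_bound [Fintype G] (P : Sylow p G) (hc : IsCyclic (P : Subgroup G)) {x : G} (hx : orderOf x = p)
    (hxP : x ∈ (P : Subgroup G)) {u : G} (hu : u ∈ (P : Subgroup G)) (hu1 : u ≠ 1) :
    ((Finset.univ.filter (fun w : G => w ∈ (P : Subgroup G) ∧ w ≠ 1)).filter (fun w => IsConj u w)).card ≤
      en p x := by
  obtain ⟨k, hk⟩ := exists_order_p P.isPGroup' hu hu1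
  obtain ⟨l, hl, hul⟩ := exists_pow_eq hc hx hxP hk (pow_mem hu k)
  have e1 : ((Finset.Ico 1 p).filter (fun i => IsConj (x ^ i) (x ^ l))).card = en p x := by
    rw [← en_eq hp.out hx hl]
    congr!
  rw [← e1]
  set F := (Finset.univ.filter (fun w : G => w ∈ (P : Subgroup G) ∧ w ≠ 1)).filter (fun w => IsConj u w) with hF
  have hFm : ∀ w, w ∈ F → w ∈ (P : Subgroup G) ∧ w ≠ 1 ∧ IsConj u w := by
    intro w hw
    rw [hF, Finset.mem_filter, Finset.mem_filter] at hw
    exact ⟨hw.1.2.1, hw.1.2.2, hw.2⟩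
  have hord : ∀ w, w ∈ F → orderOf (w ^ k) = p := by
    intro w hw
    obtain ⟨g, hg⟩ := isConj_iff.1 (hFm w hw).2.2
    rw [← hg, conj_pow, BlockThird.orderOf_conj, hk]
  have hex : ∀ w, ∃ i, w ∈ F → i ∈ Finset.Ico 1 p ∧ w ^ k = x ^ i := by
    intro w
    by_cases hw : w ∈ F
    · obtain ⟨i, hi, hi'⟩ := exists_pow_eq hc hx hxP (hord w hw) (pow_mem (hFm w hw).1 k)
      exact ⟨i, fun _ => ⟨hi, hi'⟩⟩
    · exact ⟨0, fun h => absurd h hw⟩
  choose f hf using hex
  refine Finset.card_le_card_of_injOn f ?_ ?_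
  · intro w hw
    have hw' : w ∈ F := hw
    have h1 := hf w hw'
    rw [Finset.mem_coe, Finset.mem_filter]
    refine ⟨h1.1, ?_⟩
    rw [← h1.2, ← hul]
    exact (isConj_pow (hFm w hw').2.2 k).symm
  · intro w hw w' hw' hww
    have hw1 : w ∈ F := hw
    have hw2 : w' ∈ F := hw'
    have h1 : w ^ k = w' ^ k := by rw [(hf w hw1).2, (hf w' hw2).2, hww]
    obtain ⟨g, hg, hgw⟩ := fusion P hc (hFm w hw1).1 (hFm w' hw2).1
      ((hFm w hw1).2.2.symm.trans (hFm w' hw2).2.2)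
    have h2 : g * w ^ k = w ^ k * g := by
      have h3 : g * w ^ k * g⁻¹ = w ^ k := by rw [← conj_pow, hgw, h1]
      rw [mul_inv_eq_iff_eq_mul] at h3
      exact h3
    have h3 : w ^ k ≠ 1 := by
      intro h
      have := hord w hw1
      rw [h, orderOf_one] at this
      exact hp.out.ne_one this.symm
    have h4 := norm_cent P hc (pow_mem (hFm w hw1).1 k) h3 hg h2 w (hFm w hw1).1
    rw [← hgw, h4, mul_inv_cancel_right]

open scoped Classical in
/-- in a simple group with cyclic Sylow subgroup, `e ≥ 2` -/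
theorem two_le_en [IsSimpleGroup G] (hG : ¬ ∀ a b : G, a * b = b * a) (P : Sylow p G)
    (hc : IsCyclic (P : Subgroup G)) {x : G} (hx : orderOf x = p)
    (hxP : x ∈ (P : Subgroup G)) : 2 ≤ en p x := by
  have hx1 : x ≠ 1 := by
    rintro rfl
    rw [orderOf_one] at hx
    exact hp.out.ne_one hx.symm
  have h1mem : 1 ∈ (Finset.Ico 1 p).filter (fun j => IsConj x (x ^ j)) := by
    rw [Finset.mem_filter, Finset.mem_Ico, pow_one]
    exact ⟨⟨le_rfl, hp.out.one_lt⟩, IsConj.refl x⟩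
  by_contra hlt
  push Not at hlt
  rw [en] at hlt
  have hcard : ((Finset.Ico 1 p).filter (fun j => IsConj x (x ^ j))).card ≤ 1 := by omega
  rw [Finset.card_le_one] at hcard
  have hN : normalizer ((P : Subgroup G) : Set G) ≤ centralizer ((P : Subgroup G) : Set G) := by
    intro g hg
    have h1 : g * x * g⁻¹ ∈ (P : Subgroup G) := (mem_normalizer_iff.1 hg x).1 hxP
    obtain ⟨i, hi, hi'⟩ := exists_pow_eq hc hx hxP (y := g * x * g⁻¹) (by rw [BlockThird.orderOf_conj, hx]) h1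
    have h2 : i ∈ (Finset.Ico 1 p).filter (fun j => IsConj x (x ^ j)) := by
      rw [Finset.mem_filter]
      exact ⟨hi, by rw [← hi']; exact isConj_iff.2 ⟨g, rfl⟩⟩
    have h3 := hcard i h2 1 h1mem
    rw [h3, pow_one, mul_inv_eq_iff_eq_mul] at hi'
    have h4 := norm_cent P hc hxP hx1 hg hi'
    rw [mem_centralizer_iff]
    intro t ht
    exact (h4 t ht).symm
  have hcomp := MonoidHom.ker_transferSylow_isComplement' P hN
  set K := (MonoidHom.transferSylow P hN).ker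
  have hK : K.Normal := inferInstance
  rcases hK.eq_bot_or_eq_top with h | h
  · rw [h, isComplement'_bot_left] at hcomp
    apply hG
    intro a b
    have hab := cyc_comm hc a (by rw [hcomp]; trivial) b (by rw [hcomp]; trivial)
    exact hab
  · rw [h, isComplement'_top_left] at hcomp
    rw [hcomp, mem_bot] at hxP
    exact hx1 hxP

end Cfsg.Agent.Lib.PairChar6
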