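import Cfsg.Agent.Lib.PairChar6

/-!
Pairs of elements of order `p`: simple groups with cyclic Sylow subgroups.
-/

set_option autoImplicit false

namespace Cfsg.Agent.Lib.PairChar7

open Cfsg Cfsg.Agent.Lib.CharBasic Cfsg.Agent.Lib.BlockRing Cfsg.Agent.Lib.BlockIdem
  Cfsg.Agent.Lib.BlockThird Cfsg.Agent.Lib.PairChar1 Cfsg.Agent.Lib.PairChar2
  Cfsg.Agent.Lib.PairChar3 Subgroup
open scoped ComplexConjugate

universe u

theorem exists_big {ι : Type*} (S : Finset ι) (T : ι → ℝ) (d : ι → ℕ) (hd : ∀ i ∈ S, 0 < d i) {m Z R : ℝ}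
    (hm : 0 < m) (hZ : 0 < Z) (h2 : ∑ i ∈ S, T i ^ 2 = m * Z) (h3 : m * R ≤ ∑ i ∈ S, T i ^ 3 / d i) :
    ∃ i ∈ S, T i ≠ 0 ∧ d i * R ≤ T i * Z := by
  by_contra hcon
  push Not at hcon
  have h1 : ∃ i ∈ S, T i ≠ 0 := by
    by_contra h
    push Not at h
    rw [Finset.sum_eq_zero (fun i hi => by rw [h i hi]; ring)] at h2
    have : 0 < m * Z := mul_pos hm hZ
    linarith
  obtain ⟨i₀, hi₀, hT₀⟩ := h1
  have key : ∀ i ∈ S, T i ≠ 0 → T i ^ 3 / d i * Z < T i ^ 2 * R := by
    intro i hi hT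
    have h4 := hcon i hi hT
    have h5 : (0 : ℝ) < d i := by exact_mod_cast hd i hi
    have h6 : 0 < T i ^ 2 := by positivity
    rw [div_mul_eq_mul_div, div_lt_iff₀ h5]
    nlinarith [mul_lt_mul_of_pos_left h4 h6]
  have h4 : ∑ i ∈ S, T i ^ 3 / d i * Z < ∑ i ∈ S, T i ^ 2 * R := by
    refine Finset.sum_lt_sum (fun i hi => ?_) ⟨i₀, hi₀, key i₀ hi₀ hT₀⟩
    by_cases hT : T i = 0
    · rw [hT]; norm_num
    · exact (key i hi hT).le
  rw [← Finset.sum_mul, ← Finset.sum_mul, h2] at h4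
  nlinarith [mul_le_mul_of_nonneg_right h3 hZ.le]

set_option maxHeartbeats 1000000 in
theorem num_final {p n e d : ℕ} {T : ℤ} (hp : p.Prime) (hp2 : p ≠ 2) (hn : n ≠ 0) (he : 2 ≤ e) (hep : e ≤ p - 1)
    (h3 : p = 3 → n ≠ 1) (hd : 0 < d) (hT : T ≠ 0)
    (hA : (d : ℝ) * (((p : ℝ) - 2) * ((p : ℝ) ^ n * e - (p - 1)) - (p - 1)) ≤ T * ((p : ℝ) ^ n * e - (p - 1)))
    (hC : (T : ℝ) ^ 2 ≤ (p - 1) * ((p : ℝ) ^ n * e - (p - 1)))
    (hB : (p : ℝ) ^ n * (d + T) < p * (d : ℝ) ^ 2) : False := by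
  have hp3 : 3 ≤ p := by have := hp.two_le; omega
  have hdR : (1 : ℝ) ≤ d := by exact_mod_cast hd
  have hp3R : (3 : ℝ) ≤ p := by exact_mod_cast hp3
  have heR : (2 : ℝ) ≤ e := by exact_mod_cast he
  have hepR : (e : ℝ) ≤ p - 1 := by
    have : e + 1 ≤ p := by omega
    have h : ((e + 1 : ℕ) : ℝ) ≤ p := by exact_mod_cast this
    push_cast at h; linarith
  have hqp : (p : ℝ) ≤ (p : ℝ) ^ n := by
    have := Nat.le_self_pow hn p
    exact_mod_cast this
  -- the easy estimate
  have general : ((p : ℝ) - 1) ^ 2 * p ^ 2 ≤ (p : ℝ) ^ n * ((p : ℝ) - 2) ^ 2 * ((p : ℝ) - 3) ^ 2 → False := by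
    intro hgen
    set q : ℝ := (p : ℝ) ^ n with hq
    set Z : ℝ := q * e - (p - 1) with hZ
    have hZ1 : (p : ℝ) - 1 < Z := by
      rw [hZ]; nlinarith
    have hZ0 : 0 < Z := by linarith
    -- T ≥ (p-3) d
    have h1 : ((p : ℝ) - 3) * d ≤ T := by
      have h2 : (d : ℝ) * (((p : ℝ) - 3) * Z) ≤ T * Z := by
        refine le_trans ?_ hA
        apply mul_le_mul_of_nonneg_left _ (by linarith)
        nlinarith
      have h3 : (d : ℝ) * ((p : ℝ) - 3) * Z ≤ T * Z := by rw [mul_assoc]; exact h2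
      have := le_of_mul_le_mul_right h3 hZ0
      linarith
    -- q (p-2) < p d
    have h2 : q * ((p : ℝ) - 2) < p * d := by
      have h3 : q * (((p : ℝ) - 2) * d) < p * d * d := by
        calc q * (((p : ℝ) - 2) * d) ≤ q * (d + T) := by
              apply mul_le_mul_of_nonneg_left _ (by linarith)
              linarith
          _ < p * (d : ℝ) ^ 2 := hB
          _ = p * d * d := by ring
      have h4 : q * ((p : ℝ) - 2) * d < p * d * d := by rw [mul_assoc]; exact h3
      exact lt_of_mul_lt_mul_right h4 (by linarith)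
    -- T² < (p-1)² q
    have h3' : (T : ℝ) ^ 2 < (p - 1) ^ 2 * q := by
      refine hC.trans_lt ?_
      rw [hZ]
      have h5 : q * e ≤ q * (p - 1) := mul_le_mul_of_nonneg_left hepR (by linarith)
      nlinarith
    have h4 : (((p : ℝ) - 3) * d) ^ 2 ≤ (T : ℝ) ^ 2 := by
      apply pow_le_pow_left₀ _ h1
      have : 0 ≤ (p : ℝ) - 3 := by linarith
      positivity
    have h5 : (((p : ℝ) - 3) * d) ^ 2 < (p - 1) ^ 2 * q := lt_of_le_of_lt h4 h3'
    have h6 : (q * ((p : ℝ) - 2)) ^ 2 ≤ (p * d) ^ 2 := by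
      apply pow_le_pow_left₀ _ h2.le
      have : 0 ≤ (p : ℝ) - 2 := by linarith
      have : 0 ≤ q := by linarith
      positivity
    have hq0 : 0 < q := by linarith
    have h7 : (q * ((p : ℝ) - 2)) ^ 2 * ((p : ℝ) - 3) ^ 2 ≤ p ^ 2 * (((p : ℝ) - 3) * d) ^ 2 := by
      have := mul_le_mul_of_nonneg_right h6 (sq_nonneg ((p : ℝ) - 3))
      nlinarith [this]
    have h8 : p ^ 2 * (((p : ℝ) - 3) * d) ^ 2 < p ^ 2 * ((p - 1) ^ 2 * q) := by
      apply mul_lt_mul_of_pos_left h5; positivity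
    have h9 : q * (q * ((p : ℝ) - 2) ^ 2 * ((p : ℝ) - 3) ^ 2) < q * ((p - 1) ^ 2 * p ^ 2) := by
      have := lt_of_le_of_lt h7 h8
      nlinarith [this]
    have h10 := lt_of_mul_lt_mul_left h9 hq0.le
    linarith
  rcases Nat.lt_or_ge p 7 with h7 | h7
  · have hcases : p = 3 ∨ p = 5 := by
      interval_cases p
      · left; rfl
      · exact absurd hp (by norm_num)
      · right; rfl
      · exact absurd hp (by norm_num)
    rcases hcases with rfl | rfl
    · have he2 : e = 2 := by omega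
      subst he2
      have hn1 := h3 rfl
      have h27 : n = 2 ∨ 3 ≤ n := by omega
      rcases h27 with rfl | h27
      · norm_num at hA hC hB
        have hT5 : T ≤ 5 := by
          by_contra h
          push Not at h
          have h6 : (6 : ℝ) ≤ T := by exact_mod_cast h
          nlinarith
        have hT5R : (T : ℝ) ≤ 5 := by exact_mod_cast hT5
        have h8 : (d : ℝ) * 7 ≤ T * 8 := by linarith
        have h9 : (d : ℝ) < 6 := by linarith
        have h10 : d ≤ 5 := by
          have : d < 6 := by exact_mod_cast h9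
          omega
        have h11 : (d : ℝ) ≤ 5 := by exact_mod_cast h10
        nlinarith
      · have hq27 : (27 : ℝ) ≤ (3 : ℝ) ^ n := by
          calc (27 : ℝ) = 3 ^ 3 := by norm_num
            _ ≤ 3 ^ n := pow_le_pow_right₀ (by norm_num) h27
        push_cast at hA hC hB hqp
        set q : ℝ := (3 : ℝ) ^ n with hq
        have h8 : (d : ℝ) * (q - 2) ≤ T * (q - 1) := by linarith
        have hT0 : 0 < (T : ℝ) := by
          have h9 : 0 < (d : ℝ) * (q - 2) := by
            apply mul_pos (by linarith) (by linarith)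
          have h10 : 0 < T * (q - 1) := by linarith
          exact (pos_iff_pos_of_mul_pos h10).2 (by linarith)
        -- 25 d ≤ 26 T
        have h9 : 25 * (d : ℝ) ≤ 26 * T := by
          by_contra h
          push Not at h
          -- d (q-2) ≤ T(q-1) < (25/26) d (q-1)
          have h10 : T * (q - 1) < (25 / 26) * d * (q - 1) := by
            apply mul_lt_mul_of_pos_right _ (by linarith)
            linarith
          have h11 : (d : ℝ) * (q - 2) < (25 / 26) * d * (q - 1) := by linarith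
          have h12 : (d : ℝ) * (q - 2) < d * ((25 / 26) * (q - 1)) := by linarith
          have h13 := lt_of_mul_lt_mul_left h12 (by linarith)
          linarith
        -- q * 51 < 78 d
        have h10 : q * 51 < 78 * d := by
          have h11 : q * (51 * d) < 78 * d * d := by
            have h12 : q * (51 * d) ≤ 26 * (q * (d + T)) := by
              have h13 : q * (51 * (d : ℝ)) ≤ q * (26 * (d + T)) :=
                mul_le_mul_of_nonneg_left (by linarith) (by linarith)
              linarith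
            nlinarith
          have h14 : q * 51 * d < 78 * d * d := by linarith
          exact lt_of_mul_lt_mul_right h14 (by linarith)
        have h11 : q * (51 * 25) < 78 * 26 * T := by linarith
        have h12 : (q * (51 * 25)) ^ 2 < (78 * 26 * T) ^ 2 := by
          apply pow_lt_pow_left₀ h11 (by linarith) two_ne_zero
        have h13 : (T : ℝ) ^ 2 ≤ 4 * q := by linarith
        nlinarith
    · -- p = 5
      rcases Nat.lt_or_ge n 2 with hn2 | hn2
      · have hn1 : n = 1 := by omega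
        subst hn1
        norm_num at hA hC hB
        have hcase : e = 2 ∨ e = 3 ∨ e = 4 := by omega
        rcases hcase with rfl | rfl | rfl
        · norm_num at hA hC
          have hT5 : (T : ℝ) < 5 := by nlinarith
          have h8 : (d : ℝ) < 3 := by linarith
          have h9 : (d : ℝ) ≤ 2 := by
            have : d < 3 := by exact_mod_cast h8
            have : d ≤ 2 := by omega
            exact_mod_cast this
          nlinarith
        · norm_num at hA hC
          have hT5 : (T : ℝ) < 7 := by nlinarith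
          have h8 : (d : ℝ) < 3 := by linarith
          have h9 : (d : ℝ) ≤ 2 := by
            have : d < 3 := by exact_mod_cast h8
            have : d ≤ 2 := by omega
            exact_mod_cast this
          nlinarith
        · norm_num at hA hC
          have hT5 : (T : ℝ) ≤ 8 := by nlinarith
          have h8 : (d : ℝ) < 3 := by linarith
          have h9 : (d : ℝ) ≤ 2 := by
            have : d < 3 := by exact_mod_cast h8
            have : d ≤ 2 := by omega
            exact_mod_cast this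
          nlinarith
      · apply general
        have hq25 : (25 : ℝ) ≤ (5 : ℝ) ^ n := by
          calc (25 : ℝ) = 5 ^ 2 := by norm_num
            _ ≤ 5 ^ n := pow_le_pow_right₀ (by norm_num) hn2
        push_cast
        norm_num
        linarith
  · apply general
    have hp7 : (7 : ℝ) ≤ p := by exact_mod_cast h7
    have hq7 : (7 : ℝ) ≤ (p : ℝ) ^ n := hp7.trans hqp
    have e1 : 5 * ((p : ℝ) - 1) ≤ 6 * ((p : ℝ) - 2) := by linarith
    have e2 : 4 * (p : ℝ) ≤ 7 * ((p : ℝ) - 3) := by linarith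
    have e3 : (5 * ((p : ℝ) - 1)) * (4 * p) ≤ (6 * ((p : ℝ) - 2)) * (7 * ((p : ℝ) - 3)) :=
      mul_le_mul e1 e2 (by positivity) (by linarith)
    have e4 : ((5 * ((p : ℝ) - 1)) * (4 * p)) ^ 2 ≤ ((6 * ((p : ℝ) - 2)) * (7 * ((p : ℝ) - 3))) ^ 2 := by
      apply pow_le_pow_left₀ _ e3
      have : 0 ≤ (p : ℝ) - 1 := by linarith
      positivity
    have e5 : 0 ≤ ((p : ℝ) - 2) ^ 2 * ((p : ℝ) - 3) ^ 2 := by positivity
    have e6 : 7 * (((p : ℝ) - 2) ^ 2 * ((p : ℝ) - 3) ^ 2) ≤ (p : ℝ) ^ n * (((p : ℝ) - 2) ^ 2 * ((p : ℝ) - 3) ^ 2) :=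
      mul_le_mul_of_nonneg_right hq7 e5
    calc ((p : ℝ) - 1) ^ 2 * p ^ 2 = (1 / 400) * ((5 * ((p : ℝ) - 1)) * (4 * p)) ^ 2 := by ring
      _ ≤ (1 / 400) * ((6 * ((p : ℝ) - 2)) * (7 * ((p : ℝ) - 3))) ^ 2 := by linarith
      _ = (441 / 100) * (((p : ℝ) - 2) ^ 2 * ((p : ℝ) - 3) ^ 2) := by ring
      _ ≤ 7 * (((p : ℝ) - 2) ^ 2 * ((p : ℝ) - 3) ^ 2) := by linarith
      _ ≤ (p : ℝ) ^ n * (((p : ℝ) - 2) ^ 2 * ((p : ℝ) - 3) ^ 2) := e6
      _ = _ := by ring

variable {G : Type u} [Group G] {p n : ℕ}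

theorem sum_P [Finite G] [Fintype G] [DecidableEq G] (P : Subgroup G) [Fintype P] [DecidablePred (· ∈ P)] (f : G → ℝ) :
    ∑ u : P, f u = f 1 + ∑ u ∈ Finset.univ.filter (fun u : G => u ∈ P ∧ u ≠ 1), f u := by
  have h1 : ∑ u : P, f u = ∑ u ∈ Finset.univ.filter (fun u : G => u ∈ P), f u := by
    symm
    apply Finset.sum_subtype
    intro u
    rw [Finset.mem_filter]
    exact ⟨fun h => h.2, fun h => ⟨Finset.mem_univ _, h⟩⟩
  have h2 : Finset.univ.filter (fun u : G => u ∈ P) = insert 1 (Finset.univ.filter (fun u : G => u ∈ P ∧ u ≠ 1)) := by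
    ext u
    rw [Finset.mem_insert, Finset.mem_filter, Finset.mem_filter]
    constructor
    · rintro ⟨_, h⟩
      by_cases hu : u = 1
      · exact Or.inl hu
      · exact Or.inr ⟨Finset.mem_univ _, h, hu⟩
    · rintro (h | h)
      · rw [h]; exact ⟨Finset.mem_univ _, one_mem P⟩
      · exact ⟨h.1, h.2.1⟩
  rw [h1, h2, Finset.sum_insert]
  rw [Finset.mem_filter]
  rintro ⟨_, _, h⟩
  exact h rfl

open scoped Classical in
theorem conj_of_en {x : G} (h : p - 1 ≤ en p x) : ∀ j ∈ Finset.Ico 1 p, IsConj x (x ^ j) := by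
  intro j hj
  have h0 : (Finset.Ico 1 p).card ≤ ((Finset.Ico 1 p).filter (fun j => IsConj x (x ^ j))).card := by
    rw [Nat.card_Ico]; exact h
  have h2 := Finset.eq_of_subset_of_card_le (Finset.filter_subset (fun j => IsConj x (x ^ j)) (Finset.Ico 1 p)) h0
  rw [← h2, Finset.mem_filter] at hj
  exact hj.2

/-- cyclic Sylow subgroups in simple groups -/
theorem cyclic_simple [Finite G] [IsSimpleGroup G] [hp : Fact p.Prime] (hp2 : p ≠ 2)
    (hG : ¬ ∀ a b : G, a * b = b * a) (P : Sylow p G) (hc : IsCyclic (P : Subgroup G)) {x : G}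
    (hx : orderOf x = p) (hxP : x ∈ (P : Subgroup G)) (hpair : PairCond p x) : False := by
  classical
  obtain ⟨n, hn⟩ := IsPGroup.iff_card.1 P.isPGroup'
  have hp1 := hp.out.one_lt
  have hx1 : x ≠ 1 := by
    rintro rfl
    rw [orderOf_one] at hx; omega
  have hn0 : n ≠ 0 := by
    rintro rfl
    rw [pow_zero, card_eq_one] at hn
    rw [hn, mem_bot] at hxP
    exact hx1 hxP
  have he2 := PairChar6.two_le_en hG P hc hx hxP
  have hep : en p x ≤ p - 1 := by
    rw [en]
    refine (Finset.card_filter_le _ _).trans ?_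
    rw [Nat.card_Ico]
  have hcP : ∀ u ∈ (P : Subgroup G), u ≠ 1 → CentComp p (p ^ n) u := fun u hu hu1 =>
    PairChar6.centComp_cyc P hn hc hu hu1
  have hone : ∀ u : G, orderOf u = p → ∃ l ∈ Finset.Ico 1 p, IsConj u (x ^ l) := by
    intro u hu
    have h1 : IsPGroup p (zpowers u) := IsPGroup.of_card (n := 1) (by rw [Nat.card_zpowers, hu, pow_one])
    obtain ⟨g, hg⟩ := exists_conj_sylow P h1
    have h2 := hg u (mem_zpowers u)
    have h3 : orderOf (g⁻¹ * u * g) = p := by
      have := BlockThird.orderOf_conj u g⁻¹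
      rw [inv_inv] at this
      rw [this, hu]
    obtain ⟨l, hl, hl'⟩ := PairChar6.exists_pow_eq hc hx hxP h3 h2
    refine ⟨l, hl, ?_⟩
    rw [← hl']
    exact isConj_iff.2 ⟨g⁻¹, by rw [inv_inv]⟩
  have hC : ∀ u : G, orderOf u = p → CentComp p (p ^ n) u := by
    intro u hu
    obtain ⟨l, hl, hl'⟩ := hone u hu
    have h1 : orderOf (x ^ l) = p := orderOf_pow_of_mem hp.out hx hl
    have h2 : CentComp p (p ^ n) (x ^ l) := hcP _ (pow_mem hxP l) (by
      intro h; rw [h, orderOf_one] at h1; omega)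
    obtain ⟨g, hg⟩ := isConj_iff.1 hl'.symm
    rw [← hg]
    exact PairChar4.CentComp.conj h2 g
  by_cases h31 : p = 3 ∧ n = 1
  · -- everything is conjugate
    obtain ⟨hp3, hn1⟩ := h31
    have hall : ∀ j ∈ Finset.Ico 1 p, IsConj x (x ^ j) := conj_of_en (by rw [hp3]; rw [hp3] at he2; exact he2)
    refine PairChar4.one_class hp2 hx (P : Subgroup G) hn hn0 ?_ hC ?_ hpair
    · intro y hy hy1
      have hyo : orderOf y = p := by
        have h1 : orderOf (⟨y, hy⟩ : (P : Subgroup G)) ∣ Nat.card (P : Subgroup G) := orderOf_dvd_natCard _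
        rw [Subgroup.orderOf_mk, hn, hn1, pow_one] at h1
        rcases (Nat.dvd_prime hp.out).1 h1 with h2 | h2
        · exact absurd (orderOf_eq_one_iff.1 h2) hy1
        · exact h2
      obtain ⟨l, hl, hl'⟩ := PairChar6.exists_pow_eq hc hx hxP hyo hy
      rw [hl']
      exact hall l hl
    · intro u hu
      obtain ⟨l, hl, hl'⟩ := hone u hu
      exact (hall l hl).trans hl'.symm
  -- the character theoretic part
  haveI := Fintype.ofFinite G
  obtain ⟨M, hM⟩ := H76Char.exists_isPModular p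
  haveI := hM.2.1.isPrime
  have e1 := sum_TT_sq hM hx hC
  have e3 := main_ineq hM hx hC hone hpair
  have ht : triv G ∈ PB M G := mem_PB.2 triv_mem
  have hdt : charDegree ((triv G : IrrCharacter G) : G → ℂ) = 1 := by
    have : ((charDegree ((triv G : IrrCharacter G) : G → ℂ) : ℕ) : ℂ) = 1 := BlockDeg.charDegree_cast_irr (triv G)
    exact_mod_cast this
  rw [← Finset.add_sum_erase _ _ ht, TT_triv hp.out] at e1 e3
  rw [hdt] at e3
  set e := en p x with he
  have hpR : (3 : ℝ) ≤ p := by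
    have h1 := hp.out.two_le
    have : 3 ≤ p := by omega
    exact_mod_cast this
  have heR : (2 : ℝ) ≤ e := by exact_mod_cast he2
  have hqR : (p : ℝ) ≤ (p : ℝ) ^ n := by
    have := Nat.le_self_pow hn0 p
    exact_mod_cast this
  push_cast at e1 e3
  have hZ : (0 : ℝ) < (p : ℝ) ^ n * e - (p - 1) := by nlinarith
  obtain ⟨χ, hχ, hT0, hA⟩ := exists_big ((PB M G).erase (triv G)) (fun χ => (TT p x χ).re)
    (fun χ => charDegree (χ : G → ℂ)) (fun χ _ => BlockDeg.charDegree_pos χ.2) (m := (p : ℝ) - 1)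
    (Z := (p : ℝ) ^ n * e - (p - 1)) (R := ((p : ℝ) - 2) * ((p : ℝ) ^ n * e - (p - 1)) - (p - 1))
    (by linarith) hZ (by linarith) (by
      have h1 : ((p : ℝ) - 1) ^ 3 / 1 = ((p : ℝ) - 1) ^ 3 := div_one _
      rw [h1] at e3
      linarith)
  beta_reduce at hT0 hA
  have hsqle : (TT p x χ).re ^ 2 ≤ ((p : ℝ) - 1) * ((p : ℝ) ^ n * e - (p - 1)) := by
    have h1 := Finset.single_le_sum (s := (PB M G).erase (triv G)) (f := fun χ => (TT p x χ).re ^ 2)
      (fun j _ => sq_nonneg _) hχ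
    beta_reduce at h1
    linarith
  obtain ⟨α, hα⟩ := exists_mult hp.out hx χ.2.isCharacter
  set d := charDegree (χ : G → ℂ) with hd
  have hd1 : (χ : G → ℂ) 1 = d := (BlockDeg.charDegree_cast_irr χ).symm
  have hχ' := Finset.mem_erase.1 hχ
  have hne : (χ : G → ℂ) x ≠ (χ : G → ℂ) 1 := by
    intro h
    exact hχ'.1 (Subtype.ext (H55WeakGrp.eq_one_of_simple hx1 χ.2 h))
  have hmult := PairChar5.mult_le hx χ.2.isCharacter hne hd1 hα
  -- T is an integer
  have hTint : (TT p x χ).re = (((p : ℤ) * α - d : ℤ) : ℝ) := by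
    rw [← TT, hd1] at hα
    have h1 : TT p x χ = (((p : ℤ) * α - d : ℤ) : ℂ) := by
      push_cast
      rw [hα]; ring
    rw [h1, Complex.intCast_re]
  rw [hTint] at hT0 hA hsqle
  -- Bessel
  have hbes := PairChar5.bessel hM (P : Subgroup G) P.isPGroup' hcP (e := e) (by omega)
    (fun u hu hu1 => by
      have := PairChar6.fus_bound P hc hx hxP hu hu1
      exact this) hχ'.2
  haveI := Fintype.ofFinite (P : Subgroup G)
  have hpar := PairChar5.deg_le (P : Subgroup G)
    (fun a b => Subtype.ext (PairChar6.cyc_comm hc a a.2 b b.2)) χ.2.isCharacter hd1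
  rw [sum_P (P : Subgroup G) (fun u => ‖(χ : G → ℂ) u‖ ^ 2), hd1, Complex.norm_natCast, hn] at hpar
  have hB : (p : ℝ) ^ n * (d + (((p : ℤ) * α - d : ℤ) : ℝ)) < p * (d : ℝ) ^ 2 := by
    have h1 : (α : ℝ) + e ≤ d := by exact_mod_cast hmult
    have hq0 : (0 : ℝ) < (p : ℝ) ^ n := by positivity
    have h2 : (p : ℝ) ^ n * (α + e) ≤ (p : ℝ) ^ n * d := mul_le_mul_of_nonneg_left h1 hq0.le
    push_cast at hpar hbes ⊢
    have h3 : (p : ℝ) ^ n * α < (d : ℝ) ^ 2 := by
      have h4 : (p : ℝ) ^ n * d < (d : ℝ) ^ 2 + (p : ℝ) ^ n * e := lt_of_le_of_lt hpar (by linarith)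
      linarith
    have h5 : (0 : ℝ) < p := by linarith
    have h6 := mul_lt_mul_of_pos_left h3 h5
    calc (p : ℝ) ^ n * (d + (p * α - d)) = p * ((p : ℝ) ^ n * α) := by ring
      _ < _ := h6
  refine num_final (p := p) (n := n) (e := e) (d := d) (T := (p : ℤ) * α - d) hp.out hp2 hn0 he2 hep
    (fun h3 hn1 => h31 ⟨h3, hn1⟩) (BlockDeg.charDegree_pos χ.2) (by exact_mod_cast hT0) hA hsqle hB

end Cfsg.Agent.Lib.PairChar7
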