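import Cfsg.Agent.Lib.PairChar7
import Cfsg.Agent.Lib.PLength

/-!
`p`-solvability with cyclic Sylow subgroups, detected on pairs of elements of order `p`.
-/

set_option autoImplicit false

namespace Cfsg.Agent.Lib.PairChar8

open Cfsg Cfsg.Agent.Lib.PairChar1 Cfsg.Agent.Lib.PairChar2 Cfsg.Agent.Lib.PairChar3 Subgroup

universe u

variable {G : Type u} [Group G] {p : ℕ}

/-- all `p`-subgroups are cyclic -/
def CycSyl (p : ℕ) (G : Type u) [Group G] : Prop := ∀ Q : Subgroup G, IsPGroup p Q → IsCyclic Q

/-- pairs of elements of order `p` generate `p`-solvable subgroups -/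
def PairSolv (p : ℕ) (G : Type u) [Group G] : Prop :=
  ∀ x y : G, orderOf x = p → orderOf y = p → IsPSolvable p ↥(closure ({x, y} : Set G))

theorem isPSolvable_ext [Finite G] [Fact p.Prime] (N : Subgroup G) [N.Normal] (h1 : IsPSolvable p N)
    (h2 : IsPSolvable p (G ⧸ N)) : IsPSolvable p G := by
  obtain ⟨a, ha⟩ := PLength.exists_pLengthLE h1
  obtain ⟨b, hb⟩ := PLength.exists_pLengthLE h2
  exact PLength.isPSolvable_of_pLengthLE (PLength.pLengthLE_add N ha hb)

theorem isPSolvable_of_coprime [Finite G] [Fact p.Prime] (h : (Nat.card G).Coprime p) : IsPSolvable p G :=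
  PLength.isPSolvable_of_pLengthLE (PLength.pLengthLE_zero_iff.2 h)

theorem isPSolvable_of_isPGroup [Finite G] [Fact p.Prime] (h : IsPGroup p G) : IsPSolvable p G := by
  haveI := h.isNilpotent
  haveI : Group.IsSolvable G := inferInstance
  exact PLength.isPSolvable_of_isSolvable

theorem CycSyl.subgroup (h : CycSyl p G) (H : Subgroup G) : CycSyl p H := by
  intro Q hQ
  haveI := h (Q.map H.subtype) (hQ.map _)
  exact isCyclic_of_surjective _ (Q.equivMapOfInjective H.subtype H.subtype_injective).symm.surjective

theorem CycSyl.map [Finite G] [Fact p.Prime] {K : Type u} [Group K] (h : CycSyl p G) (f : G →* K)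
    (hf : Function.Surjective f) : CycSyl p K := by
  haveI : Finite K := Finite.of_surjective f hf
  intro Q hQ
  obtain ⟨R, hR⟩ := hQ.exists_le_sylow
  obtain ⟨S, rfl⟩ := Sylow.mapSurjective_surjective hf p R
  rw [Sylow.coe_mapSurjective] at hR
  haveI := h S S.isPGroup'
  haveI : IsCyclic ((S : Subgroup G).map f) :=
    isCyclic_of_surjective (f.subgroupMap (S : Subgroup G)) (f.subgroupMap_surjective _)
  exact isCyclic_of_injective _ (inclusion_injective hR)

theorem cycSyl_of [Finite G] [Fact p.Prime] (P : Sylow p G) (hP : IsCyclic (P : Subgroup G)) : CycSyl p G := by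
  intro Q hQ
  obtain ⟨g, hg⟩ := exists_conj_sylow P hQ
  let f : Q →* (P : Subgroup G) :=
    { toFun := fun c => ⟨g⁻¹ * c * g, hg c c.2⟩
      map_one' := by apply Subtype.ext; simp
      map_mul' := fun a b => by apply Subtype.ext; simp only [Subgroup.coe_mul]; group }
  have hf : Function.Injective f := by
    intro a b hab
    have h1 : g⁻¹ * (a : G) * g = g⁻¹ * (b : G) * g := congrArg Subtype.val hab
    exact Subtype.ext (mul_left_cancel (mul_right_cancel h1))
  exact isCyclic_of_injective f hf

theorem PairSolv.subgroup [Fact p.Prime] (h : PairSolv p G) (H : Subgroup G) : PairSolv p H := by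
  intro x y hx hy
  have h1 := h x y (by rw [← hx, Subgroup.orderOf_coe]) (by rw [← hy, Subgroup.orderOf_coe])
  have h2 : (closure ({x, y} : Set H)).map H.subtype = closure ({(x : G), (y : G)} : Set G) := by
    rw [MonoidHom.map_closure, Set.image_pair]; rfl
  rw [← h2] at h1
  exact H32PSolv.isPSolvable_map h1 ((closure ({x, y} : Set H)).equivMapOfInjective H.subtype
    H.subtype_injective).symm.toMonoidHom
    ((closure ({x, y} : Set H)).equivMapOfInjective H.subtype H.subtype_injective).symm.surjective

/-- elements of order `p` lift modulo a `p'`-group -/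
theorem exists_lift [Finite G] [hp : Fact p.Prime] (N : Subgroup G) [N.Normal] (hN : (Nat.card N).Coprime p)
    {x : G ⧸ N} (hx : orderOf x = p) : ∃ y : G, orderOf y = p ∧ QuotientGroup.mk' N y = x := by
  obtain ⟨g, rfl⟩ := QuotientGroup.mk'_surjective N x
  have h1 : g ^ p ∈ N := by
    rw [← QuotientGroup.eq_one_iff]
    have : (QuotientGroup.mk' N g) ^ p = 1 := by rw [← hx, pow_orderOf_eq_one]
    rw [← map_pow] at this
    exact this
  have h2 : g ^ (p * Nat.card N) = 1 := by
    rw [pow_mul]
    exact congrArg Subtype.val (pow_card_eq_one' (G := N) (x := ⟨_, h1⟩))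
  -- choose `m ≡ 1 mod p`, `m ≡ 0 mod |N|`
  obtain ⟨m, hm1, hm2⟩ := Nat.chineseRemainder hN.symm 1 0
  have hmd : Nat.card N ∣ m := (Nat.modEq_zero_iff_dvd.1 hm2)
  refine ⟨g ^ m, ?_, ?_⟩
  · have h3 : (g ^ m) ^ p = 1 := by
      obtain ⟨c, rfl⟩ := hmd
      rw [← pow_mul]
      have : Nat.card N * c * p = p * Nat.card N * c := by ring
      rw [this, pow_mul, h2, one_pow]
    refine orderOf_eq_prime h3 ?_
    intro h4
    have h5 : (QuotientGroup.mk' N g) ^ m = 1 := by rw [← map_pow, h4, map_one]
    rw [← orderOf_dvd_iff_pow_eq_one, hx] at h5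
    have h6 : 1 ≡ 0 [MOD p] := hm1.symm.trans (Nat.modEq_zero_iff_dvd.2 h5)
    rw [Nat.modEq_zero_iff_dvd, Nat.dvd_one] at h6
    exact hp.out.ne_one h6
  · rw [map_pow]
    have h5 : (QuotientGroup.mk' N g) ^ m = (QuotientGroup.mk' N g) ^ 1 := by
      rw [pow_eq_pow_iff_modEq, hx]; exact hm1
    rw [h5, pow_one]

theorem PairSolv.quotient [Finite G] [Fact p.Prime] (h : PairSolv p G) (N : Subgroup G) [N.Normal]
    (hN : (Nat.card N).Coprime p) : PairSolv p (G ⧸ N) := by
  intro x y hx hy
  obtain ⟨x, hx', rfl⟩ := exists_lift N hN hx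
  obtain ⟨y, hy', rfl⟩ := exists_lift N hN hy
  have h1 := h x y hx' hy'
  have h2 : (closure ({x, y} : Set G)).map (QuotientGroup.mk' N) =
      closure ({QuotientGroup.mk' N x, QuotientGroup.mk' N y} : Set (G ⧸ N)) := by
    rw [MonoidHom.map_closure, Set.image_pair]
  rw [← h2]
  exact H32PSolv.isPSolvable_map h1 ((QuotientGroup.mk' N).subgroupMap (closure ({x, y} : Set G)))
    ((QuotientGroup.mk' N).subgroupMap_surjective _)

/-- a nontrivial normal `p`-subgroup -/
theorem of_pCore [Finite G] [hp : Fact p.Prime] (hcyc : CycSyl p G) (hO : pCore p G ≠ ⊥) : IsPSolvable p G := by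
  classical
  obtain ⟨P⟩ : Nonempty (Sylow p G) := inferInstance
  have hPc := hcyc (P : Subgroup G) P.isPGroup'
  obtain ⟨w, hw, hw1⟩ := (Subgroup.bot_or_exists_ne_one (pCore p G)).resolve_left hO
  obtain ⟨k, hk⟩ := PairChar6.exists_order_p (Cores.isPGroup_pCore p G) hw hw1
  set z := w ^ k with hz
  have hzO : z ∈ pCore p G := pow_mem hw k
  have hzP : z ∈ (P : Subgroup G) := Cores.pCore_le_sylow P hzO
  have hz1 : z ≠ 1 := by
    intro h; rw [h, orderOf_one] at hk; exact hp.out.ne_one hk.symm
  haveI hOn : (pCore p G).Normal := by infer_instance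
  have hzn : (zpowers z).Normal := by
    constructor
    intro y hy g
    obtain ⟨i, rfl⟩ := mem_zpowers_iff.1 hy
    have h1 : g * z * g⁻¹ ∈ zpowers z := by
      apply PGroupRankThree.mem_zpowers_of_isCyclic_subgroup hPc hzP
        (Cores.pCore_le_sylow P (hOn.conj_mem z hzO g))
      rw [BlockThird.orderOf_conj]
    have h2 : g * z ^ i * g⁻¹ = (g * z * g⁻¹) ^ i := by rw [conj_zpow]
    rw [h2]
    exact zpow_mem h1 i
  have hC : centralizer ({z} : Set G) = centralizer ((zpowers z : Subgroup G) : Set G) := by
    ext c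
    rw [mem_centralizer_singleton_iff, mem_centralizer_iff]
    constructor
    · rintro h y hy
      obtain ⟨i, rfl⟩ := mem_zpowers_iff.1 hy
      have hcz : Commute c z := h
      exact (hcz.zpow_right i).symm
    · intro h
      exact (h z (mem_zpowers z)).symm
  haveI : (centralizer ({z} : Set G)).Normal := by rw [hC]; infer_instance
  have hPC := PairChar6.le_cent P (PairChar6.cyc_comm hPc) hzP
  obtain ⟨N, hN, hNp, hNP⟩ := PairChar6.compl_of (P.subtype hPC) (PairChar6.centPC P hPc hzP hz1)
  have h1 : IsPSolvable p ↥(centralizer ({z} : Set G)) := by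
    haveI := hN
    refine isPSolvable_ext N (isPSolvable_of_coprime ((Nat.Prime.coprime_iff_not_dvd hp.out).2 hNp).symm) ?_
    apply isPSolvable_of_isPGroup
    obtain ⟨m, hm⟩ := IsPGroup.iff_card.1 (P.subtype hPC).isPGroup'
    refine IsPGroup.of_card (n := m) ?_
    rw [← hm, ← hNP.symm.index_eq_card]
    rfl
  refine isPSolvable_ext (centralizer ({z} : Set G)) h1 (isPSolvable_of_coprime ?_)
  have h2 : ¬ p ∣ (centralizer ({z} : Set G)).index := fun hd =>
    P.not_dvd_index (hd.trans (index_dvd_of_le hPC))
  exact ((Nat.Prime.coprime_iff_not_dvd hp.out).2 h2).symm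

theorem not_comm_of_simple [Finite G] [IsSimpleGroup G] [Fact p.Prime] (h : ¬ IsPSolvable p G) :
    ¬ ∀ a b : G, a * b = b * a := by
  intro hab
  apply h
  haveI : Group.IsSolvable G := Group.isSolvable_of_comm hab
  exact PLength.isPSolvable_of_isSolvable

theorem main_aux [hp : Fact p.Prime] : ∀ (m : ℕ) (G : Type u) [Group G] [Finite G], Nat.card G ≤ m →
    CycSyl p G → PairSolv p G → IsPSolvable p G := by
  intro m
  induction m with
  | zero => intro G _ _ hG; exact absurd hG (by have := Nat.card_pos (α := G); omega)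
  | succ m ih =>
    intro G _ _ hG hcyc hpair
    by_contra hns
    -- no normal `p'`-subgroup, no normal `p`-subgroup
    have hO : pCore p G = ⊥ := by
      by_contra h
      exact hns (of_pCore hcyc h)
    have hO' : pPrimeCore p G = ⊥ := by
      by_contra h
      have hcop := Cores.coprime_card_pPrimeCore p G
      apply hns
      refine isPSolvable_ext (pPrimeCore p G) (isPSolvable_of_coprime hcop) ?_
      refine ih (G ⧸ pPrimeCore p G) ?_ (hcyc.map _ (QuotientGroup.mk'_surjective _)) (hpair.quotient _ hcop)
      have h1 := card_eq_card_quotient_mul_card_subgroup (pPrimeCore p G)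
      have h2 : 1 < Nat.card (pPrimeCore p G) := one_lt_card_iff_ne_bot _ |>.2 h
      have h3 : 0 < Nat.card (G ⧸ pPrimeCore p G) := Nat.card_pos
      have h4 : Nat.card (G ⧸ pPrimeCore p G) < Nat.card G := by
        rw [h1]; exact lt_mul_of_one_lt_right h3 h2
      omega
    -- simplicity
    have hnt : Nontrivial G := by
      by_contra h
      rw [not_nontrivial_iff_subsingleton] at h
      apply hns
      apply isPSolvable_of_coprime
      rw [Nat.card_of_subsingleton (1 : G)]
      exact Nat.coprime_one_left p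
    haveI hsimple : IsSimpleGroup G := by
      refine ⟨fun N hN => ?_⟩
      by_contra hcon
      push Not at hcon
      have hlt : Nat.card N < Nat.card G := by
        refine lt_of_le_of_ne (card_le_card_group N) fun h => hcon.2 ?_
        exact (card_eq_iff_eq_top N).1 h
      have h1 := ih N (by omega) (hcyc.subgroup N) (hpair.subgroup N)
      have h2 : pPrimeCore p N = ⊥ := by
        have := Cores.map_pPrimeCore_subtype_le p N
        rw [hO', le_bot_iff, Subgroup.map_eq_bot_iff_of_injective _ N.subtype_injective] at this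
        exact this
      have h3 : pCore p N = ⊥ := by
        have := Cores.map_pCore_subtype_le p N
        rw [hO, le_bot_iff, Subgroup.map_eq_bot_iff_of_injective _ N.subtype_injective] at this
        exact this
      have h4 := H32PSolv.centralizer_pCore_le h1 h2
      rw [h3] at h4
      apply hcon.1
      rw [eq_bot_iff]
      intro a ha
      have h5 : (⟨a, ha⟩ : N) ∈ (⊥ : Subgroup N) := h4 (by
        rw [mem_centralizer_iff]
        intro b hb
        rw [SetLike.mem_coe, mem_bot] at hb
        rw [hb, one_mul, mul_one])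
      rw [mem_bot] at h5 ⊢
      exact congrArg Subtype.val h5
    have hnc := not_comm_of_simple (p := p) hns
    obtain ⟨P⟩ : Nonempty (Sylow p G) := inferInstance
    have hPc := hcyc (P : Subgroup G) P.isPGroup'
    have hdvd : p ∣ Nat.card G := by
      by_contra h
      exact hns (isPSolvable_of_coprime ((Nat.Prime.coprime_iff_not_dvd hp.out).2 h).symm)
    have hPne : (P : Subgroup G) ≠ ⊥ := P.ne_bot_of_dvd_card hdvd
    by_cases hp2 : p = 2
    · subst hp2
      have hmin : (Nat.card G).minFac = 2 := by
        rw [Nat.minFac_eq_two_iff]; exact hdvd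
      have hN := IsCyclic.normalizer_le_centralizer hmin hPc
      have hcomp := MonoidHom.ker_transferSylow_isComplement' P hN
      set K := (MonoidHom.transferSylow P hN).ker
      have hK : K.Normal := inferInstance
      rcases hK.eq_bot_or_eq_top with h | h
      · rw [h, isComplement'_bot_left] at hcomp
        exact hnc fun a b => PairChar6.cyc_comm hPc a (by rw [hcomp]; trivial) b (by rw [hcomp]; trivial)
      · rw [h, isComplement'_top_left] at hcomp
        exact hPne hcomp
    · obtain ⟨w, hw, hw1⟩ := (Subgroup.bot_or_exists_ne_one (P : Subgroup G)).resolve_left hPne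
      obtain ⟨k, hk⟩ := PairChar6.exists_order_p P.isPGroup' hw hw1
      have hab : AbSyl p G := abSyl_of_sylow P (PairChar6.cyc_comm hPc)
      exact PairChar7.cyclic_simple hp2 hnc P hPc hk (pow_mem hw k) (pairCond_of hab hk hpair)

end Cfsg.Agent.Lib.PairChar8
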