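import Cfsg.Agent.Lib.Subsec
import Cfsg.Agent.Lib.InducedPair

/-!
# The norm form of a subsection: transport to arbitrary presentations of the centralizer
-/

set_option autoImplicit false
set_option linter.all false

namespace Cfsg.Agent.Lib.SubsecNorm

open Cfsg Cfsg.Agent.Lib.BlockRing Cfsg.Agent.Lib.BlockGA Cfsg.Agent.Lib.BlockIdem
open Cfsg.Agent.Lib.BlockOsima Cfsg.Agent.Lib.BlockPair Cfsg.Agent.Lib.Contrib
open Cfsg.Agent.Lib.CharBasic Cfsg.Agent.Lib.BlockSecond Cfsg.Agent.Lib.BlockCount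
open Cfsg.Agent.Lib.Subsec
open scoped ComplexConjugate Classical

universe u

variable {G : Type u} [Group G] [Finite G] {p : ℕ} {M : Ideal AlgInt}

theorem centralizer_zpowers (u : G) :
    Subgroup.centralizer ((Subgroup.zpowers u : Subgroup G) : Set G) = Subgroup.centralizer ({u} : Set G) := by
  ext g
  rw [Subgroup.mem_centralizer_iff, Subgroup.mem_centralizer_singleton_iff]
  constructor
  · intro h
    exact (h u (Subgroup.mem_zpowers u)).symm
  · rintro h x ⟨n, rfl⟩
    have h1 : Commute g u := h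
    exact (h1.zpow_right n).symm.eq

/-- The block part of the section at the inverse. -/
theorem blockPart_inv [Fintype G] {z : G} (b : Set (IrrCharacter (Cz z))) [Fintype (Cz z)]
    (χ : IrrCharacter G) (s : Cz z) :
    blockPart b (fun c : Cz z => (χ : G → ℂ) (z⁻¹ * c)) s⁻¹ =
      conj (blockPart b (fun c : Cz z => (χ : G → ℂ) (z * c)) s) := by
  rw [blockPart_eq, blockPart_eq, map_sum]
  refine Finset.sum_congr rfl fun ξ _ => ?_
  rw [map_mul, ← ξ.2.inv]
  congr 1
  unfold classInner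
  rw [map_mul, map_inv₀, Complex.conj_natCast, map_sum]
  congr 1
  rw [← Equiv.sum_comp (Equiv.inv (Cz z))]
  refine Finset.sum_congr rfl fun c _ => ?_
  rw [map_mul, Complex.conj_conj, Equiv.inv_apply]
  rw [← χ.2.inv, ← ξ.2.inv, inv_inv]
  congr 1
  have h : Commute z (c : G) := mem_Cz.1 c.2
  have h1 : (z⁻¹ * ((c⁻¹ : Cz z) : G)) = (z * (c : G))⁻¹ := by
    rw [mul_inv_rev, Subgroup.coe_inv]
    exact (h.inv_inv).eq
  show (χ : G → ℂ) (z⁻¹ * ((c⁻¹ : Cz z) : G)) = _
  rw [h1]

/-- Sum of the norms of a subsection. -/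
theorem sum_norm [Fintype G] (hM : IsPModular p M) {z : G} {k : ℕ} (hz : orderOf z = p ^ k)
    {b : Set (IrrCharacter (Cz z))} {B : Set (IrrCharacter G)} (hind : IsInducedBlock M (Cz z) b B) :
    ∑ᶠ χ ∈ B, ∑ᶠ s : Cz z, pRegularPart p (blockPart b (fun c : Cz z => (χ : G → ℂ) (z * c))) s *
      blockPart b (fun c : Cz z => (χ : G → ℂ) (z⁻¹ * c)) s⁻¹ =
      (Nat.card (Cz z) : ℂ) * (blockRank p b : ℂ) := by
  have := Fintype.ofFinite (Cz z)
  rw [finsum_mem_eq_finite_toFinset_sum _ (Set.toFinite _), ← sec_trace hM hz hind, Finset.mul_sum]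
  refine Finset.sum_congr rfl fun χ _ => ?_
  have hH : (Nat.card (Cz z) : ℂ) ≠ 0 := Nat.cast_ne_zero.mpr Nat.card_pos.ne'
  rw [finsum_eq_sum_of_fintype, classInner, mul_inv_cancel_left₀ hH]
  refine Finset.sum_congr rfl fun s _ => ?_
  rw [blockPart_inv]
  by_cases hs : p ∣ orderOf s
  · rw [D_not_reg hs, pRegularPart, if_neg (fun h => h hs)]
    simp
  · rw [D_reg hs, pRegularPart, if_pos (show IsPRegular p s from hs)]

theorem sum_norm' [Fintype G] (hM : IsPModular p M) {z : G} {k : ℕ} (hz : orderOf z = p ^ k)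
    (H : Subgroup G) (hH : H = Subgroup.centralizer ({z} : Set G))
    {b : Set (IrrCharacter H)} {B : Set (IrrCharacter G)} (hind : IsInducedBlock M H b B) :
    ∑ᶠ χ ∈ B, ∑ᶠ s : H, pRegularPart p (blockPart b (fun c : H => (χ : G → ℂ) (z * c))) s *
      blockPart b (fun c : H => (χ : G → ℂ) (z⁻¹ * c)) s⁻¹ =
      (Nat.card H : ℂ) * (blockRank p b : ℂ) := by
  subst hH
  exact sum_norm hM hz hind

end Cfsg.Agent.Lib.SubsecNorm
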