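import Cfsg.Agent.Lib.AbFusion
import Cfsg.Agent.Lib.SubsecNorm
import Cfsg.Agent.Lib.BlockPC

/-!
# Counting the characters of a block through its Brauer elements

`k(B) = ∑ l(b)` over the conjugacy classes of Brauer elements `(u, b)` of `B`.
-/

set_option autoImplicit false
set_option linter.all false

namespace Cfsg.Agent.Lib.PairCount

open Cfsg Cfsg.Agent.Lib.BlockRing Cfsg.Agent.Lib.BlockGA Cfsg.Agent.Lib.BlockIdem
open Cfsg.Agent.Lib.BlkIdem Cfsg.Agent.Lib.BlockAlg Cfsg.Agent.Lib.PairAlg Cfsg.Agent.Lib.PairMax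
open Cfsg.Agent.Lib.BrauerPairs Cfsg.Agent.Lib.NormalPBlk Cfsg.Agent.Lib.DefPairs
open Cfsg.Agent.Lib.BlkTransport Cfsg.Agent.Lib.BlkFus Cfsg.Agent.Lib.InducedPair
open Cfsg.Agent.Lib.BlockCount Cfsg.Agent.Lib.BlockPair

universe u v

/-! ### isomorphisms -/

section iso

variable {K : Type u} [Group K] [Finite K] {K' : Type v} [Group K'] [Finite K'] (φ : K ≃* K') {p : ℕ}

omit [Finite K] [Finite K'] in
theorem preg_irrMap (χ : IrrCharacter K) (k : K') :
    preg p (irrMap φ χ : K' → ℂ) k = preg p (χ : K → ℂ) (φ.symm k) := by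
  unfold preg
  rw [irrMap_apply]
  have h : orderOf (φ.symm k) = orderOf k := orderOf_injective φ.symm.toMonoidHom φ.symm.injective k
  rw [h]

theorem blockRank_irrMap (b : Set (IrrCharacter K)) : blockRank p (irrMap φ '' b) = blockRank p b := by
  rw [blockRank_eq, blockRank_eq]
  let e : (K → ℂ) ≃ₗ[ℂ] (K' → ℂ) := LinearEquiv.funCongrLeft ℂ ℂ φ.symm.toEquiv
  have he : ∀ (f : K → ℂ) (k : K'), e f k = f (φ.symm k) := fun f k => rfl
  have h : rsp p (irrMap φ '' b) = (rsp p b).map (e : (K → ℂ) →ₗ[ℂ] (K' → ℂ)) := by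
    rw [rsp, rsp, Submodule.map_span]
    congr 1
    ext f
    constructor
    · rintro ⟨_, ⟨χ, hχ, rfl⟩, rfl⟩
      refine ⟨_, ⟨χ, hχ, rfl⟩, ?_⟩
      funext k
      show preg p (χ : K → ℂ) (φ.symm k) = _
      exact (preg_irrMap φ χ k).symm
    · rintro ⟨_, ⟨χ, hχ, rfl⟩, rfl⟩
      refine ⟨_, ⟨χ, hχ, rfl⟩, ?_⟩
      funext k
      exact preg_irrMap φ χ k
  rw [h]
  exact LinearEquiv.finrank_map_eq e _

omit [Finite K] [Finite K'] in
theorem card_irrMap (b : Set (IrrCharacter K)) : Nat.card (irrMap φ '' b) = Nat.card b :=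
  Nat.card_image_of_injective (irrMap φ).injective b

end iso

/-! ### blocks given by idempotents -/

section blkOf

variable {M : Ideal AlgInt} [hMm : M.IsMaximal] {G : Type u} [Group G] [Finite G]

/-- the block of `H` with idempotent `f` -/
noncomputable def blkOf (M : Ideal AlgInt) [M.IsMaximal] (H : Subgroup G) (f : MonoidAlgebra (Kf M) G) :
    Set (IrrCharacter H) := by
  classical
  exact if h : ∃ b : Set (IrrCharacter H), IsPBlock M b ∧ bid M H b = f then h.choose else ∅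

theorem blkOf_bid {H : Subgroup G} {b : Set (IrrCharacter H)} (hb : IsPBlock M b) :
    blkOf M H (bid M H b) = b := by
  unfold blkOf
  have h : ∃ b' : Set (IrrCharacter H), IsPBlock M b' ∧ bid M H b' = bid M H b := ⟨b, hb, rfl⟩
  rw [dif_pos h]
  exact bid_injective h.choose_spec.1 hb h.choose_spec.2

theorem blkOf_spec {H : Subgroup G} {f : MonoidAlgebra (Kf M) G} (hf : IsBlk H f) :
    IsPBlock M (blkOf M H f) ∧ bid M H (blkOf M H f) = f := by
  obtain ⟨b, hb, rfl⟩ := exists_bid hf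
  rw [blkOf_bid hb]
  exact ⟨hb, rfl⟩

theorem blkOf_cj {K K' : Subgroup G} (x : G) (h : ∀ g, g ∈ K' ↔ x⁻¹ * g * x ∈ K)
    {f : MonoidAlgebra (Kf M) G} (hf : IsBlk K f) :
    blkOf M K' (BrauerMap.cj x f) = irrMap (conjIso x h) '' blkOf M K f := by
  obtain ⟨b, hb, rfl⟩ := exists_bid hf
  rw [blkOf_bid hb, ← bid_irrMap x h, blkOf_bid (isPBlock_irrMap _ hb)]

theorem blkOf_sub {K H : Subgroup G} (hKH : K ≤ H) {f : MonoidAlgebra (Kf M) G} (hf : IsBlk K f) :
    blkOf M (K.subgroupOf H) (res H f) = irrMap (subEquiv hKH) '' blkOf M K f := by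
  obtain ⟨b, hb, rfl⟩ := exists_bid hf
  rw [blkOf_bid hb, ← inc_bid hKH]
  have h1 : res H (inc H (bid M (K.subgroupOf H) (irrMap (subEquiv hKH) '' b))) =
      bid M (K.subgroupOf H) (irrMap (subEquiv hKH) '' b) := by
    apply inc_injective (M := M) H
    rw [inc_res]
    intro g hg
    exact inc_coeff_not_mem _ _ hg
  rw [h1, blkOf_bid (isPBlock_irrMap _ hb)]

/-- the rank of the block of `H` with idempotent `f` -/
noncomputable def lr (p : ℕ) (H : Subgroup G) (f : MonoidAlgebra (Kf M) G) : ℕ := blockRank p (blkOf M H f)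

theorem lr_bid {p : ℕ} {H : Subgroup G} {b : Set (IrrCharacter H)} (hb : IsPBlock M b) :
    lr p H (bid M H b) = blockRank p b := by rw [lr, blkOf_bid hb]

theorem lr_cj {p : ℕ} {K K' : Subgroup G} (x : G) (h : ∀ g, g ∈ K' ↔ x⁻¹ * g * x ∈ K)
    {f : MonoidAlgebra (Kf M) G} (hf : IsBlk K f) : lr p K' (BrauerMap.cj x f) = lr p K f := by
  rw [lr, lr, blkOf_cj x h hf, blockRank_irrMap]

theorem lr_sub {p : ℕ} {K H : Subgroup G} (hKH : K ≤ H) {f : MonoidAlgebra (Kf M) G} (hf : IsBlk K f) :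
    lr p (K.subgroupOf H) (res H f) = lr p K f := by
  rw [lr, lr, blkOf_sub hKH hf, blockRank_irrMap]

end blkOf

/-! ### the number of characters -/

section count

variable {p : ℕ} [hp : Fact p.Prime] {M : Ideal AlgInt} [hMm : M.IsMaximal] [hchar : CharP (Kf M) p]
  {G : Type u} [Group G] [Finite G]

/-- Brauer elements of the block with idempotent `BB`. -/
structure BElt (p : ℕ) (BB : MonoidAlgebra (Kf M) G) (x : G) (f : MonoidAlgebra (Kf M) G) : Prop where
  pel : ∃ k : ℕ, orderOf x = p ^ k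
  blk : IsBlk (Subgroup.centralizer ({x} : Set G)) f
  br : BrauerMap.br (Subgroup.zpowers x) BB * f = f

theorem isPGroup_zpowers {x : G} (h : ∃ k : ℕ, orderOf x = p ^ k) : IsPGroup p (Subgroup.zpowers x) := by
  obtain ⟨k, hk⟩ := h
  apply IsPGroup.of_card (n := k)
  rw [Nat.card_zpowers, hk]

theorem belt_iff {B : Set (IrrCharacter G)} (hB : IsPBlock M B) {x : G} (hx : ∃ k : ℕ, orderOf x = p ^ k)
    {b : Set (IrrCharacter (Subgroup.centralizer ({x} : Set G)))} (hb : IsPBlock M b) :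
    IsInducedBlock M (Subgroup.centralizer ({x} : Set G)) b B ↔ BElt p (bidG M B) x (bid M _ b) := by
  rw [isInducedBlock_iff_br (p := p) (P := Subgroup.zpowers x) (SubsecNorm.centralizer_zpowers x).symm
    (isPGroup_zpowers hx) hb hB]
  exact ⟨fun h => ⟨hx, isBlk_bid hb, h⟩, fun h => h.br⟩

theorem map_zpowers (g x : G) : (Subgroup.zpowers x).map (MulAut.conj g).toMonoidHom =
    Subgroup.zpowers (g * x * g⁻¹) := by
  rw [MonoidHom.map_zpowers]
  rfl

theorem mem_centralizer_conj_iff (g x y : G) :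
    y ∈ Subgroup.centralizer ({g * x * g⁻¹} : Set G) ↔ g⁻¹ * y * g ∈ Subgroup.centralizer ({x} : Set G) := by
  rw [Subgroup.mem_centralizer_singleton_iff, Subgroup.mem_centralizer_singleton_iff]
  constructor
  · intro h
    have := congrArg (fun t => g⁻¹ * t * g) h
    simpa [mul_assoc] using this
  · intro h
    have := congrArg (fun t => g * t * g⁻¹) h
    simpa [mul_assoc] using this

omit hp hchar in
theorem cj_bidG (B : Set (IrrCharacter G)) (x : G) : BrauerMap.cj x (bidG M B) = bidG M B :=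
  (bidG_mem B).2 x trivial

theorem BElt.cj {B : Set (IrrCharacter G)} {x : G} {f : MonoidAlgebra (Kf M) G}
    (h : BElt p (bidG M B) x f) (g : G) : BElt p (bidG M B) (g * x * g⁻¹) (BrauerMap.cj g f) := by
  refine ⟨?_, h.blk.cj (mem_centralizer_conj_iff g x), ?_⟩
  · obtain ⟨k, hk⟩ := h.pel
    refine ⟨k, ?_⟩
    rw [← hk]
    exact orderOf_injective (MulAut.conj g).toMonoidHom (MulAut.conj g).injective x
  · rw [← map_zpowers, ← cj_bidG B g, ← BrauerMap.cj_br_map, ← map_mul, h.br]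

omit hp hchar in
theorem cj_eq_self {x c : G} {f : MonoidAlgebra (Kf M) G} (hf : IsBlk (Subgroup.centralizer ({x} : Set G)) f)
    (hc : c * x * c⁻¹ = x) : BrauerMap.cj c f = f := by
  apply hf.mem.2 c
  rw [Subgroup.mem_centralizer_singleton_iff]
  rw [mul_inv_eq_iff_eq_mul] at hc
  exact hc

theorem card_eq_sum (hM : IsPModular p M) {B : Set (IrrCharacter G)} (hB : IsPBlock M B) {ι : Type*} [Fintype ι]
    (u : ι → G) (f : ι → MonoidAlgebra (Kf M) G) (h1 : ∀ i, BElt p (bidG M B) (u i) (f i))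
    (h2 : ∀ x f', BElt p (bidG M B) x f' →
      ∃! i, ∃ g : G, g * x * g⁻¹ = u i ∧ BrauerMap.cj g f' = f i) :
    Nat.card B = ∑ i, lr p (Subgroup.centralizer ({u i} : Set G)) (f i) := by
  classical
  have := Fintype.ofFinite G
  set X : Finset G := Finset.univ.filter
    (fun x => (∃ k : ℕ, orderOf x = p ^ k) ∧ (Quotient.out (ConjClasses.mk x) : G) = x) with hX
  have hXp : ∀ x ∈ X, ∃ k : ℕ, orderOf x = p ^ k := fun x hx => (Finset.mem_filter.1 hx).2.1
  have hXo : ∀ x ∈ X, (Quotient.out (ConjClasses.mk x) : G) = x := fun x hx => (Finset.mem_filter.1 hx).2.2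
  have hXrep : ∀ g : G, (∃ k : ℕ, orderOf g = p ^ k) → ∃! x, x ∈ X ∧ IsConj g x := by
    intro g hg
    have hc := isConj_out g
    refine ⟨(Quotient.out (ConjClasses.mk g) : G), ⟨?_, hc.symm⟩, ?_⟩
    · rw [hX, Finset.mem_filter]
      refine ⟨Finset.mem_univ _, ?_, ?_⟩
      · obtain ⟨k, hk⟩ := hg
        exact ⟨k, by rw [orderOf_isConj hc, hk]⟩
      · rw [mk_out]
    · rintro y ⟨hy, hgy⟩
      rw [← hXo y hy]
      congr 1
      exact (ConjClasses.mk_eq_mk_iff_isConj.2 hgy).symm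
  rw [BlockCount.card_eq hM hB X hXp hXrep]
  have key : ∀ x ∈ X, ∑ᶠ b ∈ {b : Set (IrrCharacter ↥(Subgroup.centralizer ({x} : Set G))) |
      IsInducedBlock M (Subgroup.centralizer ({x} : Set G)) b B}, blockRank p b =
      ∑ i ∈ Finset.univ.filter (fun i => IsConj (u i) x), lr p (Subgroup.centralizer ({u i} : Set G)) (f i) := by
    intro x hx
    rw [finsum_mem_eq_finite_toFinset_sum _ (Set.toFinite _)]
    have hb : ∀ b ∈ (Set.toFinite {b : Set (IrrCharacter ↥(Subgroup.centralizer ({x} : Set G))) |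
        IsInducedBlock M (Subgroup.centralizer ({x} : Set G)) b B}).toFinset,
        IsPBlock M b ∧ BElt p (bidG M B) x (bid M _ b) := by
      intro b hb
      rw [Set.Finite.mem_toFinset] at hb
      have hb' : IsInducedBlock M (Subgroup.centralizer ({x} : Set G)) b B := hb
      exact ⟨hb'.1, (belt_iff hB (hXp x hx) hb'.1).1 hb'⟩
    refine Finset.sum_bij (fun b hb' => (h2 x (bid M _ b) (hb b hb').2).choose) ?_ ?_ ?_ ?_
    · intro b hb'
      obtain ⟨g, hg, -⟩ := (h2 x (bid M _ b) (hb b hb').2).choose_spec.1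
      rw [Finset.mem_filter]
      refine ⟨Finset.mem_univ _, ?_⟩
      rw [← hg, isConj_comm]
      exact isConj_iff.2 ⟨g, rfl⟩
    · intro b hb' b' hb'' hbb
      obtain ⟨g, hg, hg2⟩ := (h2 x (bid M _ b) (hb b hb').2).choose_spec.1
      obtain ⟨g', hg', hg2'⟩ := (h2 x (bid M _ b') (hb b' hb'').2).choose_spec.1
      simp only at hbb
      rw [← hbb] at hg' hg2'
      apply bid_injective (hb b hb').1 (hb b' hb'').1
      have e1 : (g'⁻¹ * g) * x * (g'⁻¹ * g)⁻¹ = x := by
        have : g'⁻¹ * g * x * (g'⁻¹ * g)⁻¹ = g'⁻¹ * (g * x * g⁻¹) * g' := by group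
        rw [this, hg, ← hg']; group
      have e2 := cj_eq_self (hb b hb').2.blk e1
      rw [BrauerMap.cj_mul, hg2, ← hg2', BrauerMap.cj_inv_cj] at e2
      exact e2.symm
    · intro i hi
      obtain ⟨c, hc⟩ := isConj_iff.1 (Finset.mem_filter.1 hi).2
      have h3 := (h1 i).cj c
      rw [hc] at h3
      obtain ⟨h4, h5⟩ := blkOf_spec h3.blk
      have h6 : BElt p (bidG M B) x (bid M _ (blkOf M (Subgroup.centralizer ({x} : Set G)) (BrauerMap.cj c (f i)))) := by
        rw [h5]; exact h3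
      have h7 : blkOf M (Subgroup.centralizer ({x} : Set G)) (BrauerMap.cj c (f i)) ∈
          (Set.toFinite {b : Set (IrrCharacter ↥(Subgroup.centralizer ({x} : Set G))) |
          IsInducedBlock M (Subgroup.centralizer ({x} : Set G)) b B}).toFinset := by
        rw [Set.Finite.mem_toFinset]
        exact (belt_iff hB (hXp x hx) h4).2 h6
      refine ⟨_, h7, ?_⟩
      have h8 := (h2 x _ (hb _ h7).2)
      refine h8.unique h8.choose_spec.1 ⟨c⁻¹, ?_, ?_⟩
      · rw [← hc]; group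
      · rw [h5, BrauerMap.cj_inv_cj]
    · intro b hb'
      obtain ⟨g, hg, hg2⟩ := (h2 x (bid M _ b) (hb b hb').2).choose_spec.1
      rw [← hg2, ← lr_bid (hb b hb').1]
      symm
      apply lr_cj g _ (hb b hb').2.blk
      intro y
      rw [← hg]
      exact mem_centralizer_conj_iff g x y
  rw [Finset.sum_congr rfl key]
  simp only [Finset.sum_filter]
  rw [Finset.sum_comm]
  refine Finset.sum_congr rfl fun i _ => ?_
  obtain ⟨x, ⟨hx, hix⟩, huniq⟩ := hXrep (u i) (h1 i).pel
  rw [Finset.sum_eq_single x]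
  · rw [if_pos hix]
  · intro y hy hyx
    rw [if_neg]
    intro h
    exact hyx (huniq y ⟨hy, h⟩)
  · intro h
    exact absurd hx h

end count

end Cfsg.Agent.Lib.PairCount
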