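import Mathlib

/-!
Stabilizers of uniform partitions (fibres of a map `f : Ω → ι`) in the symmetric group.
-/

set_option autoImplicit false

namespace Cfsg.Agent.Lib.PartStab

open MulAction
open scoped Pointwise

/-- The stabilizer in `Perm Ω` of the partition of `Ω` in fibres of `f`. -/
def partStab {Ω ι : Type*} (f : Ω → ι) : Subgroup (Equiv.Perm Ω) where
  carrier := {g | ∀ x y : Ω, f x = f y ↔ f (g x) = f (g y)}
  mul_mem' {a b} ha hb := by
    intro x y
    rw [hb x y, ha]
    rfl
  one_mem' := fun x y => Iff.rfl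
  inv_mem' {a} ha := by
    intro x y
    rw [ha (a⁻¹ x) (a⁻¹ y)]
    simp

variable {Ω ι : Type*} {f : Ω → ι}

theorem mem_partStab {g : Equiv.Perm Ω} :
    g ∈ partStab f ↔ ∀ x y : Ω, f x = f y ↔ f (g x) = f (g y) := Iff.rfl

theorem closure_eq : Subgroup.closure {g : Equiv.Perm Ω | ∀ x y : Ω, f x = f y ↔ f (g x) = f (g y)}
    = partStab f :=
  Subgroup.closure_eq (partStab f)

/-- elements preserving each fibre -/
theorem mem_of_fixes {g : Equiv.Perm Ω} (h : ∀ x, f (g x) = f x) : g ∈ partStab f := by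
  intro x y
  rw [h, h]

theorem swap_fixes [DecidableEq Ω] {x y : Ω} (h : f x = f y) (z : Ω) :
    f (Equiv.swap x y z) = f z := by
  rcases eq_or_ne z x with rfl | h1
  · rw [Equiv.swap_apply_left, h]
  rcases eq_or_ne z y with rfl | h2
  · rw [Equiv.swap_apply_right, h]
  rw [Equiv.swap_apply_of_ne_of_ne h1 h2]

theorem swap_mem [DecidableEq Ω] {x y : Ω} (h : f x = f y) : Equiv.swap x y ∈ partStab f :=
  mem_of_fixes (swap_fixes h)

/-- exchange of two fibres with the same cardinality -/
theorem exists_fibreSwap [Finite Ω] (i j : ι)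
    (hc : Nat.card {x : Ω // f x = i} = Nat.card {x : Ω // f x = j}) :
    ∃ g : Equiv.Perm Ω, g ∈ partStab f ∧ (∀ x, f x = i → f (g x) = j) ∧
      (∀ x, f x = j → f (g x) = i) ∧ (∀ x, f x ≠ i → f x ≠ j → g x = x) := by
  classical
  by_cases hij : i = j
  · subst hij
    exact ⟨1, Subgroup.one_mem _, fun x hx => by simpa using hx, fun x hx => by simpa using hx,
      fun x _ _ => rfl⟩
  obtain ⟨e⟩ := Finite.card_eq.mp hc
  let s : Ω → Ω := fun x => if h : f x = i then (e ⟨x, h⟩ : Ω) else
    if h' : f x = j then (e.symm ⟨x, h'⟩ : Ω) else x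
  have hs1 : ∀ x (h : f x = i), s x = (e ⟨x, h⟩ : Ω) := fun x h => dif_pos h
  have hs2 : ∀ x (h : f x = j), s x = (e.symm ⟨x, h⟩ : Ω) := fun x h => by
    change (if h : f x = i then (e ⟨x, h⟩ : Ω) else
      if h' : f x = j then (e.symm ⟨x, h'⟩ : Ω) else x) = _
    rw [dif_neg (fun h' => hij (h'.symm.trans h)), dif_pos h]
  have hs3 : ∀ x, f x ≠ i → f x ≠ j → s x = x := fun x h h' => by
    change (if h : f x = i then (e ⟨x, h⟩ : Ω) else
      if h' : f x = j then (e.symm ⟨x, h'⟩ : Ω) else x) = _
    rw [dif_neg h, dif_neg h']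
  have hf1 : ∀ x, f x = i → f (s x) = j := fun x h => by rw [hs1 x h]; exact (e ⟨x, h⟩).2
  have hf2 : ∀ x, f x = j → f (s x) = i := fun x h => by rw [hs2 x h]; exact (e.symm ⟨x, h⟩).2
  have hinv : Function.Involutive s := by
    intro x
    by_cases h : f x = i
    · rw [hs2 _ (hf1 x h)]
      have : (⟨s x, hf1 x h⟩ : {x : Ω // f x = j}) = e ⟨x, h⟩ := Subtype.ext (hs1 x h)
      rw [this]; simp
    · by_cases h' : f x = j
      · rw [hs1 _ (hf2 x h')]
        have : (⟨s x, hf2 x h'⟩ : {x : Ω // f x = i}) = e.symm ⟨x, h'⟩ := Subtype.ext (hs2 x h')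
        rw [this]; simp
      · rw [hs3 x h h', hs3 x h h']
  refine ⟨hinv.toPerm s, ?_, hf1, hf2, hs3⟩
  -- preservation: f (s x) = swap i j (f x)
  have hfs : ∀ x, f (s x) = Equiv.swap i j (f x) := by
    intro x
    by_cases h : f x = i
    · rw [hf1 x h, h, Equiv.swap_apply_left]
    · by_cases h' : f x = j
      · rw [hf2 x h', h', Equiv.swap_apply_right]
      · rw [hs3 x h h', Equiv.swap_apply_of_ne_of_ne h h']
  intro x y
  change f x = f y ↔ f (s x) = f (s y)
  rw [hfs, hfs]
  exact (Equiv.swap i j).injective.eq_iff.symm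

/-- Structural hypotheses on a subgroup `U` of `Perm Ω`: point stabilizers are transitive on the rest
of the fibre and on the complement of the fibre. -/
structure RankThree (f : Ω → ι) (U : Subgroup (Equiv.Perm Ω)) : Prop where
  inner : ∀ x y z : Ω, f y = f x → f z = f x → y ≠ x → z ≠ x → ∃ u ∈ U, u x = x ∧ u y = z
  outer : ∀ x y z : Ω, f y ≠ f x → f z ≠ f x → ∃ u ∈ U, u x = x ∧ u y = z

/-- Blocks for such a group are trivial or fibres. -/
theorem RankThree.block {U : Subgroup (Equiv.Perm Ω)} (hU : RankThree f U)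
    {B : Set Ω} (hB : IsBlock U B) {x : Ω} (hx : x ∈ B) :
    B = {x} ∨ B = {y | f y = f x} ∨ B = Set.univ := by
  -- moving inside the block
  have move : ∀ {a b c : Ω}, a ∈ B → b ∈ B → (∃ u ∈ U, u a = a ∧ u b = c) → c ∈ B := by
    rintro a b c ha hb ⟨u, hu, hua, hub⟩
    have h1 : (⟨u, hu⟩ : U) • B = B :=
      isBlock_iff_smul_eq_of_nonempty.mp hB ⟨a, ⟨a, ha, hua⟩, ha⟩
    rw [← h1]
    exact ⟨b, hb, hub⟩
  by_cases hout : ∃ y ∈ B, f y ≠ f x
  · right; right
    obtain ⟨y, hy, hyx⟩ := hout
    have h1 : ∀ z, f z ≠ f x → z ∈ B := fun z hz => move hx hy (hU.outer x y z hyx hz)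
    have h3 : ∀ z, f z ≠ f y → z ∈ B := fun z hz => move hy hx (hU.outer y x z (Ne.symm hyx) hz)
    rw [Set.eq_univ_iff_forall]
    intro z
    by_cases hz : f z = f x
    · exact h3 z (by rw [hz]; exact Ne.symm hyx)
    · exact h1 z hz
  · push Not at hout
    by_cases hin : ∃ y ∈ B, y ≠ x
    · right; left
      obtain ⟨y, hy, hyx⟩ := hin
      ext z
      constructor
      · exact fun hz => hout z hz
      · intro hz
        rcases eq_or_ne z x with rfl | hzx
        · exact hx
        · exact move hx hy (hU.inner x y z (hout y hy) hz hyx hzx)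
    · push Not at hin
      left
      ext z
      constructor
      · exact fun hz => hin z hz
      · rintro rfl; exact hx

/-- An overgroup of `U` not preserving the partition is primitive. -/
theorem RankThree.isPreprimitive {U G : Subgroup (Equiv.Perm Ω)} (hU : RankThree f U)
    (h2 : ∀ x : Ω, ∃ y, y ≠ x ∧ f y = f x) (htrans : IsPretransitive U Ω)
    (hUG : U ≤ G) (hG : ¬ G ≤ partStab f) : IsPreprimitive G Ω := by
  have hGt : IsPretransitive G Ω := ⟨fun x y => by
    obtain ⟨u, hu⟩ := htrans.exists_smul_eq x y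
    exact ⟨⟨u.1, hUG u.2⟩, hu⟩⟩
  refine ⟨fun {B} hB => ?_⟩
  have hres : ∀ {C : Set Ω}, IsBlock G C → IsBlock U C := by
    intro C hC
    rw [isBlock_iff_smul_eq_or_disjoint] at hC ⊢
    intro u
    exact hC ⟨u.1, hUG u.2⟩
  rcases Set.eq_empty_or_nonempty B with h0 | ⟨x, hx⟩
  · left; rw [h0]; exact Set.subsingleton_empty
  rcases hU.block (hres hB) hx with h | h | h
  · left; rw [h]; exact Set.subsingleton_singleton
  · exfalso
    apply hG
    intro g hg
    -- all fibres are blocks of G
    have hfib : ∀ z : Ω, IsBlock G {y | f y = f z} := by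
      intro z
      obtain ⟨k, hk⟩ := hGt.exists_smul_eq x z
      have hkB : IsBlock G (k • B) := hB.translate k
      have hz : z ∈ k • B := ⟨x, hx, hk⟩
      rcases hU.block (hres hkB) hz with h' | h' | h'
      · exfalso
        obtain ⟨y, hy1, hy2⟩ := h2 x
        have : k • y ∈ k • B := ⟨y, by rw [h]; exact hy2, rfl⟩
        rw [h', Set.mem_singleton_iff, ← hk] at this
        exact hy1 (smul_left_cancel k this)
      · rwa [← h']
      · rw [← Set.smul_set_univ (a := k)] at h'
        have hBu : B = Set.univ := by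
          have := congrArg (fun s => k⁻¹ • s) h'
          simpa using this
        have : {y | f y = f z} = (Set.univ : Set Ω) := by
          rw [Set.eq_univ_iff_forall]
          intro w
          have h3 : w ∈ B := by rw [hBu]; trivial
          have h4 : z ∈ B := by rw [hBu]; trivial
          rw [h] at h3 h4
          exact h3.trans h4.symm
        rw [this]
        exact IsBlock.univ
    -- g maps fibres to fibres
    have hmap : ∀ (k : G) (x y : Ω), f x = f y → f (k • x) = f (k • y) := by
      intro k x y hxy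
      have hkB : IsBlock G (k • {w | f w = f x}) := (hfib x).translate k
      have hz : k • x ∈ k • {w | f w = f x} := ⟨x, rfl, rfl⟩
      have hy : k • y ∈ k • {w | f w = f x} := ⟨y, hxy.symm, rfl⟩
      rcases hU.block (hres hkB) hz with h' | h' | h'
      · rw [h'] at hy
        exact congrArg f (Set.mem_singleton_iff.mp hy).symm
      · rw [h'] at hy
        exact hy.symm
      · -- fibre is everything
        have hBu : ({w | f w = f x} : Set Ω) = Set.univ := by
          have := congrArg (fun s => k⁻¹ • s) h'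
          simpa using this
        have h3 : k • x ∈ ({w | f w = f x} : Set Ω) := by rw [hBu]; trivial
        have h4 : k • y ∈ ({w | f w = f x} : Set Ω) := by rw [hBu]; trivial
        exact h3.trans h4.symm
    intro u v
    constructor
    · intro huv
      exact hmap ⟨g, hg⟩ u v huv
    · intro huv
      have := hmap (⟨g, hg⟩ : G)⁻¹ (g u) (g v) huv
      have e1 : ∀ w, (⟨g, hg⟩ : G)⁻¹ • (g w) = w := fun w => by
        change g⁻¹ (g w) = w
        simp
      rwa [e1, e1] at this
  · right; exact h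

/-- The full stabilizer of a uniform partition satisfies `RankThree`. -/
theorem rankThree_partStab [Finite Ω] (hcard : ∀ i j : ι, (∃ x, f x = i) → (∃ x, f x = j) →
      Nat.card {x : Ω // f x = i} = Nat.card {x : Ω // f x = j}) :
    RankThree f (partStab f) := by
  classical
  constructor
  · intro x y z hy hz hyx hzx
    exact ⟨Equiv.swap y z, swap_mem (hy.trans hz.symm),
      Equiv.swap_apply_of_ne_of_ne hyx.symm hzx.symm, Equiv.swap_apply_left y z⟩
  · intro x y z hy hz
    obtain ⟨g, hg, hg1, hg2, hg3⟩ := exists_fibreSwap (f := f) (f y) (f z)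
      (hcard _ _ ⟨y, rfl⟩ ⟨z, rfl⟩)
    have hgy : f (g y) = f z := hg1 y rfl
    refine ⟨Equiv.swap (g y) z * g, Subgroup.mul_mem _ (swap_mem hgy) hg, ?_, ?_⟩
    · rw [Equiv.Perm.mul_apply, hg3 x (Ne.symm hy) (Ne.symm hz)]
      apply Equiv.swap_apply_of_ne_of_ne
      · intro h; rw [h, hgy] at hz; exact hz rfl
      · intro h; rw [h] at hz; exact hz rfl
    · rw [Equiv.Perm.mul_apply, Equiv.swap_apply_left]

theorem isPretransitive_partStab [Finite Ω] (hcard : ∀ i j : ι, (∃ x, f x = i) → (∃ x, f x = j) →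
      Nat.card {x : Ω // f x = i} = Nat.card {x : Ω // f x = j}) :
    IsPretransitive (partStab f) Ω := by
  classical
  refine ⟨fun y z => ?_⟩
  obtain ⟨g, hg, hg1, hg2, hg3⟩ := exists_fibreSwap (f := f) (f y) (f z)
      (hcard _ _ ⟨y, rfl⟩ ⟨z, rfl⟩)
  have hgy : f (g y) = f z := hg1 y rfl
  exact ⟨⟨Equiv.swap (g y) z * g, Subgroup.mul_mem _ (swap_mem hgy) hg⟩,
    show (Equiv.swap (g y) z * g) y = z by rw [Equiv.Perm.mul_apply, Equiv.swap_apply_left]⟩

/-- The imprimitive wreath product is a maximal subgroup of the symmetric group. -/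
theorem isCoatom_partStab [Finite Ω] (hcard : ∀ i j : ι, (∃ x, f x = i) → (∃ x, f x = j) →
      Nat.card {x : Ω // f x = i} = Nat.card {x : Ω // f x = j})
    (h2 : ∀ x : Ω, ∃ y, y ≠ x ∧ f y = f x) (hne : ∃ x y : Ω, f x ≠ f y) :
    IsCoatom (partStab f) := by
  classical
  have := Fintype.ofFinite Ω
  obtain ⟨x, y, hxy⟩ := hne
  constructor
  · intro h
    obtain ⟨z, hzx, hz⟩ := h2 x
    have hmem : Equiv.swap x y ∈ partStab f := by rw [h]; exact Subgroup.mem_top _
    have h1 := (hmem z x).mp hz
    have hxy' : x ≠ y := fun h => hxy (congrArg f h)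
    have hzy : z ≠ y := fun h => hxy (by rw [← hz, h])
    rw [Equiv.swap_apply_left, Equiv.swap_apply_of_ne_of_ne hzx hzy] at h1
    exact hxy (hz.symm.trans h1)
  · intro G hG
    have hnle : ¬ G ≤ partStab f := fun h => absurd (lt_of_lt_of_le hG h) (lt_irrefl _)
    have hprim : IsPreprimitive G Ω :=
      (rankThree_partStab hcard).isPreprimitive h2 (isPretransitive_partStab hcard) hG.le hnle
    obtain ⟨z, hzx, hz⟩ := h2 x
    exact Equiv.Perm.subgroup_eq_top_of_isPreprimitive_of_isSwap_mem hprim (Equiv.swap z x)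
      ⟨z, x, hzx, rfl⟩ (hG.le (swap_mem hz))

end Cfsg.Agent.Lib.PartStab
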