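import Mathlib
import Cfsg.Agent.Lib.AlperinLemma
import Cfsg.Agent.Lib.PGroupOdd
import Cfsg.Agent.Lib.H70Frattini

/-!
Thompson's lemma on the number of generators (helper33): a finite `p`-group, `p` odd, in which all
elements of order `p` are central, is generated by `k` elements if it has at most `p ^ k`
elements of order dividing `p`.
-/

set_option autoImplicit false

namespace Cfsg.Agent.Lib.PatGen

open Subgroup
open scoped commutatorElement

universe u

/-- the subgroup of elements of order dividing `p`, when those are central -/
def Om {X : Type*} [Group X] (p : ℕ) (hc : ∀ x : X, x ^ p = 1 → x ∈ center X) : Subgroup X where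
  carrier := {x | x ^ p = 1}
  one_mem' := one_pow p
  mul_mem' := by
    intro a b ha hb
    have h : Commute a b := (mem_center_iff.mp (hc a ha) b).symm
    show (a * b) ^ p = 1
    rw [h.mul_pow, ha, hb, one_mul]
  inv_mem' := by
    intro a ha
    show (a⁻¹) ^ p = 1
    rw [inv_pow, ha, inv_one]

theorem mem_Om {X : Type*} [Group X] {p : ℕ} {hc : ∀ x : X, x ^ p = 1 → x ∈ center X} {x : X} :
    x ∈ Om p hc ↔ x ^ p = 1 := Iff.rfl

theorem Om_normal {X : Type*} [Group X] {p : ℕ} {hc : ∀ x : X, x ^ p = 1 → x ∈ center X} :
    (Om p hc).Normal := by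
  constructor
  intro n hn g
  have := mem_center_iff.mp (hc n hn) g
  rw [this, mul_assoc, mul_inv_cancel, mul_one]
  exact hn

/-- Thompson's lemma. -/
theorem thompson {p : ℕ} [hp : Fact p.Prime] (hp2 : p ≠ 2) :
    ∀ (r : ℕ) (X : Type u) [Group X] [Finite X], Nat.card X = r → IsPGroup p X →
      (∀ x : X, x ^ p = 1 → x ∈ center X) → ∀ k : ℕ, Nat.card {x : X // x ^ p = 1} ≤ p ^ k →
      ∃ S : Finset X, S.card ≤ k ∧ closure (S : Set X) = ⊤ := by
  classical
  intro r
  induction r using Nat.strong_induction_on with
  | _ r ih =>
    intro X _ _ hr hX hc k hk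
    have hp1 : 1 < p := hp.out.one_lt
    by_cases htr : Subsingleton X
    · refine ⟨∅, by simp, ?_⟩
      exact Subsingleton.elim _ _
    rw [not_subsingleton_iff_nontrivial] at htr
    -- an element of order p
    obtain ⟨x₀, hx₀⟩ : ∃ x : X, orderOf x = p := by
      apply exists_prime_orderOf_dvd_card'
      obtain ⟨m, hm⟩ := hX.exists_card_eq
      have h1 : 1 < Nat.card X := Finite.one_lt_card
      have hm0 : m ≠ 0 := by rintro rfl; rw [hm, pow_zero] at h1; omega
      rw [hm]
      exact dvd_pow_self p hm0
    have hx₀1 : x₀ ^ p = 1 := by rw [← hx₀]; exact pow_orderOf_eq_one x₀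
    have hx₀ne : x₀ ≠ 1 := by
      rintro rfl
      rw [orderOf_one] at hx₀
      omega
    have hN : (Om p hc).Normal := Om_normal
    by_cases hΩ : Om p hc ≤ frattini X
    · -- quotient
      have hlt : Nat.card (X ⧸ Om p hc) < r := by
        rw [← hr]
        have h1 := card_eq_card_quotient_mul_card_subgroup (Om p hc)
        have h2 : 1 < Nat.card (Om p hc) := by
          have : Nontrivial (Om p hc) := ⟨⟨⟨x₀, hx₀1⟩, 1, fun h => hx₀ne (congrArg Subtype.val h)⟩⟩
          exact Finite.one_lt_card
        have h3 : 0 < Nat.card (X ⧸ Om p hc) := Nat.card_pos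
        rw [h1]
        nlinarith
      have key : ∀ x : X, x ^ p ∈ Om p hc → ∀ g : X, ⁅x, g⁆ ^ p = 1 := by
        intro x hx g
        have h1 : x ^ (p * p ^ 1) = 1 := by
          rw [pow_one, pow_mul]; exact hx
        exact AlperinLemma.commutator_pow_eq_one (p := p) (n := 1) one_ne_zero
          (by rw [pow_one]; exact hp2) _ X rfl hX (fun y hy => hc y (by rwa [pow_one] at hy)) x h1 g
      have hcQ : ∀ y : X ⧸ Om p hc, y ^ p = 1 → y ∈ center (X ⧸ Om p hc) := by
        intro y
        induction y using QuotientGroup.induction_on with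
        | _ x =>
          intro hy
          rw [← QuotientGroup.mk_pow, QuotientGroup.eq_one_iff] at hy
          rw [mem_center_iff]
          intro g
          induction g using QuotientGroup.induction_on with
          | _ g =>
            have h1 := key x hy g
            rw [← QuotientGroup.mk_mul, ← QuotientGroup.mk_mul]
            have h2 : ((x * g * x⁻¹ * g⁻¹ : X) : X ⧸ Om p hc) = 1 := by
              rw [QuotientGroup.eq_one_iff]
              have : x * g * x⁻¹ * g⁻¹ = ⁅x, g⁆ := by rw [commutatorElement_def]
              rw [this]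
              exact h1
            have h3 : ((x * g : X) : X ⧸ Om p hc) = ((x * g * x⁻¹ * g⁻¹ : X) : X ⧸ Om p hc) * ((g * x : X) : X ⧸ Om p hc) := by
              rw [← QuotientGroup.mk_mul]; congr 1; group
            rw [h3, h2, one_mul]
      have hcard : Nat.card {y : X ⧸ Om p hc // y ^ p = 1} ≤ p ^ k := by
        refine le_trans ?_ hk
        have hout : ∀ y : X ⧸ Om p hc, y ^ p = 1 → (y.out ^ p) ^ p = 1 := by
          intro y hy
          have h1 : ((y.out ^ p : X) : X ⧸ Om p hc) = 1 := by
            rw [QuotientGroup.mk_pow, QuotientGroup.out_eq', hy]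
          rw [QuotientGroup.eq_one_iff] at h1
          exact h1
        let f : {y : X ⧸ Om p hc // y ^ p = 1} → {x : X // x ^ p = 1} := fun y => ⟨y.1.out ^ p, hout y.1 y.2⟩
        apply Nat.card_le_card_of_injective f
        rintro ⟨y, hy⟩ ⟨z, hz⟩ h
        have h0 : y.out ^ p = z.out ^ p := congrArg Subtype.val h
        apply Subtype.ext
        show y = z
        set a := y.out with ha
        set b := z.out with hb
        have hya : ((a : X) : X ⧸ Om p hc) = y := QuotientGroup.out_eq' y
        have hzb : ((b : X) : X ⧸ Om p hc) = z := QuotientGroup.out_eq' z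
        rw [← hya, ← hzb, QuotientGroup.eq]
        show (a⁻¹ * b) ^ p = 1
        have hap : a ^ p ∈ Om p hc := hout y hy
        -- b * a⁻¹ = a⁻¹ * b * c
        have hcc : ⁅b⁻¹, a⁆ ^ p = 1 := key b⁻¹ (by rw [inv_pow]; exact (Om p hc).inv_mem (hout z hz)) a
        have hcz : ⁅b⁻¹, a⁆ ∈ center X := hc _ hcc
        have hcc2 : ∀ w : X, Commute ⁅b⁻¹, a⁆ w := fun w => (mem_center_iff.mp hcz w).symm
        have h1 : b * a⁻¹ = a⁻¹ * b * ⁅b⁻¹, a⁆ := by
          rw [commutatorElement_def]; group
        rw [PGroupOdd.mul_pow_of_comm h1 (hcc2 _) (hcc2 _), PGroupOdd.pow_choose_two_eq_one hp.out hp2 hcc,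
          mul_one, inv_pow, ← h0, inv_mul_cancel]
      have hQ : IsPGroup p (X ⧸ Om p hc) := hX.to_quotient _
      obtain ⟨S, hS, hS'⟩ := ih _ hlt (X ⧸ Om p hc) rfl hQ hcQ k hcard
      refine ⟨S.image Quotient.out, (Finset.card_image_le).trans hS, ?_⟩
      have h1 : closure ((S.image Quotient.out : Finset X) : Set X) ⊔ Om p hc = ⊤ := by
        have h2 : (closure ((S.image Quotient.out : Finset X) : Set X)).map (QuotientGroup.mk' (Om p hc)) = ⊤ := by
          rw [MonoidHom.map_closure, ← hS']
          congr 1
          ext y
          simp only [Finset.coe_image, Set.mem_image, Finset.mem_coe]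
          constructor
          · rintro ⟨x, ⟨z, hz, rfl⟩, rfl⟩
            rw [QuotientGroup.mk'_apply]
            rw [QuotientGroup.out_eq']
            exact hz
          · intro hy
            exact ⟨y.out, ⟨y, hy, rfl⟩, by rw [QuotientGroup.mk'_apply]; exact QuotientGroup.out_eq' y⟩
        have h3 := congrArg (Subgroup.comap (QuotientGroup.mk' (Om p hc))) h2
        rw [comap_map_eq, QuotientGroup.ker_mk', comap_top] at h3
        exact h3
      have h4 : closure ((S.image Quotient.out : Finset X) : Set X) ⊔ frattini X = ⊤ := by
        rw [eq_top_iff, ← h1]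
        exact sup_le_sup_left hΩ _
      exact frattini_nongenerating h4
    · -- split off a central element
      obtain ⟨x, hx, hxf⟩ := SetLike.not_le_iff_exists.mp hΩ
      have : ∃ M : Subgroup X, IsCoatom M ∧ x ∉ M := by
        by_contra hcon
        push Not at hcon
        apply hxf
        unfold frattini
        unfold Order.radical
        simp only [Subgroup.mem_iInf, Set.mem_ofPred_eq]
        intro M hM
        exact hcon M hM
      obtain ⟨M, hM, hxM⟩ := this
      have hxp : x ^ p = 1 := hx
      have hxne : x ≠ 1 := fun h => hxM (h ▸ M.one_mem)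
      have hox : orderOf x = p := orderOf_eq_prime hxp hxne
      have hMX : Nat.card M < r := by
        rw [← hr]
        exact Set.ncard_lt_card (s := (M : Set X)) (fun h => hM.1 (by
          rw [eq_top_iff]; intro y _
          have : y ∈ (M : Set X) := by rw [h]; trivial
          exact this))
      have hcM : ∀ m : M, m ^ p = 1 → m ∈ center M := by
        intro m hm
        have h1 : (m : X) ^ p = 1 := by
          have := congrArg Subtype.val hm
          simpa using this
        rw [mem_center_iff]
        intro g
        apply Subtype.ext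
        exact mem_center_iff.mp (hc m h1) g
      have hxc : ∀ y : X, Commute x y := fun y => (mem_center_iff.mp (hc x hxp) y).symm
      -- the count
      have hinj : Nat.card {m : M // m ^ p = 1} * p ≤ p ^ k := by
        refine le_trans ?_ hk
        have hzc : Nat.card (zpowers x) = p := by rw [Nat.card_zpowers, hox]
        have hpr : Nat.card {m : M // m ^ p = 1} * p = Nat.card ({m : M // m ^ p = 1} × zpowers x) := by
          rw [Nat.card_prod, hzc]
        rw [hpr]
        let f : {m : M // m ^ p = 1} × zpowers x → {y : X // y ^ p = 1} := fun w =>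
          ⟨w.1.1.1 * w.2.1, by
            obtain ⟨⟨m, hm⟩, ⟨z, hz⟩⟩ := w
            obtain ⟨j, rfl⟩ := mem_zpowers_iff.mp hz
            have h1 : Commute (m : X) (x ^ j) := ((hxc m).symm).zpow_right j
            show ((m : X) * x ^ j) ^ p = 1
            rw [h1.mul_pow]
            have h2 : (m : X) ^ p = 1 := by
              have := congrArg Subtype.val hm
              simpa using this
            rw [h2, one_mul, ← zpow_natCast, ← zpow_mul, mul_comm, zpow_mul, zpow_natCast, hxp, one_zpow]⟩
        apply Nat.card_le_card_of_injective f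
        rintro ⟨⟨m, hm⟩, ⟨z, hz⟩⟩ ⟨⟨m', hm'⟩, ⟨z', hz'⟩⟩ h
        have h0 : (m : X) * z = m' * z' := congrArg Subtype.val h
        have h1 : z * z'⁻¹ ∈ M := by
          have : z * z'⁻¹ = (m : X)⁻¹ * m' := by
            have h2 : z = (m : X)⁻¹ * (m' * z') := by rw [← h0]; group
            rw [h2]; group
          rw [this]
          exact M.mul_mem (M.inv_mem m.2) m'.2
        have h2 : z * z'⁻¹ ∈ zpowers x := (zpowers x).mul_mem hz ((zpowers x).inv_mem hz')
        have h3 : z * z'⁻¹ = 1 := by
          by_contra hne
          have h4 : zpowers (z * z'⁻¹) = zpowers x := by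
            have h5 : zpowers (z * z'⁻¹) ≤ zpowers x := by rwa [zpowers_le]
            have h6 : Nat.card (zpowers (z * z'⁻¹)) ∣ Nat.card (zpowers x) := card_dvd_of_le h5
            rw [Nat.card_zpowers x, hox] at h6
            rcases (Nat.dvd_prime hp.out).mp h6 with h7 | h7
            · exfalso
              rw [Nat.card_zpowers, orderOf_eq_one_iff] at h7
              exact hne h7
            · apply eq_of_le_of_card_ge h5
              rw [h7, Nat.card_zpowers, hox]
          apply hxM
          have : x ∈ zpowers (z * z'⁻¹) := by rw [h4]; exact mem_zpowers x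
          exact (zpowers_le.mpr h1) this
        have h4 : z = z' := by rwa [mul_inv_eq_one] at h3
        subst h4
        have h5 : (m : X) = m' := mul_right_cancel h0
        have h6 : m = m' := Subtype.ext h5
        subst h6
        rfl
      have hk0 : k ≠ 0 := by
        rintro rfl
        rw [pow_zero] at hinj
        have : 0 < Nat.card {m : M // m ^ p = 1} := by
          have : Nonempty {m : M // m ^ p = 1} := ⟨⟨1, one_pow p⟩⟩
          exact Nat.card_pos
        nlinarith
      obtain ⟨k', rfl⟩ : ∃ k', k = k' + 1 := ⟨k - 1, by omega⟩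
      have hk' : Nat.card {m : M // m ^ p = 1} ≤ p ^ k' := by
        rw [pow_succ] at hinj
        exact Nat.le_of_mul_le_mul_right hinj (by omega)
      obtain ⟨S, hS, hS'⟩ := ih _ hMX M rfl (hX.to_subgroup M) hcM k' hk'
      refine ⟨insert x (S.image Subtype.val), ?_, ?_⟩
      · refine (Finset.card_insert_le _ _).trans ?_
        have := (Finset.card_image_le (s := S) (f := (Subtype.val : M → X)))
        omega
      · apply hM.2
        have h1 : M ≤ closure ((insert x (S.image Subtype.val) : Finset X) : Set X) := by
          have h2 : (closure (S : Set M)).map M.subtype = M := by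
            rw [hS', ← MonoidHom.range_eq_map, range_subtype]
          rw [MonoidHom.map_closure] at h2
          have h3 : (⇑M.subtype '' (S : Set M)) ⊆ ((insert x (S.image Subtype.val) : Finset X) : Set X) := by
            rintro y ⟨z, hz, rfl⟩
            rw [Finset.coe_insert, Finset.coe_image]
            exact Or.inr ⟨z, hz, rfl⟩
          have h4 := closure_mono h3
          exact (le_of_eq h2.symm).trans h4
        refine lt_of_le_of_ne h1 ?_
        intro h
        apply hxM
        rw [h]
        apply Subgroup.subset_closure
        simp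

end Cfsg.Agent.Lib.PatGen
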