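import Mathlib
import Cfsg.Agent.Lib.PSLSylow
import Cfsg.Agent.Lib.H70Frattini

/-!
Patterson's theorem (helper33): a `p`-subgroup of `GL(r, p)` is generated by `r ^ 2 / 4` elements.
Proof by leading positions and Mantel's theorem.
-/

set_option autoImplicit false

namespace Cfsg.Agent.Lib.PatGen

open Subgroup Matrix
open Cfsg.Agent.Lib.PSLAut
open scoped commutatorElement

/-- weights of matrix positions -/
def wt (i j : ℕ) : ℕ := 2 ^ j - 2 ^ i

theorem wt_add {i l j : ℕ} (h1 : i ≤ l) (h2 : l ≤ j) : wt i l + wt l j = wt i j := by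
  unfold wt
  have h3 := Nat.pow_le_pow_right (n := 2) (by norm_num) h1
  have h4 := Nat.pow_le_pow_right (n := 2) (by norm_num) h2
  omega

theorem wt_pos {i j : ℕ} (h : i < j) : 0 < wt i j := by
  unfold wt
  have := Nat.pow_lt_pow_right (a := 2) (by norm_num) h
  omega

theorem wt_inj_aux {i j k l : ℕ} (h1 : i < j) (h2 : k < l) (h : 2 ^ j + 2 ^ k = 2 ^ l + 2 ^ i) : ¬ i < k := by
  intro hik
  have d1 : 2 ^ (i + 1) ∣ 2 ^ j := pow_dvd_pow 2 h1
  have d2 : 2 ^ (i + 1) ∣ 2 ^ k := pow_dvd_pow 2 hik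
  have d3 : 2 ^ (i + 1) ∣ 2 ^ l := pow_dvd_pow 2 (by omega)
  have d4 : 2 ^ (i + 1) ∣ 2 ^ l + 2 ^ i := by rw [← h]; exact dvd_add d1 d2
  have d5 : 2 ^ (i + 1) ∣ 2 ^ i := (Nat.dvd_add_right d3).mp d4
  have h6 := Nat.le_of_dvd (by positivity) d5
  have h7 := Nat.pow_lt_pow_right (a := 2) (by norm_num) (Nat.lt_succ_self i)
  have : 2 ^ (i + 1) = 2 ^ i.succ := rfl
  omega

theorem wt_inj {i j k l : ℕ} (h1 : i < j) (h2 : k < l) (h : wt i j = wt k l) : i = k ∧ j = l := by
  unfold wt at h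
  have h3 := Nat.pow_lt_pow_right (a := 2) (by norm_num) h1
  have h4 := Nat.pow_lt_pow_right (a := 2) (by norm_num) h2
  have h5 : 2 ^ j + 2 ^ k = 2 ^ l + 2 ^ i := by omega
  have h6 := wt_inj_aux h1 h2 h5
  have h7 := wt_inj_aux h2 h1 h5.symm
  have h8 : i = k := by omega
  subst h8
  refine ⟨rfl, ?_⟩
  have h9 : 2 ^ j = 2 ^ l := by omega
  exact Nat.pow_right_injective (le_refl 2) h9

variable {r : ℕ} {F : Type*} [Field F]

/-- all entries of weight less than `w` vanish -/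
def UW (M : Matrix (Fin r) (Fin r) F) (w : ℕ) : Prop := ∀ i j : Fin r, i < j → wt i j < w → M i j = 0

theorem mul_entry {M N : Matrix (Fin r) (Fin r) F} (hM : IsUT M) (hN : IsUT N) {i j : Fin r} (hij : i < j) :
    (M * N) i j = M i j + N i j + ∑ l ∈ Finset.Ioo i j, M i l * N l j := by
  rw [Matrix.mul_apply]
  have h1 : ∑ l, M i l * N l j = ∑ l ∈ Finset.Icc i j, M i l * N l j := by
    symm
    apply Finset.sum_subset (Finset.subset_univ _)
    intro l _ hl
    rw [Finset.mem_Icc, not_and_or, not_le, not_le] at hl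
    rcases hl with hl | hl
    · rw [hM.2 i l hl, zero_mul]
    · rw [hN.2 l j hl, mul_zero]
  have h2 : Finset.Icc i j = insert i (insert j (Finset.Ioo i j)) := by
    ext x
    simp only [Finset.mem_Icc, Finset.mem_insert, Finset.mem_Ioo]
    constructor
    · rintro ⟨h3, h4⟩
      rcases h3.eq_or_lt with h5 | h5
      · exact Or.inl h5.symm
      · rcases h4.eq_or_lt with h6 | h6
        · exact Or.inr (Or.inl h6)
        · exact Or.inr (Or.inr ⟨h5, h6⟩)
    · rintro (h3 | h3 | h3)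
      · subst h3; exact ⟨le_rfl, hij.le⟩
      · subst h3; exact ⟨hij.le, le_rfl⟩
      · exact ⟨h3.1.le, h3.2.le⟩
  rw [h1, h2, Finset.sum_insert, Finset.sum_insert, hM.1, hN.1]
  · ring
  · simp
  · simp [hij.ne]

theorem mul_entry_lt {M N : Matrix (Fin r) (Fin r) F} (hM : IsUT M) (hN : IsUT N) {w v : ℕ}
    (hMw : UW M w) (hNv : UW N v) {i j : Fin r} (hij : i < j) (h : wt i j < w + v) :
    (M * N) i j = M i j + N i j := by
  rw [mul_entry hM hN hij, Finset.sum_eq_zero, add_zero]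
  intro l hl
  rw [Finset.mem_Ioo] at hl
  have h1 := wt_add (i := i) (l := l) (j := j) hl.1.le hl.2.le
  by_cases h2 : wt i l < w
  · rw [hMw i l hl.1 h2, zero_mul]
  · rw [hNv l j hl.2 (by omega), mul_zero]

theorem UW.mul {M N : Matrix (Fin r) (Fin r) F} (hM : IsUT M) (hN : IsUT N) {w : ℕ}
    (hMw : UW M w) (hNw : UW N w) : UW (M * N) w := by
  intro i j hij h
  rw [mul_entry_lt hM hN hMw hNw hij (by omega), hMw i j hij h, hNw i j hij h, add_zero]

theorem UW.one (w : ℕ) : UW (1 : Matrix (Fin r) (Fin r) F) w := by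
  intro i j hij _
  exact Matrix.one_apply_ne hij.ne

theorem UW.mono {M : Matrix (Fin r) (Fin r) F} {w v : ℕ} (h : UW M w) (hv : v ≤ w) : UW M v :=
  fun i j hij h1 => h i j hij (by omega)

variable {Q : Type*} [Group Q] {ρ : Q →* Matrix (Fin r) (Fin r) F}

theorem comm_mul (x y : Q) : ρ ⁅x, y⁆ * ρ (y * x) = ρ x * ρ y := by
  rw [← map_mul, ← map_mul, commutatorElement_def]
  congr 1
  group

theorem comm_UW (hρ : ∀ q, IsUT (ρ q)) {x y : Q} {w v : ℕ} (hx : UW (ρ x) w) (hy : UW (ρ y) v) :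
    UW (ρ ⁅x, y⁆) (w + v) := by
  have key : ∀ n : ℕ, ∀ i j : Fin r, i < j → wt i j = n → n < w + v → ρ ⁅x, y⁆ i j = 0 := by
    intro n
    induction n using Nat.strong_induction_on with
    | _ n ih =>
      intro i j hij hn hlt
      have h1 := congrFun (congrFun (comm_mul (ρ := ρ) x y) i) j
      rw [mul_entry (hρ _) (hρ _) hij, mul_entry_lt (hρ x) (hρ y) hx hy hij (by omega), map_mul,
        mul_entry_lt (hρ y) (hρ x) hy hx hij (by omega), Finset.sum_eq_zero] at h1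
      · have h2 : ρ ⁅x, y⁆ i j + (ρ x i j + ρ y i j) = 0 + (ρ x i j + ρ y i j) := by
          rw [zero_add]
          calc _ = ρ ⁅x, y⁆ i j + (ρ y i j + ρ x i j) + 0 := by ring
            _ = _ := h1
        exact add_right_cancel h2
      · intro l hl
        rw [Finset.mem_Ioo] at hl
        have h3 := wt_add (i := i) (l := l) (j := j) hl.1.le hl.2.le
        have h4 := wt_pos (i := l) (j := j) hl.2
        rw [ih (wt i l) (by omega) i l hl.1 rfl (by omega), zero_mul]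
  intro i j hij h
  exact key _ i j hij rfl h

theorem comm_top (hρ : ∀ q, IsUT (ρ q)) {x y : Q} {a b d : Fin r} (hab : a < b) (hbd : b < d)
    (hx : UW (ρ x) (wt a b)) (hy : UW (ρ y) (wt b d)) :
    ρ ⁅x, y⁆ a d = ρ x a b * ρ y b d := by
  have had : a < d := hab.trans hbd
  have hc := comm_UW hρ hx hy
  have hw : wt a b + wt b d = wt a d := wt_add (i := a) (l := b) (j := d) hab.le hbd.le
  have h1 := congrFun (congrFun (comm_mul (ρ := ρ) x y) a) d
  rw [mul_entry (hρ _) (hρ _) had, mul_entry (hρ x) (hρ y) had, map_mul, mul_entry (hρ y) (hρ x) had] at h1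
  have s1 : ∑ l ∈ Finset.Ioo a d, ρ ⁅x, y⁆ a l * (ρ y * ρ x) l d = 0 := by
    apply Finset.sum_eq_zero
    intro l hl
    rw [Finset.mem_Ioo] at hl
    have h3 := wt_add (i := a) (l := l) (j := d) hl.1.le hl.2.le
    have h4 := wt_pos (i := l) (j := d) hl.2
    rw [hc a l hl.1 (by omega), zero_mul]
  have s2 : ∑ l ∈ Finset.Ioo a d, ρ y a l * ρ x l d = 0 := by
    apply Finset.sum_eq_zero
    intro l hl
    rw [Finset.mem_Ioo] at hl
    have h3 := wt_add (i := a) (l := l) (j := d) hl.1.le hl.2.le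
    by_cases h4 : wt a l < wt b d
    · rw [hy a l hl.1 h4, zero_mul]
    · by_cases h5 : wt l d < wt a b
      · rw [hx l d hl.2 h5, mul_zero]
      · have h6 : wt a l = wt b d := by omega
        have h7 := wt_inj (i := a) (j := l) (k := b) (l := d) hl.1 hbd h6
        have : (a : ℕ) < b := hab
        omega
  have s3 : ∑ l ∈ Finset.Ioo a d, ρ x a l * ρ y l d = ρ x a b * ρ y b d := by
    apply Finset.sum_eq_single b
    · intro l hl hlb
      rw [Finset.mem_Ioo] at hl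
      have h3 := wt_add (i := a) (l := l) (j := d) hl.1.le hl.2.le
      by_cases h4 : wt a l < wt a b
      · rw [hx a l hl.1 h4, zero_mul]
      · by_cases h5 : wt l d < wt b d
        · rw [hy l d hl.2 h5, mul_zero]
        · have h6 : wt a l = wt a b := by omega
          have h7 := wt_inj (i := a) (j := l) (k := a) (l := b) hl.1 hab h6
          exact absurd (Fin.ext h7.2) hlb
    · intro h
      exact absurd (Finset.mem_Ioo.mpr ⟨hab, hbd⟩) h
  rw [s1, s2, s3] at h1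
  have h2 : ρ ⁅x, y⁆ a d + (ρ x a d + ρ y a d) = ρ x a b * ρ y b d + (ρ x a d + ρ y a d) := by
    calc _ = ρ ⁅x, y⁆ a d + (ρ y a d + ρ x a d + 0) + 0 := by ring
      _ = _ := h1
      _ = _ := by ring
  exact add_right_cancel h2

theorem pow_entry (hρ : ∀ q, IsUT (ρ q)) {h : Q} {i j : Fin r} (hij : i < j) (hh : UW (ρ h) (wt i j)) (m : ℕ) :
    UW (ρ (h ^ m)) (wt i j) ∧ ρ (h ^ m) i j = m * ρ h i j := by
  induction m with
  | zero =>
    rw [pow_zero, map_one]
    refine ⟨UW.one _, ?_⟩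
    rw [Matrix.one_apply_ne hij.ne]
    simp
  | succ m ih =>
    have hpos := wt_pos (i := i) (j := j) hij
    rw [pow_succ, map_mul]
    refine ⟨UW.mul (hρ _) (hρ _) ih.1 hh, ?_⟩
    rw [mul_entry_lt (hρ _) (hρ _) ih.1 hh hij (by omega), ih.2]
    push_cast
    ring

/-- leading positions -/
def Lead (ρ : Q →* Matrix (Fin r) (Fin r) F) (i j : Fin r) : Prop :=
  i < j ∧ ∃ q, UW (ρ q) (wt i j) ∧ ρ q i j ≠ 0

/-- covering leading positions -/
def Cov (ρ : Q →* Matrix (Fin r) (Fin r) F) (i j : Fin r) : Prop :=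
  Lead ρ i j ∧ ¬ ∃ l, Lead ρ i l ∧ Lead ρ l j

/-- the graph of covering positions -/
def covGraph (ρ : Q →* Matrix (Fin r) (Fin r) F) : SimpleGraph (Fin r) where
  Adj i j := Cov ρ i j ∨ Cov ρ j i
  symm := ⟨fun _ _ h => h.symm⟩
  loopless := ⟨fun i h => by rcases h with h | h <;> exact absurd h.1.1 (lt_irrefl i)⟩

theorem covGraph_cliqueFree (ρ : Q →* Matrix (Fin r) (Fin r) F) : (covGraph ρ).CliqueFree 3 := by
  intro s hs
  rw [SimpleGraph.is3Clique_iff] at hs
  obtain ⟨a, b, c, h1, h2, h3, -⟩ := hs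
  have tri : ∀ i j l : Fin r, Cov ρ i j → Cov ρ j l → Cov ρ i l → False := fun i j l hij hjl hil =>
    hil.2 ⟨j, hij.1, hjl.1⟩
  have cyc : ∀ i j l : Fin r, Cov ρ i j → Cov ρ j l → Cov ρ l i → False := fun i j l hij hjl hli =>
    absurd (hij.1.1.trans (hjl.1.1.trans hli.1.1)) (lt_irrefl i)
  change (Cov ρ a b ∨ Cov ρ b a) at h1
  change (Cov ρ a c ∨ Cov ρ c a) at h2
  change (Cov ρ b c ∨ Cov ρ c b) at h3
  rcases h1 with h1 | h1 <;> rcases h2 with h2 | h2 <;> rcases h3 with h3 | h3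
  · exact tri a b c h1 h3 h2
  · exact tri a c b h2 h3 h1
  · exact cyc a b c h1 h3 h2
  · exact tri c a b h2 h1 h3
  · exact tri b a c h1 h2 h3
  · exact cyc b a c h1 h2 h3
  · exact tri b c a h3 h2 h1
  · exact tri c b a h3 h1 h2

theorem card_cov (ρ : Q →* Matrix (Fin r) (Fin r) F) :
    Nat.card {w : Fin r × Fin r // Cov ρ w.1 w.2} ≤ r ^ 2 / 4 := by
  classical
  have h1 := (covGraph_cliqueFree ρ).card_edgeFinset_le (r := 2)
  simp only [Fintype.card_fin] at h1
  have h2 : (r ^ 2 - (r % 2) ^ 2) * (2 - 1) / (2 * 2) + (r % 2).choose 2 = r ^ 2 / 4 := by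
    rcases Nat.mod_two_eq_zero_or_one r with h | h
    · rw [h]; simp
    · rw [h]
      obtain ⟨k, hk⟩ : ∃ k, r = 2 * k + 1 := ⟨r / 2, by omega⟩
      subst hk
      have e1 : (2 * k + 1) ^ 2 = 4 * (k * k + k) + 1 := by ring
      rw [e1]
      simp
      omega
  rw [h2] at h1
  refine le_trans ?_ h1
  have h3 : Nat.card {w : Fin r × Fin r // Cov ρ w.1 w.2} ≤ Nat.card (covGraph ρ).edgeSet := by
    let f : {w : Fin r × Fin r // Cov ρ w.1 w.2} → (covGraph ρ).edgeSet := fun w =>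
      ⟨s(w.1.1, w.1.2), by rw [SimpleGraph.mem_edgeSet]; exact Or.inl w.2⟩
    apply Nat.card_le_card_of_injective f
    rintro ⟨⟨a, b⟩, hab⟩ ⟨⟨c, d⟩, hcd⟩ h
    have h4 : s(a, b) = s(c, d) := congrArg Subtype.val h
    rw [Sym2.eq_iff] at h4
    rcases h4 with ⟨rfl, rfl⟩ | ⟨rfl, rfl⟩
    · rfl
    · exact absurd (hab.1.1.trans hcd.1.1) (lt_irrefl a)
  rw [Nat.card_eq_fintype_card (α := (covGraph ρ).edgeSet), ← SimpleGraph.edgeFinset_card] at h3
  exact h3

end Cfsg.Agent.Lib.PatGen
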