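import Mathlib
import Cfsg.Agent.Lib.PatGen1
import Cfsg.Agent.Lib.PatGen2

/-!
Patterson's theorem (helper33), continued: the generating set.
-/

set_option autoImplicit false

namespace Cfsg.Agent.Lib.PatGen

open Subgroup Matrix
open Cfsg.Agent.Lib.PSLAut
open scoped commutatorElement

variable {r : ℕ} {p : ℕ} [hp : Fact p.Prime] {Q : Type*} [Group Q]

/-- A `p`-group acting by unitriangular matrices over `ZMod p` is generated by `r ^ 2 / 4` elements
modulo the kernel. -/
theorem patterson [Finite Q] (hQ : IsPGroup p Q) (ρ : Q →* Matrix (Fin r) (Fin r) (ZMod p))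
    (hρ : ∀ q, IsUT (ρ q)) : ∃ S : Finset Q, S.card ≤ r ^ 2 / 4 ∧ closure (S : Set Q) ⊔ ρ.ker = ⊤ := by
  classical
  have hch : ∀ w : {w : Fin r × Fin r // Cov ρ w.1 w.2}, ∃ q, UW (ρ q) (wt w.1.1 w.1.2) ∧ ρ q w.1.1 w.1.2 ≠ 0 :=
    fun w => w.2.1.2
  choose g hg1 hg2 using hch
  have : Fintype {w : Fin r × Fin r // Cov ρ w.1 w.2} := Fintype.ofFinite _
  refine ⟨Finset.univ.image g, ?_, ?_⟩
  · refine Finset.card_image_le.trans ?_
    rw [Finset.card_univ, ← Nat.card_eq_fintype_card]
    exact card_cov ρ
  set S : Subgroup Q := closure ((Finset.univ.image g : Finset Q) : Set Q) with hS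
  have hgS : ∀ w, g w ∈ S := by
    intro w
    apply Subgroup.subset_closure
    simp
  set R : Subgroup Q := S ⊔ ρ.ker ⊔ frattini Q with hR
  have hcomm : ∀ x y : Q, ⁅x, y⁆ ∈ R := by
    intro x y
    apply (le_sup_right : frattini Q ≤ R)
    apply H70Frattini.commutator_le_frattini hQ
    exact commutator_mem_commutator (mem_top x) (mem_top y)
  have key : ∀ n w : ℕ, 2 ^ r ≤ w + n → ∀ q : Q, UW (ρ q) w → q ∈ R := by
    intro n
    induction n with
    | zero =>
      intro w hw q hq
      apply (le_sup_left : S ⊔ ρ.ker ≤ R)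
      apply (le_sup_right : ρ.ker ≤ S ⊔ ρ.ker)
      rw [MonoidHom.mem_ker]
      ext i j
      rcases lt_trichotomy i j with h | h | h
      · rw [Matrix.one_apply_ne h.ne]
        apply hq i j h
        have h1 : wt i j ≤ 2 ^ (j : ℕ) - 1 := by
          unfold wt
          have : 0 < 2 ^ (i : ℕ) := by positivity
          omega
        have h2 : 2 ^ (j : ℕ) < 2 ^ r := Nat.pow_lt_pow_right (by norm_num) j.2
        have h3 : 0 < 2 ^ (j : ℕ) := by positivity
        omega
      · subst h
        rw [(hρ q).1, Matrix.one_apply_eq]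
      · rw [(hρ q).2 i j h, Matrix.one_apply_ne h.ne']
    | succ n ih =>
      intro w hw q hq
      by_cases hex : ∃ i j : Fin r, i < j ∧ wt i j = w ∧ ρ q i j ≠ 0
      · obtain ⟨i, j, hij, hwij, hne⟩ := hex
        have hL : Lead ρ i j := ⟨hij, q, by rw [hwij]; exact hq, hne⟩
        obtain ⟨h, hhR, hhw, hhne⟩ : ∃ h ∈ R, UW (ρ h) (wt i j) ∧ ρ h i j ≠ 0 := by
          by_cases hc : Cov ρ i j
          · exact ⟨g ⟨(i, j), hc⟩, (le_sup_left : S ⊔ ρ.ker ≤ R) ((le_sup_left : S ≤ S ⊔ ρ.ker) (hgS _)),
              hg1 ⟨(i, j), hc⟩, hg2 ⟨(i, j), hc⟩⟩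
          · have : ∃ l, Lead ρ i l ∧ Lead ρ l j := by
              by_contra hcon
              exact hc ⟨hL, hcon⟩
            obtain ⟨l, ⟨hil, x, hx1, hx2⟩, ⟨hlj, y, hy1, hy2⟩⟩ := this
            refine ⟨⁅x, y⁆, hcomm x y, ?_, ?_⟩
            · rw [← wt_add (i := i) (l := l) (j := j) hil.le hlj.le]
              exact comm_UW hρ hx1 hy1
            · rw [comm_top hρ hil hlj hx1 hy1]
              exact mul_ne_zero hx2 hy2
        set m : ℕ := (-(ρ q i j) / ρ h i j : ZMod p).val with hm
        obtain ⟨hp1, hp2⟩ := pow_entry hρ hij hhw m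
        have hmc : ((m : ℕ) : ZMod p) = -(ρ q i j) / ρ h i j := by
          rw [hm, ZMod.natCast_val, ZMod.cast_id]
        have hq' : UW (ρ q) (wt i j) := by rw [hwij]; exact hq
        have hmem : q * h ^ m ∈ R := by
          apply ih (w + 1) (by omega)
          intro a b hab hlt
          rw [map_mul, mul_entry_lt (hρ _) (hρ _) hq' hp1 hab
            (by have := wt_pos (i := i) (j := j) hij; omega)]
          by_cases hlt' : wt a b < wt i j
          · rw [hq' a b hab hlt', hp1 a b hab hlt', add_zero]
          · have h5 : wt a b = wt i j := by omega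
            have h6 := wt_inj (i := a) (j := b) (k := i) (l := j) hab hij h5
            have h7 : a = i := Fin.ext h6.1
            have h8 : b = j := Fin.ext h6.2
            subst h7; subst h8
            rw [hp2, hmc]
            field_simp
            ring
        have h9 : q = (q * h ^ m) * (h ^ m)⁻¹ := by group
        rw [h9]
        exact R.mul_mem hmem (R.inv_mem (R.pow_mem hhR m))
      · apply ih (w + 1) (by omega) q
        intro i j hij hlt
        by_cases hlt' : wt i j < w
        · exact hq i j hij hlt'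
        · by_contra hne
          exact hex ⟨i, j, hij, by omega, hne⟩
  have hRtop : R = ⊤ := by
    rw [eq_top_iff]
    intro q _
    apply key (2 ^ r) 0 (by omega) q
    intro i j _ h
    exact absurd h (Nat.not_lt_zero _)
  rw [hR] at hRtop
  exact frattini_nongenerating hRtop

/-- generators of an extension -/
theorem gen_ext {G : Type*} [Group G] (K : Subgroup G) {S : Finset G} {T : Finset K} {a b : ℕ}
    (hS : S.card ≤ a) (hS' : closure (S : Set G) ⊔ K = ⊤) (hT : T.card ≤ b)
    (hT' : closure (T : Set K) = ⊤) : ∃ U : Finset G, U.card ≤ a + b ∧ closure (U : Set G) = ⊤ := by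
  classical
  refine ⟨S ∪ T.image Subtype.val, ?_, ?_⟩
  · refine (Finset.card_union_le _ _).trans ?_
    have := Finset.card_image_le (s := T) (f := (Subtype.val : K → G))
    omega
  · rw [eq_top_iff, ← hS']
    apply sup_le
    · apply Subgroup.closure_mono
      intro x hx
      rw [Finset.coe_union]
      exact Or.inl hx
    · have h2 : (closure (T : Set K)).map K.subtype = K := by
        rw [hT', ← MonoidHom.range_eq_map, range_subtype]
      rw [MonoidHom.map_closure] at h2
      have h3 : (⇑K.subtype '' (T : Set K)) ⊆ ((S ∪ T.image Subtype.val : Finset G) : Set G) := by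
        rintro y ⟨z, hz, rfl⟩
        rw [Finset.coe_union, Finset.coe_image]
        exact Or.inr ⟨z, hz, rfl⟩
      exact (le_of_eq h2.symm).trans (Subgroup.closure_mono h3)

end Cfsg.Agent.Lib.PatGen
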