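import Mathlib
import Cfsg.Agent.Lib.PatGen3
import Cfsg.Agent.Lib.ElabRep
import Cfsg.Agent.Lib.SubgroupTools

/-!
Number of generators of subgroups of `p`-groups, `p` odd (helper33).
-/

set_option autoImplicit false

namespace Cfsg.Agent.Lib.PatGen

open Subgroup Matrix
open Cfsg.Agent.Lib.PSLAut
open scoped commutatorElement

variable {r : ℕ} {p : ℕ} [hp : Fact p.Prime]

/-- conjugate a representation of a `p`-group to unitriangular form -/
theorem exists_UT {Q : Type*} [Group Q] [Finite Q] (hQ : IsPGroup p Q)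
    (ρ0 : Q →* Matrix (Fin r) (Fin r) (ZMod p)) :
    ∃ ρ : Q →* Matrix (Fin r) (Fin r) (ZMod p), (∀ q, IsUT (ρ q)) ∧ ∀ q, ρ q = 1 ↔ ρ0 q = 1 := by
  classical
  have hdet : ∀ q, (ρ0 q).det = 1 := by
    intro q
    obtain ⟨k, hk⟩ := hQ q
    have h1 : (ρ0 q).det ^ p ^ k = 1 := by
      rw [← Matrix.det_pow, ← map_pow, hk, map_one, Matrix.det_one]
    have h2 : ∀ k : ℕ, ∀ x : ZMod p, x ^ p ^ k = x := by
      intro k x
      induction k with
      | zero => simp
      | succ k ih => rw [pow_succ, pow_mul, ih, ZMod.pow_card]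
    rwa [h2] at h1
  let f : Q →* SpecialLinearGroup (Fin r) (ZMod p) :=
    { toFun := fun q => ⟨ρ0 q, hdet q⟩
      map_one' := Subtype.ext (map_one ρ0)
      map_mul' := fun a b => Subtype.ext (map_mul ρ0 a b) }
  have hf : IsPGroup p f.range := by
    have := hQ.of_surjective f.rangeRestrict f.rangeRestrict_surjective
    exact this
  obtain ⟨R, hR⟩ := hf.exists_le_sylow
  obtain ⟨s, hs⟩ := MulAction.exists_smul_eq (SpecialLinearGroup (Fin r) (ZMod p)) R (SylUT r (ZMod p) p)
  let ρ : Q →* Matrix (Fin r) (Fin r) (ZMod p) :=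
    { toFun := fun q => (s * f q * s⁻¹ : SpecialLinearGroup (Fin r) (ZMod p)).1
      map_one' := by rw [map_one, mul_one, mul_inv_cancel]; rfl
      map_mul' := fun a b => by
        show (s * f (a * b) * s⁻¹ : SpecialLinearGroup (Fin r) (ZMod p)).1 =
          ((s * f a * s⁻¹) * (s * f b * s⁻¹) : SpecialLinearGroup (Fin r) (ZMod p)).1
        congr 1
        rw [map_mul]
        simp [mul_assoc]
        rfl }
  refine ⟨ρ, ?_, ?_⟩
  · intro q
    have h1 : s * f q * s⁻¹ ∈ UT r (ZMod p) := by
      rw [← coe_SylUT r (ZMod p) p, ← hs, Sylow.coe_subgroup_smul]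
      rw [Subgroup.mem_pointwise_smul_iff_inv_smul_mem]
      have : (MulAut.conj s)⁻¹ • (s * f q * s⁻¹) = f q := by
        rw [← map_inv, MulAut.smul_def, MulAut.conj_apply]; group
      rw [this]
      exact hR ⟨q, rfl⟩
    exact mem_UT.mp h1
  · intro q
    have h1 : ρ q = 1 ↔ s * f q * s⁻¹ = 1 := by
      constructor
      · intro h
        exact Subtype.ext h
      · intro h
        show (s * f q * s⁻¹ : SpecialLinearGroup (Fin r) (ZMod p)).1 = 1
        rw [h]; rfl
    rw [h1, conj_eq_one_iff]
    constructor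
    · intro h
      exact congrArg Subtype.val h
    · intro h
      exact Subtype.ext h

theorem exists_finBasis {F V : Type*} [Field F] [AddCommGroup V] [Module F V] [Finite V] {r : ℕ}
    (hfr : Module.finrank F V = r) : Nonempty (Module.Basis (Fin r) F V) := by
  have hmf : Module.Finite F V := Module.Finite.of_finite (R := F) (M := V)
  exact ⟨Module.finBasisOfFinrankEq F V hfr⟩

theorem exists_matrix {F V H : Type*} [Field F] [AddCommGroup V] [Module F V] [Group H] {r : ℕ}
    (b : Module.Basis (Fin r) F V) (τ : Representation F H V) :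
    ∃ ρ0 : H →* Matrix (Fin r) (Fin r) F, ∀ h, ρ0 h = 1 ↔ τ h = 1 := by
  refine ⟨((LinearMap.toMatrixAlgEquiv b : (V →ₗ[F] V) ≃ₐ[F] Matrix (Fin r) (Fin r) F) :
    (V →ₗ[F] V) →* Matrix (Fin r) (Fin r) F).comp τ, fun h => ?_⟩
  show LinearMap.toMatrixAlgEquiv b (τ h) = 1 ↔ _
  constructor
  · intro h2
    apply (LinearMap.toMatrixAlgEquiv b).injective
    rw [h2, map_one]
  · intro h2
    rw [h2, map_one]

/-- every subgroup of `P` is generated by `r ^ 2 / 4 + r` elements, where `p ^ r` is the order of a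
normal elementary abelian subgroup containing all elements of order `p` of its centralizer. -/
theorem subgroup_gen (hp2 : p ≠ 2) {P : Type*} [Group P] [Finite P] (hP : IsPGroup p P) (E : Subgroup P)
    (hEn : E.Normal) (hEc : IsMulCommutative E) (hEp : ∀ x ∈ E, x ^ p = 1)
    (hC : ∀ x ∈ centralizer (E : Set P), x ^ p = 1 → x ∈ E) (hr : Nat.card E = p ^ r) (H : Subgroup P) :
    ∃ S : Finset H, S.card ≤ r ^ 2 / 4 + r ∧ closure (S : Set H) = ⊤ := by
  classical
  let _ : CommGroup E := { (inferInstance : Group E) with mul_comm := hEc.is_comm.comm }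
  have hE' : ∀ x : E, x ^ p = 1 := fun x => Subtype.ext (hEp x x.2)
  have hHn : H ≤ Subgroup.normalizer (E : Set P) := by
    rw [Subgroup.normalizer_eq_top_iff.mpr hEn]; exact le_top
  let instM : Module (ZMod p) (Additive E) := ElabRep.elabModule E p hE'
  let φ := ElabRep.conjHom H E hHn
  have hfr : Module.finrank (ZMod p) (Additive E) = r := ElabRep.finrank_eq p r hE' hr
  have hfin : Finite (Additive E) := inferInstanceAs (Finite E)
  obtain ⟨b⟩ := exists_finBasis hfr
  obtain ⟨ρ0, hρ0⟩ := exists_matrix b (ElabRep.elabRep p hE' φ)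
  have hHp : IsPGroup p H := hP.to_subgroup H
  obtain ⟨ρ, hρ, hker⟩ := exists_UT hHp ρ0
  have hker2 : ∀ h : H, h ∈ ρ.ker ↔ (h : P) ∈ centralizer (E : Set P) := by
    intro h
    rw [MonoidHom.mem_ker, hker]
    rw [hρ0, ElabRep.elabRep_eq_one_iff]
    exact ElabRep.conjHom_eq_one_iff H E hHn h
  obtain ⟨S, hS, hS'⟩ := patterson hHp ρ hρ
  have hcK : ∀ x : ρ.ker, x ^ p = 1 → x ∈ center ρ.ker := by
    intro x hx
    have hxp : ((x : H) : P) ^ p = 1 := by
      have := congrArg (fun y : ρ.ker => ((y : H) : P)) hx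
      simpa using this
    have hxE : ((x : H) : P) ∈ E := hC _ ((hker2 x).mp x.2) hxp
    rw [mem_center_iff]
    intro g
    apply Subtype.ext
    apply Subtype.ext
    have hg := (hker2 g).mp g.2
    rw [mem_centralizer_iff] at hg
    exact (hg _ hxE).symm
  have hcard : Nat.card {x : ρ.ker // x ^ p = 1} ≤ p ^ r := by
    rw [← hr]
    let f : {x : ρ.ker // x ^ p = 1} → E := fun x => ⟨((x.1 : H) : P), by
      apply hC _ ((hker2 x.1).mp x.1.2)
      have := congrArg (fun y : ρ.ker => ((y : H) : P)) x.2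
      simpa using this⟩
    apply Nat.card_le_card_of_injective f
    intro x y h
    apply Subtype.ext
    apply Subtype.ext
    apply Subtype.ext
    exact congrArg (fun e : E => (e : P)) h
  obtain ⟨T, hT, hT'⟩ := thompson (p := p) hp2 _ ρ.ker rfl (hHp.to_subgroup ρ.ker) hcK r hcard
  exact gen_ext ρ.ker hS hS' hT hT'

/-- an abelian group of exponent `p` generated by `k` elements has order at most `p ^ k` -/
theorem card_closure_le {P : Type*} [Group P] [Finite P] [DecidableEq P] (S : Finset P)
    (h1 : ∀ x ∈ S, ∀ y ∈ S, x * y = y * x) (h2 : ∀ x ∈ S, x ^ p = 1) :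
    Nat.card (closure (S : Set P)) ≤ p ^ S.card := by
  classical
  induction S using Finset.induction_on with
  | empty => simp
  | insert a S ha ih =>
    have ih' := ih (fun x hx y hy => h1 x (Finset.mem_insert_of_mem hx) y (Finset.mem_insert_of_mem hy))
      (fun x hx => h2 x (Finset.mem_insert_of_mem hx))
    rw [Finset.card_insert_of_notMem ha, Finset.coe_insert, Set.insert_eq, Subgroup.closure_union,
      ← zpowers_eq_closure]
    have hn : zpowers a ≤ normalizer (closure (S : Set P) : Set P) := by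
      rw [zpowers_le]
      have h3 : a ∈ centralizer (closure (S : Set P) : Set P) := by
        rw [mem_centralizer_iff]
        intro y hy
        induction hy using Subgroup.closure_induction with
        | mem s hs => exact h1 s (Finset.mem_insert_of_mem hs) a (Finset.mem_insert_self a S)
        | one => rw [one_mul, mul_one]
        | mul x y _ _ hx hy => rw [mul_assoc, hy, ← mul_assoc, hx, mul_assoc]
        | inv x _ hx =>
          have h4 : Commute x a := hx
          exact h4.inv_left.eq
      exact centralizer_le_normalizer _ h3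
    have h4 := SubgroupTools.card_sup_mul_card_inf hn
    have h5 : Nat.card (zpowers a) ≤ p := by
      rw [Nat.card_zpowers]
      exact Nat.le_of_dvd hp.out.pos (orderOf_dvd_of_pow_eq_one (h2 a (Finset.mem_insert_self a S)))
    have h6 : 0 < Nat.card (closure (S : Set P) ⊓ zpowers a : Subgroup P) := Nat.card_pos
    have h7 : Nat.card (zpowers a ⊔ closure (S : Set P) : Subgroup P) ≤ p * p ^ S.card := by
      rw [sup_comm]
      calc _ ≤ Nat.card (closure (S : Set P) ⊔ zpowers a : Subgroup P) * Nat.card (closure (S : Set P) ⊓ zpowers a : Subgroup P) :=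
            Nat.le_mul_of_pos_right _ h6
        _ = Nat.card (closure (S : Set P)) * Nat.card (zpowers a) := h4
        _ ≤ p ^ S.card * p := Nat.mul_le_mul ih' h5
        _ = _ := mul_comm _ _
    calc _ ≤ p * p ^ S.card := h7
      _ = p ^ (S.card + 1) := by rw [pow_succ, mul_comm]

/-- Patterson's bound on the number of generators. -/
theorem gen_bound (hp2 : p ≠ 2) {P : Type*} [Group P] [Finite P] (hP : IsPGroup p P) (k : ℕ)
    (hab : ∀ A : Subgroup P, A.Normal → IsMulCommutative A → (∀ x ∈ A, x ^ p = 1) → Nat.card A ≤ p ^ k)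
    (H : Subgroup P) : ∃ S : Finset P, S.card ≤ k * (k + 4) / 4 ∧ closure (S : Set P) = H := by
  classical
  -- a maximal normal elementary abelian subgroup
  let T : Set (Subgroup P) := {A | A.Normal ∧ IsMulCommutative A ∧ ∀ x ∈ A, x ^ p = 1}
  have hT : T.Finite := Set.toFinite _
  have hT0 : (⊥ : Subgroup P) ∈ T := by
    refine ⟨inferInstance, inferInstance, ?_⟩
    intro x hx
    rw [mem_bot] at hx
    rw [hx, one_pow]
  obtain ⟨E, -, hE⟩ := hT.exists_le_maximal hT0
  obtain ⟨⟨hEn, hEc, hEp⟩, hmax⟩ := hE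
  have hC : ∀ x ∈ centralizer (E : Set P), x ^ p = 1 → x ∈ E := by
    intro x hx hxp
    apply AlperinLemma.mem_of_mem_centralizer (p := p) hP 1 (by rw [pow_one]; exact hp2) E hEn hEc
      (by rw [pow_one]; exact hEp) ?_ x hx (by rw [pow_one]; exact hxp)
    intro B hB1 hB2 hB3 hEB
    rw [pow_one] at hB3
    exact le_antisymm (hmax ⟨hB1, hB2, hB3⟩ hEB) hEB
  obtain ⟨r, hr⟩ := (hP.to_subgroup E).exists_card_eq
  have hrk : r ≤ k := by
    have h1 := hab E hEn hEc hEp
    rw [hr] at h1
    exact (Nat.pow_le_pow_iff_right hp.out.one_lt).mp h1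
  obtain ⟨S, hS, hS'⟩ := subgroup_gen hp2 hP E hEn hEc hEp hC hr H
  refine ⟨S.image Subtype.val, ?_, ?_⟩
  · refine Finset.card_image_le.trans (hS.trans ?_)
    have h1 : r ^ 2 / 4 ≤ k ^ 2 / 4 := Nat.div_le_div_right (Nat.pow_le_pow_left hrk 2)
    have h2 : k * (k + 4) / 4 = k ^ 2 / 4 + k := by
      have : k * (k + 4) = k ^ 2 + k * 4 := by ring
      rw [this, Nat.add_mul_div_right _ _ (by norm_num)]
    omega
  · have h2 : (closure (S : Set H)).map H.subtype = H := by
      rw [hS', ← MonoidHom.range_eq_map, range_subtype]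
    rw [MonoidHom.map_closure] at h2
    rw [Finset.coe_image]
    exact h2

end Cfsg.Agent.Lib.PatGen
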