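import Mathlib
import Cfsg.Prelude.Def_Characters
import Cfsg.Prelude.Def_Perm
import Cfsg.Agent.Lib.CharBasic
import Cfsg.Agent.Lib.CharBasic2
import Cfsg.Agent.Lib.PermRepBasic

set_option autoImplicit false

/-!
# Permutation characters and the centraliser ring (helper12)
-/

namespace Cfsg.Agent.Lib.PermChar

open scoped ComplexConjugate
open Representation Module Cfsg.Agent.Lib.CharBasic

universe u v w

variable {G : Type u} [Group G]

theorem permRep_character {Ω : Type v} [MulAction G Ω] [Finite Ω] (g : G) :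
    (Cfsg.permRep ℂ G Ω).character g = (Nat.card (MulAction.fixedBy Ω g) : ℂ) := by
  classical
  have := Fintype.ofFinite Ω
  unfold Representation.character
  rw [LinearMap.trace_eq_matrix_trace ℂ (Pi.basisFun ℂ Ω), Matrix.trace]
  simp only [Matrix.diag_apply, LinearMap.toMatrix_apply]
  have h : ∀ x : Ω, ((Pi.basisFun ℂ Ω).repr
      ((Cfsg.permRep ℂ G Ω) g ((Pi.basisFun ℂ Ω) x))) x =
        if x ∈ MulAction.fixedBy Ω g then 1 else 0 := by
    intro x
    rw [Pi.basisFun_apply, Pi.basisFun_repr, PermRepBasic.permRep_single, Pi.single_apply]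
    by_cases hx : g • x = x
    · rw [if_pos hx.symm, if_pos (MulAction.mem_fixedBy.mpr hx)]
    · rw [if_neg (fun h => hx h.symm), if_neg (fun h => hx (MulAction.mem_fixedBy.mp h))]
  simp only [h]
  rw [Finset.sum_boole, Nat.card_eq_fintype_card, Fintype.card_subtype]

section

variable [Fintype G]

theorem wsum_comm_map {V : Type v} [AddCommGroup V] [Module ℂ V] {W : Type w} [AddCommGroup W]
    [Module ℂ W] {ρ : Representation ℂ G V} {σ : Representation ℂ G W} (a : G → ℂ)
    (f : V →ₗ[ℂ] W) (hf : ∀ g v, f (ρ g v) = σ g (f v)) (v : V) :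
    f (wsum a ρ v) = wsum a σ (f v) := by
  rw [wsum_apply, wsum_apply, map_sum]
  apply Finset.sum_congr rfl
  intro g _
  rw [map_smul, hf]

/-- a constituent `φ` gives a vector on which every class function acts by the right scalar. -/
theorem exists_vector {V : Type v} [AddCommGroup V] [Module ℂ V] [FiniteDimensional ℂ V]
    (ρ : Representation ℂ G V) {φ : G → ℂ} (hφ : IsIrrCharacter G φ)
    (h : classInner ρ.character φ ≠ 0) :
    ∃ v : V, v ≠ 0 ∧ ∀ a : G → ℂ, IsClassFunction G a →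
      wsum a ρ v = ((∑ g : G, a g * φ g) / φ 1) • v := by
  obtain ⟨n, σ, hσ, hσφ⟩ := hφ
  have h1 := classInner_character_eq_finrank ρ σ
  rw [hσφ] at h1
  have h2 : finrank ℂ (IntertwiningMap σ ρ) ≠ 0 := by
    intro h3
    rw [h3] at h1
    exact h (by rw [h1]; simp)
  have hnt : Nontrivial (IntertwiningMap σ ρ) := by
    by_contra hcon
    rw [not_nontrivial_iff_subsingleton] at hcon
    exact h2 (finrank_zero_of_subsingleton)
  obtain ⟨f, hf⟩ := exists_ne (0 : IntertwiningMap σ ρ)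
  obtain ⟨w, hw⟩ : ∃ w, f w ≠ 0 := by
    by_contra hcon
    push Not at hcon
    apply hf
    apply IntertwiningMap.ext
    apply LinearMap.ext
    intro x
    exact hcon x
  refine ⟨f w, hw, ?_⟩
  intro a ha
  obtain ⟨c, hc⟩ := wsum_irr_scalar ha σ hσ
  have h3 : f.toLinearMap (wsum a σ w) = wsum a ρ (f.toLinearMap w) :=
    wsum_comm_map a f.toLinearMap (fun g v => IntertwiningMap.isIntertwining σ ρ f g v) w
  have h4 : wsum a ρ (f w) = c • f w := by
    rw [hc] at h3
    have h5 : wsum a ρ (f w) = f.toLinearMap ((c • (LinearMap.id : (Fin n → ℂ) →ₗ[ℂ] _)) w) :=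
      h3.symm
    rw [h5, LinearMap.smul_apply, map_smul]
    rfl
  rw [h4]
  congr 1
  have h6 := trace_wsum a σ
  rw [hc, map_smul, LinearMap.trace_id, smul_eq_mul] at h6
  have h7 : φ 1 = (finrank ℂ (Fin n → ℂ) : ℂ) := by rw [← hσφ, char_one]
  have h8 : (finrank ℂ (Fin n → ℂ) : ℂ) ≠ 0 := by
    rw [← h7]
    exact IsIrrCharacter.one_ne_zero ⟨n, σ, hσ, hσφ⟩
  rw [h7, eq_div_iff h8, h6, hσφ]

omit [Fintype G] in
theorem isClassFunction_conj {φ : G → ℂ} (h : IsClassFunction G φ) :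
    IsClassFunction G (fun g => conj (φ g)) := fun g x => by
  show conj (φ _) = conj (φ _)
  rw [h]

theorem sum_conj_mul (φ ψ : G → ℂ) :
    ∑ g : G, conj (ψ g) * φ g = (Nat.card G : ℂ) * classInner φ ψ := by
  have hG : (Nat.card G : ℂ) ≠ 0 := by exact_mod_cast Nat.card_pos.ne'
  rw [classInner_def, ← mul_assoc, mul_inv_cancel₀ hG, one_mul]
  exact Finset.sum_congr rfl fun g _ => mul_comm _ _

/-- the wsum intertwiner. -/
noncomputable def wI {V : Type v} [AddCommGroup V] [Module ℂ V] (ρ : Representation ℂ G V)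
    {a : G → ℂ} (ha : IsClassFunction G a) : IntertwiningMap ρ ρ :=
  ⟨wsum a ρ, fun g => LinearMap.ext fun v => wsum_comm ha ρ g v⟩

/-- In the multiplicity-free case the centraliser algebra is spanned by the class sums. -/
theorem span_of_mult_free {V : Type v} [AddCommGroup V] [Module ℂ V] [FiniteDimensional ℂ V]
    (ρ : Representation ℂ G V)
    (hmf : ∀ ψ : G → ℂ, IsIrrCharacter G ψ → classInner ρ.character ψ = 0 ∨
      classInner ρ.character ψ = 1)
    (T : V →ₗ[ℂ] V) (hT : ∀ g v, T (ρ g v) = ρ g (T v)) :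
    ∃ (s : Finset (IrrCharacter G)) (c : IrrCharacter G → ℂ),
      (∀ ψ ∈ s, classInner ρ.character (ψ : G → ℂ) ≠ 0) ∧
      T = ∑ ψ ∈ s, c ψ • wsum (fun g => conj ((ψ : G → ℂ) g)) ρ := by
  classical
  let C := {ψ : IrrCharacter G // classInner ρ.character (ψ : G → ℂ) ≠ 0}
  let F : C → IntertwiningMap ρ ρ := fun ψ => wI ρ (isClassFunction_conj ψ.1.2.isClassFunction)
  have hG : (Nat.card G : ℂ) ≠ 0 := by exact_mod_cast Nat.card_pos.ne'
  have hli : LinearIndependent ℂ F := by
    rw [Fintype.linearIndependent_iff]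
    intro c hc i
    obtain ⟨v, hv, hvs⟩ := exists_vector ρ i.1.2 i.2
    have h1 := congrArg (fun f : IntertwiningMap ρ ρ => f v) hc
    have h2 : (∑ ψ : C, c ψ • F ψ) v = ∑ ψ : C, c ψ • (F ψ v) := by
      rw [IntertwiningMap.sum_apply]
      rfl
    have h3 : ∑ ψ : C, c ψ • (F ψ v) = 0 := by
      rw [← h2]
      exact h1
    have h4 : ∀ ψ : C, F ψ v = ((Nat.card G : ℂ) * classInner (i.1 : G → ℂ) (ψ.1 : G → ℂ) /
        (i.1 : G → ℂ) 1) • v := by
      intro ψ
      have := hvs _ (isClassFunction_conj ψ.1.2.isClassFunction)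
      rw [sum_conj_mul] at this
      exact this
    rw [Finset.sum_congr rfl (fun ψ _ => by rw [h4 ψ])] at h3
    rw [Finset.sum_eq_single i] at h3
    · rw [i.1.2.classInner_self, mul_one, smul_smul] at h3
      rcases smul_eq_zero.mp h3 with h5 | h5
      · rcases mul_eq_zero.mp h5 with h6 | h6
        · exact h6
        · exfalso
          exact (div_ne_zero hG i.1.2.one_ne_zero) h6
      · exact absurd h5 hv
    · intro ψ _ hψ
      rw [irr_orthonormal, if_neg (fun h => hψ (Subtype.ext h.symm)), mul_zero, zero_div,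
        zero_smul, smul_zero]
    · intro h; exact absurd (Finset.mem_univ _) h
  have hcard : Fintype.card C = finrank ℂ (IntertwiningMap ρ ρ) := by
    have h1 := classInner_character_eq_finrank ρ ρ
    have h2 := (isCharacter_of_rep ρ).isClassFunction.classInner_eq_sum ρ.character
    rw [h1] at h2
    have h3 : ∀ ψ : IrrCharacter G, classInner ρ.character (ψ : G → ℂ) *
        conj (classInner ρ.character (ψ : G → ℂ)) =
        if classInner ρ.character (ψ : G → ℂ) ≠ 0 then 1 else 0 := by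
      intro ψ
      rcases hmf ψ ψ.2 with h | h <;> rw [h] <;> simp
    rw [Finset.sum_congr rfl (fun ψ _ => h3 ψ), Finset.sum_boole] at h2
    rw [Fintype.card_subtype]
    exact_mod_cast h2.symm
  have hspan := hli.span_eq_top_of_card_eq_finrank' hcard
  let T' : IntertwiningMap ρ ρ := ⟨T, fun g => LinearMap.ext fun v => hT g v⟩
  have hT' : T' ∈ Submodule.span ℂ (Set.range F) := by rw [hspan]; trivial
  rw [Submodule.mem_span_range_iff_exists_fun] at hT'
  obtain ⟨c, hc⟩ := hT'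
  refine ⟨Finset.univ.filter (fun ψ => classInner ρ.character (ψ : G → ℂ) ≠ 0),
    fun ψ => if h : classInner ρ.character (ψ : G → ℂ) ≠ 0 then c ⟨ψ, h⟩ else 0, ?_, ?_⟩
  · intro ψ hψ
    exact (Finset.mem_filter.mp hψ).2
  · have h1 : T = (∑ ψ : C, c ψ • F ψ).toLinearMap := by rw [hc]
    rw [h1, IntertwiningMap.toLinearMap_sum, Finset.sum_subtype (p := fun ψ : IrrCharacter G =>
      classInner ρ.character (ψ : G → ℂ) ≠ 0) _ (by simp)]
    apply Finset.sum_congr rfl
    intro ψ _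
    have h5 : (fun ψ : IrrCharacter G => if h : classInner ρ.character (ψ : G → ℂ) ≠ 0 then
      c ⟨ψ, h⟩ else 0) ψ.1 = c ψ := dif_pos ψ.2
    rw [h5]
    rfl

theorem comm_of_mult_free {V : Type v} [AddCommGroup V] [Module ℂ V] [FiniteDimensional ℂ V]
    (ρ : Representation ℂ G V)
    (hmf : ∀ ψ : G → ℂ, IsIrrCharacter G ψ → classInner ρ.character ψ = 0 ∨
      classInner ρ.character ψ = 1)
    (S T : V →ₗ[ℂ] V) (hS : ∀ g v, S (ρ g v) = ρ g (S v)) (hT : ∀ g v, T (ρ g v) = ρ g (T v)) :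
    S ∘ₗ T = T ∘ₗ S := by
  obtain ⟨s, c, _, rfl⟩ := span_of_mult_free ρ hmf T hT
  apply LinearMap.ext
  intro v
  rw [LinearMap.comp_apply, LinearMap.comp_apply, LinearMap.sum_apply, LinearMap.sum_apply, map_sum]
  apply Finset.sum_congr rfl
  intro ψ _
  rw [LinearMap.smul_apply, LinearMap.smul_apply, map_smul, wsum_comm_map _ S hS]

theorem exists_not_comm {V : Type v} [AddCommGroup V] [Module ℂ V] [FiniteDimensional ℂ V]
    (ρ : Representation ℂ G V) {ψ : G → ℂ} (hψ : IsIrrCharacter G ψ)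
    (h0 : classInner ρ.character ψ ≠ 0) (h1 : classInner ρ.character ψ ≠ 1) :
    ∃ S T : V →ₗ[ℂ] V, (∀ g v, S (ρ g v) = ρ g (S v)) ∧ (∀ g v, T (ρ g v) = ρ g (T v)) ∧
      S ∘ₗ T ≠ T ∘ₗ S := by
  have hχ := isCharacter_of_rep ρ
  have hχ1 := hχ.sub_constituent hψ h0
  have h2 : classInner (ρ.character - ψ) ψ ≠ 0 := by
    rw [classInner_sub_left, hψ.classInner_self]
    exact sub_ne_zero.mpr h1
  have hχ2 := hχ1.sub_constituent hψ h2
  obtain ⟨n, σ, hσ, hσψ⟩ := hψ
  obtain ⟨m, τ, hτ⟩ := hχ2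
  have hch : ((σ.prod σ).prod τ).character = ρ.character := by
    rw [char_prod, char_prod, hσψ, hτ]; abel
  obtain ⟨e⟩ := equiv_of_character_eq _ _ hch
  have hnt : Nontrivial (Fin n → ℂ) := nontrivial_of_isIrreducible hσ
  let S' : (((Fin n → ℂ) × (Fin n → ℂ)) × (Fin m → ℂ)) →ₗ[ℂ]
      (((Fin n → ℂ) × (Fin n → ℂ)) × (Fin m → ℂ)) :=
    { toFun := fun x => ((x.1.1, 0), 0)
      map_add' := by intro x y; simp
      map_smul' := by intro c x; simp }
  let T' : (((Fin n → ℂ) × (Fin n → ℂ)) × (Fin m → ℂ)) →ₗ[ℂ]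
      (((Fin n → ℂ) × (Fin n → ℂ)) × (Fin m → ℂ)) :=
    { toFun := fun x => ((x.1.2, x.1.1), 0)
      map_add' := by intro x y; simp
      map_smul' := by intro c x; simp }
  have hS' : ∀ g v, S' (((σ.prod σ).prod τ) g v) = ((σ.prod σ).prod τ) g (S' v) := by
    intro g v
    show ((σ g v.1.1, 0), 0) = ((σ g v.1.1, σ g 0), τ g 0)
    rw [map_zero, map_zero]
  have hT' : ∀ g v, T' (((σ.prod σ).prod τ) g v) = ((σ.prod σ).prod τ) g (T' v) := by
    intro g v
    show ((σ g v.1.2, σ g v.1.1), 0) = ((σ g v.1.2, σ g v.1.1), τ g 0)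
    rw [map_zero]
  have heq : ∀ g v, e.toLinearEquiv (((σ.prod σ).prod τ) g v) = ρ g (e.toLinearEquiv v) := by
    intro g v
    exact IntertwiningMap.isIntertwining _ _ e.toIntertwiningMap g v
  have heq' : ∀ g v, e.toLinearEquiv.symm (ρ g v) =
      ((σ.prod σ).prod τ) g (e.toLinearEquiv.symm v) := by
    intro g v
    rw [LinearEquiv.symm_apply_eq, heq, LinearEquiv.apply_symm_apply]
  refine ⟨e.toLinearEquiv.toLinearMap ∘ₗ S' ∘ₗ e.toLinearEquiv.symm.toLinearMap,
    e.toLinearEquiv.toLinearMap ∘ₗ T' ∘ₗ e.toLinearEquiv.symm.toLinearMap, ?_, ?_, ?_⟩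
  · intro g v
    show e.toLinearEquiv (S' (e.toLinearEquiv.symm (ρ g v))) = ρ g (e.toLinearEquiv (S' _))
    rw [heq', hS', heq]; rfl
  · intro g v
    show e.toLinearEquiv (T' (e.toLinearEquiv.symm (ρ g v))) = ρ g (e.toLinearEquiv (T' _))
    rw [heq', hT', heq]; rfl
  · intro hcon
    obtain ⟨b, hb⟩ := exists_ne (0 : Fin n → ℂ)
    have h3 := congrArg (fun f : V →ₗ[ℂ] V => f (e.toLinearEquiv ((0, b), 0))) hcon
    have h4 : e.toLinearEquiv (S' (e.toLinearEquiv.symm (e.toLinearEquiv (T'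
        (e.toLinearEquiv.symm (e.toLinearEquiv ((0, b), 0))))))) =
      e.toLinearEquiv (T' (e.toLinearEquiv.symm (e.toLinearEquiv (S'
        (e.toLinearEquiv.symm (e.toLinearEquiv ((0, b), 0))))))) := h3
    simp only [LinearEquiv.symm_apply_apply] at h4
    have h5 := e.toLinearEquiv.injective h4
    have h6 : b = 0 := congrArg (fun x => x.1.1) h5
    exact hb h6

end

end Cfsg.Agent.Lib.PermChar
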