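import Mathlib
import Cfsg.Agent.Lib.PermChar

set_option autoImplicit false

/-!
# Permutation characters: orbital operators and the dot product (helper12)
-/

namespace Cfsg.Agent.Lib.PermChar2

open scoped ComplexConjugate
open Representation Module Cfsg.Agent.Lib.CharBasic Cfsg.Agent.Lib.PermChar

universe u v w

variable {G : Type u} [Group G] {Ω : Type v} [Fintype Ω] [MulAction G Ω]

/-- the dot product -/
def dot (u v : Ω → ℂ) : ℂ := ∑ x, u x * v x

omit [MulAction G Ω] [Group G] in
theorem dot_comm (u v : Ω → ℂ) : dot u v = dot v u :=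
  Finset.sum_congr rfl fun _ _ => mul_comm _ _

theorem dot_single [DecidableEq Ω] (x : Ω) (v : Ω → ℂ) : dot (Pi.single x 1) v = v x := by
  unfold dot
  rw [Finset.sum_eq_single x]
  · rw [Pi.single_eq_same, one_mul]
  · intro y _ hy
    rw [Pi.single_eq_of_ne hy, zero_mul]
  · intro h; exact absurd (Finset.mem_univ _) h

theorem eq_of_dot {u v : Ω → ℂ} (h : ∀ w : Ω → ℂ, dot w u = dot w v) : u = v := by
  classical
  ext x
  rw [← dot_single x u, ← dot_single x v]
  exact h _

theorem dot_smul_right (c : ℂ) (u v : Ω → ℂ) : dot u (c • v) = c * dot u v := by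
  unfold dot
  rw [Finset.mul_sum]
  refine Finset.sum_congr rfl fun x _ => ?_
  rw [Pi.smul_apply, smul_eq_mul]; ring

theorem dot_smul_left (c : ℂ) (u v : Ω → ℂ) : dot (c • u) v = c * dot u v := by
  rw [dot_comm, dot_smul_right, dot_comm]

theorem dot_sum_right {ι : Type*} (s : Finset ι) (u : Ω → ℂ) (f : ι → Ω → ℂ) :
    dot u (∑ i ∈ s, f i) = ∑ i ∈ s, dot u (f i) := by
  unfold dot
  rw [Finset.sum_comm]
  refine Finset.sum_congr rfl fun x _ => ?_
  rw [Finset.sum_apply, Finset.mul_sum]

theorem dot_sum_left {ι : Type*} (s : Finset ι) (u : Ω → ℂ) (f : ι → Ω → ℂ) :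
    dot (∑ i ∈ s, f i) u = ∑ i ∈ s, dot (f i) u := by
  rw [dot_comm, dot_sum_right]
  exact Finset.sum_congr rfl fun _ _ => dot_comm _ _

theorem dot_rep (g : G) (u v : Ω → ℂ) :
    dot (Cfsg.permRep ℂ G Ω g u) v = dot u (Cfsg.permRep ℂ G Ω g⁻¹ v) := by
  unfold dot
  refine Fintype.sum_equiv (MulAction.toPerm g⁻¹) _ _ fun x => ?_
  rw [PermRepBasic.permRep_apply, PermRepBasic.permRep_apply, MulAction.toPerm_apply, inv_inv,
    smul_inv_smul]

theorem dot_wsum [Fintype G] (a : G → ℂ) (u v : Ω → ℂ) :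
    dot (wsum a (Cfsg.permRep ℂ G Ω) u) v = dot u (wsum (fun g => a g⁻¹) (Cfsg.permRep ℂ G Ω) v) := by
  rw [wsum_apply, wsum_apply, dot_sum_left, dot_sum_right]
  refine Fintype.sum_equiv (Equiv.inv G) _ _ fun g => ?_
  rw [dot_smul_left, dot_smul_right, dot_rep, Equiv.inv_apply, inv_inv]

/-- symmetric operator -/
def Sym (T : (Ω → ℂ) →ₗ[ℂ] (Ω → ℂ)) : Prop := ∀ u v, dot (T u) v = dot u (T v)

theorem sym_iff [DecidableEq Ω] (T : (Ω → ℂ) →ₗ[ℂ] (Ω → ℂ)) :
    Sym T ↔ ∀ a b, T (Pi.single a 1) b = T (Pi.single b 1) a := by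
  constructor
  · intro h a b
    have := h (Pi.single a 1) (Pi.single b 1)
    rw [dot_single, dot_comm, dot_single] at this
    exact this
  · intro h u v
    unfold dot
    have h1 : ∀ x, T u x * v x = ∑ y, T (Pi.single y 1) x * u y * v x := by
      intro x
      rw [PermRepBasic.apply_eq_sum T u x, Finset.sum_mul]
    have h2 : ∀ x, u x * T v x = ∑ y, u x * (T (Pi.single y 1) x * v y) := by
      intro x
      rw [PermRepBasic.apply_eq_sum T v x, Finset.mul_sum]
    rw [Finset.sum_congr rfl (fun x _ => h1 x), Finset.sum_congr rfl (fun x _ => h2 x),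
      Finset.sum_comm]
    refine Finset.sum_congr rfl fun x _ => Finset.sum_congr rfl fun y _ => ?_
    rw [h x y]; ring

open scoped Classical in
/-- orbital operator -/
noncomputable def orbOp (G : Type u) [Group G] {Ω : Type v} [Fintype Ω] [MulAction G Ω] (a b : Ω) :
    (Ω → ℂ) →ₗ[ℂ] (Ω → ℂ) where
  toFun v y := ∑ x, if (x, y) ∈ MulAction.orbit G (a, b) then v x else 0
  map_add' u v := by
    ext y
    rw [Pi.add_apply, ← Finset.sum_add_distrib]
    refine Finset.sum_congr rfl fun x _ => ?_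
    split_ifs
    · rfl
    · rw [add_zero]
  map_smul' c v := by
    ext y
    rw [Pi.smul_apply, RingHom.id_apply, smul_eq_mul, Finset.mul_sum]
    refine Finset.sum_congr rfl fun x _ => ?_
    split_ifs
    · rfl
    · rw [mul_zero]

open scoped Classical in
theorem orbOp_apply (a b : Ω) (v : Ω → ℂ) (y : Ω) :
    orbOp G a b v y = ∑ x, if (x, y) ∈ MulAction.orbit G (a, b) then v x else 0 := rfl

theorem orbOp_single [DecidableEq Ω] (a b x y : Ω)
    [Decidable ((x, y) ∈ MulAction.orbit G (a, b))] :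
    orbOp G a b (Pi.single x 1) y = if (x, y) ∈ MulAction.orbit G (a, b) then 1 else 0 := by
  classical
  rw [orbOp_apply, Finset.sum_eq_single x]
  · split_ifs
    · rw [Pi.single_eq_same]
    · rfl
  · intro z _ hz
    split_ifs
    · rw [Pi.single_eq_of_ne hz]
    · rfl
  · intro h; exact absurd (Finset.mem_univ _) h

theorem orbOp_comm (a b : Ω) (g : G) (v : Ω → ℂ) :
    orbOp G a b (Cfsg.permRep ℂ G Ω g v) = Cfsg.permRep ℂ G Ω g (orbOp G a b v) := by
  classical
  ext y
  rw [PermRepBasic.permRep_apply, orbOp_apply, orbOp_apply]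
  refine Fintype.sum_equiv (MulAction.toPerm g⁻¹) _ _ fun x => ?_
  rw [PermRepBasic.permRep_apply, MulAction.toPerm_apply]
  have h : (x, y) ∈ MulAction.orbit G (a, b) ↔ (g⁻¹ • x, g⁻¹ • y) ∈ MulAction.orbit G (a, b) := by
    constructor
    · intro h
      exact MulAction.mem_orbit_of_mem_orbit g⁻¹ h
    · intro h
      have := MulAction.mem_orbit_of_mem_orbit g h
      rwa [Prod.smul_mk, smul_inv_smul, smul_inv_smul] at this
  by_cases h1 : (x, y) ∈ MulAction.orbit G (a, b)
  · rw [if_pos h1, if_pos (h.mp h1)]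
  · rw [if_neg h1, if_neg (fun h2 => h1 (h.mpr h2))]

theorem self_paired_iff [Fintype G] [DecidableEq Ω] : (∀ a b : Ω, ∃ g : G, g • a = b ∧ g • b = a) ↔
    ∀ χ : G → ℂ, Cfsg.IsIrrCharacter G χ →
      Cfsg.classInner (Cfsg.permRep ℂ G Ω).character χ ≠ 0 →
      Cfsg.classInner (Cfsg.permRep ℂ G Ω).character χ = 1 ∧
      ∀ g : G, (starRingEnd ℂ) (χ g) = χ g := by
  constructor
  · intro hsp
    -- every commuting operator is symmetric
    have hsym : ∀ T : (Ω → ℂ) →ₗ[ℂ] (Ω → ℂ),
        (∀ (g : G) v, T (Cfsg.permRep ℂ G Ω g v) = Cfsg.permRep ℂ G Ω g (T v)) → Sym T := by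
      intro T hT
      rw [sym_iff]
      intro a b
      obtain ⟨g, hga, hgb⟩ := hsp a b
      have := PermRepBasic.entry_smul (G := G)
        ((PermRepBasic.mem_inv_iff T).mpr hT) g a b
      rw [hga, hgb] at this
      exact this.symm
    intro χ hχ h0
    constructor
    · by_contra h1
      obtain ⟨S, T, hS, hT, hne⟩ := exists_not_comm (Cfsg.permRep ℂ G Ω) hχ h0 h1
      apply hne
      apply LinearMap.ext
      intro v
      apply eq_of_dot
      intro w
      have h2 := hsym (S ∘ₗ T) (fun g v => by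
        rw [LinearMap.comp_apply, LinearMap.comp_apply, hT, hS])
      rw [← h2 w v, LinearMap.comp_apply, LinearMap.comp_apply, hsym S hS, hsym T hT]
    · have hcl : IsClassFunction G (fun g => conj (χ g)) := isClassFunction_conj hχ.isClassFunction
      have h2 := hsym (wsum (fun g => conj (χ g)) (Cfsg.permRep ℂ G Ω))
        (fun g v => wsum_comm hcl _ g v)
      have h3 : ∀ v, wsum (fun g => conj (χ g)) (Cfsg.permRep ℂ G Ω) v =
          wsum χ (Cfsg.permRep ℂ G Ω) v := by
        intro v
        apply eq_of_dot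
        intro w
        have h9 : (fun g => conj (χ g⁻¹)) = χ := by
          ext g
          rw [hχ.inv, Complex.conj_conj]
        rw [← h2, dot_wsum, h9]
      obtain ⟨v, hv, hvs⟩ := exists_vector (Cfsg.permRep ℂ G Ω) hχ h0
      have h4 := hvs _ hcl
      rw [h3, hvs _ hχ.isClassFunction] at h4
      have h5 : (∑ g : G, χ g * χ g) / χ 1 = (∑ g : G, conj (χ g) * χ g) / χ 1 := by
        by_contra hne
        have h6 := sub_smul ((∑ g : G, χ g * χ g) / χ 1) ((∑ g : G, conj (χ g) * χ g) / χ 1) v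
        rw [h4, sub_self] at h6
        rcases smul_eq_zero.mp h6 with h7 | h7
        · exact hne (sub_eq_zero.mp h7)
        · exact hv h7
      rw [div_left_inj' hχ.one_ne_zero, sum_conj_mul, hχ.classInner_self, mul_one] at h5
      have hG : (Nat.card G : ℂ) ≠ 0 := by exact_mod_cast Nat.card_pos.ne'
      have h6 : classInner χ (fun g => conj (χ g)) = 1 := by
        rw [classInner_def]
        have : ∑ g : G, χ g * conj (conj (χ g)) = ∑ g : G, χ g * χ g :=
          Finset.sum_congr rfl fun g _ => by rw [Complex.conj_conj]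
        rw [this, h5, inv_mul_cancel₀ hG]
      have h7 : χ = fun g => conj (χ g) := by
        by_contra hne
        rw [hχ.classInner_eq_zero hχ.conj hne] at h6
        exact zero_ne_one h6
      intro g
      exact (congrFun h7 g).symm
  · intro h a b
    have hmf : ∀ ψ : G → ℂ, IsIrrCharacter G ψ →
        classInner (Cfsg.permRep ℂ G Ω).character ψ = 0 ∨
        classInner (Cfsg.permRep ℂ G Ω).character ψ = 1 := by
      intro ψ hψ
      by_cases h0 : classInner (Cfsg.permRep ℂ G Ω).character ψ = 0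
      · exact Or.inl h0
      · exact Or.inr (h ψ hψ h0).1
    obtain ⟨s, c, hs, hT⟩ := span_of_mult_free (Cfsg.permRep ℂ G Ω) hmf (orbOp G a b)
      (orbOp_comm a b)
    have hsym : Sym (orbOp G a b) := by
      intro u v
      rw [hT, LinearMap.sum_apply, LinearMap.sum_apply, dot_sum_left, dot_sum_right]
      refine Finset.sum_congr rfl fun ψ hψ => ?_
      have h9 : (fun g => conj ((ψ : G → ℂ) g⁻¹)) = fun g => conj ((ψ : G → ℂ) g) := by
        ext g
        rw [ψ.2.inv, Complex.conj_conj, (h ψ ψ.2 (hs ψ hψ)).2 g]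
      rw [LinearMap.smul_apply, LinearMap.smul_apply, dot_smul_left, dot_smul_right, dot_wsum, h9]
    classical
    have h1 := (sym_iff _).mp hsym a b
    rw [orbOp_single, orbOp_single, if_pos (MulAction.mem_orbit_self _)] at h1
    by_cases h2 : (b, a) ∈ MulAction.orbit G (a, b)
    · obtain ⟨g, hg⟩ := h2
      have hg' : (g • a, g • b) = (b, a) := hg
      exact ⟨g, congrArg Prod.fst hg', congrArg Prod.snd hg'⟩
    · rw [if_neg h2] at h1
      exact absurd h1 one_ne_zero

end Cfsg.Agent.Lib.PermChar2
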