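import Mathlib
import Cfsg.Agent.Lib.PermChar2
import Cfsg.Agent.Lib.CharCentral

set_option autoImplicit false

/-!
# Permutation characters: degrees and subdegrees (helper12)
-/

namespace Cfsg.Agent.Lib.PermChar3

open scoped ComplexConjugate
open Representation Module Cfsg.Agent.Lib.CharBasic Cfsg.Agent.Lib.PermChar
  Cfsg.Agent.Lib.PermChar2

universe u v w

theorem trace_eq {V : Type v} [AddCommGroup V] [Module ℂ V] [FiniteDimensional ℂ V]
    (A : V →ₗ[ℂ] V) :
    LinearMap.trace ℂ V A = ∑ μ ∈ (LinearMap.charpoly A).roots.toFinset,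
      (finrank ℂ (Module.End.maxGenEigenspace A μ) : ℂ) * μ := by
  classical
  have h1 : LinearMap.trace ℂ V A = (LinearMap.charpoly A).roots.sum := by
    rw [LinearMap.trace_eq_matrix_trace ℂ (Module.finBasis ℂ V),
      Matrix.trace_eq_sum_roots_charpoly, LinearMap.charpoly_toMatrix]
  rw [h1, Finset.sum_multiset_count]
  refine Finset.sum_congr rfl fun μ _ => ?_
  rw [LinearMap.finrank_maxGenEigenspace_eq, nsmul_eq_mul, Polynomial.count_roots]

section

variable {G : Type u} [Group G] [Fintype G]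

theorem constituent_of_sub {V : Type v} [AddCommGroup V] [Module ℂ V] [FiniteDimensional ℂ V]
    {ρ : Representation ℂ G V} (S : Subrepresentation ρ) {ψ : G → ℂ} (hψ : IsIrrCharacter G ψ)
    (h : classInner S.toRepresentation.character ψ ≠ 0) : classInner ρ.character ψ ≠ 0 := by
  have : NeZero (Nat.card G : ℂ) := ⟨by exact_mod_cast Nat.card_pos.ne'⟩
  obtain ⟨T, hT⟩ := exists_isCompl S
  rw [char_eq_add_of_isCompl ρ S T (isCompl_toSubmodule hT), classInner_add_left]
  obtain ⟨a, ha⟩ := (isCharacter_of_rep S.toRepresentation).classInner_nat hψ.isCharacter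
  obtain ⟨b, hb⟩ := (isCharacter_of_rep T.toRepresentation).classInner_nat hψ.isCharacter
  rw [ha] at h
  rw [ha, hb]
  have ha0 : a ≠ 0 := fun h0 => h (by rw [h0, Nat.cast_zero])
  have : a + b ≠ 0 := by omega
  exact_mod_cast this

theorem sub_dim {V : Type v} [AddCommGroup V] [Module ℂ V] [FiniteDimensional ℂ V]
    {ρ : Representation ℂ G V} {f : ℕ}
    (hf : ∀ χ : G → ℂ, Cfsg.IsIrrCharacter G χ → χ ≠ (fun _ => 1) →
      Cfsg.classInner ρ.character χ ≠ 0 → ∃ m : ℕ, χ 1 = (f : ℂ) * m)
    (S : Subrepresentation ρ) : ∃ d : ℕ, finrank ℂ S.toSubmodule =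
      finrank ℂ (invariants S.toRepresentation) + f * d := by
  classical
  have hS := isCharacter_of_rep S.toRepresentation
  obtain ⟨c, hc1, hc2⟩ := hS.exists_coeff
  let o : IrrCharacter G := ⟨1, isIrrCharacter_one⟩
  have h1 : (finrank ℂ S.toSubmodule : ℂ) = ∑ χ : IrrCharacter G, (c χ : ℂ) * (χ : G → ℂ) 1 := by
    rw [← char_one S.toRepresentation, hc2, Finset.sum_apply]
    rfl
  have h2 : ∀ χ : IrrCharacter G, ∃ m : ℕ, χ ≠ o → (c χ : ℂ) * (χ : G → ℂ) 1 = (f : ℂ) * m := by
    intro χ
    by_cases hχ : χ = o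
    · exact ⟨0, fun h => absurd hχ h⟩
    · by_cases h0 : c χ = 0
      · exact ⟨0, fun _ => by rw [h0]; simp⟩
      · have h3 : classInner ρ.character (χ : G → ℂ) ≠ 0 := by
          apply constituent_of_sub S χ.2
          rw [hc1]; exact_mod_cast h0
        obtain ⟨m, hm⟩ := hf χ χ.2 (fun h => hχ (Subtype.ext h)) h3
        exact ⟨c χ * m, fun _ => by rw [hm]; push_cast; ring⟩
  choose m hm using h2
  refine ⟨∑ χ ∈ Finset.univ.erase o, m χ, ?_⟩
  have h3 : (finrank ℂ (invariants S.toRepresentation) : ℂ) = c o := by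
    rw [← classInner_one_eq_finrank_invariants, ← hc1 o]
  have h4 : (finrank ℂ S.toSubmodule : ℂ) = (finrank ℂ (invariants S.toRepresentation) : ℂ) +
      (f : ℂ) * ((∑ χ ∈ Finset.univ.erase o, m χ : ℕ) : ℂ) := by
    rw [h1, ← Finset.add_sum_erase _ _ (Finset.mem_univ o), h3]
    congr 1
    · show (c o : ℂ) * (1 : G → ℂ) 1 = c o
      rw [Pi.one_apply, mul_one]
    · push_cast
      rw [Finset.mul_sum]
      exact Finset.sum_congr rfl fun χ hχ => hm χ (Finset.ne_of_mem_erase hχ)
  exact_mod_cast h4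

end

section orb

variable {G : Type u} [Group G] {Ω : Type v} [Fintype Ω] [MulAction G Ω]

theorem orbOp_const (a b : Ω) [MulAction.IsPretransitive G Ω] (v : Ω → ℂ) (hv : ∀ x, v x = 1) (y : Ω) :
    orbOp G b a v y = Nat.card (MulAction.orbit (MulAction.stabilizer G a) b) := by
  classical
  have h1 : orbOp G b a v a = Nat.card (MulAction.orbit (MulAction.stabilizer G a) b) := by
    rw [orbOp_apply, Finset.sum_congr rfl (fun x _ => by rw [hv x]), Finset.sum_boole,
      ← Fintype.card_subtype, ← Nat.card_eq_fintype_card]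
    congr 1
    apply Nat.card_congr
    apply Equiv.subtypeEquivRight
    intro x
    constructor
    · rintro ⟨g, hg⟩
      have hg' : (g • b, g • a) = (x, a) := hg
      exact ⟨⟨g, congrArg Prod.snd hg'⟩, congrArg Prod.fst hg'⟩
    · rintro ⟨g, hg⟩
      exact ⟨g.1, Prod.ext hg g.2⟩
  obtain ⟨g, hg⟩ := MulAction.exists_smul_eq G a y
  have h2 := congrFun (orbOp_comm (G := G) b a g v) y
  rw [PermRepBasic.permRep_apply, ← hg, inv_smul_smul] at h2
  have h3 : Cfsg.permRep ℂ G Ω g v = v := by
    ext x; rw [PermRepBasic.permRep_apply, hv, hv]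
  rw [h3] at h2
  rw [← hg, h2, h1]

theorem trace_orbOp (a b : Ω) (hab : b ≠ a) : LinearMap.trace ℂ (Ω → ℂ) (orbOp G b a) = 0 := by
  classical
  rw [LinearMap.trace_eq_matrix_trace ℂ (Pi.basisFun ℂ Ω), Matrix.trace]
  apply Finset.sum_eq_zero
  intro x _
  rw [Matrix.diag_apply, LinearMap.toMatrix_apply, Pi.basisFun_apply, Pi.basisFun_repr,
    orbOp_single, if_neg]
  rintro ⟨g, hg⟩
  have hg' : (g • b, g • a) = (x, x) := hg
  apply hab
  exact smul_left_cancel g ((congrArg Prod.fst hg').trans (congrArg Prod.snd hg').symm)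

theorem isIntegral_of_root (a b : Ω) {μ : ℂ}
    (hμ : μ ∈ (LinearMap.charpoly (orbOp G b a)).roots) : IsIntegral ℤ μ := by
  classical
  let M : Matrix Ω Ω ℤ := fun y x => if (x, y) ∈ MulAction.orbit G (b, a) then 1 else 0
  have hM : LinearMap.toMatrix (Pi.basisFun ℂ Ω) (Pi.basisFun ℂ Ω) (orbOp G b a) =
      M.map (Int.castRingHom ℂ) := by
    ext y x
    rw [LinearMap.toMatrix_apply, Pi.basisFun_apply, Pi.basisFun_repr, orbOp_single,
      Matrix.map_apply]
    show _ = ((if (x, y) ∈ MulAction.orbit G (b, a) then (1 : ℤ) else 0 : ℤ) : ℂ)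
    split_ifs <;> simp
  refine ⟨M.charpoly, M.charpoly_monic, ?_⟩
  rw [← LinearMap.charpoly_toMatrix (orbOp G b a) (Pi.basisFun ℂ Ω), hM, Matrix.charpoly_map,
    Polynomial.mem_roots'] at hμ
  have := hμ.2
  rw [Polynomial.IsRoot.def, Polynomial.eval_map] at this
  exact this

/-- the generalised eigenspace as a subrepresentation -/
noncomputable def eigSub (a b : Ω) (μ : ℂ) : Subrepresentation (Cfsg.permRep ℂ G Ω) where
  toSubmodule := Module.End.maxGenEigenspace (orbOp G b a) μ
  apply_mem_toSubmodule := by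
    intro g v hv
    have hc : Commute (orbOp G b a) (Cfsg.permRep ℂ G Ω g) := by
      apply LinearMap.ext
      intro w
      exact orbOp_comm b a g w
    exact Module.End.mapsTo_maxGenEigenspace_of_comm hc μ hv

theorem finrank_inv_eigSub [Fintype G] [MulAction.IsPretransitive G Ω] [Nonempty Ω] (a b : Ω) (μ : ℂ)
    [Decidable (μ = Nat.card (MulAction.orbit (MulAction.stabilizer G a) b))] :
    finrank ℂ (invariants (eigSub (G := G) a b μ).toRepresentation) =
      if μ = Nat.card (MulAction.orbit (MulAction.stabilizer G a) b) then 1 else 0 := by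
  set k : ℂ := ((Nat.card (MulAction.orbit (MulAction.stabilizer G a) b) : ℕ) : ℂ) with hk
  let c : Ω → ℂ := fun _ => 1
  have hc0 : c ≠ 0 := by
    intro h
    obtain ⟨x⟩ := ‹Nonempty Ω›
    exact one_ne_zero (congrFun h x)
  have hc : orbOp G b a c = k • c := by
    ext y
    rw [orbOp_const a b c (fun _ => rfl), Pi.smul_apply, smul_eq_mul, ← hk]
    show k = k * 1
    ring
  have hcmem : c ∈ Module.End.maxGenEigenspace (orbOp G b a) k := by
    apply Module.End.mem_maxGenEigenspace _ _ _ |>.mpr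
    refine ⟨1, ?_⟩
    rw [pow_one, LinearMap.sub_apply, hc]
    simp
  -- invariants are multiples of c
  have hinv : ∀ v : invariants (eigSub (G := G) a b μ).toRepresentation, ∃ r : ℂ,
      ((v : (eigSub (G := G) a b μ).toSubmodule) : Ω → ℂ) = r • c := by
    intro v
    obtain ⟨x₀⟩ := ‹Nonempty Ω›
    refine ⟨((v : (eigSub (G := G) a b μ).toSubmodule) : Ω → ℂ) x₀, ?_⟩
    ext y
    obtain ⟨g, hg⟩ := MulAction.exists_smul_eq G x₀ y
    have h1 := v.2 g
    have h2 : Cfsg.permRep ℂ G Ω g ((v : (eigSub (G := G) a b μ).toSubmodule) : Ω → ℂ) =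
      ((v : (eigSub (G := G) a b μ).toSubmodule) : Ω → ℂ) := congrArg Subtype.val h1
    have h3 := congrFun h2 y
    rw [PermRepBasic.permRep_apply, ← hg, inv_smul_smul] at h3
    rw [← hg, ← h3, Pi.smul_apply, smul_eq_mul]
    show _ = _ * (1 : ℂ)
    rw [mul_one]
  split_ifs with hμ
  · have hcinv : ∀ g, Cfsg.permRep ℂ G Ω g c = c := by
      intro g; ext x; rw [PermRepBasic.permRep_apply]
    let c' : invariants (eigSub (G := G) a b μ).toRepresentation :=
      ⟨⟨c, by rw [hμ]; exact hcmem⟩, fun g => Subtype.ext (hcinv g)⟩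
    have hb : Function.Bijective (LinearMap.toSpanSingleton ℂ
        (invariants (eigSub (G := G) a b μ).toRepresentation) c') := by
      constructor
      · intro r s hrs
        have h1 : r • c = s • c :=
          congrArg (fun x => ((x.1 : (eigSub (G := G) a b μ).toSubmodule) : Ω → ℂ)) hrs
        exact smul_left_injective ℂ hc0 h1
      · intro w
        obtain ⟨r, hr⟩ := hinv w
        exact ⟨r, Subtype.ext (Subtype.ext hr.symm)⟩
    rw [← (LinearEquiv.ofBijective _ hb).finrank_eq, finrank_self]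
  · suffices h : Subsingleton (invariants (eigSub (G := G) a b μ).toRepresentation) from
      finrank_zero_of_subsingleton
    constructor
    intro v w
    have hz : ∀ v : invariants (eigSub (G := G) a b μ).toRepresentation, v = 0 := by
      intro v
      obtain ⟨r, hr⟩ := hinv v
      have h1 : ((v : (eigSub (G := G) a b μ).toSubmodule) : Ω → ℂ) ∈
          Module.End.maxGenEigenspace (orbOp G b a) μ := v.1.2
      have h2 : ((v : (eigSub (G := G) a b μ).toSubmodule) : Ω → ℂ) ∈
          Module.End.maxGenEigenspace (orbOp G b a) k := by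
        rw [hr]; exact Submodule.smul_mem _ _ hcmem
      have h3 := Module.End.disjoint_genEigenspace (orbOp G b a) hμ ⊤ ⊤
      have h4 := Submodule.disjoint_def.mp h3 _ h1 h2
      exact Subtype.ext (Subtype.ext h4)
    rw [hz v, hz w]

theorem dvd_subdegree [Fintype G] [MulAction.IsPretransitive G Ω] (f : ℕ)
    (hf : ∀ χ : G → ℂ, Cfsg.IsIrrCharacter G χ → χ ≠ (fun _ => 1) →
      Cfsg.classInner (Cfsg.permRep ℂ G Ω).character χ ≠ 0 → ∃ m : ℕ, χ 1 = (f : ℂ) * m)
    (a b : Ω) (hab : b ≠ a) :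
    f ∣ Nat.card (MulAction.orbit (MulAction.stabilizer G a) b) := by
  classical
  have : Nonempty Ω := ⟨a⟩
  set k := Nat.card (MulAction.orbit (MulAction.stabilizer G a) b) with hk
  have h1 : ∀ μ : ℂ, ∃ d : ℕ, finrank ℂ (Module.End.maxGenEigenspace (orbOp G b a) μ) =
      (if μ = k then 1 else 0) + f * d := by
    intro μ
    obtain ⟨d, hd⟩ := sub_dim hf (eigSub (G := G) a b μ)
    rw [finrank_inv_eigSub] at hd
    exact ⟨d, hd⟩
  choose d hd using h1
  have htr := trace_eq (orbOp G b a)
  rw [trace_orbOp a b hab] at htr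
  have hkmem : (k : ℂ) ∈ (LinearMap.charpoly (orbOp G b a)).roots.toFinset := by
    rw [Multiset.mem_toFinset, ← Multiset.count_pos, Polynomial.count_roots,
      ← LinearMap.finrank_maxGenEigenspace_eq, hd, if_pos rfl]
    omega
  have h2 : ∑ μ ∈ (LinearMap.charpoly (orbOp G b a)).roots.toFinset,
      (finrank ℂ (Module.End.maxGenEigenspace (orbOp G b a) μ) : ℂ) * μ =
      k + f * ∑ μ ∈ (LinearMap.charpoly (orbOp G b a)).roots.toFinset, (d μ : ℂ) * μ := by
    rw [Finset.mul_sum]
    have h3 : ∀ μ ∈ (LinearMap.charpoly (orbOp G b a)).roots.toFinset,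
        (finrank ℂ (Module.End.maxGenEigenspace (orbOp G b a) μ) : ℂ) * μ =
        (if μ = k then (k : ℂ) else 0) + f * ((d μ : ℂ) * μ) := by
      intro μ _
      rw [hd]
      push_cast
      by_cases h : μ = k
      · rw [if_pos h, if_pos h, h]; ring
      · rw [if_neg h, if_neg h]; ring
    rw [Finset.sum_congr rfl h3, Finset.sum_add_distrib, Finset.sum_ite_eq', if_pos hkmem]
  rw [h2] at htr
  set z := ∑ μ ∈ (LinearMap.charpoly (orbOp G b a)).roots.toFinset, (d μ : ℂ) * μ with hz
  have hzi : IsIntegral ℤ z := by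
    apply IsIntegral.sum
    intro μ hμ
    apply IsIntegral.mul
    · exact isIntegral_algebraMap (R := ℤ) (A := ℂ) (x := (d μ : ℤ)) |> fun h => by simpa using h
    · exact isIntegral_of_root a b (Multiset.mem_toFinset.mp hμ)
  by_cases hf0 : f = 0
  · rw [hf0] at htr ⊢
    have : (k : ℂ) = 0 := by
      have := htr; simp at this; exact_mod_cast this.symm
    have hk0 : k = 0 := by exact_mod_cast this
    rw [hk0]
  · apply CharCentral.nat_dvd_of_isIntegral_div hf0
    have hfc : (f : ℂ) ≠ 0 := by exact_mod_cast hf0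
    have : (k : ℂ) / f = -z := by
      rw [div_eq_iff hfc]
      linear_combination -htr
    rw [this]
    exact hzi.neg

end orb

end Cfsg.Agent.Lib.PermChar3
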