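import Mathlib
import Cfsg.Agent.Lib.PermChar3

set_option autoImplicit false

/-!
# Permutation characters: rank and equal degrees (helper12)
-/

namespace Cfsg.Agent.Lib.PermChar4

open scoped ComplexConjugate
open Representation Module Cfsg.Agent.Lib.CharBasic Cfsg.Agent.Lib.PermChar
  Cfsg.Agent.Lib.PermChar2 Cfsg.Agent.Lib.PermChar3

universe u v w

variable {G : Type u} [Group G] {Ω : Type v} [MulAction G Ω]

/-- orbitals and suborbits -/
theorem card_orbitals [MulAction.IsPretransitive G Ω] (a : Ω) :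
    Nat.card (MulAction.orbitRel.Quotient (MulAction.stabilizer G a) Ω) =
      Nat.card (MulAction.orbitRel.Quotient G (Ω × Ω)) := by
  refine Nat.card_congr (Equiv.ofBijective (Quotient.map' (fun b => (a, b)) ?_) ⟨?_, ?_⟩)
  · rintro x y ⟨g, hg⟩
    exact ⟨g.1, Prod.ext g.2 hg⟩
  · intro x y
    refine Quotient.inductionOn₂' x y ?_
    intro x y hxy
    rw [Quotient.map'_mk'', Quotient.map'_mk'', Quotient.eq''] at hxy
    obtain ⟨g, hg⟩ := hxy
    have hg' : (g • a, g • y) = (a, x) := hg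
    exact Quotient.eq''.mpr ⟨⟨g, congrArg Prod.fst hg'⟩, congrArg Prod.snd hg'⟩
  · intro x
    refine Quotient.inductionOn' x ?_
    rintro ⟨x, y⟩
    obtain ⟨g, hg⟩ := MulAction.exists_smul_eq G x a
    refine ⟨Quotient.mk'' (g • y), ?_⟩
    rw [Quotient.map'_mk'', Quotient.eq'']
    exact ⟨g, Prod.ext hg rfl⟩

variable [Fintype G] [Fintype Ω]

theorem classInner_self_eq_rank [MulAction.IsPretransitive G Ω] (a : Ω) :
    classInner (Cfsg.permRep ℂ G Ω).character (Cfsg.permRep ℂ G Ω).character =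
      Nat.card (MulAction.orbitRel.Quotient (MulAction.stabilizer G a) Ω) := by
  classical
  rw [card_orbitals, ← PermRepBasic.finrank_inv (G := G) (K := ℂ) (Ω₁ := Ω) (Ω₂ := Ω),
    ← classInner_one_eq_finrank_invariants, classInner_def, classInner_def]
  congr 1
  refine Finset.sum_congr rfl fun g _ => ?_
  rw [Representation.char_linHom, (isCharacter_of_rep _).inv, Pi.one_apply, map_one, mul_one,
    mul_comm]

theorem classInner_one [MulAction.IsPretransitive G Ω] [Nonempty Ω] :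
    classInner (Cfsg.permRep ℂ G Ω).character 1 = 1 := by
  rw [classInner_one_eq_finrank_invariants]
  let c : Ω → ℂ := fun _ => 1
  have hc0 : c ≠ 0 := by
    intro h
    obtain ⟨x⟩ := ‹Nonempty Ω›
    exact one_ne_zero (congrFun h x)
  have : finrank ℂ (invariants (Cfsg.permRep ℂ G Ω)) = 1 := by
    rw [finrank_eq_one_iff']
    refine ⟨⟨c, fun g => by ext x; rw [PermRepBasic.permRep_apply]⟩, ?_, ?_⟩
    · intro h; exact hc0 (congrArg Subtype.val h)
    · intro v
      obtain ⟨x₀⟩ := ‹Nonempty Ω›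
      refine ⟨v.1 x₀, Subtype.ext ?_⟩
      ext y
      obtain ⟨g, hg⟩ := MulAction.exists_smul_eq G x₀ y
      have h3 := congrFun (v.2 g) y
      rw [PermRepBasic.permRep_apply, ← hg, inv_smul_smul] at h3
      rw [← hg, ← h3]
      show v.1 x₀ * (1 : ℂ) = _
      rw [mul_one]
  rw [this, Nat.cast_one]

/-- coefficients of the permutation character. -/
theorem exists_coeffs [MulAction.IsPretransitive G Ω] (a : Ω) :
    ∃ c : IrrCharacter G → ℕ, (∀ χ : IrrCharacter G,
      classInner (Cfsg.permRep ℂ G Ω).character (χ : G → ℂ) = c χ) ∧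
      c ⟨1, isIrrCharacter_one⟩ = 1 ∧
      (∑ χ : IrrCharacter G, (c χ) ^ 2 =
        Nat.card (MulAction.orbitRel.Quotient (MulAction.stabilizer G a) Ω)) ∧
      (∑ χ : IrrCharacter G, (c χ : ℂ) * (χ : G → ℂ) 1 = Fintype.card Ω) := by
  classical
  have : Nonempty Ω := ⟨a⟩
  obtain ⟨c, hc1, hc2⟩ := (isCharacter_of_rep (Cfsg.permRep ℂ G Ω)).exists_coeff
  refine ⟨c, hc1, ?_, ?_, ?_⟩
  · have h1 := hc1 ⟨1, isIrrCharacter_one⟩
    have h2 : classInner (Cfsg.permRep ℂ G Ω).character (1 : G → ℂ) =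
      c ⟨1, isIrrCharacter_one⟩ := h1
    rw [classInner_one] at h2
    exact_mod_cast h2.symm
  · have h1 := (isCharacter_of_rep (Cfsg.permRep ℂ G Ω)).isClassFunction.classInner_eq_sum
      (Cfsg.permRep ℂ G Ω).character
    rw [classInner_self_eq_rank a] at h1
    have h2 : ∑ χ : IrrCharacter G, classInner (Cfsg.permRep ℂ G Ω).character (χ : G → ℂ) *
        conj (classInner (Cfsg.permRep ℂ G Ω).character (χ : G → ℂ)) =
        ∑ χ : IrrCharacter G, ((c χ : ℕ) : ℂ) ^ 2 := by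
      refine Finset.sum_congr rfl fun χ _ => ?_
      rw [hc1, Complex.conj_natCast]; ring
    rw [h2] at h1
    exact_mod_cast h1.symm
  · have h1 : (Cfsg.permRep ℂ G Ω).character 1 = Fintype.card Ω := by
      rw [char_one, Module.finrank_fintype_fun_eq_card]
    rw [← h1]
    conv_rhs => rw [hc2]
    rw [Finset.sum_apply]
    rfl

/-- sizes of suborbits -/
theorem subdegree_eq [MulAction.IsPretransitive G Ω] (a : Ω) (f : ℕ)
    (h1 : ∀ b : Ω, b ≠ a → f ≤ Nat.card (MulAction.orbit (MulAction.stabilizer G a) b))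
    (h2 : Fintype.card Ω ≤ 1 + f *
      (Nat.card (MulAction.orbitRel.Quotient (MulAction.stabilizer G a) Ω) - 1)) :
    (∀ b : Ω, b ≠ a → Nat.card (MulAction.orbit (MulAction.stabilizer G a) b) = f) ∧
    Fintype.card Ω = 1 + f *
      (Nat.card (MulAction.orbitRel.Quotient (MulAction.stabilizer G a) Ω) - 1) := by
  classical
  have hfin : Finite (MulAction.orbitRel.Quotient (MulAction.stabilizer G a) Ω) :=
    Quotient.finite _
  let _ : Fintype (MulAction.orbitRel.Quotient (MulAction.stabilizer G a) Ω) := Fintype.ofFinite _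
  let ω₀ : MulAction.orbitRel.Quotient (MulAction.stabilizer G a) Ω := Quotient.mk'' a
  let s : MulAction.orbitRel.Quotient (MulAction.stabilizer G a) Ω → ℕ := fun ω =>
    Nat.card (MulAction.orbitRel.Quotient.orbit ω)
  have hs : ∀ b : Ω, s (Quotient.mk'' b) = Nat.card (MulAction.orbit (MulAction.stabilizer G a) b) := by
    intro b
    show Nat.card (MulAction.orbitRel.Quotient.orbit _) = _
    rw [MulAction.orbitRel.Quotient.orbit_mk]
  have hsum : ∑ ω, s ω = Fintype.card Ω := by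
    have h := Nat.card_congr (MulAction.selfEquivSigmaOrbits' (MulAction.stabilizer G a) Ω)
    rw [Nat.card_sigma, Nat.card_eq_fintype_card] at h
    exact h.symm
  have hs0 : s ω₀ = 1 := by
    rw [hs]
    have : MulAction.orbit (MulAction.stabilizer G a) a = {a} := by
      ext x
      constructor
      · rintro ⟨g, rfl⟩; exact g.2
      · intro h; rw [Set.mem_singleton_iff.mp h]; exact MulAction.mem_orbit_self _
    rw [this]; simp
  have hge : ∀ ω ∈ Finset.univ.erase ω₀, f ≤ s ω := by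
    intro ω hω
    refine Quotient.inductionOn' ω (fun b hb => ?_) (Finset.ne_of_mem_erase hω)
    rw [hs]
    apply h1
    rintro rfl
    exact hb rfl
  have h3 := Finset.add_sum_erase Finset.univ s (Finset.mem_univ ω₀)
  rw [hsum, hs0] at h3
  have h4 : ∑ ω ∈ Finset.univ.erase ω₀, f = f *
      (Nat.card (MulAction.orbitRel.Quotient (MulAction.stabilizer G a) Ω) - 1) := by
    rw [Finset.sum_const, Finset.card_erase_of_mem (Finset.mem_univ _), Finset.card_univ,
      smul_eq_mul, Nat.card_eq_fintype_card, mul_comm]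
  have h5 := Finset.sum_le_sum hge
  rw [h4] at h5
  have h6 : ∑ ω ∈ Finset.univ.erase ω₀, f = ∑ ω ∈ Finset.univ.erase ω₀, s ω := by
    rw [h4]; omega
  have h7 := (Finset.sum_eq_sum_iff_of_le hge).mp h6
  constructor
  · intro b hb
    rw [← hs]
    refine (h7 _ (Finset.mem_erase.mpr ⟨?_, Finset.mem_univ _⟩)).symm
    intro h
    obtain ⟨g, hg⟩ := Quotient.eq''.mp h
    have hg' : g • a = b := hg
    exact hb (hg'.symm.trans g.2)
  · rw [h4] at h6; omega

theorem equal_degrees [MulAction.IsPretransitive G Ω] (a : Ω) (f : ℕ)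
    (hf : ∀ χ : G → ℂ, Cfsg.IsIrrCharacter G χ → χ ≠ (fun _ => 1) →
      Cfsg.classInner (Cfsg.permRep ℂ G Ω).character χ ≠ 0 → χ 1 = f) :
    (∀ χ : G → ℂ, Cfsg.IsIrrCharacter G χ →
      Cfsg.classInner (Cfsg.permRep ℂ G Ω).character χ = 0 ∨
      Cfsg.classInner (Cfsg.permRep ℂ G Ω).character χ = 1) ∧
    ∀ b : Ω, b ≠ a → Nat.card (MulAction.orbit (MulAction.stabilizer G a) b) = f := by
  classical
  obtain ⟨c, hc, hc1, hcr, hcn⟩ := exists_coeffs (G := G) a
  let o : IrrCharacter G := ⟨1, isIrrCharacter_one⟩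
  -- dimension count
  have hn : Fintype.card Ω = 1 + f * ∑ χ ∈ Finset.univ.erase o, c χ := by
    have h1 : ∀ χ ∈ Finset.univ.erase o, (c χ : ℂ) * (χ : G → ℂ) 1 = f * (c χ : ℂ) := by
      intro χ hχ
      by_cases h0 : c χ = 0
      · rw [h0]; simp
      · rw [hf χ χ.2 (fun h => Finset.ne_of_mem_erase hχ (Subtype.ext h))
          (by rw [hc]; exact_mod_cast h0)]
        ring
    rw [← Finset.add_sum_erase _ _ (Finset.mem_univ o), Finset.sum_congr rfl h1,
      ← Finset.mul_sum] at hcn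
    have h2 : (c o : ℂ) * (o : G → ℂ) 1 = 1 := by
      rw [show c o = 1 from hc1]
      show ((1 : ℕ) : ℂ) * (1 : G → ℂ) 1 = 1
      rw [Pi.one_apply]; simp
    rw [h2] at hcn
    exact_mod_cast hcn.symm
  have hr : Nat.card (MulAction.orbitRel.Quotient (MulAction.stabilizer G a) Ω) =
      1 + ∑ χ ∈ Finset.univ.erase o, (c χ) ^ 2 := by
    rw [← hcr, ← Finset.add_sum_erase _ _ (Finset.mem_univ o), show c o = 1 from hc1]
    norm_num
  have hle : ∑ χ ∈ Finset.univ.erase o, c χ ≤ ∑ χ ∈ Finset.univ.erase o, (c χ) ^ 2 :=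
    Finset.sum_le_sum fun χ _ => Nat.le_self_pow two_ne_zero _
  have hsub : ∀ b : Ω, b ≠ a → f ≤ Nat.card (MulAction.orbit (MulAction.stabilizer G a) b) := by
    intro b hb
    have hd := dvd_subdegree (G := G) f (fun χ hχ h1 h0 => ⟨1, by rw [hf χ hχ h1 h0]; simp⟩) a b hb
    apply Nat.le_of_dvd _ hd
    have : Nonempty (MulAction.orbit (MulAction.stabilizer G a) b) := ⟨⟨b, MulAction.mem_orbit_self _⟩⟩
    exact Nat.card_pos
  obtain ⟨h3, h4⟩ := subdegree_eq a f hsub (by
    rw [hr, hn, Nat.add_sub_cancel_left]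
    exact Nat.add_le_add_left (Nat.mul_le_mul_left _ hle) _)
  refine ⟨?_, h3⟩
  rw [hr, hn, Nat.add_sub_cancel_left] at h4
  intro χ hχ
  by_cases h0 : c ⟨χ, hχ⟩ = 0
  · left
    have := hc ⟨χ, hχ⟩
    rw [h0] at this
    rw [show classInner (Cfsg.permRep ℂ G Ω).character χ = _ from this, Nat.cast_zero]
  · right
    have hval : c ⟨χ, hχ⟩ = 1 := by
      by_cases ho : (⟨χ, hχ⟩ : IrrCharacter G) = o
      · rw [ho]; exact hc1
      · have hf0 : f ≠ 0 := by
          intro hf0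
          have h5 := hf χ hχ (fun h => ho (Subtype.ext h)) (by
            rw [show classInner (Cfsg.permRep ℂ G Ω).character χ = _ from hc ⟨χ, hχ⟩]
            exact_mod_cast h0)
          rw [hf0, Nat.cast_zero] at h5
          exact hχ.one_ne_zero h5
        have h5 : ∑ χ ∈ Finset.univ.erase o, c χ = ∑ χ ∈ Finset.univ.erase o, (c χ) ^ 2 :=
          Nat.eq_of_mul_eq_mul_left (Nat.pos_of_ne_zero hf0) (Nat.add_left_cancel h4)
        have h6 := (Finset.sum_eq_sum_iff_of_le (fun χ _ => Nat.le_self_pow two_ne_zero _)).mp h5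
          ⟨χ, hχ⟩ (Finset.mem_erase.mpr ⟨ho, Finset.mem_univ _⟩)
        have h7 : c ⟨χ, hχ⟩ * 1 = c ⟨χ, hχ⟩ * c ⟨χ, hχ⟩ := by rw [mul_one, ← sq]; exact h6
        exact (Nat.eq_of_mul_eq_mul_left (Nat.pos_of_ne_zero h0) h7).symm
    rw [show classInner (Cfsg.permRep ℂ G Ω).character χ = _ from hc ⟨χ, hχ⟩, hval, Nat.cast_one]

theorem rank_le_five [MulAction.IsPretransitive G Ω] (a : Ω)
    (hr : Nat.card (MulAction.orbitRel.Quotient (MulAction.stabilizer G a) Ω) ≤ 5) :
    ∀ χ : G → ℂ, Cfsg.IsIrrCharacter G χ →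
      Cfsg.classInner (Cfsg.permRep ℂ G Ω).character χ = 0 ∨
      Cfsg.classInner (Cfsg.permRep ℂ G Ω).character χ = 1 := by
  classical
  obtain ⟨c, hc, hc1, hcr, hcn⟩ := exists_coeffs (G := G) a
  let o : IrrCharacter G := ⟨1, isIrrCharacter_one⟩
  intro χ hχ
  by_contra hcon
  rw [not_or] at hcon
  have h0 : c ⟨χ, hχ⟩ ≠ 0 := by
    intro h
    apply hcon.1
    rw [show classInner (Cfsg.permRep ℂ G Ω).character χ = _ from hc ⟨χ, hχ⟩, h, Nat.cast_zero]
  have h1 : c ⟨χ, hχ⟩ ≠ 1 := by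
    intro h
    apply hcon.2
    rw [show classInner (Cfsg.permRep ℂ G Ω).character χ = _ from hc ⟨χ, hχ⟩, h, Nat.cast_one]
  have ho : (⟨χ, hχ⟩ : IrrCharacter G) ≠ o := by
    intro h; rw [h] at h1; exact h1 hc1
  have h2 : ∀ ψ : IrrCharacter G, ψ ≠ o → ψ ≠ ⟨χ, hχ⟩ → c ψ = 0 := by
    intro ψ hψo hψ
    by_contra hne
    have h3 : ∑ φ ∈ {o, ⟨χ, hχ⟩, ψ}, (c φ) ^ 2 ≤ ∑ φ : IrrCharacter G, (c φ) ^ 2 :=
      Finset.sum_le_sum_of_subset (Finset.subset_univ _)
    rw [Finset.sum_insert (by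
        rw [Finset.mem_insert, Finset.mem_singleton, not_or]; exact ⟨ho.symm, hψo.symm⟩),
      Finset.sum_pair hψ.symm, hcr, show c o = 1 from hc1] at h3
    have h4 : 2 ≤ c ⟨χ, hχ⟩ := by omega
    have h5 : 1 ≤ c ψ := by omega
    nlinarith
  obtain ⟨d, hd0, hd⟩ := hχ.exists_degree
  have := (equal_degrees (G := G) a d (fun ψ hψ hψ1 hψ0 => by
    by_cases hψχ : (⟨ψ, hψ⟩ : IrrCharacter G) = ⟨χ, hχ⟩
    · have : ψ = χ := congrArg Subtype.val hψχ
      rw [this, hd]
    · exfalso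
      apply hψ0
      rw [show classInner (Cfsg.permRep ℂ G Ω).character ψ = _ from hc ⟨ψ, hψ⟩,
        h2 ⟨ψ, hψ⟩ (fun h => hψ1 (congrArg Subtype.val h)) hψχ, Nat.cast_zero])).1 χ hχ
  rcases this with h | h
  · exact hcon.1 h
  · exact hcon.2 h

end Cfsg.Agent.Lib.PermChar4
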