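import Cfsg.Agent.Lib.PermLoc3

/-! Fixed points of elements of the normalizer of a Sylow subgroup of prime order. -/

set_option autoImplicit false

namespace Cfsg.Agent.Lib.PermFix

open MulAction Subgroup Cfsg.Agent.Lib.PermOrb Cfsg.Agent.Lib.PermLoc Cfsg.Agent.Lib.SmallSimple
  Cfsg.Agent.Lib.NSylMin

section orb

variable {H X : Type*} [Group H] [MulAction H X] (P : Subgroup H) [hP : P.Normal] (hfree : Free P X)

theorem smul_coord {t : H} {c : orbitRel.Quotient P X → P}
    (hc : ∀ y, t • (Quotient.out y : X) = (c y : H) • (Quotient.out (orbPerm P X t y) : X))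
    (g : P) (y : orbitRel.Quotient P X) :
    t • coord P hfree (g, y) = coord P hfree (MulAut.conjNormal (H := P) t g * c y, orbPerm P X t y) := by
  rw [coord_apply, coord_apply, Subgroup.coe_mul, mul_smul, ← hc y, MulAut.conjNormal_apply]
  simp [mul_smul]

/-- fixed points of `t` in terms of fixed orbits -/
noncomputable def fixedEquiv {t : H} {c : orbitRel.Quotient P X → P}
    (hc : ∀ y, t • (Quotient.out y : X) = (c y : H) • (Quotient.out (orbPerm P X t y) : X)) :
    {x : X // t • x = x} ≃
      (Σ y : {y : orbitRel.Quotient P X // orbPerm P X t y = y},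
        {g : P // MulAut.conjNormal (H := P) t g * c y.1 = g}) :=
  ((coord P hfree).subtypeEquiv (p := fun z : P × orbitRel.Quotient P X =>
      MulAut.conjNormal (H := P) t z.1 * c z.2 = z.1 ∧ orbPerm P X t z.2 = z.2) (by
    rintro ⟨g, y⟩
    rw [smul_coord P hfree hc, (coord P hfree).apply_eq_iff_eq, Prod.mk.injEq])).symm.trans
  { toFun := fun z => ⟨⟨z.1.2, z.2.2⟩, ⟨z.1.1, z.2.1⟩⟩
    invFun := fun z => ⟨(z.2.1, z.1.1), z.2.2, z.1.2⟩
    left_inv := fun _ => rfl
    right_inv := fun _ => rfl }

include hfree in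
theorem card_fixed_of_const [Finite X] [Finite P] {t : H} {c : orbitRel.Quotient P X → P} {k : ℕ}
    (hc : ∀ y, t • (Quotient.out y : X) = (c y : H) • (Quotient.out (orbPerm P X t y) : X))
    (hk : ∀ y : orbitRel.Quotient P X, orbPerm P X t y = y →
      Nat.card {g : P // MulAut.conjNormal (H := P) t g * c y = g} = k) :
    Nat.card {x : X // t • x = x} = k * Nat.card {y : orbitRel.Quotient P X // orbPerm P X t y = y} := by
  classical
  have : Fintype {y : orbitRel.Quotient P X // orbPerm P X t y = y} := Fintype.ofFinite _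
  rw [Nat.card_congr (fixedEquiv P hfree hc), Nat.card_sigma, Finset.sum_congr rfl (fun y _ => hk y.1 y.2),
    Finset.sum_const, Finset.card_univ, smul_eq_mul, ← Nat.card_eq_fintype_card, mul_comm]

include hfree in
/-- centralizing elements of order prime to `|P|` -/
theorem card_fixed_cent [Finite X] [Finite P] {t : H} (ht : ∀ g ∈ P, g * t = t * g)
    (hcop : (orderOf t).Coprime (Nat.card P)) :
    Nat.card {x : X // t • x = x} = Nat.card P * Nat.card {y : orbitRel.Quotient P X // orbPerm P X t y = y} := by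
  obtain ⟨c, hc⟩ := exists_cocycle P hfree t
  refine card_fixed_of_const P hfree hc ?_
  intro y hy
  have hconj : ∀ g : P, MulAut.conjNormal (H := P) t g = g := by
    intro g
    apply Subtype.ext
    rw [MulAut.conjNormal_apply, ← ht g g.2]; simp
  have hcy : c y = 1 := by
    have h1 : ∀ n : ℕ, t ^ n • (Quotient.out y : X) = (c y : H) ^ n • (Quotient.out y : X) := by
      intro n
      induction n with
      | zero => simp
      | succ n ih =>
        rw [pow_succ', mul_smul, ih, ← mul_smul]
        have h2 : Commute (c y : H) t := ht _ (c y).2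
        rw [← (h2.pow_left n).eq, mul_smul, hc y, hy, ← mul_smul, ← pow_succ]
    have h3 := h1 (orderOf t)
    rw [pow_orderOf_eq_one, one_smul] at h3
    have h4 : (c y : H) ^ orderOf t = 1 :=
      hfree _ (P.pow_mem (c y).2 _) _ h3.symm
    have h5 : orderOf (c y) ∣ orderOf t := by
      rw [← Subgroup.orderOf_coe]; exact orderOf_dvd_of_pow_eq_one h4
    have h6 : orderOf (c y) ∣ Nat.card P := orderOf_dvd_natCard _
    exact orderOf_eq_one_iff.1 (Nat.eq_one_of_dvd_coprimes hcop h5 h6)
  apply Nat.card_congr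
  exact Equiv.subtypeUnivEquiv (fun g => by rw [hconj, hcy, mul_one])

include hfree in
/-- elements acting without fixed points on `P` -/
theorem card_fixed_free [Finite X] [Finite P] {t : H} (hcomm : ∀ g ∈ P, ∀ h ∈ P, g * h = h * g)
    (ht : ∀ g ∈ P, t * g = g * t → g = 1) :
    Nat.card {x : X // t • x = x} = Nat.card {y : orbitRel.Quotient P X // orbPerm P X t y = y} := by
  obtain ⟨c, hc⟩ := exists_cocycle P hfree t
  rw [card_fixed_of_const P hfree (k := 1) hc, one_mul]
  intro y _
  have hP : ∀ a b : P, a * b = b * a := fun a b => Subtype.ext (hcomm a a.2 b b.2)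
  -- the commutator map
  have hinj : Function.Injective (fun g : P => (MulAut.conjNormal (H := P) t g)⁻¹ * g) := by
    intro g h hgh
    simp only at hgh
    have h1 : MulAut.conjNormal (H := P) t (g * h⁻¹) = g * h⁻¹ := by
      rw [map_mul, map_inv]
      have h2 : g = MulAut.conjNormal (H := P) t g * ((MulAut.conjNormal (H := P) t h)⁻¹ * h) := by
        rw [← hgh]; simp
      have h3 : g * h⁻¹ = MulAut.conjNormal (H := P) t g * (MulAut.conjNormal (H := P) t h)⁻¹ := by
        calc g * h⁻¹ = (MulAut.conjNormal (H := P) t g * ((MulAut.conjNormal (H := P) t h)⁻¹ * h)) * h⁻¹ := by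
              rw [← h2]
          _ = _ := by group
      exact h3.symm
    have h4 : (g * h⁻¹ : P) = 1 := by
      apply Subtype.ext
      apply ht _ (g * h⁻¹).2
      have h5 := congrArg Subtype.val h1
      rw [MulAut.conjNormal_apply] at h5
      exact (mul_inv_eq_iff_eq_mul.1 h5)
    exact mul_inv_eq_one.1 h4
  have hsurj : Function.Surjective (fun g : P => (MulAut.conjNormal (H := P) t g)⁻¹ * g) :=
    Finite.injective_iff_surjective.1 hinj
  obtain ⟨g, hg⟩ := hsurj (c y)
  rw [Nat.card_eq_one_iff_unique]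
  refine ⟨⟨?_⟩, ⟨⟨g, by rw [← hg]; simp⟩⟩⟩
  rintro ⟨a, ha⟩ ⟨b, hb⟩
  apply Subtype.ext
  apply hinj
  simp only
  have h1 : (MulAut.conjNormal (H := P) t a)⁻¹ * a = c y := by
    rw [inv_mul_eq_iff_eq_mul]; exact ha.symm
  have h2 : (MulAut.conjNormal (H := P) t b)⁻¹ * b = c y := by
    rw [inv_mul_eq_iff_eq_mul]; exact hb.symm
  rw [h1, h2]

end orb

theorem mem_normalizer_iff_smul {G : Type*} [Group G] {p : ℕ} (R : Sylow p G) (g : G) :
    g ∈ normalizer ((R : Subgroup G) : Set G) ↔ g • R = R := Sylow.smul_eq_iff_mem_normalizer.symm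

/-- Double counting: conjugates of `x` fixing a Sylow subgroup. -/
theorem class_count {G : Type*} [Group G] [Finite G] {p : ℕ} [hp : Fact p.Prime] (P : Sylow p G) (x : G) :
    Nat.card {g : G // IsConj x g} * Nat.card {R : Sylow p G // x • R = R} =
      Nat.card (Sylow p G) * Nat.card {g : G // IsConj x g ∧ g ∈ normalizer ((P : Subgroup G) : Set G)} := by
  classical
  have h1 : Fintype G := Fintype.ofFinite G
  have h2 : Fintype (Sylow p G) := Fintype.ofFinite _
  have e1 : Nat.card (Σ g : {g : G // IsConj x g}, {R : Sylow p G // g.1 • R = R}) =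
      Nat.card {g : G // IsConj x g} * Nat.card {R : Sylow p G // x • R = R} := by
    rw [Nat.card_sigma, Finset.sum_congr rfl (g := fun _ => Nat.card {R : Sylow p G // x • R = R}),
      Finset.sum_const, Finset.card_univ, smul_eq_mul, ← Nat.card_eq_fintype_card]
    rintro ⟨g, hg⟩ -
    obtain ⟨h, rfl⟩ := isConj_iff.1 hg
    refine Nat.card_congr ((MulAction.toPerm h⁻¹ : Equiv.Perm (Sylow p G)).subtypeEquiv ?_)
    intro R
    simp only [MulAction.toPerm_apply]
    rw [mul_smul, mul_smul, ← eq_inv_smul_iff]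
  have e2 : Nat.card (Σ R : Sylow p G, {g : G // IsConj x g ∧ g ∈ normalizer ((R : Subgroup G) : Set G)}) =
      Nat.card (Sylow p G) * Nat.card {g : G // IsConj x g ∧ g ∈ normalizer ((P : Subgroup G) : Set G)} := by
    rw [Nat.card_sigma, Finset.sum_congr rfl
      (g := fun _ => Nat.card {g : G // IsConj x g ∧ g ∈ normalizer ((P : Subgroup G) : Set G)}),
      Finset.sum_const, Finset.card_univ, smul_eq_mul, ← Nat.card_eq_fintype_card]
    intro R _
    obtain ⟨h, rfl⟩ := MulAction.exists_smul_eq G P R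
    refine Nat.card_congr ((MulAut.conj h⁻¹).toEquiv.subtypeEquiv ?_)
    intro g
    simp only [MulEquiv.toEquiv_eq_coe, MulEquiv.coe_toEquiv, MulAut.conj_apply, inv_inv]
    have h3 : IsConj x g ↔ IsConj x (h⁻¹ * g * h) := by
      have : IsConj g (h⁻¹ * g * h) := isConj_iff.2 ⟨h⁻¹, by simp⟩
      exact ⟨fun h4 => h4.trans this, fun h4 => h4.trans this.symm⟩
    rw [h3]
    have h4 : g ∈ normalizer (((h • P : Sylow p G) : Subgroup G) : Set G) ↔
        h⁻¹ * g * h ∈ normalizer ((P : Subgroup G) : Set G) := by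
      rw [mem_normalizer_iff_smul, mem_normalizer_iff_smul, mul_smul, mul_smul, inv_smul_eq_iff]
    rw [h4]
  rw [← e1, ← e2]
  refine Nat.card_congr
    { toFun := fun z => ⟨z.2.1, ⟨z.1.1, z.1.2, Sylow.smul_eq_iff_mem_normalizer.1 z.2.2⟩⟩
      invFun := fun z => ⟨⟨z.2.1, z.2.2.1⟩, ⟨z.1, Sylow.smul_eq_iff_mem_normalizer.2 z.2.2.2⟩⟩
      left_inv := fun _ => rfl
      right_inv := fun _ => rfl }

end Cfsg.Agent.Lib.PermFix
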