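import Cfsg.Agent.Lib.PermOrb
import Cfsg.Agent.Lib.SmallSimple3

/-! The normalizer of a subgroup of prime order acting on the nontrivial orbits of that subgroup. -/

set_option autoImplicit false

namespace Cfsg.Agent.Lib.PermLoc

open MulAction Subgroup Cfsg.Agent.Lib.PermOrb Cfsg.Agent.Lib.SmallSimple

section moved

variable {H Ω : Type*} [Group H] [MulAction H Ω] (P : Subgroup H) [hP : P.Normal]

/-- the points moved by `P` -/
def moved (Ω : Type*) [MulAction H Ω] : SubMulAction H Ω where
  carrier := {x | ∃ g ∈ P, g • x ≠ x}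
  smul_mem' := by
    rintro t x ⟨g, hg, hgx⟩
    refine ⟨t * g * t⁻¹, hP.conj_mem g hg t, ?_⟩
    intro h
    apply hgx
    rw [← mul_smul] at h
    have h2 : (t * g) • x = t • x := by simpa using h
    rw [mul_smul] at h2
    exact smul_left_cancel t h2

theorem mem_moved {x : Ω} : x ∈ moved P Ω ↔ ∃ g ∈ P, g • x ≠ x := Iff.rfl

theorem free_moved (hp : (Nat.card P).Prime) : Free P (moved P Ω) := by
  intro g hg x hx
  by_contra hne
  obtain ⟨h, hh, hhx⟩ := x.2
  apply hhx
  have : Fact (Nat.card P).Prime := ⟨hp⟩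
  have h1 : zpowers (⟨g, hg⟩ : P) = ⊤ := zpowers_eq_top_of_prime_card rfl
    (fun h0 => hne (congrArg Subtype.val h0))
  have h2 : (⟨h, hh⟩ : P) ∈ zpowers (⟨g, hg⟩ : P) := by rw [h1]; trivial
  obtain ⟨k, hk⟩ := mem_zpowers_iff.1 h2
  have h3 : g ^ k = h := congrArg Subtype.val hk
  have h4 : g • (x : Ω) = x := congrArg Subtype.val hx
  have h5 : g ∈ stabilizer H (x : Ω) := h4
  have h6 : g ^ k • (x : Ω) = x := (stabilizer H (x : Ω)).zpow_mem h5 k
  rw [← h3]; exact h6

end moved

variable {G : Type*} [Group G] [Finite G] {Ω : Type*} [MulAction G Ω] [Fintype Ω] [DecidableEq Ω]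

/-- The action of the normalizer of a subgroup `P` of odd prime order on its nontrivial orbits. -/
theorem exists_hom (P : Subgroup G) {p m : ℕ} (hp : p.Prime) (hp2 : p ≠ 2) (hP : Nat.card P = p)
    (hX : Nat.card {x : Ω // ∃ g ∈ P, g • x ≠ x} = p * m) :
    ∃ (f : normalizer (P : Set G) →* Equiv.Perm (Fin m)),
      (∀ t : normalizer (P : Set G), (t : G) ∈ P → f t = 1) ∧
      (∀ t : normalizer (P : Set G), f t = 1 → (t : G) ∈ centralizer (P : Set G) →
        ∀ x : Ω, (∃ g ∈ P, g • x ≠ x) → ((t : G) ^ p) • x = x) ∧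
      (∀ t : normalizer (P : Set G), ∀ x : Ω, (∃ g ∈ P, g • x ≠ x) → (t : G) • x = x → ∃ y, f t y = y) ∧
      (∀ t : normalizer (P : Set G), f t = 1 → (t : G) ^ 2 = 1 → 0 < m →
        ∃ x : Ω, (∃ g ∈ P, g • x ≠ x) ∧ (t : G) • x = x) ∧
      ((∀ x y : Ω, (∀ g ∈ P, g • x = x) → (∀ g ∈ P, g • y = y) → x = y) →
        (∀ g : G, Equiv.Perm.sign (MulAction.toPermHom G Ω g) = 1) →
        ∀ t : normalizer (P : Set G), ∃ s : ℤˣ, (t ∈ (P.normalizerMonoidHom).ker → s = 1) ∧
          Equiv.Perm.sign (f t) = s ^ m) := by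
  classical
  set N := normalizer (P : Set G) with hN
  let P' : Subgroup N := P.subgroupOf N
  have : P'.Normal := Subgroup.normal_in_normalizer
  have hP' : Nat.card P' = p := by
    rw [← hP]
    exact Nat.card_congr (subgroupOfEquivOfLe le_normalizer).toEquiv
  have hmov : ∀ x : Ω, x ∈ moved P' Ω ↔ ∃ g ∈ P, g • x ≠ x := by
    intro x
    rw [mem_moved]
    constructor
    · rintro ⟨g, hg, h⟩
      exact ⟨g, hg, h⟩
    · rintro ⟨g, hg, h⟩
      exact ⟨⟨g, le_normalizer hg⟩, hg, h⟩
  have hfree : Free P' (moved P' Ω) := free_moved P' (by rw [hP']; exact hp)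
  have hcX : Nat.card (moved P' Ω) = p * m := by
    rw [← hX]
    exact Nat.card_congr (Equiv.subtypeEquivRight hmov)
  have hcY : Nat.card (orbitRel.Quotient P' (moved P' Ω)) = m := by
    have h1 := card_eq P' hfree
    rw [hcX, hP'] at h1
    exact (Nat.eq_of_mul_eq_mul_left hp.pos h1).symm
  have e : orbitRel.Quotient P' (moved P' Ω) ≃ Fin m := Finite.equivFinOfCardEq hcY
  let f0 := orbPerm P' (moved P' Ω)
  let f : N →* Equiv.Perm (Fin m) := e.permCongrHom.toMonoidHom.comp f0
  have hf : ∀ t, f t = e.permCongr (f0 t) := fun _ => rfl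
  have hf1 : ∀ t, f t = 1 ↔ t ∈ f0.ker := by
    intro t
    rw [hf, MonoidHom.mem_ker]
    constructor
    · intro h
      ext y
      have := congrArg (fun σ => e.symm (σ (e y))) h
      simpa using this
    · intro h
      rw [h]; ext y; simp
  refine ⟨f, ?_, ?_, ?_, ?_, ?_⟩
  · intro t ht
    rw [hf1]
    exact le_ker P' ht
  · intro t ht hc x hx
    rw [hf1] at ht
    have h1 := pow_smul_of_ker P' ht (n := p) ?_ ?_ ⟨x, (hmov x).2 hx⟩
    · have := congrArg Subtype.val h1
      exact this
    · intro g hg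
      apply Subtype.ext
      exact mem_centralizer_iff.1 hc g hg
    · intro g hg
      have : (⟨g, hg⟩ : P') ^ p = 1 := by rw [← hP']; exact pow_card_eq_one'
      exact congrArg Subtype.val this
  · intro t x hx htx
    have h1 : f0 t (Quotient.mk'' ⟨x, (hmov x).2 hx⟩) = Quotient.mk'' ⟨x, (hmov x).2 hx⟩ := by
      rw [orbPerm_fixed]
      exact ⟨1, P'.one_mem, by rw [one_smul]; exact Subtype.ext htx⟩
    refine ⟨e (Quotient.mk'' ⟨x, (hmov x).2 hx⟩), ?_⟩
    rw [hf, Equiv.permCongr_apply, Equiv.symm_apply_apply, h1]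
  · intro t ht ht2 hm
    rw [hf1] at ht
    have hne : Nonempty (moved P' Ω) := by
      have : 0 < Nat.card (moved P' Ω) := by rw [hcX]; exact Nat.mul_pos hp.pos hm
      exact (Nat.card_pos_iff.1 this).1
    obtain ⟨x⟩ := hne
    -- `t` acts on the orbit of `x`, which has odd size
    let O := MulAction.orbit P' x
    have hO : Nat.card O = p := by
      have h1 : stabilizer P' x = ⊥ := by
        rw [eq_bot_iff]
        intro g hg
        have := hfree g g.2 x hg
        exact Subtype.ext this
      have h2 := MulAction.index_stabilizer P' x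
      rw [h1, index_bot, hP'] at h2
      exact h2.symm
    have hmap : ∀ y ∈ O, t • y ∈ O := by
      rintro y ⟨g, rfl⟩
      obtain ⟨g', hg', h⟩ := (PermOrb.mem_ker P').1 ht (g • x)
      exact ⟨⟨g', hg'⟩ * g, by rw [h]; exact mul_smul (⟨g', hg'⟩ : P') g x⟩
    let τ : O → O := fun y => ⟨t • y.1, hmap _ y.2⟩
    have hτ : Function.Involutive τ := by
      intro y
      apply Subtype.ext
      change t • t • y.1 = y.1
      rw [← mul_smul, ← sq]
      have : t ^ 2 = 1 := Subtype.ext ht2
      rw [this, one_smul]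
    have hfin : Fintype O := Fintype.ofFinite _
    have hodd : ¬ 2 ∣ Fintype.card O := by
      rw [← Nat.card_eq_fintype_card, hO]
      intro h
      exact hp2 ((Nat.prime_dvd_prime_iff_eq Nat.prime_two hp).1 h).symm
    obtain ⟨y, hy⟩ : ∃ y, τ y = y := by
      have := Equiv.Perm.exists_fixed_point_of_prime (p := 2) (n := 1) hodd
        (σ := hτ.toPerm) (by
          ext y
          simp [sq, hτ y])
      obtain ⟨y, hy⟩ := this
      exact ⟨y, hy⟩
    refine ⟨y.1.1, (hmov _).1 y.1.2, ?_⟩
    exact congrArg (fun z : O => (z.1 : Ω)) hy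
  · intro huniq heven t
    have hoddP : Odd (Nat.card P') := by rw [hP']; exact hp.odd_of_ne_two hp2
    have hft : Fintype P' := Fintype.ofFinite _
    have hft2 : Fintype (orbitRel.Quotient P' (moved P' Ω)) := Fintype.ofFinite _
    have hft3 : Fintype (moved P' Ω) := Fintype.ofFinite _
    have h1 := sign_formula P' hfree hoddP t
    have h2 : Equiv.Perm.sign (MulAction.toPermHom N (moved P' Ω) t) = 1 := by
      have h3 := heven t
      have h4 : ∀ x, x ∈ moved P' Ω ↔ (MulAction.toPermHom G Ω t) x ∈ moved P' Ω := by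
        intro x
        constructor
        · intro hx
          exact (moved P' Ω).smul_mem t hx
        · intro hx
          have := (moved P' Ω).smul_mem t⁻¹ hx
          have h5 : t⁻¹ • (MulAction.toPermHom G Ω t) x = x := by
            change t⁻¹ • t • x = x
            simp
          rwa [h5] at this
      have h6 : ∀ x, (MulAction.toPermHom G Ω t) x ≠ x → x ∈ moved P' Ω := by
        intro x hx
        by_contra hx2
        have hfx : ∀ g ∈ P, g • x = x := by
          intro g hg
          by_contra hgx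
          exact hx2 ((hmov x).2 ⟨g, hg, hgx⟩)
        apply hx
        apply huniq
        · intro g hg
          change g • (t : G) • x = (t : G) • x
          have h7 : (t : G)⁻¹ * g * t ∈ P := by
            have := (mem_normalizer_iff.1 (N.inv_mem t.2) g).1 hg
            simpa using this
          have h8 := hfx _ h7
          rw [mul_smul, mul_smul] at h8
          have h9 := congrArg (fun y => (t : G) • y) h8
          simpa using h9
        · exact hfx
      have h7 := Equiv.Perm.sign_subtypePerm (MulAction.toPermHom G Ω t) (fun x => (h4 x).symm) h6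
      rw [h3] at h7
      convert h7 using 2
      congr!
      ext x
      rfl
    rw [h2] at h1
    refine ⟨Equiv.Perm.sign (MulAut.conjNormal (H := P') t).toEquiv, ?_, ?_⟩
    · intro ht
      have h3 : (MulAut.conjNormal (H := P') t) = 1 := by
        ext g
        rw [MulAut.conjNormal_apply]
        rw [normalizerMonoidHom_ker] at ht
        have : g.1.1 * (t : G) = (t : G) * g.1.1 := mem_centralizer_iff.1 ht g.1.1 g.2
        change (t : G) * g.1.1 * (t : G)⁻¹ = g.1.1
        rw [← this]; simp
      rw [h3]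
      exact Equiv.Perm.sign_one
    · rw [hf, Equiv.Perm.sign_permCongr]
      have h4 : Fintype.card (orbitRel.Quotient P' (moved P' Ω)) = m := by
        rw [← hcY, Nat.card_eq_fintype_card]
      rw [h4] at h1
      exact (mul_eq_one_iff_eq_inv.1 h1.symm ▸ by
        rcases Int.units_eq_one_or (Equiv.Perm.sign (f0 t)) with h | h
        · rw [h]; simp
        · rw [h]; simp)

end Cfsg.Agent.Lib.PermLoc
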