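import Cfsg.Agent.Lib.PermLoc
import Cfsg.Agent.Lib.NSylMin

/-! Orders of the normalizer and centralizer of a Sylow subgroup of prime order in a permutation group. -/

set_option autoImplicit false

namespace Cfsg.Agent.Lib.PermLoc

open MulAction Subgroup Cfsg.Agent.Lib.PermOrb Cfsg.Agent.Lib.SmallSimple

variable {G : Type*} [Group G] [Finite G]

/-- A subgroup containing a Sylow subgroup `P` of prime order `p` and satisfying `x ^ p = 1` is `P`. -/
theorem eq_of_pow {p : ℕ} [hp : Fact p.Prime] (P : Sylow p G) (K : Subgroup G) (h : (P : Subgroup G) ≤ K)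
    (hK : ∀ x ∈ K, x ^ p = 1) : K = P := by
  have h1 : IsPGroup p K := by
    intro x
    refine ⟨1, ?_⟩
    rw [pow_one]
    exact Subtype.ext (hK x x.2)
  exact P.is_maximal' h1 h

/-- Numerical data of the action of the normalizer of a Sylow subgroup of prime order. -/
theorem hom_data {p : ℕ} [hp : Fact p.Prime] (P : Sylow p G) (hP : Nat.card (P : Subgroup G) = p) {A : Type*}
    [Group A] [Finite A] (N C : Subgroup G) (hN : N = normalizer ((P : Subgroup G) : Set G))
    (hC : C = centralizer ((P : Subgroup G) : Set G)) (f : N →* A)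
    (h1 : ∀ t : N, (t : G) ∈ (P : Subgroup G) → f t = 1)
    (h2 : ∀ t : N, f t = 1 → (t : G) ∈ C → (t : G) ^ p = 1) :
    ∃ a, Nat.card f.ker = p * a ∧ a ∣ p - 1 ∧
      Nat.card N = p * a * Nat.card f.range ∧
      Nat.card C = p * Nat.card ((C.subgroupOf N).map f) := by
  have hCN : C ≤ N := by rw [hC, hN]; exact centralizer_le_normalizer' _
  have hPC : (P : Subgroup G) ≤ C := by
    rw [hC]; exact le_centralizer_of_comm (isMulCommutative_of_prime_card hp.out hP)
  have hcap : (f.ker ⊓ C.subgroupOf N).map N.subtype = (P : Subgroup G) := by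
    apply eq_of_pow P
    · intro x hx
      refine ⟨⟨x, hCN (hPC hx)⟩, ⟨h1 _ hx, hPC hx⟩, rfl⟩
    · rintro _ ⟨t, ⟨ht1, ht2⟩, rfl⟩
      exact h2 t ht1 ht2
  have hcc : Nat.card ↥(f.ker ⊓ C.subgroupOf N) = p := by
    rw [← hP, ← hcap]
    exact Nat.card_congr (equivMapOfInjective _ _ N.subtype_injective).toEquiv
  have hCc : Nat.card (C.subgroupOf N) = Nat.card C :=
    Nat.card_congr (subgroupOfEquivOfLe hCN).toEquiv
  refine ⟨(C.subgroupOf N).relIndex f.ker, ?_, ?_, ?_, ?_⟩
  · rw [← relIndex_mul_card_inf (C.subgroupOf N) f.ker, inf_comm, hcc, mul_comm]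
  · subst hN
    have hker : (Subgroup.normalizerMonoidHom (P : Subgroup G)).ker = C.subgroupOf _ := by
      rw [Subgroup.normalizerMonoidHom_ker, hC]
    rw [← hker, relIndex_ker]
    rw [← card_mulAut_of_prime hp.out hP]
    exact Subgroup.card_subgroup_dvd_card _
  · have h3 := f.ker.index_mul_card
    rw [index_ker] at h3
    rw [← h3, ← relIndex_mul_card_inf (C.subgroupOf N) f.ker, inf_comm, hcc]
    ring
  · have h3 := relIndex_mul_card_inf f.ker (C.subgroupOf N)
    rw [relIndex_ker, hcc, hCc] at h3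
    rw [← h3, mul_comm]

end Cfsg.Agent.Lib.PermLoc
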