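import Cfsg.Agent.Lib.PermLoc2

/-! The permutation data of the normalizer of a Sylow subgroup of prime order with at most one fixed point. -/

set_option autoImplicit false

namespace Cfsg.Agent.Lib.PermLoc

open MulAction Subgroup Cfsg.Agent.Lib.PermOrb Cfsg.Agent.Lib.SmallSimple Cfsg.Agent.Lib.NSylMin

variable {G : Type*} [Group G] [Finite G]

/-- Combination of `exists_hom` and `hom_data`. -/
theorem pack {Ω : Type*} [MulAction G Ω] [Fintype Ω] [DecidableEq Ω] {p m : ℕ} [hp : Fact p.Prime] (hp2 : p ≠ 2)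
    (P : Sylow p G) (hP : Nat.card (P : Subgroup G) = p)
    (hfaith : ∀ g : G, (∀ x : Ω, g • x = x) → g = 1)
    (huniq : ∀ x y : Ω, (∀ g ∈ (P : Subgroup G), g • x = x) → (∀ g ∈ (P : Subgroup G), g • y = y) → x = y)
    (hX : Nat.card {x : Ω // ∃ g ∈ (P : Subgroup G), g • x ≠ x} = p * m) :
    ∃ (f : normalizer ((P : Subgroup G) : Set G) →* Equiv.Perm (Fin m)) (a : ℕ),
      Nat.card f.ker = p * a ∧ a ∣ p - 1 ∧
      Nat.card (normalizer ((P : Subgroup G) : Set G)) = p * a * Nat.card f.range ∧
      Nat.card (centralizer ((P : Subgroup G) : Set G)) = p *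
        Nat.card (((centralizer ((P : Subgroup G) : Set G)).subgroupOf
          (normalizer ((P : Subgroup G) : Set G))).map f) ∧
      (∀ t : normalizer ((P : Subgroup G) : Set G), (t : G) ∈ (P : Subgroup G) → f t = 1) ∧
      (∀ t : normalizer ((P : Subgroup G) : Set G), f t = 1 → (t : G) ∈ centralizer ((P : Subgroup G) : Set G) →
        (t : G) ^ p = 1) ∧
      (∀ t : normalizer ((P : Subgroup G) : Set G), ∀ x : Ω, (∃ g ∈ (P : Subgroup G), g • x ≠ x) →
        (t : G) • x = x → ∃ y, f t y = y) ∧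
      (∀ t : normalizer ((P : Subgroup G) : Set G), f t = 1 → (t : G) ^ 2 = 1 → 0 < m →
        ∃ x : Ω, (∃ g ∈ (P : Subgroup G), g • x ≠ x) ∧ (t : G) • x = x) ∧
      ((∀ g : G, Equiv.Perm.sign (MulAction.toPermHom G Ω g) = 1) →
        ∀ t : normalizer ((P : Subgroup G) : Set G), ∃ s : ℤˣ,
          (t ∈ ((P : Subgroup G).normalizerMonoidHom).ker → s = 1) ∧
          Equiv.Perm.sign (f t) = s ^ m) := by
  obtain ⟨f, h1, h2, h3, h4, h5⟩ := exists_hom (Ω := Ω) (P : Subgroup G) hp.out hp2 hP hX
  have h2' : ∀ t : normalizer ((P : Subgroup G) : Set G), f t = 1 →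
      (t : G) ∈ centralizer ((P : Subgroup G) : Set G) → (t : G) ^ p = 1 := by
    intro t ht htc
    apply hfaith
    intro x
    by_cases hx : ∃ g ∈ (P : Subgroup G), g • x ≠ x
    · exact h2 t ht htc x hx
    · push Not at hx
      have h6 : (t : G) • x = x := by
        apply huniq _ _ _ hx
        intro g hg
        have h7 := mem_centralizer_iff.1 htc g hg
        rw [← mul_smul, h7, mul_smul, hx g hg]
      have h8 : (t : G) ∈ stabilizer G x := h6
      exact (stabilizer G x).pow_mem h8 p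
  obtain ⟨a, ha1, ha2, ha3, ha4⟩ := hom_data P hP _ _ rfl rfl f h1 h2'
  exact ⟨f, a, ha1, ha2, ha3, ha4, h1, h2', h3, h4, h5 huniq⟩

/-- fixed points of a Sylow subgroup on the set of its conjugates -/
theorem eq_of_fixed {p : ℕ} [hp : Fact p.Prime] (P Q : Sylow p G) (h : ∀ g ∈ (P : Subgroup G), g • Q = Q) :
    P = Q := by
  apply sylow_eq_of_le
  intro g hg
  exact Sylow.smul_eq_iff_mem_normalizer.1 (h g hg)

theorem moved_iff {p : ℕ} [hp : Fact p.Prime] (P Q : Sylow p G) :
    (∃ g ∈ (P : Subgroup G), g • Q ≠ Q) ↔ Q ≠ P := by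
  constructor
  · rintro ⟨g, hg, h⟩ rfl
    exact h (Sylow.smul_eq_iff_mem_normalizer.2 (le_normalizer hg))
  · intro h
    by_contra hno
    push Not at hno
    exact h (eq_of_fixed P Q hno).symm

theorem card_moved {p : ℕ} [hp : Fact p.Prime] (P : Sylow p G) :
    Nat.card {Q : Sylow p G // ∃ g ∈ (P : Subgroup G), g • Q ≠ Q} + 1 = Nat.card (Sylow p G) := by
  classical
  have hfin : Fintype (Sylow p G) := Fintype.ofFinite _
  rw [Nat.card_congr (Equiv.subtypeEquivRight (moved_iff P)), Nat.card_eq_fintype_card,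
    Nat.card_eq_fintype_card, Fintype.card_subtype_compl, Fintype.card_subtype_eq]
  have : 0 < Fintype.card (Sylow p G) := Fintype.card_pos
  omega

/-- A homomorphism from a nonabelian simple group to `ℤˣ` is trivial. -/
theorem hom_units_eq_one {G : Type*} [Group G] [IsSimpleGroup G] (hG : ¬ IsMulCommutative G) (φ : G →* ℤˣ) (g : G) :
    φ g = 1 := by
  rcases IsSimpleGroup.eq_bot_or_eq_top_of_normal φ.ker inferInstance with h | h
  · exfalso
    apply hG
    refine ⟨⟨fun a b => ?_⟩⟩
    apply (MonoidHom.ker_eq_bot_iff φ).1 h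
    rw [map_mul, map_mul, mul_comm]
  · have : g ∈ φ.ker := by rw [h]; trivial
    exact this

/-- All elements of a nonabelian simple group act as even permutations. -/
theorem sign_eq_one {G Ω : Type*} [Group G] [IsSimpleGroup G] (hG : ¬ IsMulCommutative G) [MulAction G Ω] [Fintype Ω]
    [DecidableEq Ω] (g : G) : Equiv.Perm.sign (MulAction.toPermHom G Ω g) = 1 :=
  hom_units_eq_one hG (Equiv.Perm.sign.comp (MulAction.toPermHom G Ω)) g

/-- A nonabelian simple group acts faithfully whenever it has a moved point. -/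
theorem faithful_of_simple {G Ω : Type*} [Group G] [IsSimpleGroup G] [MulAction G Ω]
    (h : ∃ g : G, ∃ x : Ω, g • x ≠ x) (g : G) (hg : ∀ x : Ω, g • x = x) : g = 1 := by
  rcases IsSimpleGroup.eq_bot_or_eq_top_of_normal (MulAction.toPermHom G Ω).ker inferInstance with h1 | h1
  · have : g ∈ (MulAction.toPermHom G Ω).ker := by
      rw [MonoidHom.mem_ker]
      ext x
      exact hg x
    rw [h1] at this
    exact this
  · exfalso
    obtain ⟨g, x, hgx⟩ := h
    have : g ∈ (MulAction.toPermHom G Ω).ker := by rw [h1]; trivial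
    rw [MonoidHom.mem_ker] at this
    apply hgx
    have h2 := congrArg (fun σ => σ x) this
    exact h2

end Cfsg.Agent.Lib.PermLoc
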