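import Mathlib

/-! The action of a group `H` on the orbits of a normal subgroup `P` acting freely, and the sign formula. -/

set_option autoImplicit false

namespace Cfsg.Agent.Lib.PermOrb

open MulAction

variable {H X : Type*} [Group H] [MulAction H X] (P : Subgroup H) [hP : P.Normal]

/-- the action of `H` on the `P`-orbits -/
def quotAction : MulAction H (orbitRel.Quotient P X) where
  smul t := Quotient.map' (fun x => t • x) (by
    rintro a b ⟨g, rfl⟩
    refine ⟨⟨t * g * t⁻¹, hP.conj_mem _ g.2 t⟩, ?_⟩
    change (t * (g : H) * t⁻¹) • t • b = t • ((g : H) • b)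
    simp [mul_smul])
  one_smul y := by
    induction y using Quotient.inductionOn' with
    | _ x => exact congrArg Quotient.mk'' (one_smul H x)
  mul_smul a b y := by
    induction y using Quotient.inductionOn' with
    | _ x => exact congrArg Quotient.mk'' (mul_smul a b x)

/-- the permutation representation on the `P`-orbits -/
def orbPerm (X : Type*) [MulAction H X] : H →* Equiv.Perm (orbitRel.Quotient P X) :=
  @MulAction.toPermHom H (orbitRel.Quotient P X) _ (quotAction P)

@[simp] theorem orbPerm_apply (t : H) (x : X) :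
    orbPerm P X t (Quotient.mk'' x) = Quotient.mk'' (t • x) := rfl

theorem mk_eq_mk {x y : X} : (Quotient.mk'' x : orbitRel.Quotient P X) = Quotient.mk'' y ↔
    ∃ g ∈ P, x = g • y := by
  rw [Quotient.eq'']
  constructor
  · rintro ⟨g, hg⟩
    exact ⟨g, g.2, hg.symm⟩
  · rintro ⟨g, hg, h⟩
    exact ⟨⟨g, hg⟩, h.symm⟩

theorem orbPerm_fixed {t : H} {x : X} :
    orbPerm P X t (Quotient.mk'' x) = Quotient.mk'' x ↔ ∃ g ∈ P, t • x = g • x := by
  rw [orbPerm_apply, mk_eq_mk]

theorem mem_ker {t : H} : t ∈ (orbPerm P X).ker ↔ ∀ x : X, ∃ g ∈ P, t • x = g • x := by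
  rw [MonoidHom.mem_ker]
  constructor
  · intro h x
    rw [← orbPerm_fixed P, h]
    rfl
  · intro h
    ext y
    induction y using Quotient.inductionOn' with
    | _ x => rw [(orbPerm_fixed P).2 (h x)]; rfl

theorem le_ker : P ≤ (orbPerm P X).ker := by
  intro g hg
  rw [mem_ker]
  exact fun x => ⟨g, hg, rfl⟩

/-- An element centralizing `P` and fixing all `P`-orbits acts with order dividing the exponent of `P`. -/
theorem pow_smul_of_ker {t : H} (ht : t ∈ (orbPerm P X).ker) (hc : ∀ g ∈ P, g * t = t * g) {n : ℕ}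
    (hn : ∀ g ∈ P, g ^ n = 1) (x : X) : t ^ n • x = x := by
  obtain ⟨g, hg, hgx⟩ := (mem_ker P).1 ht x
  have h : ∀ m : ℕ, t ^ m • x = g ^ m • x := by
    intro m
    induction m with
    | zero => simp
    | succ m ih =>
      rw [pow_succ', mul_smul, ih, ← mul_smul]
      have : t * g ^ m = g ^ m * t := by
        have h1 : Commute g t := hc g hg
        exact (h1.pow_left m).eq.symm
      rw [this, mul_smul, hgx, ← mul_smul, ← pow_succ]
  rw [h n, hn g hg, one_smul]

/-- free action -/
def Free (P : Subgroup H) (X : Type*) [MulAction H X] : Prop := ∀ g ∈ P, ∀ x : X, g • x = x → g = 1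

section Free

variable (hfree : Free P X)

/-- coordinates on `X` -/
noncomputable def coord : P × orbitRel.Quotient P X ≃ X :=
  Equiv.ofBijective (fun z => (z.1 : H) • (Quotient.out z.2 : X)) (by
    constructor
    · rintro ⟨g, y⟩ ⟨g', y'⟩ h
      simp only at h
      have h1 : y = y' := by
        rw [← Quotient.out_eq' y, ← Quotient.out_eq' y']
        apply (mk_eq_mk P).2
        refine ⟨(g : H)⁻¹ * g', P.mul_mem (P.inv_mem g.2) g'.2, ?_⟩
        rw [mul_smul, ← h, ← mul_smul]
        simp
      subst h1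
      have h2 : ((g : H)⁻¹ * g') • (Quotient.out y : X) = Quotient.out y := by
        rw [mul_smul, ← h, ← mul_smul]; simp
      have h3 := hfree _ (P.mul_mem (P.inv_mem g.2) g'.2) _ h2
      have h4 : (g : H) = g' := inv_mul_eq_one.1 h3
      exact Prod.ext (Subtype.ext h4) rfl
    · intro x
      obtain ⟨g, hg, hgx⟩ := (mk_eq_mk P (x := x)
        (y := (Quotient.out (Quotient.mk'' x : orbitRel.Quotient P X) : X))).1 (Quotient.out_eq' _).symm
      exact ⟨(⟨g, hg⟩, Quotient.mk'' x), hgx.symm⟩)

theorem coord_apply (g : P) (y : orbitRel.Quotient P X) :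
    coord P hfree (g, y) = (g : H) • (Quotient.out y : X) := rfl

include hfree in
theorem card_eq [Finite H] [Finite X] : Nat.card X = Nat.card P * Nat.card (orbitRel.Quotient P X) := by
  rw [← Nat.card_prod]
  exact (Nat.card_congr (coord P hfree)).symm

include hfree in
theorem exists_cocycle (t : H) : ∃ c : orbitRel.Quotient P X → P,
    ∀ y, t • (Quotient.out y : X) = (c y : H) • (Quotient.out (orbPerm P X t y) : X) := by
  have : ∀ y : orbitRel.Quotient P X, ∃ c : P, t • (Quotient.out y : X) =
      (c : H) • (Quotient.out (orbPerm P X t y) : X) := by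
    intro y
    have h1 : (Quotient.mk'' (t • (Quotient.out y : X)) : orbitRel.Quotient P X) =
        Quotient.mk'' (Quotient.out (orbPerm P X t y) : X) := by
      rw [Quotient.out_eq', ← orbPerm_apply, Quotient.out_eq']
    obtain ⟨g, hg, h⟩ := (mk_eq_mk P).1 h1
    exact ⟨⟨g, hg⟩, h⟩
  choose c hc using this
  exact ⟨c, hc⟩

theorem sign_eq_one_of_pow {α : Type*} [Fintype α] [DecidableEq α] (σ : Equiv.Perm α) {n : ℕ} (hn : Odd n)
    (h : σ ^ n = 1) : Equiv.Perm.sign σ = 1 := by
  have h1 : Equiv.Perm.sign σ ^ n = 1 := by rw [← map_pow, h, map_one]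
  rcases Int.units_eq_one_or (Equiv.Perm.sign σ) with h2 | h2
  · exact h2
  · rw [h2, hn.neg_one_pow] at h1
    rw [h2]; exact h1

theorem units_pow_odd (u : ℤˣ) {n : ℕ} (hn : Odd n) : u ^ n = u := by
  rcases Int.units_eq_one_or u with h2 | h2
  · rw [h2, one_pow]
  · rw [h2, hn.neg_one_pow]

theorem units_pow_even (u : ℤˣ) {n : ℕ} (hn : Even n) : u ^ n = 1 := by
  rcases Int.units_eq_one_or u with h2 | h2
  · rw [h2, one_pow]
  · rw [h2, hn.neg_one_pow]

include hfree in
/-- The sign formula. -/
theorem sign_formula [Fintype X] [DecidableEq X] [Fintype P] [DecidableEq P]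
    [Fintype (orbitRel.Quotient P X)] [DecidableEq (orbitRel.Quotient P X)] (hodd : Odd (Nat.card P)) (t : H) :
    Equiv.Perm.sign (MulAction.toPermHom H X t) =
      Equiv.Perm.sign (MulAut.conjNormal (H := P) t).toEquiv ^ (Fintype.card (orbitRel.Quotient P X)) *
      Equiv.Perm.sign (orbPerm P X t) := by
  obtain ⟨c, hc⟩ := exists_cocycle P hfree t
  let A : Equiv.Perm (P × orbitRel.Quotient P X) := Equiv.prodCongrRight (fun _ => orbPerm P X t)
  let B : Equiv.Perm (P × orbitRel.Quotient P X) :=
    Equiv.prodCongrLeft (fun y => Equiv.mulRight (c y) * (MulAut.conjNormal (H := P) t).toEquiv)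
  have h1 : MulAction.toPermHom H X t = ((coord P hfree).symm.trans (A * B)).trans (coord P hfree) := by
    ext x
    obtain ⟨⟨g, y⟩, rfl⟩ := (coord P hfree).surjective x
    simp only [Equiv.trans_apply, Equiv.symm_apply_apply]
    have h2 : (A * B) (g, y) = (MulAut.conjNormal (H := P) t g * c y, orbPerm P X t y) := rfl
    rw [h2, coord_apply, coord_apply]
    simp only [MulAction.toPermHom_apply, MulAction.toPerm_apply, Subgroup.coe_mul]
    rw [mul_smul, ← hc y, MulAut.conjNormal_apply]
    simp [mul_smul]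
  have hA : Equiv.Perm.sign A = Equiv.Perm.sign (orbPerm P X t) := by
    have : Equiv.Perm.sign A = ∏ _g : P, Equiv.Perm.sign (orbPerm P X t) :=
      Equiv.Perm.sign_prodCongrRight _
    rw [this, Finset.prod_const, Finset.card_univ, ← Nat.card_eq_fintype_card, units_pow_odd _ hodd]
  have hB : Equiv.Perm.sign B = Equiv.Perm.sign (MulAut.conjNormal (H := P) t).toEquiv ^
      (Fintype.card (orbitRel.Quotient P X)) := by
    have : Equiv.Perm.sign B = ∏ y, Equiv.Perm.sign
        (Equiv.mulRight (c y) * (MulAut.conjNormal (H := P) t).toEquiv) :=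
      Equiv.Perm.sign_prodCongrLeft _
    rw [this]
    have h3 : ∀ y, Equiv.Perm.sign (Equiv.mulRight (c y) * (MulAut.conjNormal (H := P) t).toEquiv) =
        Equiv.Perm.sign (MulAut.conjNormal (H := P) t).toEquiv := by
      intro y
      rw [Equiv.Perm.sign_mul]
      have : Equiv.Perm.sign (Equiv.mulRight (c y)) = 1 := by
        apply sign_eq_one_of_pow _ hodd
        rw [Equiv.pow_mulRight, pow_card_eq_one']
        ext; simp
      rw [this, one_mul]
    rw [Finset.prod_congr rfl (fun y _ => h3 y), Finset.prod_const, Finset.card_univ]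
  rw [h1, Equiv.Perm.sign_symm_trans_trans, Equiv.Perm.sign_mul, hA, hB, mul_comm]

end Free

end Cfsg.Agent.Lib.PermOrb
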