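import Cfsg.Agent.Lib.PermFix

/-! The normalizer of a Sylow subgroup `P` of odd prime order `p`, acting on the `m` nontrivial `P`-orbits on the set of
the `1 + p * m` Sylow `p`-subgroups, with fixed point formulas. -/

set_option autoImplicit false

namespace Cfsg.Agent.Lib.PermSyl

open MulAction Subgroup Cfsg.Agent.Lib.PermOrb Cfsg.Agent.Lib.PermLoc Cfsg.Agent.Lib.SmallSimple
  Cfsg.Agent.Lib.NSylMin Cfsg.Agent.Lib.PermFix

variable {G : Type*} [Group G] [Finite G]

theorem exists_hom {p m : ℕ} [hp : Fact p.Prime] (hp2 : p ≠ 2) (P : Sylow p G)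
    (hP : Nat.card (P : Subgroup G) = p) (hn : Nat.card (Sylow p G) = 1 + p * m) :
    ∃ (f : normalizer ((P : Subgroup G) : Set G) →* Equiv.Perm (Fin m)),
      (∀ t : normalizer ((P : Subgroup G) : Set G), (t : G) ∈ (P : Subgroup G) → f t = 1) ∧
      (∀ t : normalizer ((P : Subgroup G) : Set G), f t = 1 → (t : G) ∈ centralizer ((P : Subgroup G) : Set G) →
        ∀ R : Sylow p G, ((t : G) ^ p) • R = R) ∧
      (∀ t : normalizer ((P : Subgroup G) : Set G), (t : G) ∈ centralizer ((P : Subgroup G) : Set G) →
        (orderOf (t : G)).Coprime p →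
        Nat.card {R : Sylow p G // (t : G) • R = R} = 1 + p * Nat.card {y // f t y = y}) ∧
      (∀ t : normalizer ((P : Subgroup G) : Set G), (t : G) ∉ centralizer ((P : Subgroup G) : Set G) →
        Nat.card {R : Sylow p G // (t : G) • R = R} = 1 + Nat.card {y // f t y = y}) ∧
      ((∀ φ : G →* ℤˣ, ∀ g, φ g = 1) →
        ∀ t : normalizer ((P : Subgroup G) : Set G), Equiv.Perm.sign (f t) =
          @Equiv.Perm.sign _ (Classical.decEq _) (Fintype.ofFinite _)
            ((P : Subgroup G).normalizerMonoidHom t).toEquiv ^ m) := by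
  classical
  have hfinΩ : Fintype (Sylow p G) := Fintype.ofFinite _
  set N := normalizer ((P : Subgroup G) : Set G) with hN
  let P' : Subgroup N := (P : Subgroup G).subgroupOf N
  have hPn : P'.Normal := Subgroup.normal_in_normalizer
  have hP' : Nat.card P' = p := by
    rw [← hP]
    exact Nat.card_congr (subgroupOfEquivOfLe le_normalizer).toEquiv
  have hmov : ∀ x : Sylow p G, x ∈ moved P' (Sylow p G) ↔ x ≠ P := by
    intro x
    rw [← moved_iff P x, mem_moved]
    constructor
    · rintro ⟨g, hg, h⟩
      exact ⟨g, hg, h⟩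
    · rintro ⟨g, hg, h⟩
      exact ⟨⟨g, le_normalizer hg⟩, hg, h⟩
  have hfree : Free P' (moved P' (Sylow p G)) := free_moved P' (by rw [hP']; exact hp.out)
  have hcX : Nat.card (moved P' (Sylow p G)) = p * m := by
    have h1 := card_moved P
    have h2 : Nat.card (moved P' (Sylow p G)) = Nat.card {Q : Sylow p G // ∃ g ∈ (P : Subgroup G), g • Q ≠ Q} :=
      Nat.card_congr (Equiv.subtypeEquivRight (fun x => (hmov x).trans (moved_iff P x).symm))
    omega
  have hcY : Nat.card (orbitRel.Quotient P' (moved P' (Sylow p G))) = m := by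
    have h1 := card_eq P' hfree
    rw [hcX, hP'] at h1
    exact (Nat.eq_of_mul_eq_mul_left hp.out.pos h1).symm
  have e : orbitRel.Quotient P' (moved P' (Sylow p G)) ≃ Fin m := Finite.equivFinOfCardEq hcY
  let f0 := orbPerm P' (moved P' (Sylow p G))
  let f : N →* Equiv.Perm (Fin m) := e.permCongrHom.toMonoidHom.comp f0
  have hf : ∀ t, f t = e.permCongr (f0 t) := fun _ => rfl
  have hf1 : ∀ t, f t = 1 ↔ t ∈ f0.ker := by
    intro t
    rw [hf, MonoidHom.mem_ker]
    constructor
    · intro h
      ext y
      have := congrArg (fun σ => e.symm (σ (e y))) h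
      simpa using this
    · intro h
      rw [h]; ext y; simp
  have hfix : ∀ t, Nat.card {y // f t y = y} =
      Nat.card {y : orbitRel.Quotient P' (moved P' (Sylow p G)) // f0 t y = y} := by
    intro t
    refine Nat.card_congr (e.symm.subtypeEquiv ?_)
    intro y
    rw [hf, Equiv.permCongr_apply, ← Equiv.eq_symm_apply]
  -- fixed points on the whole set
  have hwhole : ∀ t : N, Nat.card {R : Sylow p G // (t : G) • R = R} =
      1 + Nat.card {x : moved P' (Sylow p G) // t • x = x} := by
    intro t
    have htP : (t : G) • P = P := Sylow.smul_eq_iff_mem_normalizer.2 t.2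
    have h1 : Nat.card {x : moved P' (Sylow p G) // t • x = x} =
        Nat.card {R : {R : Sylow p G // (t : G) • R = R} // R ≠ ⟨P, htP⟩} := by
      refine Nat.card_congr
        { toFun := fun x => ⟨⟨x.1.1, congrArg Subtype.val x.2⟩, fun h => (hmov _).1 x.1.2 (congrArg Subtype.val h)⟩
          invFun := fun R => ⟨⟨R.1.1, (hmov _).2 (fun h => R.2 (Subtype.ext h))⟩, Subtype.ext R.1.2⟩
          left_inv := fun _ => rfl
          right_inv := fun _ => rfl }
    rw [h1, Nat.card_eq_fintype_card, Nat.card_eq_fintype_card, Fintype.card_subtype_compl,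
      Fintype.card_subtype_eq]
    have : 0 < Fintype.card {R : Sylow p G // (t : G) • R = R} :=
      Fintype.card_pos_iff.2 ⟨⟨P, htP⟩⟩
    omega
  have hcommP : ∀ g ∈ P', ∀ h ∈ P', g * h = h * g := by
    intro g hg h hh
    have := (isMulCommutative_of_prime_card hp.out hP).is_comm.comm (⟨g, hg⟩ : (P : Subgroup G)) ⟨h, hh⟩
    have h2 : (g : G) * (h : G) = h * g := congrArg Subtype.val this
    exact Subtype.ext h2
  refine ⟨f, ?_, ?_, ?_, ?_, ?_⟩
  · intro t ht
    rw [hf1]
    exact le_ker P' ht
  · intro t ht hc R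
    rw [hf1] at ht
    by_cases hR : R = P
    · subst hR
      exact Sylow.smul_eq_iff_mem_normalizer.2 (N.pow_mem t.2 p)
    · have h1 := pow_smul_of_ker P' ht (n := p) ?_ ?_ ⟨R, (hmov R).2 hR⟩
      · exact congrArg Subtype.val h1
      · intro g hg
        apply Subtype.ext
        exact mem_centralizer_iff.1 hc g hg
      · intro g hg
        have : (⟨g, hg⟩ : P') ^ p = 1 := by rw [← hP']; exact pow_card_eq_one'
        exact congrArg Subtype.val this
  · intro t hc hcop
    rw [hwhole, hfix, card_fixed_cent P' hfree (t := t), hP']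
    · intro g hg
      apply Subtype.ext
      exact mem_centralizer_iff.1 hc g hg
    · rw [hP', ← Subgroup.orderOf_coe]; exact hcop
  · intro t hc
    rw [hwhole, hfix, card_fixed_free P' hfree (t := t) hcommP]
    intro g hg htg
    by_contra hne
    apply hc
    have : Fact (Nat.card P').Prime := ⟨by rw [hP']; exact hp.out⟩
    have h1 : zpowers (⟨g, hg⟩ : P') = ⊤ := zpowers_eq_top_of_prime_card rfl
      (fun h0 => hne (congrArg Subtype.val h0))
    rw [mem_centralizer_iff]
    intro x hx
    have h2 : (⟨⟨x, le_normalizer hx⟩, hx⟩ : P') ∈ zpowers (⟨g, hg⟩ : P') := by rw [h1]; trivial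
    obtain ⟨k, hk⟩ := mem_zpowers_iff.1 h2
    have h3 : (g : G) ^ k = x := by
      have := congrArg (fun z : P' => ((z : N) : G)) hk
      simpa using this
    have h4 : Commute (t : G) (g : G) := congrArg Subtype.val htg
    rw [← h3]
    exact (h4.zpow_right k).eq.symm
  · intro heven t
    have hoddP : Odd (Nat.card P') := by rw [hP']; exact hp.out.odd_of_ne_two hp2
    have hft : Fintype P' := Fintype.ofFinite _
    have hft2 : Fintype (orbitRel.Quotient P' (moved P' (Sylow p G))) := Fintype.ofFinite _
    have hft3 : Fintype (moved P' (Sylow p G)) := Fintype.ofFinite _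
    have h1 := sign_formula P' hfree hoddP t
    have h2 : Equiv.Perm.sign (MulAction.toPermHom N (moved P' (Sylow p G)) t) = 1 := by
      have h3 : Equiv.Perm.sign (MulAction.toPermHom G (Sylow p G) t) = 1 :=
        heven (Equiv.Perm.sign.comp (MulAction.toPermHom G (Sylow p G))) t
      have h4 : ∀ x, x ∈ moved P' (Sylow p G) ↔ (MulAction.toPermHom G (Sylow p G) t) x ∈ moved P' (Sylow p G) := by
        intro x
        constructor
        · intro hx
          exact (moved P' (Sylow p G)).smul_mem t hx
        · intro hx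
          have := (moved P' (Sylow p G)).smul_mem t⁻¹ hx
          have h5 : t⁻¹ • (MulAction.toPermHom G (Sylow p G) t) x = x := by
            change t⁻¹ • t • x = x
            simp
          rwa [h5] at this
      have h6 : ∀ x, (MulAction.toPermHom G (Sylow p G) t) x ≠ x → x ∈ moved P' (Sylow p G) := by
        intro x hx
        rw [hmov]
        rintro rfl
        exact hx (Sylow.smul_eq_iff_mem_normalizer.2 t.2)
      have h7 := Equiv.Perm.sign_subtypePerm (MulAction.toPermHom G (Sylow p G) t) (fun x => (h4 x).symm) h6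
      rw [h3] at h7
      convert h7 using 2
      congr!
      ext x
      rfl
    rw [h2] at h1
    rw [hf, Equiv.Perm.sign_permCongr]
    have h4 : Fintype.card (orbitRel.Quotient P' (moved P' (Sylow p G))) = m := by
      rw [← hcY, Nat.card_eq_fintype_card]
    rw [h4] at h1
    have h8 : Equiv.Perm.sign (MulAut.conjNormal (H := P') t).toEquiv =
        @Equiv.Perm.sign _ (Classical.decEq _) (Fintype.ofFinite _)
            ((P : Subgroup G).normalizerMonoidHom t).toEquiv := by
      let e2 : P' ≃ (P : Subgroup G) := (subgroupOfEquivOfLe (le_normalizer (H := (P : Subgroup G)))).toEquiv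
      have h9 : ((P : Subgroup G).normalizerMonoidHom t).toEquiv =
          e2.permCongr (MulAut.conjNormal (H := P') t).toEquiv := by
        ext x
        rfl
      rw [h9]
      exact (@Equiv.Perm.sign_permCongr _ _ _ _ (Classical.decEq _) (Fintype.ofFinite _) e2 _).symm
    rw [← h8]
    rcases Int.units_eq_one_or (Equiv.Perm.sign (f0 t)) with h | h
    · change Equiv.Perm.sign (f0 t) = _
      rw [h]
      change 1 = _ * Equiv.Perm.sign (f0 t) at h1
      rw [h, mul_one] at h1
      exact h1
    · change Equiv.Perm.sign (f0 t) = _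
      rw [h]
      change 1 = _ * Equiv.Perm.sign (f0 t) at h1
      rw [h] at h1
      rw [mul_neg, mul_one] at h1
      rw [h1, neg_neg]

end Cfsg.Agent.Lib.PermSyl
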