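import Cfsg.Agent.Lib.UnTrans

/-! Simple connectivity of the graph of unit vectors of a unitary space (helper38): coverings in which triangles and
non-degenerate quadrangles lift are trivial. -/

set_option autoImplicit false
set_option linter.unusedSectionVars false
set_option linter.unusedSimpArgs false

namespace Cfsg.Agent.Lib.Phan

open Module Cfsg.Agent.Lib.UnTrans
open Cfsg.Agent.Lib.SpTrans (isom mem_isom)

variable {F V : Type*} [Field F] [AddCommGroup V] [Module F V] {σ : F →+* F} {f : V → V → F}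

section geom
variable (H : HS σ f)
include H

theorem nrm_scale {a : V} (ha : f a a ≠ 0) : ∃ k : F, k ≠ 0 ∧ f (k • a) (k • a) = 1 := by
  obtain ⟨x, hx⟩ := H.norm (f a a)⁻¹ (by rw [map_inv₀, H.self_fixed])
  refine ⟨x, ?_, ?_⟩
  · rintro rfl
    rw [zero_mul] at hx
    exact inv_ne_zero ha hx.symm
  · rw [H.smul_left, H.smul_right, ← mul_assoc, hx, inv_mul_cancel₀ ha]

/-- the orthogonal complement of `x` in `W` -/
def pp (W : Submodule F V) (x : V) : Submodule F V := W ⊓ LinearMap.ker (H.fl x)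

theorem mem_pp {W : Submodule F V} {x v : V} : v ∈ pp H W x ↔ v ∈ W ∧ f v x = 0 := by
  rw [pp, Submodule.mem_inf, LinearMap.mem_ker, H.fl_apply]

theorem pp_nd {W : Submodule F V} (hW : Nd f W) {x : V} (hx : x ∈ W) (hxx : f x x ≠ 0) : Nd f (pp H W x) := by
  intro v hv hv0
  rw [mem_pp] at hv
  obtain ⟨y, hy, hvy⟩ := hW v hv.1 hv0
  refine ⟨y - (f y x / f x x) • x, ?_, ?_⟩
  · rw [mem_pp]
    refine ⟨W.sub_mem hy (W.smul_mem _ hx), ?_⟩
    rw [H.sub_left, H.smul_left, div_mul_cancel₀ _ hxx, sub_self]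
  · rw [H.sub_right, H.smul_right, hv.2, mul_zero, sub_zero]
    exact hvy

theorem proj_mem {W : Submodule F V} {x y : V} (hx : x ∈ W) (hxx : f x x = 1) (hy : y ∈ W) : y - f y x • x ∈ pp H W x := by
  rw [mem_pp]
  refine ⟨W.sub_mem hy (W.smul_mem _ hx), ?_⟩
  rw [H.sub_left, H.smul_left, hxx, mul_one, sub_self]

theorem proj_nrm {x y : V} (hxx : f x x = 1) : f (y - f y x • x) (y - f y x • x) = f y y - f y x * σ (f y x) := by
  rw [H.sub_left, H.sub_right, H.sub_right, H.smul_left, H.smul_left, H.smul_right, H.smul_right, hxx, H.herm x y]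
  ring

variable [FiniteDimensional F V]

theorem pp_rank (W : Submodule F V) (x : V) : finrank F W ≤ finrank F (pp H W x) + 1 := HS.finrank_inf_ker W (H.fl x)

/-- a unit vector in a nondegenerate nonzero space -/
theorem ex0 {W : Submodule F V} (hW : Nd f W) (h1 : 1 ≤ finrank F W) : ∃ c ∈ W, f c c = 1 := by
  have h2 : W ≠ ⊥ := by
    rintro rfl
    rw [finrank_bot] at h1
    omega
  obtain ⟨x, hx, hx0⟩ := W.ne_bot_iff.1 h2
  obtain ⟨y, hy, hxy⟩ := hW x hx hx0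
  have h3 : ∃ a ∈ W, f a a ≠ 0 := by
    by_contra hcon
    push Not at hcon
    exact hxy (H.eq_zero_of_iso hcon hx hy)
  obtain ⟨a, ha, haa⟩ := h3
  obtain ⟨k, -, hk⟩ := nrm_scale H haa
  exact ⟨k • a, W.smul_mem _ ha, hk⟩

/-- a unit vector orthogonal to an anisotropic one -/
theorem exD {W : Submodule F V} (hW : Nd f W) (h2 : 2 ≤ finrank F W) {w : V} (hw : w ∈ W) (hww : f w w ≠ 0) :
    ∃ c ∈ W, f c c = 1 ∧ f c w = 0 := by
  have h3 := pp_rank H W w
  obtain ⟨c, hc, hcc⟩ := ex0 H (pp_nd H hW hw hww) (by omega)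
  rw [mem_pp] at hc
  exact ⟨c, hc.1, hcc, hc.2⟩

/-- a unit vector orthogonal to any vector, dimension at least 3 -/
theorem exA {W : Submodule F V} (hW : Nd f W) (h3 : 3 ≤ finrank F W) {w : V} (hw : w ∈ W) :
    ∃ c ∈ W, f c c = 1 ∧ f c w = 0 := by
  have h4 := pp_rank H W w
  obtain ⟨a, ha, haa⟩ := H.exists_aniso (U := pp H W w) (w := w) (by omega) (by
    intro u hu h
    rw [mem_pp] at hu
    exact H.mem_span_of_perp hW hw hu.1 (fun x hx hxw => h x (by rw [mem_pp]; exact ⟨hx, hxw⟩)))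
  obtain ⟨k, -, hk⟩ := nrm_scale H haa
  rw [mem_pp] at ha
  exact ⟨k • a, W.smul_mem _ ha.1, hk, by rw [H.smul_left, ha.2, mul_zero]⟩

/-- a unit vector orthogonal to a nondegenerate triple -/
theorem exE (hnd : Nd f (⊤ : Submodule F V)) (h4 : 4 ≤ finrank F V) {g h w : V} (hg : f g g = 1) (hh : f h h = 1) (hgh : f g h = 0)
    (hw : f w w - f w g * σ (f w g) - f w h * σ (f w h) ≠ 0) : ∃ c, f c c = 1 ∧ f c g = 0 ∧ f c h = 0 ∧ f c w = 0 := by
  have hhg : f h g = 0 := H.symm_zero hgh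
  have hg0 : f g g ≠ 0 := by rw [hg]; exact one_ne_zero
  have hh0 : f h h ≠ 0 := by rw [hh]; exact one_ne_zero
  have r1 := pp_rank H (⊤ : Submodule F V) g
  rw [finrank_top] at r1
  have r2 := pp_rank H (pp H ⊤ g) h
  have hhm : h ∈ pp H ⊤ g := by rw [mem_pp]; exact ⟨trivial, hhg⟩
  have m1 : w - f w g • g ∈ pp H ⊤ g := proj_mem H trivial hg trivial
  have m2 := proj_mem H hhm hh m1
  have e1 : f (w - f w g • g) h = f w h := by rw [H.sub_left, H.smul_left, hgh, mul_zero, sub_zero]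
  have e2 := proj_nrm H (x := h) (y := w - f w g • g) hh
  rw [proj_nrm H hg, e1] at e2
  rw [e1] at m2
  obtain ⟨c, hc, hcc, hcw⟩ := exD H (pp_nd H (pp_nd H hnd trivial hg0) hhm hh0) (by omega) m2 (by rw [e2]; exact hw)
  rw [mem_pp, mem_pp] at hc
  refine ⟨c, hcc, hc.1.2, hc.2, ?_⟩
  rw [H.sub_right, H.sub_right, H.smul_right, H.smul_right, hc.1.2, hc.2] at hcw
  simpa using hcw

/-- changing the product with an isotropic vector -/
theorem exC {U : Submodule F V} {ρ c : V} (hρ : ρ ∈ U) (hρρ : f ρ ρ = 0) (hc : c ∈ U) (hcc : f c c = 1)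
    (hB : ∃ B : F, σ B = B ∧ B ≠ 0 ∧ B ≠ 1) : ∃ c' ∈ U, f c' c' = 1 ∧ f ρ c' * f c' ρ ≠ 1 := by
  by_cases h1 : f ρ c * f c ρ = 1
  · obtain ⟨B, hB, hB0, hB1⟩ := hB
    obtain ⟨α, hα⟩ := H.norm B hB
    have hα0 : α ≠ 0 := by rintro rfl; rw [zero_mul] at hα; exact hB0 hα.symm
    have ht : f ρ c ≠ 0 := by intro h; rw [h, zero_mul] at h1; exact zero_ne_one h1
    obtain ⟨x, hx⟩ := H.exists_trace (1 - B) (by rw [map_sub, map_one, hB])
    have hσα := H.sigma_ne hα0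
    refine ⟨α • c + (x / (σ α * f ρ c)) • ρ, U.add_mem (U.smul_mem _ hc) (U.smul_mem _ hρ), ?_, ?_⟩
    · rw [H.expand, H.smul_left, H.smul_right, H.smul_right, hcc, hρρ]
      have e : x / (σ α * f ρ c) * (σ α * f ρ c) = x := div_mul_cancel₀ x (mul_ne_zero hσα ht)
      rw [e, hx, mul_one, hα, mul_zero]; ring
    · rw [H.add_right, H.add_left, H.smul_right, H.smul_right, H.smul_left, H.smul_left, hρρ, mul_zero, mul_zero, add_zero, add_zero]
      intro h2
      apply hB1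
      rw [← hα]
      linear_combination h2 - α * σ α * h1
  · exact ⟨c, hc, hcc, h1⟩

/-- prescribed product with an isotropic vector -/
theorem exG {W : Submodule F V} (hW : Nd f W) {u : V} (hu : u ∈ W) (hu0 : u ≠ 0) (huu : f u u = 0) {B : F} (hB : σ B = B) (hB0 : B ≠ 0) :
    ∃ c ∈ W, f c c = 1 ∧ f u c * f c u = B := by
  obtain ⟨y, hy, hy0⟩ := hW u hu hu0
  have hy1 := H.symm_ne hy0
  obtain ⟨k, hk⟩ := H.norm (B / (f u y * f y u)) (by
    rw [map_div₀, hB, map_mul, ← H.herm, ← H.herm, mul_comm (f y u)])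
  have hk0 : k ≠ 0 := by
    rintro rfl
    rw [zero_mul] at hk
    exact div_ne_zero hB0 (mul_ne_zero hy0 hy1) hk.symm
  have h1 : f u (k • y) ≠ 0 := by rw [H.smul_right]; exact mul_ne_zero (H.sigma_ne hk0) hy0
  obtain ⟨a, ha⟩ := H.exists_add_norm huu h1 (map_one σ)
  refine ⟨k • y + a • u, W.add_mem (W.smul_mem _ hy) (W.smul_mem _ hu), ha, ?_⟩
  rw [H.add_right, H.add_left, H.smul_right, H.smul_right, H.smul_left, H.smul_left, huu, mul_zero, mul_zero, add_zero, add_zero]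
  have : σ k * f u y * (k * f y u) = (k * σ k) * (f u y * f y u) := by ring
  rw [this, hk, div_mul_cancel₀ _ (mul_ne_zero hy0 hy1)]

/-- a common nondegenerate neighbour -/
theorem exN {W : Submodule F V} (hW : Nd f W) {a b r : V} (ha : a ∈ W) (hb : b ∈ W) (hr : r ∈ W) (haa : f a a = 1) (hbb : f b b = 1)
    (har : f a r = 0) (hbr : f b r = 0) (hab : f b a * σ (f b a) = 1) (hcase : (r = 0 ∧ 3 ≤ finrank F W) ∨ 4 ≤ finrank F W)
    (hB : ∃ B : F, σ B = B ∧ B ≠ 0 ∧ B ≠ 1) : ∃ c ∈ W, f c c = 1 ∧ f c r = 0 ∧ f a c * f c a ≠ 1 ∧ f b c * f c b ≠ 1 := by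
  have ha0 : f a a ≠ 0 := by rw [haa]; exact one_ne_zero
  have hra : f r a = 0 := H.symm_zero har
  have r2 := pp_rank H W a
  have hnd2 := pp_nd H hW ha ha0
  have hr2 : r ∈ pp H W a := by rw [mem_pp]; exact ⟨hr, hra⟩
  have hρ := proj_mem H ha haa hb
  have hρρ := proj_nrm H (x := a) (y := b) haa
  rw [hbb, hab, sub_self] at hρρ
  have hc0 : ∃ c ∈ pp H W a, f c c = 1 ∧ f c r = 0 := by
    rcases hcase with ⟨h0, h3⟩ | h4
    · obtain ⟨c, hc, hcc⟩ := ex0 H hnd2 (by omega)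
      exact ⟨c, hc, hcc, by rw [h0, H.zero_right]⟩
    · exact exA H hnd2 (by omega) hr2
  obtain ⟨c0, hc0, hcc0, hcr0⟩ := hc0
  have hρU : b - f b a • a ∈ pp H (pp H W a) r := by
    rw [mem_pp]
    exact ⟨hρ, by rw [H.sub_left, H.smul_left, hbr, har, mul_zero, sub_zero]⟩
  obtain ⟨c, hc, hcc, hcρ⟩ := exC H (U := pp H (pp H W a) r) hρU hρρ (by rw [mem_pp]; exact ⟨hc0, hcr0⟩) hcc0 hB
  rw [mem_pp, mem_pp] at hc
  refine ⟨c, hc.1.1, hcc, hc.2, ?_, ?_⟩
  · rw [hc.1.2, mul_zero]; exact zero_ne_one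
  · rw [H.sub_left, H.sub_right, H.smul_left, H.smul_right, hc.1.2, H.symm_zero hc.1.2, mul_zero, mul_zero, sub_zero, sub_zero] at hcρ
    exact hcρ

end geom

/-- the base field is large enough: the fixed field has at least four elements -/
def Big (σ : F →+* F) : Prop := ∀ m : F, σ m = m → m ≠ 0 → ∃ u1 u2 τ : F, u1 + σ u1 = -1 ∧ u2 + σ u2 = -1 ∧ σ τ = τ ∧
  τ ≠ 0 ∧ τ + u1 * σ u1 ≠ 0 ∧ τ + m * (u2 * σ u2) ≠ 0 ∧ τ + u1 * σ u1 + m * (u2 * σ u2) ≠ 0

/-- the cone point over a degenerate quadrangle -/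
theorem exCone (H : HS σ f) (hbig : Big σ) {x a r t v b : V} {s l μ : F} (hx : f x x = 1) (ha : f a a = 1) (hxa : f x a = 0)
    (hrx : f r x = 0) (hra : f r a = 0) (htx : f t x = 0) (hta : f t a = 0) (hr : f r r = 0) (ht : f t t = 0) (hrt : f r t = 1)
    (hv : v = s • x + r) (hb : b = l • a + μ • r) (hs : s * σ s = 1) (hl : l * σ l = 1) (hμ : μ ≠ 0) :
    ∃ w, f w w = 1 ∧ f x w * f w x ≠ 1 ∧ f a w * f w a ≠ 1 ∧ f v w * f w v ≠ 1 ∧ f b w * f w b ≠ 1 ∧
      f w w - f w x * σ (f w x) - f w a * σ (f w a) ≠ 0 ∧ f w w - f w a * σ (f w a) - f w v * σ (f w v) ≠ 0 ∧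
      f w w - f w x * σ (f w x) - f w b * σ (f w b) ≠ 0 ∧ f w w - f w v * σ (f w v) - f w b * σ (f w b) ≠ 0 := by
  have hσμ := H.sigma_ne hμ
  obtain ⟨u1, u2, τ, hu1, hu2, hτ, hτ0, hA, hC, hAC⟩ := hbig (μ * σ μ) (by rw [map_mul, H.inv, mul_comm]) (mul_ne_zero hμ hσμ)
  obtain ⟨w3, hw3⟩ := H.exists_trace τ hτ
  have htr : f t r = 1 := by rw [H.herm, hrt, map_one]
  have hax := H.symm_zero hxa
  have hxr := H.symm_zero hrx
  have har := H.symm_zero hra
  have hxt := H.symm_zero htx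
  have hat := H.symm_zero hta
  set w0 : V := (s * u1) • x + (l * σ μ * u2) • a + w3 • r + t with hw0
  have i1 : f w0 x = s * u1 := by
    rw [hw0, H.add_left, H.add_left, H.add_left, H.smul_left, H.smul_left, H.smul_left, hx, hax, hrx, htx]; ring
  have i2 : f w0 a = l * σ μ * u2 := by
    rw [hw0, H.add_left, H.add_left, H.add_left, H.smul_left, H.smul_left, H.smul_left, hxa, ha, hra, hta]; ring
  have i3 : f w0 r = 1 := by
    rw [hw0, H.add_left, H.add_left, H.add_left, H.smul_left, H.smul_left, H.smul_left, hxr, har, hr, htr]; ring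
  have i4 : f w0 t = w3 := by
    rw [hw0, H.add_left, H.add_left, H.add_left, H.smul_left, H.smul_left, H.smul_left, hxt, hat, hrt, ht]; ring
  have i5 : f w0 v = u1 + 1 := by
    rw [hv, H.add_right, H.smul_right, i1, i3]; linear_combination u1 * hs
  have i6 : f w0 b = σ μ * (u2 + 1) := by
    rw [hb, H.add_right, H.smul_right, H.smul_right, i2, i3]; linear_combination σ μ * u2 * hl
  have i7 : f w0 w0 = τ + u1 * σ u1 + μ * σ μ * (u2 * σ u2) := by
    conv_lhs => rw [hw0, H.add_right, H.add_right, H.add_right, H.smul_right, H.smul_right, H.smul_right, ← hw0, i1, i2, i3, i4]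
    rw [map_mul, map_mul, map_mul, H.inv]
    linear_combination hw3 + u1 * σ u1 * hs + μ * σ μ * u2 * σ u2 * hl
  have i8 : f w0 x * σ (f w0 x) = u1 * σ u1 := by rw [i1, map_mul]; linear_combination u1 * σ u1 * hs
  have i9 : f w0 a * σ (f w0 a) = μ * σ μ * (u2 * σ u2) := by
    rw [i2, map_mul, map_mul, H.inv]; linear_combination μ * σ μ * u2 * σ u2 * hl
  have i10 : f w0 v * σ (f w0 v) = u1 * σ u1 := by rw [i5, map_add, map_one]; linear_combination hu1
  have i11 : f w0 b * σ (f w0 b) = μ * σ μ * (u2 * σ u2) := by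
    rw [i6, map_mul, map_add, map_one, H.inv]; linear_combination μ * σ μ * hu2
  have hn : f w0 w0 ≠ 0 := by rw [i7]; exact hAC
  obtain ⟨k, hk⟩ := H.norm (f w0 w0)⁻¹ (by rw [map_inv₀, H.self_fixed])
  have key : ∀ g, f (k • w0) g * σ (f (k • w0) g) = (f w0 w0)⁻¹ * (f w0 g * σ (f w0 g)) := by
    intro g
    rw [H.smul_left, map_mul, ← hk]; ring
  have key2 : ∀ g, f g (k • w0) * f (k • w0) g = (f w0 w0)⁻¹ * (f w0 g * σ (f w0 g)) := by
    intro g
    rw [← key, H.herm g, mul_comm]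
  have hw1 : f (k • w0) (k • w0) = 1 := by
    rw [H.smul_left, H.smul_right, ← mul_assoc, hk, inv_mul_cancel₀ hn]
  have fin1 : ∀ N, f w0 w0 - N ≠ 0 → (f w0 w0)⁻¹ * N ≠ 1 := by
    intro N hN h
    apply hN
    field_simp at h
    rw [h, sub_self]
  have fin2 : ∀ N N', f w0 w0 - N - N' ≠ 0 → 1 - (f w0 w0)⁻¹ * N - (f w0 w0)⁻¹ * N' ≠ 0 := by
    intro N N' hN h
    apply hN
    have h1 : f w0 w0 * (1 - (f w0 w0)⁻¹ * N - (f w0 w0)⁻¹ * N') = f w0 w0 - N - N' := by
      rw [mul_sub, mul_sub, ← mul_assoc, ← mul_assoc, mul_inv_cancel₀ hn]; ring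
    rw [← h1, h, mul_zero]
  refine ⟨k • w0, hw1, ?_, ?_, ?_, ?_, ?_, ?_, ?_, ?_⟩
  · rw [key2]; apply fin1; rw [i7, i8]; intro h; apply hC; linear_combination h
  · rw [key2]; apply fin1; rw [i7, i9]; intro h; apply hA; linear_combination h
  · rw [key2]; apply fin1; rw [i7, i10]; intro h; apply hC; linear_combination h
  · rw [key2]; apply fin1; rw [i7, i11]; intro h; apply hA; linear_combination h
  · rw [key, key, hw1]; apply fin2; rw [i7, i8, i9]; intro h; apply hτ0; linear_combination h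
  · rw [key, key, hw1]; apply fin2; rw [i7, i9, i10]; intro h; apply hτ0; linear_combination h
  · rw [key, key, hw1]; apply fin2; rw [i7, i8, i11]; intro h; apply hτ0; linear_combination h
  · rw [key, key, hw1]; apply fin2; rw [i7, i10, i11]; intro h; apply hτ0; linear_combination h

/-- coverings of the graph of unit vectors (adjacent = orthogonal) in which triangles and nondegenerate quadrangles lift -/
structure Cov (f : V → V → F) {X : Type*} (p : X → V) (R : X → X → Prop) : Prop where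
  nrm : ∀ x, f (p x) (p x) = 1
  symm : ∀ {x y}, R x y → R y x
  orth : ∀ {x y}, R x y → f (p x) (p y) = 0
  lift : ∀ x v, f v v = 1 → f (p x) v = 0 → ∃ y, R x y ∧ p y = v
  uniq : ∀ {x y z}, R x y → R x z → p y = p z → y = z
  tri : ∀ {x y z}, R x y → R x z → f (p y) (p z) = 0 → R y z
  quad : ∀ {x y z w}, R x y → R x z → R y w → f (p w) (p z) = 0 → f (p x) (p w) * f (p w) (p x) ≠ 1 → R z w

section cov
variable {X : Type*} {p : X → V} {R : X → X → Prop} (C : Cov f p R) (H : HS σ f)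
include C

theorem quad_sw {x a z b : X} (h1 : R x a) (h2 : R a z) (h3 : R x b) (h4 : f (p b) (p z) = 0)
    (h5 : f (p a) (p b) * f (p b) (p a) ≠ 1) : R z b := C.quad (C.symm h1) h2 h3 h4 h5

include H

theorem quad_via {x a z b : X} (h1 : R x a) (h2 : R a z) (h3 : R x b) (h4 : f (p b) (p z) = 0) {c : V} (hcc : f c c = 1)
    (hcx : f c (p x) = 0) (hcz : f c (p z) = 0) (hca : f (p a) c * f c (p a) ≠ 1) (hcb : f (p b) c * f c (p b) ≠ 1) : R z b := by
  obtain ⟨y, hxy, rfl⟩ := C.lift x c hcc (H.symm_zero hcx)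
  have h5 := quad_sw C h1 h2 hxy hcz hca
  exact quad_sw C hxy (C.symm h5) h3 h4 (by rw [mul_comm]; exact hcb)

variable [FiniteDimensional F V] (hnd : Nd f (⊤ : Submodule F V)) (hB : ∃ B : F, σ B = B ∧ B ≠ 0 ∧ B ≠ 1)
include hnd hB

/-- quadrangles with an extra hypothesis close up. -/
theorem cq_aux {x a z b : X} (h1 : R x a) (h2 : R a z) (h3 : R x b) (h4 : f (p b) (p z) = 0)
    (hcase : (p z - f (p z) (p x) • p x = 0 ∧ 4 ≤ finrank F V) ∨ 5 ≤ finrank F V) : R z b := by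
  by_cases e1 : f (p z) (p x) * f (p x) (p z) = 1
  · by_cases e2 : f (p a) (p b) * f (p b) (p a) = 1
    · have hx1 := C.nrm x
      have hx0 : f (p x) (p x) ≠ 0 := by rw [hx1]; exact one_ne_zero
      have r1 := pp_rank H (⊤ : Submodule F V) (p x)
      rw [finrank_top] at r1
      have oa := C.orth h1
      have ob := C.orth h3
      have oaz := C.orth h2
      have ma : p a ∈ pp H ⊤ (p x) := by rw [mem_pp]; exact ⟨trivial, H.symm_zero oa⟩
      have mb : p b ∈ pp H ⊤ (p x) := by rw [mem_pp]; exact ⟨trivial, H.symm_zero ob⟩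
      have mr := proj_mem H (W := ⊤) (x := p x) (y := p z) trivial hx1 trivial
      obtain ⟨c, hc, hcc, hcr, hca, hcb⟩ := exN H (pp_nd H hnd trivial hx0) ma mb mr (C.nrm a) (C.nrm b)
        (by rw [H.sub_right, H.smul_right, oaz, H.symm_zero oa, mul_zero, sub_zero])
        (by rw [H.sub_right, H.smul_right, h4, H.symm_zero ob, mul_zero, sub_zero])
        (by rw [← H.herm, mul_comm]; exact e2)
        (by rcases hcase with ⟨h, h'⟩ | h'
            · exact Or.inl ⟨h, by omega⟩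
            · exact Or.inr (by omega)) hB
      rw [mem_pp] at hc
      refine quad_via C H h1 h2 h3 h4 hcc hc.2 ?_ hca hcb
      rw [H.sub_right, H.smul_right, hc.2, mul_zero, sub_zero] at hcr
      exact hcr
    · exact quad_sw C h1 h2 h3 h4 e2
  · exact C.symm (C.quad h1 h3 h2 (H.symm_zero h4) (by rw [mul_comm]; exact e1))

theorem cq5 (h5 : 5 ≤ finrank F V) {x a z b : X} (h1 : R x a) (h2 : R a z) (h3 : R x b) (h4 : f (p b) (p z) = 0) : R z b :=
  cq_aux C H hnd hB h1 h2 h3 h4 (Or.inr h5)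

/-- all quadrangles close up in dimension four. -/
theorem cq4 (h4' : finrank F V = 4) (hbig : Big σ) {x a z b : X} (h1 : R x a) (h2 : R a z) (h3 : R x b) (h4 : f (p b) (p z) = 0) : R z b := by
  by_cases e1 : f (p z) (p x) * f (p x) (p z) = 1
  swap
  · exact C.symm (C.quad h1 h3 h2 (H.symm_zero h4) (by rw [mul_comm]; exact e1))
  by_cases e2 : f (p a) (p b) * f (p b) (p a) = 1
  swap
  · exact quad_sw C h1 h2 h3 h4 e2
  by_cases e3 : p z - f (p z) (p x) • p x = 0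
  · exact cq_aux C H hnd hB h1 h2 h3 h4 (Or.inl ⟨e3, h4'.ge⟩)
  by_cases e4 : p b - f (p b) (p a) • p a = 0
  · exact C.symm (cq_aux C H hnd hB (C.symm h1) h3 h2 (H.symm_zero h4) (Or.inl ⟨e4, h4'.ge⟩))
  have hx1 := C.nrm x
  have ha1 := C.nrm a
  have hz1 := C.nrm z
  have hb1 := C.nrm b
  have oxa := C.orth h1
  have oaz := C.orth h2
  have oxb := C.orth h3
  have oax := H.symm_zero oxa
  have oza := H.symm_zero oaz
  have obx := H.symm_zero oxb
  have hx0 : f (p x) (p x) ≠ 0 := by rw [hx1]; exact one_ne_zero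
  have ha0 : f (p a) (p a) ≠ 0 := by rw [ha1]; exact one_ne_zero
  have ham : p a ∈ pp H ⊤ (p x) := by rw [mem_pp]; exact ⟨trivial, oax⟩
  set W := pp H (pp H ⊤ (p x)) (p a) with hW
  have hWnd : Nd f W := pp_nd H (pp_nd H hnd trivial hx0) ham ha0
  have k1 : finrank F (pp H (⊤ : Submodule F V) (p x)) < finrank F V := by
    apply Submodule.finrank_lt
    intro htop
    have : p x ∈ pp H (⊤ : Submodule F V) (p x) := by rw [htop]; trivial
    rw [mem_pp] at this
    exact hx0 this.2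
  have k2 : finrank F W < finrank F (pp H (⊤ : Submodule F V) (p x)) := by
    apply Submodule.finrank_lt_finrank_of_lt
    refine lt_of_le_of_ne (fun y hy => by rw [hW, mem_pp] at hy; exact hy.1) ?_
    intro heq
    rw [← heq, hW, mem_pp] at ham
    exact ha0 ham.2
  set r : V := p z - f (p z) (p x) • p x with hr
  set ρ : V := p b - f (p b) (p a) • p a with hρ
  have hrx : f r (p x) = 0 := by rw [hr, H.sub_left, H.smul_left, hx1, mul_one, sub_self]
  have hra : f r (p a) = 0 := by rw [hr, H.sub_left, H.smul_left, oza, oxa, mul_zero, sub_zero]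
  have hρa : f ρ (p a) = 0 := by rw [hρ, H.sub_left, H.smul_left, ha1, mul_one, sub_self]
  have hρx : f ρ (p x) = 0 := by rw [hρ, H.sub_left, H.smul_left, obx, oax, mul_zero, sub_zero]
  have hrW : r ∈ W := by rw [hW, mem_pp, mem_pp]; exact ⟨⟨trivial, hrx⟩, hra⟩
  have hρW : ρ ∈ W := by rw [hW, mem_pp, mem_pp]; exact ⟨⟨trivial, hρx⟩, hρa⟩
  have hs : f (p z) (p x) * σ (f (p z) (p x)) = 1 := by rw [← H.herm]; exact e1
  have hl : f (p b) (p a) * σ (f (p b) (p a)) = 1 := by rw [← H.herm, mul_comm]; exact e2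
  have hrr : f r r = 0 := by
    have := proj_nrm H (x := p x) (y := p z) hx1
    rw [hz1, hs, sub_self] at this
    exact this
  have hρρ : f ρ ρ = 0 := by
    have := proj_nrm H (x := p a) (y := p b) ha1
    rw [hb1, hl, sub_self] at this
    exact this
  have hρr : f ρ r = 0 := by
    rw [hρ, hr, H.sub_left, H.sub_right, H.sub_right, H.smul_left, H.smul_left, H.smul_right, H.smul_right, h4, obx, oaz, oax]
    ring
  obtain ⟨y, hy, hry⟩ := hWnd r hrW e3
  have k3 : finrank F (pp H W r) < finrank F W := by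
    apply Submodule.finrank_lt_finrank_of_lt
    refine lt_of_le_of_ne (fun y hy => by rw [mem_pp] at hy; exact hy.1) ?_
    intro heq
    rw [← heq, mem_pp] at hy
    exact H.symm_ne hry hy.2
  have hrU : r ∈ pp H W r := by rw [mem_pp]; exact ⟨hrW, hrr⟩
  have hρU : ρ ∈ pp H W r := by rw [mem_pp]; exact ⟨hρW, hρr⟩
  obtain ⟨μ, hμ⟩ : ∃ μ : F, ρ = μ • r := by
    have h5 : Submodule.span F {r} = pp H W r := by
      apply Submodule.eq_of_le_of_finrank_le
      · rw [Submodule.span_singleton_le_iff_mem]; exact hrU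
      · rw [finrank_span_singleton e3]; omega
    rw [← h5] at hρU
    obtain ⟨μ, hμ⟩ := Submodule.mem_span_singleton.1 hρU
    exact ⟨μ, hμ.symm⟩
  have hμ0 : μ ≠ 0 := by rintro rfl; rw [zero_smul] at hμ; exact e4 hμ
  obtain ⟨c0, hc0⟩ := H.exists_add_norm hrr hry (map_zero σ)
  have hry' : f r (y + c0 • r) ≠ 0 := by rw [H.add_right, H.smul_right, hrr, mul_zero, add_zero]; exact hry
  set t : V := σ (f r (y + c0 • r))⁻¹ • (y + c0 • r) with ht
  have htW : t ∈ W := W.smul_mem _ (W.add_mem hy (W.smul_mem _ hrW))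
  have htt : f t t = 0 := by rw [ht, H.smul_left, H.smul_right, hc0]; ring
  have hrt : f r t = 1 := by rw [ht, H.smul_right, H.inv, inv_mul_cancel₀ hry']
  rw [hW, mem_pp, mem_pp] at htW
  have hv : p z = f (p z) (p x) • p x + r := by rw [hr]; abel
  have hb : p b = f (p b) (p a) • p a + μ • r := by rw [← hμ, hρ]; abel
  obtain ⟨w, hww, w1, w2, w3, w4, w5, w6, w7, w8⟩ := exCone H hbig hx1 ha1 oxa hrx hra htW.1.2 htW.2 hrr htt hrt hv hb hs hl hμ0
  obtain ⟨c1, hc1, c1x, c1a, c1w⟩ := exE H hnd h4'.ge hx1 ha1 oxa w5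
  obtain ⟨c2, hc2, c2a, c2z, c2w⟩ := exE H hnd h4'.ge ha1 hz1 oaz w6
  obtain ⟨c3, hc3, c3x, c3b, c3w⟩ := exE H hnd h4'.ge hx1 hb1 oxb w7
  obtain ⟨c4, hc4, c4z, c4b, c4w⟩ := exE H hnd h4'.ge hz1 hb1 (H.symm_zero h4) w8
  obtain ⟨C1, r1, rfl⟩ := C.lift x c1 hc1 (H.symm_zero c1x)
  obtain ⟨W', r2, rfl⟩ := C.lift C1 w hww c1w
  have s1 : R a C1 := C.tri h1 r1 (H.symm_zero c1a)
  obtain ⟨C2, r3, rfl⟩ := C.lift a c2 hc2 (H.symm_zero c2a)
  have s2 : R z C2 := C.tri h2 r3 (H.symm_zero c2z)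
  have s3 : R C2 W' := C.quad s1 r3 r2 (H.symm_zero c2w) w2
  obtain ⟨C3, r4, rfl⟩ := C.lift x c3 hc3 (H.symm_zero c3x)
  have s4 : R b C3 := C.tri h3 r4 (H.symm_zero c3b)
  have s5 : R C3 W' := C.quad r1 r4 r2 (H.symm_zero c3w) w1
  obtain ⟨C4, r5, rfl⟩ := C.lift W' c4 hc4 (H.symm_zero c4w)
  have s6 : R C4 z := C.quad (C.symm s3) r5 (C.symm s2) (H.symm_zero c4z) (by rw [mul_comm]; exact w3)
  have s7 : R C4 b := C.quad (C.symm s5) r5 (C.symm s4) (H.symm_zero c4b) (by rw [mul_comm]; exact w4)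
  exact C.tri s6 s7 (H.symm_zero h4)

end cov

section main
variable {X : Type*} {p : X → V} {R : X → X → Prop} (C : Cov f p R) (H : HS σ f) [FiniteDimensional F V] (hnd : Nd f (⊤ : Submodule F V))

include H hnd in
/-- two unit vectors have a common neighbour -/
theorem ex2 (h4 : 4 ≤ finrank F V) {x y : V} (hx : f x x = 1) : ∃ c, f c c = 1 ∧ f c x = 0 ∧ f c y = 0 := by
  have hx0 : f x x ≠ 0 := by rw [hx]; exact one_ne_zero
  have r1 := pp_rank H (⊤ : Submodule F V) x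
  rw [finrank_top] at r1
  obtain ⟨c, hc, hcc, hcy⟩ := exA H (pp_nd H hnd trivial hx0) (by omega) (proj_mem H (x := x) (y := y) trivial hx trivial)
  rw [mem_pp] at hc
  rw [H.sub_right, H.smul_right, hc.2, mul_zero, sub_zero] at hcy
  exact ⟨c, hcc, hc.2, hcy⟩

include H hnd in
theorem ex3 (h5 : 5 ≤ finrank F V) {x y z : V} (hx : f x x = 1) (hy : f y y = 1) (hxy : f x y = 0) : ∃ c, f c c = 1 ∧ f c x = 0 ∧ f c y = 0 ∧ f c z = 0 := by
  have hx0 : f x x ≠ 0 := by rw [hx]; exact one_ne_zero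
  have hy0 : f y y ≠ 0 := by rw [hy]; exact one_ne_zero
  have hyx := H.symm_zero hxy
  have r1 := pp_rank H (⊤ : Submodule F V) x
  rw [finrank_top] at r1
  have hym : y ∈ pp H ⊤ x := by rw [mem_pp]; exact ⟨trivial, hyx⟩
  have r2 := pp_rank H (pp H ⊤ x) y
  have m1 := proj_mem H (W := ⊤) (x := x) (y := z) trivial hx trivial
  have m2 := proj_mem H hym hy m1
  obtain ⟨c, hc, hcc, hcz⟩ := exA H (pp_nd H (pp_nd H hnd trivial hx0) hym hy0) (by omega) m2
  rw [mem_pp, mem_pp] at hc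
  rw [H.sub_right, H.smul_right, hc.2, mul_zero, sub_zero, H.sub_right, H.smul_right, hc.1.2, mul_zero, sub_zero] at hcz
  exact ⟨c, hcc, hc.1.2, hc.2, hcz⟩

include C H hnd in
theorem inj_of (h4 : 4 ≤ finrank F V) (hcq : ∀ {x a z b : X}, R x a → R a z → R x b → f (p b) (p z) = 0 → R z b) {x0 : X}
    (hcl : ∀ z w, (∃ y, R x0 y ∧ R y z) → R z w → ∃ y, R x0 y ∧ R y w) {z w : X}
    (hz : Relation.ReflTransGen R x0 z) (hw : Relation.ReflTransGen R x0 w) (hzw : p z = p w) : z = w := by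
  have h0 : ∃ y, R x0 y ∧ R y x0 := by
    obtain ⟨c, hc, hcx, -⟩ := ex2 H hnd h4 (y := p x0) (C.nrm x0)
    obtain ⟨y, h1, -⟩ := C.lift x0 c hc (H.symm_zero hcx)
    exact ⟨y, h1, C.symm h1⟩
  have key : ∀ u, Relation.ReflTransGen R x0 u → ∃ y, R x0 y ∧ R y u := by
    intro u hu
    induction hu with
    | refl => exact h0
    | tail _ h2 ih => exact hcl _ _ ih h2
  obtain ⟨y, h1, h2⟩ := key z hz
  obtain ⟨y', h3, h4⟩ := key w hw
  have h5 : R z y' := hcq h1 h2 h3 (by rw [hzw]; exact C.orth h4)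
  exact C.uniq (C.symm h5) h4 hzw

include C H hnd in
/-- coverings are trivial in dimension at least five -/
theorem inj5 (hB : ∃ B : F, σ B = B ∧ B ≠ 0 ∧ B ≠ 1) (h5 : 5 ≤ finrank F V) {x0 z w : X}
    (hz : Relation.ReflTransGen R x0 z) (hw : Relation.ReflTransGen R x0 w) (hzw : p z = p w) : z = w := by
  refine inj_of C H hnd (by omega) (cq5 C H hnd hB h5) ?_ hz hw hzw
  rintro u v ⟨y, h1, h2⟩ h3
  obtain ⟨c, hc, hcu, hcv, hcx⟩ := ex3 H hnd h5 (z := p x0) (C.nrm u) (C.nrm v) (C.orth h3)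
  obtain ⟨c', r1, rfl⟩ := C.lift x0 c hc (H.symm_zero hcx)
  have r2 := cq5 C H hnd hB h5 h1 h2 r1 hcu
  exact ⟨c', r1, C.symm (C.tri h3 r2 (H.symm_zero hcv))⟩

include C H hnd in
/-- coverings are trivial in dimension four when the base field has at least four elements -/
theorem inj4 (hB : ∀ k1 k2 : F, ∃ B : F, σ B = B ∧ B ≠ 0 ∧ B ≠ k1 ∧ B ≠ k2) (hbig : Big σ) (h4 : finrank F V = 4) {x0 z w : X}
    (hz : Relation.ReflTransGen R x0 z) (hw : Relation.ReflTransGen R x0 w) (hzw : p z = p w) : z = w := by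
  have hB1 : ∃ B : F, σ B = B ∧ B ≠ 0 ∧ B ≠ 1 := by
    obtain ⟨B, h1, h2, h3, -⟩ := hB 1 1
    exact ⟨B, h1, h2, h3⟩
  refine inj_of C H hnd (by omega) (cq4 C H hnd hB1 h4 hbig) ?_ hz hw hzw
  rintro u v ⟨y, h1, h2⟩ h3
  have hu1 := C.nrm u
  have hv1 := C.nrm v
  have hx1 := C.nrm x0
  have huv := C.orth h3
  have hvu := H.symm_zero huv
  have fin : (∃ c, f c c = 1 ∧ f c (p u) = 0 ∧ f c (p v) = 0 ∧ f c (p x0) = 0) → ∃ y, R x0 y ∧ R y v := by
    rintro ⟨c, hc, hcu, hcv, hcx⟩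
    obtain ⟨c', r1, rfl⟩ := C.lift x0 c hc (H.symm_zero hcx)
    have r2 := cq4 C H hnd hB1 h4 hbig h1 h2 r1 hcu
    exact ⟨c', r1, C.symm (C.tri h3 r2 (H.symm_zero hcv))⟩
  by_cases hg : f (p x0) (p x0) - f (p x0) (p u) * σ (f (p x0) (p u)) - f (p x0) (p v) * σ (f (p x0) (p v)) = 0
  swap
  · exact fin (exE H hnd h4.ge hu1 hv1 huv hg)
  have hu0 : f (p u) (p u) ≠ 0 := by rw [hu1]; exact one_ne_zero
  have hv0 : f (p v) (p v) ≠ 0 := by rw [hv1]; exact one_ne_zero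
  have r1 := pp_rank H (⊤ : Submodule F V) (p u)
  rw [finrank_top] at r1
  have r2 := pp_rank H (pp H ⊤ (p u)) (p v)
  have hvm : p v ∈ pp H ⊤ (p u) := by rw [mem_pp]; exact ⟨trivial, hvu⟩
  have hW := pp_nd H (pp_nd H hnd trivial hu0) hvm hv0
  have m1 := proj_mem H (W := ⊤) (x := p u) (y := p x0) trivial hu1 trivial
  have m2 := proj_mem H hvm hv1 m1
  have e1 : f (p x0 - f (p x0) (p u) • p u) (p v) = f (p x0) (p v) := by rw [H.sub_left, H.smul_left, huv, mul_zero, sub_zero]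
  have e2 := proj_nrm H (x := p v) (y := p x0 - f (p x0) (p u) • p u) hv1
  rw [proj_nrm H hu1, e1, hg] at e2
  rw [e1] at m2
  set ρ : V := p x0 - f (p x0) (p u) • p u - f (p x0) (p v) • p v with hρ
  by_cases hρ0 : ρ = 0
  · obtain ⟨c, hc, hcc⟩ := ex0 H hW (by omega)
    rw [mem_pp, mem_pp] at hc
    refine fin ⟨c, hcc, hc.1.2, hc.2, ?_⟩
    have : p x0 = f (p x0) (p u) • p u + f (p x0) (p v) • p v := by
      rw [hρ, sub_sub] at hρ0
      exact sub_eq_zero.1 hρ0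
    rw [this, H.add_right, H.smul_right, H.smul_right, hc.1.2, hc.2]; ring
  obtain ⟨B, hB2, hB0, hBu, hBv⟩ := hB (f (p x0) (p u) * σ (f (p x0) (p u))) (f (p x0) (p v) * σ (f (p x0) (p v)))
  obtain ⟨c, hc, hcc, hcB⟩ := exG H hW m2 hρ0 e2 hB2 hB0
  rw [mem_pp, mem_pp] at hc
  have hcu := hc.1.2
  have hcv := hc.2
  have e3 : f ρ c = f (p x0) c := by
    rw [hρ, H.sub_left, H.sub_left, H.smul_left, H.smul_left, H.symm_zero hcu, H.symm_zero hcv]; ring
  have e4 : f (p x0) c * σ (f (p x0) c) = B := by rw [← hcB, ← e3, ← H.herm]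
  obtain ⟨c1, hc1, c1u, c1c, c1x⟩ := exE H hnd h4.ge hu1 hcc (H.symm_zero hcu) (w := p x0) (by
    rw [e4]; intro h; apply hBv; linear_combination hg - h)
  obtain ⟨c2, hc2, c2v, c2c, c2x⟩ := exE H hnd h4.ge hv1 hcc (H.symm_zero hcv) (w := p x0) (by
    rw [e4]; intro h; apply hBu; linear_combination hg - h)
  obtain ⟨C1, t1, rfl⟩ := C.lift x0 c1 hc1 (H.symm_zero c1x)
  have t2 : R u C1 := cq4 C H hnd hB1 h4 hbig h1 h2 t1 c1u
  obtain ⟨Y, t3, rfl⟩ := C.lift u c hcc (H.symm_zero hcu)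
  have t4 : R C1 Y := C.tri t2 t3 c1c
  obtain ⟨C2, t5, rfl⟩ := C.lift x0 c2 hc2 (H.symm_zero c2x)
  have t6 : R Y C2 := cq4 C H hnd hB1 h4 hbig t1 t4 t5 c2c
  have t7 : R v Y := C.tri h3 t3 (H.symm_zero hcv)
  exact ⟨C2, t5, C.symm (C.tri (C.symm t7) t6 (H.symm_zero c2v))⟩

end main

end Cfsg.Agent.Lib.Phan
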