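import Cfsg.Agent.Lib.PhanA

/-! Coverings of the graph of unit vectors from amalgams (helper38). -/

set_option autoImplicit false
set_option linter.unusedSectionVars false
set_option linter.unusedSimpArgs false

namespace Cfsg.Agent.Lib.Phan

open Module Cfsg.Agent.Lib.UnTrans
open Cfsg.Agent.Lib.SpTrans (isom mem_isom)

variable {F V : Type*} [Field F] [AddCommGroup V] [Module F V] {σ : F →+* F} {f : V → V → F}

/-- a group `L` acting on a unitary space with subgroups `A` (fixing `e`), `C`, `K ≤ C` behaving like the block subgroups -/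
structure Dat (f : V → V → F) {L : Type*} [Group L] (π : L →* (V ≃ₗ[F] V)) (A C K : Subgroup L) (e e' e'' : V) (t c0 cs : L) : Prop where
  iso : ∀ g, π g ∈ isom f
  n0 : f e e = 1
  n1 : f e' e' = 1
  n2 : f e'' e'' = 1
  o1 : f e e' = 0
  o2 : f e e'' = 0
  o3 : f e' e'' = 0
  fixA : ∀ h ∈ A, π h e = e
  KC : K ≤ C
  fixK : ∀ k ∈ K, π k e'' = e''
  tK : t ∈ K
  te : π t e = e'
  c0C : c0 ∈ C
  c0e : π c0 e = e
  c0e' : π c0 e' = e''
  csC : cs ∈ C
  cse : π cs e = e
  cse' : π cs e' = π t⁻¹ e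
  T1 : ∀ v, f v v = 1 → f e v = 0 → ∃ h ∈ A, π h e' = v
  T2 : ∀ v, f v v = 1 → f e v = 0 → f e' v = 0 → ∃ h ∈ A, π h e' = e' ∧ π h e'' = v
  TK : ∀ a b : F, f (a • e + b • e') (a • e + b • e') = 1 → ∃ k ∈ K, π k e = a • e + b • e'
  CA : ∀ c ∈ C, π c e = e → c ∈ A
  comm : ∀ h ∈ A, π h e' = e' → ∀ k ∈ K, h * k = k * h

section cover
variable {L : Type*} [Group L] {π : L →* (V ≃ₗ[F] V)} {A C K : Subgroup L} {e e' e'' : V} {t c0 cs : L}
variable (D : Dat f π A C K e e' e'' t c0 cs) (H : HS σ f)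
variable {X : Type*} [MulAction L X] {o : X} (hst : ∀ g : L, g • o = o ↔ g ∈ A) (htr : ∀ x : X, ∃ g : L, g • o = x)
variable {p : X → V} (hp : ∀ g : L, p (g • o) = π g e)

/-- adjacency -/
def RR (o : X) (t : L) (x y : X) : Prop := ∃ g : L, g • o = x ∧ (g * t) • o = y

theorem RR_smul {x y : X} (h : RR o t x y) (s : L) : RR o t (s • x) (s • y) := by
  obtain ⟨g, rfl, rfl⟩ := h
  exact ⟨s * g, mul_smul _ _ _, by rw [mul_assoc, mul_smul]⟩

include htr hp in
theorem p_smul (s : L) (x : X) : p (s • x) = π s (p x) := by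
  obtain ⟨g, rfl⟩ := htr x
  rw [← mul_smul, hp, hp, map_mul]; rfl

theorem pinv (g : L) (v : V) : π g⁻¹ (π g v) = v := by
  rw [← LinearEquiv.mul_apply, ← map_mul, inv_mul_cancel, map_one]; rfl

theorem pinv' (g : L) (v : V) : π g (π g⁻¹ v) = v := by
  rw [← LinearEquiv.mul_apply, ← map_mul, mul_inv_cancel, map_one]; rfl

include D

theorem fixKi {k : L} (hk : k ∈ K) : π k e'' = e'' := D.fixK k hk

include hst

theorem smul_o {g g' : L} (hg : g ∈ C) (hg' : g' ∈ C) (h : π g e = π g' e) : g • o = g' • o := by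
  have h1 : (g'⁻¹ * g) • o = o := by
    rw [hst]
    apply D.CA _ (mul_mem (inv_mem hg') hg)
    rw [map_mul, LinearEquiv.mul_apply, h, pinv]
  rw [mul_smul, inv_smul_eq_iff] at h1
  exact h1

theorem RR_symm {x y : X} (h : RR o t x y) : RR o t y x := by
  obtain ⟨g, rfl, rfl⟩ := h
  -- t⁻¹ o = cs t o
  have h1 : t⁻¹ • o = (cs * t) • o := by
    apply smul_o D hst (inv_mem (D.KC D.tK)) (mul_mem D.csC (D.KC D.tK))
    rw [map_mul, LinearEquiv.mul_apply, D.te, D.cse']
  have h2 : cs • o = o := by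
    rw [hst]; exact D.CA _ D.csC D.cse
  refine ⟨g * t * cs, by rw [mul_smul, h2], ?_⟩
  rw [mul_assoc, mul_smul, ← h1, ← mul_smul, mul_assoc, mul_inv_cancel, mul_one]

/-- neighbours of the base point over the same vector coincide -/
theorem uniq_o {h h' : L} (hh : h ∈ A) (hh' : h' ∈ A) (h1 : π h e' = π h' e') : (h * t) • o = (h' * t) • o := by
  have h2 : h'⁻¹ * h ∈ A := mul_mem (inv_mem hh') hh
  have h3 : π (h'⁻¹ * h) e' = e' := by rw [map_mul, LinearEquiv.mul_apply, h1, pinv]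
  have h4 := D.comm _ h2 h3 t D.tK
  have h5 : (h'⁻¹ * h * t) • o = t • o := by rw [h4, mul_smul, (hst _).2 h2]
  rw [mul_assoc, mul_smul, inv_smul_eq_iff, ← mul_smul] at h5
  exact h5

theorem RR_o {y : X} (h : RR o t o y) : ∃ h ∈ A, (h * t) • o = y := by
  obtain ⟨g, h1, h2⟩ := h
  exact ⟨g, (hst g).1 h1, h2⟩

theorem o_RR {h : L} (hh : h ∈ A) : RR o t o ((h * t) • o) := ⟨h, (hst h).2 hh, rfl⟩

include htr hp

theorem uniq' {x y z : X} (h1 : RR o t x y) (h2 : RR o t x z) (h3 : p y = p z) : y = z := by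
  obtain ⟨g, rfl⟩ := htr x
  have k1 := RR_smul h1 g⁻¹
  have k2 := RR_smul h2 g⁻¹
  rw [inv_smul_smul] at k1 k2
  obtain ⟨h, hh, e1⟩ := RR_o D hst k1
  obtain ⟨h', hh', e2⟩ := RR_o D hst k2
  have h4 : p (g⁻¹ • y) = p (g⁻¹ • z) := by rw [p_smul htr hp, p_smul htr hp, h3]
  rw [← e1, ← e2, hp, hp, map_mul, map_mul, LinearEquiv.mul_apply, LinearEquiv.mul_apply, D.te] at h4
  have h5 := uniq_o D hst hh hh' h4
  rw [e1, e2] at h5
  exact (MulAction.injective g⁻¹) h5

theorem c0t : RR o t o ((c0 * t) • o) ∧ p ((c0 * t) • o) = e'' :=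
  ⟨o_RR D hst (D.CA _ D.c0C D.c0e), by rw [hp, map_mul, LinearEquiv.mul_apply, D.te, D.c0e']⟩

theorem fix_c0t {k : L} (hk : k ∈ K) : k • (c0 * t) • o = (c0 * t) • o := by
  rw [← mul_smul]
  have h1 := mul_mem D.c0C (D.KC D.tK)
  refine smul_o D hst (mul_mem (D.KC hk) h1) h1 ?_
  rw [map_mul, map_mul, LinearEquiv.mul_apply, LinearEquiv.mul_apply, D.te, D.c0e', D.fixK k hk]

theorem tri' {x y z : X} (h1 : RR o t x y) (h2 : RR o t x z) (h3 : f (p y) (p z) = 0) : RR o t y z := by
  obtain ⟨g, h4, h5⟩ := h1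
  have k2 := RR_smul h2 g⁻¹
  rw [← h4, inv_smul_smul] at k2
  obtain ⟨h, hh, e2⟩ := RR_o D hst k2
  -- y = g t o, z = g h t o
  have hz : z = g • (h * t) • o := by rw [e2, smul_inv_smul]
  have hy : y = g • t • o := by rw [← h5, mul_smul]
  have h6 : f e' (π h e') = 0 := by
    have q1 : p y = π g e' := by rw [hy, p_smul htr hp g, hp, D.te]
    have q2 : p z = π g (π h e') := by rw [hz, p_smul htr hp g, hp, map_mul, LinearEquiv.mul_apply, D.te]
    rw [q1, q2, D.iso g] at h3
    exact h3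
  have h7 : f e (π h e') = 0 := by
    rw [← D.fixA h hh, D.iso h]; exact D.o1
  have h8 : f (π h e') (π h e') = 1 := by rw [D.iso h]; exact D.n1
  obtain ⟨s, hs, s1, s2⟩ := D.T2 _ h8 h7 h6
  -- z' = h t o = s c0 t o
  have hc0A := D.CA _ D.c0C D.c0e
  have h9 : (h * t) • o = (s * c0 * t) • o := by
    apply uniq_o D hst hh (mul_mem hs hc0A)
    rw [map_mul, LinearEquiv.mul_apply, D.c0e', s2]
  have h10 : t • o = s • t • o := by
    rw [← mul_smul, D.comm s hs s1 t D.tK, mul_smul, (hst s).2 hs]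
  rw [hy, hz, h9, h10, mul_assoc, mul_smul]
  apply RR_smul
  apply RR_smul
  -- RR (t o) (c0 t o)
  have h11 : RR o t o (t⁻¹ • (c0 * t) • o) := by
    rw [fix_c0t D hst htr hp (inv_mem D.tK)]
    exact (c0t D hst htr hp).1
  have := RR_smul h11 t
  rwa [smul_inv_smul] at this

include H

/-- the quadrangle with first vertex the base point -/
theorem quad_o {y z w : X} {a b : F} (h1 : RR o t o y) (h2 : RR o t o z) (h3 : RR o t y w) (h4 : f (p w) (p z) = 0)
    (h6 : p y = e'') (hb : b ≠ 0) (hw : p w = a • e + b • e') (hw1 : f (p w) (p w) = 1) : RR o t z w := by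
  obtain ⟨k, hk, hke⟩ := D.TK a b (by rw [← hw]; exact hw1)
  have q1 := c0t D hst htr hp
  have hy : y = (c0 * t) • o := uniq' D hst htr hp h1 q1.1 (by rw [h6, q1.2])
  -- w = k o
  have q2 : RR o t (k • o) y := by
    have := RR_smul q1.1 k
    rw [fix_c0t D hst htr hp hk, ← hy] at this
    exact this
  have hwk : w = k • o := uniq' D hst htr hp h3 (RR_symm D hst q2) (by rw [hp, hke, hw])
  -- z
  obtain ⟨h', hh', e1⟩ := RR_o D hst h2
  have q3 : p z = π h' e' := by rw [← e1, hp, map_mul, LinearEquiv.mul_apply, D.te]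
  have q4 : f e (p z) = 0 := by rw [q3, ← D.fixA h' hh', D.iso h']; exact D.o1
  have q5 : f e' (p z) = 0 := by
    rw [hw, H.add_left, H.smul_left, H.smul_left, q4, mul_zero, zero_add] at h4
    exact (mul_eq_zero.1 h4).resolve_left hb
  have q6 : f (p z) (p z) = 1 := by rw [q3, D.iso h']; exact D.n1
  obtain ⟨s, hs, s1, s2⟩ := D.T2 _ q6 q4 q5
  have q7 : RR o t o (s • y) := by
    have := RR_smul h1 s
    rwa [(hst s).2 hs] at this
  have q8 : z = s • y := uniq' D hst htr hp h2 q7 (by rw [p_smul htr hp, h6, s2])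
  have q9 := RR_smul q2 s
  rw [← mul_smul, D.comm s hs s1 k hk, mul_smul, (hst s).2 hs, ← q8, ← hwk] at q9
  exact RR_symm D hst q9

theorem quad' {x y z w : X} (h1 : RR o t x y) (h2 : RR o t x z) (h3 : RR o t y w) (h4 : f (p w) (p z) = 0)
    (h5 : f (p x) (p w) * f (p w) (p x) ≠ 1) (nw : f (p w) (p w) = 1) (ny : f (p y) (p y) = 1) (hyw : f (p y) (p w) = 0)
    (hxy : f (p x) (p y) = 0) : RR o t z w := by
  obtain ⟨g, rfl⟩ := htr x
  rw [hp] at h5 hxy
  -- the vector v in coordinates from g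
  set v := π g⁻¹ (p w) with hv
  have hgv : π g v = p w := pinv' g _
  have nv : f v v = 1 := by rw [← D.iso g, hgv]; exact nw
  have hev : f e v * f v e ≠ 1 := by rw [← hgv, D.iso, D.iso] at h5; exact h5
  have hv' : f (v - f v e • e) (v - f v e • e) ≠ 0 := by
    rw [proj_nrm H D.n0, nv, ← H.herm]
    intro h; apply hev; linear_combination -h
  obtain ⟨κ, hκ, hu⟩ := nrm_scale H hv'
  set u := κ • (v - f v e • e) with hudef
  have hue : f u e = 0 := by rw [hudef, H.smul_left, H.sub_left, H.smul_left, D.n0, mul_one, sub_self, mul_zero]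
  obtain ⟨h₁, hh₁, e1⟩ := D.T1 u hu (H.symm_zero hue)
  set a := π g⁻¹ (p y) with ha
  have hga : π g a = p y := pinv' g _
  have na : f a a = 1 := by rw [← D.iso g, hga]; exact ny
  have hea : f e a = 0 := by rw [← hga, D.iso] at hxy; exact hxy
  have hav : f a v = 0 := by rw [← hga, ← hgv, D.iso] at hyw; exact hyw
  have hau : f a u = 0 := by
    rw [hudef, H.smul_right, H.sub_right, H.smul_right, hav, H.symm_zero hea]; ring
  set a1 := π h₁⁻¹ a with ha1
  have hha : π h₁ a1 = a := pinv' h₁ _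
  have na1 : f a1 a1 = 1 := by rw [← D.iso h₁, hha]; exact na
  have hea1 : f e a1 = 0 := by rw [← D.iso h₁, hha, D.fixA h₁ hh₁]; exact hea
  have hea2 : f e' a1 = 0 := by rw [← D.iso h₁, hha, e1]; exact H.symm_zero hau
  obtain ⟨h₂, hh₂, e2, e3⟩ := D.T2 a1 na1 hea1 hea2
  -- G = g h1 h2
  have hA : h₁ * h₂ ∈ A := mul_mem hh₁ hh₂
  set G := g * (h₁ * h₂) with hG
  have hGo : G • o = g • o := by rw [hG, mul_smul, (hst _).2 hA]
  have hGe : π G e = π g e := by rw [hG, map_mul, LinearEquiv.mul_apply, D.fixA _ hA]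
  have hGe' : π G e' = π g u := by
    rw [hG, map_mul, LinearEquiv.mul_apply, map_mul, LinearEquiv.mul_apply, e2, e1]
  have hGe'' : π G e'' = p y := by
    rw [hG, map_mul, LinearEquiv.mul_apply, map_mul, LinearEquiv.mul_apply, e3, hha, hga]
  have k1 := RR_smul h1 G⁻¹
  have k2 := RR_smul h2 G⁻¹
  have k3 := RR_smul h3 G⁻¹
  rw [← hGo, inv_smul_smul] at k1 k2
  have hvu : v = f v e • e + κ⁻¹ • u := by
    rw [hudef, smul_smul, inv_mul_cancel₀ hκ, one_smul]; abel
  have hpw : p (G⁻¹ • w) = f v e • e + κ⁻¹ • e' := by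
    have e5 : π G (f v e • e + κ⁻¹ • e') = p w := by
      rw [map_add, LinearEquiv.map_smul, LinearEquiv.map_smul, hGe, hGe', ← LinearEquiv.map_smul, ← LinearEquiv.map_smul, ← map_add, ← hvu, hgv]
    rw [p_smul htr hp, ← e5, pinv]
  have hfin := quad_o D H hst htr hp k1 k2 k3 (by rw [p_smul htr hp, p_smul htr hp, D.iso]; exact h4)
    (by rw [p_smul htr hp, ← hGe'', pinv]) (inv_ne_zero hκ) hpw (by rw [p_smul htr hp, D.iso]; exact nw)
  have := RR_smul hfin G
  rwa [smul_inv_smul, smul_inv_smul] at this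

/-- the covering attached to the data -/
theorem cov : Cov f p (RR o t) where
  nrm x := by
    obtain ⟨g, rfl⟩ := htr x
    rw [hp, D.iso]; exact D.n0
  symm h := RR_symm D hst h
  orth := by
    rintro x y ⟨g, rfl, rfl⟩
    rw [hp, hp, map_mul, LinearEquiv.mul_apply, D.te, D.iso]; exact D.o1
  lift := by
    intro x v hv hxv
    obtain ⟨g, rfl⟩ := htr x
    rw [hp] at hxv
    obtain ⟨h, hh, e1⟩ := D.T1 (π g⁻¹ v) (by rw [D.iso]; exact hv) (by rw [← D.iso g, pinv']; exact hxv)
    refine ⟨g • (h * t) • o, RR_smul (o_RR D hst hh) g, ?_⟩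
    rw [p_smul htr hp, hp, map_mul, LinearEquiv.mul_apply, D.te, e1, pinv']
  uniq h1 h2 h3 := uniq' D hst htr hp h1 h2 h3
  tri h1 h2 h3 := tri' D hst htr hp h1 h2 h3
  quad := by
    intro x y z w h1 h2 h3 h4 h5
    have hn : ∀ x, f (p x) (p x) = 1 := by
      intro x
      obtain ⟨g, rfl⟩ := htr x
      rw [hp, D.iso]; exact D.n0
    have ho : ∀ x y, RR o t x y → f (p x) (p y) = 0 := by
      rintro x y ⟨g, rfl, rfl⟩
      rw [hp, hp, map_mul, LinearEquiv.mul_apply, D.te, D.iso]; exact D.o1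
    exact quad' D H hst htr hp h1 h2 h3 h4 h5 (hn _) (hn _) (ho _ _ h3) (ho _ _ h1)

end cover

section fin
variable {L : Type*} [Group L] {π : L →* (V ≃ₗ[F] V)} {A C K : Subgroup L} {e e' e'' : V} {t c0 cs : L}

theorem conn (D : Dat f π A C K e e' e'' t c0 cs) {X : Type*} [MulAction L X] {o : X} (hst : ∀ g : L, g • o = o ↔ g ∈ A)
    (htr : ∀ x : X, ∃ g : L, g • o = x) {p : X → V} (hp : ∀ g : L, p (g • o) = π g e) (hgen : A ⊔ K = ⊤) (g : L) :
    Relation.ReflTransGen (RR o t) o (g • o) := by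
  have hsmul : ∀ (s : L) {x y : X}, Relation.ReflTransGen (RR o t) x y → Relation.ReflTransGen (RR o t) (s • x) (s • y) := by
    intro s x y h
    induction h with
    | refl => exact Relation.ReflTransGen.refl
    | tail _ h2 ih => exact ih.tail (RR_smul h2 s)
  have hsym : ∀ {x y : X}, Relation.ReflTransGen (RR o t) x y → Relation.ReflTransGen (RR o t) y x := by
    intro x y h
    induction h with
    | refl => exact Relation.ReflTransGen.refl
    | tail _ h2 ih => exact Relation.ReflTransGen.head (RR_symm D hst h2) ih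
  let M : Subgroup L :=
    { carrier := {g | Relation.ReflTransGen (RR o t) o (g • o)}
      mul_mem' := by
        intro a b ha hb
        show Relation.ReflTransGen (RR o t) o ((a * b) • o)
        rw [mul_smul]
        exact Relation.ReflTransGen.trans ha (hsmul a hb)
      one_mem' := by
        show Relation.ReflTransGen (RR o t) o ((1 : L) • o)
        rw [one_smul]
      inv_mem' := by
        intro a ha
        have h1 := hsmul a⁻¹ ha
        rw [inv_smul_smul] at h1
        exact hsym h1 }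
  have hM : (⊤ : Subgroup L) ≤ M := by
    rw [← hgen, sup_le_iff]
    constructor
    · intro h hh
      show Relation.ReflTransGen (RR o t) o (h • o)
      rw [(hst h).2 hh]
    · intro k hk
      show Relation.ReflTransGen (RR o t) o (k • o)
      have q1 := (c0t D hst htr hp).1
      have q2 := RR_smul q1 k
      rw [fix_c0t D hst htr hp hk] at q2
      exact (Relation.ReflTransGen.single q1).tail (RR_symm D hst q2)
  exact hM (Subgroup.mem_top g)

/-- if all coverings are trivial, the stabilizer of `e` is `A` -/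
theorem mem_of_fix (D : Dat f π A C K e e' e'' t c0 cs) (H : HS σ f) (hgen : A ⊔ K = ⊤)
    (hinj : ∀ (p : L ⧸ A → V) (R : L ⧸ A → L ⧸ A → Prop), Cov f p R → ∀ x0 z w, Relation.ReflTransGen R x0 z →
      Relation.ReflTransGen R x0 w → p z = p w → z = w) {g : L} (hg : π g e = e) : g ∈ A := by
  let o : L ⧸ A := ((1 : L) : L ⧸ A)
  have hgo : ∀ g : L, g • o = (g : L ⧸ A) := by
    intro g
    show ((g * 1 : L) : L ⧸ A) = _
    rw [mul_one]
  have hst : ∀ g : L, g • o = o ↔ g ∈ A := by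
    intro g
    rw [hgo, QuotientGroup.eq, mul_one, inv_mem_iff]
  have htr : ∀ x : L ⧸ A, ∃ g : L, g • o = x := by
    intro x
    obtain ⟨g, rfl⟩ := QuotientGroup.mk_surjective x
    exact ⟨g, hgo g⟩
  let p : L ⧸ A → V := Quotient.lift (fun g : L => π g e) (by
    intro a b hab
    have h1 : a⁻¹ * b ∈ A := QuotientGroup.leftRel_apply.1 hab
    have h2 := D.fixA _ h1
    show π a e = π b e
    rw [map_mul, LinearEquiv.mul_apply] at h2
    rw [← h2, pinv', h2])
  have hp : ∀ g : L, p (g • o) = π g e := by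
    intro g
    rw [hgo]; rfl
  have h1 := hinj p (RR o t) (cov D H hst htr hp) o (g • o) o (conn D hst htr hp hgen g) Relation.ReflTransGen.refl (by
    rw [hp, hg]
    have := hp 1
    rw [one_smul, map_one] at this
    exact this.symm)
  exact (hst g).1 h1

end fin

end Cfsg.Agent.Lib.Phan
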