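import Cfsg.Agent.Lib.PhanB
import Cfsg.Agent.Lib.ClUnSimple
import Cfsg.Agent.Lib.UnBridge

/-! Block embeddings of special unitary groups (helper38). -/

set_option autoImplicit false
set_option linter.unusedSectionVars false
set_option linter.unusedSimpArgs false

namespace Cfsg.Agent.Lib.Phan

open Module Matrix Cfsg Cfsg.Agent.Lib.UnTrans Cfsg.Agent.Lib.UnBridge Cfsg.Agent.Lib.ClUnSimple
open Cfsg.Agent.Lib.SpTrans (isom mem_isom)

variable {F : Type*} [Field F] {k l n m : ℕ}

/-- the matrix of an injection -/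
def emb (F : Type*) [Field F] (j : Fin k ↪ Fin n) : Matrix (Fin n) (Fin k) F := Matrix.of fun a b => if a = j b then 1 else 0

theorem emb_apply (j : Fin k ↪ Fin n) (a : Fin n) (b : Fin k) : emb F j a b = if a = j b then 1 else 0 := rfl

theorem emb_tr_mul (j : Fin k ↪ Fin n) : (emb F j)ᵀ * emb F j = 1 := by
  ext a b
  rw [Matrix.mul_apply, Matrix.one_apply, Finset.sum_eq_single (j a)]
  · rw [Matrix.transpose_apply, emb_apply, emb_apply, if_pos rfl, one_mul]
    by_cases h : a = b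
    · rw [if_pos (by rw [h]), if_pos h]
    · rw [if_neg (fun h' => h (j.injective h')), if_neg h]
  · intro c _ hc
    rw [Matrix.transpose_apply, emb_apply, if_neg hc, zero_mul]
  · intro h; exact absurd (Finset.mem_univ _) h

theorem emb_comp (j : Fin k ↪ Fin n) (i : Fin l ↪ Fin k) : emb F j * emb F i = emb F (i.trans j) := by
  ext a b
  rw [Matrix.mul_apply, Finset.sum_eq_single (i b)]
  · rw [emb_apply, emb_apply, emb_apply, if_pos (rfl : i b = i b), mul_one]; rfl
  · intro c _ hc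
    rw [emb_apply (j := i), if_neg hc, mul_zero]
  · intro h; exact absurd (Finset.mem_univ _) h

/-- extension by zero -/
def ext (j : Fin k ↪ Fin n) (u : Fin k → F) : Fin n → F := emb F j *ᵥ u

theorem ext_in (j : Fin k ↪ Fin n) (u : Fin k → F) (b : Fin k) : ext j u (j b) = u b := by
  rw [ext, Matrix.mulVec, dotProduct, Finset.sum_eq_single b]
  · rw [emb_apply, if_pos rfl, one_mul]
  · intro c _ hc
    rw [emb_apply, if_neg (fun h => hc (j.injective h).symm), zero_mul]
  · intro h; exact absurd (Finset.mem_univ _) h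

theorem ext_out (j : Fin k ↪ Fin n) (u : Fin k → F) {a : Fin n} (ha : a ∉ Set.range j) : ext j u a = 0 := by
  rw [ext, Matrix.mulVec, dotProduct, Finset.sum_eq_zero]
  intro c _
  rw [emb_apply, if_neg (fun h => ha ⟨c, h.symm⟩), zero_mul]

theorem ext_single (j : Fin k ↪ Fin n) (b : Fin k) (c : F) : ext j (Pi.single b c) = Pi.single (j b) c := by
  funext a
  by_cases ha : a ∈ Set.range j
  · obtain ⟨b', rfl⟩ := ha
    rw [ext_in, Pi.single_apply, Pi.single_apply]
    by_cases h : b' = b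
    · rw [if_pos h, if_pos (by rw [h])]
    · rw [if_neg h, if_neg (fun h' => h (j.injective h'))]
  · rw [ext_out _ _ ha, Pi.single_eq_of_ne (fun h => ha ⟨b, h.symm⟩)]

theorem ext_res (j : Fin k ↪ Fin n) {v : Fin n → F} (hv : ∀ a, a ∉ Set.range j → v a = 0) : ext j (v ∘ j) = v := by
  funext a
  by_cases ha : a ∈ Set.range j
  · obtain ⟨b', rfl⟩ := ha
    rw [ext_in]; rfl
  · rw [ext_out _ _ ha, hv a ha]

theorem tr_mulVec (j : Fin k ↪ Fin n) (v : Fin n → F) : (emb F j)ᵀ *ᵥ v = v ∘ j := by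
  funext b
  rw [Matrix.mulVec, dotProduct, Finset.sum_eq_single (j b)]
  · rw [Matrix.transpose_apply, emb_apply, if_pos rfl, one_mul]; rfl
  · intro c _ hc
    rw [Matrix.transpose_apply, emb_apply, if_neg hc, zero_mul]
  · intro h; exact absurd (Finset.mem_univ _) h

/-- block matrix -/
def blkM (j : Fin k ↪ Fin n) (A : Matrix (Fin k) (Fin k) F) : Matrix (Fin n) (Fin n) F := 1 + emb F j * (A - 1) * (emb F j)ᵀ

theorem blkM_one (j : Fin k ↪ Fin n) : blkM j (1 : Matrix (Fin k) (Fin k) F) = 1 := by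
  rw [blkM, sub_self, Matrix.mul_zero, Matrix.zero_mul, add_zero]

theorem blkM_mul (j : Fin k ↪ Fin n) (A B : Matrix (Fin k) (Fin k) F) : blkM j (A * B) = blkM j A * blkM j B := by
  have h1 : emb F j * (A - 1) * (emb F j)ᵀ * (emb F j * (B - 1) * (emb F j)ᵀ) = emb F j * ((A - 1) * (B - 1)) * (emb F j)ᵀ := by
    have h2 : emb F j * (A - 1) * (emb F j)ᵀ * (emb F j * (B - 1) * (emb F j)ᵀ) =
        emb F j * (A - 1) * ((emb F j)ᵀ * emb F j) * (B - 1) * (emb F j)ᵀ := by
      simp only [Matrix.mul_assoc]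
    rw [h2, emb_tr_mul, Matrix.mul_one, Matrix.mul_assoc (emb F j)]
  rw [blkM, blkM, blkM, add_mul, mul_add, mul_add, one_mul, one_mul, mul_one, h1]
  have h3 : A * B - 1 = (A - 1) * (B - 1) + (A - 1) + (B - 1) := by noncomm_ring
  rw [h3, Matrix.mul_add, Matrix.mul_add, Matrix.add_mul, Matrix.add_mul]
  abel

theorem blkM_det (j : Fin k ↪ Fin n) (A : Matrix (Fin k) (Fin k) F) : (blkM j A).det = A.det := by
  rw [blkM, Matrix.mul_assoc, Matrix.det_one_add_mul_comm, Matrix.mul_assoc, emb_tr_mul, Matrix.mul_one, add_sub_cancel]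

theorem blkM_comp (j : Fin k ↪ Fin n) (i : Fin l ↪ Fin k) (A : Matrix (Fin l) (Fin l) F) : blkM j (blkM i A) = blkM (i.trans j) A := by
  rw [blkM, blkM, blkM, add_sub_cancel_left, ← emb_comp, Matrix.transpose_mul]
  simp only [Matrix.mul_assoc]

theorem blkM_mulVec (j : Fin k ↪ Fin n) (A : Matrix (Fin k) (Fin k) F) (v : Fin n → F) :
    blkM j A *ᵥ v = v + ext j ((A - 1) *ᵥ (v ∘ j)) := by
  rw [blkM, Matrix.add_mulVec, Matrix.one_mulVec, ← Matrix.mulVec_mulVec, ← Matrix.mulVec_mulVec, tr_mulVec]; rfl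

theorem blkM_in (j : Fin k ↪ Fin n) (A : Matrix (Fin k) (Fin k) F) (v : Fin n → F) :
    (blkM j A *ᵥ v) ∘ j = A *ᵥ (v ∘ j) := by
  rw [blkM_mulVec]
  funext b
  show v (j b) + ext j _ (j b) = _
  rw [ext_in, Matrix.sub_mulVec, Matrix.one_mulVec]
  show v (j b) + ((A *ᵥ (v ∘ j)) b - (v ∘ j) b) = _
  simp

theorem blkM_out (j : Fin k ↪ Fin n) (A : Matrix (Fin k) (Fin k) F) (v : Fin n → F) {a : Fin n} (ha : a ∉ Set.range j) :
    (blkM j A *ᵥ v) a = v a := by
  rw [blkM_mulVec]
  show v a + ext j _ a = _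
  rw [ext_out _ _ ha, add_zero]

theorem blkM_ext (j : Fin k ↪ Fin n) (A : Matrix (Fin k) (Fin k) F) (u : Fin k → F) : blkM j A *ᵥ ext j u = ext j (A *ᵥ u) := by
  funext a
  by_cases ha : a ∈ Set.range j
  · obtain ⟨b, rfl⟩ := ha
    have := congrFun (blkM_in j A (ext j u)) b
    rw [ext_in]
    show ((blkM j A *ᵥ ext j u) ∘ j) b = _
    have h1 : ext j u ∘ j = u := funext fun c => ext_in j u c
    rw [this, h1]
  · rw [blkM_out _ _ _ ha, ext_out _ _ ha, ext_out _ _ ha]

theorem blkM_fix (j : Fin k ↪ Fin n) (A : Matrix (Fin k) (Fin k) F) {v : Fin n → F} (hv : ∀ b, v (j b) = 0) : blkM j A *ᵥ v = v := by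
  rw [blkM_mulVec]
  have : v ∘ j = 0 := funext hv
  rw [this, Matrix.mulVec_zero, ext, Matrix.mulVec_zero, add_zero]

theorem blkM_inj (j : Fin k ↪ Fin n) {A B : Matrix (Fin k) (Fin k) F} (h : blkM j A = blkM j B) : A = B := by
  have h1 : ∀ u, A *ᵥ u = B *ᵥ u := by
    intro u
    have h2 := blkM_ext j A u
    rw [h, blkM_ext] at h2
    funext b
    have := congrFun h2 (j b)
    rw [ext_in, ext_in] at this
    exact this.symm
  exact Matrix.ext_of_mulVec_single fun i => h1 _

variable {q : ℕ}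

theorem herm_split (j : Fin k ↪ Fin n) (u v : Fin n → F) : hermForm n F q u v = hermForm k F q (u ∘ j) (v ∘ j) +
    ∑ a ∈ (Finset.univ.filter fun a => a ∉ Set.range j), u a * v a ^ q := by
  classical
  rw [hermForm, ← Finset.sum_filter_add_sum_filter_not Finset.univ (fun a => a ∈ Set.range j)]
  congr 1
  rw [hermForm]
  symm
  apply Finset.sum_bij (fun b _ => j b)
  · intro b _
    rw [Finset.mem_filter]; exact ⟨Finset.mem_univ _, ⟨b, rfl⟩⟩
  · intro b _ b' _ h; exact j.injective h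
  · intro a ha
    rw [Finset.mem_filter] at ha
    obtain ⟨b, hb⟩ := ha.2
    exact ⟨b, Finset.mem_univ _, hb⟩
  · intro b _; rfl

theorem herm_blk (j : Fin k ↪ Fin n) {A : Matrix (Fin k) (Fin k) F} (hA : ∀ u v, hermForm k F q (A *ᵥ u) (A *ᵥ v) = hermForm k F q u v)
    (u v : Fin n → F) : hermForm n F q (blkM j A *ᵥ u) (blkM j A *ᵥ v) = hermForm n F q u v := by
  classical
  rw [herm_split j, blkM_in, blkM_in, hA, herm_split j u v]
  congr 1
  apply Finset.sum_congr rfl
  intro a ha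
  rw [Finset.mem_filter] at ha
  rw [blkM_out _ _ _ ha.2, blkM_out _ _ _ ha.2]

theorem herm_ext (j : Fin k ↪ Fin n) (u v : Fin k → F) : hermForm n F q (ext j u) (ext j v) = hermForm k F q u v := by
  classical
  rw [herm_split j]
  have h1 : ∀ w : Fin k → F, ext j w ∘ j = w := fun w => funext fun b => ext_in j w b
  rw [h1, h1, Finset.sum_eq_zero, add_zero]
  intro a ha
  rw [Finset.mem_filter] at ha
  rw [ext_out _ _ ha.2, zero_mul]

theorem SU_pres (A : SU n F q) (u v : Fin n → F) : hermForm n F q (A.1.1 *ᵥ u) (A.1.1 *ᵥ v) = hermForm n F q u v := A.2 u v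

/-- the block embedding -/
def blk (j : Fin k ↪ Fin n) : SU k F q →* SU n F q where
  toFun A := ⟨⟨blkM j A.1.1, by rw [blkM_det]; exact A.1.2⟩, fun u v => herm_blk j (SU_pres A) u v⟩
  map_one' := by apply Subtype.ext; apply Subtype.ext; exact blkM_one j
  map_mul' A B := by apply Subtype.ext; apply Subtype.ext; exact blkM_mul j _ _

theorem blk_coe (j : Fin k ↪ Fin n) (A : SU k F q) : (blk j A).1.1 = blkM j A.1.1 := rfl

theorem blk_comp (j : Fin k ↪ Fin n) (i : Fin l ↪ Fin k) (A : SU l F q) : blk j (blk i A) = blk (i.trans j) A := by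
  apply Subtype.ext; apply Subtype.ext; exact blkM_comp j i _

theorem blk_inj (j : Fin k ↪ Fin n) : Function.Injective (blk j : SU k F q →* SU n F q) := by
  intro A B h
  apply Subtype.ext; apply Subtype.ext
  exact blkM_inj j (congrArg (fun x : SU n F q => x.1.1) h)

/-- blocks with disjoint supports commute -/
theorem blk_comm (j : Fin k ↪ Fin n) (i : Fin l ↪ Fin n) (h : ∀ a b, j a ≠ i b) (A : SU k F q) (B : SU l F q) :
    blk j A * blk i B = blk i B * blk j A := by
  have h0 : (emb F j)ᵀ * emb F i = 0 := by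
    ext a b
    rw [Matrix.mul_apply, Finset.sum_eq_zero, Matrix.zero_apply]
    intro c _
    rw [Matrix.transpose_apply, emb_apply, emb_apply]
    by_cases hc : c = j a
    · rw [if_neg (fun h' => h a b (hc.symm.trans h')), mul_zero]
    · rw [if_neg hc, zero_mul]
  have h0' : (emb F i)ᵀ * emb F j = 0 := by
    have := congrArg Matrix.transpose h0
    rwa [Matrix.transpose_mul, Matrix.transpose_transpose, Matrix.transpose_zero] at this
  apply Subtype.ext; apply Subtype.ext
  show blkM j A.1.1 * blkM i B.1.1 = blkM i B.1.1 * blkM j A.1.1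
  have h1 : emb F j * (A.1.1 - 1) * (emb F j)ᵀ * (emb F i * (B.1.1 - 1) * (emb F i)ᵀ) = 0 := by
    have h2 : emb F j * (A.1.1 - 1) * (emb F j)ᵀ * (emb F i * (B.1.1 - 1) * (emb F i)ᵀ) =
        emb F j * (A.1.1 - 1) * ((emb F j)ᵀ * emb F i) * (B.1.1 - 1) * (emb F i)ᵀ := by
      simp only [Matrix.mul_assoc]
    rw [h2, h0]; simp
  have h1' : emb F i * (B.1.1 - 1) * (emb F i)ᵀ * (emb F j * (A.1.1 - 1) * (emb F j)ᵀ) = 0 := by
    have h2 : emb F i * (B.1.1 - 1) * (emb F i)ᵀ * (emb F j * (A.1.1 - 1) * (emb F j)ᵀ) =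
        emb F i * (B.1.1 - 1) * ((emb F i)ᵀ * emb F j) * (A.1.1 - 1) * (emb F j)ᵀ := by
      simp only [Matrix.mul_assoc]
    rw [h2, h0']; simp
  rw [blkM, blkM, add_mul, add_mul, mul_add, mul_add, mul_add, mul_add, h1, h1']
  simp only [one_mul, mul_one, add_zero]
  abel

theorem SU_ext {A B : SU n F q} (h : ∀ v, A.1.1 *ᵥ v = B.1.1 *ᵥ v) : A = B := by
  apply Subtype.ext; apply Subtype.ext
  exact Matrix.ext_of_mulVec_single fun i => h _

section finite
variable [Fintype F] (hF : Fintype.card F = q ^ 2)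
include hF

theorem q0 : q ≠ 0 := by have := one_lt_q hF; omega

theorem herm_single (a : Fin n) (v : Fin n → F) : hermForm n F q v (Pi.single a 1) = v a := by
  rw [hermForm, Finset.sum_eq_single a]
  · rw [Pi.single_eq_same, one_pow, mul_one]
  · intro b _ hb
    rw [Pi.single_eq_of_ne hb, zero_pow (q0 hF), mul_zero]
  · intro h; exact absurd (Finset.mem_univ _) h

/-- elements fixing the basis vectors outside the block are in the block -/
theorem mem_blk (j : Fin k ↪ Fin n) (A : SU n F q) (h : ∀ a, a ∉ Set.range j → A.1.1 *ᵥ Pi.single a 1 = Pi.single a 1) :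
    ∃ B : SU k F q, blk j B = A := by
  have h1 : ∀ (v : Fin n → F) (a : Fin n), a ∉ Set.range j → (A.1.1 *ᵥ v) a = v a := by
    intro v a ha
    rw [← herm_single hF a (A.1.1 *ᵥ v), ← h a ha, SU_pres, herm_single hF]
  have hfix : ∀ v : Fin n → F, (∀ b, v (j b) = 0) → A.1.1 *ᵥ v = v := by
    intro v hv
    have h2 : v = ∑ a, v a • (Pi.single a 1 : Fin n → F) := by
      funext c
      rw [Finset.sum_apply, Finset.sum_eq_single c]
      · simp
      · intro b _ hb; rw [Pi.smul_apply, Pi.single_eq_of_ne (Ne.symm hb), smul_zero]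
      · intro h; exact absurd (Finset.mem_univ _) h
    have h3 : A.1.1 *ᵥ v = Matrix.mulVecLin A.1.1 v := rfl
    rw [h3]
    conv_lhs => rw [h2]
    conv_rhs => rw [h2]
    rw [map_sum]
    apply Finset.sum_congr rfl
    intro a _
    rw [map_smul]
    by_cases ha : a ∈ Set.range j
    · obtain ⟨b, rfl⟩ := ha
      rw [hv b, zero_smul, zero_smul]
    · rw [Matrix.mulVecLin_apply, h a ha]
  -- the restricted matrix
  let B : Matrix (Fin k) (Fin k) F := (emb F j)ᵀ * A.1.1 * emb F j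
  have hB : ∀ u, B *ᵥ u = (A.1.1 *ᵥ ext j u) ∘ j := by
    intro u
    show ((emb F j)ᵀ * A.1.1 * emb F j) *ᵥ u = _
    rw [← Matrix.mulVec_mulVec, ← Matrix.mulVec_mulVec, tr_mulVec]; rfl
  have hext : ∀ u, ext j (B *ᵥ u) = A.1.1 *ᵥ ext j u := by
    intro u
    rw [hB]
    apply ext_res
    intro a ha
    rw [h1 _ a ha, ext_out _ _ ha]
  have hblk : blkM j B = A.1.1 := by
    apply Matrix.ext_of_mulVec_single
    intro a
    by_cases ha : a ∈ Set.range j
    · obtain ⟨b, rfl⟩ := ha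
      rw [← ext_single, blkM_ext, hext]
    · rw [h a ha, blkM_fix]
      intro b
      exact Pi.single_eq_of_ne (fun h' => ha ⟨b, h'⟩) _
  refine ⟨⟨⟨B, ?_⟩, ?_⟩, ?_⟩
  · rw [← blkM_det j, hblk]; exact A.1.2
  · intro u v
    show hermForm k F q (B *ᵥ u) (B *ᵥ v) = _
    rw [← herm_ext j, hext, hext, SU_pres, herm_ext]
  · apply Subtype.ext; apply Subtype.ext; exact hblk

end finite

end Cfsg.Agent.Lib.Phan
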