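import Cfsg.Agent.Lib.PhanC
import Cfsg.Agent.Lib.ClEmbedU

/-! Transitivity and generation of special unitary groups by blocks (helper38). -/

set_option autoImplicit false
set_option linter.unusedSectionVars false
set_option linter.unusedSimpArgs false

namespace Cfsg.Agent.Lib.Phan

open Module Matrix Cfsg Cfsg.Agent.Lib.UnTrans Cfsg.Agent.Lib.UnBridge Cfsg.Agent.Lib.ClUnSimple
open Cfsg.Agent.Lib.SpTrans (isom mem_isom)

section trans
variable {F V : Type*} [Field F] [AddCommGroup V] [Module F V] [FiniteDimensional F V] {σ : F →+* F} {f : V → V → F}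
variable (H : HS σ f)
include H

omit [FiniteDimensional F V] in
theorem exists_zeta : ∃ ζ : F, ζ * σ ζ = 1 ∧ ζ ≠ 1 := by
  obtain ⟨a, ha⟩ := H.ne
  have ha0 : a ≠ 0 := by rintro rfl; exact ha (map_zero σ)
  have hs := H.sigma_ne ha0
  refine ⟨a / σ a, ?_, ?_⟩
  · rw [map_div₀, H.inv]; field_simp
  · intro h
    rw [div_eq_one_iff_eq hs] at h
    exact ha h.symm

theorem move_base {x y : V} (hx : f x x = 1) (hy : f y y = 1) (h : f x (y - x) ≠ 0) :
    ∃ g ∈ isom f, LinearMap.det (g : V →ₗ[F] V) * σ (LinearMap.det (g : V →ₗ[F] V)) = 1 ∧ g x = y := by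
  obtain ⟨a, ha, h1, -⟩ := exists_el H (hx.trans hy.symm) h
  refine ⟨el H (y - x) a ha, el_mem H _ a ha, ?_, h1⟩
  rw [el_det, map_add, map_one, map_mul, H.self_fixed]
  linear_combination (f (y - x) (y - x)) * ha

theorem move_one {x y : V} (hx : f x x = 1) (hy : f y y = 1) :
    ∃ g ∈ isom f, LinearMap.det (g : V →ₗ[F] V) * σ (LinearMap.det (g : V →ₗ[F] V)) = 1 ∧ g x = y := by
  by_cases h : f x (y - x) = 0
  · obtain ⟨ζ, hζ, hζ1⟩ := exists_zeta H
    have hxy : f x y = 1 := by rw [H.sub_right, hx, sub_eq_zero] at h; exact h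
    have hz : f (ζ • x) (ζ • x) = 1 := by rw [H.smul_left, H.smul_right, hx, mul_one, hζ]
    obtain ⟨g, hg, hg1, hg2⟩ := move_base H hx hz (by
      rw [H.sub_right, H.smul_right, hx, mul_one]
      intro h1
      apply hζ1
      rw [sub_eq_zero] at h1
      rw [h1, mul_one] at hζ
      exact hζ)
    obtain ⟨g', hg', hg1', hg2'⟩ := move_base H hz hy (by
      rw [H.sub_right, H.smul_left, hxy, hz, mul_one]
      exact sub_ne_zero.2 hζ1)
    refine ⟨g' * g, mul_mem hg' hg, ?_, ?_⟩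
    · have h3 : LinearMap.det ((g' * g : V ≃ₗ[F] V) : V →ₗ[F] V) = LinearMap.det (g' : V →ₗ[F] V) * LinearMap.det (g : V →ₗ[F] V) := by
        rw [← map_mul]; rfl
      rw [h3, map_mul]
      linear_combination (LinearMap.det (g : V →ₗ[F] V) * σ (LinearMap.det (g : V →ₗ[F] V))) * hg1' + hg1
    · rw [LinearEquiv.mul_apply, hg2, hg2']
  · exact move_base H hx hy h

theorem move_det (hnd : Nd f (⊤ : Submodule F V)) (h2 : 2 ≤ finrank F V) {x y : V} (hx : f x x = 1) (hy : f y y = 1) :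
    ∃ g ∈ isom f, LinearMap.det (g : V →ₗ[F] V) = 1 ∧ g x = y := by
  obtain ⟨g, hg, hd, hgx⟩ := move_one H hx hy
  have r1 := pp_rank H (⊤ : Submodule F V) y
  rw [finrank_top] at r1
  obtain ⟨c, hc, hcc⟩ := ex0 H (pp_nd H hnd (x := y) trivial (by rw [hy]; exact one_ne_zero)) (by omega)
  rw [mem_pp] at hc
  set d := LinearMap.det (g : V →ₗ[F] V) with hdd
  have hd0 : d ≠ 0 := by intro h; rw [h, zero_mul] at hd; exact zero_ne_one hd
  have hcond : (d⁻¹ - 1) + σ (d⁻¹ - 1) + (d⁻¹ - 1) * σ (d⁻¹ - 1) * f c c = 0 := by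
    rw [hcc, map_sub, map_one, map_inv₀]
    have : d⁻¹ * (σ d)⁻¹ = 1 := by rw [← mul_inv, hd, inv_one]
    linear_combination this
  refine ⟨el H c (d⁻¹ - 1) hcond * g, mul_mem (el_mem H _ _ _) hg, ?_, ?_⟩
  · have h3 : LinearMap.det ((el H c (d⁻¹ - 1) hcond * g : V ≃ₗ[F] V) : V →ₗ[F] V) =
        LinearMap.det ((el H c (d⁻¹ - 1) hcond : V ≃ₗ[F] V) : V →ₗ[F] V) * LinearMap.det (g : V →ₗ[F] V) := by
      rw [← map_mul]; rfl
    rw [h3, el_det, hcc, mul_one, add_sub_cancel, ← hdd, inv_mul_cancel₀ hd0]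
  · rw [LinearEquiv.mul_apply, hgx, el_apply, H.symm_zero hc.2, mul_zero, zero_smul, add_zero]

/-- paths of length three between unit vectors -/
theorem chain3 (hnd : Nd f (⊤ : Submodule F V)) (h3 : 3 ≤ finrank F V) (hB : ∃ B : F, σ B = B ∧ B ≠ 0 ∧ B ≠ 1)
    {x y : V} (hx : f x x = 1) (hy : f y y = 1) :
    ∃ c1 c2, f c1 c1 = 1 ∧ f c2 c2 = 1 ∧ f x c1 = 0 ∧ f c1 c2 = 0 ∧ f c2 y = 0 := by
  have hx0 : f x x ≠ 0 := by rw [hx]; exact one_ne_zero
  have r1 := pp_rank H (⊤ : Submodule F V) x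
  rw [finrank_top] at r1
  have hW := pp_nd H hnd (x := x) trivial hx0
  have hy' := proj_mem H (W := ⊤) (x := x) (y := y) trivial hx trivial
  have h1 : ∃ c1 ∈ pp H ⊤ x, f c1 c1 = 1 ∧ f y c1 * f c1 y ≠ 1 := by
    by_cases h0 : f (y - f y x • x) (y - f y x • x) = 0
    · obtain ⟨c, hc, hcc⟩ := ex0 H hW (by omega)
      obtain ⟨c', hc', hcc', hρ⟩ := exC H hy' h0 hc hcc hB
      refine ⟨c', hc', hcc', ?_⟩
      rw [mem_pp] at hc'
      rw [H.sub_left, H.sub_right, H.smul_left, H.smul_right, hc'.2, H.symm_zero hc'.2, mul_zero, mul_zero, sub_zero, sub_zero] at hρ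
      exact hρ
    · obtain ⟨c, hc, hcc, hcy⟩ := exD H hW (by omega) hy' h0
      refine ⟨c, hc, hcc, ?_⟩
      rw [mem_pp] at hc
      rw [H.sub_right, H.smul_right, hc.2, mul_zero, sub_zero] at hcy
      rw [hcy, mul_zero]; exact zero_ne_one
  obtain ⟨c1, hc1, hcc1, hn⟩ := h1
  rw [mem_pp] at hc1
  have hc0 : f c1 c1 ≠ 0 := by rw [hcc1]; exact one_ne_zero
  have r2 := pp_rank H (⊤ : Submodule F V) c1
  rw [finrank_top] at r2
  have hy2 := proj_mem H (W := ⊤) (x := c1) (y := y) trivial hcc1 trivial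
  obtain ⟨c2, hc2, hcc2, hcy⟩ := exD H (pp_nd H hnd (x := c1) trivial hc0) (by omega) hy2 (by
    rw [proj_nrm H hcc1, hy, ← H.herm]
    intro h; apply hn; linear_combination -h)
  rw [mem_pp] at hc2
  rw [H.sub_right, H.smul_right, hc2.2, mul_zero, sub_zero] at hcy
  exact ⟨c1, c2, hcc1, hcc2, H.symm_zero hc1.2, H.symm_zero hc2.2, hcy⟩

end trans

variable {F : Type*} [Field F] {k l n m q : ℕ}

/-- the interval of length `k` starting at `i` -/
def sh (i : ℕ) (h : i + k ≤ n) : Fin k ↪ Fin n := ⟨fun b => ⟨i + b.1, by omega⟩, fun a b hab => by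
  have := congrArg Fin.val hab
  exact Fin.ext (by simpa using this)⟩

theorem sh_apply (i : ℕ) (h : i + k ≤ n) (b : Fin k) : sh i h b = ⟨i + b.1, by omega⟩ := rfl

theorem sh_trans (i i' : ℕ) (h : i + k ≤ n) (h' : i' + l ≤ k) : (sh i' h').trans (sh i h) = sh (i + i') (by omega) := by
  apply DFunLike.ext
  intro b
  show sh i h (sh i' h' b) = _
  rw [sh_apply, sh_apply, sh_apply]
  exact Fin.ext (by simp only []; omega)

theorem sh_congr {i i' : ℕ} (e : i = i') (h : i + k ≤ n) (h' : i' + k ≤ n) : (sh i h : Fin k ↪ Fin n) = sh i' h' := by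
  subst e; rfl

theorem blk_sh (i i' : ℕ) (h : i + k ≤ n) (h' : i' + l ≤ k) (A : SU l F q) : blk (sh i h) (blk (sh i' h') A) = blk (sh (i + i') (by omega)) A := by
  rw [blk_comp, sh_trans]

theorem not_range_sh {i : ℕ} {h : i + k ≤ n} {a : Fin n} (ha : a.1 < i ∨ i + k ≤ a.1) : a ∉ Set.range (sh i h) := by
  rintro ⟨b, rfl⟩
  rw [sh_apply] at ha
  simp only [] at ha
  omega

theorem range_sh {i : ℕ} {h : i + k ≤ n} {a : Fin n} (ha : a ∉ Set.range (sh i h)) : a.1 < i ∨ i + k ≤ a.1 := by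
  by_contra hcon
  push Not at hcon
  exact ha ⟨⟨a.1 - i, by omega⟩, Fin.ext (by rw [sh_apply]; simp only []; omega)⟩

section finite
variable [Fintype F] (hF : Fintype.card F = q ^ 2)
include hF

theorem SU_trans (hk : 2 ≤ k) {x y : Fin k → F} (hx : hermForm k F q x x = 1) (hy : hermForm k F q y y = 1) :
    ∃ A : SU k F q, A.1.1 *ᵥ x = y := by
  obtain ⟨g, hg, hd, hgx⟩ := move_det (herm_HS k hF) (herm_nd k hF) (by rw [Module.finrank_fin_fun]; exact hk) hx hy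
  refine ⟨(suIso k F q).symm ⟨g, hg, hd⟩, ?_⟩
  rw [← suIso_apply, MulEquiv.apply_symm_apply]
  exact hgx

theorem herm_ss (a b : Fin n) : hermForm n F q (Pi.single a 1) (Pi.single b 1) = if a = b then 1 else 0 := by
  rw [herm_single hF, Pi.single_apply]
  by_cases h : a = b
  · rw [if_pos h, if_pos h.symm]
  · rw [if_neg h, if_neg (Ne.symm h)]

theorem exists_B (h3 : 3 ≤ q) : ∃ B : F, sig hF B = B ∧ B ≠ 0 ∧ B ≠ 1 := by
  classical
  have h1 := ClEmbed.card_fixField hF (sig hF) (sig_apply hF)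
  by_contra hcon
  push Not at hcon
  have h2 : Nat.card (ClEmbed.fixField (sig hF)) ≤ 2 := by
    have : Function.Injective (fun x : ClEmbed.fixField (sig hF) => (decide (x.1 = 0) : Bool)) := by
      intro x y hxy
      simp only [decide_eq_decide] at hxy
      apply Subtype.ext
      by_cases hx : x.1 = 0
      · rw [hx, hxy.1 hx]
      · have hy : y.1 ≠ 0 := fun h => hx (hxy.2 h)
        rw [hcon x.1 x.2 hx, hcon y.1 y.2 hy]
    have h4 := Nat.card_le_card_of_injective _ this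
    rw [Nat.card_eq_fintype_card (α := Bool), Fintype.card_bool] at h4
    exact h4
  omega

theorem herm_blk' (A : SU n F q) (u v : Fin n → F) : hermForm n F q (A.1.1 *ᵥ u) (A.1.1 *ᵥ v) = hermForm n F q u v := A.2 u v

omit [Fintype F] hF in
theorem mul_mulVec' (A B : SU n F q) (u : Fin n → F) : (A * B).1.1 *ᵥ u = A.1.1 *ᵥ (B.1.1 *ᵥ u) := by
  show (A.1.1 * B.1.1) *ᵥ u = _
  rw [Matrix.mulVec_mulVec]

omit [Fintype F] hF in
theorem inv_mulVec' (A : SU n F q) (u : Fin n → F) : A⁻¹.1.1 *ᵥ (A.1.1 *ᵥ u) = u := by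
  rw [← mul_mulVec', inv_mul_cancel]
  exact Matrix.one_mulVec u

/-- a unit vector orthogonal to the last basis vector is the image of the previous one -/
theorem T1' (hm : 2 ≤ m) {v : Fin (m + 1) → F} (hv : hermForm (m + 1) F q v v = 1) (hl : v ⟨m, by omega⟩ = 0) :
    ∃ h : SU m F q, (blk (sh 0 (by omega)) h : SU (m + 1) F q).1.1 *ᵥ Pi.single ⟨m - 1, by omega⟩ 1 = v := by
  have h1 : ext (sh 0 (show 0 + m ≤ m + 1 by omega)) (v ∘ sh 0 (show 0 + m ≤ m + 1 by omega)) = v := by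
    apply ext_res
    intro a ha
    have h2 := range_sh ha
    have h3 : a = ⟨m, by omega⟩ := Fin.ext (by simp only []; omega)
    rw [h3, hl]
  obtain ⟨h, hh⟩ := SU_trans hF hm (x := Pi.single ⟨m - 1, by omega⟩ 1) (y := v ∘ sh 0 (show 0 + m ≤ m + 1 by omega))
    (by rw [herm_ss hF, if_pos rfl]) (by rw [← herm_ext (sh 0 (show 0 + m ≤ m + 1 by omega)), h1]; exact hv)
  refine ⟨h, ?_⟩
  have h4 : (Pi.single ⟨m - 1, by omega⟩ 1 : Fin (m + 1) → F) = ext (sh 0 (show 0 + m ≤ m + 1 by omega)) (Pi.single ⟨m - 1, by omega⟩ 1) := by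
    rw [ext_single]
    congr 1
    rw [sh_apply]
    exact Fin.ext (by simp only []; omega)
  rw [blk_coe, h4, blkM_ext, hh, h1]

theorem gen_step (hc : ∀ x y : Fin (m + 3) → F, hermForm (m + 3) F q x x = 1 → hermForm (m + 3) F q y y = 1 →
      ∃ c1 c2, hermForm (m + 3) F q c1 c1 = 1 ∧ hermForm (m + 3) F q c2 c2 = 1 ∧ hermForm (m + 3) F q x c1 = 0 ∧
        hermForm (m + 3) F q c1 c2 = 0 ∧ hermForm (m + 3) F q c2 y = 0) :
    (blk (sh 0 (show 0 + (m + 2) ≤ m + 3 by omega)) : SU (m + 2) F q →* SU (m + 3) F q).range ⊔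
      (blk (sh (m + 1) (show m + 1 + 2 ≤ m + 3 by omega)) : SU 2 F q →* SU (m + 3) F q).range = ⊤ := by
  set M := (blk (sh 0 (show 0 + (m + 2) ≤ m + 3 by omega)) : SU (m + 2) F q →* SU (m + 3) F q).range ⊔
      (blk (sh (m + 1) (show m + 1 + 2 ≤ m + 3 by omega)) : SU 2 F q →* SU (m + 3) F q).range with hM
  have H := herm_HS (m + 3) hF
  set e : Fin (m + 3) → F := Pi.single ⟨m + 2, by omega⟩ 1 with he
  set e' : Fin (m + 3) → F := Pi.single ⟨m + 1, by omega⟩ 1 with he'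
  have hee : hermForm (m + 3) F q e e = 1 := by rw [he, herm_ss hF, if_pos rfl]
  -- t : e ↦ e'
  obtain ⟨t', ht'⟩ := SU_trans hF (k := 2) le_rfl (x := Pi.single 1 1) (y := Pi.single 0 1) (by rw [herm_ss hF, if_pos rfl])
    (by rw [herm_ss hF, if_pos rfl])
  set t : SU (m + 3) F q := blk (sh (m + 1) (show m + 1 + 2 ≤ m + 3 by omega)) t' with ht
  have htM : t ∈ M := (le_sup_right : _ ≤ M) ⟨t', rfl⟩
  have hte : t.1.1 *ᵥ e = e' := by
    have h1 : e = ext (sh (m + 1) (show m + 1 + 2 ≤ m + 3 by omega)) (Pi.single 1 1) := by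
      rw [ext_single, he]; congr 1
    have h2 : e' = ext (sh (m + 1) (show m + 1 + 2 ≤ m + 3 by omega)) (Pi.single 0 1) := by
      rw [ext_single, he']; congr 1
    rw [ht, blk_coe, h1, blkM_ext, ht', ← h2]
  -- neighbours of e are reachable
  have nb : ∀ v, hermForm (m + 3) F q v v = 1 → hermForm (m + 3) F q e v = 0 → ∃ g ∈ M, g.1.1 *ᵥ e = v := by
    intro v hv hev
    have h1 : v ⟨m + 2, by omega⟩ = 0 := by
      rw [← herm_single (q := q) hF ⟨m + 2, by omega⟩ v]; exact H.symm_zero hev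
    obtain ⟨h, hh⟩ := T1' hF (m := m + 2) (by omega) hv h1
    refine ⟨blk (sh 0 (by omega)) h * t, mul_mem ((le_sup_left : _ ≤ M) ⟨h, rfl⟩) htM, ?_⟩
    rw [mul_mulVec', hte, he']
    exact hh
  have nb2 : ∀ u v, (∃ g ∈ M, g.1.1 *ᵥ e = u) → hermForm (m + 3) F q v v = 1 → hermForm (m + 3) F q u v = 0 → ∃ g ∈ M, g.1.1 *ᵥ e = v := by
    rintro u v ⟨g, hg, rfl⟩ hv huv
    have hgi : ∀ w, g.1.1 *ᵥ (g⁻¹.1.1 *ᵥ w) = w := by
      intro w
      have := inv_mulVec' g⁻¹ w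
      rwa [inv_inv] at this
    obtain ⟨g', hg', h2⟩ := nb (g⁻¹.1.1 *ᵥ v) (by rw [herm_blk' hF]; exact hv) (by
      rw [← herm_blk' hF g, hgi]; exact huv)
    exact ⟨g * g', mul_mem hg hg', by rw [mul_mulVec', h2, hgi]⟩
  have all : ∀ v, hermForm (m + 3) F q v v = 1 → ∃ g ∈ M, g.1.1 *ᵥ e = v := by
    intro v hv
    obtain ⟨c1, c2, h1, h2, h3, h4, h5⟩ := hc e v hee hv
    exact nb2 c2 v (nb2 c1 c2 (nb c1 h1 h3) h2 h4) hv h5
  rw [eq_top_iff]
  intro g _
  obtain ⟨g', hg', h1⟩ := all (g.1.1 *ᵥ e) (by rw [herm_blk' hF]; exact hee)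
  have h2 : (g'⁻¹ * g).1.1 *ᵥ e = e := by rw [mul_mulVec', ← h1, inv_mulVec']
  obtain ⟨B, hB⟩ := mem_blk hF (sh 0 (show 0 + (m + 2) ≤ m + 3 by omega)) (g'⁻¹ * g) (by
    intro a ha
    have h3 := range_sh ha
    have h4 : a = ⟨m + 2, by omega⟩ := Fin.ext (by simp only []; omega)
    rw [h4]; exact h2)
  have h5 : g = g' * blk (sh 0 (show 0 + (m + 2) ≤ m + 3 by omega)) B := by rw [hB]; group
  rw [h5]
  exact mul_mem hg' ((le_sup_left : _ ≤ M) ⟨B, rfl⟩)

theorem gen_step3 (h3 : 3 ≤ q) : (blk (sh 0 (show 0 + (m + 2) ≤ m + 3 by omega)) : SU (m + 2) F q →* SU (m + 3) F q).range ⊔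
      (blk (sh (m + 1) (show m + 1 + 2 ≤ m + 3 by omega)) : SU 2 F q →* SU (m + 3) F q).range = ⊤ :=
  gen_step hF fun x y hx hy => chain3 (herm_HS (m + 3) hF) (herm_nd (m + 3) hF) (by rw [Module.finrank_fin_fun]; omega) (exists_B hF h3) hx hy

end finite

end Cfsg.Agent.Lib.Phan
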