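import Cfsg.Agent.Lib.PhanD

/-! The inductive step: extension of homomorphisms from blocks (helper38). -/

set_option autoImplicit false
set_option linter.unusedSectionVars false
set_option linter.unusedSimpArgs false

namespace Cfsg.Agent.Lib.Phan

open Module Matrix Cfsg Cfsg.Agent.Lib.UnTrans Cfsg.Agent.Lib.UnBridge Cfsg.Agent.Lib.ClUnSimple
open Cfsg.Agent.Lib.SpTrans (isom mem_isom)

variable {F : Type*} [Field F] {q m : ℕ} {G : Type*} [Group G]

/-- the two graph homomorphisms -/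
def gr1 (fH : SU (m + 2) F q →* G) : SU (m + 2) F q →* SU (m + 3) F q × G := (blk (sh 0 (by omega))).prod fH

def gr2 (m : ℕ) (ψ : SU 3 F q →* G) : SU 3 F q →* SU (m + 3) F q × G := (blk (sh m (by omega))).prod ψ

/-- the action -/
noncomputable def act (F : Type*) [Field F] (q m : ℕ) (G : Type*) [Group G] (L : Subgroup (SU (m + 3) F q × G)) :
    L →* ((Fin (m + 3) → F) ≃ₗ[F] (Fin (m + 3) → F)) :=
  ((SUg (m + 3) F q).subtype.comp (suIso (m + 3) F q).toMonoidHom).comp ((MonoidHom.fst _ _).comp L.subtype)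

theorem act_apply (L : Subgroup (SU (m + 3) F q × G)) (g : L) (v : Fin (m + 3) → F) : act F q m G L g v = g.1.1.1.1 *ᵥ v := rfl

variable [Fintype F] (hF : Fintype.card F = q ^ 2)
include hF

theorem step_dat (hm : 1 ≤ m) (fH : SU (m + 2) F q →* G) (ψ : SU 3 F q →* G)
    (hcompat : ∀ s : SU 2 F q, fH (blk (sh m (by omega)) s) = ψ (blk (sh 0 (by omega)) s))
    (hcomm : ∀ (h : SU (m + 1) F q) (k : SU 2 F q), fH (blk (sh 0 (by omega)) h) * ψ (blk (sh 1 (by omega)) k) =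
      ψ (blk (sh 1 (by omega)) k) * fH (blk (sh 0 (by omega)) h)) :
    ∃ t c0 cs, Dat (hermForm (m + 3) F q) (act F q m G ((gr1 fH).range ⊔ (gr2 m ψ).range))
      ((gr1 fH).range.subgroupOf ((gr1 fH).range ⊔ (gr2 m ψ).range)) ((gr2 m ψ).range.subgroupOf ((gr1 fH).range ⊔ (gr2 m ψ).range))
      (((gr2 m ψ).comp (blk (sh 1 (show 1 + 2 ≤ 3 by omega)) : SU 2 F q →* SU 3 F q)).range.subgroupOf ((gr1 fH).range ⊔ (gr2 m ψ).range))
      (Pi.single ⟨m + 2, by omega⟩ 1) (Pi.single ⟨m + 1, by omega⟩ 1) (Pi.single ⟨m, by omega⟩ 1) t c0 cs := by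
  set L := (gr1 fH).range ⊔ (gr2 m ψ).range with hL
  have H := herm_HS (m + 3) hF
  have i1 : ∀ h, gr1 fH h ∈ L := fun h => (le_sup_left : _ ≤ L) ⟨h, rfl⟩
  have i2 : ∀ c, gr2 m ψ c ∈ L := fun c => (le_sup_right : _ ≤ L) ⟨c, rfl⟩
  -- vectors as extensions
  have x2 : (Pi.single ⟨m + 2, by omega⟩ 1 : Fin (m + 3) → F) = ext (sh m (show m + 3 ≤ m + 3 by omega)) (Pi.single 2 1) := by
    rw [ext_single]; congr 1
  have x1 : (Pi.single ⟨m + 1, by omega⟩ 1 : Fin (m + 3) → F) = ext (sh m (show m + 3 ≤ m + 3 by omega)) (Pi.single 1 1) := by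
    rw [ext_single]; congr 1
  have x0 : (Pi.single ⟨m, by omega⟩ 1 : Fin (m + 3) → F) = ext (sh m (show m + 3 ≤ m + 3 by omega)) (Pi.single 0 1) := by
    rw [ext_single]; congr 1
  -- action of gr2
  have a2 : ∀ (c : SU 3 F q) (u : Fin 3 → F), act F q m G L ⟨gr2 m ψ c, i2 c⟩ (ext (sh m (show m + 3 ≤ m + 3 by omega)) u) =
      ext (sh m (show m + 3 ≤ m + 3 by omega)) (c.1.1 *ᵥ u) := by
    intro c u
    rw [act_apply]
    exact blkM_ext _ _ _
  have y2 : (Pi.single 2 1 : Fin 3 → F) = ext (sh 1 (show 1 + 2 ≤ 3 by omega)) (Pi.single 1 1) := by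
    rw [ext_single]; congr 1
  have y1 : (Pi.single 1 1 : Fin 3 → F) = ext (sh 1 (show 1 + 2 ≤ 3 by omega)) (Pi.single 0 1) := by
    rw [ext_single]; congr 1
  have z1 : (Pi.single 1 1 : Fin 3 → F) = ext (sh 0 (show 0 + 2 ≤ 3 by omega)) (Pi.single 1 1) := by
    rw [ext_single]; congr 1
  have z0 : (Pi.single 0 1 : Fin 3 → F) = ext (sh 0 (show 0 + 2 ≤ 3 by omega)) (Pi.single 0 1) := by
    rw [ext_single]; congr 1
  have f0 : ∀ (s : SU 2 F q), (blk (sh 1 (show 1 + 2 ≤ 3 by omega)) s : SU 3 F q).1.1 *ᵥ Pi.single 0 1 = Pi.single 0 1 := by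
    intro s
    rw [blk_coe, blkM_fix]
    intro b
    rw [sh_apply]
    exact Pi.single_eq_of_ne (by rw [Ne, Fin.ext_iff]; show ¬ (1 + b.1 = 0); omega) _
  have f2 : ∀ (s : SU 2 F q), (blk (sh 0 (show 0 + 2 ≤ 3 by omega)) s : SU 3 F q).1.1 *ᵥ Pi.single 2 1 = Pi.single 2 1 := by
    intro s
    rw [blk_coe, blkM_fix]
    intro b
    rw [sh_apply]
    have hb := b.2
    exact Pi.single_eq_of_ne (by rw [Ne, Fin.ext_iff]; show ¬ (0 + b.1 = 2); omega) _
  have hss : ∀ a : Fin 2, hermForm 2 F q (Pi.single a 1) (Pi.single a 1) = 1 := fun a => by rw [herm_ss hF, if_pos rfl]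
  obtain ⟨w, hw⟩ := SU_trans hF (k := 2) le_rfl (hss 1) (hss 0)
  -- w⁻¹ e1 is a multiple of e0
  have hw1 : (w⁻¹ : SU 2 F q).1.1 *ᵥ Pi.single 0 1 = Pi.single 1 1 := by rw [← hw, inv_mulVec']
  obtain ⟨lam, hwe⟩ : ∃ lam : F, (w⁻¹ : SU 2 F q).1.1 *ᵥ Pi.single 1 1 = lam • Pi.single 0 1 := by
    refine ⟨((w⁻¹ : SU 2 F q).1.1 *ᵥ Pi.single 1 1) 0, ?_⟩
    have h4 := herm_blk' hF w⁻¹ (Pi.single 1 1) (Pi.single 0 1)
    rw [hw1, herm_ss hF, if_neg (by decide), herm_single hF] at h4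
    funext a
    fin_cases a
    · simp
    · simpa using h4
  have hlam : lam * sig hF lam = 1 := by
    have h3 := herm_blk' hF w⁻¹ (Pi.single 1 1) (Pi.single 1 1)
    rw [hwe, (herm_HS 2 hF).smul_left, (herm_HS 2 hF).smul_right, hss, hss, mul_one] at h3
    exact h3
  obtain ⟨cw, hcw⟩ := SU_trans hF (k := 2) le_rfl (x := Pi.single 1 1) (y := lam • Pi.single 1 1) (hss 1) (by
    rw [(herm_HS 2 hF).smul_left, (herm_HS 2 hF).smul_right, hss, mul_one]; exact hlam)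
  set t0 : SU 3 F q := blk (sh 1 (show 1 + 2 ≤ 3 by omega)) w with ht0
  set d0 : SU 3 F q := blk (sh 0 (show 0 + 2 ≤ 3 by omega)) w with hd0
  set ds : SU 3 F q := blk (sh 0 (show 0 + 2 ≤ 3 by omega)) cw with hds
  have t0e : t0.1.1 *ᵥ Pi.single 2 1 = Pi.single 1 1 := by rw [ht0, blk_coe, y2, blkM_ext, hw, ← y1]
  have d0e : d0.1.1 *ᵥ Pi.single 1 1 = Pi.single 0 1 := by rw [hd0, blk_coe, z1, blkM_ext, hw, ← z0]
  have t0i : (t0⁻¹ : SU 3 F q).1.1 *ᵥ Pi.single 2 1 = lam • Pi.single 1 1 := by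
    have h1 : (t0⁻¹ : SU 3 F q) = blk (sh 1 (show 1 + 2 ≤ 3 by omega)) w⁻¹ := by rw [ht0, map_inv]
    rw [h1, blk_coe, y2, blkM_ext, hwe, y1, ext, Matrix.mulVec_smul, ext]
  have dse : ds.1.1 *ᵥ Pi.single 1 1 = lam • Pi.single 1 1 := by
    rw [hds, blk_coe, z1, blkM_ext, hcw, ext, Matrix.mulVec_smul, ext]
  refine ⟨⟨gr2 m ψ t0, i2 _⟩, ⟨gr2 m ψ d0, i2 _⟩, ⟨gr2 m ψ ds, i2 _⟩, ?_⟩
  refine
    { iso := fun g u v => by rw [act_apply, act_apply]; exact SU_pres _ _ _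
      n0 := by rw [herm_ss hF, if_pos rfl]
      n1 := by rw [herm_ss hF, if_pos rfl]
      n2 := by rw [herm_ss hF, if_pos rfl]
      o1 := by rw [herm_ss hF, if_neg (by simp [Fin.ext_iff])]
      o2 := by rw [herm_ss hF, if_neg (by simp [Fin.ext_iff])]
      o3 := by rw [herm_ss hF, if_neg (by simp [Fin.ext_iff])]
      fixA := ?_
      KC := ?_
      fixK := ?_
      tK := ?_
      te := by rw [x2, a2, t0e, ← x1]
      c0C := Subgroup.mem_subgroupOf.2 ⟨d0, rfl⟩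
      c0e := by rw [x2, a2, hd0, f2]
      c0e' := by rw [x1, a2, d0e, ← x0]
      csC := Subgroup.mem_subgroupOf.2 ⟨ds, rfl⟩
      cse := by rw [x2, a2, hds, f2]
      cse' := ?_
      T1 := ?_
      T2 := ?_
      TK := ?_
      CA := ?_
      comm := ?_ }
  · -- fixA
    rintro h hh
    obtain ⟨h', hh'⟩ := Subgroup.mem_subgroupOf.1 hh
    rw [act_apply, ← hh']
    refine blkM_fix _ _ fun b => ?_
    rw [sh_apply]
    have hb := b.2
    exact Pi.single_eq_of_ne (by rw [Ne, Fin.ext_iff]; show ¬ (0 + b.1 = m + 2); omega) _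
  · -- KC
    rintro h hh
    obtain ⟨h', hh'⟩ := Subgroup.mem_subgroupOf.1 hh
    exact Subgroup.mem_subgroupOf.2 ⟨_, hh'⟩
  · -- fixK
    rintro h hh
    obtain ⟨h', hh'⟩ := Subgroup.mem_subgroupOf.1 hh
    rw [act_apply, ← hh', x0]
    show blkM _ _ *ᵥ _ = _
    rw [blkM_ext]
    congr 1
    exact f0 h'
  · exact Subgroup.mem_subgroupOf.2 ⟨w, rfl⟩
  · -- cse'
    rw [x1, a2, dse]
    have h1 : (⟨gr2 m ψ t0, i2 t0⟩ : L)⁻¹ = ⟨gr2 m ψ t0⁻¹, i2 _⟩ := by
      apply Subtype.ext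
      show (gr2 m ψ t0)⁻¹ = gr2 m ψ t0⁻¹
      rw [map_inv]
    rw [h1, x2, a2, t0i]
  · -- T1
    intro v hv hev
    obtain ⟨h, hh⟩ := T1' hF (m := m + 2) (by omega) hv (by
      rw [← herm_single (q := q) hF ⟨m + 2, by omega⟩ v]; exact H.symm_zero hev)
    exact ⟨⟨gr1 fH h, i1 h⟩, Subgroup.mem_subgroupOf.2 ⟨h, rfl⟩, hh⟩
  · -- T2
    intro v hv hev hev'
    have h1 : v ⟨m + 2, by omega⟩ = 0 := by rw [← herm_single (q := q) hF ⟨m + 2, by omega⟩ v]; exact H.symm_zero hev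
    have h2 : v ⟨m + 1, by omega⟩ = 0 := by rw [← herm_single (q := q) hF ⟨m + 1, by omega⟩ v]; exact H.symm_zero hev'
    have h3 : ext (sh 0 (show 0 + (m + 1) ≤ m + 3 by omega)) (v ∘ sh 0 (show 0 + (m + 1) ≤ m + 3 by omega)) = v := by
      apply ext_res
      intro a ha
      rcases range_sh ha with h4 | h4
      · omega
      · have h5 : a = ⟨m + 2, by omega⟩ ∨ a = ⟨m + 1, by omega⟩ := by
          rw [Fin.ext_iff, Fin.ext_iff]
          have := a.2
          simp only []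
          omega
        rcases h5 with h5 | h5
        · rw [h5]; exact h1
        · rw [h5]; exact h2
    obtain ⟨h, hh⟩ := SU_trans hF (k := m + 1) (by omega) (x := Pi.single ⟨m, by omega⟩ 1) (y := v ∘ sh 0 (show 0 + (m + 1) ≤ m + 3 by omega))
      (by rw [herm_ss hF, if_pos rfl]) (by rw [← herm_ext (sh 0 (show 0 + (m + 1) ≤ m + 3 by omega)), h3]; exact hv)
    have h6 : (blk (sh 0 (show 0 + (m + 2) ≤ m + 3 by omega)) (blk (sh 0 (show 0 + (m + 1) ≤ m + 2 by omega)) h) : SU (m + 3) F q) =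
        blk (sh 0 (show 0 + (m + 1) ≤ m + 3 by omega)) h := by rw [blk_sh]
    refine ⟨⟨gr1 fH (blk (sh 0 (by omega)) h), i1 _⟩, Subgroup.mem_subgroupOf.2 ⟨_, rfl⟩, ?_, ?_⟩
    · rw [act_apply]
      show (blk (sh 0 (show 0 + (m + 2) ≤ m + 3 by omega)) (blk (sh 0 (show 0 + (m + 1) ≤ m + 2 by omega)) h) : SU (m + 3) F q).1.1 *ᵥ _ = _
      rw [h6, blk_coe, blkM_fix]
      intro b
      rw [sh_apply]
      have hb := b.2
      exact Pi.single_eq_of_ne (by rw [Ne, Fin.ext_iff]; show ¬ (0 + b.1 = m + 1); omega) _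
    · rw [act_apply]
      show (blk (sh 0 (show 0 + (m + 2) ≤ m + 3 by omega)) (blk (sh 0 (show 0 + (m + 1) ≤ m + 2 by omega)) h) : SU (m + 3) F q).1.1 *ᵥ _ = _
      have h7 : (Pi.single ⟨m, by omega⟩ 1 : Fin (m + 3) → F) = ext (sh 0 (show 0 + (m + 1) ≤ m + 3 by omega)) (Pi.single ⟨m, by omega⟩ 1) := by
        rw [ext_single]
        congr 1
        rw [sh_apply]
        exact Fin.ext (by simp only []; omega)
      rw [h6, blk_coe, h7, blkM_ext, hh, h3]
  · -- TK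
    intro a b hab
    have h1 : (a • Pi.single ⟨m + 2, by omega⟩ 1 + b • Pi.single ⟨m + 1, by omega⟩ 1 : Fin (m + 3) → F) =
        ext (sh m (show m + 3 ≤ m + 3 by omega)) (ext (sh 1 (show 1 + 2 ≤ 3 by omega)) (a • Pi.single 1 1 + b • Pi.single 0 1)) := by
      rw [x2, x1, y2, y1]
      simp only [ext, Matrix.mulVec_add, Matrix.mulVec_smul]
    rw [h1, herm_ext, herm_ext] at hab
    obtain ⟨k, hk⟩ := SU_trans hF (k := 2) le_rfl (hss 1) hab
    refine ⟨⟨gr2 m ψ (blk (sh 1 (by omega)) k), i2 _⟩, Subgroup.mem_subgroupOf.2 ⟨k, rfl⟩, ?_⟩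
    rw [h1, x2, a2, blk_coe, y2, blkM_ext, hk]
  · -- CA
    intro c hc hce
    obtain ⟨c', hc'⟩ := Subgroup.mem_subgroupOf.1 hc
    have h1 : c'.1.1 *ᵥ Pi.single 2 1 = Pi.single 2 1 := by
      have h2 : act F q m G L c (ext (sh m (show m + 3 ≤ m + 3 by omega)) (Pi.single 2 1)) = ext (sh m (show m + 3 ≤ m + 3 by omega)) (c'.1.1 *ᵥ Pi.single 2 1) := by
        rw [act_apply, ← hc']
        exact blkM_ext _ _ _
      rw [x2] at hce
      rw [hce] at h2
      funext a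
      have := congrFun h2 (sh m (show m + 3 ≤ m + 3 by omega) a)
      rw [ext_in, ext_in] at this
      exact this.symm
    obtain ⟨s, hs⟩ := mem_blk hF (sh 0 (show 0 + 2 ≤ 3 by omega)) c' (by
      intro a ha
      have h3 := range_sh ha
      have h4 : a = 2 := Fin.ext (by have := a.2; show a.1 = 2; omega)
      rw [h4]; exact h1)
    refine Subgroup.mem_subgroupOf.2 ⟨blk (sh m (by omega)) s, ?_⟩
    rw [← hc', ← hs]
    refine Prod.ext ?_ ?_
    · show blk _ (blk _ s) = blk _ (blk _ s)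
      rw [blk_comp, blk_comp, sh_trans, sh_trans, sh_congr (k := 2) (n := m + 3) (show 0 + m = m + 0 by omega) (by omega) (by omega)]
    · exact hcompat s
  · -- comm
    intro h hh hhe k hk
    obtain ⟨h', hh'⟩ := Subgroup.mem_subgroupOf.1 hh
    obtain ⟨k', hk'⟩ := Subgroup.mem_subgroupOf.1 hk
    have h1 : h'.1.1 *ᵥ Pi.single ⟨m + 1, by omega⟩ 1 = Pi.single ⟨m + 1, by omega⟩ 1 := by
      have h7 : (Pi.single ⟨m + 1, by omega⟩ 1 : Fin (m + 3) → F) = ext (sh 0 (show 0 + (m + 2) ≤ m + 3 by omega)) (Pi.single ⟨m + 1, by omega⟩ 1) := by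
        rw [ext_single]
        congr 1
        rw [sh_apply]
        exact Fin.ext (by simp only []; omega)
      have h2 : act F q m G L h (ext (sh 0 (show 0 + (m + 2) ≤ m + 3 by omega)) (Pi.single ⟨m + 1, by omega⟩ 1)) =
          ext (sh 0 (show 0 + (m + 2) ≤ m + 3 by omega)) (h'.1.1 *ᵥ Pi.single ⟨m + 1, by omega⟩ 1) := by
        rw [act_apply, ← hh']
        exact blkM_ext _ _ _
      rw [h7] at hhe
      rw [hhe] at h2
      funext a
      have := congrFun h2 (sh 0 (show 0 + (m + 2) ≤ m + 3 by omega) a)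
      rw [ext_in, ext_in] at this
      exact this.symm
    obtain ⟨s, hs⟩ := mem_blk hF (sh 0 (show 0 + (m + 1) ≤ m + 2 by omega)) h' (by
      intro a ha
      have h3 := range_sh ha
      have h4 : a = ⟨m + 1, by omega⟩ := Fin.ext (by have := a.2; show a.1 = m + 1; omega)
      rw [h4]; exact h1)
    apply Subtype.ext
    show h.1 * k.1 = k.1 * h.1
    rw [← hh', ← hk', ← hs]
    refine Prod.ext ?_ ?_
    · show blk _ (blk _ s) * blk _ (blk _ k') = blk _ (blk _ k') * blk _ (blk _ s)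
      rw [blk_comp, blk_comp]
      apply blk_comm
      intro a b
      show sh (k := m + 2) (n := m + 3) 0 (by omega) (sh (k := m + 1) (n := m + 2) 0 (by omega) a) ≠
        sh (k := 3) (n := m + 3) m (by omega) (sh (k := 2) (n := 3) 1 (by omega) b)
      rw [sh_apply, sh_apply, sh_apply, sh_apply, Ne, Fin.ext_iff]
      have := a.2
      simp only []
      omega
    · exact hcomm s k'

/-- the fixed field has at least four elements -/
theorem exists_B2 (h4 : 4 ≤ q) (k1 k2 : F) : ∃ B : F, sig hF B = B ∧ B ≠ 0 ∧ B ≠ k1 ∧ B ≠ k2 := by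
  classical
  have h1 := ClEmbed.card_fixField hF (sig hF) (sig_apply hF)
  by_contra hcon
  push Not at hcon
  have h2 : Nat.card (ClEmbed.fixField (sig hF)) ≤ 3 := by
    have : Function.Injective (fun x : ClEmbed.fixField (sig hF) => (if x.1 = 0 then 0 else if x.1 = k1 then 1 else 2 : Fin 3)) := by
      intro x y hxy
      have hx := hcon x.1 x.2
      have hy := hcon y.1 y.2
      apply Subtype.ext
      simp only [] at hxy
      by_cases h1 : x.1 = 0 <;> by_cases h2 : y.1 = 0 <;> by_cases h3 : x.1 = k1 <;> by_cases h4 : y.1 = k1 <;>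
        simp_all
    have h4 := Nat.card_le_card_of_injective _ this
    rw [Nat.card_eq_fintype_card (α := Fin 3), Fintype.card_fin] at h4
    exact h4
  omega

/-- `q ≥ 5` : the generic case -/
theorem big5 (h5 : 5 ≤ q) : Big (sig hF) := by
  classical
  intro m hm hm0
  have H := herm_HS 1 hF
  obtain ⟨u, hu⟩ := H.exists_trace (-1) (by rw [map_neg, map_one])
  have h1 := ClEmbed.card_fixField hF (sig hF) (sig_apply hF)
  refine ⟨u, u, ?_⟩
  by_contra hcon
  push Not at hcon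
  set A := u * sig hF u with hA
  have key : ∀ τ : F, sig hF τ = τ → τ = 0 ∨ τ = -A ∨ τ = -(m * A) ∨ τ = -A - m * A := by
    intro τ hτ
    by_contra h
    push Not at h
    refine h.2.2.2 ?_
    have h3 := hcon τ hu hu hτ h.1 (fun h' => h.2.1 (by linear_combination h')) (fun h' => h.2.2.1 (by linear_combination h'))
    linear_combination h3
  have h2 : Nat.card (ClEmbed.fixField (sig hF)) ≤ 4 := by
    have hsub : (ClEmbed.fixField (sig hF) : Set F) ⊆ ({0, -A, -(m * A), -A - m * A} : Finset F) := by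
      intro τ hτ
      rcases key τ hτ with h | h | h | h <;> simp [h]
    have h3 := Set.ncard_le_ncard hsub (Finset.finite_toSet _)
    rw [Set.ncard_coe_finset] at h3
    exact h3.trans Finset.card_le_four
  omega

/-- `q = 4` -/
theorem big4 (h4 : q = 4) : Big (sig hF) := by
  classical
  subst h4
  intro m hm hm0
  have H := herm_HS 1 hF
  have hc : Fintype.card F = 16 := by rw [hF]; norm_num
  have h2 : (2 : F) = 0 := by
    have : ((16 : ℕ) : F) = 0 := by rw [← hc]; exact FiniteField.cast_card_eq_zero F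
    have h3 : (2 : F) ^ 4 = 0 := by rw [← this]; norm_num
    exact pow_eq_zero_iff (by norm_num) |>.1 h3
  have h16 : ∀ x : F, x ^ 16 = x := fun x => by rw [← hc]; exact FiniteField.pow_card x
  have hsig : ∀ x : F, sig hF x = x ^ 4 := sig_apply hF
  obtain ⟨u, hu⟩ := H.exists_trace (1 : F) (map_one _)
  have hone : (-1 : F) = 1 := by linear_combination -h2
  rw [hsig] at hu
  have hu0 : u ≠ 0 := by rintro rfl; simp at hu
  set ν := u * u ^ 4 with hν
  have hν4 : ν ^ 4 = ν := by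
    rw [hν]
    have := h16 u
    calc (u * u ^ 4) ^ 4 = u ^ 4 * u ^ 16 := by ring
      _ = u * u ^ 4 := by rw [this]; ring
  have hν0 : ν ≠ 0 := mul_ne_zero hu0 (pow_ne_zero _ hu0)
  have hν1 : ν ≠ 1 := by
    intro h
    -- u^2 + u + 1 = 0
    have e1 : u ^ 4 = 1 - u := by linear_combination hu
    have e2 : u * (1 - u) = 1 := by rw [← e1, ← hν]; exact h
    have e3 : u ^ 3 = -1 := by linear_combination (u ^ 2) * 0 - (u + 1) * e2
    have e4 : u ^ 4 = -u := by rw [pow_succ, e3]; ring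
    rw [e4] at e1
    exact one_ne_zero (α := F) (by linear_combination -e1)
  have hν3 : ν ^ 3 = 1 := by
    have : ν * (ν ^ 3 - 1) = 0 := by linear_combination hν4
    rcases mul_eq_zero.1 this with h | h
    · exact absurd h hν0
    · exact sub_eq_zero.1 h
  have hνq : ν ^ 2 + ν + 1 = 0 := by
    have : (ν - 1) * (ν ^ 2 + ν + 1) = 0 := by linear_combination hν3
    rcases mul_eq_zero.1 this with h | h
    · exact absurd (sub_eq_zero.1 h) hν1
    · exact h
  have hm4 : m ^ 4 = m := by rw [← hsig]; exact hm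
  have hm3 : m ^ 3 = 1 := by
    have : m * (m ^ 3 - 1) = 0 := by linear_combination hm4
    rcases mul_eq_zero.1 this with h | h
    · exact absurd h hm0
    · exact sub_eq_zero.1 h
  -- m ∈ {1, ν, ν²}
  have hm : m = 1 ∨ m = ν ∨ m = ν ^ 2 := by
    have : (m - 1) * ((m - ν) * (m - ν ^ 2)) = 0 := by
      linear_combination hm3 + (m - m ^ 2) * hνq - (1 - m) * hν3
    rcases mul_eq_zero.1 this with h | h
    · exact Or.inl (sub_eq_zero.1 h)
    · rcases mul_eq_zero.1 h with h | h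
      · exact Or.inr (Or.inl (sub_eq_zero.1 h))
      · exact Or.inr (Or.inr (sub_eq_zero.1 h))
  -- second element of trace one
  set u' := u + ν with hu'
  have e1 : u' ^ 4 = u ^ 4 + ν := by
    have h3 := hsig (u + ν)
    rw [map_add, hsig, hsig, hν4] at h3
    exact h3.symm
  have hu'1 : u' + u' ^ 4 = 1 := by rw [e1, hu']; linear_combination hu + ν * h2
  have hν' : u' * u' ^ 4 = ν + 1 := by
    rw [e1, hu']
    linear_combination ν * hu + hνq - h2 + hν * 0
  have fin : ∀ u1 u2 : F, u1 + u1 ^ 4 = 1 → u2 + u2 ^ 4 = 1 → u1 * u1 ^ 4 = m * (u2 * u2 ^ 4) →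
      u1 * u1 ^ 4 ≠ 1 → ∃ u1 u2 τ : F, u1 + sig hF u1 = -1 ∧ u2 + sig hF u2 = -1 ∧ sig hF τ = τ ∧
      τ ≠ 0 ∧ τ + u1 * sig hF u1 ≠ 0 ∧ τ + m * (u2 * sig hF u2) ≠ 0 ∧ τ + u1 * sig hF u1 + m * (u2 * sig hF u2) ≠ 0 := by
    intro u1 u2 h1 h3 h5 h6
    refine ⟨u1, u2, 1, by rw [hsig, h1, hone], by rw [hsig, h3, hone], map_one _, one_ne_zero, ?_, ?_, ?_⟩
    · rw [hsig]; intro h; apply h6; linear_combination h - h2
    · rw [hsig, ← h5]; intro h; apply h6; linear_combination h - h2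
    · rw [hsig, hsig, ← h5]; intro h
      exact one_ne_zero (α := F) (by linear_combination h - (u1 * u1 ^ 4) * h2)
  have hν2 : ν + 1 ≠ 1 := by intro h; apply hν0; linear_combination h
  rcases hm with h | h | h
  · exact fin u u hu hu (by rw [h, one_mul]) hν1
  · -- m = ν : A = ν², N' = ν
    exact fin u' u hu'1 hu (by rw [hν', h, ← hν]; linear_combination -hνq + (ν + 1) * h2) (by rw [hν']; exact hν2)
  · -- m = ν² : A = ν, N' = ν²
    exact fin u u' hu hu'1 (by rw [hν', h, ← hν]; linear_combination - hν3 - hνq + ν * h2) hν1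

theorem big (h4 : 4 ≤ q) : Big (sig hF) := by
  rcases Nat.eq_or_lt_of_le h4 with h | h
  · exact big4 hF h.symm
  · exact big5 hF h

/-- **extension theorem**: homomorphisms of `SU(m+2)` and `SU(3)` agreeing on the common block and satisfying the obvious
commutations extend to `SU(m+3)`. -/
theorem step (hm : 1 ≤ m) (h3 : 3 ≤ q) (hq : m = 1 → 4 ≤ q) (fH : SU (m + 2) F q →* G) (ψ : SU 3 F q →* G)
    (hcompat : ∀ s : SU 2 F q, fH (blk (sh m (by omega)) s) = ψ (blk (sh 0 (by omega)) s))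
    (hcomm : ∀ (h : SU (m + 1) F q) (k : SU 2 F q), fH (blk (sh 0 (by omega)) h) * ψ (blk (sh 1 (by omega)) k) =
      ψ (blk (sh 1 (by omega)) k) * fH (blk (sh 0 (by omega)) h)) :
    ∃ Φ : SU (m + 3) F q →* G, (∀ h, Φ (blk (sh 0 (by omega)) h) = fH h) ∧ (∀ c, Φ (blk (sh m (by omega)) c) = ψ c) := by
  obtain ⟨t, c0, cs, D⟩ := step_dat hF hm fH ψ hcompat hcomm
  set L := (gr1 fH).range ⊔ (gr2 m ψ).range with hL
  have H := herm_HS (m + 3) hF
  have hnd := herm_nd (m + 3) hF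
  have i1 : ∀ h, gr1 fH h ∈ L := fun h => (le_sup_left : _ ≤ L) ⟨h, rfl⟩
  have i2 : ∀ c, gr2 m ψ c ∈ L := fun c => (le_sup_right : _ ≤ L) ⟨c, rfl⟩
  -- C is generated by its blocks
  have g3 : (blk (sh 0 (show 0 + 2 ≤ 3 by omega)) : SU 2 F q →* SU 3 F q).range ⊔
      (blk (sh 1 (show 1 + 2 ≤ 3 by omega)) : SU 2 F q →* SU 3 F q).range = ⊤ := gen_step3 (m := 0) hF h3
  have hgen : (gr1 fH).range.subgroupOf L ⊔ ((gr2 m ψ).comp (blk (sh 1 (show 1 + 2 ≤ 3 by omega)) : SU 2 F q →* SU 3 F q)).range.subgroupOf L = ⊤ := by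
    have hK : ((gr2 m ψ).comp (blk (sh 1 (show 1 + 2 ≤ 3 by omega)) : SU 2 F q →* SU 3 F q)).range ≤ L := by
      rintro _ ⟨k, rfl⟩
      exact i2 _
    rw [← Subgroup.subgroupOf_sup le_sup_left hK, Subgroup.subgroupOf_eq_top]
    rw [sup_le_iff]
    refine ⟨le_sup_left, ?_⟩
    rintro _ ⟨c, rfl⟩
    have hc : c ∈ (blk (sh 0 (show 0 + 2 ≤ 3 by omega)) : SU 2 F q →* SU 3 F q).range ⊔
      (blk (sh 1 (show 1 + 2 ≤ 3 by omega)) : SU 2 F q →* SU 3 F q).range := by rw [g3]; trivial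
    have h5 : gr2 m ψ c ∈ ((blk (sh 0 (show 0 + 2 ≤ 3 by omega)) : SU 2 F q →* SU 3 F q).range ⊔
      (blk (sh 1 (show 1 + 2 ≤ 3 by omega)) : SU 2 F q →* SU 3 F q).range).map (gr2 m ψ) := ⟨c, hc, rfl⟩
    rw [Subgroup.map_sup] at h5
    have h6 : ((blk (sh 0 (show 0 + 2 ≤ 3 by omega)) : SU 2 F q →* SU 3 F q).range.map (gr2 m ψ)) ≤ (gr1 fH).range := by
      rintro _ ⟨_, ⟨s, rfl⟩, rfl⟩
      refine ⟨blk (sh m (by omega)) s, ?_⟩
      refine Prod.ext ?_ (hcompat s)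
      show blk _ (blk _ s) = blk _ (blk _ s)
      rw [blk_comp, blk_comp, sh_trans, sh_trans, sh_congr (k := 2) (n := m + 3) (show 0 + m = m + 0 by omega) (by omega) (by omega)]
    have h7 : ((blk (sh 1 (show 1 + 2 ≤ 3 by omega)) : SU 2 F q →* SU 3 F q).range.map (gr2 m ψ)) ≤
        ((gr2 m ψ).comp (blk (sh 1 (show 1 + 2 ≤ 3 by omega)) : SU 2 F q →* SU 3 F q)).range := by
      rintro _ ⟨_, ⟨s, rfl⟩, rfl⟩
      exact ⟨s, rfl⟩
    exact (sup_le_sup h6 h7) h5
  -- the stabilizer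
  have hstab : ∀ g : L, act F q m G L g (Pi.single ⟨m + 2, by omega⟩ 1) = Pi.single ⟨m + 2, by omega⟩ 1 → g ∈ (gr1 fH).range.subgroupOf L := by
    intro g hg
    refine mem_of_fix D H hgen ?_ hg
    intro p R C x0 z w hz hw hzw
    by_cases hm1 : m = 1
    · exact inj4 C H hnd (exists_B2 hF (hq hm1)) (big hF (hq hm1)) (by rw [Module.finrank_fin_fun]; omega) hz hw hzw
    · exact inj5 C H hnd (exists_B hF h3) (by rw [Module.finrank_fin_fun]; omega) hz hw hzw
  -- the projection is bijective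
  let pr : L →* SU (m + 3) F q := (MonoidHom.fst _ _).comp L.subtype
  have hinj : Function.Injective pr := by
    rw [injective_iff_map_eq_one]
    intro g hg
    have h1 : act F q m G L g (Pi.single ⟨m + 2, by omega⟩ 1) = Pi.single ⟨m + 2, by omega⟩ 1 := by
      rw [act_apply]
      have h2 : g.1.1 = 1 := hg
      rw [h2]; exact Matrix.one_mulVec _
    obtain ⟨h, hh⟩ := Subgroup.mem_subgroupOf.1 (hstab g h1)
    have h3 : blk (sh 0 (by omega)) h = (1 : SU (m + 3) F q) := by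
      have : (gr1 fH h).1 = g.1.1 := by rw [hh]
      exact this.trans hg
    have h4 : h = 1 := blk_inj _ (h3.trans (map_one _).symm)
    apply Subtype.ext
    show g.1 = 1
    rw [← show gr1 fH h = g.1 from hh, h4, map_one]
  have hsurj : Function.Surjective pr := by
    rw [← MonoidHom.range_eq_top, eq_top_iff, ← gen_step3 (m := m) hF h3, sup_le_iff]
    constructor
    · rintro _ ⟨h, rfl⟩
      exact ⟨⟨gr1 fH h, i1 h⟩, rfl⟩
    · rintro _ ⟨s, rfl⟩
      refine ⟨⟨gr2 m ψ (blk (sh 1 (by omega)) s), i2 _⟩, ?_⟩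
      show blk _ (blk _ s) = _
      rw [blk_sh]
  let E : L ≃* SU (m + 3) F q := MulEquiv.ofBijective pr ⟨hinj, hsurj⟩
  let Φ : SU (m + 3) F q →* G := ((MonoidHom.snd _ _).comp L.subtype).comp E.symm.toMonoidHom
  have hΦ : ∀ x : L, Φ x.1.1 = x.1.2 := by
    intro x
    show (E.symm (E x)).1.2 = x.1.2
    rw [MulEquiv.symm_apply_apply]
  exact ⟨Φ, fun h => hΦ ⟨gr1 fH h, i1 h⟩, fun c => hΦ ⟨gr2 m ψ c, i2 c⟩⟩

end Cfsg.Agent.Lib.Phan
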