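import Cfsg.Agent.Lib.PhanE
import Cfsg.Agent.Lib.PSLOut
import Cfsg.Agent.Lib.ClUnitary2
import Cfsg.Agent.Lib.ClSL2

/-! Automorphisms of `SL_2` and `SU_2` (helper38). -/

set_option autoImplicit false
set_option linter.unusedSectionVars false
set_option linter.unusedSimpArgs false

namespace Cfsg.Agent.Lib.Phan

open Module Matrix Cfsg Cfsg.Agent.Lib.UnTrans Cfsg.Agent.Lib.UnBridge Cfsg.Agent.Lib.ClUnSimple
open Cfsg.Agent.Lib.PSLAut (cg fdS fGL quotAut dg fd aut_psl_two cg_coe transvection_induction)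

theorem exists_lift {F : Type*} [Field F] [Finite F] (K : Subfield F) (τ0 : K ≃+* K) : ∃ τ : F ≃+* F, ∀ x : K, τ x = τ0 x := by
  obtain ⟨p, hp⟩ := CharP.exists F
  haveI : Fact p.Prime := ⟨CharP.char_is_prime F p⟩
  haveI : CharP K p := (RingHom.charP_iff K.subtype K.subtype.injective p).2 inferInstance
  letI := ZMod.algebra F p
  letI := ZMod.algebra K p
  haveI : @IsScalarTower (ZMod p) K F Algebra.toSMul Algebra.toSMul Algebra.toSMul := IsScalarTower.of_algebraMap_eq
    (fun x => RingHom.congr_fun (Subsingleton.elim (algebraMap (ZMod p) F) ((algebraMap K F).comp (algebraMap (ZMod p) K))) x)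
  let χ : K ≃ₐ[ZMod p] K := Cfsg.Agent.Lib.FFAut.toAlg p τ0
  haveI : Normal (ZMod p) F := inferInstance
  exact ⟨(χ.liftNormal F).toRingEquiv, fun x => χ.liftNormal_commutes F x⟩

section sl2
variable {K : Type*} [Field K] [Fintype K]

theorem aut_sl2 (α : MulAut (SpecialLinearGroup (Fin 2) K)) : ∃ (g : GL (Fin 2) K) (τ : K ≃+* K), ∀ x, α x = cg g (fdS τ x) := by
  obtain ⟨p, hp⟩ := CharP.exists K
  haveI : Fact p.Prime := ⟨CharP.char_is_prime K p⟩
  obtain ⟨g, τ, h⟩ := aut_psl_two (quotAut _ α)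
  refine ⟨g, τ, ?_⟩
  set β : MulAut (SpecialLinearGroup (Fin 2) K) := cg g * fdS τ with hβ
  have h1 : ∀ x, (α x) * (β x)⁻¹ ∈ Subgroup.center (SpecialLinearGroup (Fin 2) K) := by
    intro x
    have h2 := congrArg (fun γ : MulAut (ProjectiveSpecialLinearGroup (Fin 2) K) => γ (QuotientGroup.mk x)) h
    have h3 : (QuotientGroup.mk (α x) : SpecialLinearGroup (Fin 2) K ⧸ Subgroup.center (SpecialLinearGroup (Fin 2) K)) = QuotientGroup.mk (β x) := h2
    rw [QuotientGroup.eq] at h3
    have h4 := (Subgroup.center _).inv_mem h3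
    rw [_root_.mul_inv_rev, inv_inv] at h4
    have h5 := (inferInstance : (Subgroup.center (SpecialLinearGroup (Fin 2) K)).Normal).conj_mem _ h4 (β x)
    have h6 : β x * ((β x)⁻¹ * α x) * (β x)⁻¹ = α x * (β x)⁻¹ := by group
    rwa [h6] at h5
  have key : ∀ x, α x = β x := by
    intro x
    refine transvection_induction (le_refl 2) (fun x => α x = β x) ?_ ?_ x
    · intro i j hij a
      set t := SpecialLinearGroup.transvection hij a with ht
      have htp : t ^ p = 1 := by
        have : ∀ k : ℕ, t ^ k = SpecialLinearGroup.transvection hij (k * a) := by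
          intro k
          induction k with
          | zero => simp
          | succ k ih =>
            rw [pow_succ, ih, ht]
            apply Subtype.ext
            show Matrix.transvection i j _ * Matrix.transvection i j _ = Matrix.transvection i j _
            rw [Matrix.transvection_mul_transvection_same (h := hij)]
            congr 1
            push_cast; ring
        rw [this, CharP.cast_eq_zero, zero_mul]
        simp
      set z := α t * (β t)⁻¹ with hz
      have hzc := h1 t
      rw [← hz] at hzc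
      have e1 : α t = z * β t := by rw [hz]; group
      have e2 : z ^ p = 1 := by
        have h2 : (α t) ^ p = z ^ p * (β t) ^ p := by
          rw [e1]
          apply (Commute.mul_pow _ p)
          exact (Subgroup.mem_center_iff.1 hzc (β t)).symm
        rw [← map_pow, ← map_pow, htp, map_one, map_one, mul_one] at h2
        exact h2.symm
      obtain ⟨r, -, hr⟩ := Matrix.SpecialLinearGroup.mem_center_iff.1 hzc
      have e3 : r ^ p = 1 := by
        have h2 : (z ^ p).1 = 1 := by rw [e2]; rfl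
        have h3 : (z ^ p).1 = z.1 ^ p := rfl
        rw [h3, ← hr, ← map_pow] at h2
        have := congrFun (congrFun h2 0) 0
        simpa using this
      have e4 : r = 1 := by
        have : (r - 1) ^ p = 0 := by rw [sub_pow_char, e3, one_pow, sub_self]
        exact sub_eq_zero.1 (pow_eq_zero_iff (Fact.out : p.Prime).ne_zero |>.1 this)
      have e5 : z = 1 := by
        apply Subtype.ext
        rw [← hr, e4, map_one]; rfl
      show α t = β t
      rw [e1, e5, one_mul]
    · intro A B hA hB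
      show α (A * B) = β (A * B)
      rw [map_mul, map_mul, hA, hB]
  exact key

end sl2

section su2
variable {F : Type*} [Field F] {q : ℕ}

theorem fdS_coe (τ : F ≃+* F) {n : ℕ} (s : SpecialLinearGroup (Fin n) F) : (fdS τ s).1 = s.1.map τ := rfl

/-- an embedding of `SL_2` of the subfield onto `SU_2` -/
def phi (K : Subfield F) (P : GL (Fin 2) F) : SpecialLinearGroup (Fin 2) K →* SpecialLinearGroup (Fin 2) F :=
  (cg P).toMonoidHom.comp (SpecialLinearGroup.map K.subtype)

theorem phi_apply (K : Subfield F) (P : GL (Fin 2) F) (x : SpecialLinearGroup (Fin 2) K) : phi K P x = cg P (SpecialLinearGroup.map K.subtype x) := rfl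

theorem phi_inj (K : Subfield F) (P : GL (Fin 2) F) : Function.Injective (phi K P) := by
  intro x y h
  rw [phi_apply, phi_apply] at h
  have h1 := (cg P).injective h
  apply Subtype.ext
  ext i j
  exact congrArg (fun s : SpecialLinearGroup (Fin 2) F => s.1 i j) h1

variable [Fintype F] (hF : Fintype.card F = q ^ 2)
include hF

theorem exists_phi : ∃ (K : Subfield F) (P : GL (Fin 2) F) (e : SpecialLinearGroup (Fin 2) K ≃* SU 2 F q),
    ∀ x, (e x).1 = phi K P x := by
  classical
  obtain ⟨P0, d, hP0, hform⟩ := ClEmbed.exists_basis hF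
  set K := ClEmbed.fixField (sig hF) with hK
  let P : GL (Fin 2) F := GeneralLinearGroup.mkOfDetNeZero P0 hP0
  have hPv : P.1 = P0 := rfl
  have hmem : ∀ x : SpecialLinearGroup (Fin 2) K, phi K P x ∈ SU 2 F q := by
    intro x u v
    show hermForm 2 F q ((phi K P x).1 *ᵥ u) ((phi K P x).1 *ᵥ v) = hermForm 2 F q u v
    have e1 : ∀ w : Fin 2 → F, P0 *ᵥ (P⁻¹.1 *ᵥ w) = w := by
      intro w
      rw [← hPv, Matrix.mulVec_mulVec, ← Units.val_mul, mul_inv_cancel, Units.val_one, Matrix.one_mulVec]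
    have e2 : ∀ w : Fin 2 → F, (phi K P x).1 *ᵥ w = P0 *ᵥ ((SpecialLinearGroup.map K.subtype x).1 *ᵥ (P⁻¹.1 *ᵥ w)) := by
      intro w
      rw [phi_apply, cg_coe, ← Matrix.mulVec_mulVec, ← Matrix.mulVec_mulVec, hPv]
    rw [e2, e2, hform]
    conv_rhs => rw [← e1 u, ← e1 v, hform]
    have hq : ∀ i j, ((SpecialLinearGroup.map K.subtype x).1 i j) ^ q = (SpecialLinearGroup.map K.subtype x).1 i j := by
      intro i j
      have : sig hF (x.1 i j).1 = (x.1 i j).1 := (x.1 i j).2
      rw [sig_apply] at this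
      exact this
    have hadd : ∀ a b : F, (a + b) ^ q = a ^ q + b ^ q := by
      intro a b; rw [← sig_apply hF, ← sig_apply hF, ← sig_apply hF, map_add]
    have hdet := (SpecialLinearGroup.map K.subtype x).2
    rw [Matrix.det_fin_two] at hdet
    simp only [Matrix.mulVec, dotProduct, Fin.sum_univ_two, hadd, mul_pow, hq]
    linear_combination (d * ((P⁻¹.1 0 0 * u 0 + P⁻¹.1 0 1 * u 1) * (P⁻¹.1 1 0 ^ q * v 0 ^ q + P⁻¹.1 1 1 ^ q * v 1 ^ q) -
      (P⁻¹.1 1 0 * u 0 + P⁻¹.1 1 1 * u 1) * (P⁻¹.1 0 0 ^ q * v 0 ^ q + P⁻¹.1 0 1 ^ q * v 1 ^ q))) * hdet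
  let φ : SpecialLinearGroup (Fin 2) K →* SU 2 F q := (phi K P).codRestrict _ hmem
  have hφ : Function.Injective φ := by
    intro x y h
    exact phi_inj K P (congrArg Subtype.val h)
  haveI : Finite K := inferInstance
  haveI : Fintype K := Fintype.ofFinite K
  have hK' : q ≤ Fintype.card K := by
    rw [← Nat.card_eq_fintype_card]
    exact ClEmbed.card_fixField hF (sig hF) (sig_apply hF)
  have h2 := one_lt_q hF
  have hc1 := ClUnitary.card_SU (n := 2) hF (by norm_num)
  have hc : Nat.card (Cfsg.SU 2 F q) = q * (q ^ 2 - 1) := by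
    have hq1 : 1 ≤ q ^ 2 := Nat.one_le_pow _ _ (by omega)
    simp [Finset.prod_range_succ, -Nat.card_eq_fintype_card] at hc1
    apply Nat.eq_of_mul_eq_mul_left (by omega : 0 < q + 1)
    rw [hc1]
    ring
  have hc2 : Nat.card (Matrix.SpecialLinearGroup (Fin 2) K) = Fintype.card K * ((Fintype.card K) ^ 2 - 1) :=
    ClSL2.card_SL2 rfl
  have hle : Nat.card (Matrix.SpecialLinearGroup (Fin 2) K) ≤ Nat.card (Cfsg.SU 2 F q) :=
    Nat.card_le_card_of_injective φ hφ
  have hge : Nat.card (Cfsg.SU 2 F q) ≤ Nat.card (Matrix.SpecialLinearGroup (Fin 2) K) := by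
    rw [hc, hc2]
    exact Nat.mul_le_mul hK' (Nat.sub_le_sub_right (Nat.pow_le_pow_left hK' 2) 1)
  have hbij : Function.Bijective φ := by
    rw [Nat.bijective_iff_injective_and_card]
    exact ⟨hφ, le_antisymm hle hge⟩
  exact ⟨K, P, MulEquiv.ofBijective φ hbij, fun x => rfl⟩

/-- **automorphisms of `SU_2`** -/
theorem aut_su2 (α : MulAut (SU 2 F q)) : ∃ (Q : GL (Fin 2) F) (τ : F ≃+* F), ∀ y, (α y).1 = cg Q (fdS τ y.1) := by
  classical
  obtain ⟨K, P, e, he⟩ := exists_phi hF
  haveI : Fintype K := Fintype.ofFinite K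
  obtain ⟨g, τ0, h⟩ := aut_sl2 ((e.trans α).trans e.symm : MulAut (SpecialLinearGroup (Fin 2) K))
  obtain ⟨τ, hτ⟩ := exists_lift K τ0
  refine ⟨P * GeneralLinearGroup.map K.subtype g * (fGL τ P)⁻¹, τ, ?_⟩
  intro y
  obtain ⟨x, rfl⟩ := e.surjective y
  have h1 : α (e x) = e (cg g (fdS τ0 x)) := by
    rw [← h]
    show α (e x) = e (e.symm (α (e x)))
    rw [MulEquiv.apply_symm_apply]
  rw [h1, he, he, phi_apply, phi_apply]
  have h2 : (SpecialLinearGroup.map K.subtype (cg g (fdS τ0 x)) : SpecialLinearGroup (Fin 2) F) =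
      cg (GeneralLinearGroup.map K.subtype g) (fdS τ (SpecialLinearGroup.map K.subtype x)) := by
    apply Subtype.ext
    rw [cg_coe, fdS_coe]
    show (g.1 * x.1.map τ0 * g⁻¹.1).map K.subtype = _
    rw [Matrix.map_mul, Matrix.map_mul]
    congr 1
    congr 1
    ext i j
    exact (hτ (x.1 i j)).symm
  have h3 : ∀ s : SpecialLinearGroup (Fin 2) F, fdS τ (cg P s) = cg (fGL τ P) (fdS τ s) := by
    intro s
    apply Subtype.ext
    rw [fdS_coe, cg_coe, cg_coe, fdS_coe]
    show (P.1 * s.1 * P⁻¹.1).map τ = _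
    have e1 : (P.1 * s.1 * P⁻¹.1).map τ = (P.1.map τ) * (s.1.map τ) * (P⁻¹.1.map τ) := by
      have := Matrix.map_mul (L := P.1 * s.1) (M := P⁻¹.1) (f := (τ : F →+* F))
      have h4 := Matrix.map_mul (L := P.1) (M := s.1) (f := (τ : F →+* F))
      exact this.trans (by rw [h4]; rfl)
    rw [e1]
    congr 1
  have h4 : ∀ (A B : GL (Fin 2) F) (s : SpecialLinearGroup (Fin 2) F), cg A (cg B s) = cg (A * B) s := by
    intro A B s
    rw [map_mul]; rfl
  rw [h2, h3, h4, h4]
  congr 2
  group

end su2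

end Cfsg.Agent.Lib.Phan
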