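import Cfsg.Agent.Lib.PhanF
import Cfsg.Prelude.Def_PhanSystems

/-! Alignment of standard pairs (helper38). -/

set_option autoImplicit false
set_option linter.unusedSectionVars false
set_option linter.unusedSimpArgs false

namespace Cfsg.Agent.Lib.Phan

open Module Matrix Cfsg Cfsg.Agent.Lib.UnTrans Cfsg.Agent.Lib.UnBridge Cfsg.Agent.Lib.ClUnSimple
open Cfsg.Agent.Lib.PSLAut (cg fdS cg_coe)

variable {F : Type*} [Field F] {q k n : ℕ}

/-- the matrix `diag(d) A^τ diag(d)⁻¹` -/
def dtM (d : Fin n → F) (τ : F ≃+* F) (A : Matrix (Fin n) (Fin n) F) : Matrix (Fin n) (Fin n) F :=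
  Matrix.diagonal d * A.map τ * Matrix.diagonal (fun i => (d i)⁻¹)

theorem dtM_apply (d : Fin n → F) (τ : F ≃+* F) (A : Matrix (Fin n) (Fin n) F) (i j : Fin n) :
    dtM d τ A i j = d i * τ (A i j) * (d j)⁻¹ := by
  rw [dtM, Matrix.mul_diagonal, Matrix.diagonal_mul, Matrix.map_apply]

theorem diag_inv {d : Fin n → F} (hd : ∀ i, d i ≠ 0) : Matrix.diagonal (fun i => (d i)⁻¹) * Matrix.diagonal d = 1 := by
  rw [Matrix.diagonal_mul_diagonal, ← Matrix.diagonal_one]
  congr 1
  funext i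
  exact inv_mul_cancel₀ (hd i)

theorem diag_inv' {d : Fin n → F} (hd : ∀ i, d i ≠ 0) : Matrix.diagonal d * Matrix.diagonal (fun i => (d i)⁻¹) = 1 := by
  rw [Matrix.diagonal_mul_diagonal, ← Matrix.diagonal_one]
  congr 1
  funext i
  exact mul_inv_cancel₀ (hd i)

theorem map_mul' (τ : F ≃+* F) {a b c : Type*} [Fintype b] (A : Matrix a b F) (B : Matrix b c F) :
    (A * B).map τ = A.map τ * B.map τ := Matrix.map_mul (f := (τ : F →+* F))

theorem dtM_mul {d : Fin n → F} (hd : ∀ i, d i ≠ 0) (τ : F ≃+* F) (A B : Matrix (Fin n) (Fin n) F) :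
    dtM d τ (A * B) = dtM d τ A * dtM d τ B := by
  have h1 : dtM d τ A * dtM d τ B = Matrix.diagonal d * A.map τ * (Matrix.diagonal (fun i => (d i)⁻¹) * Matrix.diagonal d) * B.map τ *
      Matrix.diagonal (fun i => (d i)⁻¹) := by
    rw [dtM, dtM]; simp only [Matrix.mul_assoc]
  rw [h1, diag_inv hd, Matrix.mul_one, dtM, map_mul']
  simp only [Matrix.mul_assoc]

theorem dtM_one {d : Fin n → F} (hd : ∀ i, d i ≠ 0) (τ : F ≃+* F) : dtM d τ (1 : Matrix (Fin n) (Fin n) F) = 1 := by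
  rw [dtM, Matrix.map_one _ (map_zero τ) (map_one τ), Matrix.mul_one, diag_inv' hd]

theorem dtM_det {d : Fin n → F} (hd : ∀ i, d i ≠ 0) (τ : F ≃+* F) (A : Matrix (Fin n) (Fin n) F) : (dtM d τ A).det = τ A.det := by
  have h1 : (A.map τ).det = τ A.det := (RingHom.map_det (τ : F →+* F) A).symm
  rw [dtM, Matrix.det_mul, Matrix.det_mul, h1, mul_right_comm, ← Matrix.det_mul, diag_inv' hd, Matrix.det_one, one_mul]

theorem dtM_emb (j : Fin k ↪ Fin n) {d : Fin n → F} (hd : ∀ i, d i ≠ 0) (τ : F ≃+* F) (A : Matrix (Fin k) (Fin k) F) :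
    dtM d τ (blkM j A) = blkM j (dtM (d ∘ j) τ A) := by
  have hdj : ∀ i, (d ∘ j) i ≠ 0 := fun i => hd _
  have e1 : (emb F j).map τ = emb F j := by
    ext a b
    rw [Matrix.map_apply, emb_apply]
    by_cases h : a = j b
    · rw [if_pos h, map_one]
    · rw [if_neg h, map_zero]
  have e2 : Matrix.diagonal d * emb F j = emb F j * Matrix.diagonal (d ∘ j) := by
    ext a b
    rw [Matrix.diagonal_mul, Matrix.mul_diagonal, emb_apply]
    by_cases h : a = j b
    · rw [if_pos h, h]; simp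
    · rw [if_neg h]; simp
  have e3 : (emb F j)ᵀ * Matrix.diagonal (fun i => (d i)⁻¹) = Matrix.diagonal (fun i => ((d ∘ j) i)⁻¹) * (emb F j)ᵀ := by
    ext a b
    rw [Matrix.mul_diagonal, Matrix.diagonal_mul, Matrix.transpose_apply, emb_apply]
    by_cases h : b = j a
    · rw [if_pos h, h]; simp
    · rw [if_neg h]; simp
  have e4 : (blkM j A).map τ = 1 + emb F j * (A.map τ - 1) * (emb F j)ᵀ := by
    rw [blkM, Matrix.map_add _ (map_add τ), Matrix.map_one _ (map_zero τ) (map_one τ), map_mul', map_mul',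
      Matrix.map_sub _ (map_sub τ), Matrix.map_one _ (map_zero τ) (map_one τ), Matrix.transpose_map, e1]
  have e5 : Matrix.diagonal d * (emb F j * (A.map τ - 1) * (emb F j)ᵀ) * Matrix.diagonal (fun i => (d i)⁻¹) =
      emb F j * (Matrix.diagonal (d ∘ j) * (A.map τ - 1) * Matrix.diagonal (fun i => ((d ∘ j) i)⁻¹)) * (emb F j)ᵀ := by
    calc Matrix.diagonal d * (emb F j * (A.map τ - 1) * (emb F j)ᵀ) * Matrix.diagonal (fun i => (d i)⁻¹) =
        (Matrix.diagonal d * emb F j) * (A.map τ - 1) * ((emb F j)ᵀ * Matrix.diagonal (fun i => (d i)⁻¹)) := by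
          simp only [Matrix.mul_assoc]
      _ = _ := by rw [e2, e3]; simp only [Matrix.mul_assoc]
  rw [dtM, e4, Matrix.mul_add, Matrix.add_mul, Matrix.mul_one, diag_inv' hd, e5, blkM, dtM]
  congr 3
  rw [Matrix.mul_sub, Matrix.sub_mul, Matrix.mul_one, diag_inv' hdj]

variable [Fintype F] (hF : Fintype.card F = q ^ 2)
include hF

theorem dtM_pres {d : Fin n → F} (hd : ∀ i, d i * sig hF (d i) = 1) (τ : F ≃+* F) {A : Matrix (Fin n) (Fin n) F}
    (hA : ∀ u v, hermForm n F q (A *ᵥ u) (A *ᵥ v) = hermForm n F q u v) (u v : Fin n → F) :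
    hermForm n F q (dtM d τ A *ᵥ u) (dtM d τ A *ᵥ v) = hermForm n F q u v := by
  have hd0 : ∀ i, d i ≠ 0 := fun i h => by have := hd i; rw [h, zero_mul] at this; exact zero_ne_one this
  have e1 : ∀ u v : Fin n → F, hermForm n F q (Matrix.diagonal d *ᵥ u) (Matrix.diagonal d *ᵥ v) = hermForm n F q u v := by
    intro u v
    rw [hermForm, hermForm]
    apply Finset.sum_congr rfl
    intro i _
    rw [Matrix.mulVec_diagonal, Matrix.mulVec_diagonal, mul_pow]
    have := hd i
    rw [sig_apply] at this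
    linear_combination (u i * v i ^ q) * this
  have e2 : ∀ u v : Fin n → F, hermForm n F q (fun i => τ (u i)) (fun i => τ (v i)) = τ (hermForm n F q u v) := by
    intro u v
    rw [hermForm, hermForm, map_sum]
    exact Finset.sum_congr rfl fun i _ => by rw [map_mul, map_pow]
  have e3 : ∀ u : Fin n → F, (A.map τ) *ᵥ (fun i => τ (u i)) = fun i => τ ((A *ᵥ u) i) := by
    intro u
    funext i
    rw [Matrix.mulVec, Matrix.mulVec, dotProduct, dotProduct, map_sum]
    exact Finset.sum_congr rfl fun j _ => by rw [Matrix.map_apply, map_mul]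
  have e4 : ∀ u v : Fin n → F, hermForm n F q ((A.map τ) *ᵥ u) ((A.map τ) *ᵥ v) = hermForm n F q u v := by
    intro u v
    have hu : u = fun i => τ (τ.symm (u i)) := funext fun i => (τ.apply_symm_apply _).symm
    have hv : v = fun i => τ (τ.symm (v i)) := funext fun i => (τ.apply_symm_apply _).symm
    rw [hu, hv, e3, e3, e2, e2, hA]
  have e5 : ∀ u, dtM d τ A *ᵥ u = Matrix.diagonal d *ᵥ ((A.map τ) *ᵥ (Matrix.diagonal (fun i => (d i)⁻¹) *ᵥ u)) := by
    intro u
    rw [Matrix.mulVec_mulVec, Matrix.mulVec_mulVec]; rfl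
  rw [e5, e5, e1, e4]
  rw [← e1, Matrix.mulVec_mulVec, Matrix.mulVec_mulVec, diag_inv' hd0, Matrix.one_mulVec, Matrix.one_mulVec]

/-- the automorphism `diag(d) ∘ τ` of `SU_n` -/
def dt (d : Fin n → F) (hd : ∀ i, d i * sig hF (d i) = 1) (τ : F ≃+* F) : SU n F q →* SU n F q where
  toFun A := ⟨⟨dtM d τ A.1.1, by
    rw [dtM_det (fun i h => by have := hd i; rw [h, zero_mul] at this; exact zero_ne_one this), A.1.2, map_one]⟩,
    fun u v => dtM_pres hF hd τ (SU_pres A) u v⟩
  map_one' := by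
    apply Subtype.ext; apply Subtype.ext
    exact dtM_one (fun i h => by have := hd i; rw [h, zero_mul] at this; exact zero_ne_one this) τ
  map_mul' A B := by
    apply Subtype.ext; apply Subtype.ext
    exact dtM_mul (fun i h => by have := hd i; rw [h, zero_mul] at this; exact zero_ne_one this) τ _ _

theorem dt_coe (d : Fin n → F) (hd : ∀ i, d i * sig hF (d i) = 1) (τ : F ≃+* F) (A : SU n F q) : (dt hF d hd τ A).1.1 = dtM d τ A.1.1 := rfl

theorem dt_blk (j : Fin k ↪ Fin n) (d : Fin n → F) (hd : ∀ i, d i * sig hF (d i) = 1) (τ : F ≃+* F) (A : SU k F q) :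
    dt hF d hd τ (blk j A) = blk j (dt hF (d ∘ j) (fun i => hd (j i)) τ A) := by
  apply Subtype.ext; apply Subtype.ext
  exact dtM_emb j (fun i h => by have := hd i; rw [h, zero_mul] at this; exact zero_ne_one this) τ _

theorem dt_inj (d : Fin n → F) (hd : ∀ i, d i * sig hF (d i) = 1) (τ : F ≃+* F) : Function.Injective (dt hF d hd τ : SU n F q →* SU n F q) := by
  have hd0 : ∀ i, d i ≠ 0 := fun i h => by have := hd i; rw [h, zero_mul] at this; exact zero_ne_one this
  intro A B h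
  apply Subtype.ext; apply Subtype.ext
  ext i j
  have h1 : dtM d τ A.1.1 i j = dtM d τ B.1.1 i j := congrArg (fun x : SU n F q => x.1.1 i j) h
  rw [dtM_apply, dtM_apply] at h1
  have h2 := mul_right_cancel₀ (inv_ne_zero (hd0 j)) h1
  exact τ.injective (mul_left_cancel₀ (hd0 i) h2)

theorem dt_bij (d : Fin n → F) (hd : ∀ i, d i * sig hF (d i) = 1) (τ : F ≃+* F) : Function.Bijective (dt hF d hd τ : SU n F q →* SU n F q) :=
  Finite.injective_iff_bijective.1 (dt_inj hF d hd τ)

omit [Fintype F] hF in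
/-- diagonal elements of `SU_2` -/
def Tor (F : Type*) [Field F] (q : ℕ) : Subgroup (SU 2 F q) where
  carrier := {s | s.1.1 0 1 = 0 ∧ s.1.1 1 0 = 0}
  mul_mem' := by
    rintro a b ⟨h1, h2⟩ ⟨h3, h4⟩
    have e : ∀ i j, (a * b).1.1 i j = a.1.1 i 0 * b.1.1 0 j + a.1.1 i 1 * b.1.1 1 j := by
      intro i j
      show (a.1.1 * b.1.1) i j = _
      rw [Matrix.mul_apply, Fin.sum_univ_two]
    exact ⟨by rw [e, h1, h3]; ring, by rw [e, h2, h4]; ring⟩
  one_mem' := ⟨rfl, rfl⟩
  inv_mem' := by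
    rintro a ⟨h1, h2⟩
    have e : (a⁻¹).1.1 = a.1.1.adjugate := by
      show (a.1⁻¹).1 = _
      rw [Matrix.SpecialLinearGroup.coe_inv]
    constructor
    · show (a⁻¹).1.1 0 1 = 0
      rw [e, Matrix.adjugate_fin_two]; simp [h1]
    · show (a⁻¹).1.1 1 0 = 0
      rw [e, Matrix.adjugate_fin_two]; simp [h2]

omit [Fintype F] hF in
theorem mem_Tor {s : SU 2 F q} : s ∈ Tor F q ↔ s.1.1 0 1 = 0 ∧ s.1.1 1 0 = 0 := Iff.rfl

/-- a norm one element with `ζ² ≠ 1` -/
theorem exists_zeta2 : ∃ ζ : F, ζ * sig hF ζ = 1 ∧ ζ ^ 2 ≠ 1 := by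
  classical
  by_contra hcon
  push Not at hcon
  have h1 := ClUnitary.card_norm_one_units hF
  have h2 : Nat.card {x : Fˣ // x ^ (q + 1) = 1} ≤ 2 := by
    have : Function.Injective (fun x : {x : Fˣ // x ^ (q + 1) = 1} => (decide ((x.1 : F) = 1) : Bool)) := by
      intro x y hxy
      have hx : ∀ x : {x : Fˣ // x ^ (q + 1) = 1}, (x.1 : F) = 1 ∨ (x.1 : F) = -1 := by
        intro x
        have h3 : (x.1 : F) * sig hF (x.1 : F) = 1 := by
          rw [sig_apply, ← pow_succ', ← Units.val_pow_eq_pow_val, x.2, Units.val_one]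
        have h5 : ((x.1 : F) - 1) * ((x.1 : F) + 1) = 0 := by linear_combination hcon _ h3
        rcases mul_eq_zero.1 h5 with h6 | h6
        · exact Or.inl (sub_eq_zero.1 h6)
        · exact Or.inr (eq_neg_of_add_eq_zero_left h6)
      simp only [decide_eq_decide] at hxy
      apply Subtype.ext
      apply Units.ext
      by_cases h : (x.1 : F) = 1
      · rw [h, hxy.1 h]
      · have h' : ¬ (y.1 : F) = 1 := fun h4 => h (hxy.2 h4)
        rw [(hx x).resolve_left h, (hx y).resolve_left h']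
    have h4 := Nat.card_le_card_of_injective _ this
    rw [Nat.card_eq_fintype_card (α := Bool), Fintype.card_bool] at h4
    exact h4
  have := one_lt_q hF
  omega

/-- relations between the entries of elements of `SU_2` -/
theorem su2_entries (s : SU 2 F q) : s.1.1 1 1 = sig hF (s.1.1 0 0) ∧ s.1.1 1 0 = - sig hF (s.1.1 0 1) := by
  have H := herm_HS 2 hF
  have e : ∀ j, s.1.1 *ᵥ Pi.single j 1 = fun i => s.1.1 i j := by
    intro j; rw [Matrix.mulVec_single_one]; rfl
  have h : ∀ i j, s.1.1 0 i * sig hF (s.1.1 0 j) + s.1.1 1 i * sig hF (s.1.1 1 j) = if i = j then 1 else 0 := by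
    intro i j
    have h1 := herm_blk' hF s (Pi.single i 1) (Pi.single j 1)
    rw [herm_ss hF, e, e, hermForm, Fin.sum_univ_two] at h1
    rw [sig_apply, sig_apply]; exact h1
  have h00 := h 0 0
  have h01 := h 0 1
  have h10 := h 1 0
  have h11 := h 1 1
  rw [if_pos rfl] at h00 h11
  rw [if_neg (by decide)] at h01 h10
  have hd := s.1.2
  rw [Matrix.det_fin_two] at hd
  constructor
  · linear_combination (sig hF (s.1.1 0 0)) * hd - (s.1.1 1 1) * h00 + (s.1.1 1 0) * h10
  · linear_combination -(sig hF (s.1.1 0 1)) * hd + (s.1.1 1 1) * h01 - (s.1.1 1 0) * h11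

/-- the element of `SU_2` with first row `(a, b)` -/
noncomputable def su2 (a b : F) (h : a * sig hF a + b * sig hF b = 1) : SU 2 F q :=
  ⟨⟨!![a, b; -sig hF b, sig hF a], by rw [Matrix.det_fin_two_of]; linear_combination h⟩, by
    intro u v
    show hermForm 2 F q (!![a, b; -sig hF b, sig hF a] *ᵥ u) (!![a, b; -sig hF b, sig hF a] *ᵥ v) = hermForm 2 F q u v
    have hi := (herm_HS 2 hF).inv
    simp only [hermForm, Fin.sum_univ_two, Matrix.mulVec, dotProduct, Matrix.of_apply, Matrix.cons_val_zero,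
      Matrix.cons_val_one, Matrix.cons_val', Matrix.cons_val_fin_one, ← sig_apply hF, map_add, map_mul, map_neg, hi]
    linear_combination (u 0 * sig hF (v 0) + u 1 * sig hF (v 1)) * h⟩

theorem su2_coe (a b : F) (h : a * sig hF a + b * sig hF b = 1) : (su2 hF a b h).1.1 = !![a, b; -sig hF b, sig hF a] := rfl

/-- **normal form of automorphisms preserving the torus** -/
theorem aut_normal (α : MulAut (SU 2 F q)) (hα : ∀ s ∈ Tor F q, α s ∈ Tor F q) :
    ∃ (d : Fin 2 → F) (hd : ∀ i, d i * sig hF (d i) = 1) (τ : F ≃+* F), ∀ s, α s = dt hF d hd τ s := by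
  have H := herm_HS 2 hF
  obtain ⟨Q, τ, hQ⟩ := aut_su2 hF α
  obtain ⟨ζ, hζ, hζ2⟩ := exists_zeta2 hF
  have hζ0 : ζ ≠ 0 := by rintro rfl; rw [zero_mul] at hζ; exact zero_ne_one hζ
  have hdet : Q.1 0 0 * Q.1 1 1 - Q.1 0 1 * Q.1 1 0 ≠ 0 := by
    rw [← Matrix.det_fin_two]
    exact (Matrix.isUnit_iff_isUnit_det _).1 Q.isUnit |>.ne_zero
  -- α s * Q = Q * s^τ
  have hQ' : ∀ s : SU 2 F q, (α s).1.1 * Q.1 = Q.1 * s.1.1.map τ := by
    intro s
    have h1 : (α s).1.1 = Q.1 * s.1.1.map τ * Q⁻¹.1 := by rw [hQ]; rfl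
    rw [h1, Matrix.mul_assoc, ← Units.val_mul, inv_mul_cancel, Units.val_one, Matrix.mul_one]
  have hQe : ∀ (s : SU 2 F q) i j, (α s).1.1 i 0 * Q.1 0 j + (α s).1.1 i 1 * Q.1 1 j = Q.1 i 0 * τ (s.1.1 0 j) + Q.1 i 1 * τ (s.1.1 1 j) := by
    intro s i j
    have h1 := congrFun (congrFun (hQ' s) i) j
    rw [Matrix.mul_apply, Matrix.mul_apply, Fin.sum_univ_two, Fin.sum_univ_two, Matrix.map_apply, Matrix.map_apply] at h1
    exact h1
  set s0 := su2 hF ζ 0 (by rw [hζ, map_zero, mul_zero, add_zero]) with hs0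
  have hs0T : s0 ∈ Tor F q := ⟨rfl, by show -sig hF 0 = 0; rw [map_zero, neg_zero]⟩
  obtain ⟨t1, t2⟩ := hα s0 hs0T
  have e00 := hQe s0 0 0
  have e01 := hQe s0 0 1
  have e10 := hQe s0 1 0
  have e11 := hQe s0 1 1
  have v00 : s0.1.1 0 0 = ζ := rfl
  have v01 : s0.1.1 0 1 = 0 := rfl
  have v10 : s0.1.1 1 0 = 0 := hs0T.2
  have v11 : s0.1.1 1 1 = sig hF ζ := rfl
  rw [t1, v00, v10, map_zero] at e00
  rw [t1, v01, v11, map_zero] at e01
  rw [t2, v00, v10, map_zero] at e10
  rw [t2, v01, v11, map_zero] at e11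
  have hne : τ ζ ≠ τ (sig hF ζ) := by
    intro h
    have h1 := τ.injective h
    apply hζ2
    rw [← h1] at hζ
    rw [sq]; exact hζ
  set w := su2 hF 0 1 (by rw [map_one]; ring) with hw
  have w00 : w.1.1 0 0 = 0 := rfl
  have w01 : w.1.1 0 1 = 1 := rfl
  have w10 : w.1.1 1 0 = -1 := by show -sig hF 1 = -1; rw [map_one]
  have w11 : w.1.1 1 1 = 0 := by show sig hF 0 = 0; rw [map_zero]
  have nrm : ∀ s : SU 2 F q, s.1.1 0 0 * sig hF (s.1.1 0 0) + s.1.1 0 1 * sig hF (s.1.1 0 1) = 1 := by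
    intro s
    obtain ⟨h1, h2⟩ := su2_entries hF s
    have hd := s.1.2
    rw [Matrix.det_fin_two, h1, h2] at hd
    linear_combination hd
  by_cases hc : Q.1 0 0 = 0
  · -- antidiagonal
    rw [hc] at hdet e00
    have h01 : Q.1 0 1 ≠ 0 := by intro h; apply hdet; rw [h]; ring
    have h10 : Q.1 1 0 ≠ 0 := by intro h; apply hdet; rw [h]; ring
    have h11 : Q.1 1 1 = 0 := by
      have h1 : (α s0).1.1 1 1 = τ ζ := by
        apply mul_right_cancel₀ h10; linear_combination e10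
      rw [h1] at e11
      by_contra h
      exact hne (mul_right_cancel₀ h (by linear_combination e11))
    have q00 : ∀ s : SU 2 F q, (α s).1.1 0 0 = τ (s.1.1 1 1) := by
      intro s
      have := hQe s 0 1
      rw [hc, h11] at this
      apply mul_right_cancel₀ h01; linear_combination this
    have q01 : ∀ s : SU 2 F q, (α s).1.1 0 1 = Q.1 0 1 / Q.1 1 0 * τ (s.1.1 1 0) := by
      intro s
      have := hQe s 0 0
      rw [hc] at this
      rw [div_mul_eq_mul_div, eq_div_iff h10]; linear_combination this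
    have q10 : ∀ s : SU 2 F q, (α s).1.1 1 0 = Q.1 1 0 / Q.1 0 1 * τ (s.1.1 0 1) := by
      intro s
      have := hQe s 1 1
      rw [h11] at this
      rw [div_mul_eq_mul_div, eq_div_iff h01]; linear_combination this
    have q11 : ∀ s : SU 2 F q, (α s).1.1 1 1 = τ (s.1.1 0 0) := by
      intro s
      have := hQe s 1 0
      rw [hc, h11] at this
      apply mul_right_cancel₀ h10; linear_combination this
    have hN : Q.1 0 1 / Q.1 1 0 * sig hF (Q.1 0 1 / Q.1 1 0) = 1 := by
      have := nrm (α w)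
      rw [q00, q01, w11, w10, map_zero, map_neg, map_one] at this
      rw [map_mul, map_neg, map_one] at this
      linear_combination this
    let σE : F ≃+* F := RingEquiv.ofBijective (sig hF) ⟨(sig hF).injective, fun x => ⟨sig hF x, sig_inv hF x⟩⟩
    have hσE : ∀ x, σE x = sig hF x := fun x => rfl
    refine ⟨![-(Q.1 0 1 / Q.1 1 0), 1], ?_, σE.trans τ, ?_⟩
    · intro i
      fin_cases i
      · show -(Q.1 0 1 / Q.1 1 0) * sig hF (-(Q.1 0 1 / Q.1 1 0)) = 1
        rw [map_neg]; linear_combination hN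
      · show (1 : F) * sig hF 1 = 1
        rw [map_one, one_mul]
    · intro s
      obtain ⟨h1, h2⟩ := su2_entries hF s
      apply Subtype.ext; apply Subtype.ext
      rw [dt_coe]
      ext i j
      rw [dtM_apply]
      fin_cases i <;> fin_cases j
      · show (α s).1.1 0 0 = -(Q.1 0 1 / Q.1 1 0) * τ (sig hF (s.1.1 0 0)) * (-(Q.1 0 1 / Q.1 1 0))⁻¹
        rw [q00, h1, mul_comm (-(Q.1 0 1 / Q.1 1 0)), mul_assoc, mul_inv_cancel₀ (neg_ne_zero.2 (div_ne_zero h01 h10)), mul_one]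
      · show (α s).1.1 0 1 = -(Q.1 0 1 / Q.1 1 0) * τ (sig hF (s.1.1 0 1)) * (1 : F)⁻¹
        rw [q01, h2, map_neg, inv_one, mul_one]; ring
      · show (α s).1.1 1 0 = 1 * τ (sig hF (s.1.1 1 0)) * (-(Q.1 0 1 / Q.1 1 0))⁻¹
        rw [q10, h2, map_neg, sig_inv, map_neg, inv_neg, inv_div]; ring
      · show (α s).1.1 1 1 = 1 * τ (sig hF (s.1.1 1 1)) * (1 : F)⁻¹
        rw [q11, h1, sig_inv, inv_one]; ring
  · -- diagonal
    have h1 : (α s0).1.1 0 0 = τ ζ := by
      apply mul_right_cancel₀ hc; linear_combination e00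
    have h01 : Q.1 0 1 = 0 := by
      rw [h1] at e01
      by_contra h
      exact hne (mul_right_cancel₀ h (by linear_combination e01))
    rw [h01] at hdet
    have h11 : Q.1 1 1 ≠ 0 := by intro h; apply hdet; rw [h]; ring
    have h10 : Q.1 1 0 = 0 := by
      have h2 : (α s0).1.1 1 1 = τ (sig hF ζ) := by
        apply mul_right_cancel₀ h11; linear_combination e11
      rw [h2] at e10
      by_contra h
      exact hne (mul_right_cancel₀ h (by linear_combination -e10))
    have q00 : ∀ s : SU 2 F q, (α s).1.1 0 0 = τ (s.1.1 0 0) := by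
      intro s
      have := hQe s 0 0
      rw [h01, h10] at this
      apply mul_right_cancel₀ hc; linear_combination this
    have q01 : ∀ s : SU 2 F q, (α s).1.1 0 1 = Q.1 0 0 / Q.1 1 1 * τ (s.1.1 0 1) := by
      intro s
      have := hQe s 0 1
      rw [h01] at this
      rw [div_mul_eq_mul_div, eq_div_iff h11]; linear_combination this
    have q10 : ∀ s : SU 2 F q, (α s).1.1 1 0 = Q.1 1 1 / Q.1 0 0 * τ (s.1.1 1 0) := by
      intro s
      have := hQe s 1 0
      rw [h10] at this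
      rw [div_mul_eq_mul_div, eq_div_iff hc]; linear_combination this
    have q11 : ∀ s : SU 2 F q, (α s).1.1 1 1 = τ (s.1.1 1 1) := by
      intro s
      have := hQe s 1 1
      rw [h01, h10] at this
      apply mul_right_cancel₀ h11; linear_combination this
    have hN : Q.1 0 0 / Q.1 1 1 * sig hF (Q.1 0 0 / Q.1 1 1) = 1 := by
      have := nrm (α w)
      rw [q00, q01, w00, w01, map_zero, map_one, mul_one] at this
      linear_combination this
    refine ⟨![Q.1 0 0 / Q.1 1 1, 1], ?_, τ, ?_⟩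
    · intro i
      fin_cases i
      · exact hN
      · show (1 : F) * sig hF 1 = 1
        rw [map_one, one_mul]
    · intro s
      apply Subtype.ext; apply Subtype.ext
      rw [dt_coe]
      ext i j
      rw [dtM_apply]
      fin_cases i <;> fin_cases j
      · show (α s).1.1 0 0 = Q.1 0 0 / Q.1 1 1 * τ (s.1.1 0 0) * (Q.1 0 0 / Q.1 1 1)⁻¹
        rw [q00, mul_comm (Q.1 0 0 / Q.1 1 1), mul_assoc, mul_inv_cancel₀ (div_ne_zero hc h11), mul_one]
      · show (α s).1.1 0 1 = Q.1 0 0 / Q.1 1 1 * τ (s.1.1 0 1) * (1 : F)⁻¹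
        rw [q01, inv_one, mul_one]
      · show (α s).1.1 1 0 = 1 * τ (s.1.1 1 0) * (Q.1 0 0 / Q.1 1 1)⁻¹
        rw [q10, inv_div]; ring
      · show (α s).1.1 1 1 = 1 * τ (s.1.1 1 1) * (1 : F)⁻¹
        rw [q11, inv_one]; ring

end Cfsg.Agent.Lib.Phan
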