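import Cfsg.Agent.Lib.PhanG

/-! Alignment of standard pairs and the induction (helper38). -/

set_option autoImplicit false
set_option linter.unusedSectionVars false
set_option linter.unusedSimpArgs false

namespace Cfsg.Agent.Lib.Phan

open Module Matrix Cfsg Cfsg.Agent.Lib.UnTrans Cfsg.Agent.Lib.UnBridge Cfsg.Agent.Lib.ClUnSimple

variable {F : Type*} [Field F] {q : ℕ} {G : Type*} [Group G]

/-- the two block embeddings of `SU_2` into `SU_3` -/
def b0 (F : Type*) [Field F] (q : ℕ) : SU 2 F q →* SU 3 F q := blk (sh 0 (show 0 + 2 ≤ 3 by omega))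

def b1 (F : Type*) [Field F] (q : ℕ) : SU 2 F q →* SU 3 F q := blk (sh 1 (show 1 + 2 ≤ 3 by omega))

theorem blkM_ii {k n : ℕ} (j : Fin k ↪ Fin n) (A : Matrix (Fin k) (Fin k) F) (a b : Fin k) : blkM j A (j a) (j b) = A a b := by
  have h1 := congrFun (blkM_ext j A (Pi.single b 1)) (j a)
  rw [ext_single, Matrix.mulVec_single_one, ext_in, Matrix.mulVec_single_one] at h1
  exact h1

theorem blkM_oi {k n : ℕ} (j : Fin k ↪ Fin n) (A : Matrix (Fin k) (Fin k) F) {a : Fin n} (ha : a ∉ Set.range j) (c : Fin n) :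
    blkM j A a c = if a = c then 1 else 0 := by
  have h1 := blkM_out j A (Pi.single c 1) ha
  rw [Matrix.mulVec_single_one, Pi.single_apply] at h1
  exact h1

theorem blkM_io {k n : ℕ} (j : Fin k ↪ Fin n) (A : Matrix (Fin k) (Fin k) F) {c : Fin n} (hc : c ∉ Set.range j) (a : Fin n) :
    blkM j A a c = if a = c then 1 else 0 := by
  have h1 := congrFun (blkM_fix j A (v := Pi.single c 1) (fun b => Pi.single_eq_of_ne (fun h => hc ⟨b, h⟩) _)) a
  rw [Matrix.mulVec_single_one, Pi.single_apply] at h1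
  exact h1

theorem b0_mat (s : SU 2 F q) : (b0 F q s).1.1 = !![s.1.1 0 0, s.1.1 0 1, 0; s.1.1 1 0, s.1.1 1 1, 0; 0, 0, 1] := by
  show blkM _ _ = _
  have h2 : (2 : Fin 3) ∉ Set.range (sh 0 (show 0 + 2 ≤ 3 by omega)) := not_range_sh (Or.inr (by decide))
  ext i j
  fin_cases i <;> fin_cases j
  · exact blkM_ii _ s.1.1 0 0
  · exact blkM_ii _ s.1.1 0 1
  · exact blkM_io _ _ h2 0
  · exact blkM_ii _ s.1.1 1 0
  · exact blkM_ii _ s.1.1 1 1
  · exact blkM_io _ _ h2 1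
  · exact blkM_oi _ _ h2 0
  · exact blkM_oi _ _ h2 1
  · exact blkM_oi _ _ h2 2

theorem b1_mat (s : SU 2 F q) : (b1 F q s).1.1 = !![1, 0, 0; 0, s.1.1 0 0, s.1.1 0 1; 0, s.1.1 1 0, s.1.1 1 1] := by
  show blkM _ _ = _
  have h2 : (0 : Fin 3) ∉ Set.range (sh 1 (show 1 + 2 ≤ 3 by omega)) := not_range_sh (Or.inl (by decide))
  ext i j
  fin_cases i <;> fin_cases j
  · exact blkM_io _ _ h2 0
  · exact blkM_oi _ _ h2 1
  · exact blkM_oi _ _ h2 2
  · exact blkM_io _ _ h2 1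
  · exact blkM_ii _ s.1.1 0 0
  · exact blkM_ii _ s.1.1 0 1
  · exact blkM_io _ _ h2 2
  · exact blkM_ii _ s.1.1 1 0
  · exact blkM_ii _ s.1.1 1 1

theorem b0_inj : Function.Injective (b0 F q) := blk_inj _

theorem b1_inj : Function.Injective (b1 F q) := blk_inj _

/-- a homomorphism from `SU_3` giving a standard pair -/
structure Std (ψ : SU 3 F q →* G) (A B V : Subgroup G) : Prop where
  hA : (ψ.comp (b0 F q)).range = A
  hB : (ψ.comp (b1 F q)).range = B
  hV : ψ.range = V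
  hk : ψ.ker ≤ Subgroup.center (SU 3 F q)

variable [Fintype F] (hF : Fintype.card F = q ^ 2)
include hF

theorem Std.inj0 {ψ : SU 3 F q →* G} {A B V : Subgroup G} (S : Std ψ A B V) : Function.Injective (ψ.comp (b0 F q)) := by
  rw [injective_iff_map_eq_one]
  intro s hs
  have h1 : b0 F q s ∈ Subgroup.center (SU 3 F q) := S.hk hs
  obtain ⟨c, hc⟩ := (ClUnitary.center_SU hF (by norm_num) _).1 h1
  have h2 := congrFun (congrFun hc 2) 2
  rw [b0_mat] at h2
  have h3 : c = 1 := by simpa using h2.symm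
  apply b0_inj
  rw [map_one]
  apply Subtype.ext; apply Subtype.ext
  rw [hc, h3, map_one]; rfl

theorem Std.inj1 {ψ : SU 3 F q →* G} {A B V : Subgroup G} (S : Std ψ A B V) : Function.Injective (ψ.comp (b1 F q)) := by
  rw [injective_iff_map_eq_one]
  intro s hs
  have h1 : b1 F q s ∈ Subgroup.center (SU 3 F q) := S.hk hs
  obtain ⟨c, hc⟩ := (ClUnitary.center_SU hF (by norm_num) _).1 h1
  have h2 := congrFun (congrFun hc 0) 0
  rw [b1_mat] at h2
  have h3 : c = 1 := by simpa using h2.symm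
  apply b1_inj
  rw [map_one]
  apply Subtype.ext; apply Subtype.ext
  rw [hc, h3, map_one]; rfl

/-- commuting modulo the kernel -/
theorem Std.comm_scalar {ψ : SU 3 F q →* G} {A B V : Subgroup G} (S : Std ψ A B V) {X Y : SU 3 F q} (h : ψ X * ψ Y = ψ Y * ψ X) :
    ∃ c : F, ∀ i j, (X.1.1 * Y.1.1) i j = c * (Y.1.1 * X.1.1) i j := by
  have h1 : (X * Y) * (Y * X)⁻¹ ∈ Subgroup.center (SU 3 F q) := by
    apply S.hk
    rw [MonoidHom.mem_ker, map_mul, map_inv, map_mul, map_mul, h, mul_inv_cancel]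
  obtain ⟨c, hc⟩ := (ClUnitary.center_SU hF (by norm_num) _).1 h1
  refine ⟨c, fun i j => ?_⟩
  have h2 : X * Y = ((X * Y) * (Y * X)⁻¹) * (Y * X) := by group
  have h3 : (X * Y).1.1 = Matrix.scalar (Fin 3) c * (Y * X).1.1 := by
    conv_lhs => rw [h2]
    show ((X * Y) * (Y * X)⁻¹).1.1 * (Y * X).1.1 = _
    rw [hc]
  have h4 := congrFun (congrFun h3 i) j
  rw [Matrix.scalar_apply, Matrix.diagonal_mul] at h4
  exact h4

/-- elements of the first block commuting with the second block modulo the kernel are trivial -/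
theorem Std.eq_one_of_comm {ψ : SU 3 F q →* G} {A B V : Subgroup G} (S : Std ψ A B V) {u : SU 2 F q}
    (h : ∀ k, ψ (b0 F q u) * ψ (b1 F q k) = ψ (b1 F q k) * ψ (b0 F q u)) : u = 1 := by
  obtain ⟨c, hc⟩ := S.comm_scalar hF (h (su2 hF 0 1 (by rw [map_one]; ring)))
  rw [b0_mat, b1_mat, su2_coe] at hc
  have h1 := hc 1 0
  have h2 := hc 0 0
  have h3 := hc 2 1
  have h4 := hc 2 0
  simp [Matrix.mul_apply, Fin.sum_univ_three] at h1 h2 h3 h4
  obtain ⟨e1, e2⟩ := su2_entries hF u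
  have hd := u.1.2
  rw [Matrix.det_fin_two] at hd
  have h01 : u.1.1 0 1 = 0 := by
    rw [h1, eq_comm, neg_eq_zero] at e2
    rw [← sig_inv hF (u.1.1 0 1), e2, map_zero]
  have hu0 : u.1.1 0 0 ≠ 0 := by intro h5; rw [h5, h01] at hd; simp at hd
  have hc1 : c = 1 := by
    have : (c - 1) * u.1.1 0 0 = 0 := by linear_combination -h2
    rcases mul_eq_zero.1 this with h | h
    · exact sub_eq_zero.1 h
    · exact absurd h hu0
  rw [hc1] at h3
  have h11 : u.1.1 1 1 = 1 := by linear_combination -h3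
  have h00 : u.1.1 0 0 = 1 := by
    rw [h11, h01] at hd; linear_combination hd
  apply Subtype.ext; apply Subtype.ext
  ext i j
  fin_cases i <;> fin_cases j
  · exact h00
  · exact h01
  · exact h1
  · exact h11

/-- elements of the second block commuting with a regular torus element of the first block modulo the kernel are diagonal -/
theorem Std.tor_of_comm {ψ : SU 3 F q →* G} {A B V : Subgroup G} (S : Std ψ A B V) {ζ : F} (hζ : ζ * sig hF ζ = 1) (hζ2 : ζ ^ 2 ≠ 1)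
    {v : SU 2 F q} (h : ψ (b0 F q (su2 hF ζ 0 (by rw [hζ, map_zero, mul_zero, add_zero]))) * ψ (b1 F q v) =
      ψ (b1 F q v) * ψ (b0 F q (su2 hF ζ 0 (by rw [hζ, map_zero, mul_zero, add_zero])))) : v ∈ Tor F q := by
  obtain ⟨c, hc⟩ := S.comm_scalar hF h
  rw [b0_mat, b1_mat, su2_coe] at hc
  have hζ0 : ζ ≠ 0 := by rintro rfl; rw [zero_mul] at hζ; exact zero_ne_one hζ
  have h2 := hc 0 0
  have h3 := hc 2 1
  simp [Matrix.mul_apply, Fin.sum_univ_three] at h2 h3
  have hc1 : c = 1 := by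
    have : (c - 1) * ζ = 0 := by linear_combination -h2
    rcases mul_eq_zero.1 this with h | h
    · exact sub_eq_zero.1 h
    · exact absurd h hζ0
  have h10 : v.1.1 1 0 = 0 := by
    rw [hc1] at h3
    have h4 : v.1.1 1 0 * (1 - sig hF ζ) = 0 := by linear_combination h3
    rcases mul_eq_zero.1 h4 with h5 | h5
    · exact h5
    · exfalso
      have h6 : sig hF ζ = 1 := by linear_combination -h5
      rw [h6, mul_one] at hζ
      apply hζ2; rw [hζ, one_pow]
  obtain ⟨e1, e2⟩ := su2_entries hF v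
  refine ⟨?_, h10⟩
  rw [h10, eq_comm, neg_eq_zero] at e2
  rw [← sig_inv hF (v.1.1 0 1), e2, map_zero]

/-- torus elements of the first block normalise the second block and vice versa -/
theorem tor_norm0 {a : SU 2 F q} (ha : a ∈ Tor F q) (s : SU 2 F q) : ∃ s' : SU 2 F q, b0 F q a * b1 F q s * (b0 F q a)⁻¹ = b1 F q s' := by
  have h1 : ((b0 F q a)⁻¹).1.1 *ᵥ Pi.single 0 1 = (a⁻¹).1.1 0 0 • Pi.single 0 1 := by
    have ha' : a⁻¹ ∈ Tor F q := inv_mem ha
    rw [← map_inv, b0_mat, Matrix.mulVec_single_one]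
    funext i
    fin_cases i
    · simp
    · simpa using ha'.2
    · simp
  obtain ⟨s', hs'⟩ := mem_blk hF (sh 1 (show 1 + 2 ≤ 3 by omega)) (b0 F q a * b1 F q s * (b0 F q a)⁻¹) (by
    intro i hi
    have h3 := range_sh hi
    have h4 : i = 0 := Fin.ext (by have := i.2; show i.1 = 0; omega)
    rw [h4, mul_mulVec', mul_mulVec', h1, Matrix.mulVec_smul, Matrix.mulVec_smul]
    have h5 : (b1 F q s).1.1 *ᵥ Pi.single 0 1 = Pi.single 0 1 := by
      rw [b1_mat, Matrix.mulVec_single_one]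
      funext i
      fin_cases i <;> simp
    rw [h5, ← Matrix.mulVec_smul, ← h1]
    have := inv_mulVec' (b0 F q a)⁻¹ (Pi.single 0 1)
    rw [inv_inv] at this
    exact this)
  exact ⟨s', hs'.symm⟩

theorem tor_norm1 {a : SU 2 F q} (ha : a ∈ Tor F q) (s : SU 2 F q) : ∃ s' : SU 2 F q, b1 F q a * b0 F q s * (b1 F q a)⁻¹ = b0 F q s' := by
  have h1 : ((b1 F q a)⁻¹).1.1 *ᵥ Pi.single 2 1 = (a⁻¹).1.1 1 1 • Pi.single 2 1 := by
    have ha' : a⁻¹ ∈ Tor F q := inv_mem ha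
    rw [← map_inv, b1_mat, Matrix.mulVec_single_one]
    funext i
    fin_cases i
    · simp
    · simpa using ha'.1
    · simp
  obtain ⟨s', hs'⟩ := mem_blk hF (sh 0 (show 0 + 2 ≤ 3 by omega)) (b1 F q a * b0 F q s * (b1 F q a)⁻¹) (by
    intro i hi
    have h3 := range_sh hi
    have h4 : i = 2 := Fin.ext (by have := i.2; show i.1 = 2; omega)
    rw [h4, mul_mulVec', mul_mulVec', h1, Matrix.mulVec_smul, Matrix.mulVec_smul]
    have h5 : (b0 F q s).1.1 *ᵥ Pi.single 2 1 = Pi.single 2 1 := by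
      rw [b0_mat, Matrix.mulVec_single_one]
      funext i
      fin_cases i <;> simp
    rw [h5, ← Matrix.mulVec_smul, ← h1]
    have := inv_mulVec' (b1 F q a)⁻¹ (Pi.single 2 1)
    rw [inv_inv] at this
    exact this)
  exact ⟨s', hs'.symm⟩

theorem tor_norm0' {a : SU 2 F q} (ha : a ∈ Tor F q) (s : SU 2 F q) : ∃ s' : SU 2 F q, b0 F q a * b1 F q s * (b0 F q a)⁻¹ = b1 F q s' :=
  tor_norm0 hF ha s

/-- **alignment** of consecutive standard pairs -/
theorem align {ψ1 ψ2 : SU 3 F q →* G} {A B C V1 V2 : Subgroup G} (S1 : Std ψ1 A B V1) (S2 : Std ψ2 B C V2)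
    (hAC : ∀ x ∈ A, ∀ y ∈ C, x * y = y * x) :
    ∃ ψ : SU 3 F q →* G, (∀ s, ψ (b0 F q s) = ψ1 (b1 F q s)) ∧ Std ψ B C V2 := by
  have i1 := S1.inj1 hF
  have i2 := S2.inj0 hF
  let e1 : SU 2 F q ≃* B := (MonoidHom.ofInjective i1).trans (MulEquiv.subgroupCongr S1.hB)
  let e2 : SU 2 F q ≃* B := (MonoidHom.ofInjective i2).trans (MulEquiv.subgroupCongr S2.hA)
  have he1 : ∀ s, (e1 s : G) = ψ1 (b1 F q s) := fun s => rfl
  have he2 : ∀ s, (e2 s : G) = ψ2 (b0 F q s) := fun s => rfl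
  let α : MulAut (SU 2 F q) := e1.trans e2.symm
  have hα : ∀ s, ψ2 (b0 F q (α s)) = ψ1 (b1 F q s) := by
    intro s
    rw [← he2, ← he1]
    show ((e2 (e2.symm (e1 s)) : B) : G) = _
    rw [MulEquiv.apply_symm_apply]
  obtain ⟨ζ, hζ, hζ2⟩ := exists_zeta2 hF
  set a := su2 hF ζ 0 (by rw [hζ, map_zero, mul_zero, add_zero]) with ha
  have haT : a ∈ Tor F q := ⟨rfl, by show -sig hF 0 = 0; rw [map_zero, neg_zero]⟩
  -- the main claim
  have claim : ∀ d ∈ Tor F q, α.symm d ∈ Tor F q := by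
    intro d hd
    set v := α.symm d with hv
    have hvd : ψ1 (b1 F q v) = ψ2 (b0 F q d) := by
      rw [← hα]
      show ψ2 (b0 F q (α (α.symm d))) = _
      rw [MulEquiv.apply_symm_apply]
    set x := ψ1 (b0 F q a) with hx
    set y := ψ2 (b0 F q d) with hy
    have hxA : x ∈ A := by rw [← S1.hA]; exact ⟨a, rfl⟩
    -- x y x⁻¹ lies in B
    obtain ⟨v', hv'⟩ := tor_norm0 hF haT v
    obtain ⟨d', hd'⟩ : ∃ d', x * y * x⁻¹ = ψ2 (b0 F q d') := by
      refine ⟨α v', ?_⟩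
      rw [hα, ← hv', map_mul, map_mul, map_inv, hvd]
    -- y⁻¹ x y x⁻¹ centralises C
    have hcent : ∀ k, ψ2 (b0 F q (d⁻¹ * d')) * ψ2 (b1 F q k) = ψ2 (b1 F q k) * ψ2 (b0 F q (d⁻¹ * d')) := by
      intro k
      obtain ⟨k', hk'⟩ := tor_norm0 hF hd k
      have hcC : ψ2 (b1 F q k) ∈ C := by rw [← S2.hB]; exact ⟨k, rfl⟩
      have hcC' : ψ2 (b1 F q k') ∈ C := by rw [← S2.hB]; exact ⟨k', rfl⟩
      have c1 := hAC x hxA _ hcC
      have c2 := hAC x hxA _ hcC'
      have e1 : y * ψ2 (b1 F q k) * y⁻¹ = ψ2 (b1 F q k') := by rw [hy, ← hk', map_mul, map_mul, map_inv]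
      rw [map_mul (b0 F q), map_mul ψ2, ← hd', map_inv, map_inv, ← hy]
      set c := ψ2 (b1 F q k)
      set c' := ψ2 (b1 F q k')
      have e2 : y * c = c' * y := by rw [← e1]; group
      have e3 : x⁻¹ * c = c * x⁻¹ := by
        rw [inv_mul_eq_iff_eq_mul, ← mul_assoc, eq_mul_inv_iff_mul_eq, c1]
      have e4 : x * c' = c' * x := c2
      have e5 : y⁻¹ * c' = c * y⁻¹ := by
        rw [inv_mul_eq_iff_eq_mul, ← mul_assoc, eq_mul_inv_iff_mul_eq, e2]
      calc y⁻¹ * (x * y * x⁻¹) * c = y⁻¹ * x * y * (x⁻¹ * c) := by group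
        _ = y⁻¹ * x * (y * c) * x⁻¹ := by rw [e3]; group
        _ = y⁻¹ * (x * c') * y * x⁻¹ := by rw [e2]; group
        _ = (y⁻¹ * c') * x * y * x⁻¹ := by rw [e4]; group
        _ = c * (y⁻¹ * (x * y * x⁻¹)) := by rw [e5]; group
    have h1 : d⁻¹ * d' = 1 := S2.eq_one_of_comm hF hcent
    have h2 : d' = d := (inv_mul_eq_one.1 h1).symm
    rw [h2, ← hy] at hd'
    have h3 : x * y = y * x := by
      conv_rhs => rw [← hd']
      group
    exact S1.tor_of_comm hF hζ hζ2 (by rw [hvd]; exact h3)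
  -- α preserves the torus
  have hT : (Tor F q).map α.symm.toMonoidHom = Tor F q := by
    apply Subgroup.eq_of_le_of_card_ge
    · rintro _ ⟨d, hd, rfl⟩
      exact claim d hd
    · rw [Subgroup.card_map_of_injective (K := Tor F q) (f := α.symm.toMonoidHom) α.symm.injective]
  have hαT : ∀ s ∈ Tor F q, α s ∈ Tor F q := by
    intro s hs
    rw [← hT] at hs
    obtain ⟨t, ht, rfl⟩ := hs
    show α (α.symm t) ∈ Tor F q
    rw [MulEquiv.apply_symm_apply]
    exact ht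
  obtain ⟨d, hd, τ, hαd⟩ := aut_normal hF α hαT
  let d3 : Fin 3 → F := ![d 0, d 1, 1]
  have hd3 : ∀ i, d3 i * sig hF (d3 i) = 1 := by
    intro i
    fin_cases i
    · exact hd 0
    · exact hd 1
    · show (1 : F) * sig hF 1 = 1
      rw [map_one, one_mul]
  let β : SU 3 F q →* SU 3 F q := dt hF d3 hd3 τ
  have hβb : Function.Bijective β := dt_bij hF d3 hd3 τ
  have hβ0 : ∀ s, β (b0 F q s) = b0 F q (α s) := by
    intro s
    show dt hF d3 hd3 τ (blk _ s) = blk _ (α s)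
    rw [dt_blk, hαd]
    congr 1
    apply Subtype.ext; apply Subtype.ext
    rw [dt_coe, dt_coe]
    congr 1
    funext i
    fin_cases i <;> rfl
  have hβ1 : ∀ s, β (b1 F q s) = b1 F q (dt hF (d3 ∘ sh 1 (show 1 + 2 ≤ 3 by omega)) (fun i => hd3 _) τ s) := fun s => dt_blk hF _ _ _ _ _
  refine ⟨ψ2.comp β, ?_, ?_, ?_, ?_, ?_⟩
  · intro s
    rw [MonoidHom.comp_apply, hβ0, hα]
  · rw [← S2.hA]
    ext g
    constructor
    · rintro ⟨s, rfl⟩
      exact ⟨α s, by rw [MonoidHom.comp_apply, MonoidHom.comp_apply, MonoidHom.comp_apply, hβ0]⟩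
    · rintro ⟨s, rfl⟩
      refine ⟨α.symm s, ?_⟩
      rw [MonoidHom.comp_apply, MonoidHom.comp_apply, hβ0]
      show ψ2 (b0 F q (α (α.symm s))) = _
      rw [MulEquiv.apply_symm_apply]; rfl
  · rw [← S2.hB]
    ext g
    constructor
    · rintro ⟨s, rfl⟩
      exact ⟨_, by rw [MonoidHom.comp_apply, MonoidHom.comp_apply, MonoidHom.comp_apply, hβ1]⟩
    · rintro ⟨s, rfl⟩
      obtain ⟨t, ht⟩ := (dt_bij hF (d3 ∘ sh 1 (show 1 + 2 ≤ 3 by omega)) (fun i => hd3 _) τ).2 s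
      refine ⟨t, ?_⟩
      rw [MonoidHom.comp_apply, MonoidHom.comp_apply, hβ1, ht]; rfl
  · rw [← S2.hV]
    ext g
    constructor
    · rintro ⟨s, rfl⟩
      exact ⟨β s, rfl⟩
    · rintro ⟨s, rfl⟩
      obtain ⟨t, ht⟩ := hβb.2 s
      exact ⟨t, by rw [MonoidHom.comp_apply, ht]⟩
  · intro s hs
    have h1 : β s ∈ Subgroup.center (SU 3 F q) := S2.hk hs
    rw [Subgroup.mem_center_iff] at h1 ⊢
    intro g
    apply hβb.1
    rw [map_mul, map_mul, h1]

end Cfsg.Agent.Lib.Phan
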