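import Cfsg.Agent.Lib.PhanH

/-! The induction for Phan systems (helper38). -/

set_option autoImplicit false
set_option linter.unusedSectionVars false
set_option linter.unusedSimpArgs false

namespace Cfsg.Agent.Lib.Phan

open Module Matrix Cfsg Cfsg.Agent.Lib.UnTrans Cfsg.Agent.Lib.UnBridge Cfsg.Agent.Lib.ClUnSimple

variable {F : Type*} [Field F] {q : ℕ} {G : Type*} [Group G] [Fintype F] (hF : Fintype.card F = q ^ 2)
include hF

omit [Fintype F] hF in
theorem blk_self {n : ℕ} (h : 0 + n ≤ n) (s : SU n F q) : blk (sh 0 h) s = s := by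
  apply SU_ext
  intro v
  rw [blk_coe]
  have e : ∀ w : Fin n → F, ext (sh 0 h) w = w := by
    intro w
    funext i
    have h3 := ext_in (sh 0 h) w i
    have h4 : sh 0 h i = i := Fin.ext (by rw [sh_apply]; simp)
    rw [h4] at h3
    exact h3
  have h5 := blkM_ext (sh 0 h) s.1.1 v
  rw [e, e] at h5
  exact h5

/-- `SU_k` is generated by consecutive blocks -/
theorem gen_blocks (h3 : 3 ≤ q) (k : ℕ) (S : Subgroup (SU (k + 2) F q))
    (hS : ∀ (i : ℕ) (h : i + 2 ≤ k + 2) (s : SU 2 F q), blk (sh i h) s ∈ S) : S = ⊤ := by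
  induction k with
  | zero =>
    rw [eq_top_iff]
    intro s _
    have h1 := hS 0 (by omega) s
    have h2 : (blk (sh 0 (show 0 + 2 ≤ 0 + 2 by omega)) s : SU (0 + 2) F q) = s := by
      apply SU_ext
      intro v
      rw [blk_coe]
      have e : ∀ w : Fin 2 → F, ext (sh 0 (show 0 + 2 ≤ 0 + 2 by omega)) w = w := by
        intro w
        funext i
        have h3 := ext_in (sh 0 (show 0 + 2 ≤ 0 + 2 by omega)) w i
        have h4 : sh 0 (show 0 + 2 ≤ 0 + 2 by omega) i = i := Fin.ext (by rw [sh_apply]; simp)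
        rw [h4] at h3
        exact h3
      have h5 := blkM_ext (sh 0 (show 0 + 2 ≤ 0 + 2 by omega)) s.1.1 v
      rw [e, e] at h5
      exact h5
    rw [h2] at h1
    exact h1
  | succ k ih =>
    rw [eq_top_iff, ← gen_step3 (m := k) hF h3, sup_le_iff]
    constructor
    · rintro _ ⟨h, rfl⟩
      have h1 : S.comap (blk (sh 0 (show 0 + (k + 2) ≤ k + 3 by omega))) = ⊤ := by
        apply ih
        intro i hi s
        show blk (sh 0 (show 0 + (k + 2) ≤ k + 3 by omega)) (blk (sh i hi) s) ∈ S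
        rw [blk_sh, sh_congr (show 0 + i = i by omega) (by omega) (by omega)]
        exact hS i (by omega) s
      have h2 : h ∈ S.comap (blk (sh 0 (show 0 + (k + 2) ≤ k + 3 by omega))) := by rw [h1]; trivial
      exact h2
    · rintro _ ⟨s, rfl⟩
      exact hS (k + 1) (by omega) s

/-- **the induction**: a Phan system of length `m + 2 ≥ 2` -/
theorem phan_ind (h3 : 3 ≤ q) (U : ℕ → Subgroup G) (V : ℕ → Subgroup G) (N : ℕ)
    (hstd : ∀ i, i + 2 ≤ N → ∃ ψ : SU 3 F q →* G, Std ψ (U i) (U (i + 1)) (V i))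
    (hcomm : ∀ i j, i + 2 ≤ j → j < N → ∀ x ∈ U i, ∀ y ∈ U j, x * y = y * x)
    (m0 : ℕ) (hm0 : 1 ≤ m0) (hq : m0 = 1 → 4 ≤ q)
    (hbase : ∃ Φ : SU (m0 + 2) F q →* G, ∀ i (hi : i + 3 ≤ m0 + 2), Std (Φ.comp (blk (sh i hi))) (U i) (U (i + 1)) (V i))
    (m : ℕ) (hm : m0 ≤ m) (hmN : m + 1 ≤ N) :
    ∃ Φ : SU (m + 2) F q →* G, ∀ i (hi : i + 3 ≤ m + 2), Std (Φ.comp (blk (sh i hi))) (U i) (U (i + 1)) (V i) := by
  induction m, hm using Nat.le_induction with
  | base => exact hbase
  | succ m hm ih =>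
    obtain ⟨Φ, hΦ⟩ := ih (by omega)
    obtain ⟨ψ2, hψ2⟩ := hstd m (by omega)
    have hm1 : 1 ≤ m := by omega
    obtain ⟨m', rfl⟩ : ∃ m', m = m' + 1 := ⟨m - 1, by omega⟩
    have S1 := hΦ m' (by omega)
    obtain ⟨ψ, hψ, Sψ⟩ := align hF S1 hψ2 (hcomm m' (m' + 2) le_rfl (by omega))
    have hUr : ∀ i (hi : i + 2 ≤ m' + 1 + 2) (s : SU 2 F q), Φ (blk (sh i hi) s) ∈ U i := by
      intro i hi s
      by_cases h : i + 3 ≤ m' + 1 + 2
      · have h4 := (hΦ i h).hA
        rw [← h4]
        refine ⟨s, ?_⟩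
        show Φ (blk _ (blk _ s)) = _
        rw [blk_sh]
        congr 2
      · have h4 := S1.hB
        have h5 : i = m' + 1 := by omega
        subst h5
        rw [← h4]
        refine ⟨s, ?_⟩
        show Φ (blk _ (blk _ s)) = _
        rw [blk_sh]
    have hstep := step hF (m := m' + 1) (by omega) h3 (by intro h; apply hq; omega) Φ ψ (by
      intro s
      have h4 := hψ s
      show _ = ψ (b0 F q s)
      rw [h4]
      show _ = Φ (blk _ (blk _ s))
      rw [blk_sh]) (by
      intro h k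
      have hk : ψ (b1 F q k) ∈ U (m' + 2) := by
        rw [← Sψ.hB]; exact ⟨k, rfl⟩
      -- the centraliser
      let Z : Subgroup (SU (m' + 2) F q) := (Subgroup.centralizer {ψ (b1 F q k)}).comap (Φ.comp (blk (sh 0 (show 0 + (m' + 2) ≤ m' + 3 by omega))))
      have hZ : Z = ⊤ := by
        apply gen_blocks hF h3
        intro i hi s
        show Φ (blk _ (blk _ s)) ∈ Subgroup.centralizer {ψ (b1 F q k)}
        rw [blk_sh, Subgroup.mem_centralizer_singleton_iff]
        have h6 : Φ (blk (sh (0 + i) (show 0 + i + 2 ≤ m' + 3 by omega)) s) ∈ U i := by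
          rw [sh_congr (show 0 + i = i by omega) (by omega) (by omega)]
          exact hUr i (by omega) s
        exact hcomm i (m' + 2) (by omega) (by omega) _ h6 _ hk
      have h7 : h ∈ Z := by rw [hZ]; trivial
      have h8 : Φ (blk (sh 0 (show 0 + (m' + 2) ≤ m' + 3 by omega)) h) ∈ Subgroup.centralizer {ψ (b1 F q k)} := h7
      rw [Subgroup.mem_centralizer_singleton_iff] at h8
      exact h8)
    obtain ⟨Φ', h1, h2⟩ := hstep
    refine ⟨Φ', ?_⟩
    intro i hi
    by_cases h : i + 3 ≤ m' + 1 + 2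
    · have h4 := hΦ i h
      have h5 : Φ'.comp (blk (sh i hi)) = Φ.comp (blk (sh i h)) := by
        ext c
        show Φ' (blk _ c) = Φ (blk _ c)
        rw [← h1, blk_sh, sh_congr (show 0 + i = i by omega) (by omega) hi]
      rw [h5]; exact h4
    · have h5 : i = m' + 1 := by omega
      subst h5
      have h6 : Φ'.comp (blk (sh (m' + 1) hi)) = ψ := by
        ext c
        exact h2 c
      rw [h6]; exact Sψ

omit [Fintype F] hF in
/-- `suBlock` is the range of the block embedding -/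
theorem suBlock_eq [Fintype F] (hF : Fintype.card F = q ^ 2) {k n : ℕ} (j : Fin k ↪ Fin n) (s : Set (Fin n)) (hs : s = Set.range j) :
    suBlock n F q s = (blk j : SU k F q →* SU n F q).range := by
  subst hs
  apply le_antisymm
  · rw [suBlock, Subgroup.closure_le]
    intro A hA
    obtain ⟨B, hB⟩ := mem_blk hF j A (by
      intro a ha
      obtain ⟨h1, h2⟩ := hA a ha
      rw [Matrix.mulVec_single_one]
      funext b
      by_cases h : b = a
      · rw [h, Pi.single_eq_same]; exact h1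
      · rw [Pi.single_eq_of_ne h]; exact (h2 b h).2)
    exact ⟨B, hB⟩
  · rintro _ ⟨B, rfl⟩
    apply Subgroup.subset_closure
    intro a ha
    refine ⟨?_, fun b hb => ⟨?_, ?_⟩⟩
    · show blkM j B.1.1 a a = 1
      rw [blkM_oi _ _ ha, if_pos rfl]
    · show blkM j B.1.1 a b = 0
      rw [blkM_oi _ _ ha, if_neg (Ne.symm hb)]
    · show blkM j B.1.1 b a = 0
      rw [blkM_io _ _ ha, if_neg hb]

theorem suBlock01 : suBlock 3 F q {0, 1} = (b0 F q).range := by
  apply suBlock_eq hF
  ext a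
  constructor
  · intro ha
    rcases ha with rfl | ha
    · exact ⟨0, rfl⟩
    · rw [Set.mem_singleton_iff] at ha; rw [ha]; exact ⟨1, rfl⟩
  · rintro ⟨b, rfl⟩
    fin_cases b
    · exact Or.inl rfl
    · exact Or.inr rfl

theorem suBlock12 : suBlock 3 F q {1, 2} = (b1 F q).range := by
  apply suBlock_eq hF
  ext a
  constructor
  · intro ha
    rcases ha with rfl | ha
    · exact ⟨0, rfl⟩
    · rw [Set.mem_singleton_iff] at ha; rw [ha]; exact ⟨1, rfl⟩
  · rintro ⟨b, rfl⟩
    fin_cases b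
    · exact Or.inl rfl
    · exact Or.inr rfl

/-- standard pairs give homomorphisms -/
theorem exists_std {V A B : Subgroup G} (h : IsStandardUnitaryPair V A B F q) : ∃ ψ : SU 3 F q →* G, Std ψ A B V := by
  rcases h with ⟨ψ, h1, h2⟩ | ⟨ψ, h1, h2⟩
  · refine ⟨V.subtype.comp ψ.toMonoidHom, ?_, ?_, ?_, ?_⟩
    · rw [← h1, suBlock01 hF, MonoidHom.range_comp]
    · rw [← h2, suBlock12 hF, MonoidHom.range_comp]
    · rw [MonoidHom.range_comp, MonoidHom.range_eq_top.2 (show Function.Surjective ψ.toMonoidHom from ψ.surjective), ← MonoidHom.range_eq_map, Subgroup.range_subtype]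
    · intro x hx
      have h3 : ψ x = 1 := Subtype.ext hx
      have h4 : x = 1 := by rw [← ψ.symm_apply_apply x, h3, map_one]
      rw [h4]; exact one_mem _
  · refine ⟨V.subtype.comp (ψ.toMonoidHom.comp (QuotientGroup.mk' (Subgroup.center (SU 3 F q)))), ?_, ?_, ?_, ?_⟩
    · rw [← h1, suBlock01 hF, MonoidHom.range_comp]
    · rw [← h2, suBlock12 hF, MonoidHom.range_comp]
    · rw [MonoidHom.range_comp, MonoidHom.range_comp, MonoidHom.range_eq_top.2 (QuotientGroup.mk'_surjective _), ← MonoidHom.range_eq_map,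
        MonoidHom.range_eq_top.2 (show Function.Surjective ψ.toMonoidHom from ψ.surjective), ← MonoidHom.range_eq_map, Subgroup.range_subtype]
    · intro x hx
      have h3 : ψ (QuotientGroup.mk x) = 1 := Subtype.ext hx
      have h4 : (QuotientGroup.mk x : PSU 3 F q) = 1 := by rw [← ψ.symm_apply_apply (QuotientGroup.mk x), h3, map_one]
      exact (QuotientGroup.eq_one_iff x).1 h4

end Cfsg.Agent.Lib.Phan
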