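import Cfsg.Agent.Lib.PhanI

/-! Subgroups of `SU_3(q)` isomorphic to `SU_2(q)` are point stabilizers (helper38). -/

set_option autoImplicit false
set_option linter.unusedSectionVars false
set_option linter.unusedSimpArgs false

namespace Cfsg.Agent.Lib.Phan

open Module Matrix Cfsg Cfsg.Agent.Lib.UnTrans Cfsg.Agent.Lib.UnBridge Cfsg.Agent.Lib.ClUnSimple
open Cfsg.Agent.Lib.PSLAut (transvection_induction)

theorem tv_pow {K : Type*} [Field K] {p : ℕ} [CharP K p] {i j : Fin 2} (hij : i ≠ j) (a : K) :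
    (SpecialLinearGroup.transvection hij a : SpecialLinearGroup (Fin 2) K) ^ p = 1 := by
  have : ∀ k : ℕ, (SpecialLinearGroup.transvection hij a : SpecialLinearGroup (Fin 2) K) ^ k = SpecialLinearGroup.transvection hij (k * a) := by
    intro k
    induction k with
    | zero => simp
    | succ k ih =>
      rw [pow_succ, ih]
      apply Subtype.ext
      show Matrix.transvection i j _ * Matrix.transvection i j _ = Matrix.transvection i j _
      rw [Matrix.transvection_mul_transvection_same (h := hij)]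
      congr 1
      push_cast; ring
  rw [this, CharP.cast_eq_zero, zero_mul]
  simp

theorem tv_mul {K : Type*} [Field K] {i j : Fin 2} (hij : i ≠ j) (a b : K) :
    (SpecialLinearGroup.transvection hij a * SpecialLinearGroup.transvection hij b : SpecialLinearGroup (Fin 2) K) =
      SpecialLinearGroup.transvection hij (a + b) := by
  apply Subtype.ext
  show Matrix.transvection i j _ * Matrix.transvection i j _ = Matrix.transvection i j _
  rw [Matrix.transvection_mul_transvection_same (h := hij)]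

variable {F : Type*} [Field F] {q : ℕ} [Fintype F] (hF : Fintype.card F = q ^ 2)

/-- the stabilizer of a vector -/
def stV (q : ℕ) (v : Fin 3 → F) : Subgroup (SU 3 F q) where
  carrier := {g | g.1.1 *ᵥ v = v}
  mul_mem' := by
    intro a b ha hb
    show (a * b).1.1 *ᵥ v = v
    rw [mul_mulVec', show b.1.1 *ᵥ v = v from hb]; exact ha
  one_mem' := Matrix.one_mulVec v
  inv_mem' := by
    intro a ha
    show (a⁻¹).1.1 *ᵥ v = v
    conv_lhs => rw [← show a.1.1 *ᵥ v = v from ha]
    exact inv_mulVec' a v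

theorem mem_stV {v : Fin 3 → F} {g : SU 3 F q} : g ∈ stV q v ↔ g.1.1 *ᵥ v = v := Iff.rfl

theorem mulVec_inv' (A : SU 3 F q) (u : Fin 3 → F) : A.1.1 *ᵥ (A⁻¹.1.1 *ᵥ u) = u := by
  have := inv_mulVec' A⁻¹ u
  rwa [inv_inv] at this

include hF

theorem stV_e2 : stV q (Pi.single 2 1 : Fin 3 → F) = (b0 F q).range := by
  apply le_antisymm
  · intro g hg
    obtain ⟨s, hs⟩ := mem_blk hF (sh 0 (show 0 + 2 ≤ 3 by omega)) g (by
      intro a ha
      have h3 := range_sh ha
      have h4 : a = 2 := Fin.ext (by have := a.2; show a.1 = 2; omega)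
      rw [h4]; exact hg)
    exact ⟨s, hs⟩
  · rintro _ ⟨s, rfl⟩
    show (b0 F q s).1.1 *ᵥ _ = _
    rw [b0_mat, Matrix.mulVec_single_one]
    funext i
    fin_cases i <;> simp

theorem stV_e0 : stV q (Pi.single 0 1 : Fin 3 → F) = (b1 F q).range := by
  apply le_antisymm
  · intro g hg
    obtain ⟨s, hs⟩ := mem_blk hF (sh 1 (show 1 + 2 ≤ 3 by omega)) g (by
      intro a ha
      have h3 := range_sh ha
      have h4 : a = 0 := Fin.ext (by have := a.2; show a.1 = 0; omega)
      rw [h4]; exact hg)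
    exact ⟨s, hs⟩
  · rintro _ ⟨s, rfl⟩
    show (b1 F q s).1.1 *ᵥ _ = _
    rw [b1_mat, Matrix.mulVec_single_one]
    funext i
    fin_cases i <;> simp

theorem stV_conj (g : SU 3 F q) (v : Fin 3 → F) : stV q (g.1.1 *ᵥ v) = (stV q v).map (MulAut.conj g).toMonoidHom := by
  ext x
  constructor
  · intro hx
    refine ⟨g⁻¹ * x * g, ?_, ?_⟩
    · show (g⁻¹ * x * g).1.1 *ᵥ v = v
      rw [mul_mulVec', mul_mulVec', show x.1.1 *ᵥ (g.1.1 *ᵥ v) = g.1.1 *ᵥ v from hx, inv_mulVec']
    · show g * (g⁻¹ * x * g) * g⁻¹ = x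
      group
  · rintro ⟨y, hy, rfl⟩
    show (g * y * g⁻¹).1.1 *ᵥ (g.1.1 *ᵥ v) = g.1.1 *ᵥ v
    rw [mul_mulVec', mul_mulVec', inv_mulVec', show y.1.1 *ᵥ v = v from hy]

theorem card_stV {v : Fin 3 → F} (hv : hermForm 3 F q v v = 1) : Nat.card (stV q v) = Nat.card (SU 2 F q) := by
  obtain ⟨g, hg⟩ := SU_trans hF (k := 3) (by norm_num) (x := Pi.single 2 1) (by rw [herm_ss hF, if_pos rfl]) hv
  rw [← hg, stV_conj hF, Subgroup.card_map_of_injective (MulAut.conj g).injective, stV_e2 hF]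
  exact (Nat.card_congr (MonoidHom.ofInjective b0_inj).toEquiv).symm

/-- odd characteristic -/
theorem fixed_odd {K : Type*} [Field K] {p : ℕ} [Fact p.Prime] [CharP K p] [CharP F p] (h2 : (2 : F) ≠ 0)
    (h2K : (2 : K) ≠ 0)
    (θ : SpecialLinearGroup (Fin 2) K →* SU 3 F q) (hθ : Function.Injective θ) :
    ∃ v : Fin 3 → F, hermForm 3 F q v v = 1 ∧ ∀ x, (θ x).1.1 *ᵥ v = v := by
  have H := herm_HS 3 hF
  have hnd := herm_nd 3 hF
  set z0 : SpecialLinearGroup (Fin 2) K := -1 with hz0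
  have hz0c : ∀ x, x * z0 = z0 * x := by
    intro x
    apply Subtype.ext
    show x.1 * (-1 : Matrix (Fin 2) (Fin 2) K) = (-1 : Matrix (Fin 2) (Fin 2) K) * x.1
    rw [mul_neg, neg_mul, mul_one, one_mul]
  have hz02 : z0 * z0 = 1 := by
    apply Subtype.ext
    show (-1 : Matrix (Fin 2) (Fin 2) K) * (-1 : Matrix (Fin 2) (Fin 2) K) = 1
    rw [neg_mul_neg, mul_one]
  have hz01 : z0 ≠ 1 := by
    intro h
    have h1 := congrArg (fun s : SpecialLinearGroup (Fin 2) K => s.1 0 0) h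
    have h3 : (-1 : K) = 1 := by simpa [hz0] using h1
    apply h2K
    linear_combination -h3
  set Z := θ z0 with hZ
  have hZ2 : ∀ u, Z.1.1 *ᵥ (Z.1.1 *ᵥ u) = u := by
    intro u
    rw [← mul_mulVec', hZ, ← map_mul, hz02, map_one]
    exact Matrix.one_mulVec u
  have hZ1 : Z ≠ 1 := fun h => hz01 (hθ (h.trans (map_one θ).symm))
  -- a fixed vector
  have hex : ∃ x, x + Z.1.1 *ᵥ x ≠ 0 := by
    by_contra hcon
    push Not at hcon
    have h1 : Z.1.1 = -1 := by
      apply Matrix.ext_of_mulVec_single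
      intro i
      rw [Matrix.neg_mulVec, Matrix.one_mulVec]
      exact eq_neg_of_add_eq_zero_right (hcon _)
    have h3 := Z.1.2
    rw [h1, Matrix.det_neg, Matrix.det_one] at h3
    simp at h3
    apply h2
    have h4 : (-1 : F) ^ 3 = -1 := by ring
    rw [h3] at h4
    linear_combination h4
  obtain ⟨x, hx⟩ := hex
  let W : Submodule F (Fin 3 → F) := LinearMap.ker (Matrix.mulVecLin Z.1.1 - LinearMap.id)
  have hW : ∀ u, u ∈ W ↔ Z.1.1 *ᵥ u = u := by
    intro u
    rw [LinearMap.mem_ker, LinearMap.sub_apply, Matrix.mulVecLin_apply, LinearMap.id_apply, sub_eq_zero]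
  have hplus : ∀ u, u + Z.1.1 *ᵥ u ∈ W := by
    intro u
    rw [hW, Matrix.mulVec_add, hZ2, add_comm]
  have han : ∃ a ∈ W, hermForm 3 F q a a ≠ 0 := by
    by_contra hcon
    push Not at hcon
    obtain ⟨y, -, hy⟩ := hnd (x + Z.1.1 *ᵥ x) trivial hx
    have h1 := H.eq_zero_of_iso hcon (hplus x) (hplus y)
    have h3 : hermForm 3 F q (x + Z.1.1 *ᵥ x) (Z.1.1 *ᵥ y) = hermForm 3 F q (x + Z.1.1 *ᵥ x) y := by
      rw [← herm_blk' hF Z (x + Z.1.1 *ᵥ x) y]
      congr 1
      exact ((hW _).1 (hplus x)).symm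
    rw [H.add_right, h3] at h1
    have : (2 : F) * hermForm 3 F q (x + Z.1.1 *ᵥ x) y = 0 := by linear_combination h1
    rcases mul_eq_zero.1 this with h | h
    · exact h2 h
    · exact hy h
  obtain ⟨a, ha, haa⟩ := han
  obtain ⟨c, hc, hv⟩ := nrm_scale H haa
  set v := c • a with hvdef
  have hZv : Z.1.1 *ᵥ v = v := by rw [hvdef, Matrix.mulVec_smul, (hW a).1 ha]
  obtain ⟨g, hg⟩ := SU_trans hF (k := 3) (by norm_num) (x := Pi.single 2 1) (by rw [herm_ss hF, if_pos rfl]) hv
  -- g⁻¹ Z g = b0 s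
  have h5 : g⁻¹ * Z * g ∈ stV q (Pi.single 2 1 : Fin 3 → F) := by
    show (g⁻¹ * Z * g).1.1 *ᵥ _ = _
    rw [mul_mulVec', mul_mulVec', hg, hZv, ← hg, inv_mulVec']
  rw [stV_e2 hF] at h5
  obtain ⟨s, hs⟩ := h5
  have hs2 : s * s = 1 := by
    apply b0_inj
    rw [map_mul, hs, map_one, show g⁻¹ * Z * g * (g⁻¹ * Z * g) = g⁻¹ * (Z * Z) * g by group, hZ, ← map_mul, hz02, map_one]
    group
  have hs1 : s ≠ 1 := by
    intro h
    rw [h, map_one] at hs
    apply hZ1
    have : Z = g * (g⁻¹ * Z * g) * g⁻¹ := by group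
    rw [this, ← hs]; group
  obtain ⟨e1, e2⟩ := su2_entries hF s
  have hd := s.1.2
  rw [Matrix.det_fin_two] at hd
  have hss : ∀ i j, s.1.1 i 0 * s.1.1 0 j + s.1.1 i 1 * s.1.1 1 j = (1 : Matrix (Fin 2) (Fin 2) F) i j := by
    intro i j
    have h6 : (s * s).1.1 i j = (1 : SU 2 F q).1.1 i j := by rw [hs2]
    have h7 : (s * s).1.1 = s.1.1 * s.1.1 := rfl
    rw [h7, Matrix.mul_apply, Fin.sum_univ_two] at h6
    exact h6
  have s00 := hss 0 0
  have s01 := hss 0 1
  have s10 := hss 1 0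
  have s11 := hss 1 1
  simp at s00 s01 s10 s11
  -- trace is nonzero : s² - (tr s) s + 1 = 0 → (tr s) s = 2
  have t00 : (s.1.1 0 0 + s.1.1 1 1) * s.1.1 0 0 = 2 := by linear_combination s00 + hd
  have t01 : (s.1.1 0 0 + s.1.1 1 1) * s.1.1 0 1 = 0 := by linear_combination s01
  have t10 : (s.1.1 0 0 + s.1.1 1 1) * s.1.1 1 0 = 0 := by linear_combination s10
  have t11 : (s.1.1 0 0 + s.1.1 1 1) * s.1.1 1 1 = 2 := by linear_combination s11 + hd
  have htr : s.1.1 0 0 + s.1.1 1 1 ≠ 0 := by intro h; rw [h, zero_mul] at t00; exact h2 t00.symm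
  have u01 : s.1.1 0 1 = 0 := (mul_eq_zero.1 t01).resolve_left htr
  have u10 : s.1.1 1 0 = 0 := (mul_eq_zero.1 t10).resolve_left htr
  have u00 : s.1.1 0 0 = s.1.1 1 1 := mul_left_cancel₀ htr (t00.trans t11.symm)
  have u1 : s.1.1 1 1 = -1 := by
    have h6 : (s.1.1 1 1 - 1) * (s.1.1 1 1 + 1) = 0 := by rw [u10, zero_mul, zero_add] at s11; linear_combination s11
    rcases mul_eq_zero.1 h6 with h7 | h7
    · exfalso
      apply hs1
      have h8 : s.1.1 1 1 = 1 := sub_eq_zero.1 h7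
      apply Subtype.ext; apply Subtype.ext
      ext i j
      fin_cases i <;> fin_cases j
      · show s.1.1 0 0 = 1; rw [u00, h8]
      · exact u01
      · exact u10
      · exact h8
    · exact eq_neg_of_add_eq_zero_left h7
  -- each θ x preserves the line of v
  have hline : ∀ x, ∃ c : F, (θ x).1.1 *ᵥ v = c • v := by
    intro x
    set u := g⁻¹.1.1 *ᵥ ((θ x).1.1 *ᵥ v) with hu
    have hgu : g.1.1 *ᵥ u = (θ x).1.1 *ᵥ v := mulVec_inv' g _
    have h6 : (b0 F q s).1.1 *ᵥ u = u := by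
      rw [hs, mul_mulVec', mul_mulVec', hgu, ← mul_mulVec' Z, hZ, ← map_mul, ← hz0c, map_mul, mul_mulVec', ← hZ, hZv]
    rw [b0_mat, u00, u01, u10, u1] at h6
    have h60 := congrFun h6 0
    have h61 := congrFun h6 1
    simp [Matrix.mulVec, dotProduct, Fin.sum_univ_three] at h60 h61
    have hu0 : u 0 = 0 := by
      have : (2 : F) * u 0 = 0 := by linear_combination -h60
      exact (mul_eq_zero.1 this).resolve_left h2
    have hu1 : u 1 = 0 := by
      have : (2 : F) * u 1 = 0 := by linear_combination -h61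
      exact (mul_eq_zero.1 this).resolve_left h2
    refine ⟨u 2, ?_⟩
    have h7 : u = u 2 • (Pi.single 2 1 : Fin 3 → F) := by
      funext i
      fin_cases i
      · simpa using hu0
      · simpa using hu1
      · simp
    rw [← hgu, h7, Matrix.mulVec_smul, hg]
    simp
  have hv0 : v ≠ 0 := by rintro h; rw [h, H.zero_left] at hv; exact zero_ne_one hv
  refine ⟨v, hv, fun x => ?_⟩
  refine transvection_induction (le_refl 2) (fun x => (θ x).1.1 *ᵥ v = v) ?_ ?_ x
  · intro i j hij a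
    obtain ⟨c, hc⟩ := hline (SpecialLinearGroup.transvection hij a)
    have h6 : ∀ k : ℕ, ((θ (SpecialLinearGroup.transvection hij a)) ^ k).1.1 *ᵥ v = c ^ k • v := by
      intro k
      induction k with
      | zero => rw [pow_zero, pow_zero, one_smul]; exact Matrix.one_mulVec v
      | succ k ih => rw [pow_succ, mul_mulVec', hc, Matrix.mulVec_smul, ih, smul_smul, pow_succ, mul_comm]
    have h7 := h6 p
    rw [← map_pow, tv_pow, map_one] at h7
    have h8 : v = c ^ p • v := by rw [← h7]; exact (Matrix.one_mulVec v).symm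
    have h9 : c ^ p = 1 := by
      by_contra hne
      apply hv0
      have : (c ^ p - 1) • v = 0 := by rw [sub_smul, one_smul, ← h8, sub_self]
      exact (smul_eq_zero.1 this).resolve_left (sub_ne_zero.2 hne)
    have h10 : c = 1 := by
      have : (c - 1) ^ p = 0 := by rw [sub_pow_char, h9, one_pow, sub_self]
      exact sub_eq_zero.1 (pow_eq_zero_iff (Fact.out : p.Prime).ne_zero |>.1 this)
    show (θ (SpecialLinearGroup.transvection hij a)).1.1 *ᵥ v = v
    rw [hc, h10, one_smul]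
  · intro A B hA hB
    show (θ (A * B)).1.1 *ᵥ v = v
    rw [map_mul, mul_mulVec', hB, hA]

/-- involutions in characteristic two are transvections -/
theorem invol_even (h2 : (2 : F) = 0) {x : SU 3 F q} (hx2 : x * x = 1) (hx1 : x ≠ 1) :
    ∃ w : Fin 3 → F, w ≠ 0 ∧ hermForm 3 F q w w = 0 ∧ (∀ v, ∃ c : F, x.1.1 *ᵥ v - v = c • w) ∧ (∃ v, x.1.1 *ᵥ v - v = w) ∧
      (∀ v, hermForm 3 F q v w = 0 → x.1.1 *ᵥ v = v) ∧ (∀ v, x.1.1 *ᵥ v = v → hermForm 3 F q v w = 0) := by
  have H := herm_HS 3 hF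
  have hnd := herm_nd 3 hF
  have hxx : ∀ u, x.1.1 *ᵥ (x.1.1 *ᵥ u) = u := by
    intro u
    rw [← mul_mulVec', hx2]
    exact Matrix.one_mulVec u
  have hadj : ∀ u v, hermForm 3 F q (x.1.1 *ᵥ u) v = hermForm 3 F q u (x.1.1 *ᵥ v) := by
    intro u v
    conv_lhs => rw [← hxx v]
    exact herm_blk' hF x _ _
  have hNadj : ∀ u v, hermForm 3 F q (x.1.1 *ᵥ u - u) v = hermForm 3 F q u (x.1.1 *ᵥ v - v) := by
    intro u v
    rw [H.sub_left, H.sub_right, hadj]
  have hiso : ∀ u v, hermForm 3 F q (x.1.1 *ᵥ u - u) (x.1.1 *ᵥ v - v) = 0 := by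
    intro u v
    rw [hNadj, Matrix.mulVec_sub, hxx]
    have : v - x.1.1 *ᵥ v - (x.1.1 *ᵥ v - v) = (2 : F) • (v - x.1.1 *ᵥ v) := by rw [two_smul]; abel
    rw [this, h2, zero_smul, H.zero_right]
  obtain ⟨v0, hv0⟩ : ∃ v, x.1.1 *ᵥ v ≠ v := by
    by_contra hcon
    push Not at hcon
    exact hx1 (SU_ext fun v => by rw [hcon]; exact (Matrix.one_mulVec v).symm)
  set w := x.1.1 *ᵥ v0 - v0 with hw
  have hw0 : w ≠ 0 := sub_ne_zero.2 hv0
  have hww : hermForm 3 F q w w = 0 := hiso v0 v0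
  have hspan : ∀ v, ∃ c : F, x.1.1 *ᵥ v - v = c • w := by
    intro v
    by_contra hcon
    push Not at hcon
    exact not_perp_of_three hF hww (hiso v v) hw0 hcon (hiso v0 v)
  refine ⟨w, hw0, hww, hspan, ⟨v0, rfl⟩, ?_, ?_⟩
  · intro v hv
    by_contra hne
    obtain ⟨y, -, hy⟩ := hnd (x.1.1 *ᵥ v - v) trivial (sub_ne_zero.2 hne)
    apply hy
    obtain ⟨c, hc⟩ := hspan y
    rw [hNadj, hc, H.smul_right, hv, mul_zero]
  · intro v hv
    rw [hw, ← hNadj, hv, sub_self, H.zero_left]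

/-- even characteristic -/
theorem fixed_even {K : Type*} [Field K] [CharP K 2] (h2 : (2 : F) = 0)
    (θ : SpecialLinearGroup (Fin 2) K →* SU 3 F q) (hθ : Function.Injective θ) :
    ∃ v : Fin 3 → F, hermForm 3 F q v v = 1 ∧ ∀ x, (θ x).1.1 *ᵥ v = v := by
  have H := herm_HS 3 hF
  have hnd := herm_nd 3 hF
  -- for each root group a center
  have hroot : ∀ (i j : Fin 2) (hij : i ≠ j), ∃ w : Fin 3 → F, w ≠ 0 ∧ hermForm 3 F q w w = 0 ∧
      (∀ v, ∃ c : F, (θ (SpecialLinearGroup.transvection hij 1)).1.1 *ᵥ v - v = c • w) ∧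
      (∀ v, hermForm 3 F q v w = 0 → ∀ a, (θ (SpecialLinearGroup.transvection hij a)).1.1 *ᵥ v = v) := by
    intro i j hij
    have hsq : ∀ a : K, θ (SpecialLinearGroup.transvection hij a) * θ (SpecialLinearGroup.transvection hij a) = 1 := by
      intro a
      rw [← map_mul, ← pow_two, tv_pow, map_one]
    have hne : ∀ a : K, a ≠ 0 → θ (SpecialLinearGroup.transvection hij a) ≠ 1 := by
      intro a ha h
      have h1 := hθ (h.trans (map_one θ).symm)
      have h3 := congrArg (fun s : SpecialLinearGroup (Fin 2) K => s.1 i j) h1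
      apply ha
      have h4 : (SpecialLinearGroup.transvection hij a : SpecialLinearGroup (Fin 2) K).1 i j = a := by
        show Matrix.transvection i j a i j = a
        rw [Matrix.transvection]
        simp [Matrix.one_apply, hij]
      have h5 : (1 : SpecialLinearGroup (Fin 2) K).1 i j = 0 := by
        show (1 : Matrix (Fin 2) (Fin 2) K) i j = 0
        simp [Matrix.one_apply, hij]
      exact h4.symm.trans (h3.trans h5)
    obtain ⟨w, hw0, hww, hsp, -, hfix, -⟩ := invol_even hF h2 (hsq 1) (hne 1 one_ne_zero)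
    refine ⟨w, hw0, hww, hsp, ?_⟩
    intro v hv a
    by_cases ha : a = 0
    · rw [ha]
      have : (SpecialLinearGroup.transvection hij (0 : K) : SpecialLinearGroup (Fin 2) K) = 1 := by simp
      rw [this, map_one]
      exact Matrix.one_mulVec v
    obtain ⟨w', hw0', hww', hsp', hex', hfix', hfx'⟩ := invol_even hF h2 (hsq a) (hne a ha)
    have hcomm : ∀ u, (θ (SpecialLinearGroup.transvection hij 1)).1.1 *ᵥ ((θ (SpecialLinearGroup.transvection hij a)).1.1 *ᵥ u) =
        (θ (SpecialLinearGroup.transvection hij a)).1.1 *ᵥ ((θ (SpecialLinearGroup.transvection hij 1)).1.1 *ᵥ u) := by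
      intro u
      rw [← mul_mulVec', ← mul_mulVec', ← map_mul, ← map_mul, tv_mul, tv_mul, add_comm]
    set X := θ (SpecialLinearGroup.transvection hij (1 : K)) with hX
    set Y := θ (SpecialLinearGroup.transvection hij a) with hY
    -- w' is fixed by X
    obtain ⟨v1, hv1⟩ := hex'
    have h5 : X.1.1 *ᵥ w' = Y.1.1 *ᵥ (X.1.1 *ᵥ v1) - X.1.1 *ᵥ v1 := by rw [← hv1, Matrix.mulVec_sub, hcomm]
    obtain ⟨c, hc⟩ := hsp' (X.1.1 *ᵥ v1)
    rw [hc] at h5
    obtain ⟨d, hd⟩ := hsp w'
    have hYw' : Y.1.1 *ᵥ w' = w' := hfix' w' hww'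
    -- proportionality
    have hprop : ∃ e : F, w = e • w' := by
      by_contra hcon
      push Not at hcon
      have hnp := not_perp_of_three hF hww' hww hw0' hcon
      -- X w' ≠ w'
      have h6 : X.1.1 *ᵥ w' ≠ w' := by
        intro h7
        obtain ⟨w2, -, -, hsp2, -, -, hfx2⟩ := invol_even hF h2 (hsq 1) (hne 1 one_ne_zero)
        -- use adjointness directly
        have h8 : ∀ u, hermForm 3 F q w' (X.1.1 *ᵥ u - u) = 0 := by
          intro u
          have h9 := herm_blk' hF X w' u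
          rw [h7] at h9
          rw [H.sub_right, h9, sub_self]
        obtain ⟨u, hu⟩ : ∃ u, X.1.1 *ᵥ u ≠ u := by
          by_contra hcon2
          push Not at hcon2
          exact hne 1 one_ne_zero (SU_ext fun v => by rw [hcon2]; exact (Matrix.one_mulVec v).symm)
        obtain ⟨f, hf⟩ := hsp u
        have hf0 : f ≠ 0 := by
          rintro rfl
          rw [zero_smul, sub_eq_zero] at hf
          exact hu hf
        have h10 := h8 u
        rw [hf, H.smul_right] at h10
        rcases mul_eq_zero.1 h10 with h11 | h11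
        · exact H.sigma_ne hf0 h11
        · exact hnp h11
      have h7 : d • w = (c - 1) • w' := by rw [← hd, h5, sub_smul, one_smul]
      have hd0 : d ≠ 0 := by
        rintro rfl
        rw [zero_smul, sub_eq_zero] at hd
        exact h6 hd
      apply hcon (d⁻¹ * (c - 1))
      rw [mul_smul, ← h7, smul_smul, inv_mul_cancel₀ hd0, one_smul]
    obtain ⟨e, he⟩ := hprop
    have he0 : e ≠ 0 := by rintro rfl; rw [zero_smul] at he; exact hw0 he
    apply hfix'
    have h6 : hermForm 3 F q v w = sig hF e * hermForm 3 F q v w' := by rw [he, H.smul_right]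
    rw [hv] at h6
    rcases mul_eq_zero.1 h6.symm with h7 | h7
    · exact absurd h7 (H.sigma_ne he0)
    · exact h7
  obtain ⟨w1, hw10, hww1, hsp1, hfix1⟩ := hroot 0 1 (by decide)
  obtain ⟨w2, hw20, hww2, hsp2, hfix2⟩ := hroot 1 0 (by decide)
  -- a common perpendicular vector
  have r1 := pp_rank H (⊤ : Submodule F (Fin 3 → F)) w1
  rw [finrank_top, Module.finrank_fin_fun] at r1
  have r2 := pp_rank H (pp H ⊤ w1) w2
  have h3 : pp H (pp H ⊤ w1) w2 ≠ ⊥ := by
    intro h
    rw [h, finrank_bot] at r2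
    omega
  obtain ⟨v, hv, hv0⟩ := (Submodule.ne_bot_iff _).1 h3
  rw [mem_pp, mem_pp] at hv
  -- v is anisotropic
  have hvv : hermForm 3 F q v v ≠ 0 := by
    intro hvv
    have hp1 : ∃ c : F, w1 = c • v := by
      by_contra hcon; push Not at hcon
      exact not_perp_of_three hF hvv hww1 hv0 hcon hv.1.2
    have hp2 : ∃ c : F, w2 = c • v := by
      by_contra hcon; push Not at hcon
      exact not_perp_of_three hF hvv hww2 hv0 hcon hv.2
    obtain ⟨c1, hc1⟩ := hp1
    obtain ⟨c2, hc2⟩ := hp2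
    -- the two transvections commute
    have hcm : θ (SpecialLinearGroup.transvection (show (0 : Fin 2) ≠ 1 by decide) (1 : K)) * θ (SpecialLinearGroup.transvection (show (1 : Fin 2) ≠ 0 by decide) (1 : K)) =
        θ (SpecialLinearGroup.transvection (show (1 : Fin 2) ≠ 0 by decide) (1 : K)) * θ (SpecialLinearGroup.transvection (show (0 : Fin 2) ≠ 1 by decide) (1 : K)) := by
      apply SU_ext
      intro u
      rw [mul_mulVec', mul_mulVec']
      obtain ⟨a1, ha1⟩ := hsp1 u
      obtain ⟨a2, ha2⟩ := hsp2 u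
      have f1 : (θ (SpecialLinearGroup.transvection (show (0 : Fin 2) ≠ 1 by decide) (1 : K))).1.1 *ᵥ v = v := hfix1 v hv.1.2 1
      have f2 : (θ (SpecialLinearGroup.transvection (show (1 : Fin 2) ≠ 0 by decide) (1 : K))).1.1 *ᵥ v = v := hfix2 v hv.2 1
      rw [sub_eq_iff_eq_add] at ha1 ha2
      rw [ha1, ha2, Matrix.mulVec_add, Matrix.mulVec_add, ha1, ha2, hc1, hc2, Matrix.mulVec_smul, Matrix.mulVec_smul, Matrix.mulVec_smul,
        Matrix.mulVec_smul, f1, f2]
      abel
    rw [← map_mul, ← map_mul] at hcm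
    have h5 := hθ hcm
    have h6 := congrArg (fun s : SpecialLinearGroup (Fin 2) K => s.1 0 0) h5
    have h7 : ∀ A B : SpecialLinearGroup (Fin 2) K, (A * B).1 0 0 = A.1 0 0 * B.1 0 0 + A.1 0 1 * B.1 1 0 := by
      intro A B
      show (A.1 * B.1) 0 0 = _
      rw [Matrix.mul_apply, Fin.sum_univ_two]
    have h6' := (h7 _ _).symm.trans (h6.trans (h7 _ _))
    have g1 : ∀ (i j : Fin 2) (hij : i ≠ j) (a b : Fin 2), (SpecialLinearGroup.transvection hij (1 : K) : SpecialLinearGroup (Fin 2) K).1 a b =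
        Matrix.transvection i j 1 a b := fun _ _ _ _ _ => rfl
    have g2 : (Matrix.transvection (0 : Fin 2) 1 (1 : K)) 0 0 = 1 := by simp [Matrix.transvection]
    have g3 : (Matrix.transvection (0 : Fin 2) 1 (1 : K)) 0 1 = 1 := by simp [Matrix.transvection]
    have g4 : (Matrix.transvection (0 : Fin 2) 1 (1 : K)) 1 0 = 0 := by simp [Matrix.transvection]
    have g5 : (Matrix.transvection (1 : Fin 2) 0 (1 : K)) 0 0 = 1 := by simp [Matrix.transvection]
    have g6 : (Matrix.transvection (1 : Fin 2) 0 (1 : K)) 0 1 = 0 := by simp [Matrix.transvection]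
    have g7 : (Matrix.transvection (1 : Fin 2) 0 (1 : K)) 1 0 = 1 := by simp [Matrix.transvection]
    have h8 : (Matrix.transvection (0 : Fin 2) 1 (1 : K)) 0 0 * (Matrix.transvection (1 : Fin 2) 0 (1 : K)) 0 0 +
        (Matrix.transvection (0 : Fin 2) 1 (1 : K)) 0 1 * (Matrix.transvection (1 : Fin 2) 0 (1 : K)) 1 0 =
        (Matrix.transvection (1 : Fin 2) 0 (1 : K)) 0 0 * (Matrix.transvection (0 : Fin 2) 1 (1 : K)) 0 0 +
        (Matrix.transvection (1 : Fin 2) 0 (1 : K)) 0 1 * (Matrix.transvection (0 : Fin 2) 1 (1 : K)) 1 0 := h6'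
    rw [g2, g3, g4, g5, g6, g7] at h8
    simp at h8
  obtain ⟨c, hc, hcv⟩ := nrm_scale H hvv
  refine ⟨c • v, hcv, fun x => ?_⟩
  refine transvection_induction (le_refl 2) (fun x => (θ x).1.1 *ᵥ (c • v) = c • v) ?_ ?_ x
  · intro i j hij a
    show (θ (SpecialLinearGroup.transvection hij a)).1.1 *ᵥ (c • v) = c • v
    rw [Matrix.mulVec_smul]
    congr 1
    have hcases : (i = 0 ∧ j = 1) ∨ (i = 1 ∧ j = 0) := by
      revert hij; fin_cases i <;> fin_cases j <;> simp
    rcases hcases with ⟨rfl, rfl⟩ | ⟨rfl, rfl⟩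
    · exact hfix1 v hv.1.2 a
    · exact hfix2 v hv.2 a
  · intro A B hA hB
    show (θ (A * B)).1.1 *ᵥ (c • v) = c • v
    rw [map_mul, mul_mulVec', hB, hA]

end Cfsg.Agent.Lib.Phan
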