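import Cfsg.Agent.Lib.PhanJ

/-! Generation pairs in `SU_3(q)` are standard (helper38). -/

set_option autoImplicit false
set_option linter.unusedSectionVars false
set_option linter.unusedSimpArgs false

namespace Cfsg.Agent.Lib.Phan

open Module Matrix Cfsg Cfsg.Agent.Lib.UnTrans Cfsg.Agent.Lib.UnBridge Cfsg.Agent.Lib.ClUnSimple

variable {F : Type*} [Field F] {q : ℕ} [Fintype F] (hF : Fintype.card F = q ^ 2)
include hF

theorem exists_unit (A : Subgroup (SU 3 F q)) (e : SU 2 F q ≃* A) : ∃ v : Fin 3 → F, hermForm 3 F q v v = 1 ∧ A = stV q v := by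
  obtain ⟨K, P, e', -⟩ := exists_phi hF
  let θ : SpecialLinearGroup (Fin 2) K →* SU 3 F q := A.subtype.comp (e.toMonoidHom.comp e'.toMonoidHom)
  have hθ : Function.Injective θ := A.subtype_injective.comp (e.injective.comp e'.injective)
  obtain ⟨p, hp⟩ := CharP.exists F
  haveI : Fact p.Prime := ⟨CharP.char_is_prime F p⟩
  haveI : CharP K p := by
    constructor
    intro x
    rw [← CharP.cast_eq_zero_iff F p x]
    constructor
    · intro h
      have := congrArg (fun y : K => (y : F)) h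
      simpa using this
    · intro h
      apply Subtype.ext
      simpa using h
  have key : ∃ v : Fin 3 → F, hermForm 3 F q v v = 1 ∧ ∀ x, (θ x).1.1 *ᵥ v = v := by
    by_cases h2 : (2 : F) = 0
    · have h3 : p ∣ 2 := by
        rw [← CharP.cast_eq_zero_iff F p]; exact_mod_cast h2
      have h4 : p = 2 := (Nat.prime_dvd_prime_iff_eq (Fact.out : p.Prime) Nat.prime_two).1 h3
      subst h4
      exact fixed_even hF h2 θ hθ
    · exact fixed_odd (p := p) hF h2 (by
        intro h; apply h2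
        exact congrArg (fun y : K => (y : F)) h) θ hθ
  obtain ⟨v, hv, hfix⟩ := key
  refine ⟨v, hv, ?_⟩
  have hle : A ≤ stV q v := by
    intro a ha
    have h1 := hfix (e'.symm (e.symm ⟨a, ha⟩))
    have h3 : θ (e'.symm (e.symm ⟨a, ha⟩)) = a := by
      show ((e (e' (e'.symm (e.symm ⟨a, ha⟩))) : A) : SU 3 F q) = a
      rw [MulEquiv.apply_symm_apply, MulEquiv.apply_symm_apply]
    rw [h3] at h1
    exact h1
  apply Subgroup.eq_of_le_of_card_ge hle
  rw [card_stV hF hv, Nat.card_congr e.toEquiv]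

theorem p_le_q {p : ℕ} [Fact p.Prime] [CharP F p] : p ≤ q := by
  have h1 : ((Fintype.card F : ℕ) : F) = 0 := Nat.cast_card_eq_zero F
  rw [hF, Nat.cast_pow] at h1
  have h2 : (q : F) = 0 := by
    exact pow_eq_zero_iff (two_ne_zero) |>.1 h1
  rw [CharP.cast_eq_zero_iff F p] at h2
  exact Nat.le_of_dvd (Nat.pos_of_ne_zero (q0 hF)) h2

theorem fix_line {v : Fin 3 → F} (hv : hermForm 3 F q v v = 1) {d : SU 3 F q} (hd : d ∈ stV q v) (ho : orderOf d = q + 1)
    {u : Fin 3 → F} (hu : d.1.1 *ᵥ u = u) : ∃ c : F, u = c • v := by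
  obtain ⟨g, hg⟩ := SU_trans hF (k := 3) (by norm_num) (x := Pi.single 2 1) (by rw [herm_ss hF, if_pos rfl]) hv
  have h5 : g⁻¹ * d * g ∈ stV q (Pi.single 2 1 : Fin 3 → F) := by
    show (g⁻¹ * d * g).1.1 *ᵥ _ = _
    rw [mul_mulVec', mul_mulVec', hg, mem_stV.1 hd, ← hg, inv_mulVec']
  rw [stV_e2 hF] at h5
  obtain ⟨s, hs⟩ := h5
  have hos : orderOf s = q + 1 := by
    rw [← orderOf_injective (b0 F q) b0_inj s, hs, ← ho]
    have h6 : g⁻¹ * d * g = MulAut.conj g⁻¹ d := by simp [MulAut.conj_apply]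
    rw [h6]
    exact orderOf_injective (MulAut.conj g⁻¹).toMonoidHom (MulAut.conj g⁻¹).injective d
  set w := g⁻¹.1.1 *ᵥ u with hw
  have hgw : g.1.1 *ᵥ w = u := mulVec_inv' g _
  have h6 : (b0 F q s).1.1 *ᵥ w = w := by
    rw [hs, mul_mulVec', mul_mulVec', hgw, hu]
  have h60 := congrFun h6 0
  have h61 := congrFun h6 1
  rw [b0_mat] at h60 h61
  simp [Matrix.mulVec, dotProduct, Fin.sum_univ_three] at h60 h61
  have hw01 : w 0 = 0 ∧ w 1 = 0 := by
    by_contra hcon
    have hdet := s.1.2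
    rw [Matrix.det_fin_two] at hdet
    have hd1 : (s.1.1 0 0 - 1) * (s.1.1 1 1 - 1) - s.1.1 0 1 * s.1.1 1 0 = 0 := by
      have e0 : (s.1.1 0 0 - 1) * w 0 + s.1.1 0 1 * w 1 = 0 := by linear_combination h60
      have e1 : s.1.1 1 0 * w 0 + (s.1.1 1 1 - 1) * w 1 = 0 := by linear_combination h61
      have f0 : ((s.1.1 0 0 - 1) * (s.1.1 1 1 - 1) - s.1.1 0 1 * s.1.1 1 0) * w 0 = 0 := by
        linear_combination (s.1.1 1 1 - 1) * e0 - s.1.1 0 1 * e1
      have f1 : ((s.1.1 0 0 - 1) * (s.1.1 1 1 - 1) - s.1.1 0 1 * s.1.1 1 0) * w 1 = 0 := by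
        linear_combination (s.1.1 0 0 - 1) * e1 - s.1.1 1 0 * e0
      by_contra hne
      exact hcon ⟨(mul_eq_zero.1 f0).resolve_left hne, (mul_eq_zero.1 f1).resolve_left hne⟩
    have htr : s.1.1 0 0 + s.1.1 1 1 = 2 := by linear_combination hdet - hd1
    have hsq : (s.1.1 - 1) ^ 2 = 0 := by
      rw [pow_two]
      ext i j
      rw [Matrix.mul_apply, Fin.sum_univ_two]
      fin_cases i <;> fin_cases j <;> simp [Matrix.one_apply]
      · linear_combination (s.1.1 0 0) * htr - hdet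
      · linear_combination (s.1.1 0 1) * htr
      · linear_combination (s.1.1 1 0) * htr
      · linear_combination (s.1.1 1 1) * htr - hdet
    obtain ⟨p, hp⟩ := CharP.exists F
    haveI : Fact p.Prime := ⟨CharP.char_is_prime F p⟩
    haveI : CharP (Matrix (Fin 2) (Fin 2) F) p := inferInstance
    have hsp : s ^ p = 1 := by
      apply Subtype.ext; apply Subtype.ext
      show s.1.1 ^ p = 1
      have h7 : (s.1.1 - 1) ^ p = s.1.1 ^ p - 1 ^ p := sub_pow_char_of_commute p (Commute.one_right _)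
      have h8 : (s.1.1 - 1) ^ p = 0 := by
        obtain ⟨k, hk⟩ : ∃ k, p = 2 + k := ⟨p - 2, by have := (Fact.out : p.Prime).two_le; omega⟩
        rw [hk, pow_add, hsq, zero_mul]
      rw [h8, one_pow] at h7
      exact (sub_eq_zero.1 h7.symm)
    have h9 := Nat.le_of_dvd (Fact.out : p.Prime).pos (orderOf_dvd_of_pow_eq_one hsp)
    rw [hos] at h9
    have := p_le_q (p := p) hF
    omega
  refine ⟨w 2, ?_⟩
  have h7 : w = w 2 • (Pi.single 2 1 : Fin 3 → F) := by
    funext i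
    fin_cases i
    · simpa using hw01.1
    · simpa using hw01.2
    · simp
  rw [← hgw, ← hg]
  conv_lhs => rw [h7, Matrix.mulVec_smul]

theorem stV_smul {v : Fin 3 → F} {c : F} (hc : c ≠ 0) : stV q (c • v) = stV q v := by
  ext g
  rw [mem_stV, mem_stV, Matrix.mulVec_smul]
  constructor
  · intro h
    have := congrArg (fun x => c⁻¹ • x) h
    simpa [smul_smul, inv_mul_cancel₀ hc] using this
  · intro h; rw [h]

theorem stV_ne_top {v : Fin 3 → F} (hv : hermForm 3 F q v v = 1) : stV q v ≠ ⊤ := by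
  intro h
  have key : ∀ u : Fin 3 → F, hermForm 3 F q u u = 1 → u = v := by
    intro u hu
    obtain ⟨g, hg⟩ := SU_trans hF (k := 3) (by norm_num) hv hu
    rw [← hg]
    have : g ∈ stV q v := by rw [h]; trivial
    exact this
  have h1 := (key (Pi.single 0 1) (by rw [herm_ss hF, if_pos rfl])).trans (key (Pi.single 1 1) (by rw [herm_ss hF, if_pos rfl])).symm
  have := congrFun h1 0
  simp at this

theorem perp_of_comm {v w : Fin 3 → F} (hv : hermForm 3 F q v v = 1) (hw : hermForm 3 F q w w = 1) (hne : stV q v ≠ stV q w)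
    {d d' : SU 3 F q} (hd : d ∈ stV q v) (hd' : d' ∈ stV q w) (ho : orderOf d = q + 1) (ho' : orderOf d' = q + 1)
    (hc : d * d' = d' * d) : hermForm 3 F q v w = 0 := by
  have H := herm_HS 3 hF
  have h1 : d.1.1 *ᵥ (d'.1.1 *ᵥ v) = d'.1.1 *ᵥ v := by
    rw [← mul_mulVec', hc, mul_mulVec', mem_stV.1 hd]
  obtain ⟨c, hcv⟩ := fix_line hF hv hd ho h1
  have h2 : hermForm 3 F q v w = c * hermForm 3 F q v w := by
    have := herm_blk' hF d' v w
    rw [hcv, mem_stV.1 hd', H.smul_left] at this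
    exact this.symm
  have h3 : (c - 1) * hermForm 3 F q v w = 0 := by linear_combination -h2
  rcases mul_eq_zero.1 h3 with h4 | h4
  · exfalso
    rw [sub_eq_zero.1 h4, one_smul] at hcv
    obtain ⟨c', hc'⟩ := fix_line hF hw hd' ho' hcv
    apply hne
    have : c' ≠ 0 := by
      rintro rfl
      rw [hc', zero_smul, H.zero_left] at hv
      exact zero_ne_one hv
    rw [hc', stV_smul hF this]
  · exact h4

theorem exists_frame {v w : Fin 3 → F} (hv : hermForm 3 F q v v = 1) (hw : hermForm 3 F q w w = 1) (hvw : hermForm 3 F q v w = 0) :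
    ∃ g : SU 3 F q, g.1.1 *ᵥ Pi.single 2 1 = v ∧ g.1.1 *ᵥ Pi.single 0 1 = w := by
  have H := herm_HS 3 hF
  obtain ⟨g, hg⟩ := SU_trans hF (k := 3) (by norm_num) (x := Pi.single 2 1) (by rw [herm_ss hF, if_pos rfl]) hv
  set w' := g⁻¹.1.1 *ᵥ w with hw'
  have hgw : g.1.1 *ᵥ w' = w := mulVec_inv' g _
  have h1 : w' 2 = 0 := by
    rw [← herm_single hF 2 w']
    have := herm_blk' hF g w' (Pi.single 2 1)
    rw [hgw, hg] at this
    rw [← this]; exact H.symm_zero hvw
  have h2 : hermForm 3 F q w' w' = 1 := by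
    have := herm_blk' hF g w' w'
    rw [hgw, hw] at this; exact this.symm
  have h3 : ext (sh 0 (show 0 + 2 ≤ 3 by omega)) (w' ∘ sh 0 (show 0 + 2 ≤ 3 by omega)) = w' := by
    apply ext_res
    intro a ha
    have h3 := range_sh ha
    have h4 : a = 2 := Fin.ext (by have := a.2; show a.1 = 2; omega)
    rw [h4]; exact h1
  set w2 := w' ∘ sh 0 (show 0 + 2 ≤ 3 by omega) with hw2
  have h4 : hermForm 2 F q w2 w2 = 1 := by
    rw [← herm_ext (sh 0 (show 0 + 2 ≤ 3 by omega)), h3, h2]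
  obtain ⟨s, hs⟩ := SU_trans hF (k := 2) le_rfl (x := Pi.single 0 1) (by rw [herm_ss hF, if_pos rfl]) h4
  refine ⟨g * b0 F q s, ?_, ?_⟩
  · rw [mul_mulVec']
    have : (b0 F q s).1.1 *ᵥ Pi.single 2 1 = Pi.single 2 1 := by
      have h5 : b0 F q s ∈ stV q (Pi.single 2 1 : Fin 3 → F) := by rw [stV_e2 hF]; exact ⟨s, rfl⟩
      exact h5
    rw [this, hg]
  · rw [mul_mulVec']
    have : (b0 F q s).1.1 *ᵥ Pi.single 0 1 = w' := by
      have h5 : (Pi.single 0 1 : Fin 3 → F) = ext (sh 0 (show 0 + 2 ≤ 3 by omega)) (Pi.single 0 1) := by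
        rw [ext_single]; rfl
      rw [h5]
      show blkM _ s.1.1 *ᵥ _ = _
      rw [blkM_ext, hs, h3]
    rw [this, hgw]

theorem std_of_iso {G : Type*} [Group G] (A B : Subgroup G) (ι : ↥(A ⊔ B) ≃* SU 3 F q) (eA : SU 2 F q ≃* A) (eB : SU 2 F q ≃* B)
    (DA DB : Subgroup G) (hDA : DA ≤ A ∧ IsCyclic DA ∧ Nat.card DA = q + 1) (hDB : DB ≤ B ∧ IsCyclic DB ∧ Nat.card DB = q + 1)
    (hc : ∀ x ∈ DA, ∀ y ∈ DB, x * y = y * x) : ∃ ψ : SU 3 F q →* G, Std ψ A B (A ⊔ B) := by
  have hA : A ≤ A ⊔ B := le_sup_left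
  have hB : B ≤ A ⊔ B := le_sup_right
  let jA : A →* SU 3 F q := ι.toMonoidHom.comp (Subgroup.inclusion hA)
  let jB : B →* SU 3 F q := ι.toMonoidHom.comp (Subgroup.inclusion hB)
  have hjA : Function.Injective jA := ι.injective.comp (Subgroup.inclusion_injective hA)
  have hjB : Function.Injective jB := ι.injective.comp (Subgroup.inclusion_injective hB)
  obtain ⟨v, hv, hAv⟩ := exists_unit hF jA.range (eA.trans (MonoidHom.ofInjective hjA))
  obtain ⟨w, hw, hBw⟩ := exists_unit hF jB.range (eB.trans (MonoidHom.ofInjective hjB))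
  obtain ⟨hDA1, hDA2, hDA3⟩ := hDA
  obtain ⟨hDB1, hDB2, hDB3⟩ := hDB
  obtain ⟨dA, hdA⟩ := hDA2.exists_generator
  obtain ⟨dB, hdB⟩ := hDB2.exists_generator
  have oA : orderOf (jA ⟨dA.1, hDA1 dA.2⟩) = q + 1 := by
    rw [orderOf_injective jA hjA, ← orderOf_injective A.subtype A.subtype_injective]
    show orderOf (dA : G) = q + 1
    exact (orderOf_injective DA.subtype DA.subtype_injective dA).trans ((orderOf_eq_card_of_forall_mem_zpowers hdA).trans hDA3)
  have oB : orderOf (jB ⟨dB.1, hDB1 dB.2⟩) = q + 1 := by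
    rw [orderOf_injective jB hjB, ← orderOf_injective B.subtype B.subtype_injective]
    show orderOf (dB : G) = q + 1
    exact (orderOf_injective DB.subtype DB.subtype_injective dB).trans ((orderOf_eq_card_of_forall_mem_zpowers hdB).trans hDB3)
  have hsup : jA.range ⊔ jB.range = ⊤ := by
    have h1 : jA.range = (A.subgroupOf (A ⊔ B)).map ι.toMonoidHom := by
      ext x; constructor
      · rintro ⟨a, rfl⟩
        exact ⟨⟨a.1, hA a.2⟩, a.2, rfl⟩
      · rintro ⟨a, ha, rfl⟩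
        exact ⟨⟨a.1, ha⟩, rfl⟩
    have h2 : jB.range = (B.subgroupOf (A ⊔ B)).map ι.toMonoidHom := by
      ext x; constructor
      · rintro ⟨a, rfl⟩
        exact ⟨⟨a.1, hB a.2⟩, a.2, rfl⟩
      · rintro ⟨a, ha, rfl⟩
        exact ⟨⟨a.1, ha⟩, rfl⟩
    rw [h1, h2, ← Subgroup.map_sup, ← Subgroup.subgroupOf_sup hA hB, Subgroup.subgroupOf_self, ← MonoidHom.range_eq_map]
    exact MonoidHom.range_eq_top.2 ι.surjective
  have hne : stV q v ≠ stV q w := by
    intro h
    rw [hAv, hBw, h, sup_idem] at hsup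
    exact stV_ne_top hF hw hsup
  have hperp : hermForm 3 F q v w = 0 := by
    refine perp_of_comm hF hv hw hne (d := jA ⟨dA.1, hDA1 dA.2⟩) (d' := jB ⟨dB.1, hDB1 dB.2⟩) ?_ ?_ oA oB ?_
    · rw [← hAv]; exact ⟨_, rfl⟩
    · rw [← hBw]; exact ⟨_, rfl⟩
    · show ι _ * ι _ = ι _ * ι _
      rw [← map_mul, ← map_mul]
      congr 1
      apply Subtype.ext
      exact hc _ dA.2 _ dB.2
  obtain ⟨g, hg2, hg0⟩ := exists_frame hF hv hw hperp
  let ψ : SU 3 F q →* G := (A ⊔ B).subtype.comp (ι.symm.toMonoidHom.comp (MulAut.conj g).toMonoidHom)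
  have hψi : Function.Injective ψ := (A ⊔ B).subtype_injective.comp (ι.symm.injective.comp (MulAut.conj g).injective)
  refine ⟨ψ, ⟨?_, ?_, ?_, ?_⟩⟩
  · have h1 : (b0 F q).range.map (MulAut.conj g).toMonoidHom = jA.range := by
      rw [← stV_e2 hF, ← stV_conj hF, hg2, hAv]
    rw [MonoidHom.range_comp]
    show (b0 F q).range.map ((A ⊔ B).subtype.comp (ι.symm.toMonoidHom.comp (MulAut.conj g).toMonoidHom)) = A
    rw [← Subgroup.map_map, ← Subgroup.map_map, h1]
    ext x; constructor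
    · rintro ⟨_, ⟨_, ⟨a, rfl⟩, rfl⟩, rfl⟩
      have : ι.symm (jA a) = Subgroup.inclusion hA a := ι.symm_apply_apply _
      show ((ι.symm (jA a) : ↥(A ⊔ B)) : G) ∈ A
      rw [this]; exact a.2
    · intro hx
      refine ⟨_, ⟨_, ⟨⟨x, hx⟩, rfl⟩, rfl⟩, ?_⟩
      have : ι.symm (jA ⟨x, hx⟩) = Subgroup.inclusion hA ⟨x, hx⟩ := ι.symm_apply_apply _
      show ((ι.symm (jA ⟨x, hx⟩) : ↥(A ⊔ B)) : G) = x
      rw [this]; rfl
  · have h1 : (b1 F q).range.map (MulAut.conj g).toMonoidHom = jB.range := by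
      rw [← stV_e0 hF, ← stV_conj hF, hg0, hBw]
    rw [MonoidHom.range_comp]
    show (b1 F q).range.map ((A ⊔ B).subtype.comp (ι.symm.toMonoidHom.comp (MulAut.conj g).toMonoidHom)) = B
    rw [← Subgroup.map_map, ← Subgroup.map_map, h1]
    ext x; constructor
    · rintro ⟨_, ⟨_, ⟨a, rfl⟩, rfl⟩, rfl⟩
      have : ι.symm (jB a) = Subgroup.inclusion hB a := ι.symm_apply_apply _
      show ((ι.symm (jB a) : ↥(A ⊔ B)) : G) ∈ B
      rw [this]; exact a.2
    · intro hx
      refine ⟨_, ⟨_, ⟨⟨x, hx⟩, rfl⟩, rfl⟩, ?_⟩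
      have : ι.symm (jB ⟨x, hx⟩) = Subgroup.inclusion hB ⟨x, hx⟩ := ι.symm_apply_apply _
      show ((ι.symm (jB ⟨x, hx⟩) : ↥(A ⊔ B)) : G) = x
      rw [this]; rfl
  · apply le_antisymm
    · rintro _ ⟨s, rfl⟩
      exact (ι.symm (MulAut.conj g s)).2
    · intro x hx
      refine ⟨(MulAut.conj g).symm (ι ⟨x, hx⟩), ?_⟩
      show ((ι.symm (MulAut.conj g ((MulAut.conj g).symm (ι ⟨x, hx⟩))) : ↥(A ⊔ B)) : G) = x
      rw [MulEquiv.apply_symm_apply, MulEquiv.symm_apply_apply]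
  · rw [(MonoidHom.ker_eq_bot_iff ψ).2 hψi]
    exact bot_le

end Cfsg.Agent.Lib.Phan
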