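import Cfsg.Agent.Lib.PhanK
import Cfsg.Agent.S0283

/-! Quasisimplicity of `SU_n(q)`, involutions, preparation for `q = 3` (helper38). -/

set_option autoImplicit false
set_option linter.unusedSectionVars false
set_option linter.unusedSimpArgs false

namespace Cfsg.Agent.Lib.Phan

open Module Matrix Cfsg Cfsg.Agent.Lib.UnTrans Cfsg.Agent.Lib.UnBridge Cfsg.Agent.Lib.ClUnSimple
open Cfsg.Agent.Lib.PSLAut (transvection_induction)

section general
variable {F : Type*} [Field F] {q : ℕ} [Fintype F] (hF : Fintype.card F = q ^ 2)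
include hF

theorem SU_perf (n : ℕ) (hn : 3 ≤ n) (h : ¬ (n = 3 ∧ q = 2)) : commutator (SU n F q) = ⊤ := by
  have hq := HermMat.two_le_q hF
  have hgen := Cfsg.Agent.S0780.result hF n hn h
  rw [eq_top_iff, ← hgen, Subgroup.closure_le]
  rintro A ⟨v, c, hv, hA⟩
  have h1 := Cfsg.Agent.S0781.result hF n (by
    by_cases h4 : 4 ≤ n
    · exact Or.inl h4
    · refine Or.inr ⟨by omega, ?_⟩
      by_contra h3
      exact h ⟨by omega, by omega⟩) A v c hv hA
  rw [commutator_eq_closure]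
  exact Subgroup.subset_closure h1

/-- proper kernels are central -/
theorem ker_center (n : ℕ) (hn : 3 ≤ n) (h : ¬ (n = 3 ∧ q = 2)) {G : Type*} [Group G] (g : SU n F q →* G)
    (hne : ∃ x, g x ≠ 1) : g.ker ≤ Subgroup.center (SU n F q) := by
  have hs : IsSimpleGroup (PSU n F q) := Cfsg.Agent.S0283.result hF n hn h
  have hperf := SU_perf hF n hn h
  let π := QuotientGroup.mk' (Subgroup.center (SU n F q))
  have hnorm : (g.ker.map π).Normal := Subgroup.Normal.map inferInstance π (QuotientGroup.mk'_surjective _)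
  rcases hs.eq_bot_or_eq_top_of_normal _ hnorm with h1 | h1
  · intro x hx
    have h2 : π x ∈ g.ker.map π := ⟨x, hx, rfl⟩
    rw [h1, Subgroup.mem_bot] at h2
    exact (QuotientGroup.eq_one_iff x).1 h2
  · exfalso
    have h2 : g.ker ⊔ Subgroup.center (SU n F q) = ⊤ := by
      rw [eq_top_iff]
      intro x _
      have h3 : π x ∈ g.ker.map π := by rw [h1]; trivial
      obtain ⟨y, hy, hyx⟩ := h3
      have h4 : y⁻¹ * x ∈ Subgroup.center (SU n F q) := by
        rw [← QuotientGroup.eq]; exact hyx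
      have h5 : x = y * (y⁻¹ * x) := by group
      rw [h5]
      exact Subgroup.mul_mem_sup hy h4
    have h3 : commutator (SU n F q) ≤ g.ker := by
      rw [commutator_def, Subgroup.commutator_le]
      intro a _ b _
      have ha : a ∈ g.ker ⊔ Subgroup.center (SU n F q) := by rw [h2]; trivial
      have hb : b ∈ g.ker ⊔ Subgroup.center (SU n F q) := by rw [h2]; trivial
      obtain ⟨a1, ha1, a2, ha2, rfl⟩ := Subgroup.mem_sup_of_normal_right.1 ha
      obtain ⟨b1, hb1, b2, hb2, rfl⟩ := Subgroup.mem_sup_of_normal_right.1 hb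
      rw [MonoidHom.mem_ker] at ha1 hb1 ⊢
      have c1 : g a2 * g b2 = g b2 * g a2 := by rw [← map_mul, ← map_mul, Subgroup.mem_center_iff.1 hb2 a2]
      rw [map_commutatorElement, map_mul, map_mul, ha1, hb1, one_mul, one_mul]
      rw [commutatorElement_def, c1]; group
    obtain ⟨x, hx⟩ := hne
    apply hx
    have h4 : x ∈ commutator (SU n F q) := by rw [hperf]; trivial
    exact h3 h4

/-- unitary involutions other than `-1` have a fixed unit vector -/
theorem inv_fix {n : ℕ} (h2 : (2 : F) ≠ 0) {Z : Matrix (Fin n) (Fin n) F}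
    (hZ : ∀ u v, hermForm n F q (Z *ᵥ u) (Z *ᵥ v) = hermForm n F q u v) (hZ2 : Z * Z = 1)
    (hx : ∃ x, x + Z *ᵥ x ≠ 0) : ∃ v, hermForm n F q v v = 1 ∧ Z *ᵥ v = v := by
  have H := herm_HS n hF
  have hnd := herm_nd n hF
  have hZ2' : ∀ u, Z *ᵥ (Z *ᵥ u) = u := by
    intro u
    rw [Matrix.mulVec_mulVec, hZ2, Matrix.one_mulVec]
  obtain ⟨x, hx⟩ := hx
  let W : Submodule F (Fin n → F) := LinearMap.ker (Matrix.mulVecLin Z - LinearMap.id)
  have hW : ∀ u, u ∈ W ↔ Z *ᵥ u = u := by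
    intro u
    rw [LinearMap.mem_ker, LinearMap.sub_apply, Matrix.mulVecLin_apply, LinearMap.id_apply, sub_eq_zero]
  have hplus : ∀ u, u + Z *ᵥ u ∈ W := by
    intro u
    rw [hW, Matrix.mulVec_add, hZ2', add_comm]
  have han : ∃ a ∈ W, hermForm n F q a a ≠ 0 := by
    by_contra hcon
    push Not at hcon
    obtain ⟨y, -, hy⟩ := hnd (x + Z *ᵥ x) trivial hx
    have h1 := H.eq_zero_of_iso hcon (hplus x) (hplus y)
    have h3 : hermForm n F q (x + Z *ᵥ x) (Z *ᵥ y) = hermForm n F q (x + Z *ᵥ x) y := by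
      rw [← hZ (x + Z *ᵥ x) y]
      congr 1
      exact ((hW _).1 (hplus x)).symm
    rw [H.add_right, h3] at h1
    have : (2 : F) * hermForm n F q (x + Z *ᵥ x) y = 0 := by linear_combination h1
    rcases mul_eq_zero.1 this with h | h
    · exact h2 h
    · exact hy h
  obtain ⟨a, ha, haa⟩ := han
  obtain ⟨c, hc, hv⟩ := nrm_scale H haa
  exact ⟨c • a, hv, by rw [Matrix.mulVec_smul, (hW a).1 ha]⟩

/-- the only involution of `SU_2` in odd characteristic -/
theorem invol2 (h2 : (2 : F) ≠ 0) {s : SU 2 F q} (hs2 : s * s = 1) (hs1 : s ≠ 1) :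
    s.1.1 0 0 = -1 ∧ s.1.1 0 1 = 0 ∧ s.1.1 1 0 = 0 ∧ s.1.1 1 1 = -1 := by
  have hd := s.1.2
  rw [Matrix.det_fin_two] at hd
  have hss : ∀ i j, s.1.1 i 0 * s.1.1 0 j + s.1.1 i 1 * s.1.1 1 j = (1 : Matrix (Fin 2) (Fin 2) F) i j := by
    intro i j
    have h6 : (s * s).1.1 i j = (1 : SU 2 F q).1.1 i j := by rw [hs2]
    have h7 : (s * s).1.1 = s.1.1 * s.1.1 := rfl
    rw [h7, Matrix.mul_apply, Fin.sum_univ_two] at h6
    exact h6
  have s00 := hss 0 0
  have s01 := hss 0 1
  have s10 := hss 1 0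
  have s11 := hss 1 1
  simp at s00 s01 s10 s11
  have t00 : (s.1.1 0 0 + s.1.1 1 1) * s.1.1 0 0 = 2 := by linear_combination s00 + hd
  have t01 : (s.1.1 0 0 + s.1.1 1 1) * s.1.1 0 1 = 0 := by linear_combination s01
  have t10 : (s.1.1 0 0 + s.1.1 1 1) * s.1.1 1 0 = 0 := by linear_combination s10
  have t11 : (s.1.1 0 0 + s.1.1 1 1) * s.1.1 1 1 = 2 := by linear_combination s11 + hd
  have htr : s.1.1 0 0 + s.1.1 1 1 ≠ 0 := by intro h; rw [h, zero_mul] at t00; exact h2 t00.symm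
  have u01 : s.1.1 0 1 = 0 := (mul_eq_zero.1 t01).resolve_left htr
  have u10 : s.1.1 1 0 = 0 := (mul_eq_zero.1 t10).resolve_left htr
  have u00 : s.1.1 0 0 = s.1.1 1 1 := mul_left_cancel₀ htr (t00.trans t11.symm)
  have u1 : s.1.1 1 1 = -1 := by
    have h6 : (s.1.1 1 1 - 1) * (s.1.1 1 1 + 1) = 0 := by rw [u10, zero_mul, zero_add] at s11; linear_combination s11
    rcases mul_eq_zero.1 h6 with h7 | h7
    · exfalso
      apply hs1
      have h8 : s.1.1 1 1 = 1 := sub_eq_zero.1 h7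
      apply Subtype.ext; apply Subtype.ext
      ext i j
      fin_cases i <;> fin_cases j
      · show s.1.1 0 0 = 1; rw [u00, h8]
      · exact u01
      · exact u10
      · exact h8
    · exact eq_neg_of_add_eq_zero_left h7
  exact ⟨u00.trans u1, u01, u10, u1⟩

/-- diagonal elements -/
noncomputable def dg {n : ℕ} (d : Fin n → F) (hd : ∀ i, d i * sig hF (d i) = 1) (h1 : ∏ i, d i = 1) : SU n F q :=
  ⟨⟨Matrix.diagonal d, by rw [Matrix.det_diagonal, h1]⟩, by
    intro u v
    show hermForm n F q (Matrix.diagonal d *ᵥ u) (Matrix.diagonal d *ᵥ v) = hermForm n F q u v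
    rw [hermForm, hermForm]
    apply Finset.sum_congr rfl
    intro i _
    rw [Matrix.mulVec_diagonal, Matrix.mulVec_diagonal, mul_pow, ← sig_apply hF (d i)]
    linear_combination (u i * v i ^ q) * hd i⟩

theorem dg_coe {n : ℕ} (d : Fin n → F) (hd : ∀ i, d i * sig hF (d i) = 1) (h1 : ∏ i, d i = 1) :
    (dg hF d hd h1).1.1 = Matrix.diagonal d := rfl

end general

/-- two by two matrices commuting with a unipotent one and with scalar square are scalar -/
theorem two_scalar {F : Type*} [Field F] (h2 : (2 : F) ≠ 0) {N D : Matrix (Fin 2) (Fin 2) F} {k : F} (hk : k ≠ 0)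
    (hN3 : N * N * N = 0) (hN : N ≠ 0) (hND : N * D = D * N) (hD : D * D = k • (1 : Matrix (Fin 2) (Fin 2) F)) :
    D 0 1 = 0 ∧ D 1 0 = 0 ∧ D 0 0 = D 1 1 := by
  have hdet : N.det = 0 := by
    have := congrArg Matrix.det hN3
    rw [Matrix.det_mul, Matrix.det_mul, Matrix.det_zero] at this
    have h3 : N.det ^ 3 = 0 := by linear_combination this
    exact pow_eq_zero_iff (by norm_num) |>.1 h3
  rw [Matrix.det_fin_two] at hdet
  have e : ∀ i j, (N * N * N) i j = 0 := fun i j => by rw [hN3]; rfl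
  have e00 := e 0 0
  have e11 := e 1 1
  simp only [Matrix.mul_apply, Fin.sum_univ_two] at e00 e11
  have g00 : (N 0 0 + N 1 1) ^ 2 * N 0 0 = 0 := by linear_combination e00 + (2 * N 0 0 + N 1 1) * hdet
  have g11 : (N 0 0 + N 1 1) ^ 2 * N 1 1 = 0 := by linear_combination e11 + (2 * N 1 1 + N 0 0) * hdet
  have gt : N 0 0 + N 1 1 = 0 := by
    have : (N 0 0 + N 1 1) ^ 3 = 0 := by linear_combination g00 + g11
    exact pow_eq_zero_iff (by norm_num) |>.1 this
  have c : ∀ i j, (N * D) i j = (D * N) i j := fun i j => by rw [hND]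
  have c00 := c 0 0
  have c01 := c 0 1
  have c10 := c 1 0
  simp only [Matrix.mul_apply, Fin.sum_univ_two] at c00 c01 c10
  have d : ∀ i j, (D * D) i j = (k • (1 : Matrix (Fin 2) (Fin 2) F)) i j := fun i j => by rw [hD]
  have d00 := d 0 0
  have d01 := d 0 1
  have d10 := d 1 0
  have d11 := d 1 1
  simp only [Matrix.mul_apply, Fin.sum_univ_two, Matrix.smul_apply, Matrix.one_apply, smul_eq_mul] at d00 d01 d10 d11
  simp at d00 d01 d10 d11
  by_cases hs : D 0 0 + D 1 1 = 0
  · exfalso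
    have hb : D 1 1 = - D 0 0 := by linear_combination hs
    have ha : N 1 1 = - N 0 0 := by linear_combination gt
    rw [ha] at hdet c01 c10
    rw [hb] at c01 c10 d11
    have r1 : D 0 0 * N 0 1 = N 0 0 * D 0 1 := by
      have : (2 : F) * (D 0 0 * N 0 1 - N 0 0 * D 0 1) = 0 := by linear_combination -c01
      exact sub_eq_zero.1 ((mul_eq_zero.1 this).resolve_left h2)
    have r2 : D 0 0 * N 1 0 = N 0 0 * D 1 0 := by
      have : (2 : F) * (D 0 0 * N 1 0 - N 0 0 * D 1 0) = 0 := by linear_combination c10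
      exact sub_eq_zero.1 ((mul_eq_zero.1 this).resolve_left h2)
    have r3 : N 0 1 * D 1 0 = D 0 1 * N 1 0 := by linear_combination c00
    have k1 : k * N 0 0 ^ 2 = 0 := by
      linear_combination -(N 0 0 ^ 2) * d00 - (N 0 0 * D 1 0) * r1 - (D 0 0 * N 0 1) * r2 - D 0 0 ^ 2 * hdet
    have k2 : k * N 0 1 ^ 2 = 0 := by
      linear_combination -(N 0 1 ^ 2) * d00 + (D 0 0 * N 0 1 + N 0 0 * D 0 1) * r1 + D 0 1 * N 0 1 * r3 - D 0 1 ^ 2 * hdet
    have k3 : k * N 1 0 ^ 2 = 0 := by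
      linear_combination -(N 1 0 ^ 2) * d00 + (D 0 0 * N 1 0 + N 0 0 * D 1 0) * r2 - D 1 0 * N 1 0 * r3 - D 1 0 ^ 2 * hdet
    have z1 := pow_eq_zero_iff (two_ne_zero) |>.1 ((mul_eq_zero.1 k1).resolve_left hk)
    have z2 := pow_eq_zero_iff (two_ne_zero) |>.1 ((mul_eq_zero.1 k2).resolve_left hk)
    have z3 := pow_eq_zero_iff (two_ne_zero) |>.1 ((mul_eq_zero.1 k3).resolve_left hk)
    apply hN
    ext i j
    fin_cases i <;> fin_cases j
    · exact z1
    · exact z2
    · exact z3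
    · show N 1 1 = 0
      rw [ha, z1, neg_zero]
  · have h01 : D 0 1 = 0 := by
      have : (D 0 0 + D 1 1) * D 0 1 = 0 := by linear_combination d01
      exact (mul_eq_zero.1 this).resolve_left hs
    have h10 : D 1 0 = 0 := by
      have : (D 0 0 + D 1 1) * D 1 0 = 0 := by linear_combination d10
      exact (mul_eq_zero.1 this).resolve_left hs
    refine ⟨h01, h10, ?_⟩
    have : (D 0 0 + D 1 1) * (D 0 0 - D 1 1) = 0 := by linear_combination d00 - d11
    exact sub_eq_zero.1 ((mul_eq_zero.1 this).resolve_left hs)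

end Cfsg.Agent.Lib.Phan
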