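import Cfsg.Agent.Lib.PhanL

/-! Subgroups `SU_2(3)` in quotients of `SU_4(3)` (helper38). -/

set_option autoImplicit false
set_option linter.unusedSectionVars false
set_option linter.unusedSimpArgs false

namespace Cfsg.Agent.Lib.Phan

open Module Matrix Cfsg Cfsg.Agent.Lib.UnTrans Cfsg.Agent.Lib.UnBridge Cfsg.Agent.Lib.ClUnSimple
open Cfsg.Agent.Lib.PSLAut (transvection_induction)

variable {F : Type*} [Field F] [Fintype F] (hF : Fintype.card F = 3 ^ 2)
include hF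

theorem char3 : CharP F 3 := by
  obtain ⟨p, hp⟩ := CharP.exists F
  haveI : Fact p.Prime := ⟨CharP.char_is_prime F p⟩
  have h1 : ((Fintype.card F : ℕ) : F) = 0 := Nat.cast_card_eq_zero F
  rw [CharP.cast_eq_zero_iff F p, hF] at h1
  have h2 : p ∣ 3 := (Fact.out : p.Prime).dvd_of_dvd_pow h1
  have h3 : p = 3 := (Nat.prime_dvd_prime_iff_eq (Fact.out : p.Prime) Nat.prime_three).1 h2
  rw [← h3]; exact hp

theorem three0 : (3 : F) = 0 := by
  haveI := char3 hF
  exact_mod_cast CharP.cast_eq_zero F 3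

theorem two0 : (2 : F) ≠ 0 := by
  intro h
  have h3 := three0 hF
  have : (1 : F) = 0 := by linear_combination h3 - h
  exact one_ne_zero this

theorem exists_i : ∃ i : F, i * i = -1 := by
  have h : IsSquare (-1 : F) := by
    rw [FiniteField.isSquare_neg_one_iff, hF]; norm_num
  obtain ⟨i, hi⟩ := h
  exact ⟨i, hi.symm⟩

theorem sig_i {i : F} (hi : i * i = -1) : sig hF i = -i := by
  rw [sig_apply]
  linear_combination i * hi

theorem norm_i {i : F} (hi : i * i = -1) : i * sig hF i = 1 := by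
  rw [sig_i hF hi]; linear_combination -hi

theorem sig_neg1 : (-1 : F) * sig hF (-1) = 1 := by
  rw [map_neg, map_one]; ring

theorem cube_one {a : F} (h : a ^ 3 = 1) : a = 1 := by
  haveI := char3 hF
  haveI : Fact (Nat.Prime 3) := ⟨Nat.prime_three⟩
  have : (a - 1) ^ 3 = 0 := by rw [sub_pow_char, h, one_pow, sub_self]
  exact sub_eq_zero.1 (pow_eq_zero_iff (by norm_num) |>.1 this)

/-- the central involution of `SU_2(3)` -/
noncomputable def m1 : SU 2 F 3 := dg hF (fun _ => -1) (fun _ => sig_neg1 hF) (by rw [Fin.prod_univ_two]; ring)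

theorem m1_coe : (m1 hF).1.1 = -1 := by
  show Matrix.diagonal (fun _ => (-1 : F)) = -1
  rw [← Matrix.diagonal_one, Matrix.diagonal_neg]

theorem m1_sq : m1 hF * m1 hF = 1 := by
  apply Subtype.ext; apply Subtype.ext
  show (m1 hF).1.1 * (m1 hF).1.1 = 1
  rw [m1_coe]; simp

theorem eq_m1 {s : SU 2 F 3} (hs2 : s * s = 1) (hs1 : s ≠ 1) : s = m1 hF := by
  obtain ⟨h1, h2, h3, h4⟩ := invol2 hF (two0 hF) hs2 hs1
  apply Subtype.ext; apply Subtype.ext
  show s.1.1 = (m1 hF).1.1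
  rw [m1_coe]
  ext i j
  fin_cases i <;> fin_cases j <;> simp [h1, h2, h3, h4]

theorem m1_ne : m1 hF ≠ 1 := by
  intro h
  have h1 : (m1 hF).1.1 0 0 = (1 : SU 2 F 3).1.1 0 0 := by rw [h]
  rw [m1_coe] at h1
  have h2 : (1 : SU 2 F 3).1.1 0 0 = 1 := by
    show (1 : Matrix (Fin 2) (Fin 2) F) 0 0 = 1
    simp
  rw [h2] at h1
  apply two0 hF
  have h3 : (-1 : F) = 1 := by simpa using h1
  linear_combination -h3

theorem exists_w : ∃ w1 w2 : SU 2 F 3, w1 * w2 * w1⁻¹ * w2⁻¹ = m1 hF ∧ w2 * w2 = m1 hF := by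
  obtain ⟨i, hi⟩ := exists_i hF
  have hs := sig_i hF hi
  let w1 : SU 2 F 3 := su2 hF i 0 (by rw [norm_i hF hi, map_zero, mul_zero, add_zero])
  let w2 : SU 2 F 3 := su2 hF 0 1 (by rw [map_one, zero_mul, zero_add, one_mul])
  have e1 : w1.1.1 = !![i, 0; 0, -i] := by
    show !![i, 0; -sig hF 0, sig hF i] = _
    rw [map_zero, neg_zero, hs]
  have e2 : w2.1.1 = !![0, 1; -1, 0] := by
    show !![0, 1; -sig hF 1, sig hF 0] = _
    rw [map_zero, map_one]
  have e3 : (m1 hF).1.1 = !![-1, 0; 0, -1] := by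
    rw [m1_coe]
    ext a b
    fin_cases a <;> fin_cases b <;> simp
  refine ⟨w1, w2, ?_, ?_⟩
  · have h : w1 * w2 = m1 hF * (w2 * w1) := by
      apply Subtype.ext; apply Subtype.ext
      show w1.1.1 * w2.1.1 = (m1 hF).1.1 * (w2.1.1 * w1.1.1)
      rw [e1, e2, e3]
      ext a b
      fin_cases a <;> fin_cases b <;> simp
    rw [h]; group
  · apply Subtype.ext; apply Subtype.ext
    show w2.1.1 * w2.1.1 = (m1 hF).1.1
    rw [e2, e3]
    ext a b
    fin_cases a <;> fin_cases b <;> simp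

theorem gen3 (S : Subgroup (SU 2 F 3)) (h : ∀ x : SU 2 F 3, x ^ 3 = 1 → x ∈ S) : S = ⊤ := by
  obtain ⟨K, P, e, -⟩ := exists_phi hF
  haveI := char3 hF
  haveI : CharP K 3 := by
    constructor
    intro x
    rw [← CharP.cast_eq_zero_iff F 3 x]
    constructor
    · intro h
      have := congrArg (fun y : K => (y : F)) h
      simpa using this
    · intro h
      apply Subtype.ext
      simpa using h
  rw [eq_top_iff]
  intro x _
  have key : ∀ y, e y ∈ S := by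
    intro y
    refine transvection_induction (le_refl 2) (fun y => e y ∈ S) ?_ ?_ y
    · intro i j hij a
      apply h
      rw [← map_pow, tv_pow, map_one]
    · intro A B hA hB
      show e (A * B) ∈ S
      rw [map_mul]; exact mul_mem hA hB
  have := key (e.symm x)
  rwa [MulEquiv.apply_symm_apply] at this

theorem cen4 {c : SU 4 F 3} (hc : c ∈ Subgroup.center (SU 4 F 3)) : ∃ r : F, c.1.1 = r • (1 : Matrix (Fin 4) (Fin 4) F) ∧ r ^ 4 = 1 := by
  obtain ⟨r, hr⟩ := (ClUnitary.center_SU hF (by norm_num) _).1 hc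
  have h1 : c.1.1 = r • (1 : Matrix (Fin 4) (Fin 4) F) := by
    rw [hr]
    ext i j
    rw [Matrix.smul_apply]
    show (algebraMap F (Matrix (Fin 4) (Fin 4) F) r) i j = _
    rw [Matrix.algebraMap_matrix_apply, Matrix.one_apply]
    split_ifs <;> simp
  refine ⟨r, h1, ?_⟩
  have h2 := c.1.2
  rw [h1, Matrix.det_smul, Matrix.det_one] at h2
  simpa using h2

theorem cen_pow {c : SU 4 F 3} (hc : c ∈ Subgroup.center (SU 4 F 3)) : c ^ 4 = 1 := by
  obtain ⟨r, hr, hr4⟩ := cen4 hF hc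
  apply Subtype.ext; apply Subtype.ext
  show c.1.1 ^ 4 = 1
  rw [hr, smul_pow, one_pow, hr4, one_smul]

variable {G : Type*} [Group G]

theorem lift3 {g : SU 4 F 3 →* G} (hk : g.ker ≤ Subgroup.center (SU 4 F 3)) {y : SU 4 F 3} (hy : (g y) ^ 3 = 1) :
    ∃ x, g x = g y ∧ x ^ 3 = 1 := by
  refine ⟨y ^ 4, ?_, ?_⟩
  · rw [map_pow, pow_succ, hy, one_mul]
  · have h1 : y ^ 3 ∈ Subgroup.center (SU 4 F 3) := hk (by rw [MonoidHom.mem_ker, map_pow, hy])
    have h2 := cen_pow hF h1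
    rw [← pow_mul] at h2 ⊢
    exact h2

theorem cen3 {c : SU 4 F 3} (hc : c ∈ Subgroup.center (SU 4 F 3)) (h3 : c ^ 3 = 1) : c = 1 := by
  have h := cen_pow hF hc
  rw [pow_succ, h3, one_mul] at h
  exact h

theorem comm3 {g : SU 4 F 3 →* G} (hk : g.ker ≤ Subgroup.center (SU 4 F 3)) {s x : SU 4 F 3} (hx : x ^ 3 = 1)
    (h : g s * g x = g x * g s) : s * x = x * s := by
  set c := s * x * s⁻¹ * x⁻¹ with hc
  have h1 : c ∈ Subgroup.center (SU 4 F 3) := hk (by
    rw [MonoidHom.mem_ker, hc, map_mul, map_mul, map_mul, map_inv, map_inv, h]; group)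
  have h2 : s * x * s⁻¹ = c * x := by rw [hc]; group
  have h3 : (s * x * s⁻¹) ^ 3 = 1 := by rw [conj_pow, hx]; group
  have h4 : (c * x) ^ 3 = c ^ 3 * x ^ 3 := Commute.mul_pow (show Commute c x from (Subgroup.mem_center_iff.1 h1 x).symm) 3
  rw [← h2, h3, hx, mul_one] at h4
  have h5 := cen3 hF h1 h4.symm
  rw [h5, one_mul] at h2
  calc s * x = (s * x * s⁻¹) * s := by group
    _ = x * s := by rw [h2]

/-! ### block diagonal elements -/

/-- the involution `diag(-1,-1,1,1)` -/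
noncomputable def y0 : SU 4 F 3 := blk (sh 0 (show 0 + 2 ≤ 4 by omega)) (m1 hF)

theorem y0_coe : (y0 hF).1.1 = Matrix.diagonal ![-1, -1, 1, 1] := by
  show blkM _ (m1 hF).1.1 = _
  rw [m1_coe]
  apply Matrix.ext_of_mulVec_single
  intro i
  rw [Matrix.mulVec_single_one, Matrix.mulVec_single_one]
  funext a
  rw [Matrix.col_apply, Matrix.col_apply]
  by_cases hi : i ∈ Set.range (sh 0 (show 0 + 2 ≤ 4 by omega))
  · obtain ⟨j, rfl⟩ := hi
    by_cases ha : a ∈ Set.range (sh 0 (show 0 + 2 ≤ 4 by omega))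
    · obtain ⟨b, rfl⟩ := ha
      rw [blkM_ii]
      fin_cases j <;> fin_cases b <;> simp [sh_apply, Matrix.diagonal]
    · rw [blkM_oi _ _ ha]
      have h3 := range_sh ha
      have h4 : a = 2 ∨ a = 3 := by
        rcases h3 with h | h
        · omega
        · fin_cases a <;> simp at h ⊢
      fin_cases j <;> rcases h4 with rfl | rfl <;> simp [sh_apply, Matrix.diagonal]
  · rw [blkM_io _ _ hi]
    have h3 := range_sh hi
    have h4 : i = 2 ∨ i = 3 := by
      rcases h3 with h | h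
      · omega
      · fin_cases i <;> simp at h ⊢
    rcases h4 with rfl | rfl <;> fin_cases a <;> simp [Matrix.diagonal]

theorem bd_of_comm {x : SU 4 F 3} (h : x * y0 hF = y0 hF * x) :
    (x.1.1 0 2 = 0 ∧ x.1.1 0 3 = 0 ∧ x.1.1 1 2 = 0 ∧ x.1.1 1 3 = 0) ∧ (x.1.1 2 0 = 0 ∧ x.1.1 2 1 = 0 ∧ x.1.1 3 0 = 0 ∧ x.1.1 3 1 = 0) := by
  have h1 : x.1.1 * (y0 hF).1.1 = (y0 hF).1.1 * x.1.1 := congrArg (fun s : SU 4 F 3 => s.1.1) h
  rw [y0_coe] at h1
  have h2 : ∀ i j, x.1.1 i j * (![-1, -1, 1, 1] : Fin 4 → F) j = (![-1, -1, 1, 1] : Fin 4 → F) i * x.1.1 i j := by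
    intro i j
    rw [← Matrix.mul_diagonal, ← Matrix.diagonal_mul, h1]
  have h3 := two0 hF
  have key1 : ∀ i j, x.1.1 i j * 1 = -1 * x.1.1 i j → x.1.1 i j = 0 := by
    intro i j h
    have : (2 : F) * x.1.1 i j = 0 := by linear_combination h
    exact (mul_eq_zero.1 this).resolve_left h3
  have key2 : ∀ i j, x.1.1 i j * -1 = 1 * x.1.1 i j → x.1.1 i j = 0 := by
    intro i j h
    have : (2 : F) * x.1.1 i j = 0 := by linear_combination -h
    exact (mul_eq_zero.1 this).resolve_left h3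
  exact ⟨⟨key1 _ _ (h2 0 2), key1 _ _ (h2 0 3), key1 _ _ (h2 1 2), key1 _ _ (h2 1 3)⟩,
    ⟨key2 _ _ (h2 2 0), key2 _ _ (h2 2 1), key2 _ _ (h2 3 0), key2 _ _ (h2 3 1)⟩⟩

/-- upper block -/
def up (x : SU 4 F 3) : Matrix (Fin 2) (Fin 2) F := !![x.1.1 0 0, x.1.1 0 1; x.1.1 1 0, x.1.1 1 1]

/-- lower block -/
def lo (x : SU 4 F 3) : Matrix (Fin 2) (Fin 2) F := !![x.1.1 2 2, x.1.1 2 3; x.1.1 3 2, x.1.1 3 3]

end Cfsg.Agent.Lib.Phan
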