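import Cfsg.Agent.Lib.PhanI

/-! Coverings of the graph of unit vectors for `q = 2` (helper38). -/

set_option autoImplicit false
set_option linter.unusedSectionVars false
set_option linter.unusedSimpArgs false

namespace Cfsg.Agent.Lib.Phan

open Module Cfsg.Agent.Lib.UnTrans
open Cfsg.Agent.Lib.SpTrans (isom mem_isom)

variable {F V : Type*} [Field F] [AddCommGroup V] [Module F V] {σ : F →+* F} {f : V → V → F}

/-- further data: the pointwise stabilizer of `e, e', e''` commutes with `C`, and `C` fixes a common neighbour -/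
structure Dat3 (f : V → V → F) {L : Type*} [Group L] (π : L →* (V ≃ₗ[F] V)) (A C : Subgroup L) (e e' e'' e3 : V) (t c3 : L) : Prop where
  n3 : f e3 e3 = 1
  p0 : f e e3 = 0
  p1 : f e' e3 = 0
  p2 : f e'' e3 = 0
  c3A : c3 ∈ A
  c3e' : π c3 e' = e3
  fix3 : ∀ k ∈ C, (c3 * t)⁻¹ * k * (c3 * t) ∈ A
  T3 : ∀ v, f v v = 1 → f e v = 0 → f e' v = 0 → f e'' v = 0 → ∃ h ∈ A, π h e' = e' ∧ π h e'' = e'' ∧ π h e3 = v
  TC : ∀ a b c : F, f (a • e + b • e' + c • e'') (a • e + b • e' + c • e'') = 1 → ∃ k ∈ C, π k e = a • e + b • e' + c • e''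
  comm3 : ∀ h ∈ A, π h e' = e' → π h e'' = e'' → ∀ k ∈ C, h * k = k * h

/-- quadrangles with a diagonal in a nondegenerate three-space orthogonal to the other diagonal lift -/
def Quad3 (f : V → V → F) {X : Type*} (p : X → V) (R : X → X → Prop) : Prop :=
  ∀ x y z w : X, R x y → R x z → R y w → ∀ (a b : V) (α β γ : F), f a a = 1 → f b b = 1 → f a b = 0 → f (p x) a = 0 → f (p x) b = 0 →
    f (p y) a = 0 → f (p y) b = 0 → f (p z) a = 0 → f (p z) b = 0 → f (p w) (p w) = 1 → p w = α • p x + β • a + γ • b → R z w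

section cover
variable {L : Type*} [Group L] {π : L →* (V ≃ₗ[F] V)} {A C K : Subgroup L} {e e' e'' e3 : V} {t c0 cs c3 : L}
variable (D : Dat f π A C K e e' e'' t c0 cs) (E : Dat3 f π A C e e' e'' e3 t c3) (H : HS σ f)
variable {X : Type*} [MulAction L X] {o : X} (hst : ∀ g : L, g • o = o ↔ g ∈ A) (htr : ∀ x : X, ∃ g : L, g • o = x)
variable {p : X → V} (hp : ∀ g : L, p (g • o) = π g e)

include D E hst htr hp in
theorem quad3 (H : HS σ f) : Quad3 f p (RR o t) := by
  intro x y z w h1 h2 h3 a b α β γ ha hb hab hxa hxb hya hyb hza hzb hww hw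
  obtain ⟨g, rfl⟩ := htr x
  rw [hp] at hxa hxb hw
  -- move the frame
  set a1 := π g⁻¹ a with ha1
  have hga : π g a1 = a := pinv' g _
  obtain ⟨h₁, hh₁, e1⟩ := D.T1 a1 (by rw [← D.iso g, hga]; exact ha) (by rw [← D.iso g, hga]; exact hxa)
  set b1 := π h₁⁻¹ (π g⁻¹ b) with hb1
  have hhb : π g (π h₁ b1) = b := by rw [hb1, pinv', pinv']
  have hfe : π g e = π g (π h₁ e) := by rw [D.fixA h₁ hh₁]
  obtain ⟨h₂, hh₂, e2, e3'⟩ := D.T2 b1 (by rw [← D.iso h₁, ← D.iso g, hhb]; exact hb)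
    (by rw [← D.iso h₁, ← D.iso g, hhb, ← hfe]; exact hxb) (by rw [← D.iso h₁, ← D.iso g, hhb, e1, hga]; exact hab)
  have hA : h₁ * h₂ ∈ A := mul_mem hh₁ hh₂
  set G := g * (h₁ * h₂) with hG
  have hGo : G • o = g • o := by rw [hG, mul_smul, (hst _).2 hA]
  have hGe : π G e = π g e := by rw [hG, map_mul, LinearEquiv.mul_apply, D.fixA _ hA]
  have hGe' : π G e' = a := by
    rw [hG, map_mul, LinearEquiv.mul_apply, map_mul, LinearEquiv.mul_apply, e2, e1, hga]
  have hGe'' : π G e'' = b := by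
    rw [hG, map_mul, LinearEquiv.mul_apply, map_mul, LinearEquiv.mul_apply, e3', hhb]
  have k1 := RR_smul h1 G⁻¹
  have k2 := RR_smul h2 G⁻¹
  have k3 := RR_smul h3 G⁻¹
  rw [← hGo, inv_smul_smul] at k1 k2
  have hpi : ∀ v, p (G⁻¹ • v) = π G⁻¹ (p v) := fun v => p_smul htr hp _ _
  have hpw : p (G⁻¹ • w) = α • e + β • e' + γ • e'' := by
    have e5 : π G (α • e + β • e' + γ • e'') = p w := by
      rw [map_add, map_add, LinearEquiv.map_smul, LinearEquiv.map_smul, LinearEquiv.map_smul, hGe, hGe', hGe'', hw]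
    rw [hpi, ← e5, pinv]
  have hrel : ∀ u v, f u (π G⁻¹ v) = f (π G u) v := fun u v => by rw [← D.iso G, pinv']
  obtain ⟨k, hk, hke⟩ := E.TC α β γ (by rw [← hpw, hpi, D.iso]; exact hww)
  -- the common neighbour
  have q1 : RR o t o ((c3 * t) • o) := o_RR D hst E.c3A
  have q1p : p ((c3 * t) • o) = e3 := by rw [hp, map_mul, LinearEquiv.mul_apply, D.te, E.c3e']
  have q2 : k • (c3 * t) • o = (c3 * t) • o := by
    have := (hst _).2 (E.fix3 k hk)
    rw [mul_smul, mul_smul, inv_smul_eq_iff] at this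
    exact this
  have main : ∀ v, RR o t o v → f (p v) e' = 0 → f (p v) e'' = 0 → RR o t (k • o) v := by
    intro v hv hv' hv''
    obtain ⟨h', hh', e1⟩ := RR_o D hst hv
    have q3 : p v = π h' e' := by rw [← e1, hp, map_mul, LinearEquiv.mul_apply, D.te]
    have q4 : f e (p v) = 0 := by rw [q3, ← D.fixA h' hh', D.iso h']; exact D.o1
    have q6 : f (p v) (p v) = 1 := by rw [q3, D.iso h']; exact D.n1
    obtain ⟨s, hs, s1, s2, s3⟩ := E.T3 _ q6 q4 (H.symm_zero hv') (H.symm_zero hv'')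
    have q7 : RR o t o (s • (c3 * t) • o) := by
      have := RR_smul q1 s
      rwa [(hst s).2 hs] at this
    have q8 : v = s • (c3 * t) • o := uniq' D hst htr hp hv q7 (by rw [p_smul htr hp, q1p, s3])
    have q9 := RR_smul (RR_smul q1 k) s
    rw [q2, ← q8, ← mul_smul, E.comm3 s hs s1 s2 k hk, mul_smul, (hst s).2 hs] at q9
    exact q9
  have hy := main _ k1 (by rw [hpi, ← D.iso G, pinv', hGe']; exact hya) (by rw [hpi, ← D.iso G, pinv', hGe'']; exact hyb)
  have hz := main _ k2 (by rw [hpi, ← D.iso G, pinv', hGe']; exact hza) (by rw [hpi, ← D.iso G, pinv', hGe'']; exact hzb)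
  have hwk : G⁻¹ • w = k • o := uniq' D hst htr hp k3 (RR_symm D hst hy) (by rw [hpw, hp, hke])
  have := RR_smul (RR_symm D hst hz) G
  rw [← hwk, smul_inv_smul, smul_inv_smul] at this
  exact this

end cover

section fin
variable {L : Type*} [Group L] {π : L →* (V ≃ₗ[F] V)} {A C K : Subgroup L} {e e' e'' e3 : V} {t c0 cs c3 : L}

/-- if all coverings are trivial, the stabilizer of `e` is `A` -/
theorem mem_of_fix3 (D : Dat f π A C K e e' e'' t c0 cs) (E : Dat3 f π A C e e' e'' e3 t c3) (H : HS σ f) (hgen : A ⊔ K = ⊤)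
    (hinj : ∀ (p : L ⧸ A → V) (R : L ⧸ A → L ⧸ A → Prop), Cov f p R → Quad3 f p R → ∀ x0 z w, Relation.ReflTransGen R x0 z →
      Relation.ReflTransGen R x0 w → p z = p w → z = w) {g : L} (hg : π g e = e) : g ∈ A := by
  let o : L ⧸ A := ((1 : L) : L ⧸ A)
  have hgo : ∀ g : L, g • o = (g : L ⧸ A) := by
    intro g
    show ((g * 1 : L) : L ⧸ A) = _
    rw [mul_one]
  have hst : ∀ g : L, g • o = o ↔ g ∈ A := by
    intro g
    rw [hgo, QuotientGroup.eq, mul_one, inv_mem_iff]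
  have htr : ∀ x : L ⧸ A, ∃ g : L, g • o = x := by
    intro x
    obtain ⟨g, rfl⟩ := QuotientGroup.mk_surjective x
    exact ⟨g, hgo g⟩
  let p : L ⧸ A → V := Quotient.lift (fun g : L => π g e) (by
    intro a b hab
    have h1 : a⁻¹ * b ∈ A := QuotientGroup.leftRel_apply.1 hab
    have h2 := D.fixA _ h1
    show π a e = π b e
    rw [map_mul, LinearEquiv.mul_apply] at h2
    rw [← h2, pinv', h2])
  have hp : ∀ g : L, p (g • o) = π g e := by
    intro g
    rw [hgo]; rfl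
  have h1 := hinj p (RR o t) (cov D H hst htr hp) (quad3 D E hst htr hp H) o (g • o) o (conn D hst htr hp hgen g)
    Relation.ReflTransGen.refl (by
    rw [hp, hg]
    have := hp 1
    rw [one_smul, map_one] at this
    exact this.symm)
  exact (hst g).1 h1

end fin

section cq
variable {X : Type*} {p : X → V} {R : X → X → Prop} (C : Cov f p R) (Q : Quad3 f p R) (H : HS σ f) [FiniteDimensional F V]
  (hnd : Nd f (⊤ : Submodule F V)) (hN : ∀ a : F, a ≠ 0 → a * σ a = 1) (h2 : (2 : F) = 0)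
include C H

theorem quad0 {x a z b : X} (h1 : R x a) (h2 : R a z) (h3 : R x b) (h4 : f (p b) (p z) = 0) (h5 : f (p a) (p b) = 0) : R z b :=
  C.tri h2 (C.tri h1 h3 h5) (H.symm_zero h4)

include Q hnd hN h2

theorem cq2 (h5 : 5 ≤ finrank F V) {x a z b : X} (h1 : R x a) (h2' : R a z) (h3 : R x b) (h4 : f (p b) (p z) = 0) : R z b := by
  by_cases e1 : f (p x) (p z) = 0
  · exact C.tri (C.tri (C.symm h1) h2' e1) h3 (H.symm_zero h4)
  by_cases e2 : f (p a) (p b) = 0
  · exact quad0 C H h1 h2' h3 h4 e2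
  have hx1 := C.nrm x
  have ha1 := C.nrm a
  have hz1 := C.nrm z
  have hb1 := C.nrm b
  have oxa := C.orth h1
  have oaz := C.orth h2'
  have oxb := C.orth h3
  have oax := H.symm_zero oxa
  have oza := H.symm_zero oaz
  have obx := H.symm_zero oxb
  have ozb := H.symm_zero h4
  have hx0 : f (p x) (p x) ≠ 0 := by rw [hx1]; exact one_ne_zero
  have ha0 : f (p a) (p a) ≠ 0 := by rw [ha1]; exact one_ne_zero
  have hzx : f (p z) (p x) ≠ 0 := H.symm_ne e1
  have hba : f (p b) (p a) ≠ 0 := H.symm_ne e2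
  have ham : p a ∈ pp H ⊤ (p x) := by rw [mem_pp]; exact ⟨trivial, oax⟩
  set Y := pp H (pp H ⊤ (p x)) (p a) with hY
  have hYnd : Nd f Y := pp_nd H (pp_nd H hnd trivial hx0) ham ha0
  have r1 := pp_rank H (⊤ : Submodule F V) (p x)
  rw [finrank_top] at r1
  have r2 := pp_rank H (pp H ⊤ (p x)) (p a)
  rw [← hY] at r2
  have hY3 : 3 ≤ finrank F Y := by omega
  have hYm : ∀ v, v ∈ Y ↔ f v (p x) = 0 ∧ f v (p a) = 0 := by
    intro v
    rw [hY, mem_pp, mem_pp]
    exact ⟨fun h => ⟨h.1.2, h.2⟩, fun h => ⟨⟨trivial, h.1⟩, h.2⟩⟩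
  set r : V := p z - f (p z) (p x) • p x with hr
  set ρ : V := p b - f (p b) (p a) • p a with hρ
  have hrY : r ∈ Y := by
    rw [hYm, hr, H.sub_left, H.smul_left, hx1, mul_one, sub_self, H.sub_left, H.smul_left, oza, oxa, mul_zero, sub_zero]
    exact ⟨rfl, rfl⟩
  have hρY : ρ ∈ Y := by
    rw [hYm]
    constructor
    · rw [hρ, H.sub_left, H.smul_left, obx, oax, mul_zero, sub_zero]
    · rw [hρ, H.sub_left, H.smul_left, ha1, mul_one, sub_self]
  have hrr : f r r = 0 := by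
    have := proj_nrm H (x := p x) (y := p z) hx1
    rw [hz1, hN _ hzx, sub_self] at this
    exact this
  have hρρ : f ρ ρ = 0 := by
    have := proj_nrm H (x := p a) (y := p b) ha1
    rw [hb1, hN _ hba, sub_self] at this
    exact this
  have hρr : f ρ r = 0 := by
    rw [hρ, hr, H.sub_left, H.sub_right, H.sub_right, H.smul_left, H.smul_left, H.smul_right, H.smul_right, h4, obx, oaz, oax]
    ring
  have hrρ := H.symm_zero hρr
  have hzr : p z = f (p z) (p x) • p x + r := by rw [hr]; abel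
  have hbρ : p b = f (p b) (p a) • p a + ρ := by rw [hρ]; abel
  -- an intermediate vertex orthogonal to everything
  have inter : (∃ c ∈ Y, f c c = 1 ∧ f c r = 0 ∧ f c ρ = 0) → R z b := by
    rintro ⟨c, hc, hcc, hcr, hcρ⟩
    rw [hYm] at hc
    obtain ⟨c', hxc, rfl⟩ := C.lift x c hcc (H.symm_zero hc.1)
    have hcz : f (p c') (p z) = 0 := by rw [hzr, H.add_right, H.smul_right, hc.1, hcr, mul_zero, add_zero]
    have hcb : f (p c') (p b) = 0 := by rw [hbρ, H.add_right, H.smul_right, hc.2, hcρ, mul_zero, add_zero]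
    have s1 : R z c' := quad0 C H h1 h2' hxc hcz (H.symm_zero hc.2)
    exact quad0 C H hxc (C.symm s1) h3 h4 hcb
  by_cases hr0 : r = 0
  · obtain ⟨c, hc, hcc, hcρ⟩ := exA H hYnd hY3 hρY
    exact inter ⟨c, hc, hcc, by rw [hr0, H.zero_right], hcρ⟩
  by_cases hsp : ρ ∈ Submodule.span F {r}
  · obtain ⟨μ, hμ⟩ := Submodule.mem_span_singleton.1 hsp
    obtain ⟨c, hc, hcc, hcr⟩ := exA H hYnd hY3 hrY
    exact inter ⟨c, hc, hcc, hcr, by rw [← hμ, H.smul_right, hcr, mul_zero]⟩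
  -- the generic case
  have hρ0 : ρ ≠ 0 := by rintro h; rw [h] at hsp; exact hsp (Submodule.zero_mem _)
  obtain ⟨t, htY, htρ, htr⟩ : ∃ t ∈ Y, f t ρ = 0 ∧ f t r ≠ 0 := by
    by_contra hcon
    push Not at hcon
    have h6 := H.mem_span_of_perp hYnd hρY hrY hcon
    obtain ⟨μ, hμ⟩ := Submodule.mem_span_singleton.1 h6
    have hμ0 : μ ≠ 0 := by rintro rfl; rw [zero_smul] at hμ; exact hr0 hμ.symm
    apply hsp
    rw [Submodule.mem_span_singleton]
    exact ⟨μ⁻¹, by rw [← hμ, smul_smul, inv_mul_cancel₀ hμ0, one_smul]⟩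
  have hrt := H.symm_ne htr
  obtain ⟨k, hk⟩ := H.exists_add_norm hrr hrt (map_one σ)
  set a1 : V := t + k • r with ha1'
  have hra : f r a1 = f r t := by rw [ha1', H.add_right, H.smul_right, hrr, mul_zero, add_zero]
  have har : f a1 r = f t r := by rw [ha1', H.add_left, H.smul_left, hrr, mul_zero, add_zero]
  set b1 : V := r - f r a1 • a1 with hb1'
  have ha1Y : a1 ∈ Y := Y.add_mem htY (Y.smul_mem _ hrY)
  have hb1Y : b1 ∈ Y := Y.sub_mem hrY (Y.smul_mem _ ha1Y)
  have hbb : f b1 b1 = 1 := by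
    have := proj_nrm H (x := a1) (y := r) hk
    rw [hrr, hN _ (by rw [hra]; exact hrt)] at this
    rw [this]; linear_combination -h2
  have hab : f a1 b1 = 0 := by
    rw [hb1', H.sub_right, H.smul_right, hk, mul_one, H.herm a1 r, sub_self]
  have ha1ρ : f a1 ρ = 0 := by rw [ha1', H.add_left, H.smul_left, htρ, hrρ, mul_zero, add_zero]
  have hb1ρ : f b1 ρ = 0 := by rw [hb1', H.sub_left, H.smul_left, ha1ρ, hrρ, mul_zero, sub_zero]
  rw [hYm] at ha1Y hb1Y
  have hrab : r = f r a1 • a1 + b1 := by rw [hb1']; abel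
  have hfin : R b z := by
    refine Q x a b z h1 h3 h2' a1 b1 (f (p z) (p x)) (f r a1) 1 hk hbb hab (H.symm_zero ha1Y.1) (H.symm_zero hb1Y.1)
      (H.symm_zero ha1Y.2) (H.symm_zero hb1Y.2) ?_ ?_ hz1 ?_
    · rw [hbρ, H.add_left, H.smul_left, H.symm_zero ha1Y.2, H.symm_zero ha1ρ, mul_zero, add_zero]
    · rw [hbρ, H.add_left, H.smul_left, H.symm_zero hb1Y.2, H.symm_zero hb1ρ, mul_zero, add_zero]
    · rw [one_smul, add_assoc, ← hrab, ← hzr]
  exact C.symm hfin

theorem inj2 (h5 : 5 ≤ finrank F V) {x0 z w : X}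
    (hz : Relation.ReflTransGen R x0 z) (hw : Relation.ReflTransGen R x0 w) (hzw : p z = p w) : z = w := by
  refine inj_of C H hnd (by omega) (cq2 C Q H hnd hN h2 h5) ?_ hz hw hzw
  rintro u v ⟨y, h1, h2'⟩ h3
  obtain ⟨c, hc, hcu, hcv, hcx⟩ := ex3 H hnd h5 (z := p x0) (C.nrm u) (C.nrm v) (C.orth h3)
  obtain ⟨c', r1, rfl⟩ := C.lift x0 c hc (H.symm_zero hcx)
  have r2 := cq2 C Q H hnd hN h2 h5 h1 h2' r1 hcu
  exact ⟨c', r1, C.symm (C.tri h3 r2 (H.symm_zero hcv))⟩

end cq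

end Cfsg.Agent.Lib.Phan
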