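import Cfsg.Agent.Lib.PhanT

/-! The inductive step for `q = 2` (helper38). -/

set_option autoImplicit false
set_option linter.unusedSectionVars false
set_option linter.unusedSimpArgs false

namespace Cfsg.Agent.Lib.Phan

open Module Matrix Cfsg Cfsg.Agent.Lib.UnTrans Cfsg.Agent.Lib.UnBridge Cfsg.Agent.Lib.ClUnSimple
open Cfsg.Agent.Lib.SpTrans (isom mem_isom)

/-- `SU(m+3)` is generated by `SU(m+2)` and the last `SU(2)`, for all `q`, dimension at least four -/
theorem gen4 {F : Type*} [Field F] {q m : ℕ} [Fintype F] (hF : Fintype.card F = q ^ 2) (hm : 1 ≤ m) :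
    (blk (sh 0 (show 0 + (m + 2) ≤ m + 3 by omega)) : SU (m + 2) F q →* SU (m + 3) F q).range ⊔
      (blk (sh (m + 1) (show m + 1 + 2 ≤ m + 3 by omega)) : SU 2 F q →* SU (m + 3) F q).range = ⊤ := by
  have H := herm_HS (m + 3) hF
  have hnd := herm_nd (m + 3) hF
  have h4 : 4 ≤ finrank F (Fin (m + 3) → F) := by rw [Module.finrank_fin_fun]; omega
  refine gen_step hF fun x y hx hy => ?_
  obtain ⟨c, hc, hcx, hcy⟩ := ex2 H hnd h4 (y := y) hx
  obtain ⟨c', hc', hcc, hcy'⟩ := ex2 H hnd h4 (y := y) hc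
  exact ⟨c, c', hc, hc', H.symm_zero hcx, H.symm_zero hcc, hcy'⟩

variable {F : Type*} [Field F] {m : ℕ} {G : Type*} [Group G]
variable [Fintype F] (hF : Fintype.card F = 2 ^ 2)
include hF

theorem q2_char : (2 : F) = 0 := by
  have h1 : ((Fintype.card F : ℕ) : F) = 0 := Nat.cast_card_eq_zero F
  rw [hF] at h1
  have h2 : (2 : F) ^ 2 = 0 := by rw [← h1]; norm_num
  exact pow_eq_zero_iff two_ne_zero |>.1 h2

theorem q2_norm (a : F) (ha : a ≠ 0) : a * sig hF a = 1 := by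
  rw [sig_apply]
  have h1 : a ^ (Fintype.card F - 1) = 1 := FiniteField.pow_card_sub_one_eq_one a ha
  rw [hF] at h1
  norm_num at h1
  linear_combination h1

/-- **extension theorem for `q = 2`** -/
theorem step2 (hm : 1 ≤ m) (fH : SU (m + 3) F 2 →* G) (Ψ : SU 4 F 2 →* G)
    (hcompat : ∀ s : SU 3 F 2, fH (blk (sh m (by omega)) s) = Ψ (blk (sh 0 (by omega)) s))
    (hcomm1 : ∀ (h : SU (m + 2) F 2) (k : SU 2 F 2), fH (blk (sh 0 (by omega)) h) * Ψ (blk (sh 2 (by omega)) k) =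
      Ψ (blk (sh 2 (by omega)) k) * fH (blk (sh 0 (by omega)) h))
    (hcomm3 : ∀ (h : SU (m + 1) F 2) (k : SU 3 F 2), fH (blk (sh 0 (by omega)) h) * Ψ (blk (sh 1 (by omega)) k) =
      Ψ (blk (sh 1 (by omega)) k) * fH (blk (sh 0 (by omega)) h)) :
    ∃ Φ : SU (m + 4) F 2 →* G, (∀ h, Φ (blk (sh 0 (by omega)) h) = fH h) ∧ (∀ c, Φ (blk (sh m (by omega)) c) = Ψ c) := by
  let ψ : SU 3 F 2 →* G := Ψ.comp (blk (sh 1 (show 1 + 3 ≤ 4 by omega)))
  set L := (gr1 fH).range ⊔ (gr2 (m + 1) ψ).range with hL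
  obtain ⟨t, c0, cs, D⟩ : ∃ t c0 cs : L, Dat (hermForm (m + 4) F 2) (act F 2 (m + 1) G L) ((gr1 fH).range.subgroupOf L)
      ((gr2 (m + 1) ψ).range.subgroupOf L) (((gr2 (m + 1) ψ).comp (blk (sh 1 (show 1 + 2 ≤ 3 by omega)) : SU 2 F 2 →* SU 3 F 2)).range.subgroupOf L)
      (Pi.single ⟨m + 3, by omega⟩ 1) (Pi.single ⟨m + 2, by omega⟩ 1) (Pi.single ⟨m + 1, by omega⟩ 1) t c0 cs := step_dat hF (m := m + 1) (by omega) fH ψ (by
    intro s
    show _ = Ψ (blk _ (blk _ s))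
    have h1 := hcompat (blk (sh 1 (by omega)) s)
    rw [blk_sh, blk_sh] at h1
    rw [blk_sh]
    exact h1) (by
    intro h k
    show _ * Ψ (blk _ (blk _ k)) = Ψ (blk _ (blk _ k)) * _
    rw [blk_sh]
    exact hcomm1 h k)
  have H := herm_HS (m + 4) hF
  have hnd := herm_nd (m + 4) hF
  have i1 : ∀ h, gr1 fH h ∈ L := fun h => (le_sup_left : _ ≤ L) ⟨h, rfl⟩
  have i2 : ∀ c, gr2 (m + 1) ψ c ∈ L := fun c => (le_sup_right : _ ≤ L) ⟨c, rfl⟩
  -- the window
  let gw : SU 4 F 2 →* SU (m + 4) F 2 × G := (blk (sh m (show m + 4 ≤ m + 4 by omega))).prod Ψ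
  have gw0 : ∀ s : SU 3 F 2, gw (blk (sh 0 (by omega)) s) = gr1 fH (blk (sh m (by omega)) s) := by
    intro s
    refine Prod.ext ?_ (hcompat s).symm
    show blk _ (blk _ s) = blk _ (blk _ s)
    rw [blk_sh, blk_sh, sh_congr (show m + 0 = 0 + m by omega) (by omega) (by omega)]
  have gw1 : ∀ s : SU 3 F 2, gw (blk (sh 1 (by omega)) s) = gr2 (m + 1) ψ s := by
    intro s
    refine Prod.ext ?_ rfl
    show blk _ (blk _ s) = blk _ s
    rw [blk_sh]
  have gw2 : ∀ s : SU 2 F 2, gw (blk (sh 2 (by omega)) s) = gr2 (m + 1) ψ (blk (sh 1 (by omega)) s) := by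
    intro s
    rw [← gw1, blk_sh]
  have i4 : ∀ c, gw c ∈ L := by
    have h1 : (⊤ : Subgroup (SU 4 F 2)) ≤ L.comap gw := by
      rw [← gen4 (m := 1) hF le_rfl, sup_le_iff]
      constructor
      · rintro _ ⟨s, rfl⟩
        show gw _ ∈ L
        rw [gw0]; exact i1 _
      · rintro _ ⟨s, rfl⟩
        show gw (blk (sh 2 _) s) ∈ L
        rw [gw2]; exact i2 _
    intro c
    exact h1 (Subgroup.mem_top c)
  -- vectors as extensions
  have x3 : (Pi.single ⟨m + 3, by omega⟩ 1 : Fin (m + 4) → F) = ext (sh m (show m + 4 ≤ m + 4 by omega)) (Pi.single 3 1) := by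
    rw [ext_single]; congr 1
  have x2 : (Pi.single ⟨m + 2, by omega⟩ 1 : Fin (m + 4) → F) = ext (sh m (show m + 4 ≤ m + 4 by omega)) (Pi.single 2 1) := by
    rw [ext_single]; congr 1
  have x1 : (Pi.single ⟨m + 1, by omega⟩ 1 : Fin (m + 4) → F) = ext (sh m (show m + 4 ≤ m + 4 by omega)) (Pi.single 1 1) := by
    rw [ext_single]; congr 1
  have x0 : (Pi.single ⟨m, by omega⟩ 1 : Fin (m + 4) → F) = ext (sh m (show m + 4 ≤ m + 4 by omega)) (Pi.single 0 1) := by
    rw [ext_single]; congr 1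
  have aw : ∀ (c : SU 4 F 2) (u : Fin 4 → F), act F 2 (m + 1) G L ⟨gw c, i4 c⟩ (ext (sh m (show m + 4 ≤ m + 4 by omega)) u) =
      ext (sh m (show m + 4 ≤ m + 4 by omega)) (c.1.1 *ᵥ u) := by
    intro c u
    rw [act_apply]
    exact blkM_ext _ _ _
  have ext4 : ∀ {u v : Fin 4 → F}, ext (sh m (show m + 4 ≤ m + 4 by omega)) u = ext (sh m (show m + 4 ≤ m + 4 by omega)) v → u = v := by
    intro u v h
    funext a
    have := congrFun h (sh m (show m + 4 ≤ m + 4 by omega) a)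
    rw [ext_in, ext_in] at this
    exact this
  -- the element c3
  have hss : ∀ a : Fin 3, hermForm 3 F 2 (Pi.single a 1) (Pi.single a 1) = 1 := fun a => by rw [herm_ss hF, if_pos rfl]
  obtain ⟨s3, hs3⟩ := SU_trans hF (k := 3) (by norm_num) (hss 2) (hss 0)
  have y2 : (Pi.single 2 1 : Fin 4 → F) = ext (sh 0 (show 0 + 3 ≤ 4 by omega)) (Pi.single 2 1) := by
    rw [ext_single]; congr 1
  have y0' : (Pi.single 0 1 : Fin 4 → F) = ext (sh 0 (show 0 + 3 ≤ 4 by omega)) (Pi.single 0 1) := by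
    rw [ext_single]; congr 1
  set w3 : SU 4 F 2 := blk (sh 0 (show 0 + 3 ≤ 4 by omega)) s3 with hw3
  have w3e : w3.1.1 *ᵥ Pi.single 2 1 = Pi.single 0 1 := by rw [hw3, blk_coe, y2, blkM_ext, hs3, ← y0']
  -- t as a window element
  obtain ⟨t', ht'⟩ := Subgroup.mem_subgroupOf.1 D.tK
  have htw : t = ⟨gw (blk (sh 2 (by omega)) t'), i4 _⟩ := by
    apply Subtype.ext
    exact ht'.symm.trans (gw2 t').symm
  have fix4 : ∀ c : SU 4 F 2, c.1.1 *ᵥ Pi.single 3 1 = Pi.single 3 1 → (⟨gw c, i4 c⟩ : L) ∈ (gr1 fH).range.subgroupOf L := by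
    intro c hc
    obtain ⟨s, hs⟩ := mem_blk hF (sh 0 (show 0 + 3 ≤ 4 by omega)) c (by
      intro a ha
      have h3 := range_sh ha
      have h4 : a = 3 := Fin.ext (by have := a.2; show a.1 = 3; omega)
      rw [h4]; exact hc)
    rw [Subgroup.mem_subgroupOf]
    show gw c ∈ _
    rw [← hs, gw0]
    exact ⟨_, rfl⟩
  have te3 : (blk (sh 2 (show 2 + 2 ≤ 4 by omega)) t' : SU 4 F 2).1.1 *ᵥ Pi.single 3 1 = Pi.single 2 1 := by
    have h1 := D.te
    rw [htw, x3, aw, x2] at h1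
    exact ext4 h1
  have E : Dat3 (hermForm (m + 4) F 2) (act F 2 (m + 1) G L) ((gr1 fH).range.subgroupOf L) ((gr2 (m + 1) ψ).range.subgroupOf L)
      (Pi.single ⟨m + 3, by omega⟩ 1) (Pi.single ⟨m + 2, by omega⟩ 1) (Pi.single ⟨m + 1, by omega⟩ 1) (Pi.single ⟨m, by omega⟩ 1)
      t ⟨gw w3, i4 w3⟩ := by
    refine
      { n3 := by rw [herm_ss hF, if_pos rfl]
        p0 := by rw [herm_ss hF, if_neg (by simp [Fin.ext_iff])]
        p1 := by rw [herm_ss hF, if_neg (by simp [Fin.ext_iff])]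
        p2 := by rw [herm_ss hF, if_neg (by simp [Fin.ext_iff])]
        c3A := ?_
        c3e' := by rw [x2, aw, w3e, ← x0]
        fix3 := ?_
        T3 := ?_
        TC := ?_
        comm3 := ?_ }
    · -- c3A
      rw [Subgroup.mem_subgroupOf]
      show gw w3 ∈ _
      rw [hw3, gw0]
      exact ⟨_, rfl⟩
    · -- fix3
      intro k hk
      obtain ⟨k', hk'⟩ := Subgroup.mem_subgroupOf.1 hk
      have hkw : k = ⟨gw (blk (sh 1 (by omega)) k'), i4 _⟩ := by
        apply Subtype.ext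
        exact hk'.symm.trans (gw1 k').symm
      set T : SU 4 F 2 := blk (sh 2 (show 2 + 2 ≤ 4 by omega)) t' with hT
      set K' : SU 4 F 2 := blk (sh 1 (show 1 + 3 ≤ 4 by omega)) k' with hK'
      have e1 : (⟨gw w3, i4 w3⟩ * t : L)⁻¹ * k * (⟨gw w3, i4 w3⟩ * t) = ⟨gw ((w3 * T)⁻¹ * K' * (w3 * T)), i4 _⟩ := by
        rw [htw, hkw]
        apply Subtype.ext
        show (gw w3 * gw T)⁻¹ * gw K' * (gw w3 * gw T) = gw ((w3 * T)⁻¹ * K' * (w3 * T))
        rw [map_mul, map_mul, map_inv, map_mul]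
      rw [e1]
      apply fix4
      have k0 : K'.1.1 *ᵥ Pi.single 0 1 = Pi.single 0 1 := by
        rw [hK', blk_coe, blkM_fix]
        intro b
        rw [sh_apply]
        exact Pi.single_eq_of_ne (by rw [Ne, Fin.ext_iff]; show ¬ (1 + b.1 = 0); omega) _
      have e2 : (w3 * T).1.1 *ᵥ Pi.single 3 1 = Pi.single 0 1 := by rw [mul_mulVec', te3, w3e]
      rw [mul_mulVec', mul_mulVec', e2, k0, ← e2, inv_mulVec']
    · -- T3
      intro v hv hev hev' hev''
      have h1 : v ⟨m + 3, by omega⟩ = 0 := by rw [← herm_single (q := 2) hF ⟨m + 3, by omega⟩ v]; exact H.symm_zero hev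
      have h2 : v ⟨m + 2, by omega⟩ = 0 := by rw [← herm_single (q := 2) hF ⟨m + 2, by omega⟩ v]; exact H.symm_zero hev'
      have h2' : v ⟨m + 1, by omega⟩ = 0 := by rw [← herm_single (q := 2) hF ⟨m + 1, by omega⟩ v]; exact H.symm_zero hev''
      have h3 : ext (sh 0 (show 0 + (m + 1) ≤ m + 4 by omega)) (v ∘ sh 0 (show 0 + (m + 1) ≤ m + 4 by omega)) = v := by
        apply ext_res
        intro a ha
        rcases range_sh ha with h4 | h4
        · omega
        · have h5 : a = ⟨m + 3, by omega⟩ ∨ a = ⟨m + 2, by omega⟩ ∨ a = ⟨m + 1, by omega⟩ := by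
            rw [Fin.ext_iff, Fin.ext_iff, Fin.ext_iff]
            have := a.2
            simp only []
            omega
          rcases h5 with h5 | h5 | h5
          · rw [h5]; exact h1
          · rw [h5]; exact h2
          · rw [h5]; exact h2'
      obtain ⟨h, hh⟩ := SU_trans hF (k := m + 1) (by omega) (x := Pi.single ⟨m, by omega⟩ 1) (y := v ∘ sh 0 (show 0 + (m + 1) ≤ m + 4 by omega))
        (by rw [herm_ss hF, if_pos rfl]) (by rw [← herm_ext (sh 0 (show 0 + (m + 1) ≤ m + 4 by omega)), h3]; exact hv)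
      have h6 : (blk (sh 0 (show 0 + (m + 3) ≤ m + 4 by omega)) (blk (sh 0 (show 0 + (m + 1) ≤ m + 3 by omega)) h) : SU (m + 4) F 2) =
          blk (sh 0 (show 0 + (m + 1) ≤ m + 4 by omega)) h := by rw [blk_sh]
      have hact : ∀ u, act F 2 (m + 1) G L ⟨gr1 fH (blk (sh 0 (by omega)) h), i1 _⟩ u = (blk (sh 0 (show 0 + (m + 1) ≤ m + 4 by omega)) h : SU (m + 4) F 2).1.1 *ᵥ u := by
        intro u
        rw [act_apply, ← h6]
        rfl
      refine ⟨⟨gr1 fH (blk (sh 0 (by omega)) h), i1 _⟩, Subgroup.mem_subgroupOf.2 ⟨_, rfl⟩, ?_, ?_, ?_⟩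
      · rw [hact, blk_coe, blkM_fix]
        intro b
        rw [sh_apply]
        have hb := b.2
        exact Pi.single_eq_of_ne (by rw [Ne, Fin.ext_iff]; show ¬ (0 + b.1 = m + 2); omega) _
      · rw [hact, blk_coe, blkM_fix]
        intro b
        rw [sh_apply]
        have hb := b.2
        exact Pi.single_eq_of_ne (by rw [Ne, Fin.ext_iff]; show ¬ (0 + b.1 = m + 1); omega) _
      · have h7 : (Pi.single ⟨m, by omega⟩ 1 : Fin (m + 4) → F) = ext (sh 0 (show 0 + (m + 1) ≤ m + 4 by omega)) (Pi.single ⟨m, by omega⟩ 1) := by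
          rw [ext_single]
          congr 1
          rw [sh_apply]
          exact Fin.ext (by simp only []; omega)
        rw [hact, blk_coe, h7, blkM_ext, hh, h3]
    · -- TC
      intro a b c habc
      have z3 : (Pi.single 3 1 : Fin 4 → F) = ext (sh 1 (show 1 + 3 ≤ 4 by omega)) (Pi.single 2 1) := by
        rw [ext_single]; congr 1
      have z2 : (Pi.single 2 1 : Fin 4 → F) = ext (sh 1 (show 1 + 3 ≤ 4 by omega)) (Pi.single 1 1) := by
        rw [ext_single]; congr 1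
      have z1 : (Pi.single 1 1 : Fin 4 → F) = ext (sh 1 (show 1 + 3 ≤ 4 by omega)) (Pi.single 0 1) := by
        rw [ext_single]; congr 1
      have h1 : (a • Pi.single ⟨m + 3, by omega⟩ 1 + b • Pi.single ⟨m + 2, by omega⟩ 1 + c • Pi.single ⟨m + 1, by omega⟩ 1 : Fin (m + 4) → F) =
          ext (sh m (show m + 4 ≤ m + 4 by omega)) (ext (sh 1 (show 1 + 3 ≤ 4 by omega)) (a • Pi.single 2 1 + b • Pi.single 1 1 + c • Pi.single 0 1)) := by
        rw [x3, x2, x1, z3, z2, z1]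
        simp only [ext, Matrix.mulVec_add, Matrix.mulVec_smul]
      rw [h1, herm_ext, herm_ext] at habc
      obtain ⟨k, hk⟩ := SU_trans hF (k := 3) (by norm_num) (hss 2) habc
      refine ⟨⟨gr2 (m + 1) ψ k, i2 _⟩, Subgroup.mem_subgroupOf.2 ⟨k, rfl⟩, ?_⟩
      have h5 : (⟨gr2 (m + 1) ψ k, i2 _⟩ : L) = ⟨gw (blk (sh 1 (by omega)) k), i4 _⟩ := Subtype.ext (gw1 k).symm
      rw [h5, h1, x3, aw, blk_coe, z3, blkM_ext, hk]
    · -- comm3
      intro h hh hhe hhe' k hk
      obtain ⟨h', hh'⟩ := Subgroup.mem_subgroupOf.1 hh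
      obtain ⟨k', hk'⟩ := Subgroup.mem_subgroupOf.1 hk
      have hfix : ∀ (j : ℕ) (hj : j < m + 3), act F 2 (m + 1) G L h (Pi.single ⟨j, by omega⟩ 1) = Pi.single ⟨j, by omega⟩ 1 →
          h'.1.1 *ᵥ Pi.single ⟨j, hj⟩ 1 = Pi.single ⟨j, hj⟩ 1 := by
        intro j hj hj'
        have h7 : (Pi.single ⟨j, by omega⟩ 1 : Fin (m + 4) → F) = ext (sh 0 (show 0 + (m + 3) ≤ m + 4 by omega)) (Pi.single ⟨j, hj⟩ 1) := by
          rw [ext_single]
          congr 1
          rw [sh_apply]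
          exact Fin.ext (by simp only []; omega)
        have h2 : act F 2 (m + 1) G L h (ext (sh 0 (show 0 + (m + 3) ≤ m + 4 by omega)) (Pi.single ⟨j, hj⟩ 1)) =
            ext (sh 0 (show 0 + (m + 3) ≤ m + 4 by omega)) (h'.1.1 *ᵥ Pi.single ⟨j, hj⟩ 1) := by
          rw [act_apply, ← hh']
          exact blkM_ext _ _ _
        rw [h7] at hj'
        rw [hj'] at h2
        funext a
        have := congrFun h2 (sh 0 (show 0 + (m + 3) ≤ m + 4 by omega) a)
        rw [ext_in, ext_in] at this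
        exact this.symm
      obtain ⟨s, hs⟩ := mem_blk hF (sh 0 (show 0 + (m + 1) ≤ m + 3 by omega)) h' (by
        intro a ha
        have h3 := range_sh ha
        have h4 : a = ⟨m + 2, by omega⟩ ∨ a = ⟨m + 1, by omega⟩ := by
          rw [Fin.ext_iff, Fin.ext_iff]
          have := a.2
          simp only []
          omega
        rcases h4 with h4 | h4
        · rw [h4]; exact hfix (m + 2) (by omega) hhe
        · rw [h4]; exact hfix (m + 1) (by omega) hhe')
      apply Subtype.ext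
      show h.1 * k.1 = k.1 * h.1
      rw [← hh', ← hk', ← hs]
      refine Prod.ext ?_ ?_
      · show blk _ (blk _ s) * blk _ k' = blk _ k' * blk _ (blk _ s)
        rw [blk_comp]
        apply blk_comm
        intro a b
        show sh (k := m + 3) (n := m + 4) 0 (by omega) (sh (k := m + 1) (n := m + 3) 0 (by omega) a) ≠
          sh (k := 3) (n := m + 4) (m + 1) (by omega) b
        rw [sh_apply, sh_apply, sh_apply, Ne, Fin.ext_iff]
        have := a.2
        simp only []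
        omega
      · exact hcomm3 s k'
  -- generation
  have hgen : (gr1 fH).range.subgroupOf L ⊔ ((gr2 (m + 1) ψ).comp (blk (sh 1 (show 1 + 2 ≤ 3 by omega)) : SU 2 F 2 →* SU 3 F 2)).range.subgroupOf L = ⊤ := by
    have hK : ((gr2 (m + 1) ψ).comp (blk (sh 1 (show 1 + 2 ≤ 3 by omega)) : SU 2 F 2 →* SU 3 F 2)).range ≤ L := by
      rintro _ ⟨k, rfl⟩
      exact i2 _
    rw [← Subgroup.subgroupOf_sup le_sup_left hK, Subgroup.subgroupOf_eq_top]
    rw [sup_le_iff]
    refine ⟨le_sup_left, ?_⟩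
    have h1 : (⊤ : Subgroup (SU 4 F 2)) ≤ ((gr1 fH).range ⊔ ((gr2 (m + 1) ψ).comp (blk (sh 1 (show 1 + 2 ≤ 3 by omega)) : SU 2 F 2 →* SU 3 F 2)).range).comap gw := by
      rw [← gen4 (m := 1) hF le_rfl, sup_le_iff]
      constructor
      · rintro _ ⟨s, rfl⟩
        rw [Subgroup.mem_comap, gw0]; exact Subgroup.mem_sup_left ⟨_, rfl⟩
      · rintro _ ⟨s, rfl⟩
        rw [Subgroup.mem_comap, gw2]; exact Subgroup.mem_sup_right ⟨_, rfl⟩
    rintro _ ⟨c, rfl⟩
    rw [← gw1]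
    exact h1 (Subgroup.mem_top _)
  -- the stabilizer
  have hstab : ∀ g : L, act F 2 (m + 1) G L g (Pi.single ⟨m + 3, by omega⟩ 1) = Pi.single ⟨m + 3, by omega⟩ 1 → g ∈ (gr1 fH).range.subgroupOf L := by
    intro g hg
    refine mem_of_fix3 D E H hgen ?_ hg
    intro p R C Q x0 z w hz hw hzw
    exact inj2 C Q H hnd (q2_norm hF) (q2_char hF) (by rw [Module.finrank_fin_fun]; omega) hz hw hzw
  -- the projection is bijective
  let pr : L →* SU (m + 4) F 2 := (MonoidHom.fst _ _).comp L.subtype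
  have hinj : Function.Injective pr := by
    rw [injective_iff_map_eq_one]
    intro g hg
    have h1 : act F 2 (m + 1) G L g (Pi.single ⟨m + 3, by omega⟩ 1) = Pi.single ⟨m + 3, by omega⟩ 1 := by
      rw [act_apply]
      have h2 : g.1.1 = 1 := hg
      rw [h2]; exact Matrix.one_mulVec _
    obtain ⟨h, hh⟩ := Subgroup.mem_subgroupOf.1 (hstab g h1)
    have h3 : blk (sh 0 (by omega)) h = (1 : SU (m + 4) F 2) := by
      have : (gr1 fH h).1 = g.1.1 := by rw [hh]
      exact this.trans hg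
    have h4 : h = 1 := blk_inj _ (h3.trans (map_one _).symm)
    apply Subtype.ext
    show g.1 = 1
    rw [← show gr1 fH h = g.1 from hh, h4, map_one]
  have hsurj : Function.Surjective pr := by
    rw [← MonoidHom.range_eq_top, eq_top_iff, ← gen4 (m := m + 1) hF (by omega), sup_le_iff]
    constructor
    · rintro _ ⟨h, rfl⟩
      exact ⟨⟨gr1 fH h, i1 h⟩, rfl⟩
    · rintro _ ⟨s, rfl⟩
      refine ⟨⟨gw (blk (sh 2 (by omega)) s), i4 _⟩, ?_⟩
      show blk _ (blk _ s) = _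
      rw [blk_sh]
  let Eq : L ≃* SU (m + 4) F 2 := MulEquiv.ofBijective pr ⟨hinj, hsurj⟩
  let Φ : SU (m + 4) F 2 →* G := ((MonoidHom.snd _ _).comp L.subtype).comp Eq.symm.toMonoidHom
  have hΦ : ∀ x : L, Φ x.1.1 = x.1.2 := by
    intro x
    show (Eq.symm (Eq x)).1.2 = x.1.2
    rw [MulEquiv.symm_apply_apply]
  exact ⟨Φ, fun h => hΦ ⟨gr1 fH h, i1 h⟩, fun c => hΦ ⟨gw c, i4 c⟩⟩

end Cfsg.Agent.Lib.Phan
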