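import Cfsg.Agent.Lib.PhanU
import Cfsg.Agent.Lib.PhanL
import Cfsg.Agent.Lib.SUThreeTwo

/-! Rigidity of standard pairs for `q = 2` (helper38). -/

set_option autoImplicit false
set_option linter.unusedSectionVars false
set_option linter.unusedSimpArgs false

namespace Cfsg.Agent.Lib.Phan

open Module Matrix Cfsg Cfsg.Agent.Lib.UnTrans Cfsg.Agent.Lib.UnBridge Cfsg.Agent.Lib.ClUnSimple
open scoped commutatorElement

theorem k4_comm : commutator (SU 3 K4.K4 2) = SUThreeTwo.piHom.ker := by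
  have h := SUThreeTwo.commutator_eq
  have h1 : SUThreeTwo.T ≤ SUThreeTwo.piHom.ker := h ▸ SUThreeTwo.commutator_le_ker
  rw [h]
  have : Finite (SU 3 K4.K4 2) := inferInstance
  exact Subgroup.eq_of_le_of_card_ge h1 (by rw [SUThreeTwo.card_T]; exact SUThreeTwo.card_ker_le)

theorem k4_sq (g : SU 3 K4.K4 2) : g * g ∈ commutator (SU 3 K4.K4 2) := by
  rw [k4_comm, SUThreeTwo.mem_ker_iff, SUThreeTwo.piA_mul]
  exact CharTwo.add_self_eq_zero _

section
variable {F : Type*} [Field F] [Fintype F] (hF : Fintype.card F = 2 ^ 2)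
include hF

theorem exists_k4 : Nonempty (F ≃+* K4.K4) := K4.exists_equiv F (by rw [hF]; norm_num)

theorem sq_mem (g : SU 3 F 2) : g * g ∈ commutator (SU 3 F 2) := by
  obtain ⟨e⟩ := exists_k4 hF
  let φ := SUTransport.suEquiv e 3 2
  have h1 := k4_sq (φ g)
  have h2 : (commutator (SU 3 K4.K4 2)).map φ.symm.toMonoidHom = commutator (SU 3 F 2) := by
    rw [commutator_def, Subgroup.map_commutator, Subgroup.map_top_of_surjective _ φ.symm.surjective]
    rfl
  rw [← h2]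
  refine ⟨_, h1, ?_⟩
  show φ.symm (φ g * φ g) = g * g
  rw [map_mul, MulEquiv.symm_apply_apply]

theorem comm_le : commutator (SU 3 F 2) ≤ (b0 F 2).range ⊔ (b1 F 2).range := by
  obtain ⟨e⟩ := exists_k4 hF
  let φ := SUTransport.suEquiv e.symm 3 2
  have h2 : (commutator (SU 3 K4.K4 2)).map φ.toMonoidHom = commutator (SU 3 F 2) := by
    rw [commutator_def, Subgroup.map_commutator, Subgroup.map_top_of_surjective _ φ.surjective]
    rfl
  have hφ : ∀ A : SU 3 K4.K4 2, (φ A).1.1 = A.1.1.map e.symm := fun A => rfl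
  rw [← h2, SUThreeTwo.commutator_eq, SUThreeTwo.T, MonoidHom.map_closure, Subgroup.closure_le]
  rintro _ ⟨x, hx, rfl⟩
  have k0 : ∀ A : SU 3 K4.K4 2, A.1.1 0 2 = 0 → A.1.1 1 2 = 0 → A.1.1 2 2 = 1 → φ A ∈ (b0 F 2).range := by
    intro A h0 h1 h2
    rw [← stV_e2 hF, mem_stV, hφ, Matrix.mulVec_single_one]
    funext i
    fin_cases i <;> simp [h0, h1, h2]
  have k1 : ∀ A : SU 3 K4.K4 2, A.1.1 0 0 = 1 → A.1.1 1 0 = 0 → A.1.1 2 0 = 0 → φ A ∈ (b1 F 2).range := by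
    intro A h0 h1 h2
    rw [← stV_e0 hF, mem_stV, hφ, Matrix.mulVec_single_one]
    funext i
    fin_cases i <;> simp [h0, h1, h2]
  rcases hx with rfl | rfl | rfl
  · exact Subgroup.mem_sup_left (k0 _ rfl rfl rfl)
  · exact Subgroup.mem_sup_right (k1 _ rfl rfl rfl)
  · exact Subgroup.mem_sup_left (k0 _ rfl rfl rfl)

theorem cube2 (a : F) (ha : a ≠ 0) : a ^ 3 = 1 := by
  have := q2_norm hF a ha
  rw [sig_apply] at this
  linear_combination this

/-- a primitive cube root of unity -/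
theorem exists_om : ∃ ζ : F, ζ ≠ 0 ∧ ζ ≠ 1 ∧ ζ ^ 2 + ζ + 1 = 0 ∧ ζ ^ 2 ≠ 1 ∧ ζ ^ 2 ≠ ζ := by
  obtain ⟨ζ, h1, h2⟩ := exists_zeta2 hF
  have h0 : ζ ≠ 0 := by rintro rfl; rw [zero_mul] at h1; exact zero_ne_one h1
  have h3 : ζ ≠ 1 := by rintro rfl; exact h2 (one_pow 2)
  have hc := cube2 hF ζ h0
  have h4 : ζ ^ 2 + ζ + 1 = 0 := by
    have : (ζ - 1) * (ζ ^ 2 + ζ + 1) = 0 := by linear_combination hc
    exact (mul_eq_zero.1 this).resolve_left (sub_ne_zero.2 h3)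
  refine ⟨ζ, h0, h3, h4, h2, ?_⟩
  intro h
  have : ζ * (ζ - 1) = 0 := by linear_combination h
  rcases mul_eq_zero.1 this with h | h
  · exact h0 h
  · exact h3 (sub_eq_zero.1 h)

/-- the Weyl element -/
noncomputable def wl2 : SU 2 F 2 := su2 hF 0 1 (by rw [map_one, zero_mul, zero_add, one_mul])

theorem wl2_coe : (wl2 hF).1.1 = !![0, 1; 1, 0] := by
  show !![0, 1; -sig hF 1, sig hF 0] = _
  rw [map_zero, map_one]
  congr 1
  have : (-1 : F) = 1 := by linear_combination -q2_char hF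
  rw [this]

/-- diagonal elements of `SU_2(2)` -/
noncomputable def td (a : F) (ha : a ≠ 0) : SU 2 F 2 := su2 hF a 0 (by rw [q2_norm hF a ha, map_zero, mul_zero, add_zero])

theorem td_coe (a : F) (ha : a ≠ 0) : (td hF a ha).1.1 = !![a, 0; 0, a ^ 2] := by
  show !![a, 0; -sig hF 0, sig hF a] = _
  rw [map_zero, neg_zero, sig_apply]

/-- the structure of `SU_2(2)` -/
theorem su2_cases (s : SU 2 F 2) : (s.1.1 0 1 = 0 ∧ s.1.1 1 0 = 0) ∨ (s.1.1 0 0 = 0 ∧ s.1.1 1 1 = 0) := by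
  obtain ⟨e1, e2⟩ := su2_entries hF s
  by_cases h0 : s.1.1 0 1 = 0
  · left; exact ⟨h0, by rw [e2, h0, map_zero, neg_zero]⟩
  · right
    by_cases h1 : s.1.1 0 0 = 0
    · exact ⟨h1, by rw [e1, h1, map_zero]⟩
    · exfalso
      have hd := s.1.2
      rw [Matrix.det_fin_two, e1, e2] at hd
      have n0 := q2_norm hF _ h0
      have n1 := q2_norm hF _ h1
      apply one_ne_zero (α := F)
      linear_combination hd - n0 - n1 + q2_char hF * 0

theorem tor_iff (s : SU 2 F 2) : s ∈ Tor F 2 ↔ s * s * s = 1 := by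
  obtain ⟨e1, e2⟩ := su2_entries hF s
  have hd := s.1.2
  rw [Matrix.det_fin_two] at hd
  constructor
  · rintro ⟨h1, h2⟩
    have h0 : s.1.1 0 0 ≠ 0 := by intro h; rw [h, h1] at hd; simp at hd
    have h3 : s.1.1 1 1 ≠ 0 := by intro h; rw [h, h1] at hd; simp at hd
    apply Subtype.ext; apply Subtype.ext
    show s.1.1 * s.1.1 * s.1.1 = 1
    ext i j
    fin_cases i <;> fin_cases j <;> simp [Matrix.mul_apply, Fin.sum_univ_two, h1, h2]
    · linear_combination cube2 hF _ h0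
    · linear_combination cube2 hF _ h3
  · intro h
    rcases su2_cases hF s with h1 | h1
    · exact h1
    · exfalso
      have h3 : (s * s * s).1.1 0 0 = 1 := by rw [h]; rfl
      have h4 : (s * s * s).1.1 = s.1.1 * s.1.1 * s.1.1 := rfl
      rw [h4] at h3
      simp [Matrix.mul_apply, Fin.sum_univ_two, h1.1, h1.2] at h3

theorem tor_aut (α : MulAut (SU 2 F 2)) : ∀ s ∈ Tor F 2, α s ∈ Tor F 2 := by
  intro s hs
  rw [tor_iff hF] at hs ⊢
  rw [← map_mul, ← map_mul, hs, map_one]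

theorem cen_cube {c : SU 3 F 2} (hc : c ∈ Subgroup.center (SU 3 F 2)) : c * c * c = 1 := by
  obtain ⟨r, hr⟩ := (ClUnitary.center_SU hF (by norm_num) _).1 hc
  have h3 : c.1.1 = r • (1 : Matrix (Fin 3) (Fin 3) F) := by rw [hr]; exact Algebra.algebraMap_eq_smul_one r
  have hd := c.1.2
  rw [h3, Matrix.det_smul, Matrix.det_one, Fintype.card_fin, mul_one] at hd
  apply Subtype.ext; apply Subtype.ext
  show c.1.1 * c.1.1 * c.1.1 = 1
  rw [h3, smul_mul_smul_comm, smul_mul_smul_comm, mul_one, mul_one]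
  have : r * r * r = 1 := by linear_combination hd
  rw [this, one_smul]

/-- the centraliser of the derived group is the centre -/
theorem cen_comm {c : SU 3 F 2} (h : ∀ x ∈ commutator (SU 3 F 2), c * x = x * c) : c ∈ Subgroup.center (SU 3 F 2) := by
  obtain ⟨ζ, z0, z1, z2, z3, z4⟩ := exists_om hF
  have hneg : (-1 : F) = 1 := by linear_combination -q2_char hF
  have hζ3 := cube2 hF ζ z0
  -- the diagonal element
  have hX : b0 F 2 (td hF ζ z0) ∈ commutator (SU 3 F 2) := by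
    have e : ⁅b0 F 2 (td hF (ζ ^ 2) (pow_ne_zero 2 z0)), b0 F 2 (wl2 hF)⁆ = b0 F 2 (td hF ζ z0) := by
      rw [commutatorElement_def, ← map_inv, ← map_inv, ← map_mul, ← map_mul, ← map_mul]
      congr 1
      rw [mul_inv_eq_iff_eq_mul, mul_inv_eq_iff_eq_mul]
      apply Subtype.ext; apply Subtype.ext
      show (td hF (ζ ^ 2) _).1.1 * (wl2 hF).1.1 = (td hF ζ z0).1.1 * (wl2 hF).1.1 * (td hF (ζ ^ 2) _).1.1
      rw [td_coe, td_coe, wl2_coe]
      ext i j
      fin_cases i <;> fin_cases j <;> simp [Matrix.mul_apply, Fin.sum_univ_two]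
      · linear_combination -(ζ ^ 2) * hζ3
      · linear_combination -ζ * 0
    rw [← e]
    exact Subgroup.commutator_mem_commutator (Subgroup.mem_top _) (Subgroup.mem_top _)
  have hP : ⁅b0 F 2 (wl2 hF), b1 F 2 (wl2 hF)⁆ ∈ commutator (SU 3 F 2) :=
    Subgroup.commutator_mem_commutator (Subgroup.mem_top _) (Subgroup.mem_top _)
  have hPm : (⁅b0 F 2 (wl2 hF), b1 F 2 (wl2 hF)⁆ : SU 3 F 2).1.1 = !![0, 1, 0; 0, 0, 1; 1, 0, 0] := by
    have hw : wl2 hF * wl2 hF = 1 := by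
      apply Subtype.ext; apply Subtype.ext
      show (wl2 hF).1.1 * (wl2 hF).1.1 = 1
      rw [wl2_coe]
      ext i j
      fin_cases i <;> fin_cases j <;> simp
    have hwi : (wl2 hF)⁻¹ = wl2 hF := inv_eq_of_mul_eq_one_left hw
    rw [commutatorElement_def, ← map_inv, ← map_inv, hwi]
    show (b0 F 2 (wl2 hF)).1.1 * (b1 F 2 (wl2 hF)).1.1 * (b0 F 2 (wl2 hF)).1.1 * (b1 F 2 (wl2 hF)).1.1 = _
    rw [b0_mat, b1_mat, wl2_coe]
    ext i j
    fin_cases i <;> fin_cases j <;> simp [Matrix.mul_apply, Fin.sum_univ_three]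
  have h1 : c.1.1 * (b0 F 2 (td hF ζ z0)).1.1 = (b0 F 2 (td hF ζ z0)).1.1 * c.1.1 := congrArg (fun s : SU 3 F 2 => s.1.1) (h _ hX)
  have h2 : c.1.1 * (⁅b0 F 2 (wl2 hF), b1 F 2 (wl2 hF)⁆ : SU 3 F 2).1.1 = (⁅b0 F 2 (wl2 hF), b1 F 2 (wl2 hF)⁆ : SU 3 F 2).1.1 * c.1.1 :=
    congrArg (fun s : SU 3 F 2 => s.1.1) (h _ hP)
  rw [b0_mat, td_coe] at h1
  rw [hPm] at h2
  have a01 := congrFun (congrFun h1 0) 1
  have a10 := congrFun (congrFun h1 1) 0
  have a02 := congrFun (congrFun h1 0) 2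
  have a20 := congrFun (congrFun h1 2) 0
  have a12 := congrFun (congrFun h1 1) 2
  have a21 := congrFun (congrFun h1 2) 1
  simp [Matrix.mul_apply, Fin.sum_univ_three] at a01 a10 a02 a20 a12 a21
  have d1 : ζ ^ 2 - ζ ≠ 0 := sub_ne_zero.2 z4
  have d2 : ζ - 1 ≠ 0 := sub_ne_zero.2 z1
  have d3 : ζ ^ 2 - 1 ≠ 0 := sub_ne_zero.2 z3
  have c01 : c.1.1 0 1 = 0 := (mul_eq_zero.1 (show (ζ ^ 2 - ζ) * c.1.1 0 1 = 0 by linear_combination a01)).resolve_left d1
  have c10 : c.1.1 1 0 = 0 := (mul_eq_zero.1 (show (ζ ^ 2 - ζ) * c.1.1 1 0 = 0 by linear_combination -a10)).resolve_left d1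
  have c02 : c.1.1 0 2 = 0 := (mul_eq_zero.1 (show (ζ - 1) * c.1.1 0 2 = 0 by linear_combination -a02)).resolve_left d2
  have c20 : c.1.1 2 0 = 0 := (mul_eq_zero.1 (show (ζ - 1) * c.1.1 2 0 = 0 by linear_combination a20)).resolve_left d2
  have c12 : c.1.1 1 2 = 0 := (mul_eq_zero.1 (show (ζ ^ 2 - 1) * c.1.1 1 2 = 0 by linear_combination -a12)).resolve_left d3
  have c21 : c.1.1 2 1 = 0 := (mul_eq_zero.1 (show (ζ ^ 2 - 1) * c.1.1 2 1 = 0 by linear_combination a21)).resolve_left d3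
  have p01 := congrFun (congrFun h2 0) 1
  have p12 := congrFun (congrFun h2 1) 2
  simp [Matrix.mul_apply, Fin.sum_univ_three] at p01 p12
  have hsc : c.1.1 = (c.1.1 0 0) • (1 : Matrix (Fin 3) (Fin 3) F) := by
    ext i j
    fin_cases i <;> fin_cases j <;> simp [c01, c10, c02, c20, c12, c21, p01, p12]
  rw [Subgroup.mem_center_iff]
  intro g
  apply Subtype.ext; apply Subtype.ext
  show g.1.1 * c.1.1 = c.1.1 * g.1.1
  rw [hsc]; simp

end

end Cfsg.Agent.Lib.Phan
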