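import Cfsg.Agent.Lib.PhanV

/-! Uniqueness of standard pairs for `q = 2` (helper38). -/

set_option autoImplicit false
set_option linter.unusedSectionVars false
set_option linter.unusedSimpArgs false

namespace Cfsg.Agent.Lib.Phan

open Module Matrix Cfsg Cfsg.Agent.Lib.UnTrans Cfsg.Agent.Lib.UnBridge Cfsg.Agent.Lib.ClUnSimple
open scoped commutatorElement

section gen
variable {F : Type*} [Field F] [Fintype F] {q : ℕ} (hF : Fintype.card F = q ^ 2) {G : Type*} [Group G]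
include hF

/-- twisting a standard pair by a diagonal-field automorphism -/
theorem Std.comp_dt {ψ : SU 3 F q →* G} {A B V : Subgroup G} (S : Std ψ A B V) (d : Fin 3 → F) (hd : ∀ i, d i * sig hF (d i) = 1)
    (τ : F ≃+* F) : Std (ψ.comp (dt hF d hd τ)) A B V := by
  have hb : Function.Bijective (dt hF d hd τ : SU 3 F q →* SU 3 F q) := dt_bij hF d hd τ
  have h0 : ∀ s, dt hF d hd τ (b0 F q s) = b0 F q (dt hF (d ∘ sh 0 (show 0 + 2 ≤ 3 by omega)) (fun i => hd _) τ s) := fun s => dt_blk hF _ _ _ _ _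
  have h1 : ∀ s, dt hF d hd τ (b1 F q s) = b1 F q (dt hF (d ∘ sh 1 (show 1 + 2 ≤ 3 by omega)) (fun i => hd _) τ s) := fun s => dt_blk hF _ _ _ _ _
  refine ⟨?_, ?_, ?_, ?_⟩
  · rw [← S.hA]
    ext g
    constructor
    · rintro ⟨s, rfl⟩
      exact ⟨_, by rw [MonoidHom.comp_apply, MonoidHom.comp_apply, MonoidHom.comp_apply, h0]⟩
    · rintro ⟨s, rfl⟩
      obtain ⟨t, ht⟩ := (dt_bij hF (d ∘ sh 0 (show 0 + 2 ≤ 3 by omega)) (fun i => hd _) τ).2 s
      refine ⟨t, ?_⟩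
      rw [MonoidHom.comp_apply, MonoidHom.comp_apply, h0, ht]; rfl
  · rw [← S.hB]
    ext g
    constructor
    · rintro ⟨s, rfl⟩
      exact ⟨_, by rw [MonoidHom.comp_apply, MonoidHom.comp_apply, MonoidHom.comp_apply, h1]⟩
    · rintro ⟨s, rfl⟩
      obtain ⟨t, ht⟩ := (dt_bij hF (d ∘ sh 1 (show 1 + 2 ≤ 3 by omega)) (fun i => hd _) τ).2 s
      refine ⟨t, ?_⟩
      rw [MonoidHom.comp_apply, MonoidHom.comp_apply, h1, ht]; rfl
  · rw [← S.hV]
    ext g
    constructor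
    · rintro ⟨s, rfl⟩
      exact ⟨_, rfl⟩
    · rintro ⟨s, rfl⟩
      obtain ⟨t, ht⟩ := hb.2 s
      exact ⟨t, by rw [MonoidHom.comp_apply, ht]⟩
  · intro s hs
    have h1 : dt hF d hd τ s ∈ Subgroup.center (SU 3 F q) := S.hk hs
    rw [Subgroup.mem_center_iff] at h1 ⊢
    intro g
    apply hb.1
    rw [map_mul, map_mul, h1]

end gen

variable {F : Type*} [Field F] [Fintype F] (hF : Fintype.card F = 2 ^ 2) {G : Type*} [Group G]
include hF

/-- rigidity -/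
theorem rig {ψ ψ' : SU 3 F 2 →* G} (hi : Function.Injective ψ') (hr : ψ.range ≤ ψ'.range)
    (h0 : ∀ s, ψ (b0 F 2 s) = ψ' (b0 F 2 s)) (h1 : ∀ s, ψ (b1 F 2 s) = ψ' (b1 F 2 s)) (g : SU 3 F 2) : ψ g = ψ' g := by
  have hM : ∀ x ∈ commutator (SU 3 F 2), ψ x = ψ' x := by
    have h2 : (b0 F 2).range ⊔ (b1 F 2).range ≤ ψ.eqLocus ψ' := by
      rw [sup_le_iff]
      exact ⟨by rintro _ ⟨s, rfl⟩; exact h0 s, by rintro _ ⟨s, rfl⟩; exact h1 s⟩
    intro x hx
    exact h2 (comm_le hF hx)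
  obtain ⟨g', hg'⟩ := hr ⟨g, rfl⟩
  have hc : g⁻¹ * g' ∈ Subgroup.center (SU 3 F 2) := by
    apply cen_comm hF
    intro x hx
    have e1 : g * x * g⁻¹ ∈ commutator (SU 3 F 2) := (inferInstance : (commutator (SU 3 F 2)).Normal).conj_mem x hx g
    have e2 : g' * x * g'⁻¹ = g * x * g⁻¹ := by
      apply hi
      rw [← hM _ e1, map_mul, map_mul, map_mul, map_mul, map_inv, map_inv, hg', hM x hx]
    have e3 : g' * x = g * x * g⁻¹ * g' := by rw [← e2]; group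
    calc g⁻¹ * g' * x = g⁻¹ * (g' * x) := by group
      _ = x * (g⁻¹ * g') := by rw [e3]; group
  set c := g⁻¹ * g' with hcd
  have hg'c : g' = g * c := by rw [hcd]; group
  have h2 : g' * g' = g * g := by
    apply hi
    rw [← hM _ (sq_mem hF g), map_mul, map_mul, hg']
  have h3 : c * c = 1 := by
    rw [hg'c] at h2
    have h4 : g * c * (g * c) = g * g * (c * c) := by
      have := Subgroup.mem_center_iff.1 hc g
      calc g * c * (g * c) = g * (c * g) * c := by group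
        _ = g * g * (c * c) := by rw [← this]; group
    rw [h4] at h2
    exact mul_eq_left.1 h2
  have h4 := cen_cube hF hc
  rw [h3, one_mul] at h4
  rw [← hg', hg'c, h4, mul_one]

/-- the first half of the alignment -/
theorem align2a {ψ ψ' : SU 3 F 2 →* G} {A B V : Subgroup G} (S : Std ψ A B V) (S' : Std ψ' A B V) :
    ∃ (d : Fin 3 → F) (hd : ∀ i, d i * sig hF (d i) = 1) (τ : F ≃+* F), ∀ s, ψ (b0 F 2 s) = ψ' (dt hF d hd τ (b0 F 2 s)) := by
  have i1 := S.inj0 hF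
  have i2 := S'.inj0 hF
  let e1 : SU 2 F 2 ≃* A := (MonoidHom.ofInjective i1).trans (MulEquiv.subgroupCongr S.hA)
  let e2 : SU 2 F 2 ≃* A := (MonoidHom.ofInjective i2).trans (MulEquiv.subgroupCongr S'.hA)
  have he1 : ∀ s, (e1 s : G) = ψ (b0 F 2 s) := fun s => rfl
  have he2 : ∀ s, (e2 s : G) = ψ' (b0 F 2 s) := fun s => rfl
  let α : MulAut (SU 2 F 2) := e1.trans e2.symm
  have hα : ∀ s, ψ' (b0 F 2 (α s)) = ψ (b0 F 2 s) := by
    intro s
    rw [← he2, ← he1]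
    show ((e2 (e2.symm (e1 s)) : A) : G) = _
    rw [MulEquiv.apply_symm_apply]
  obtain ⟨d, hd, τ, hαd⟩ := aut_normal hF α (tor_aut hF α)
  let d3 : Fin 3 → F := ![d 0, d 1, 1]
  have hd3 : ∀ i, d3 i * sig hF (d3 i) = 1 := by
    intro i
    fin_cases i
    · exact hd 0
    · exact hd 1
    · show (1 : F) * sig hF 1 = 1
      rw [map_one, one_mul]
  refine ⟨d3, hd3, τ, ?_⟩
  intro s
  rw [← hα s]
  congr 1
  show blk _ (α s) = dt hF d3 hd3 τ (blk _ s)
  rw [dt_blk, hαd]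
  congr 1
  apply Subtype.ext; apply Subtype.ext
  rw [dt_coe, dt_coe]
  congr 1
  funext i
  fin_cases i <;> rfl

/-- the second half of the alignment -/
theorem align2b {ψ ψ' : SU 3 F 2 →* G} {A B V : Subgroup G} (S : Std ψ A B V) (S' : Std ψ' A B V)
    (hi' : Function.Injective ψ') (h0 : ∀ s, ψ (b0 F 2 s) = ψ' (b0 F 2 s)) :
    ∃ (d : Fin 3 → F) (hd : ∀ i, d i * sig hF (d i) = 1), ∀ s, ψ s = ψ' (dt hF d hd (RingEquiv.refl F) s) := by
  have i1 := S.inj1 hF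
  have i2 := S'.inj1 hF
  let e1 : SU 2 F 2 ≃* B := (MonoidHom.ofInjective i1).trans (MulEquiv.subgroupCongr S.hB)
  let e2 : SU 2 F 2 ≃* B := (MonoidHom.ofInjective i2).trans (MulEquiv.subgroupCongr S'.hB)
  have he1 : ∀ s, (e1 s : G) = ψ (b1 F 2 s) := fun s => rfl
  have he2 : ∀ s, (e2 s : G) = ψ' (b1 F 2 s) := fun s => rfl
  let α : MulAut (SU 2 F 2) := e1.trans e2.symm
  have hα : ∀ s, ψ' (b1 F 2 (α s)) = ψ (b1 F 2 s) := by
    intro s
    rw [← he2, ← he1]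
    show ((e2 (e2.symm (e1 s)) : B) : G) = _
    rw [MulEquiv.apply_symm_apply]
  obtain ⟨d, hd, τ, hαd⟩ := aut_normal hF α (tor_aut hF α)
  obtain ⟨ζ, z0, z1, z2, z3, z4⟩ := exists_om hF
  have hζ3 := cube2 hF ζ z0
  have hneg : (-1 : F) = 1 := by linear_combination -q2_char hF
  have hd0 : ∀ i, d i ≠ 0 := fun i h => by have := hd i; rw [h, zero_mul] at this; exact zero_ne_one this
  -- the torus relation
  let w' : SU 2 F 2 := su2 hF 0 ζ (by rw [zero_mul, zero_add, q2_norm hF ζ z0])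
  have hw' : w'.1.1 = !![0, ζ; ζ ^ 2, 0] := by
    show !![0, ζ; -sig hF ζ, sig hF 0] = _
    rw [map_zero, sig_apply]
    congr 1
    have : -ζ ^ 2 = ζ ^ 2 := by linear_combination (ζ ^ 2) * hneg
    rw [this]
  set a := td hF (ζ ^ 2) (pow_ne_zero 2 z0) with ha
  have rel : b0 F 2 a * b1 F 2 (wl2 hF) = b1 F 2 w' * b0 F 2 a := by
    apply Subtype.ext; apply Subtype.ext
    show (b0 F 2 a).1.1 * (b1 F 2 (wl2 hF)).1.1 = (b1 F 2 w').1.1 * (b0 F 2 a).1.1
    rw [b0_mat, b1_mat, b1_mat, ha, td_coe, wl2_coe, hw']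
    ext i j
    fin_cases i <;> fin_cases j <;> simp
    · linear_combination ζ * hζ3
    · linear_combination -(ζ ^ 3 + 1) * hζ3
  have rel' : b0 F 2 a * b1 F 2 (α (wl2 hF)) = b1 F 2 (α w') * b0 F 2 a := by
    apply hi'
    rw [map_mul, map_mul, hα, hα, ← h0, ← map_mul, rel, map_mul]
  have hτζ : τ ζ = ζ := by
    have h1 : (b0 F 2 a).1.1 * (b1 F 2 (α (wl2 hF))).1.1 = (b1 F 2 (α w')).1.1 * (b0 F 2 a).1.1 :=
      congrArg (fun s : SU 3 F 2 => s.1.1) rel'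
    rw [b0_mat, b1_mat, b1_mat, ha, td_coe] at h1
    have h2 := congrFun (congrFun h1 1) 2
    simp at h2
    have e1 : (α (wl2 hF)).1.1 0 1 = d 0 * τ 1 * (d 1)⁻¹ := by
      rw [hαd, dt_coe, dtM_apply, wl2_coe]; simp
    have e2 : (α w').1.1 0 1 = d 0 * τ ζ * (d 1)⁻¹ := by
      rw [hαd, dt_coe, dtM_apply, hw']; simp
    rw [e1, e2, map_one, mul_one] at h2
    have h3 : (d 0 * (d 1)⁻¹) * (τ ζ - ζ) = 0 := by linear_combination -h2 + ζ * d 0 * (d 1)⁻¹ * hζ3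
    rcases mul_eq_zero.1 h3 with h4 | h4
    · exact absurd h4 (mul_ne_zero (hd0 0) (inv_ne_zero (hd0 1)))
    · exact sub_eq_zero.1 h4
  have hτ : τ = RingEquiv.refl F := by
    ext x
    show τ x = x
    by_cases hx : x = 0
    · rw [hx, map_zero]
    · have hx3 := cube2 hF x hx
      have : (x - 1) * ((x - ζ) * (x - ζ ^ 2)) = 0 := by
        linear_combination hx3 - hζ3 - (x ^ 2 - x * ζ) * z2
      rcases mul_eq_zero.1 this with h | h
      · rw [sub_eq_zero.1 h, map_one]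
      · rcases mul_eq_zero.1 h with h | h
        · rw [sub_eq_zero.1 h, hτζ]
        · rw [sub_eq_zero.1 h, map_pow, hτζ]
  subst hτ
  let d3 : Fin 3 → F := ![d 0, d 0, d 1]
  have hd3 : ∀ i, d3 i * sig hF (d3 i) = 1 := by
    intro i
    fin_cases i
    · exact hd 0
    · exact hd 0
    · exact hd 1
  refine ⟨d3, hd3, ?_⟩
  have S'' := S'.comp_dt hF d3 hd3 (RingEquiv.refl F)
  have k0 : ∀ s, dt hF d3 hd3 (RingEquiv.refl F) (b0 F 2 s) = b0 F 2 s := by
    intro s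
    show dt hF d3 hd3 (RingEquiv.refl F) (blk _ s) = blk _ s
    rw [dt_blk]
    congr 1
    apply Subtype.ext; apply Subtype.ext
    rw [dt_coe]
    ext i j
    rw [dtM_apply]
    show d3 (sh 0 _ i) * s.1.1 i j * (d3 (sh 0 _ j))⁻¹ = s.1.1 i j
    have e : ∀ i : Fin 2, d3 (sh 0 (show 0 + 2 ≤ 3 by omega) i) = d 0 := by
      intro i
      fin_cases i <;> rfl
    rw [e, e, mul_comm (d 0), mul_assoc, mul_inv_cancel₀ (hd0 0), mul_one]
  have k1 : ∀ s, dt hF d3 hd3 (RingEquiv.refl F) (b1 F 2 s) = b1 F 2 (α s) := by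
    intro s
    show dt hF d3 hd3 (RingEquiv.refl F) (blk _ s) = blk _ (α s)
    rw [dt_blk, hαd]
    congr 1
    apply Subtype.ext; apply Subtype.ext
    rw [dt_coe, dt_coe]
    congr 1
    funext i
    fin_cases i <;> rfl
  refine rig hF (ψ' := ψ'.comp (dt hF d3 hd3 (RingEquiv.refl F))) (hi'.comp (dt_inj hF _ _ _)) (by rw [S.hV, S''.hV]) ?_ ?_
  · intro s
    rw [MonoidHom.comp_apply, k0, h0]
  · intro s
    rw [MonoidHom.comp_apply, k1, hα]

/-- **uniqueness of standard pairs for `q = 2`** -/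
theorem align2 {ψ ψ' : SU 3 F 2 →* G} {A B V : Subgroup G} (S : Std ψ A B V) (S' : Std ψ' A B V) (hi' : Function.Injective ψ') :
    ∃ (d1 : Fin 3 → F) (h1 : ∀ i, d1 i * sig hF (d1 i) = 1) (τ : F ≃+* F) (d2 : Fin 3 → F) (h2 : ∀ i, d2 i * sig hF (d2 i) = 1),
      ∀ s, ψ s = ψ' (dt hF d1 h1 τ (dt hF d2 h2 (RingEquiv.refl F) s)) := by
  obtain ⟨d1, h1, τ, e1⟩ := align2a hF S S'
  obtain ⟨d2, h2, e2⟩ := align2b hF S (S'.comp_dt hF d1 h1 τ) (hi'.comp (dt_inj hF _ _ _)) e1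
  exact ⟨d1, h1, τ, d2, h2, e2⟩

end Cfsg.Agent.Lib.Phan
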