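import Cfsg.Agent.Lib.PhanW

/-! Embeddings of `SU_3(2)` in `SU_4(2)` (helper38). -/

set_option autoImplicit false
set_option linter.unusedSectionVars false
set_option linter.unusedSimpArgs false

namespace Cfsg.Agent.Lib.Phan

open Module Matrix Cfsg Cfsg.Agent.Lib.UnTrans Cfsg.Agent.Lib.UnBridge Cfsg.Agent.Lib.ClUnSimple
open scoped commutatorElement

variable {F : Type*} [Field F] [Fintype F] (hF : Fintype.card F = 2 ^ 2) {G : Type*} [Group G]
include hF

/-- scalars of `SU_3(2)` -/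
noncomputable def sc3 (a : F) (ha : a ≠ 0) : SU 3 F 2 := dg hF (fun _ => a) (fun _ => q2_norm hF a ha) (by
  rw [Fin.prod_univ_three]; linear_combination cube2 hF a ha)

theorem sc3_coe (a : F) (ha : a ≠ 0) : (sc3 hF a ha).1.1 = a • (1 : Matrix (Fin 3) (Fin 3) F) := by
  show Matrix.diagonal (fun _ => a) = _
  rw [← Matrix.diagonal_one, ← Matrix.diagonal_smul]
  congr 1
  funext i
  simp

/-- eigenspace -/
def eg (Z : SU 4 F 2) (l : F) : Submodule F (Fin 4 → F) := LinearMap.ker (Matrix.mulVecLin Z.1.1 - l • LinearMap.id)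

omit hF in
theorem mem_eg {Z : SU 4 F 2} {l : F} {v : Fin 4 → F} : v ∈ eg Z l ↔ Z.1.1 *ᵥ v = l • v := by
  rw [eg, LinearMap.mem_ker, LinearMap.sub_apply, Matrix.mulVecLin_apply, LinearMap.smul_apply, LinearMap.id_apply, sub_eq_zero]

omit hF in
theorem eg_stable {Z x : SU 4 F 2} (h : Z * x = x * Z) {l : F} {v : Fin 4 → F} (hv : v ∈ eg Z l) : x.1.1 *ᵥ v ∈ eg Z l := by
  rw [mem_eg] at hv ⊢
  rw [← mul_mulVec', h, mul_mulVec', hv, Matrix.mulVec_smul]

/-- dimensions of eigenspaces of the commutator of two elements commuting with it -/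
theorem dim_eg {Z x y : SU 4 F 2} (hx : Z * x = x * Z) (hy : Z * y = y * Z) (hxy : x * y = Z * (y * x)) {l : F} :
    l ^ finrank F (eg Z l) = 1 := by
  have hxi : Z * x⁻¹ = x⁻¹ * Z := (Commute.inv_right (show Commute Z x from hx)).eq
  have hyi : Z * y⁻¹ = y⁻¹ * Z := (Commute.inv_right (show Commute Z y from hy)).eq
  let res : ∀ w : SU 4 F 2, Z * w = w * Z → (eg Z l →ₗ[F] eg Z l) := fun w hw =>
    (Matrix.mulVecLin w.1.1).restrict (fun v hv => eg_stable hw hv)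
  have hres : ∀ (w : SU 4 F 2) (hw : Z * w = w * Z) (v : eg Z l), ((res w hw v : eg Z l) : Fin 4 → F) = w.1.1 *ᵥ v.1 := fun w hw v => rfl
  have ne0 : ∀ (w : SU 4 F 2) (hw : Z * w = w * Z), LinearMap.det (res w hw) ≠ 0 := by
    intro w hw h0
    have hwi : Z * w⁻¹ = w⁻¹ * Z := (Commute.inv_right (show Commute Z w from hw)).eq
    have h1 : res w⁻¹ hwi ∘ₗ res w hw = LinearMap.id := by
      ext1 v
      apply Subtype.ext
      show w⁻¹.1.1 *ᵥ (w.1.1 *ᵥ v.1) = v.1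
      exact inv_mulVec' w v.1
    have h2 := congrArg LinearMap.det h1
    rw [LinearMap.det_comp, h0, mul_zero, LinearMap.det_id] at h2
    exact zero_ne_one h2
  have h1 : res x hx ∘ₗ res y hy = l • (res y hy ∘ₗ res x hx) := by
    ext1 v
    apply Subtype.ext
    show x.1.1 *ᵥ (y.1.1 *ᵥ v.1) = l • (y.1.1 *ᵥ (x.1.1 *ᵥ v.1))
    have h3 : y.1.1 *ᵥ (x.1.1 *ᵥ v.1) ∈ eg Z l := eg_stable hy (eg_stable hx v.2)
    rw [← mem_eg.1 h3, ← mul_mulVec', ← mul_mulVec', ← mul_mulVec', hxy, mul_assoc]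
  have h2 := congrArg LinearMap.det h1
  rw [LinearMap.det_comp, LinearMap.det_smul, LinearMap.det_comp, mul_comm (LinearMap.det (res y hy))] at h2
  have h3 : (l ^ finrank F (eg Z l) - 1) * (LinearMap.det (res x hx) * LinearMap.det (res y hy)) = 0 := by linear_combination -h2
  rcases mul_eq_zero.1 h3 with h4 | h4
  · exact sub_eq_zero.1 h4
  · exact absurd h4 (mul_ne_zero (ne0 x hx) (ne0 y hy))

theorem eg_inf {Z : SU 4 F 2} {l m : F} (h : l ≠ m) : eg Z l ⊓ eg Z m = ⊥ := by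
  rw [Submodule.eq_bot_iff]
  rintro v ⟨h1, h2⟩
  rw [SetLike.mem_coe, mem_eg] at h1 h2
  rw [h1] at h2
  have : (l - m) • v = 0 := by rw [sub_smul, h2, sub_self]
  exact (smul_eq_zero.1 this).resolve_left (sub_ne_zero.2 h)

/-- splitting -/
theorem eg_split {Z : SU 4 F 2} (hZ : Z * Z * Z = 1) {l : F} (hl : l ^ 2 + l + 1 = 0) (hl3 : l ^ 3 = 1) (v : Fin 4 → F) :
    ∃ a ∈ eg Z 1, ∃ b ∈ eg Z l, ∃ c ∈ eg Z (l ^ 2), v = a + b + c := by
  have h2 := q2_char hF
  have hZ3 : Z.1.1 *ᵥ (Z.1.1 *ᵥ (Z.1.1 *ᵥ v)) = v := by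
    rw [← mul_mulVec', ← mul_mulVec', hZ]
    exact Matrix.one_mulVec v
  refine ⟨v + Z.1.1 *ᵥ v + Z.1.1 *ᵥ (Z.1.1 *ᵥ v), ?_, v + l ^ 2 • (Z.1.1 *ᵥ v) + l • (Z.1.1 *ᵥ (Z.1.1 *ᵥ v)), ?_,
    v + l • (Z.1.1 *ᵥ v) + l ^ 2 • (Z.1.1 *ᵥ (Z.1.1 *ᵥ v)), ?_, ?_⟩
  · rw [mem_eg, Matrix.mulVec_add, Matrix.mulVec_add, hZ3, one_smul]; abel
  · rw [mem_eg, Matrix.mulVec_add, Matrix.mulVec_add, Matrix.mulVec_smul, Matrix.mulVec_smul, hZ3, smul_add, smul_add, smul_smul, smul_smul]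
    have e1 : l * l ^ 2 = 1 := by linear_combination hl3
    have e2 : l * l = l ^ 2 := by ring
    rw [e1, e2, one_smul]; abel
  · rw [mem_eg, Matrix.mulVec_add, Matrix.mulVec_add, Matrix.mulVec_smul, Matrix.mulVec_smul, hZ3, smul_add, smul_add, smul_smul, smul_smul]
    have e1 : l ^ 2 * l = 1 := by linear_combination hl3
    have e2 : l ^ 2 * l ^ 2 = l := by linear_combination l * hl3
    rw [e1, e2, one_smul]; abel
  · set p := Z.1.1 *ᵥ v
    set r := Z.1.1 *ᵥ p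
    have e : v + p + r + (v + l ^ 2 • p + l • r) + (v + l • p + l ^ 2 • r) = (2 + 1 : F) • v + (l ^ 2 + l + 1) • p + (l ^ 2 + l + 1) • r := by
      module
    rw [e, hl, h2]; simp

/-- the fixed unit vector -/
theorem exists_fix {χ : SU 3 F 2 →* SU 4 F 2} (hχ : Function.Injective χ) :
    ∃ v : Fin 4 → F, hermForm 4 F 2 v v = 1 ∧ ∀ s, (χ s).1.1 *ᵥ v = v := by
  have H := herm_HS 4 hF
  have hnd := herm_nd 4 hF
  have h2 := q2_char hF
  obtain ⟨ζ, z0, z1, z2, z3, z4⟩ := exists_om hF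
  have hζ3 := cube2 hF ζ z0
  have hzc : ∀ s, sc3 hF ζ z0 * s = s * sc3 hF ζ z0 := by
    intro s
    apply Subtype.ext; apply Subtype.ext
    show (sc3 hF ζ z0).1.1 * s.1.1 = s.1.1 * (sc3 hF ζ z0).1.1
    rw [sc3_coe]; simp
  set Z := χ (sc3 hF ζ z0) with hZ
  have hZc : ∀ s, Z * χ s = χ s * Z := fun s => by rw [hZ, ← map_mul, hzc, map_mul]
  have hZ3 : Z * Z * Z = 1 := by
    rw [hZ, ← map_mul, ← map_mul]
    have : sc3 hF ζ z0 * sc3 hF ζ z0 * sc3 hF ζ z0 = 1 := by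
      apply Subtype.ext; apply Subtype.ext
      show (sc3 hF ζ z0).1.1 * (sc3 hF ζ z0).1.1 * (sc3 hF ζ z0).1.1 = 1
      rw [sc3_coe, smul_mul_smul_comm, smul_mul_smul_comm, mul_one, mul_one]
      have : ζ * ζ * ζ = 1 := by linear_combination hζ3
      rw [this, one_smul]
    rw [this, map_one]
  have hZ1 : Z ≠ 1 := by
    intro h
    have h3 := hχ (h.trans (map_one χ).symm)
    have h4 : (sc3 hF ζ z0).1.1 0 0 = 1 := by rw [h3]; rfl
    rw [sc3_coe] at h4
    apply z1; simpa using h4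
  -- x, y
  have hneg : (-1 : F) = 1 := by linear_combination -h2
  have hw : wl2 hF * wl2 hF = 1 := by
    apply Subtype.ext; apply Subtype.ext
    show (wl2 hF).1.1 * (wl2 hF).1.1 = 1
    rw [wl2_coe]
    ext i j
    fin_cases i <;> fin_cases j <;> simp
  have hxy0 : b1 F 2 (td hF ζ z0) * (b0 F 2 (wl2 hF) * b1 F 2 (wl2 hF)) =
      sc3 hF ζ z0 * ((b0 F 2 (wl2 hF) * b1 F 2 (wl2 hF)) * b1 F 2 (td hF ζ z0)) := by
    apply Subtype.ext; apply Subtype.ext
    show (b1 F 2 (td hF ζ z0)).1.1 * ((b0 F 2 (wl2 hF)).1.1 * (b1 F 2 (wl2 hF)).1.1) =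
      (sc3 hF ζ z0).1.1 * (((b0 F 2 (wl2 hF)).1.1 * (b1 F 2 (wl2 hF)).1.1) * (b1 F 2 (td hF ζ z0)).1.1)
    rw [b1_mat, b0_mat, b1_mat, sc3_coe, td_coe, wl2_coe]
    ext i j
    fin_cases i <;> fin_cases j <;> simp [Matrix.mul_apply, Fin.sum_univ_three, Matrix.smul_apply]
    · linear_combination -hζ3
    · ring
  have hxy : χ (b1 F 2 (td hF ζ z0)) * χ (b0 F 2 (wl2 hF) * b1 F 2 (wl2 hF)) =
      Z * (χ (b0 F 2 (wl2 hF) * b1 F 2 (wl2 hF)) * χ (b1 F 2 (td hF ζ z0))) := by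
    rw [← map_mul, hxy0, map_mul, map_mul χ (b0 F 2 (wl2 hF) * b1 F 2 (wl2 hF))]
  have hdim : ∀ l : F, l ^ finrank F (eg Z l) = 1 := fun l => dim_eg hF (hZc _) (hZc _) hxy
  have h4 : finrank F (Fin 4 → F) = 4 := Module.finrank_fin_fun F
  have hle : ∀ l : F, finrank F (eg Z l) ≤ 4 := fun l => (Submodule.finrank_le _).trans h4.le
  have hd3 : ∀ l : F, l ≠ 1 → l ^ 3 = 1 → finrank F (eg Z l) = 0 ∨ finrank F (eg Z l) = 3 := by
    intro l hl hl3
    have h5 := hdim l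
    have h6 := hle l
    interval_cases h : finrank F (eg Z l)
    · left; rfl
    · exact absurd (by simpa using h5) hl
    · exfalso; apply hl
      rw [pow_succ, h5, one_mul] at hl3; exact hl3
    · right; rfl
    · exfalso; apply hl
      rw [pow_succ, hl3, one_mul] at h5; exact h5
  -- the case with a three-dimensional eigenspace
  have main : ∀ l : F, l ^ 2 + l + 1 = 0 → l ^ 3 = 1 → l ≠ 1 → finrank F (eg Z l) = 3 → finrank F (eg Z (l ^ 2)) = 0 →
      ∃ v : Fin 4 → F, hermForm 4 F 2 v v = 1 ∧ ∀ s, (χ s).1.1 *ᵥ v = v := by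
    intro l hl hl3 hl1 hd1 hd2
    have hbot : eg Z (l ^ 2) = ⊥ := Submodule.finrank_eq_zero.1 hd2
    have hsplit : ∀ v, ∃ a ∈ eg Z 1, ∃ b ∈ eg Z l, v = a + b := by
      intro v
      obtain ⟨a, ha, b, hb, c, hc, hv⟩ := eg_split hF hZ3 hl hl3 v
      rw [hbot, Submodule.mem_bot] at hc
      exact ⟨a, ha, b, hb, by rw [hv, hc, add_zero]⟩
    have htop : eg Z 1 ⊔ eg Z l = ⊤ := by
      rw [eq_top_iff]
      intro v _
      obtain ⟨a, ha, b, hb, hv⟩ := hsplit v
      rw [hv]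
      exact Submodule.add_mem_sup ha hb
    have hsum := Submodule.finrank_sup_add_finrank_inf_eq (eg Z 1) (eg Z l)
    rw [htop, eg_inf hF (Ne.symm hl1), finrank_top, finrank_bot, h4, hd1] at hsum
    have h1 : finrank F (eg Z 1) = 1 := by omega
    obtain ⟨⟨v, hv⟩, hv0, hvs⟩ := finrank_eq_one_iff'.1 h1
    have hv0' : v ≠ 0 := fun h => hv0 (Subtype.ext h)
    have hspan : ∀ u ∈ eg Z 1, ∃ c : F, u = c • v := by
      intro u hu
      obtain ⟨c, hc⟩ := hvs ⟨u, hu⟩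
      exact ⟨c, (congrArg Subtype.val hc).symm⟩
    have hZv : Z.1.1 *ᵥ v = v := by have := mem_eg.1 hv; rwa [one_smul] at this
    have hvv : hermForm 4 F 2 v v ≠ 0 := by
      intro hvv
      obtain ⟨y, -, hy⟩ := hnd v trivial hv0'
      apply hy
      obtain ⟨a, ha, b, hb, hyab⟩ := hsplit y
      obtain ⟨c, rfl⟩ := hspan a ha
      have hb' := mem_eg.1 hb
      have h5 := herm_blk' hF Z b v
      rw [hb', hZv, H.smul_left] at h5
      have h6 : hermForm 4 F 2 b v = 0 := by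
        have : (l - 1) * hermForm 4 F 2 b v = 0 := by linear_combination h5
        exact (mul_eq_zero.1 this).resolve_left (sub_ne_zero.2 hl1)
      apply H.symm_zero
      rw [hyab, H.add_left, H.smul_left, hvv, mul_zero, h6, add_zero]
    obtain ⟨k, hk, hkv⟩ := nrm_scale H hvv
    have hk' : k • v ∈ eg Z 1 := Submodule.smul_mem _ _ hv
    refine ⟨k • v, hkv, ?_⟩
    set u := k • v with hu
    have hmul : ∀ s, ∃ c : F, (χ s).1.1 *ᵥ u = c • u := by
      intro s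
      obtain ⟨c, hc⟩ := hspan _ (eg_stable (hZc s) hk')
      refine ⟨c * k⁻¹, ?_⟩
      rw [hc, hu, smul_smul, mul_assoc, inv_mul_cancel₀ hk, mul_one]
    clear_value u
    let St : Subgroup (SU 3 F 2) :=
      { carrier := {s | (χ s).1.1 *ᵥ u = u}
        mul_mem' := by
          intro a b ha hb
          show (χ (a * b)).1.1 *ᵥ u = u
          rw [map_mul, mul_mulVec', show (χ b).1.1 *ᵥ u = u from hb]; exact ha
        one_mem' := by
          show (χ 1).1.1 *ᵥ u = u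
          rw [map_one]; exact Matrix.one_mulVec u
        inv_mem' := by
          intro a ha
          show (χ a⁻¹).1.1 *ᵥ u = u
          rw [map_inv]
          conv_lhs => rw [← show (χ a).1.1 *ᵥ u = u from ha]
          exact inv_mulVec' _ u }
    have hcomm : commutator (SU 3 F 2) ≤ St := by
      rw [commutator_def, Subgroup.commutator_le]
      intro a _ b _
      show (χ ⁅a, b⁆).1.1 *ᵥ u = u
      obtain ⟨α, hα⟩ := hmul a
      obtain ⟨β, hβ⟩ := hmul b
      have e1 : (χ a * χ b).1.1 *ᵥ u = (χ b * χ a).1.1 *ᵥ u := by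
        rw [mul_mulVec', mul_mulVec', hβ, hα, Matrix.mulVec_smul, Matrix.mulVec_smul, hα, hβ, smul_smul, smul_smul, mul_comm]
      have e2 : χ ⁅a, b⁆ = χ a * χ b * (χ b * χ a)⁻¹ := by
        rw [commutatorElement_def, map_mul, map_mul, map_mul, map_inv, map_inv]; group
      set w := (χ b * χ a).1.1 *ᵥ u with hw'
      have e3 : w = (β * α) • u := by rw [hw', mul_mulVec', hα, Matrix.mulVec_smul, hβ, smul_smul, mul_comm]
      have e4 : (χ ⁅a, b⁆).1.1 *ᵥ w = w := by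
        rw [e2, mul_mulVec', hw', inv_mulVec', e1]
      have hne : β * α ≠ 0 := by
        intro h0
        rw [h0, zero_smul] at e3
        have h7 := inv_mulVec' (χ b * χ a) u
        rw [← hw', e3, Matrix.mulVec_zero] at h7
        rw [← h7, H.zero_left] at hkv
        exact zero_ne_one hkv
      rw [e3, Matrix.mulVec_smul] at e4
      exact smul_right_injective _ hne e4
    intro s
    obtain ⟨c, hc⟩ := hmul s
    have h9 : s * s ∈ St := hcomm (sq_mem hF s)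
    have h10 : (χ (s * s)).1.1 *ᵥ u = u := h9
    rw [map_mul, mul_mulVec', hc, Matrix.mulVec_smul, hc, smul_smul] at h10
    have hu0 : u ≠ 0 := by rintro h; rw [h, H.zero_left] at hkv; exact zero_ne_one hkv
    have h11 : (c * c - 1) • u = 0 := by rw [sub_smul, h10, one_smul, sub_self]
    have h12 := (smul_eq_zero.1 h11).resolve_right hu0
    have h13 : (c - 1) ^ 2 = 0 := by linear_combination h12 - (c - 1) * h2
    have h14 := sub_eq_zero.1 (pow_eq_zero_iff two_ne_zero |>.1 h13)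
    rw [hc, h14, one_smul]
  have hζl : (ζ ^ 2) ^ 2 + ζ ^ 2 + 1 = 0 := by linear_combination z2 + ζ * hζ3
  have hζl3 : (ζ ^ 2) ^ 3 = 1 := by linear_combination (ζ ^ 3 + 1) * hζ3
  rcases hd3 ζ z1 hζ3 with e1 | e1
  · rcases hd3 (ζ ^ 2) z3 hζl3 with e2 | e2
    · exfalso
      apply hZ1
      apply SU_ext
      intro v
      obtain ⟨a, ha, b, hb, c, hc, hv⟩ := eg_split hF hZ3 z2 hζ3 v
      rw [Submodule.finrank_eq_zero.1 e1, Submodule.mem_bot] at hb
      rw [Submodule.finrank_eq_zero.1 e2, Submodule.mem_bot] at hc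
      rw [hb, hc, add_zero, add_zero] at hv
      have := mem_eg.1 ha
      rw [hv, this, one_smul]
      exact (Matrix.one_mulVec a).symm
    · refine main (ζ ^ 2) hζl hζl3 z3 e2 ?_
      have : (ζ ^ 2) ^ 2 = ζ := by linear_combination ζ * hζ3
      rw [this]; exact e1
  · rcases hd3 (ζ ^ 2) z3 hζl3 with e2 | e2
    · exact main ζ z2 hζ3 z1 e1 e2
    · exfalso
      have hsum := Submodule.finrank_sup_add_finrank_inf_eq (eg Z ζ) (eg Z (ζ ^ 2))
      rw [eg_inf hF (Ne.symm z4), finrank_bot, e1, e2] at hsum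
      have := Submodule.finrank_le (eg Z ζ ⊔ eg Z (ζ ^ 2))
      omega

end Cfsg.Agent.Lib.Phan
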