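import Cfsg.Agent.Lib.PhanX

/-! Standard pairs in `SU_4(2)` (helper38). -/

set_option autoImplicit false
set_option linter.unusedSectionVars false
set_option linter.unusedSimpArgs false

namespace Cfsg.Agent.Lib.Phan

open Module Matrix Cfsg Cfsg.Agent.Lib.UnTrans Cfsg.Agent.Lib.UnBridge Cfsg.Agent.Lib.ClUnSimple

variable {F : Type*} [Field F] [Fintype F] (hF : Fintype.card F = 2 ^ 2) {G : Type*} [Group G]
include hF

theorem td_ne {a : F} (ha : a ≠ 0) (h1 : a ≠ 1) : td hF a ha ≠ 1 := by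
  intro h
  apply h1
  have h2 : (td hF a ha).1.1 0 0 = (1 : SU 2 F 2).1.1 0 0 := by rw [h]
  rw [td_coe] at h2
  have h3 : (1 : SU 2 F 2).1.1 0 0 = 1 := by show (1 : Matrix (Fin 2) (Fin 2) F) 0 0 = 1; simp
  rw [h3] at h2; simpa using h2

theorem td_cube {a : F} (ha : a ≠ 0) : td hF a ha * td hF a ha * td hF a ha = 1 := by
  rw [← tor_iff hF]
  exact ⟨by rw [td_coe]; simp, by rw [td_coe]; simp⟩

theorem td_order {a : F} (ha : a ≠ 0) (h1 : a ≠ 1) : orderOf (td hF a ha) = 3 := by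
  haveI : Fact (Nat.Prime 3) := ⟨Nat.prime_three⟩
  apply orderOf_eq_prime
  · rw [pow_succ, pow_two]; exact td_cube hF ha
  · exact td_ne hF ha h1

theorem td_comm {a : F} (ha : a ≠ 0) : b0 F 2 (td hF a ha) * b1 F 2 (td hF a ha) = b1 F 2 (td hF a ha) * b0 F 2 (td hF a ha) := by
  apply Subtype.ext; apply Subtype.ext
  show (b0 F 2 (td hF a ha)).1.1 * (b1 F 2 (td hF a ha)).1.1 = (b1 F 2 (td hF a ha)).1.1 * (b0 F 2 (td hF a ha)).1.1
  rw [b0_mat, b1_mat, td_coe]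
  ext i j
  fin_cases i <;> fin_cases j <;> simp [mul_comm]

theorem cen_form {x : SU 3 F 2} (hx : x ∈ Subgroup.center (SU 3 F 2)) (hx1 : x ≠ 1) :
    ∃ (a : F) (ha : a ≠ 0), a ≠ 1 ∧ b0 F 2 (td hF a ha) = x * b1 F 2 (td hF a ha) := by
  obtain ⟨r, hr⟩ := (ClUnitary.center_SU hF (by norm_num) _).1 hx
  have h3 : x.1.1 = r • (1 : Matrix (Fin 3) (Fin 3) F) := by rw [hr]; exact Algebra.algebraMap_eq_smul_one r
  have hr0 : r ≠ 0 := by
    rintro rfl
    have hd := x.1.2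
    rw [h3, zero_smul, Matrix.det_zero] at hd
    · exact zero_ne_one hd
  have hr3 := cube2 hF r hr0
  refine ⟨r, hr0, ?_, ?_⟩
  · rintro rfl
    apply hx1
    apply Subtype.ext; apply Subtype.ext
    rw [h3, one_smul]; rfl
  · apply Subtype.ext; apply Subtype.ext
    show (b0 F 2 (td hF r hr0)).1.1 = x.1.1 * (b1 F 2 (td hF r hr0)).1.1
    rw [b0_mat, b1_mat, td_coe, h3]
    ext i j
    fin_cases i <;> fin_cases j <;> simp
    · ring
    · linear_combination -hr3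

/-- commutation in rank three forces injectivity -/
theorem inj_pair {ψ0 ψ1 : SU 3 F 2 →* G} {U0 U1 U2 V0 V1 : Subgroup G} (S0 : Std ψ0 U0 U1 V0) (S1 : Std ψ1 U1 U2 V1)
    (hc : ∀ x ∈ U0, ∀ y ∈ U2, x * y = y * x) : Function.Injective ψ0 ∧ Function.Injective ψ1 := by
  have i0 : Function.Injective ψ0 := by
    rw [injective_iff_map_eq_one]
    intro x hx
    by_contra hx1
    obtain ⟨a, ha, ha1, hab⟩ := cen_form hF (S0.hk hx) hx1
    have h1 : ψ0 (b0 F 2 (td hF a ha)) = ψ0 (b1 F 2 (td hF a ha)) := by rw [hab, map_mul, hx, one_mul]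
    have h2 : ψ0 (b0 F 2 (td hF a ha)) ∈ U0 := by rw [← S0.hA]; exact ⟨_, rfl⟩
    have h3 : ψ0 (b0 F 2 (td hF a ha)) ∈ U1 := by rw [h1, ← S0.hB]; exact ⟨_, rfl⟩
    rw [← S1.hA] at h3
    obtain ⟨s, hs⟩ := h3
    have hs' : ψ1 (b0 F 2 s) = ψ0 (b0 F 2 (td hF a ha)) := hs
    have h4 : s = 1 := S1.eq_one_of_comm hF (by
      intro k
      rw [hs']
      exact hc _ h2 _ (by rw [← S1.hB]; exact ⟨k, rfl⟩))
    rw [h4, map_one, map_one] at hs'
    have h5 := S0.inj0 hF (a₁ := td hF a ha) (a₂ := 1) (by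
      show ψ0 (b0 F 2 _) = ψ0 (b0 F 2 1)
      rw [← hs', map_one, map_one])
    exact td_ne hF ha ha1 h5
  refine ⟨i0, ?_⟩
  rw [injective_iff_map_eq_one]
  intro x hx
  by_contra hx1
  obtain ⟨a, ha, ha1, hab⟩ := cen_form hF (S1.hk hx) hx1
  have h1 : ψ1 (b0 F 2 (td hF a ha)) = ψ1 (b1 F 2 (td hF a ha)) := by rw [hab, map_mul, hx, one_mul]
  have h2 : ψ1 (b0 F 2 (td hF a ha)) ∈ U2 := by rw [h1, ← S1.hB]; exact ⟨_, rfl⟩
  have h3 : ψ1 (b0 F 2 (td hF a ha)) ∈ U1 := by rw [← S1.hA]; exact ⟨_, rfl⟩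
  rw [← S0.hB] at h3
  obtain ⟨s, hs⟩ := h3
  have hs' : ψ0 (b1 F 2 s) = ψ1 (b0 F 2 (td hF a ha)) := hs
  have h4 : b0 F 2 (wl2 hF) * b1 F 2 s = b1 F 2 s * b0 F 2 (wl2 hF) := by
    apply i0
    rw [map_mul, map_mul, hs']
    exact hc _ (by rw [← S0.hA]; exact ⟨_, rfl⟩) _ h2
  have h5 : (b0 F 2 (wl2 hF)).1.1 * (b1 F 2 s).1.1 = (b1 F 2 s).1.1 * (b0 F 2 (wl2 hF)).1.1 := congrArg (fun s : SU 3 F 2 => s.1.1) h4
  rw [b0_mat, b1_mat, wl2_coe] at h5
  have e01 := congrFun (congrFun h5 0) 1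
  have e02 := congrFun (congrFun h5 0) 2
  have e20 := congrFun (congrFun h5 2) 0
  simp at e01 e02 e20
  have hd := s.1.2
  rw [Matrix.det_fin_two, e01, e02, zero_mul, sub_zero, one_mul] at hd
  have h6 : s = 1 := by
    apply Subtype.ext; apply Subtype.ext
    ext i j
    fin_cases i <;> fin_cases j
    · exact e01
    · exact e02
    · exact e20.symm
    · exact hd
  rw [h6, map_one, map_one] at hs'
  have h7 := S1.inj0 hF (a₁ := td hF a ha) (a₂ := 1) (by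
    show ψ1 (b0 F 2 _) = ψ1 (b0 F 2 1)
    rw [← hs', map_one, map_one])
  exact td_ne hF ha ha1 h7

omit [Fintype F] hF in
theorem lift_hom {H K : Type*} [Group H] [Group K] {g : K →* G} (hg : Function.Injective g) (ψ : H →* G) (h : ψ.range ≤ g.range) :
    ∃ χ : H →* K, ∀ s, g (χ s) = ψ s := by
  let E : K ≃* g.range := MonoidHom.ofInjective hg
  refine ⟨E.symm.toMonoidHom.comp (ψ.codRestrict g.range (fun s => h ⟨s, rfl⟩)), ?_⟩
  intro s
  have : (E (E.symm (ψ.codRestrict g.range (fun s => h ⟨s, rfl⟩) s)) : G) = ψ s := by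
    rw [MulEquiv.apply_symm_apply]; rfl
  exact this

theorem b01_ne : (b0 F 2).range ≠ (b1 F 2).range := by
  intro h
  have h1 : b0 F 2 (wl2 hF) ∈ (b1 F 2).range := by rw [← h]; exact ⟨_, rfl⟩
  rw [← stV_e0 hF, mem_stV, b0_mat, wl2_coe, Matrix.mulVec_single_one] at h1
  have := congrFun h1 0
  simp at this

/-- any identification can be aligned -/
theorem aut_std {θ ψ : SU 3 F 2 →* G} {A B V : Subgroup G} (hθ : Function.Injective θ) (hψ : Function.Injective ψ)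
    (hr : θ.range = V) (S : Std ψ A B V) : ∃ k : SU 3 F 2, Std (θ.comp (MulAut.conj k).toMonoidHom) A B V := by
  obtain ⟨β, hβ⟩ := lift_hom hθ ψ (by rw [S.hV, hr])
  have hβi : Function.Injective β := by
    intro a b h
    apply hψ
    rw [← hβ, ← hβ, h]
  obtain ⟨ζ, z0, z1, z2, z3, z4⟩ := exists_om hF
  have i0 : Function.Injective (β.comp (b0 F 2)) := hβi.comp b0_inj
  have i1 : Function.Injective (β.comp (b1 F 2)) := hβi.comp b1_inj
  obtain ⟨v, hv, hAv⟩ := exists_unit hF _ (MonoidHom.ofInjective i0)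
  obtain ⟨w, hw, hBw⟩ := exists_unit hF _ (MonoidHom.ofInjective i1)
  have hne : stV 2 v ≠ stV 2 w := by
    intro h
    rw [← hAv, ← hBw, MonoidHom.range_comp, MonoidHom.range_comp] at h
    exact b01_ne hF (Subgroup.map_injective hβi h)
  have hperp : hermForm 3 F 2 v w = 0 := by
    refine perp_of_comm hF hv hw hne (d := β (b0 F 2 (td hF ζ z0))) (d' := β (b1 F 2 (td hF ζ z0))) ?_ ?_ ?_ ?_ ?_
    · rw [← hAv]; exact ⟨_, rfl⟩
    · rw [← hBw]; exact ⟨_, rfl⟩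
    · rw [orderOf_injective β hβi, orderOf_injective (b0 F 2) b0_inj, td_order hF z0 z1]
    · rw [orderOf_injective β hβi, orderOf_injective (b1 F 2) b1_inj, td_order hF z0 z1]
    · rw [← map_mul, ← map_mul, td_comm]
  obtain ⟨k, hk2, hk0⟩ := exists_frame hF hv hw hperp
  refine ⟨k, ⟨?_, ?_, ?_, ?_⟩⟩
  · have h1 : (b0 F 2).range.map (MulAut.conj k).toMonoidHom = (β.comp (b0 F 2)).range := by
      rw [← stV_e2 hF, ← stV_conj hF, hk2, hAv]
    rw [MonoidHom.range_comp, ← Subgroup.map_map, h1, ← S.hA]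
    ext x; constructor
    · rintro ⟨_, ⟨s, rfl⟩, rfl⟩
      exact ⟨s, (hβ _).symm⟩
    · rintro ⟨s, rfl⟩
      exact ⟨_, ⟨s, rfl⟩, hβ _⟩
  · have h1 : (b1 F 2).range.map (MulAut.conj k).toMonoidHom = (β.comp (b1 F 2)).range := by
      rw [← stV_e0 hF, ← stV_conj hF, hk0, hBw]
    rw [MonoidHom.range_comp, ← Subgroup.map_map, h1, ← S.hB]
    ext x; constructor
    · rintro ⟨_, ⟨s, rfl⟩, rfl⟩
      exact ⟨s, (hβ _).symm⟩
    · rintro ⟨s, rfl⟩
      exact ⟨_, ⟨s, rfl⟩, hβ _⟩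
  · rw [MonoidHom.range_comp, MonoidHom.range_eq_top.2 (MulAut.conj k).surjective, ← MonoidHom.range_eq_map, hr]
  · have hi : Function.Injective (θ.comp (MulAut.conj k).toMonoidHom) := hθ.comp (MulAut.conj k).injective
    rw [(MonoidHom.ker_eq_bot_iff _).2 hi]
    exact bot_le

end Cfsg.Agent.Lib.Phan
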