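import Cfsg.Agent.Lib.PhanY

/-! The base of the induction for `q = 2` (helper38). -/

set_option autoImplicit false
set_option linter.unusedSectionVars false
set_option linter.unusedSimpArgs false

namespace Cfsg.Agent.Lib.Phan

open Module Matrix Cfsg Cfsg.Agent.Lib.UnTrans Cfsg.Agent.Lib.UnBridge Cfsg.Agent.Lib.ClUnSimple

variable {F : Type*} [Field F] [Fintype F] (hF : Fintype.card F = 2 ^ 2) {G : Type*} [Group G]
include hF

theorem blk3_mem0 {x : SU 4 F 2} (h : x.1.1 *ᵥ Pi.single 3 1 = Pi.single 3 1) : ∃ s : SU 3 F 2, blk (sh 0 (show 0 + 3 ≤ 4 by omega)) s = x :=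
  mem_blk hF (sh 0 (show 0 + 3 ≤ 4 by omega)) x (by
    intro a ha
    have h3 := range_sh ha
    have h4 : a = 3 := Fin.ext (by have := a.2; show a.1 = 3; omega)
    rw [h4]; exact h)

theorem blk3_mem1 {x : SU 4 F 2} (h : x.1.1 *ᵥ Pi.single 0 1 = Pi.single 0 1) : ∃ s : SU 3 F 2, blk (sh 1 (show 1 + 3 ≤ 4 by omega)) s = x :=
  mem_blk hF (sh 1 (show 1 + 3 ≤ 4 by omega)) x (by
    intro a ha
    have h3 := range_sh ha
    have h4 : a = 0 := Fin.ext (by have := a.2; show a.1 = 0; omega)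
    rw [h4]; exact h)

omit [Fintype F] hF in
theorem range_eq_of_le {H K : Type*} [Group H] [Group K] [Finite H] {χ χ' : H →* K} (h : Function.Injective χ) (h' : Function.Injective χ')
    (hle : χ.range ≤ χ'.range) : χ.range = χ'.range := by
  have : Finite χ'.range := Finite.of_surjective χ'.rangeRestrict χ'.rangeRestrict_surjective
  apply Subgroup.eq_of_le_of_card_ge hle
  rw [← Nat.card_congr (MonoidHom.ofInjective h).toEquiv, ← Nat.card_congr (MonoidHom.ofInjective h').toEquiv]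

theorem base2a {g : SU 4 F 2 →* G} (hg : Function.Injective g) {ψ0 : SU 3 F 2 →* G} {U0 U1 V0 : Subgroup G} (S0 : Std ψ0 U0 U1 V0)
    (i0 : Function.Injective ψ0) (hV : V0 ≤ g.range) :
    ∃ h : SU 4 F 2, Std ((g.comp (MulAut.conj h).toMonoidHom).comp (blk (sh 0 (show 0 + 3 ≤ 4 by omega)))) U0 U1 V0 := by
  obtain ⟨χ, hχ⟩ := lift_hom hg ψ0 (by rw [S0.hV]; exact hV)
  have hχi : Function.Injective χ := by
    intro a b h
    apply i0
    rw [← hχ, ← hχ, h]
  obtain ⟨v, hv, hfix⟩ := exists_fix hF hχi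
  obtain ⟨h1, hh1⟩ := SU_trans hF (k := 4) (by norm_num) (x := Pi.single 3 1) (by rw [herm_ss hF, if_pos rfl]) hv
  let η : SU 3 F 2 →* SU 4 F 2 := (MulAut.conj h1).toMonoidHom.comp (blk (sh 0 (show 0 + 3 ≤ 4 by omega)))
  have hηi : Function.Injective η := (MulAut.conj h1).injective.comp (blk_inj _)
  have hrange : χ.range = η.range := by
    apply range_eq_of_le hχi hηi
    rintro _ ⟨s, rfl⟩
    obtain ⟨t, ht⟩ := blk3_mem0 hF (x := h1⁻¹ * χ s * h1) (by
      rw [mul_mulVec', mul_mulVec', hh1, hfix, ← hh1, inv_mulVec'])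
    refine ⟨t, ?_⟩
    show h1 * blk _ t * h1⁻¹ = χ s
    rw [ht]; group
  let θ : SU 3 F 2 →* G := g.comp η
  have hθ : Function.Injective θ := hg.comp hηi
  have hr : θ.range = V0 := by
    rw [MonoidHom.range_comp, ← hrange, ← S0.hV]
    ext x; constructor
    · rintro ⟨_, ⟨s, rfl⟩, rfl⟩
      exact ⟨s, (hχ s).symm⟩
    · rintro ⟨s, rfl⟩
      exact ⟨_, ⟨s, rfl⟩, hχ s⟩
  obtain ⟨k, hk⟩ := aut_std hF hθ i0 hr S0
  refine ⟨h1 * blk (sh 0 (show 0 + 3 ≤ 4 by omega)) k, ?_⟩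
  have e : (g.comp (MulAut.conj (h1 * blk (sh 0 (show 0 + 3 ≤ 4 by omega)) k)).toMonoidHom).comp (blk (sh 0 (show 0 + 3 ≤ 4 by omega))) =
      θ.comp (MulAut.conj k).toMonoidHom := by
    ext s
    show g (h1 * blk _ k * blk _ s * (h1 * blk _ k)⁻¹) = g (h1 * blk _ (k * s * k⁻¹) * h1⁻¹)
    congr 1
    rw [map_mul, map_mul, map_inv]; group
  rw [e]; exact hk

theorem base2b {g : SU 4 F 2 →* G} (hg : Function.Injective g) {ψ1 : SU 3 F 2 →* G} {U0 U1 U2 V0 V1 : Subgroup G}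
    (S0 : Std (g.comp (blk (sh 0 (show 0 + 3 ≤ 4 by omega)))) U0 U1 V0) (S1 : Std ψ1 U1 U2 V1)
    (i1 : Function.Injective ψ1) (hV : g.range = V0 ⊔ V1) (hc : ∀ x ∈ U0, ∀ y ∈ U2, x * y = y * x) :
    Std (g.comp (blk (sh 1 (show 1 + 3 ≤ 4 by omega)))) U1 U2 V1 := by
  obtain ⟨ζ, z0, z1, z2, z3, z4⟩ := exists_om hF
  obtain ⟨χ, hχ⟩ := lift_hom hg ψ1 (by rw [S1.hV, hV]; exact le_sup_right)
  have hχi : Function.Injective χ := by
    intro a b h
    apply i1
    rw [← hχ, ← hχ, h]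
  obtain ⟨w, hw, hfix⟩ := exists_fix hF hχi
  -- the middle block
  have hmid : ∀ s : SU 2 F 2, g (blk (sh 1 (show 1 + 2 ≤ 4 by omega)) s) ∈ U1 := by
    intro s
    rw [← S0.hB]
    refine ⟨s, ?_⟩
    show g (blk _ (blk _ s)) = _
    rw [blk_sh]
  have hwfix : ∀ s : SU 2 F 2, (blk (sh 1 (show 1 + 2 ≤ 4 by omega)) s : SU 4 F 2).1.1 *ᵥ w = w := by
    intro s
    have h1 := hmid s
    rw [← S1.hA] at h1
    obtain ⟨s', hs'⟩ := h1
    have h2 : blk (sh 1 (show 1 + 2 ≤ 4 by omega)) s = χ (b0 F 2 s') := by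
      apply hg
      rw [hχ]; exact hs'.symm
    rw [h2]; exact hfix _
  have hw12 : w 1 = 0 ∧ w 2 = 0 := by
    have h1 := hwfix (td hF ζ z0)
    rw [blk_coe] at h1
    have k1 := blkM_in (sh 1 (show 1 + 2 ≤ 4 by omega)) (td hF ζ z0).1.1 w
    rw [h1, td_coe] at k1
    have a0 : w 1 = (!![ζ, 0; 0, ζ ^ 2] *ᵥ (w ∘ sh 1 (show 1 + 2 ≤ 4 by omega))) 0 := congrFun k1 0
    have a1 : w 2 = (!![ζ, 0; 0, ζ ^ 2] *ᵥ (w ∘ sh 1 (show 1 + 2 ≤ 4 by omega))) 1 := congrFun k1 1
    have c0 : (w ∘ sh 1 (show 1 + 2 ≤ 4 by omega)) 0 = w 1 := rfl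
    have c1 : (w ∘ sh 1 (show 1 + 2 ≤ 4 by omega)) 1 = w 2 := rfl
    simp only [Matrix.mulVec, dotProduct, Fin.sum_univ_two, c0, c1] at a0 a1
    simp at a0 a1
    constructor
    · have : (ζ - 1) * w 1 = 0 := by linear_combination -a0
      exact (mul_eq_zero.1 this).resolve_left (sub_ne_zero.2 z1)
    · have : (ζ ^ 2 - 1) * w 2 = 0 := by linear_combination -a1
      exact (mul_eq_zero.1 this).resolve_left (sub_ne_zero.2 z3)
  have hw' := hw
  rw [hermForm, Fin.sum_univ_four, hw12.1, hw12.2] at hw'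
  simp at hw'
  have h2 := q2_char hF
  by_cases hw0 : w 0 = 0
  · -- the vector is a multiple of `e3` : impossible
    exfalso
    have hw3 : w 3 ≠ 0 := by intro h; rw [hw0, h] at hw'; simp at hw'
    have hwe : w = w 3 • (Pi.single 3 1 : Fin 4 → F) := by
      funext i
      fin_cases i <;> simp [hw0, hw12.1, hw12.2]
    have hfe : ∀ s, (χ s).1.1 *ᵥ Pi.single 3 1 = Pi.single 3 1 := by
      intro s
      have := hfix s
      rw [hwe, Matrix.mulVec_smul] at this
      exact smul_right_injective _ hw3 this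
    have hV1 : V1 ≤ V0 := by
      rw [← S1.hV, ← S0.hV]
      rintro _ ⟨s, rfl⟩
      obtain ⟨t, ht⟩ := blk3_mem0 hF (hfe s)
      exact ⟨t, by show g (blk _ t) = _; rw [ht, hχ]⟩
    rw [sup_eq_left.2 hV1, ← S0.hV] at hV
    obtain ⟨x, hx⟩ := SU_trans hF (k := 4) (by norm_num) (x := Pi.single 3 1) (y := Pi.single 0 1) (by rw [herm_ss hF, if_pos rfl]) (by rw [herm_ss hF, if_pos rfl])
    have h3 : g x ∈ g.range := ⟨x, rfl⟩
    rw [hV] at h3
    obtain ⟨t, ht⟩ := h3
    have h4 : blk (sh 0 (show 0 + 3 ≤ 4 by omega)) t = x := hg ht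
    have h5 : x.1.1 *ᵥ Pi.single 3 1 = Pi.single 3 1 := by
      rw [← h4, blk_coe, blkM_fix]
      intro b
      rw [sh_apply]
      have hb := b.2
      exact Pi.single_eq_of_ne (by rw [Ne, Fin.ext_iff]; show ¬ (0 + b.1 = 3); omega) _
    rw [hx] at h5
    have := congrFun h5 0
    simp at this
  · have hw3 : w 3 = 0 := by
      by_contra hw3
      have n0 := cube2 hF _ hw0
      have n3 := cube2 hF _ hw3
      apply one_ne_zero (α := F)
      linear_combination hw' - n0 - n3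
    have hwe : w = w 0 • (Pi.single 0 1 : Fin 4 → F) := by
      funext i
      fin_cases i <;> simp [hw3, hw12.1, hw12.2]
    have hfe : ∀ s, (χ s).1.1 *ᵥ Pi.single 0 1 = Pi.single 0 1 := by
      intro s
      have := hfix s
      rw [hwe, Matrix.mulVec_smul] at this
      exact smul_right_injective _ hw0 this
    have hb1i : Function.Injective (blk (sh 1 (show 1 + 3 ≤ 4 by omega)) : SU 3 F 2 →* SU 4 F 2) := blk_inj _
    have hrange : χ.range = (blk (sh 1 (show 1 + 3 ≤ 4 by omega)) : SU 3 F 2 →* SU 4 F 2).range := by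
      apply range_eq_of_le hχi hb1i
      rintro _ ⟨s, rfl⟩
      obtain ⟨t, ht⟩ := blk3_mem1 hF (hfe s)
      exact ⟨t, ht⟩
    set θ : SU 3 F 2 →* G := g.comp (blk (sh 1 (show 1 + 3 ≤ 4 by omega))) with hθd
    have hθ : Function.Injective θ := hg.comp hb1i
    have hr : θ.range = V1 := by
      rw [hθd, MonoidHom.range_comp, ← hrange, ← S1.hV]
      ext x; constructor
      · rintro ⟨_, ⟨s, rfl⟩, rfl⟩
        exact ⟨s, (hχ s).symm⟩
      · rintro ⟨s, rfl⟩
        exact ⟨_, ⟨s, rfl⟩, hχ s⟩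
    have hA : (θ.comp (b0 F 2)).range = U1 := by
      rw [← S0.hB]; congr 1; ext s
      show g (blk _ (blk _ s)) = g (blk _ (blk _ s))
      rw [blk_sh, blk_sh]
    obtain ⟨β, hβ⟩ := lift_hom hθ ψ1 (by rw [S1.hV, hr])
    have hβi : Function.Injective β := by
      intro a b h
      apply i1
      rw [← hβ, ← hβ, h]
    have q0 : (β.comp (b0 F 2)).range = (b0 F 2).range := by
      apply Subgroup.map_injective hθ
      rw [← MonoidHom.range_comp, ← MonoidHom.range_comp, hA, ← S1.hA]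
      congr 1; ext s
      exact hβ _
    have j1 : Function.Injective (β.comp (b1 F 2)) := hβi.comp b1_inj
    obtain ⟨d, hd, hBd⟩ := exists_unit hF _ (MonoidHom.ofInjective j1)
    have hne : stV 2 (Pi.single 2 1 : Fin 3 → F) ≠ stV 2 d := by
      intro h
      rw [stV_e2 hF, ← hBd, ← q0, MonoidHom.range_comp, MonoidHom.range_comp] at h
      exact b01_ne hF (Subgroup.map_injective hβi h)
    have hperp : hermForm 3 F 2 (Pi.single 2 1) d = 0 := by
      refine perp_of_comm hF (by rw [herm_ss hF, if_pos rfl]) hd hne (d := β (b0 F 2 (td hF ζ z0))) (d' := β (b1 F 2 (td hF ζ z0))) ?_ ?_ ?_ ?_ ?_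
      · rw [stV_e2 hF, ← q0]; exact ⟨_, rfl⟩
      · rw [← hBd]; exact ⟨_, rfl⟩
      · rw [orderOf_injective β hβi, orderOf_injective (b0 F 2) b0_inj, td_order hF z0 z1]
      · rw [orderOf_injective β hβi, orderOf_injective (b1 F 2) b1_inj, td_order hF z0 z1]
      · rw [← map_mul, ← map_mul, td_comm]
    have hd2 : d 2 = 0 := by
      rw [← herm_single hF 2 d]; exact (herm_HS 3 hF).symm_zero hperp
    have hd' := hd
    rw [hermForm, Fin.sum_univ_three, hd2] at hd'
    simp at hd'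
    have hU2 : U2 = (stV 2 d).map θ := by
      rw [← hBd, ← MonoidHom.range_comp, ← S1.hB]
      congr 1; ext s
      exact (hβ _).symm
    by_cases hd0 : d 0 = 0
    · -- impossible
      exfalso
      have hd1 : d 1 ≠ 0 := by intro h; rw [hd0, h] at hd'; simp at hd'
      have hde : d = d 1 • (Pi.single 1 1 : Fin 3 → F) := by
        funext i
        fin_cases i <;> simp [hd0, hd2]
      let y : SU 3 F 2 := dg hF ![ζ, 1, ζ ^ 2] (by
        intro a
        fin_cases a
        · exact q2_norm hF _ z0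
        · show (1 : F) * sig hF 1 = 1
          rw [map_one, one_mul]
        · exact q2_norm hF _ (pow_ne_zero 2 z0)) (by
        simp [Fin.prod_univ_three]
        linear_combination cube2 hF ζ z0)
      have hy : ∀ i, y.1.1 *ᵥ (Pi.single i 1 : Fin 3 → F) = (![ζ, 1, ζ ^ 2] : Fin 3 → F) i • Pi.single i 1 := by
        intro i
        rw [dg_coe]
        funext j
        rw [Matrix.mulVec_diagonal, Pi.smul_apply, smul_eq_mul]
        by_cases hij : j = i
        · rw [hij]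
        · rw [Pi.single_eq_of_ne hij, mul_zero, mul_zero]
      have hyd : y ∈ stV 2 d := by
        rw [mem_stV, hde, Matrix.mulVec_smul, hy]
        simp
      have h3 : θ y ∈ U2 := by rw [hU2]; exact ⟨y, hyd, rfl⟩
      have h4 : g (blk (sh 0 (show 0 + 3 ≤ 4 by omega)) (b0 F 2 (wl2 hF))) ∈ U0 := by rw [← S0.hA]; exact ⟨_, rfl⟩
      have h5 := hc _ h4 _ h3
      have h6 : blk (sh 0 (show 0 + 3 ≤ 4 by omega)) (b0 F 2 (wl2 hF)) * blk (sh 1 (show 1 + 3 ≤ 4 by omega)) y =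
          blk (sh 1 (show 1 + 3 ≤ 4 by omega)) y * blk (sh 0 (show 0 + 3 ≤ 4 by omega)) (b0 F 2 (wl2 hF)) := by
        apply hg
        rw [map_mul, map_mul]
        exact h5
      have x1 : (Pi.single 1 1 : Fin 4 → F) = ext (sh 0 (show 0 + 3 ≤ 4 by omega)) (Pi.single 1 1) := by
        rw [ext_single]; congr 1
      have x0 : (Pi.single 0 1 : Fin 4 → F) = ext (sh 0 (show 0 + 3 ≤ 4 by omega)) (Pi.single 0 1) := by
        rw [ext_single]; congr 1
      have x1' : (Pi.single 1 1 : Fin 4 → F) = ext (sh 1 (show 1 + 3 ≤ 4 by omega)) (Pi.single 0 1) := by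
        rw [ext_single]; congr 1
      have hwl : (b0 F 2 (wl2 hF)).1.1 *ᵥ (Pi.single 1 1 : Fin 3 → F) = Pi.single 0 1 := by
        rw [b0_mat, wl2_coe, Matrix.mulVec_single_one]
        funext i
        fin_cases i <;> simp
      have g1 : (blk (sh 0 (show 0 + 3 ≤ 4 by omega)) (b0 F 2 (wl2 hF)) : SU 4 F 2).1.1 *ᵥ Pi.single 1 1 = Pi.single 0 1 := by
        rw [blk_coe, x1, blkM_ext, hwl, ← x0]
      have g2 : (blk (sh 1 (show 1 + 3 ≤ 4 by omega)) y : SU 4 F 2).1.1 *ᵥ Pi.single 1 1 = ζ • Pi.single 1 1 := by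
        rw [blk_coe, x1', blkM_ext, hy, ext, Matrix.mulVec_smul, ext]
        rfl
      have g3 : (blk (sh 1 (show 1 + 3 ≤ 4 by omega)) y : SU 4 F 2).1.1 *ᵥ Pi.single 0 1 = Pi.single 0 1 := by
        rw [blk_coe, blkM_fix]
        intro b
        rw [sh_apply]
        exact Pi.single_eq_of_ne (by rw [Ne, Fin.ext_iff]; show ¬ (1 + b.1 = 0); omega) _
      have h7 := congrArg (fun x : SU 4 F 2 => x.1.1 *ᵥ (Pi.single 1 1 : Fin 4 → F)) h6
      simp only [mul_mulVec'] at h7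
      rw [g1, g2, g3, Matrix.mulVec_smul, g1] at h7
      have h8 := congrFun h7 0
      simp at h8
      exact z1 h8
    · have hd1 : d 1 = 0 := by
        by_contra hd1
        have n0 := cube2 hF _ hd0
        have n1 := cube2 hF _ hd1
        apply one_ne_zero (α := F)
        linear_combination hd' - n0 - n1
      have hde : d = d 0 • (Pi.single 0 1 : Fin 3 → F) := by
        funext i
        fin_cases i <;> simp [hd1, hd2]
      rw [hde, stV_smul hF hd0, stV_e0 hF] at hU2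
      refine ⟨hA, ?_, hr, ?_⟩
      · rw [MonoidHom.range_comp, hU2]
      · rw [(MonoidHom.ker_eq_bot_iff _).2 hθ]
        exact bot_le

end Cfsg.Agent.Lib.Phan
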