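import Cfsg.Agent.Lib.PhanZ

/-! The induction for `q = 2` (helper38). -/

set_option autoImplicit false
set_option linter.unusedSectionVars false
set_option linter.unusedSimpArgs false

namespace Cfsg.Agent.Lib.Phan

open Module Matrix Cfsg Cfsg.Agent.Lib.UnTrans Cfsg.Agent.Lib.UnBridge Cfsg.Agent.Lib.ClUnSimple

variable {F : Type*} [Field F] [Fintype F] (hF : Fintype.card F = 2 ^ 2) {G : Type*} [Group G]
include hF

/-- generation by the first `SU_3` and the `SU_2` blocks -/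
theorem gen_q2 (k : ℕ) (S : Subgroup (SU (k + 3) F 2)) (h3 : ∀ s : SU 3 F 2, blk (sh 0 (by omega)) s ∈ S)
    (h2 : ∀ (i : ℕ) (hi : i + 2 ≤ k + 3) (s : SU 2 F 2), blk (sh i hi) s ∈ S) : S = ⊤ := by
  induction k with
  | zero =>
    rw [eq_top_iff]
    intro s _
    have h := h3 s
    rwa [blk_self] at h
  | succ k ih =>
    have h1 : S.comap (blk (sh 0 (show 0 + (k + 3) ≤ k + 1 + 3 by omega))) = ⊤ := by
      apply ih
      · intro s
        rw [Subgroup.mem_comap, blk_sh]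
        exact h3 s
      · intro i hi s
        rw [Subgroup.mem_comap, blk_sh, sh_congr (show 0 + i = i by omega) (by omega) (by omega)]
        exact h2 i (by omega) s
    rw [eq_top_iff, ← gen4 (m := k + 1) hF (by omega), sup_le_iff]
    constructor
    · rintro _ ⟨s, rfl⟩
      have : s ∈ S.comap (blk (sh 0 (show 0 + (k + 3) ≤ k + 1 + 3 by omega))) := by rw [h1]; trivial
      exact this
    · rintro _ ⟨s, rfl⟩
      exact h2 _ _ s

theorem injective4 {g : SU 4 F 2 →* G} (hne : ∃ x, g x ≠ 1) : Function.Injective g := by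
  rw [injective_iff_map_eq_one]
  intro x hx
  have h1 := ker_center hF 4 (by norm_num) (by norm_num) g hne hx
  obtain ⟨r, hr⟩ := (ClUnitary.center_SU hF (by norm_num) _).1 h1
  have h3 : x.1.1 = r • (1 : Matrix (Fin 4) (Fin 4) F) := by rw [hr]; exact Algebra.algebraMap_eq_smul_one r
  have hd := x.1.2
  rw [h3, Matrix.det_smul, Matrix.det_one, Fintype.card_fin, mul_one] at hd
  have hr0 : r ≠ 0 := by rintro rfl; simp at hd
  have hr3 := cube2 hF r hr0
  have hr1 : r = 1 := by rw [pow_succ, hr3, one_mul] at hd; exact hd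
  apply Subtype.ext; apply Subtype.ext
  rw [h3, hr1, one_smul]; rfl

/-- standard triples -/
theorem triple2 {g : SU 4 F 2 →* G} {ψ0 ψ1 : SU 3 F 2 →* G} {U0 U1 U2 V0 V1 : Subgroup G} (S0 : Std ψ0 U0 U1 V0) (S1 : Std ψ1 U1 U2 V1)
    (hV : g.range = V0 ⊔ V1) (hc : ∀ x ∈ U0, ∀ y ∈ U2, x * y = y * x) :
    ∃ Ψ : SU 4 F 2 →* G, Function.Injective Ψ ∧ Std (Ψ.comp (blk (sh 0 (show 0 + 3 ≤ 4 by omega)))) U0 U1 V0 ∧
      Std (Ψ.comp (blk (sh 1 (show 1 + 3 ≤ 4 by omega)))) U1 U2 V1 := by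
  obtain ⟨i0, i1⟩ := inj_pair hF S0 S1 hc
  obtain ⟨ζ, z0, z1, z2, z3, z4⟩ := exists_om hF
  have hg : Function.Injective g := by
    apply injective4 hF
    by_contra hcon
    push Not at hcon
    have h1 : ψ0 (b0 F 2 (td hF ζ z0)) ∈ g.range := by
      rw [hV, ← S0.hV]; exact Subgroup.mem_sup_left ⟨_, rfl⟩
    obtain ⟨x, hx⟩ := h1
    rw [hcon x] at hx
    have h2 := S0.inj0 hF (a₁ := td hF ζ z0) (a₂ := 1) (by
      show ψ0 (b0 F 2 _) = ψ0 (b0 F 2 1)
      rw [← hx, map_one, map_one])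
    exact td_ne hF z0 z1 h2
  obtain ⟨h, hS⟩ := base2a hF hg S0 i0 (by rw [hV]; exact le_sup_left)
  have hg' : Function.Injective (g.comp (MulAut.conj h).toMonoidHom) := hg.comp (MulAut.conj h).injective
  refine ⟨_, hg', hS, base2b hF hg' hS S1 i1 ?_ hc⟩
  rw [MonoidHom.range_comp, MonoidHom.range_eq_top.2 (MulAut.conj h).surjective, ← MonoidHom.range_eq_map, hV]

/-- **the induction for `q = 2`** -/
theorem phan_ind2 (U V : ℕ → Subgroup G) (N : ℕ)
    (htri : ∀ i, i + 3 ≤ N → ∃ Ψ : SU 4 F 2 →* G, Function.Injective Ψ ∧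
      Std (Ψ.comp (blk (sh 0 (show 0 + 3 ≤ 4 by omega)))) (U i) (U (i + 1)) (V i) ∧
      Std (Ψ.comp (blk (sh 1 (show 1 + 3 ≤ 4 by omega)))) (U (i + 1)) (U (i + 2)) (V (i + 1)))
    (hUU : ∀ i j, i + 2 ≤ j → j < N → ∀ x ∈ U i, ∀ y ∈ U j, x * y = y * x)
    (hUV : ∀ i j, i + 2 ≤ j → j + 1 < N → ∀ x ∈ U i, ∀ y ∈ V j, x * y = y * x)
    (hVU : ∀ j i, j + 3 ≤ i → i < N → ∀ x ∈ V j, ∀ y ∈ U i, x * y = y * x)
    (hVV : ∀ i k, i + 3 ≤ k → k + 1 < N → ∀ x ∈ V i, ∀ y ∈ V k, x * y = y * x)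
    (m : ℕ) (hm : 1 ≤ m) (hmN : m + 2 ≤ N) :
    ∃ Φ : SU (m + 3) F 2 →* G, ∀ i (hi : i + 3 ≤ m + 3), Std (Φ.comp (blk (sh i hi))) (U i) (U (i + 1)) (V i) := by
  induction m, hm using Nat.le_induction with
  | base =>
    obtain ⟨Ψ, -, S0, S1⟩ := htri 0 (by omega)
    refine ⟨Ψ, ?_⟩
    intro i hi
    obtain rfl | rfl : i = 0 ∨ i = 1 := by omega
    · exact S0
    · exact S1
  | succ m hm ih =>
    obtain ⟨Φ, hΦ⟩ := ih (by omega)
    obtain ⟨Ψ, hΨi, T0, T1⟩ := htri m (by omega)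
    have S := hΦ m (by omega)
    have hi' : Function.Injective (Ψ.comp (blk (sh 0 (show 0 + 3 ≤ 4 by omega)))) := hΨi.comp (blk_inj _)
    obtain ⟨d1, h1, τ, d2, h2, hal⟩ := align2 hF S T0 hi'
    let D1 : Fin 4 → F := ![d1 0, d1 1, d1 2, 1]
    let D2 : Fin 4 → F := ![d2 0, d2 1, d2 2, 1]
    have hD1 : ∀ i, D1 i * sig hF (D1 i) = 1 := by
      intro i
      fin_cases i
      · exact h1 0
      · exact h1 1
      · exact h1 2
      · show (1 : F) * sig hF 1 = 1
        rw [map_one, one_mul]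
    have hD2 : ∀ i, D2 i * sig hF (D2 i) = 1 := by
      intro i
      fin_cases i
      · exact h2 0
      · exact h2 1
      · exact h2 2
      · show (1 : F) * sig hF 1 = 1
        rw [map_one, one_mul]
    let Ψ' : SU 4 F 2 →* G := Ψ.comp ((dt hF D1 hD1 τ).comp (dt hF D2 hD2 (RingEquiv.refl F)))
    have e1 : ∀ s : SU 3 F 2, dt hF D1 hD1 τ (blk (sh 0 (show 0 + 3 ≤ 4 by omega)) s) = blk (sh 0 (by omega)) (dt hF d1 h1 τ s) := by
      intro s
      rw [dt_blk]
      congr 1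
      apply Subtype.ext; apply Subtype.ext
      rw [dt_coe, dt_coe]
      congr 1
      funext i
      fin_cases i <;> rfl
    have e2 : ∀ s : SU 3 F 2, dt hF D2 hD2 (RingEquiv.refl F) (blk (sh 0 (show 0 + 3 ≤ 4 by omega)) s) = blk (sh 0 (by omega)) (dt hF d2 h2 (RingEquiv.refl F) s) := by
      intro s
      rw [dt_blk]
      congr 1
      apply Subtype.ext; apply Subtype.ext
      rw [dt_coe, dt_coe]
      congr 1
      funext i
      fin_cases i <;> rfl
    have hcompat : ∀ s : SU 3 F 2, Φ (blk (sh m (by omega)) s) = Ψ' (blk (sh 0 (by omega)) s) := by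
      intro s
      show _ = Ψ (dt hF D1 hD1 τ (dt hF D2 hD2 (RingEquiv.refl F) (blk _ s)))
      rw [e2, e1]
      exact hal s
    have T1' : Std (Ψ'.comp (blk (sh 1 (show 1 + 3 ≤ 4 by omega)))) (U (m + 1)) (U (m + 2)) (V (m + 1)) := by
      have h3 := (T1.comp_dt hF (D1 ∘ sh 1 (show 1 + 3 ≤ 4 by omega)) (fun i => hD1 _) τ).comp_dt hF (D2 ∘ sh 1 (show 1 + 3 ≤ 4 by omega)) (fun i => hD2 _) (RingEquiv.refl F)
      have e3 : Ψ'.comp (blk (sh 1 (show 1 + 3 ≤ 4 by omega))) = ((Ψ.comp (blk (sh 1 (show 1 + 3 ≤ 4 by omega)))).comp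
          (dt hF (D1 ∘ sh 1 (show 1 + 3 ≤ 4 by omega)) (fun i => hD1 _) τ)).comp (dt hF (D2 ∘ sh 1 (show 1 + 3 ≤ 4 by omega)) (fun i => hD2 _) (RingEquiv.refl F)) := by
        ext s
        show Ψ (dt hF D1 hD1 τ (dt hF D2 hD2 (RingEquiv.refl F) (blk _ s))) = Ψ (blk _ (dt hF _ _ τ (dt hF _ _ _ s)))
        rw [dt_blk, dt_blk]
      rw [e3]; exact h3
    -- membership of the generators
    have hUr : ∀ i (hi : i + 2 ≤ m + 3) (s : SU 2 F 2), Φ (blk (sh i hi) s) ∈ U i := by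
      intro i hi s
      by_cases h : i + 3 ≤ m + 3
      · rw [← (hΦ i h).hA]
        refine ⟨s, ?_⟩
        show Φ (blk _ (blk _ s)) = _
        rw [blk_sh]
        rfl
      · obtain rfl : i = m + 1 := by omega
        rw [← S.hB]
        refine ⟨s, ?_⟩
        show Φ (blk _ (blk _ s)) = _
        rw [blk_sh]
    have hV0 : ∀ s : SU 3 F 2, Φ (blk (sh 0 (by omega)) s) ∈ V 0 := by
      intro s
      rw [← (hΦ 0 (by omega)).hV]
      exact ⟨s, rfl⟩
    have hcomm1 : ∀ (h : SU (m + 2) F 2) (k : SU 2 F 2), Φ (blk (sh 0 (by omega)) h) * Ψ' (blk (sh 2 (by omega)) k) =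
        Ψ' (blk (sh 2 (by omega)) k) * Φ (blk (sh 0 (by omega)) h) := by
      intro h k
      obtain ⟨m', rfl⟩ : ∃ m', m = m' + 1 := ⟨m - 1, by omega⟩
      have hk : Ψ' (blk (sh 2 (by omega)) k) ∈ U (m' + 1 + 2) := by
        rw [← T1'.hB]
        refine ⟨k, ?_⟩
        show Ψ' (blk _ (blk _ k)) = _
        rw [blk_sh]
      let Z : Subgroup (SU (m' + 3) F 2) := (Subgroup.centralizer {Ψ' (blk (sh 2 (by omega)) k)}).comap (Φ.comp (blk (sh 0 (show 0 + (m' + 3) ≤ m' + 1 + 3 by omega))))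
      have hZ : Z = ⊤ := by
        apply gen_q2 hF
        · intro s
          show Φ (blk _ (blk _ s)) ∈ Subgroup.centralizer _
          rw [blk_sh, Subgroup.mem_centralizer_singleton_iff]
          exact hVU 0 (m' + 1 + 2) (by omega) (by omega) _ (hV0 s) _ hk
        · intro i hi s
          show Φ (blk _ (blk _ s)) ∈ Subgroup.centralizer _
          rw [blk_sh, Subgroup.mem_centralizer_singleton_iff]
          have h6 : Φ (blk (sh (0 + i) (show 0 + i + 2 ≤ m' + 1 + 3 by omega)) s) ∈ U i := by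
            rw [sh_congr (show 0 + i = i by omega) (by omega) (by omega)]
            exact hUr i (by omega) s
          exact hUU i (m' + 1 + 2) (by omega) (by omega) _ h6 _ hk
      have h7 : h ∈ Z := by rw [hZ]; trivial
      exact Subgroup.mem_centralizer_singleton_iff.1 h7
    have hcomm3 : ∀ (h : SU (m + 1) F 2) (k : SU 3 F 2), Φ (blk (sh 0 (by omega)) h) * Ψ' (blk (sh 1 (by omega)) k) =
        Ψ' (blk (sh 1 (by omega)) k) * Φ (blk (sh 0 (by omega)) h) := by
      intro h k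
      have hk : Ψ' (blk (sh 1 (by omega)) k) ∈ V (m + 1) := by
        rw [← T1'.hV]
        exact ⟨k, rfl⟩
      by_cases hm1 : m = 1
      · subst hm1
        exact hUV 0 2 (by omega) (by omega) _ (hUr 0 (by omega) h) _ hk
      · obtain ⟨m', rfl⟩ : ∃ m', m = m' + 2 := ⟨m - 2, by omega⟩
        let Z : Subgroup (SU (m' + 3) F 2) := (Subgroup.centralizer {Ψ' (blk (sh 1 (by omega)) k)}).comap (Φ.comp (blk (sh 0 (show 0 + (m' + 3) ≤ m' + 2 + 3 by omega))))
        have hZ : Z = ⊤ := by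
          apply gen_q2 hF
          · intro s
            show Φ (blk _ (blk _ s)) ∈ Subgroup.centralizer _
            rw [blk_sh, Subgroup.mem_centralizer_singleton_iff]
            exact hVV 0 (m' + 2 + 1) (by omega) (by omega) _ (hV0 s) _ hk
          · intro i hi s
            show Φ (blk _ (blk _ s)) ∈ Subgroup.centralizer _
            rw [blk_sh, Subgroup.mem_centralizer_singleton_iff]
            have h6 : Φ (blk (sh (0 + i) (show 0 + i + 2 ≤ m' + 2 + 3 by omega)) s) ∈ U i := by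
              rw [sh_congr (show 0 + i = i by omega) (by omega) (by omega)]
              exact hUr i (by omega) s
            exact hUV i (m' + 2 + 1) (by omega) (by omega) _ h6 _ hk
        have h7 : h ∈ Z := by rw [hZ]; trivial
        exact Subgroup.mem_centralizer_singleton_iff.1 h7
    obtain ⟨Φ', k1, k2⟩ := step2 hF hm Φ Ψ' hcompat hcomm1 hcomm3
    refine ⟨Φ', ?_⟩
    intro i hi
    by_cases h : i + 3 ≤ m + 3
    · have h4 := hΦ i h
      have h5 : Φ'.comp (blk (sh i hi)) = Φ.comp (blk (sh i h)) := by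
        ext c
        show Φ' (blk _ c) = Φ (blk _ c)
        rw [← k1, blk_sh, sh_congr (show 0 + i = i by omega) (by omega) hi]
      rw [h5]; exact h4
    · obtain rfl : i = m + 1 := by omega
      have h6 : Φ'.comp (blk (sh (m + 1) hi)) = Ψ'.comp (blk (sh 1 (show 1 + 3 ≤ 4 by omega))) := by
        ext c
        show Φ' (blk _ c) = Ψ' (blk _ c)
        rw [← k2, blk_sh]
      rw [h6]; exact T1'

end Cfsg.Agent.Lib.Phan
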