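import Mathlib
import Cfsg.Agent.Lib.SubgroupTools
import Cfsg.Agent.Lib.TransferApps

/-!
The power graph of a finite group determines its prime graph (helper68).
-/

set_option autoImplicit false

namespace Cfsg.Agent.Lib.PowerGraph

open Subgroup
open Cfsg.Agent.Lib.SubgroupTools

/-- adjacency in the power graph -/
def Adj {G : Type*} [Group G] (x y : G) : Prop := x ∈ zpowers y ∨ y ∈ zpowers x

variable {G : Type*} [Group G]

theorem Adj.symm {x y : G} (h : Adj x y) : Adj y x := Or.symm h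

theorem adj_self (x : G) : Adj x x := Or.inl (mem_zpowers x)

theorem adj_one (x : G) : Adj 1 x := Or.inl (one_mem _)

theorem adj_iff_of_zpowers_eq {x y : G} (h : zpowers x = zpowers y) (z : G) : Adj x z ↔ Adj y z := by
  unfold Adj
  rw [h, ← zpowers_le, h, zpowers_le]

variable [Finite G]

theorem orderOf_le_of_mem {x y : G} (h : x ∈ zpowers y) : orderOf x ≤ orderOf y := by
  rw [← Nat.card_zpowers, ← Nat.card_zpowers]
  exact Subgroup.card_le_of_le (zpowers_le.mpr h)

theorem zpowers_eq_of_le {x y : G} (h : x ∈ zpowers y) (hle : orderOf y ≤ orderOf x) : zpowers x = zpowers y := by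
  apply Subgroup.eq_of_le_of_card_ge (zpowers_le.mpr h)
  rw [Nat.card_zpowers, Nat.card_zpowers]; exact hle

theorem zpowers_eq_of_orderOf_eq {m x y : G} (hx : x ∈ zpowers m) (hy : y ∈ zpowers m)
    (h : orderOf x = orderOf y) : zpowers x = zpowers y := by
  have h1 : (zpowers x).subgroupOf (zpowers m) = (zpowers y).subgroupOf (zpowers m) := by
    apply TransferApps.cyclic_subgroup_eq_of_card
    rw [card_subgroupOf_of_le (zpowers_le.mpr hx), card_subgroupOf_of_le (zpowers_le.mpr hy),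
      Nat.card_zpowers, Nat.card_zpowers, h]
  have h2 := congrArg (Subgroup.map (zpowers m).subtype) h1
  rwa [subgroupOf_map_subtype, subgroupOf_map_subtype, inf_eq_left.mpr (zpowers_le.mpr hx),
    inf_eq_left.mpr (zpowers_le.mpr hy)] at h2

theorem mem_zpowers_of_orderOf_dvd {m x y : G} (hx : x ∈ zpowers m) (hy : y ∈ zpowers m)
    (h : orderOf x ∣ orderOf y) : x ∈ zpowers y := by
  obtain ⟨k, hk⟩ := h
  have hx0 : 0 < orderOf x := orderOf_pos x
  have hy0 : 0 < orderOf y := orderOf_pos y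
  have hk0 : k ≠ 0 := by rintro rfl; rw [mul_zero] at hk; omega
  have h1 : orderOf (y ^ k) = orderOf x := by
    rw [orderOf_pow_of_dvd hk0 ⟨orderOf x, by rw [hk, mul_comm]⟩, hk, Nat.mul_div_cancel _ (Nat.pos_of_ne_zero hk0)]
  have h2 := zpowers_eq_of_orderOf_eq (m := m) (x := y ^ k) (y := x) ((zpowers m).pow_mem hy k) hx h1
  have h3 : x ∈ zpowers (y ^ k) := by rw [h2]; exact mem_zpowers x
  exact (zpowers_le.mpr (pow_mem (mem_zpowers y) k)) h3

theorem orderOf_dvd_of_mem {x y : G} (h : x ∈ zpowers y) : orderOf x ∣ orderOf y :=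
  orderOf_dvd_of_mem_zpowers h

theorem adj_iff_orderOf {m x y : G} (hx : x ∈ zpowers m) (hy : y ∈ zpowers m) :
    Adj x y ↔ orderOf x ∣ orderOf y ∨ orderOf y ∣ orderOf x := by
  constructor
  · rintro (h | h)
    · exact Or.inl (orderOf_dvd_of_mem h)
    · exact Or.inr (orderOf_dvd_of_mem h)
  · rintro (h | h)
    · exact Or.inl (mem_zpowers_of_orderOf_dvd hx hy h)
    · exact Or.inr (mem_zpowers_of_orderOf_dvd hy hx h)

/-- an element of order `d` among the powers of `m` -/
theorem exists_orderOf_eq {m : G} {d : ℕ} (hd : d ∣ orderOf m) : ∃ x ∈ zpowers m, orderOf x = d := by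
  obtain ⟨k, hk⟩ := hd
  have hm0 : 0 < orderOf m := orderOf_pos m
  have hk0 : k ≠ 0 := by rintro rfl; rw [mul_zero] at hk; omega
  refine ⟨m ^ k, pow_mem (mem_zpowers m) k, ?_⟩
  rw [orderOf_pow_of_dvd hk0 ⟨d, by rw [hk, mul_comm]⟩, hk, Nat.mul_div_cancel _ (Nat.pos_of_ne_zero hk0)]

theorem totient_le (x : G) (S : Set G) (hS : ∀ z, zpowers z = zpowers x → z ∈ S) :
    Nat.totient (orderOf x) ≤ S.ncard := by
  classical
  have : Fintype (zpowers x) := Fintype.ofFinite _
  have h1 : (Finset.univ.filter (fun a : zpowers x => orderOf a = orderOf x)).card = Nat.totient (orderOf x) := by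
    apply IsCyclic.card_orderOf_eq_totient
    rw [← Nat.card_eq_fintype_card, Nat.card_zpowers]
  rw [← h1, ← Set.ncard_coe_finset]
  apply Set.ncard_le_ncard_of_injOn (fun a : zpowers x => (a : G))
  · intro a ha
    have ha' : orderOf a = orderOf x := by simpa using ha
    apply hS
    apply zpowers_eq_of_le a.2
    rw [Subgroup.orderOf_coe, ha']
  · intro a _ b _ hab
    exact Subtype.ext hab

/-- Elements generating a maximal cyclic subgroup. -/
theorem exists_max (g : G) : ∃ m : G, g ∈ zpowers m ∧ ∀ y, Adj m y ↔ y ∈ zpowers m := by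
  obtain ⟨m, hm, hmax⟩ := Set.exists_max_image {z : G | g ∈ zpowers z} orderOf (Set.toFinite _)
    ⟨g, mem_zpowers g⟩
  refine ⟨m, hm, fun y => ⟨?_, fun h => Or.inr h⟩⟩
  rintro (h | h)
  · have h1 : g ∈ zpowers y := (zpowers_le.mpr h) hm
    have h2 := zpowers_eq_of_le h (hmax y h1)
    rw [h2]; exact mem_zpowers y
  · exact h

/-- the incomparability graph of `C_n`, `n` not a prime power, is connected. -/
theorem connected {m : G} {p q : ℕ} (hp : p.Prime) (hq : q.Prime) (hpq : p ≠ q) (hpm : p ∣ orderOf m)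
    (hqm : q ∣ orderOf m) {S : Set G}
    (hS : ∀ v ∈ zpowers m, ∀ w ∈ zpowers m, v ∈ S → ¬ Adj v w → w ∈ S)
    {v₀ : G} (hv₀ : v₀ ∈ zpowers m) (hv₀S : v₀ ∈ S) (hv₀1 : v₀ ≠ 1) (hv₀m : zpowers v₀ ≠ zpowers m)
    {v : G} (hv : v ∈ zpowers m) (hv1 : v ≠ 1) (hvm : zpowers v ≠ zpowers m) : v ∈ S := by
  have hm0 : orderOf m ≠ 0 := (orderOf_pos m).ne'
  -- the `r`-parts
  have hw : ∀ r : ℕ, ∃ w ∈ zpowers m, orderOf w = r ^ (orderOf m).factorization r := fun r =>
    exists_orderOf_eq (Nat.ordProj_dvd _ _)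
  choose w hwm hwo using hw
  -- non-adjacency of different parts
  have hww : ∀ r s : ℕ, r.Prime → s.Prime → r ≠ s → r ∣ orderOf m → s ∣ orderOf m → ¬ Adj (w r) (w s) := by
    intro r s hr hs hrs hrm hsm h
    rw [adj_iff_orderOf (hwm r) (hwm s), hwo, hwo] at h
    have h1 : (orderOf m).factorization r ≠ 0 := (hr.factorization_pos_of_dvd hm0 hrm).ne'
    have h2 : (orderOf m).factorization s ≠ 0 := (hs.factorization_pos_of_dvd hm0 hsm).ne'
    rcases h with h | h
    · have := hr.dvd_of_dvd_pow ((dvd_pow_self r h1).trans h)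
      exact hrs ((Nat.prime_dvd_prime_iff_eq hr hs).mp this)
    · have := hs.dvd_of_dvd_pow ((dvd_pow_self s h2).trans h)
      exact hrs ((Nat.prime_dvd_prime_iff_eq hs hr).mp this).symm
  -- every proper element is non-adjacent to some part
  have hvw : ∀ u ∈ zpowers m, u ≠ 1 → zpowers u ≠ zpowers m → ∃ r : ℕ, r.Prime ∧ r ∣ orderOf m ∧ ¬ Adj u (w r) := by
    intro u hu hu1 hum
    have hud := orderOf_dvd_of_mem hu
    have hne : ¬ orderOf m ∣ orderOf u := by
      intro h
      exact hum (zpowers_eq_of_orderOf_eq hu (mem_zpowers m) (Nat.dvd_antisymm hud h))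
    have hex : ∃ r : ℕ, r.Prime ∧ r ∣ orderOf m ∧ ¬ r ^ (orderOf m).factorization r ∣ orderOf u := by
      by_contra hno
      push Not at hno
      apply hne
      rw [← Nat.factorization_le_iff_dvd hm0 (orderOf_pos u).ne']
      intro r
      by_cases hr : r.Prime
      · by_cases hrm : r ∣ orderOf m
        · exact (hr.pow_dvd_iff_le_factorization (orderOf_pos u).ne').mp (hno r hr hrm)
        · rw [Nat.factorization_eq_zero_of_not_dvd hrm]; exact Nat.zero_le _
      · rw [Nat.factorization_eq_zero_of_not_prime _ hr]; exact Nat.zero_le _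
    obtain ⟨r, hr, hrm, hru⟩ := hex
    by_cases had : Adj u (w r)
    · -- `u` has order `r ^ j`
      rw [adj_iff_orderOf hu (hwm r), hwo] at had
      have h1 : orderOf u ∣ r ^ (orderOf m).factorization r := had.resolve_right hru
      obtain ⟨s, hs, hsm, hsr⟩ : ∃ s : ℕ, s.Prime ∧ s ∣ orderOf m ∧ s ≠ r := by
        by_cases hrp : p = r
        · exact ⟨q, hq, hqm, fun h => hpq (hrp.trans h.symm)⟩
        · exact ⟨p, hp, hpm, hrp⟩
      refine ⟨s, hs, hsm, ?_⟩
      rw [adj_iff_orderOf hu (hwm s), hwo]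
      obtain ⟨j, hj, hju⟩ := (Nat.dvd_prime_pow hr).mp h1
      have hj0 : j ≠ 0 := by
        rintro rfl
        rw [pow_zero, orderOf_eq_one_iff] at hju
        exact hu1 hju
      have h2 : (orderOf m).factorization s ≠ 0 := (hs.factorization_pos_of_dvd hm0 hsm).ne'
      rw [hju]
      rintro (h | h)
      · exact hsr ((Nat.prime_dvd_prime_iff_eq hr hs).mp (hr.dvd_of_dvd_pow ((dvd_pow_self r hj0).trans h))).symm
      · exact hsr ((Nat.prime_dvd_prime_iff_eq hs hr).mp (hs.dvd_of_dvd_pow ((dvd_pow_self s h2).trans h)))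
    · exact ⟨r, hr, hrm, had⟩
  obtain ⟨r, hr, hrm, hr'⟩ := hvw v₀ hv₀ hv₀1 hv₀m
  have hrS := hS v₀ hv₀ (w r) (hwm r) hv₀S hr'
  obtain ⟨s, hs, hsm, hs'⟩ := hvw v hv hv1 hvm
  have hsS : w s ∈ S := by
    by_cases hrs : r = s
    · rw [← hrs]; exact hrS
    · exact hS _ (hwm r) _ (hwm s) hrS (hww r s hr hs hrs hrm hsm)
  exact hS _ (hwm s) _ hv hsS (fun h => hs' h.symm)

theorem exists_orderOf_mul {h : G} {p q : ℕ} (hp : p.Prime) (hq : q.Prime) (hpq : p ≠ q)
    (hph : p ∣ orderOf h) (hqh : q ∣ orderOf h) : ∃ x : G, orderOf x = p * q := by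
  obtain ⟨x, _, hx⟩ := exists_orderOf_eq (m := h) (d := p * q)
    (Nat.Coprime.mul_dvd_of_dvd_of_dvd ((Nat.coprime_primes hp hq).mpr hpq) hph hqh)
  exact ⟨x, hx⟩

/-- a nontrivial element adjacent to everything has order divisible by all primes of `|G|`. -/
theorem dvd_orderOf_of_dominating {z : G} (hz1 : z ≠ 1) (hz : ∀ y, Adj z y) {p : ℕ} (hp : p.Prime)
    (hpG : p ∣ Nat.card G) : p ∣ orderOf z := by
  have : Fact p.Prime := ⟨hp⟩
  obtain ⟨x, hx⟩ := exists_prime_orderOf_dvd_card' p hpG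
  rcases hz x with h | h
  · have := orderOf_dvd_of_mem h
    rw [hx] at this
    rcases (Nat.dvd_prime hp).mp this with h1 | h1
    · exact absurd (orderOf_eq_one_iff.mp h1) hz1
    · rw [h1]
  · have := orderOf_dvd_of_mem h
    rwa [hx] at this

theorem main {G H : Type*} [Group G] [Finite G] [Group H] [Finite H] (e : G ≃ H)
    (he : ∀ x y : G, Adj x y ↔ Adj (e x) (e y)) {p q : ℕ} (hp : p.Prime) (hq : q.Prime) (hpq : p < q)
    {g : G} (hg : orderOf g = p * q) : ∃ h : H, orderOf h = p * q := by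
  classical
  by_contra hno
  have hno' : ∀ h : H, ¬ (p ∣ orderOf h ∧ q ∣ orderOf h) := fun h hh =>
    hno (exists_orderOf_mul hp hq hpq.ne hh.1 hh.2)
  have hpH : p ∣ Nat.card H := by
    rw [← Nat.card_congr e]
    exact (Dvd.intro q hg.symm).trans (orderOf_dvd_natCard g)
  have hqH : q ∣ Nat.card H := by
    rw [← Nat.card_congr e]
    exact (Dvd.intro_left p hg.symm).trans (orderOf_dvd_natCard g)
  obtain ⟨m, hgm, hm⟩ := exists_max g
  have hpqm : p * q ∣ orderOf m := hg ▸ orderOf_dvd_of_mem hgm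
  have hpm : p ∣ orderOf m := (dvd_mul_right p q).trans hpqm
  have hqm : q ∣ orderOf m := (dvd_mul_left q p).trans hpqm
  set C : Set H := {z : H | ∀ y, Adj z y ↔ Adj (e m) y} with hC
  obtain ⟨h, hhC, hmax⟩ := Set.exists_max_image C orderOf (Set.toFinite _) ⟨e m, fun y => Iff.rfl⟩
  have hCh : ∀ z ∈ C, z ∈ zpowers h := by
    intro z hz
    have h1 : Adj z h := (hz h).mpr ((hhC h).mp (adj_self h))
    rcases h1 with h1 | h1
    · exact h1
    · rw [zpowers_eq_of_le h1 (hmax z hz)]; exact mem_zpowers z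
  have hN : ∀ y : G, Adj h (e y) ↔ y ∈ zpowers m := by
    intro y
    rw [hhC, ← he, hm]
  -- `|C| ≥ φ(n)`
  have hCcard : Nat.totient (orderOf m) ≤ C.ncard := by
    have h1 := totient_le m (e ⁻¹' C) (by
      intro z hz y
      obtain ⟨y, rfl⟩ := e.surjective y
      rw [← he, ← he]
      exact adj_iff_of_zpowers_eq hz y)
    rwa [Set.ncard_preimage_of_injective_subset_range e.injective (by
      rw [Set.range_eq_univ.mpr e.surjective]; exact Set.subset_univ _)] at h1
  have htot : (p - 1) * (q - 1) ≤ Nat.totient (orderOf m) := by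
    have h1 : Nat.totient (p * q) = (p - 1) * (q - 1) := by
      rw [Nat.totient_mul ((Nat.coprime_primes hp hq).mpr hpq.ne), Nat.totient_prime hp, Nat.totient_prime hq]
    rw [← h1]
    exact Nat.le_of_dvd (Nat.totient_pos.mpr (orderOf_pos m)) (Nat.totient_dvd_of_dvd hpqm)
  have hp2 := hp.two_le
  have htot2 : 2 * (p - 1) ≤ (p - 1) * (q - 1) := by
    rw [mul_comm]; exact Nat.mul_le_mul le_rfl (by omega)
  have hh1 : h ≠ 1 := by
    rintro rfl
    have h1 : C ⊆ {1} := fun z hz => by simpa using hCh z hz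
    have h2 := Set.ncard_le_ncard h1
    rw [Set.ncard_singleton] at h2
    omega
  -- `h` is not adjacent to everything
  have hnd : ¬ ∀ y, Adj h y := by
    intro hall
    exact hno' h ⟨dvd_orderOf_of_dominating hh1 hall hp hpH, dvd_orderOf_of_dominating hh1 hall hq hqH⟩
  -- `h` does not generate a maximal cyclic subgroup
  obtain ⟨u, hhu, hu⟩ := exists_max h
  have huh : zpowers u ≠ zpowers h := by
    intro huh
    have h1 : ∀ y : G, e y ∈ zpowers h ↔ y ∈ zpowers m := by
      intro y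
      rw [← hN, ← huh, ← hu, adj_iff_of_zpowers_eq huh]
    have h2 : Nat.card (zpowers h) = Nat.card (zpowers m) := by
      apply Nat.card_congr
      exact (e.subtypeEquiv (fun y => (h1 y).symm)).symm
    rw [Nat.card_zpowers, Nat.card_zpowers] at h2
    exact hno' h ⟨h2 ▸ hpm, h2 ▸ hqm⟩
  have huC : u ∉ C := by
    intro huC
    exact huh (le_antisymm (zpowers_le.mpr (hCh u huC)) (zpowers_le.mpr hhu))
  set u' := e.symm u with hu'
  have heu : e u' = u := e.apply_symm_apply u
  have hu'm : u' ∈ zpowers m := by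
    rw [← hN, heu]; exact Or.inl hhu
  have hu'1 : u' ≠ 1 := by
    intro h1
    have h2 : ∀ y, y ∈ zpowers u := by
      intro y
      rw [← hu, ← heu, h1, ← e.apply_symm_apply y, ← he]
      exact adj_one _
    have h3 : Nat.card H = orderOf u := by
      rw [← Nat.card_zpowers, (Subgroup.eq_top_iff' _).mpr h2, card_top]
    exact hno' u ⟨h3 ▸ hpH, h3 ▸ hqH⟩
  have hu'gen : zpowers u' ≠ zpowers m := by
    intro h1
    apply huC
    intro y
    obtain ⟨y, rfl⟩ := e.surjective y
    rw [← heu, ← he, ← he]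
    exact adj_iff_of_zpowers_eq h1 y
  -- all proper elements of `⟨m⟩` go above `h`
  have hup : ∀ v ∈ zpowers m, v ≠ 1 → zpowers v ≠ zpowers m → h ∈ zpowers (e v) := by
    intro v hv hv1 hvm
    refine connected hp hq hpq.ne hpm hqm (S := {v | h ∈ zpowers (e v)}) ?_ hu'm
      (show h ∈ zpowers (e u') by rw [heu]; exact hhu) hu'1 hu'gen hv hv1 hvm
    intro a ha b hb haS hab
    have h1 : Adj h (e b) := (hN b).mpr hb
    rcases h1 with h1 | h1
    · exact h1
    · exfalso
      apply hab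
      rw [he]
      exact Or.inr ((zpowers_le.mpr haS) h1)
  -- elements of `⟨h⟩` other than `1` lie in `C`
  have hdown : ∀ z ∈ zpowers h, z ∈ C ∨ z = e 1 := by
    intro z hz
    obtain ⟨v, rfl⟩ := e.surjective z
    have hvm : v ∈ zpowers m := (hN v).mp (Or.inr hz)
    by_cases hv1 : v = 1
    · right; rw [hv1]
    left
    by_cases hvg : zpowers v = zpowers m
    · intro y
      obtain ⟨y, rfl⟩ := e.surjective y
      rw [← he, ← he]
      exact adj_iff_of_zpowers_eq hvg y
    · have h1 := hup v hvm hv1 hvg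
      have h2 : zpowers (e v) = zpowers h := le_antisymm (zpowers_le.mpr hz) (zpowers_le.mpr h1)
      intro y
      rw [adj_iff_of_zpowers_eq h2, hhC]
  have h1C : (1 : H) ∉ C := by
    intro h1
    apply hnd
    intro y
    rw [hhC, ← h1 y]
    exact adj_one y
  have he1 : e 1 = 1 := ((hdown 1 (one_mem _)).resolve_left h1C).symm
  have hdown' : ∀ z ∈ zpowers h, z ≠ 1 → z ∈ C := fun z hz hz1 =>
    (hdown z hz).resolve_right (by rw [he1]; exact hz1)
  have hclique : ∀ z ∈ zpowers h, z ≠ 1 → ∀ z' ∈ zpowers h, z' ≠ 1 → Adj z z' := by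
    intro z hz hz1 z' hz' hz1'
    rw [hdown' z hz hz1, ← hdown' z' hz' hz1']
    exact adj_self z'
  -- the order of `h` is a prime power
  obtain ⟨l, hl, hlh⟩ := Nat.exists_prime_and_dvd (n := orderOf h) (fun h1 => hh1 (orderOf_eq_one_iff.mp h1))
  have hpp : ∀ r : ℕ, r.Prime → r ∣ orderOf h → r = l := by
    intro r hr hrh
    obtain ⟨a, ha, hao⟩ := exists_orderOf_eq hlh
    obtain ⟨b, hb, hbo⟩ := exists_orderOf_eq hrh
    have h1 := hclique a ha (by rintro rfl; rw [orderOf_one] at hao; exact hl.one_lt.ne hao) b hb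
      (by rintro rfl; rw [orderOf_one] at hbo; exact hr.one_lt.ne hbo)
    rw [adj_iff_orderOf ha hb, hao, hbo] at h1
    rcases h1 with h1 | h1
    · exact ((Nat.prime_dvd_prime_iff_eq hl hr).mp h1).symm
    · exact (Nat.prime_dvd_prime_iff_eq hr hl).mp h1
  obtain ⟨k, hk⟩ : ∃ k, orderOf h = l ^ k := ⟨_, Nat.eq_prime_pow_of_unique_prime_dvd (orderOf_pos h).ne' (fun {d} hd hdh => hpp d hd hdh)⟩
  have hk0 : k ≠ 0 := by
    rintro rfl
    rw [pow_zero] at hk
    exact hh1 (orderOf_eq_one_iff.mp hk)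
  -- `|C| ≤ l ^ k - 1`
  have hCle : C.ncard ≤ l ^ k - 1 := by
    have h1 : C ⊆ (zpowers h : Set H) \ {1} := fun z hz => ⟨hCh z hz, fun h1 => h1C (by rw [← h1]; exact hz)⟩
    have h2 := Set.ncard_le_ncard h1
    rw [Set.ncard_diff_singleton_of_mem (one_mem _)] at h2
    have h3 : (zpowers h : Set H).ncard = l ^ k := by
      rw [← hk, ← Nat.card_zpowers]; rfl
    rwa [h3] at h2
  -- elements `x` of order `p`, `y` of order `q`
  obtain ⟨x, hxg, hxo⟩ := exists_orderOf_eq (m := g) (d := p) (hg ▸ dvd_mul_right p q)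
  obtain ⟨y, hyg, hyo⟩ := exists_orderOf_eq (m := g) (d := q) (hg ▸ dvd_mul_left q p)
  have hxm : x ∈ zpowers m := (zpowers_le.mpr hgm) hxg
  have hx1 : x ≠ 1 := by rintro rfl; rw [orderOf_one] at hxo; exact hp.one_lt.ne hxo
  have hxgen : zpowers x ≠ zpowers m := by
    intro h1
    have h2 : orderOf x = orderOf m := by rw [← Nat.card_zpowers, ← Nat.card_zpowers, h1]
    rw [← h2, hxo] at hqm
    exact hpq.ne ((Nat.prime_dvd_prime_iff_eq hq hp).mp hqm).symm
  have hxy : ¬ Adj x y := by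
    rw [adj_iff_orderOf hxg hyg, hxo, hyo]
    rintro (h1 | h1)
    · exact hpq.ne ((Nat.prime_dvd_prime_iff_eq hp hq).mp h1)
    · exact hpq.ne ((Nat.prime_dvd_prime_iff_eq hq hp).mp h1).symm
  have hex := hup x hxm hx1 hxgen
  -- twins of `x` have order `p`
  have htw : Nat.totient (orderOf (e x)) ≤ p - 1 := by
    have h1 := totient_le (e x) (e '' ((zpowers x : Set G) \ {1})) (by
      intro z hz
      obtain ⟨z, rfl⟩ := e.surjective z
      refine ⟨z, ?_, rfl⟩
      have htwin : ∀ w, Adj z w ↔ Adj x w := by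
        intro w
        rw [he, he]
        exact adj_iff_of_zpowers_eq hz (e w)
      have hz1 : z ≠ 1 := by
        rintro rfl
        exact hxy ((htwin y).mp (adj_one y))
      refine ⟨?_, hz1⟩
      have hzg : z ∈ zpowers g := by
        rcases (htwin g).mpr (Or.inl hxg) with h1 | h1
        · exact h1
        · exfalso
          exact hxy ((htwin y).mp (Or.inr ((zpowers_le.mpr h1) hyg)))
      apply mem_zpowers_of_orderOf_dvd hzg hxg
      rw [hxo]
      have h2 : orderOf z ∣ p * q := hg ▸ orderOf_dvd_of_mem hzg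
      have h3 : ¬ q ∣ orderOf z := by
        intro h3
        exact hxy ((htwin y).mp (Or.inr (mem_zpowers_of_orderOf_dvd hyg hzg (hyo ▸ h3))))
      exact Nat.Coprime.dvd_of_dvd_mul_right ((hq.coprime_iff_not_dvd.mpr h3).symm) h2)
    rw [Set.ncard_image_of_injective _ e.injective, Set.ncard_diff_singleton_of_mem (one_mem _)] at h1
    have h3 : (zpowers x : Set G).ncard = p := by
      rw [← hxo, ← Nat.card_zpowers]; rfl
    rwa [h3] at h1
  have hlk : l ^ (k - 1) * (l - 1) ≤ p - 1 := by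
    rw [← Nat.totient_prime_pow hl (Nat.pos_of_ne_zero hk0), ← hk]
    refine le_trans (Nat.le_of_dvd (Nat.totient_pos.mpr (orderOf_pos _)) (Nat.totient_dvd_of_dvd ?_)) htw
    exact orderOf_dvd_of_mem hex
  -- final count
  obtain ⟨j, rfl⟩ : ∃ j, k = j + 1 := ⟨k - 1, by omega⟩
  have hl2 := hl.two_le
  obtain ⟨c, rfl⟩ : ∃ c, l = c + 2 := ⟨l - 2, by omega⟩
  have h5 : (c + 2) ^ (j + 1) = (c + 2) ^ j * (c + 1) + (c + 2) ^ j := by ring
  have h6 : (c + 2) ^ j ≤ (c + 2) ^ j * (c + 1) := Nat.le_mul_of_pos_right _ (by omega)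
  have h7 : (c + 2) ^ j * (c + 1) ≤ p - 1 := by
    simpa using hlk
  have h8 := htot2.trans (htot.trans (hCcard.trans hCle))
  rw [h5] at h8
  omega

end Cfsg.Agent.Lib.PowerGraph
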