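import Cfsg.Agent.Lib.PresSpCore2

/-! Core argument for the presentation of `Sp_{2n}`: the root subgroups satisfy `Rt` (helper38). -/

set_option autoImplicit false

namespace Cfsg.Agent.Lib.PresSpCore

open Equiv Matrix Cfsg.Agent.Lib.PresBC Cfsg.Agent.Lib.PresWr Cfsg.Agent.Lib.ClIso Cfsg.Agent.Lib.ClSymp Cfsg.Agent.Lib.ClSymp2
  Cfsg.Agent.Lib.PresSpMod Cfsg.Agent.Lib.PresSec

variable {F : Type*} [Field F] {n : ℕ} {Γ : Type*} [Group Γ]
variable {p q : Fin n} {δ : Wr (S2 F) n →* Γ} {u : Γ}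
variable [Fintype F] {ζ : Fˣ} (h : SpRel ζ p q δ u)

theorem comm_iff {G : Type*} [Group G] {a b : G} : a * b * a⁻¹ * b⁻¹ = 1 ↔ Commute a b := by
  rw [mul_inv_eq_one, mul_inv_eq_iff_eq_mul]
  exact Iff.rfl

include h

/-- the `90°` relation -/
theorem SpRel.Rv (hζ : ∀ x : Fˣ, x ∈ Subgroup.zpowers ζ) {a b : Zs n} (hab : ix a ≠ ix b) (s t : F) :
    ∃ w, Y p q δ u b a s * Y p q δ u b (ng a) t * (Y p q δ u b a s)⁻¹ * (Y p q δ u b (ng a) t)⁻¹ = δ (ell b w) := by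
  have hba : ix b ≠ ix (ng a) := by rw [ix_ng]; exact hab.symm
  set ε : F := -sg a with hε
  have hsg : ε * ε = 1 := by rw [hε, neg_mul_neg]; exact sg_sq _
  set r : F := ε * t with hr
  have hs1 := h.Rb hζ hab r s
  have hs2 := h.Rb hζ hab r 1
  have hs3 := h.Rb hζ hab r (s + 1)
  rw [h.Y_add hζ hab] at hs3
  set L := δ (ell (ng a) r) with hL
  set A := Y p q δ u a b s with hA
  set B := Y p q δ u a b 1 with hB
  have e2 : -sg a * 1 * r = t := by rw [hr, ← hε]; linear_combination t * hsg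
  rw [e2] at hs2
  -- rewrite in the form `L A = Y' Lb A L`
  have f1 : L * A = Y p q δ u b (ng a) (-sg a * s * r) * δ (ell b (-(s ^ 2 * r))) * A * L := by
    rw [← hs1]; group
  have f2 : L * B = Y p q δ u b (ng a) t * δ (ell b (-(1 ^ 2 * r))) * B * L := by
    rw [← hs2]; group
  have f3 : L * (A * B) = Y p q δ u b (ng a) (-sg a * (s + 1) * r) * δ (ell b (-((s + 1) ^ 2 * r))) * (A * B) * L := by
    rw [← hs3]; group
  have e3 : -sg a * (s + 1) * r = -sg a * s * r + t := by rw [← e2]; ring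
  rw [e3, h.Y_add hζ hba] at f3
  set Y1 := Y p q δ u b (ng a) (-sg a * s * r) with hY1
  set Y2 := Y p q δ u b (ng a) t with hY2
  have f4 : L * (A * B) = Y1 * δ (ell b (-(s ^ 2 * r))) * A * (Y2 * δ (ell b (-(1 ^ 2 * r))) * B * L) := by
    rw [← mul_assoc, f1, mul_assoc _ L B, f2]
  rw [f3] at f4
  -- cancel `B L`
  have f5 : Y1 * Y2 * δ (ell b (-((s + 1) ^ 2 * r))) * A = Y1 * δ (ell b (-(s ^ 2 * r))) * A * Y2 * δ (ell b (-(1 ^ 2 * r))) := by
    have : Y1 * Y2 * δ (ell b (-((s + 1) ^ 2 * r))) * A * (B * L) = Y1 * δ (ell b (-(s ^ 2 * r))) * A * Y2 * δ (ell b (-(1 ^ 2 * r))) * (B * L) := by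
      calc _ = Y1 * Y2 * δ (ell b (-((s + 1) ^ 2 * r))) * (A * B) * L := by simp only [mul_assoc]
        _ = _ := by rw [f4]; simp only [mul_assoc]
    exact mul_right_cancel this
  have c1 : ∀ w, Commute (δ (ell b w)) Y2 := fun w => h.Ra hba w t
  have c2 : ∀ w, Commute (δ (ell b w)) A := fun w => by
    rw [hA, h.Y_symm hab]; exact h.Ra hab.symm w s
  have f6 : Y2 * δ (ell b (-((s + 1) ^ 2 * r))) * A = δ (ell b (-(s ^ 2 * r))) * A * Y2 * δ (ell b (-(1 ^ 2 * r))) := by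
    apply mul_left_cancel (a := Y1)
    simp only [mul_assoc] at f5 ⊢
    exact f5
  refine ⟨-((s + 1) ^ 2 * r) + s ^ 2 * r + 1 ^ 2 * r, ?_⟩
  rw [h.Y_symm (a := b) (b := a) hab.symm, ← hA]
  have f7 : A * Y2 = (δ (ell b (-(s ^ 2 * r))))⁻¹ * (Y2 * δ (ell b (-((s + 1) ^ 2 * r))) * A) * (δ (ell b (-(1 ^ 2 * r))))⁻¹ := by
    rw [f6]; group
  rw [f7, L_neg, L_neg, L_neg, inv_inv, inv_inv, ell_add, ell_add, map_mul, map_mul, L_neg]
  set P := δ (ell b (s ^ 2 * r))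
  set R := δ (ell b ((s + 1) ^ 2 * r))
  set S := δ (ell b (1 ^ 2 * r))
  have cP := c1 (s ^ 2 * r)
  have cR := (c1 ((s + 1) ^ 2 * r)).inv_left
  have cS := c1 (1 ^ 2 * r)
  have dS := c2 (1 ^ 2 * r)
  have cPR : Commute P R⁻¹ := (by
    show Commute (δ (ell b (s ^ 2 * r))) (δ (ell b ((s + 1) ^ 2 * r)))⁻¹
    rw [← L_neg]
    exact (ell_comm (ng_ne b).symm _ _).map δ)
  calc P * (Y2 * R⁻¹ * A) * S * A⁻¹ * Y2⁻¹ = P * Y2 * R⁻¹ * (A * S) * A⁻¹ * Y2⁻¹ := by simp only [mul_assoc]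
    _ = P * Y2 * R⁻¹ * (S * A) * A⁻¹ * Y2⁻¹ := by rw [dS.eq]
    _ = P * (Y2 * (R⁻¹ * S)) * Y2⁻¹ := by group
    _ = P * ((R⁻¹ * S) * Y2) * Y2⁻¹ := by rw [(cR.mul_left cS).eq]
    _ = R⁻¹ * P * S := by rw [← cPR.eq]; group

theorem SpRel.Ri {a b c : Zs n} (hab : ix a ≠ ix b) (hac : ix a ≠ ix c) (hbc : ix b ≠ ix c) (s t : F) :
    Commute (δ (ell c s)) (Y p q δ u a b t) := by
  by_cases ht : t = 0
  · rw [ht, h.Y_zero hab]; exact Commute.one_right _
  -- a third index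
  obtain ⟨r, hrp, hrq⟩ : ∃ r : Fin n, r ≠ p ∧ r ≠ q := by
    by_contra hcon
    push Not at hcon
    have h1 : (Finset.univ : Finset (Fin n)) ⊆ {p, q} := by
      intro r _
      rw [Finset.mem_insert, Finset.mem_singleton]
      by_cases hr : r = p
      · exact Or.inl hr
      · exact Or.inr (hcon r hr)
    have h2 := Finset.card_le_card h1
    have h3 : ({ix a, ix b, ix c} : Finset (Fin n)).card = 3 := Finset.card_eq_three.2 ⟨_, _, _, hab, hac, hbc, rfl⟩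
    have h4 := Finset.card_le_card (Finset.subset_univ ({ix a, ix b, ix c} : Finset (Fin n)))
    have h5 := Finset.card_le_two (a := p) (b := q)
    omega
  obtain ⟨d, hd, h1, h2, h3⟩ := mv3 (F := F) h.hpq hrp.symm hrq.symm hab hac hbc 1 (Units.mk0 t ht) 1
  have h4 : Commute (δ (ell (Sum.inl r) s)) u := h.hi r hrp hrq _
  have h5 := commute_conj (δ d) h4
  rw [L_conj h3, ← h.Y_base, h.Y_conj hd hab h1 h2] at h5
  simpa using h5

theorem SpRel.exists_third {a b c : Zs n} (hab : ix a ≠ ix b) (hac : ix a ≠ ix c) (hbc : ix b ≠ ix c) : ∃ r : Fin n, r ≠ p ∧ r ≠ q := by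
  by_contra hcon
  push Not at hcon
  have h1 : (Finset.univ : Finset (Fin n)) ⊆ {p, q} := by
    intro r _
    rw [Finset.mem_insert, Finset.mem_singleton]
    by_cases hr : r = p
    · exact Or.inl hr
    · exact Or.inr (hcon r hr)
  have h2 := Finset.card_le_card h1
  have h3 : ({ix a, ix b, ix c} : Finset (Fin n)).card = 3 := Finset.card_eq_three.2 ⟨_, _, _, hab, hac, hbc, rfl⟩
  have h4 := Finset.card_le_card (Finset.subset_univ ({ix a, ix b, ix c} : Finset (Fin n)))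
  have h5 := Finset.card_le_two (a := p) (b := q)
  omega

theorem SpRel.Rc {a b c : Zs n} (hab : ix a ≠ ix b) (hac : ix a ≠ ix c) (hbc : ix b ≠ ix c) (s t : F) :
    ∃ w, Y p q δ u (ng a) c s * Y p q δ u a b t * (Y p q δ u (ng a) c s)⁻¹ * (Y p q δ u a b t)⁻¹ = Y p q δ u b c w := by
  have hac' : ix (ng a) ≠ ix c := by rw [ix_ng]; exact hac
  by_cases hs : s = 0
  · exact ⟨0, by rw [hs, h.Y_zero hac', h.Y_zero hbc]; group⟩
  by_cases ht : t = 0
  · exact ⟨0, by rw [ht, h.Y_zero hab, h.Y_zero hbc]; group⟩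
  obtain ⟨r, hrp, hrq⟩ := h.exists_third hab hac hbc
  let e : Fˣ := Units.mk0 (-sg a : F) (neg_ne_zero.2 (sg_ne a))
  obtain ⟨d, hd, h1, h2, h3⟩ := mv3 (F := F) h.hpq hrp.symm hrq.symm hab hac hbc e (e⁻¹ * Units.mk0 t ht) (Units.mk0 s hs)
  have h4 := ng_image hd h1
  have e1 : (-sg a * ((e⁻¹ : Fˣ) : F)) = 1 := by
    show (e : F) * ((e⁻¹ : Fˣ) : F) = 1
    rw [← Units.val_mul, mul_inv_cancel, Units.val_one]
  rw [e1] at h4
  have hC := h.rc r hrp hrq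
  have hY1 := h.Y_conj hd hab h1 h2 1
  rw [h.Y_base] at hY1
  have e2 : (1 : F) * (e : F) * ((e⁻¹ * Units.mk0 t ht : Fˣ) : F) = t := by
    rw [one_mul, ← Units.val_mul, mul_inv_cancel_left, Units.val_mk0]
  rw [e2] at hY1
  have hY2 := h.Y_conj hd (a := Sum.inl r) (b := Sum.inr p) hac'.symm h3 h4 1
  rw [Units.val_mk0, one_mul, mul_one] at hY2
  have hY3 := h.Y_conj hd hbc h2 h3 1
  refine ⟨_, Eq.trans ?_ hY3⟩
  rw [h.Y_symm hac', ← hY2, ← hY1]
  have e4 : ∀ x y : Γ, δ d * x * (δ d)⁻¹ * (δ d * y * (δ d)⁻¹) * (δ d * x * (δ d)⁻¹)⁻¹ * (δ d * y * (δ d)⁻¹)⁻¹ =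
      δ d * (x * y * x⁻¹ * y⁻¹) * (δ d)⁻¹ := by intro x y; group
  rw [e4]
  exact congrArg (fun z => δ d * z * (δ d)⁻¹) hC

theorem SpRel.Rd {a b c : Zs n} (hab : ix a ≠ ix b) (hac : ix a ≠ ix c) (hbc : ix b ≠ ix c) (s t : F) :
    Commute (Y p q δ u a c s) (Y p q δ u a b t) := by
  by_cases hs : s = 0
  · rw [hs, h.Y_zero hac]; exact Commute.one_left _
  by_cases ht : t = 0
  · rw [ht, h.Y_zero hab]; exact Commute.one_right _
  obtain ⟨r, hrp, hrq⟩ := h.exists_third hab hac hbc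
  obtain ⟨d, hd, h1, h2, h3⟩ := mv3 (F := F) h.hpq hrp.symm hrq.symm hab hac hbc 1 (Units.mk0 t ht) (Units.mk0 s hs)
  have h5 := commute_conj (δ d) (h.rd r hrp hrq)
  have hY1 := h.Y_conj hd hab h1 h2 1
  have hY2 := h.Y_conj hd hac h1 h3 1
  rw [h.Y_base] at hY1
  rw [Units.val_one, Units.val_mk0, one_mul, one_mul] at hY1 hY2
  rw [← hY1, ← hY2]
  exact h5

theorem SpRel.Re {a b c e : Zs n} (hab : ix a ≠ ix b) (hac : ix a ≠ ix c) (hae : ix a ≠ ix e) (hbc : ix b ≠ ix c) (hbe : ix b ≠ ix e)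
    (hce : ix c ≠ ix e) (s t : F) : Commute (Y p q δ u c e s) (Y p q δ u a b t) := by
  by_cases hs : s = 0
  · rw [hs, h.Y_zero hce]; exact Commute.one_left _
  by_cases ht : t = 0
  · rw [ht, h.Y_zero hab]; exact Commute.one_right _
  obtain ⟨r, hrp, hrq⟩ := h.exists_third hab hac hbc
  obtain ⟨r', hrp', hrq', hrr⟩ : ∃ r' : Fin n, r' ≠ p ∧ r' ≠ q ∧ r ≠ r' := by
    by_contra hcon
    push Not at hcon
    have h1 : (Finset.univ : Finset (Fin n)) ⊆ {p, q, r} := by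
      intro x _
      rw [Finset.mem_insert, Finset.mem_insert, Finset.mem_singleton]
      by_cases hx : x = p
      · exact Or.inl hx
      · by_cases hx2 : x = q
        · exact Or.inr (Or.inl hx2)
        · exact Or.inr (Or.inr (hcon x hx hx2).symm)
    have h2 := Finset.card_le_card h1
    have h3 : ({ix a, ix b, ix c, ix e} : Finset (Fin n)).card = 4 := by
      rw [Finset.card_insert_of_notMem, Finset.card_insert_of_notMem, Finset.card_insert_of_notMem, Finset.card_singleton]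
      · simpa using hce
      · simp [hbc, hbe]
      · simp [hab, hac, hae]
    have h4 := Finset.card_le_card (Finset.subset_univ ({ix a, ix b, ix c, ix e} : Finset (Fin n)))
    have h5 := Finset.card_le_three (a := p) (b := q) (c := r)
    omega
  obtain ⟨d, hd, h1, h2, h3, h4⟩ := mv4 (F := F) h.hpq hrp.symm hrp'.symm hrq.symm hrq'.symm hrr hab hac hae hbc hbe hce 1 (Units.mk0 t ht) 1 (Units.mk0 s hs)
  have h5 := commute_conj (δ d) (h.re r r' hrp hrq hrp' hrq' hrr)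
  have hY1 := h.Y_conj hd hab h1 h2 1
  have hY2 := h.Y_conj hd hce h3 h4 1
  rw [h.Y_base] at hY1
  rw [Units.val_one, Units.val_mk0, one_mul, one_mul] at hY1 hY2
  rw [← hY1, ← hY2]
  exact h5

/-- rank one, short roots -/
theorem SpRel.Rf {a b : Zs n} (hab : ix a ≠ ix b) {t : F} (ht : t ≠ 0) :
    ∃ s, ∃ m ∈ ND F n, Y p q δ u a b s * Y p q δ u (ng a) (ng b) t * Y p q δ u a b s = δ m := by
  obtain ⟨m, hm, h0⟩ := h.rf
  let w : Fˣ := Units.mk0 ((-sg a) * (-sg b) * t⁻¹ : F) (mul_ne_zero (mul_ne_zero (neg_ne_zero.2 (sg_ne a)) (neg_ne_zero.2 (sg_ne b))) (inv_ne_zero ht))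
  have hab' : ix (ng a) ≠ ix (ng b) := by rw [ix_ng, ix_ng]; exact hab
  obtain ⟨d, hd, h1, h2⟩ := mv2 (F := F) h.hpq hab w 1
  have h3 := ng_image hd h1
  have h4 := ng_image hd h2
  refine ⟨(w : F), d * m * d⁻¹, mul_mem (mul_mem hd hm) (inv_mem hd), ?_⟩
  have hY1 := h.Y_conj hd hab h1 h2 1
  rw [h.Y_base, Units.val_one, one_mul, mul_one] at hY1
  have hY2 := h.Y_conj hd hab' h3 h4 1
  have e1 : (1 : F) * (-sg a * ((w⁻¹ : Fˣ) : F)) * (-sg b * (((1 : Fˣ)⁻¹ : Fˣ) : F)) = t := by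
    have h5 := sg_sq (F := F) a
    have h6 := sg_sq (F := F) b
    have h7 : (w : F) * ((w⁻¹ : Fˣ) : F) = 1 := by rw [← Units.val_mul, mul_inv_cancel, Units.val_one]
    have h8 : (w : F) = (-sg a) * (-sg b) * t⁻¹ := rfl
    rw [h8] at h7
    rw [inv_one, Units.val_one]
    have h9 : t * t⁻¹ = 1 := mul_inv_cancel₀ ht
    linear_combination t * h7 - (sg a : F) * sg b * ((w⁻¹ : Fˣ) : F) * h9
  rw [e1] at hY2
  rw [← hY1, ← hY2, map_mul, map_mul, map_inv, ← h0]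
  show _ = δ d * (u * Y p q δ u (Sum.inr p) (Sum.inr q) 1 * u) * (δ d)⁻¹
  group

omit h [Fintype F] in
/-- rank one, long roots -/
theorem long_one {a : Zs n} {t : F} (ht : t ≠ 0) :
    ∃ s, ∃ m ∈ ND F n, (ell (ng a) t : Wr (S2 F) n) = ell a s * m * ell a s := by
  rcases a with i | i
  · refine ⟨-t⁻¹, co i (Ag (Units.mk0 t ht)), ?_, ?_⟩
    · apply mem_ND
      intro j
      by_cases hj : j = i
      · subst hj; right; exact ⟨_, co_left_same _ _⟩
      · left; exact ⟨1, by rw [co_left_ne hj, Dg_one]⟩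
    · show co i (lo t) = co i (up (- -t⁻¹)) * co i (Ag (Units.mk0 t ht)) * co i (up (- -t⁻¹))
      rw [← map_mul, ← map_mul]
      congr 1
      apply Subtype.ext
      show !![1, 0; t, 1] = !![1, - -t⁻¹; 0, 1] * !![0, -(((Units.mk0 t ht)⁻¹ : Fˣ) : F); (Units.mk0 t ht : F), 0] * !![1, - -t⁻¹; 0, 1]
      ext a b
      fin_cases a <;> fin_cases b <;> simp [Matrix.mul_apply, Fin.sum_univ_two, ht]
  · refine ⟨-t⁻¹, co i (Ag (Units.mk0 t ht)⁻¹), ?_, ?_⟩
    · apply mem_ND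
      intro j
      by_cases hj : j = i
      · subst hj; right; exact ⟨_, co_left_same _ _⟩
      · left; exact ⟨1, by rw [co_left_ne hj, Dg_one]⟩
    · show co i (up (-t)) = co i (lo (-t⁻¹)) * co i (Ag (Units.mk0 t ht)⁻¹) * co i (lo (-t⁻¹))
      rw [← map_mul, ← map_mul]
      congr 1
      apply Subtype.ext
      show !![1, -t; 0, 1] = !![1, 0; -t⁻¹, 1] * !![0, -((((Units.mk0 t ht)⁻¹)⁻¹ : Fˣ) : F); (((Units.mk0 t ht)⁻¹ : Fˣ) : F), 0] * !![1, 0; -t⁻¹, 1]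
      ext a b
      fin_cases a <;> fin_cases b <;> simp [Matrix.mul_apply, Fin.sum_univ_two, ht]

end Cfsg.Agent.Lib.PresSpCore
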