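import Cfsg.Agent.Lib.SU3Gen2

/-!
# Generation of `SU_3(q)` by two conjugate regular unipotent elements: the cases (helper66)
-/

set_option autoImplicit false
set_option linter.unusedSimpArgs false
set_option linter.unusedSectionVars false

namespace Cfsg.Agent.Lib.SU3Gen

open Matrix Cfsg Cfsg.Agent.Lib.ClUnitary Cfsg.Agent.Lib.HermMat Cfsg.Agent.Lib.SylU3

section vec

variable {F : Type*} [Field F] {σ : F →+* F} (hσ : ∀ x, σ (σ x) = x)

theorem X_vec {a b : F} (h : b + σ b + a * σ a = 0) (x y z : F) :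
    mx (X hσ a b h) *ᵥ ![x, y, z] = ![x + a * y + b * z, y - σ a * z, z] := by
  rw [mul_vec3, mx_X]
  ext i; fin_cases i <;> simp
  ring

theorem Y_vec {c d : F} (h : d + σ d + c * σ c = 0) (x y z : F) :
    mx (Y hσ c d h) *ᵥ ![x, y, z] = ![x, c * x + y, d * x - σ c * y + z] := by
  rw [mul_vec3, mx_Y]
  ext i; fin_cases i <;> simp
  ring

theorem vec_congr {x y z x' y' z' : F} (h1 : x = x') (h2 : y = y') (h3 : z = z') :
    (![x, y, z] : Fin 3 → F) = ![x', y', z'] := by
  rw [h1, h2, h3]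

end vec

section cases

variable {F : Type*} [Field F] [Fintype F]

/-- the conclusion -/
def Concl (F : Type*) [Field F] (q : ℕ) : Prop :=
    ∃ u g : ↥(Cfsg.SU 3 F q), (IsNilpotent (((u : Matrix.SpecialLinearGroup (Fin 3) F) : Matrix (Fin 3) (Fin 3) F) - 1) ∧ (((u : Matrix.SpecialLinearGroup (Fin 3) F) : Matrix (Fin 3) (Fin 3) F) - 1) ^ (3 - 1) ≠ 0) ∧
      Subgroup.closure ({u, g * u * g⁻¹} : Set ↥(Cfsg.SU 3 F q)) = ⊤

/-- an element of given order -/
theorem exists_gen (F : Type*) [Field F] [Fintype F] {q : ℕ} (hF : Fintype.card F = q ^ 2) :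
    ∃ g : Fˣ, orderOf g = q ^ 2 - 1 := by
  classical
  obtain ⟨g, hg⟩ := IsCyclic.exists_generator (α := Fˣ)
  refine ⟨g, ?_⟩
  rw [orderOf_eq_card_of_forall_mem_zpowers hg, Nat.card_eq_fintype_card, Fintype.card_units, hF]

theorem case8 (hF : Fintype.card F = 8 ^ 2) : Concl F 8 := by
  obtain ⟨g, hg⟩ := exists_gen F hF
  norm_num at hg
  have h2 : (2 : F) = 0 := by
    have h1 : ((Fintype.card F : ℕ) : F) = 0 := Nat.cast_card_eq_zero F
    rw [hF] at h1
    norm_num at h1
    have h3 : (64 : F) = 2 ^ 6 := by norm_num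
    rw [h3] at h1
    exact pow_eq_zero_iff (by norm_num) |>.1 h1
  obtain ⟨u, hu9, hu3⟩ : ∃ u : F, u ^ 9 = 1 ∧ u ^ 3 ≠ 1 := by
    refine ⟨((g ^ 7 : Fˣ) : F), ?_, ?_⟩
    · rw [← Units.val_pow_eq_pow_val, ← pow_mul, show 7 * 9 = 63 from rfl, ← hg, pow_orderOf_eq_one, Units.val_one]
    · intro h
      have h1 : g ^ 21 = 1 := by
        apply Units.ext
        rw [Units.val_one, ← h, ← Units.val_pow_eq_pow_val, ← pow_mul]
      have h4 := orderOf_dvd_of_pow_eq_one h1
      rw [hg] at h4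
      omega
  have hu : u ^ 6 = u ^ 3 + 1 := by
    have h1 : (u ^ 3 - 1) * (u ^ 6 - u ^ 3 - 1) = 0 := by
      linear_combination hu9 + (1 - u ^ 6) * h2
    rcases mul_eq_zero.1 h1 with h | h
    · exact absurd (sub_eq_zero.1 h) hu3
    · linear_combination h
  have hσu : frob hF u = u ^ 5 + u ^ 2 := by
    rw [frob_apply]
    linear_combination (u ^ 2) * hu
  have hσ1 : frob hF (1 : F) = 1 := map_one _
  have h : (u + u ^ 2 + u ^ 3 + u ^ 4) + frob hF (u + u ^ 2 + u ^ 3 + u ^ 4) + 1 * frob hF (1 : F) = 0 := by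
    simp only [map_add, map_pow, hσu, hσ1]
    linear_combination ((13) + (3)*u + (34)*u^2 + (8)*u^3 + (1)*u^4 + (21)*u^5 + (4)*u^6 + (12)*u^8 + (1)*u^9 + (5)*u^11 + (1)*u^14) * hu + ((7) + (2)*u + (18)*u^2 + (11)*u^3 + (3)*u^4 + (28)*u^5) * h2
  have h' : u + frob hF u + (u + u ^ 2) * frob hF (u + u ^ 2) = 0 := by
    simp only [map_add, map_pow, hσu]
    linear_combination ((6) + (1)*u + (3)*u^2 + (3)*u^3 + (1)*u^5 + (1)*u^6) * hu + ((3) + (1)*u + (2)*u^2 + (5)*u^3 + (1)*u^4 + (3)*u^5) * h2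
  have hs0 : (1 + u + u ^ 2) ≠ 0 := by
    intro h0
    apply hu3
    linear_combination (u - 1) * h0
  have hc0 : u + u ^ 2 ≠ 0 := by
    intro h0
    have hu0 : u ≠ 0 := by
      rintro rfl
      norm_num at hu9
    have h1 : u * (1 + u) = 0 := by linear_combination h0
    rcases mul_eq_zero.1 h1 with h1 | h1
    · exact hu0 h1
    · apply hu3
      have : u = -1 := by linear_combination h1
      rw [this]
      linear_combination (-1) * h2
  have hl0 : 1 + u ^ 2 + u ^ 3 ≠ 0 := by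
    intro h0
    have h1 : (1 + u + u ^ 2) ^ 2 = 0 := by
      linear_combination (u ^ 2 + u ^ 3) * h0 + (-1) * hu + (u + u ^ 2 - u ^ 5) * h2
    exact hs0 (pow_eq_zero_iff (by norm_num) |>.1 h1)
  have hκ : (1 + u ^ 2 + u ^ 3) ^ 2 * (frob hF (1 + u ^ 2 + u ^ 3))⁻¹ = u + u ^ 5 := by
    have h1 : frob hF (1 + u ^ 2 + u ^ 3) ≠ 0 := (map_ne_zero _).2 hl0
    rw [mul_inv_eq_iff_eq_mul₀ h1]
    simp only [map_add, map_pow, hσu, hσ1]
    linear_combination ((-7) + (-13)*u + (-24)*u^2 + (-5)*u^3 + (-8)*u^4 + (-14)*u^5 + (-3)*u^6 + (-4)*u^7 + (-8)*u^8 + (-1)*u^9 + (-1)*u^10 + (-4)*u^11 + (-1)*u^14) * hu + ((-3) + (-7)*u + (-11)*u^2 + (-5)*u^3 + (-10)*u^4 + (-19)*u^5) * h2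
  have hX := Subgroup.subset_closure (G := UJ (frob hF)) (k := {X (frob_frob hF) 1 _ h, Y (frob_frob hF) _ _ h'}) (Set.mem_insert _ _)
  have hY := Subgroup.subset_closure (G := UJ (frob hF)) (k := {X (frob_frob hF) 1 _ h, Y (frob_frob hF) _ _ h'}) (Set.mem_insert_of_mem _ rfl)
  refine final hF (by norm_num) h one_ne_zero h' hc0 hs0 ?_
    (mul_mem hY (mul_mem hX (mul_mem hY (mul_mem hX (mul_mem hX hY))))) (l := 1 + u ^ 2 + u ^ 3) ?_ ?_ hl0
  · rw [map_one, mul_one, eq_mul_inv_iff_mul_eq₀ (pow_ne_zero 2 hs0)]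
    simp only [map_add, map_pow, hσu, hσ1]
    linear_combination ((1) + (-3)*u + (-1)*u^4) * hu + ((-1)*u + (1)*u^2 + (3)*u^3 + (1)*u^5) * h2
  · simp only [mx_mul, ← mulVec_mulVec]
    rw [Y_vec, vec_congr (x' := 1) (y' := u + u ^ 2) (z' := u)
      (by (try simp only [map_add, map_pow, hσu, hσ1]) <;> linear_combination (0) * hu + (0) * h2)
      (by (try simp only [map_add, map_pow, hσu, hσ1]) <;> linear_combination (0) * hu + (0) * h2)
      (by (try simp only [map_add, map_pow, hσu, hσ1]) <;> linear_combination (0) * hu + (0) * h2)]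
    rw [X_vec, vec_congr (x' := 1 + u + u ^ 3 + u ^ 4 + u ^ 5) (y' := u ^ 2) (z' := u)
      (by (try simp only [map_add, map_pow, hσu, hσ1]) <;> linear_combination (0) * hu + ((1)*u^2) * h2)
      (by (try simp only [map_add, map_pow, hσu, hσ1]) <;> linear_combination (0) * hu + (0) * h2)
      (by (try simp only [map_add, map_pow, hσu, hσ1]) <;> linear_combination (0) * hu + (0) * h2)]
    rw [X_vec, vec_congr (x' := 1 + u) (y' := u + u ^ 2) (z' := u)
      (by (try simp only [map_add, map_pow, hσu, hσ1]) <;> linear_combination (0) * hu + ((1)*u^2 + (1)*u^3 + (1)*u^4 + (1)*u^5) * h2)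
      (by (try simp only [map_add, map_pow, hσu, hσ1]) <;> linear_combination (0) * hu + ((-1)*u) * h2)
      (by (try simp only [map_add, map_pow, hσu, hσ1]) <;> linear_combination (0) * hu + (0) * h2)]
    rw [Y_vec, vec_congr (x' := 1 + u) (y' := u ^ 2 + u ^ 3) (z' := u + u ^ 5)
      (by (try simp only [map_add, map_pow, hσu, hσ1]) <;> linear_combination (0) * hu + (0) * h2)
      (by (try simp only [map_add, map_pow, hσu, hσ1]) <;> linear_combination (0) * hu + ((1)*u + (1)*u^2) * h2)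
      (by (try simp only [map_add, map_pow, hσu, hσ1]) <;> linear_combination ((-6) + (-1)*u + (-3)*u^2 + (-3)*u^3 + (-1)*u^5 + (-1)*u^6) * hu + ((-3) + (-1)*u^2 + (-5)*u^3 + (-1)*u^4 + (-3)*u^5) * h2)]
    rw [X_vec, vec_congr (x' := 1 + u ^ 2 + u ^ 3) (y' := u + u ^ 2 + u ^ 3 + u ^ 5) (z' := u + u ^ 5)
      (by (try simp only [map_add, map_pow, hσu, hσ1]) <;> linear_combination ((2) + (1)*u + (1)*u^2 + (1)*u^3) * hu + ((1) + (1)*u + (1)*u^2 + (2)*u^3 + (1)*u^4 + (1)*u^5) * h2)
      (by (try simp only [map_add, map_pow, hσu, hσ1]) <;> linear_combination (0) * hu + ((-1)*u + (-1)*u^5) * h2)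
      (by (try simp only [map_add, map_pow, hσu, hσ1]) <;> linear_combination (0) * hu + (0) * h2)]
    rw [Y_vec, vec_congr (x' := 1 + u ^ 2 + u ^ 3) (y' := 0) (z' := 0)
      (by (try simp only [map_add, map_pow, hσu, hσ1]) <;> linear_combination (0) * hu + (0) * h2)
      (by (try simp only [map_add, map_pow, hσu, hσ1]) <;> linear_combination (0) * hu + ((1)*u + (1)*u^2 + (1)*u^3 + (1)*u^4 + (1)*u^5) * h2)
      (by (try simp only [map_add, map_pow, hσu, hσ1]) <;> linear_combination ((-14) + (-8)*u + (-4)*u^2 + (-8)*u^3 + (-4)*u^4 + (-1)*u^5 + (-4)*u^6 + (-1)*u^7 + (-1)*u^9) * hu + ((-7) + (-3)*u + (-2)*u^2 + (-11)*u^3 + (-6)*u^4 + (-3)*u^5) * h2)]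

  · intro r k hr hk
    rw [hκ]
    have hk3 : (u + u ^ 5) ^ 3 = 1 + u + u ^ 2 + u ^ 4 := by
      linear_combination ((3) + (3)*u + (3)*u^2 + (2)*u^3 + (3)*u^5 + (1)*u^6 + (1)*u^9) * hu + ((1) + (1)*u + (1)*u^2 + (3)*u^3 + (1)*u^4 + (3)*u^5) * h2
    have hk7 : (u + u ^ 5) ^ 7 = u ^ 3 := by
      linear_combination ((504) + (414)*u + (342)*u^2 + (315)*u^3 + (252)*u^4 + (216)*u^5 + (189)*u^6 + (161)*u^7 + (126)*u^8 + (126)*u^9 + (91)*u^10 + (83)*u^11 + (63)*u^12 + (70)*u^13 + (43)*u^14 + (42)*u^15 + (21)*u^16 + (40)*u^17 + (21)*u^18 + (14)*u^19 + (3)*u^20 + (21)*u^21 + (7)*u^22 + (2)*u^23 + (7)*u^25 + (1)*u^26 + (1)*u^29) * hu + ((252) + (207)*u + (171)*u^2 + (409)*u^3 + (333)*u^4 + (279)*u^5) * h2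
    have h7 : (u + u ^ 5) ^ 7 ≠ 1 := by rw [hk7]; exact hu3
    have h3 : (u + u ^ 5) ^ 3 ≠ 1 := by
      rw [hk3]
      intro h0
      have hu0 : u ≠ 0 := by
        rintro rfl
        norm_num at hu9
      have h1 : u * (1 + u + u ^ 3) = 0 := by linear_combination h0
      have h4 : 1 + u + u ^ 3 = 0 := (mul_eq_zero.1 h1).resolve_left hu0
      have h5 : 1 + u + u ^ 2 = 0 := by
        linear_combination (u + u ^ 3) * h4 + (-1) * hu - (u ^ 3 + u ^ 4) * h2
      exact hs0 h5
    have h1 : u + u ^ 5 ≠ 1 := by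
      intro h0
      rw [h0, one_pow] at h7
      exact h7 rfl
    have hr8 : r ≤ 8 := by
      by_contra hcon
      have h10 : 9 ≤ r := by omega
      have h11 : 9 ^ 2 ≤ r ^ k := (Nat.pow_le_pow_left h10 2).trans (Nat.pow_le_pow_right (by omega) hk)
      rw [hr] at h11
      norm_num at h11
    have hr2 : 2 ≤ r := by
      by_contra hcon
      have h10 : r ≤ 1 := by omega
      have h11 : r ^ k ≤ 1 ^ k := Nat.pow_le_pow_left h10 k
      rw [hr] at h11
      norm_num at h11
    have hrd : r ∣ 64 := by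
      have : r ∣ r ^ k := dvd_pow_self r (by omega)
      rw [hr] at this
      exact this
    interval_cases r
    · simpa using h1
    · omega
    · exact h3
    · omega
    · omega
    · omega
    · exact h7

theorem case5 (hF : Fintype.card F = 5 ^ 2) : Concl F 5 := by
  obtain ⟨g, hg⟩ := exists_gen F hF
  norm_num at hg
  have h5 : (5 : F) = 0 := by
    have h1 : ((Fintype.card F : ℕ) : F) = 0 := Nat.cast_card_eq_zero F
    rw [hF] at h1
    norm_num at h1
    have h3 : (25 : F) = 5 ^ 2 := by norm_num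
    rw [h3] at h1
    exact pow_eq_zero_iff (by norm_num) |>.1 h1
  have h2 : (2 : F) ≠ 0 := by
    intro h
    have : (1 : F) = 0 := by linear_combination h5 - 2 * h
    exact one_ne_zero this
  have h3 : (3 : F) ≠ 0 := by
    intro h
    have : (1 : F) = 0 := by linear_combination 2 * h - h5
    exact one_ne_zero this
  obtain ⟨u, hu6, hu3, hu2⟩ : ∃ u : F, u ^ 6 = 1 ∧ u ^ 3 ≠ 1 ∧ u ^ 2 ≠ 1 := by
    refine ⟨((g ^ 4 : Fˣ) : F), ?_, ?_, ?_⟩
    · rw [← Units.val_pow_eq_pow_val, ← pow_mul, show 4 * 6 = 24 from rfl, ← hg, pow_orderOf_eq_one, Units.val_one]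
    · intro h
      have h1 : g ^ 12 = 1 := by
        apply Units.ext
        rw [Units.val_one, ← h, ← Units.val_pow_eq_pow_val, ← pow_mul]
      have h4 := orderOf_dvd_of_pow_eq_one h1
      rw [hg] at h4
      omega
    · intro h
      have h1 : g ^ 8 = 1 := by
        apply Units.ext
        rw [Units.val_one, ← h, ← Units.val_pow_eq_pow_val, ← pow_mul]
      have h4 := orderOf_dvd_of_pow_eq_one h1
      rw [hg] at h4
      omega
  have hu : u ^ 2 = u - 1 := by
    have h1 : (u ^ 3 - 1) * ((u + 1) * (u ^ 2 - u + 1)) = 0 := by linear_combination hu6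
    rcases mul_eq_zero.1 h1 with h | h
    · exact absurd (sub_eq_zero.1 h) hu3
    · rcases mul_eq_zero.1 h with h | h
      · exfalso
        apply hu2
        have : u = -1 := by linear_combination h
        rw [this]; norm_num
      · linear_combination h
  have hσu : frob hF u = 1 - u := by
    rw [frob_apply]
    linear_combination (u ^ 3 + u ^ 2 - 1) * hu
  have hσ1 : frob hF (1 : F) = 1 := map_one _
  have h : (3 + u) + frob hF (3 + u) + (1 - 2 * u) * frob hF (1 - 2 * u) = 0 := by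
    simp only [map_add, map_sub, map_mul, map_pow, map_ofNat, hσu, hσ1]
    linear_combination ((-4)) * hu + ((2)) * h5
  have h' : (1 - u) + frob hF (1 - u) + 2 * frob hF 2 = 0 := by
    simp only [map_add, map_sub, map_mul, map_pow, map_ofNat, hσu, hσ1]
    linear_combination (0) * hu + ((1)) * h5
  have hs0 : (3 - u) ≠ 0 := by
    intro h0
    have h1 : (3 - u) * (3 - (1 - u)) = 2 := by
      linear_combination ((-1)) * hu + ((1)) * h5
    rw [h0, zero_mul] at h1
    exact h2 h1.symm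
  have ha0 : (1 - 2 * u) ≠ 0 := by
    intro h0
    have h1 : (1 - 2 * u) * (1 - 2 * (1 - u)) = 3 := by
      linear_combination ((-4)) * hu + (0) * h5
    rw [h0, zero_mul] at h1
    exact h3 h1.symm
  have hl0 : 1 + 2 * u ≠ 0 := by
    intro h0
    have h1 : (1 + 2 * u) * (3 - 2 * u) = 2 := by
      linear_combination ((-4)) * hu + ((1)) * h5
    rw [h0, zero_mul] at h1
    exact h2 h1.symm
  have hκ : (1 + 2 * u) ^ 2 * (frob hF (1 + 2 * u))⁻¹ = 3 - u := by
    have h1 : frob hF (1 + 2 * u) ≠ 0 := (map_ne_zero _).2 hl0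
    rw [mul_inv_eq_iff_eq_mul₀ h1]
    simp only [map_add, map_sub, map_mul, map_pow, map_ofNat, hσu, hσ1]
    linear_combination ((2)) * hu + ((-2) + (3)*u) * h5
  have hX := Subgroup.subset_closure (G := UJ (frob hF)) (k := {X (frob_frob hF) _ _ h, Y (frob_frob hF) _ _ h'}) (Set.mem_insert _ _)
  have hY := Subgroup.subset_closure (G := UJ (frob hF)) (k := {X (frob_frob hF) _ _ h, Y (frob_frob hF) _ _ h'}) (Set.mem_insert_of_mem _ rfl)
  refine final hF (by norm_num) h ha0 h' h2 hs0 ?_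
    (mul_mem hY (mul_mem hX (mul_mem hY hY))) (l := 1 + 2 * u) ?_ ?_ hl0
  · rw [mul_assoc, mul_comm (((3 - u) ^ 2)⁻¹), ← mul_assoc, eq_mul_inv_iff_mul_eq₀ (pow_ne_zero 2 hs0)]
    simp only [map_add, map_sub, map_mul, map_pow, map_ofNat, hσu, hσ1]
    linear_combination (0) * hu + ((4) + (-3)*u) * h5
  · simp only [mx_mul, ← mulVec_mulVec]
    rw [Y_vec, vec_congr (x' := 1) (y' := 2) (z' := 1 - u)
      (by (try simp only [map_add, map_sub, map_mul, map_pow, map_ofNat, hσu, hσ1]) <;> linear_combination (0) * hu + (0) * h5)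
      (by (try simp only [map_add, map_sub, map_mul, map_pow, map_ofNat, hσu, hσ1]) <;> linear_combination (0) * hu + (0) * h5)
      (by (try simp only [map_add, map_sub, map_mul, map_pow, map_ofNat, hσu, hσ1]) <;> linear_combination (0) * hu + (0) * h5)]
    rw [Y_vec, vec_congr (x' := 1) (y' := 4) (z' := 3 - 2 * u)
      (by (try simp only [map_add, map_sub, map_mul, map_pow, map_ofNat, hσu, hσ1]) <;> linear_combination (0) * hu + (0) * h5)
      (by (try simp only [map_add, map_sub, map_mul, map_pow, map_ofNat, hσu, hσ1]) <;> linear_combination (0) * hu + (0) * h5)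
      (by (try simp only [map_add, map_sub, map_mul, map_pow, map_ofNat, hσu, hσ1]) <;> linear_combination (0) * hu + ((-1)) * h5)]
    rw [X_vec, vec_congr (x' := 1 + 2 * u) (y' := -2 - 4 * u) (z' := 3 - 2 * u)
      (by (try simp only [map_add, map_sub, map_mul, map_pow, map_ofNat, hσu, hσ1]) <;> linear_combination ((-2)) * hu + ((3) + (-3)*u) * h5)
      (by (try simp only [map_add, map_sub, map_mul, map_pow, map_ofNat, hσu, hσ1]) <;> linear_combination ((4)) * hu + ((1)) * h5)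
      (by (try simp only [map_add, map_sub, map_mul, map_pow, map_ofNat, hσu, hσ1]) <;> linear_combination (0) * hu + (0) * h5)]
    rw [Y_vec, vec_congr (x' := 1 + 2 * u) (y' := 0) (z' := 0)
      (by (try simp only [map_add, map_sub, map_mul, map_pow, map_ofNat, hσu, hσ1]) <;> linear_combination (0) * hu + (0) * h5)
      (by (try simp only [map_add, map_sub, map_mul, map_pow, map_ofNat, hσu, hσ1]) <;> linear_combination (0) * hu + (0) * h5)
      (by (try simp only [map_add, map_sub, map_mul, map_pow, map_ofNat, hσu, hσ1]) <;> linear_combination ((-2)) * hu + ((2) + (1)*u) * h5)]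

  · intro r k hr hk
    rw [hκ]
    have hk4 : (3 - u) ^ 4 = -1 := by
      linear_combination ((42) + (-11)*u + (1)*u^2) * hu + ((8) + (-11)*u) * h5
    have hr5 : r ≤ 5 := by
      by_contra hcon
      have h10 : 6 ≤ r := by omega
      have h11 : 6 ^ 2 ≤ r ^ k := (Nat.pow_le_pow_left h10 2).trans (Nat.pow_le_pow_right (by omega) hk)
      rw [hr] at h11
      norm_num at h11
    have hr2 : 2 ≤ r := by
      by_contra hcon
      have h10 : r ≤ 1 := by omega
      have h11 : r ^ k ≤ 1 ^ k := Nat.pow_le_pow_left h10 k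
      rw [hr] at h11
      norm_num at h11
    have hrd : r ∣ 25 := by
      have : r ∣ r ^ k := dvd_pow_self r (by omega)
      rw [hr] at this
      exact this
    interval_cases r
    · omega
    · omega
    · omega
    · intro h0
      have h0' : (3 - u) ^ 4 = 1 := h0
      rw [hk4] at h0'
      apply h2
      linear_combination (-1) * h0'

/-- arithmetic -/
theorem arith {q r k : ℕ} (hq : 3 ≤ q) (h5 : q ≠ 5) (h8 : q ≠ 8) (h : r ^ k = q ^ 2) (hk : 2 ≤ k)
    (hd : (q + 1) ∣ 3 * (r - 1)) : False := by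
  have hr2 : 2 ≤ r := by
    by_contra hcon
    have h10 : r ≤ 1 := by omega
    have h11 : r ^ k ≤ 1 ^ k := Nat.pow_le_pow_left h10 k
    rw [h, one_pow] at h11
    nlinarith
  rcases Nat.lt_or_ge k 3 with hk3 | hk3
  · have hk2 : k = 2 := by omega
    subst hk2
    have hrq : r = q := Nat.pow_left_injective (n := 2) (by norm_num) h
    subst hrq
    have h1 : (r + 1) ∣ 3 * (r + 1) - 3 * (r - 1) := Nat.dvd_sub (Dvd.intro_left 3 rfl) hd
    have h2 : 3 * (r + 1) - 3 * (r - 1) = 6 := by omega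
    rw [h2] at h1
    have h3 := Nat.le_of_dvd (by norm_num) h1
    have h4 : r = 3 ∨ r = 4 := by omega
    rcases h4 with rfl | rfl <;> omega
  · have h1 : r ^ 3 ≤ q ^ 2 := by
      rw [← h]; exact Nat.pow_le_pow_right (by omega) hk3
    have h2 : q + 1 ≤ 3 * (r - 1) := Nat.le_of_dvd (by omega) hd
    have h3 : q + 4 ≤ 3 * r := by omega
    have h4 : r ≤ 8 := by
      by_contra hcon
      have h9 : 9 ≤ r := by omega
      have h10 : q ^ 2 < (3 * r) ^ 2 := Nat.pow_lt_pow_left (by omega) two_ne_zero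
      have h11 : 9 * r ^ 2 ≤ r * r ^ 2 := Nat.mul_le_mul_right _ h9
      have h12 : r * r ^ 2 = r ^ 3 := by ring
      have h13 : (3 * r) ^ 2 = 9 * r ^ 2 := by ring
      omega
    interval_cases r
    · have : q ≤ 2 := by omega
      omega
    · have : q ≤ 5 := by omega
      interval_cases q <;> omega
    · have : q ≤ 8 := by omega
      interval_cases q <;> omega
    · have : q ≤ 11 := by omega
      interval_cases q <;> omega
    · have : q ≤ 14 := by omega
      interval_cases q <;> omega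
    · have : q ≤ 17 := by omega
      interval_cases q <;> omega
    · have : q ≤ 20 := by omega
      interval_cases q <;> omega

theorem caseGen {q : ℕ} (hq : 3 ≤ q) (h5 : q ≠ 5) (h8 : q ≠ 8) (hF : Fintype.card F = q ^ 2) : Concl F q := by
  obtain ⟨g, hg⟩ := exists_gen F hF
  have hpow : ∀ m : ℕ, (g : F) ^ m = 1 → (q + 1) * (q - 1) ∣ m := by
    intro m hm
    have h1 : g ^ m = 1 := Units.ext (by rw [Units.val_pow_eq_pow_val, hm, Units.val_one])
    have h2 := orderOf_dvd_of_pow_eq_one h1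
    rwa [hg, sq_sub_one] at h2
  set d : F := (g : F) with hd
  have hd0 : d ≠ 0 := g.ne_zero
  set e : F := frob hF d with he
  have he0 : e ≠ 0 := (map_ne_zero _).2 hd0
  have hσe : frob hF e = d := frob_frob hF d
  have hT : d + e ≠ 0 := by
    intro h0
    have h1 : e = -d := by linear_combination h0
    rw [he, frob_apply] at h1
    have h2 : d ^ (2 * (q - 1)) = 1 := by
      have h3 : d * d ^ (q - 1) = d * (-1) := by
        rw [← pow_succ', show q - 1 + 1 = q by omega, h1]; ring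
      have h4 := mul_left_cancel₀ hd0 h3
      rw [mul_comm 2, pow_mul, h4]; norm_num
    have h3 := hpow _ h2
    have h4 : (q + 1) ∣ 2 := Nat.dvd_of_mul_dvd_mul_right (by omega) h3
    have h5 := Nat.le_of_dvd (by norm_num) h4
    omega
  obtain ⟨c, hc⟩ := exists_norm hF (c := -(d + e)) (by
    rw [← frob_apply hF, map_neg, map_add, hσe, ← he, add_comm])
  set f : F := frob hF c with hf
  have hcf : c * f = -(d + e) := by rw [hf, frob_apply, ← pow_succ', hc]
  have hσf : frob hF f = c := frob_frob hF c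
  have hc0 : c ≠ 0 := by
    rintro h0
    rw [h0, zero_mul] at hcf
    exact hT (neg_eq_zero.1 hcf.symm)
  have hf0 : f ≠ 0 := (map_ne_zero _).2 hc0
  have h : (2 * d ^ 2 + d * e + e ^ 2) * (d ^ 2 * e)⁻¹ + frob hF ((2 * d ^ 2 + d * e + e ^ 2) * (d ^ 2 * e)⁻¹) +
      (-(f ^ 2 * c * (d * e)⁻¹)) * frob hF (-(f ^ 2 * c * (d * e)⁻¹)) = 0 := by
    simp only [map_add, map_mul, map_pow, map_ofNat, map_inv₀, map_neg, ← he, ← hf, hσe, hσf]
    field_simp
    linear_combination ((c * f) ^ 2 - (c * f) * (d + e) + (d + e) ^ 2) * hcf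
  have h' : d + frob hF d + c * frob hF c = 0 := by
    rw [← he, ← hf, hcf]; ring
  have ha0 : -(f ^ 2 * c * (d * e)⁻¹) ≠ 0 :=
    neg_ne_zero.2 (mul_ne_zero (mul_ne_zero (pow_ne_zero 2 hf0) hc0) (inv_ne_zero (mul_ne_zero hd0 he0)))
  have hs0 : (d + e) * (d * e)⁻¹ ≠ 0 := mul_ne_zero hT (inv_ne_zero (mul_ne_zero hd0 he0))
  have hX := Subgroup.subset_closure (G := UJ (frob hF)) (k := {X (frob_frob hF) _ _ h, Y (frob_frob hF) _ _ h'}) (Set.mem_insert _ _)
  have hY := Subgroup.subset_closure (G := UJ (frob hF)) (k := {X (frob_frob hF) _ _ h, Y (frob_frob hF) _ _ h'}) (Set.mem_insert_of_mem _ rfl)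
  have hl0 : d * e⁻¹ ≠ 0 := mul_ne_zero hd0 (inv_ne_zero he0)
  refine final hF hq h ha0 h' hc0 hs0 ?_ (mul_mem hY (mul_mem hX hY)) (l := d * e⁻¹) ?_ ?_ hl0
  · simp only [map_add, map_mul, map_pow, map_ofNat, map_inv₀, map_neg, ← he, ← hf, hσe, hσf]
    have hT' : e + d ≠ 0 := by rwa [add_comm]
    field_simp
    linear_combination (d + e) * hcf
  · simp only [mx_mul, ← mulVec_mulVec]
    rw [Y_vec, X_vec, Y_vec]
    simp only [map_add, map_mul, map_pow, map_ofNat, map_inv₀, map_neg, ← he, ← hf, hσe, hσf]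
    apply vec_congr
    · field_simp
      linear_combination (-d * (c * f - (d + e))) * hcf
    · field_simp
      linear_combination (c * d * (-(c * f - (d + e)) + d)) * hcf
    · field_simp
      linear_combination (d * (-2 * c * f + 2 * d + e)) * hcf
  · intro r k hr hk h0
    simp only [map_mul, map_inv₀, ← he, hσe] at h0
    apply arith hq h5 h8 hr hk
    have h1 : d ^ (3 * (r - 1)) = e ^ (3 * (r - 1)) := by
      have h2 : (d * e⁻¹) ^ 2 * (e * d⁻¹)⁻¹ = d ^ 3 * (e ^ 3)⁻¹ := by field_simp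
      rw [h2, mul_pow, inv_pow, ← pow_mul, ← pow_mul, mul_inv_eq_one₀ (pow_ne_zero _ he0)] at h0
      exact h0
    have h2 : d ^ (3 * (r - 1) * (q - 1)) = 1 := by
      rw [he, frob_apply, ← pow_mul] at h1
      have h3 : d ^ (3 * (r - 1)) * d ^ (3 * (r - 1) * (q - 1)) = d ^ (3 * (r - 1)) * 1 := by
        rw [← pow_add, mul_one, h1]
        congr 1
        obtain ⟨q', rfl⟩ : ∃ q', q = q' + 1 := ⟨q - 1, by omega⟩
        simp only [Nat.add_sub_cancel]
        ring
      exact mul_left_cancel₀ (pow_ne_zero _ hd0) h3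
    have h3 := hpow _ h2
    exact Nat.dvd_of_mul_dvd_mul_right (by omega) h3

theorem main {q : ℕ} (hq : 3 ≤ q) (hF : Fintype.card F = q ^ 2) : Concl F q := by
  by_cases h5 : q = 5
  · subst h5; exact case5 hF
  by_cases h8 : q = 8
  · subst h8; exact case8 hF
  exact caseGen hq h5 h8 hF


end cases

end Cfsg.Agent.Lib.SU3Gen
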