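import Cfsg.Agent.Lib.UGenC
import Cfsg.Agent.Lib.UnSpec
import Cfsg.Agent.Lib.ClUnSimple
import Cfsg.Agent.S2283

/-! Two-generation of `PSU_n(q)` (helper38). -/

set_option autoImplicit false
set_option linter.unusedSectionVars false
set_option linter.unusedSimpArgs false

namespace Cfsg.Agent.Lib.UGen

open Module Cfsg Cfsg.Agent.Lib.UnTrans Cfsg.Agent.Lib.PresBC Cfsg.Agent.Lib.PresSpMod Cfsg.Agent.Lib.UnBridge Cfsg.Agent.Lib.ClUnSimple
open Cfsg.Agent.Lib.SpTrans (isom mem_isom)
open Cfsg.Agent.Lib.ClUnitary (frob frob_frob)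
open Cfsg.Agent.Lib.HermAlg (IsHerm)

section model
variable {F : Type*} [Field F] {k r : ℕ} (σ : F →+* F)

/-- the model form -/
def mB (k r : ℕ) (x y : Zs k ⊕ Fin r → F) : F := ∑ a : Zs k, x (Sum.inl a) * σ (y (Sum.inl (ng a))) + ∑ j : Fin r, x (Sum.inr j) * σ (y (Sum.inr j))

theorem mB_single (a : Zs k) (x : Zs k ⊕ Fin r → F) : mB σ k r x (Pi.single (Sum.inl a) 1) = x (Sum.inl (ng a)) := by
  classical
  unfold mB
  rw [Finset.sum_eq_single (ng a), Finset.sum_eq_zero, add_zero, ng_ng, Pi.single_eq_same, map_one, mul_one]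
  · intro j _
    rw [Pi.single_eq_of_ne (by simp), map_zero, mul_zero]
  · intro b _ hb
    rw [Pi.single_eq_of_ne, map_zero, mul_zero]
    intro h
    apply hb
    rw [← Sum.inl_injective h, ng_ng]
  · intro h; exact absurd (Finset.mem_univ _) h

theorem mB_single' (j : Fin r) (x : Zs k ⊕ Fin r → F) : mB σ k r x (Pi.single (Sum.inr j) 1) = x (Sum.inr j) := by
  classical
  unfold mB
  rw [Finset.sum_eq_zero, zero_add, Finset.sum_eq_single j, Pi.single_eq_same, map_one, mul_one]
  · intro b _ hb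
    rw [Pi.single_eq_of_ne, map_zero, mul_zero]
    intro h
    exact hb (Sum.inr_injective h)
  · intro h; exact absurd (Finset.mem_univ _) h
  · intro a _
    rw [Pi.single_eq_of_ne (by simp), map_zero, mul_zero]

theorem mB_symm (hinv : ∀ a, σ (σ a) = a) (x y : Zs k ⊕ Fin r → F) : mB σ k r x y = σ (mB σ k r y x) := by
  unfold mB
  rw [map_add, map_sum, map_sum]
  congr 1
  · let e : Zs k ≃ Zs k := ⟨ng, ng, ng_ng, ng_ng⟩
    rw [← Equiv.sum_comp e]
    refine Finset.sum_congr rfl fun a _ => ?_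
    change x (Sum.inl (ng a)) * σ (y (Sum.inl (ng (ng a)))) = _
    rw [ng_ng, map_mul, hinv, mul_comm]
  · refine Finset.sum_congr rfl fun a _ => ?_
    rw [map_mul, hinv, mul_comm]

theorem mB_herm (hinv : ∀ a, σ (σ a) = a) : IsHerm σ 1 (mB σ k r) where
  add_left x y z := by
    unfold mB
    simp only [Pi.add_apply, add_mul, Finset.sum_add_distrib]
    ring
  smul_left c x y := by
    unfold mB
    simp only [Pi.smul_apply, smul_eq_mul, mul_assoc, ← Finset.mul_sum]
    ring
  symm x y := by rw [one_mul]; exact mB_symm σ hinv y x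
  nondeg x hx := by
    funext i
    rcases i with a | j
    · have := hx (Pi.single (Sum.inl (ng a)) 1)
      rwa [mB_single, ng_ng] at this
    · have := hx (Pi.single (Sum.inr j) 1)
      rwa [mB_single'] at this

end model

section main
variable {F : Type*} [Field F] [Fintype F] {q n k : ℕ}

theorem exists_frame (hF : Fintype.card F = q ^ 2) {r : ℕ} (hn : n = 2 * k + r) : ∃ (vl : Zs k → (Fin n → F)) (z : Fin r → (Fin n → F)),
    Fr (hermForm n F q) vl ∧ (∀ j, Wp (hermForm n F q) vl (z j)) ∧ (∀ j, hermForm n F q (z j) (z j) = 1) ∧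
    ∀ x, Wp (hermForm n F q) vl x → ∃ c : Fin r → F, x = ∑ j, c j • z j := by
  obtain ⟨ψ, hψ⟩ := UnSpec.exists_standard hF n (mB_herm (k := k) (r := r) (frob hF) (frob_frob hF)) (by
    rw [Module.finrank_pi, Fintype.card_sum, Fintype.card_sum, Fintype.card_fin, Fintype.card_fin, hn]; ring)
  refine ⟨fun a => ψ (Pi.single (Sum.inl a) 1), fun j => ψ (Pi.single (Sum.inr j) 1), ?_, ?_, ?_, ?_⟩
  · intro a b
    rw [hψ, mB_single, Pi.single_apply]
    by_cases h : b = ng a
    · rw [if_pos h, if_pos (by rw [h, ng_ng])]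
    · rw [if_neg h, if_neg (fun h1 => h (by rw [← Sum.inl_injective h1, ng_ng]))]
  · intro j a
    rw [hψ, mB_single, Pi.single_eq_of_ne (by simp)]
  · intro j
    rw [hψ, mB_single', Pi.single_eq_same]
  · intro x hx
    obtain ⟨y, rfl⟩ := ψ.surjective x
    refine ⟨fun j => y (Sum.inr j), ?_⟩
    have h1 : y = ∑ j, y (Sum.inr j) • (Pi.single (Sum.inr j) 1 : Zs k ⊕ Fin r → F) := by
      funext i
      rw [Finset.sum_apply]
      rcases i with a | i
      · rw [Finset.sum_eq_zero]
        · have := hx (ng a)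
          rw [hψ, mB_single, ng_ng] at this
          exact this
        · intro j _
          rw [Pi.smul_apply, Pi.single_eq_of_ne (by simp), smul_zero]
      · rw [Finset.sum_eq_single i]
        · rw [Pi.smul_apply, Pi.single_eq_same, smul_eq_mul, mul_one]
        · intro j _ hj
          rw [Pi.smul_apply, Pi.single_eq_of_ne (fun h2 => hj (Sum.inr_injective h2).symm), smul_zero]
        · intro h2; exact absurd (Finset.mem_univ _) h2
    conv_lhs => rw [h1]
    rw [map_sum]
    exact Finset.sum_congr rfl fun j _ => by rw [map_smul]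

theorem two_gen_SUg (hF : Fintype.card F = q ^ 2) (hn : 4 ≤ n) : ∃ a b : SUg n F q, Subgroup.closure {a, b} = ⊤ := by
  have H := herm_HS n hF
  have key : ∃ a b, a ∈ SI (hermForm n F q) ∧ b ∈ SI (hermForm n F q) ∧ tgrp H ⊤ ≤ Subgroup.closure {a, b} := by
    rcases Nat.even_or_odd' n with ⟨k, hk | hk⟩
    · obtain ⟨vl, z, h, h1, h2, h3⟩ := exists_frame (n := n) (r := 0) (k := k) hF (by omega)
      refine gen_even H h (by omega) (fun x hx => ?_)
      obtain ⟨c, hc⟩ := h3 x hx
      rw [hc]; simp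
    · obtain ⟨vl, z, h, h1, h2, h3⟩ := exists_frame (r := 1) (k := k) hF hk
      refine gen_odd H h (by omega) (h1 0) (h2 0) (fun x hx => ?_)
      obtain ⟨c, hc⟩ := h3 x hx
      exact ⟨c 0, by rw [hc]; simp⟩
  obtain ⟨a, b, ha, hb, hab⟩ := key
  refine ⟨⟨a, ha⟩, ⟨b, hb⟩, ?_⟩
  rw [eq_top_iff]
  intro x _
  have h1 : (x : (Fin n → F) ≃ₗ[F] (Fin n → F)) ∈ Subgroup.closure {a, b} :=
    hab (su_le H (herm_nd n hF) (by rw [Module.finrank_fin_fun]; exact hn) x.2.1 x.2.2)
  have h2 : (x : (Fin n → F) ≃ₗ[F] (Fin n → F)) ∈ (Subgroup.closure {(⟨a, ha⟩ : SUg n F q), ⟨b, hb⟩}).map (SUg n F q).subtype := by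
    rw [MonoidHom.map_closure, Set.image_pair]
    exact h1
  obtain ⟨y, hy, hxy⟩ := h2
  have : y = x := Subtype.ext hxy
  rwa [this] at hy

theorem two_gen_PSU (hF : Fintype.card F = q ^ 2) (hn : 3 ≤ n) (h32 : n = 3 → q ≠ 2) :
    ∃ a b : Cfsg.PSU n F q, Subgroup.closure ({a, b} : Set (Cfsg.PSU n F q)) = ⊤ := by
  have key : ∃ a b : SU n F q, Subgroup.closure {a, b} = ⊤ := by
    by_cases h4 : 4 ≤ n
    · obtain ⟨a, b, hab⟩ := two_gen_SUg hF h4
      refine ⟨(suIso n F q).symm a, (suIso n F q).symm b, ?_⟩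
      have h1 : (Subgroup.closure {a, b}).map (suIso n F q).symm.toMonoidHom = ⊤ := by
        rw [hab, ← MonoidHom.range_eq_map, MonoidHom.range_eq_top]; exact (suIso n F q).symm.surjective
      rw [← h1, MonoidHom.map_closure, Set.image_pair]
      rfl
    · obtain rfl : n = 3 := by omega
      have hq := one_lt_q hF
      have hq2 := h32 rfl
      obtain ⟨u, g, -, h⟩ := Cfsg.Agent.S2283.result q (by omega) hF
      exact ⟨u, g * u * g⁻¹, h⟩
  obtain ⟨a, b, hab⟩ := key
  let f : SU n F q →* Cfsg.PSU n F q := QuotientGroup.mk' _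
  have hf : Function.Surjective f := QuotientGroup.mk'_surjective _
  refine ⟨f a, f b, ?_⟩
  have h1 : (Subgroup.closure {a, b}).map f = ⊤ := by
    rw [hab, ← MonoidHom.range_eq_map, MonoidHom.range_eq_top]; exact hf
  rw [← h1, MonoidHom.map_closure, Set.image_pair]

end main

end Cfsg.Agent.Lib.UGen
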