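import Cfsg.Agent.Lib.PresUE
import Cfsg.Agent.Lib.PresU3I
import Cfsg.Agent.Lib.UGenD

/-! `PSU_n(q)` has a presentation with two generators and at most 80 relations (modulo `SU_n(2)`, `SU_n(3)`, `n ≥ 4`) (helper18). -/

set_option autoImplicit false

namespace Cfsg.Agent.Lib.PresUTwo

open Cfsg Cfsg.Agent.Lib.PresHas Cfsg.Agent.Lib.PresU

variable {F : Type*} [Field F] [Fintype F] {q : ℕ}

theorem two_of (hF : Fintype.card F = q ^ 2) {n m r : ℕ} (hn : 3 ≤ n) (h32 : n = 3 → q ≠ 2) (hm : 0 < m) (hr : r ≤ 77)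
    (h : HasPres (SU n F q) m r) : HasPres (PSU n F q) 2 80 := by
  obtain ⟨a, b, hab⟩ := Cfsg.Agent.Lib.UGen.two_gen_PSU hF hn h32
  have h1 := (pres_psu hF (by omega) h).two hm ![a, b] (by rw [range_pair, hab])
  exact h1.mono (by omega)

theorem psu_two (hF : Fintype.card F = q ^ 2) {n : ℕ} (hn : 3 ≤ n) (h32 : ¬ (n = 3 ∧ q = 2))
    (h23 : 4 ≤ n → q = 2 ∨ q = 3 → HasPres (SU n F q) 6 39) : HasPres (PSU n F q) 2 80 := by
  have h32' : n = 3 → q ≠ 2 := fun h h' => h32 ⟨h, h'⟩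
  have hq2 : 2 ≤ q := by
    by_contra hlt
    have h1 := Fintype.one_lt_card (α := F)
    have : q = 0 ∨ q = 1 := by omega
    rcases this with rfl | rfl <;> simp at hF <;> omega
  rcases Nat.lt_or_ge n 4 with h | h
  · obtain rfl : n = 3 := by omega
    have h3 : 3 ≤ q := by have := h32' rfl; omega
    exact two_of hF (by norm_num) h32' (by norm_num) (by norm_num) (Cfsg.Agent.Lib.PresU3I.pres_SU3 hF h3)
  · rcases Nat.lt_or_ge q 4 with h4 | h4
    · exact two_of hF hn h32' (by norm_num) (by norm_num) (h23 h (by omega))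
    · exact two_of hF hn h32' (by norm_num) (by norm_num) (pres_sun hF h4 (Cfsg.Agent.Lib.PresU3I.pres_SU3 hF (by omega)) n h)

end Cfsg.Agent.Lib.PresUTwo
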