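import Cfsg.Agent.Lib.PresUZa
import Cfsg.Agent.Lib.PresUTwo

/-! Presentations of `SU_n(q)` and `PSU_n(q)`, `n ≥ 4` (helper38). -/

set_option autoImplicit false
set_option linter.unusedSectionVars false

namespace Cfsg.Agent.Lib.PresU

open Cfsg Cfsg.Agent.Lib.PresHas

variable {F : Type*} [Field F] [Fintype F] {q : ℕ}

theorem two_le (hF : Fintype.card F = q ^ 2) : 2 ≤ q := by
  by_contra hlt
  have h1 := Fintype.one_lt_card (α := F)
  have : q = 0 ∨ q = 1 := by omega
  rcases this with rfl | rfl <;> simp at hF <;> omega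

theorem all_su4 (hF : Fintype.card F = q ^ 2) : HasPres (SU 4 F q) 6 35 := by
  have h2 := two_le hF
  rcases (show q = 2 ∨ q = 3 ∨ 4 ≤ q by omega) with rfl | rfl | h4
  · exact ((T2.hasPres2 hF 0).pad (by norm_num) 2).mono (by norm_num)
  · exact pres3_4 hF
  · exact (pres_su4 hF h4 (Cfsg.Agent.Lib.PresU3I.pres_SU3 hF (by omega))).mono (by norm_num)

theorem all_su5 (hF : Fintype.card F = q ^ 2) : HasPres (SU 5 F q) 6 35 := by
  have h2 := two_le hF
  rcases (show q = 2 ∨ q = 3 ∨ 4 ≤ q by omega) with rfl | rfl | h4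
  · exact ((T2.hasPres2 hF 1).pad (by norm_num) 2).mono (by norm_num)
  · exact pres3_5 hF
  · exact (pres_su5 hF h4 (Cfsg.Agent.Lib.PresU3I.pres_SU3 hF (by omega))).mono (by norm_num)

theorem all_sun (hF : Fintype.card F = q ^ 2) (n : ℕ) (hn : 4 ≤ n) : HasPres (SU n F q) 6 39 := by
  have h2 := two_le hF
  rcases (show q = 2 ∨ q = 3 ∨ 4 ≤ q by omega) with rfl | rfl | h4
  · obtain ⟨N, rfl⟩ : ∃ N, n = N + 4 := ⟨n - 4, by omega⟩
    refine ((T2.hasPres2 hF N).pad (by norm_num) 2).mono ?_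
    split_ifs <;> norm_num
  · exact (pres3_n hF n hn).mono (by norm_num)
  · exact (pres_sun hF h4 (Cfsg.Agent.Lib.PresU3I.pres_SU3 hF (by omega)) n hn).mono (by norm_num)

end Cfsg.Agent.Lib.PresU
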