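import Mathlib.GroupTheory.SemidirectProduct
import Mathlib.GroupTheory.OrderOfElement
import Mathlib.GroupTheory.PGroup
import Mathlib.GroupTheory.Perm.Cycle.Type
import Mathlib.Algebra.Group.Action.End
import Mathlib.Algebra.Group.Shrink
import Mathlib.Tactic

/-! Groups of unbounded order with the prime graph of a given group `K`: extensions by modules
on which the relevant elements act fixed-point-freely. -/

set_option autoImplicit false

namespace Cfsg.Agent.Lib.PrimeGraphExt

open SemidirectProduct

/-- `K` and `H` have the same prime graph. -/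
def SameGraph (K H : Type*) [Group K] [Group H] : Prop :=
  (∀ r : ℕ, r.Prime → (r ∣ Nat.card K ↔ r ∣ Nat.card H)) ∧
    (∀ r s : ℕ, r.Prime → s.Prime → r ≠ s → ((∃ x : K, orderOf x = r * s) ↔ (∃ y : H, orderOf y = r * s)))

lemma SameGraph.refl (K : Type*) [Group K] : SameGraph K K := ⟨fun _ _ => Iff.rfl, fun _ _ _ _ _ => Iff.rfl⟩

lemma SameGraph.symm {K H : Type*} [Group K] [Group H] (h : SameGraph K H) : SameGraph H K :=
  ⟨fun r hr => (h.1 r hr).symm, fun r s hr hs hrs => (h.2 r s hr hs hrs).symm⟩

lemma SameGraph.trans {K H L : Type*} [Group K] [Group H] [Group L] (h : SameGraph K H) (h' : SameGraph H L) :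
    SameGraph K L :=
  ⟨fun r hr => (h.1 r hr).trans (h'.1 r hr), fun r s hr hs hrs => (h.2 r s hr hs hrs).trans (h'.2 r s hr hs hrs)⟩

lemma SameGraph.of_mulEquiv {K H : Type*} [Group K] [Group H] (e : K ≃* H) : SameGraph K H := by
  refine ⟨fun r _ => by rw [Nat.card_congr e.toEquiv], fun r s _ _ _ => ⟨?_, ?_⟩⟩
  · rintro ⟨x, hx⟩; exact ⟨e x, by rw [MulEquiv.orderOf_eq, hx]⟩
  · rintro ⟨x, hx⟩; exact ⟨e.symm x, by rw [MulEquiv.orderOf_eq, hx]⟩

/-- a finite group is isomorphic to a group in `Type`. -/
lemma exists_type_zero (K : Type*) [Group K] [Finite K] :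
    ∃ (K' : Type) (_ : Group K') (_ : Finite K'), Nonempty (K ≃* K') := by
  have : Small.{0} K := inferInstance
  have hf : Finite (Shrink.{0} K) := Finite.of_equiv K (equivShrink.{0} K)
  exact ⟨Shrink.{0} K, inferInstance, hf, ⟨(Shrink.mulEquiv (α := K)).symm⟩⟩

theorem sameGraph_semidirect {K M : Type*} [Group K] [Finite K] [CommGroup M] [Finite M] (φ : K →* MulAut M)
    (p : ℕ) (hp : p.Prime) (hM : ∀ m : M, m ^ p = 1) (hpK : p ∣ Nat.card K)
    (hfix : ∀ r : ℕ, r.Prime → r ≠ p → (∃ g : K, orderOf g = p * r) ∨
      ∀ g : K, orderOf g = r → ∀ m : M, φ g m = m → m = 1) :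
    SameGraph K (M ⋊[φ] K) := by
  have hfp : Fact p.Prime := ⟨hp⟩
  constructor
  · intro r hr
    rw [SemidirectProduct.card]
    constructor
    · intro h; exact Dvd.dvd.mul_left h _
    · intro h
      rcases (Nat.Prime.dvd_mul hr).mp h with h | h
      · have hfr : Fact r.Prime := ⟨hr⟩
        obtain ⟨x, hx⟩ := exists_prime_orderOf_dvd_card' (G := M) r h
        have h3 := orderOf_dvd_of_pow_eq_one (hM x)
        rw [hx, Nat.prime_dvd_prime_iff_eq hr hp] at h3
        rw [h3]; exact hpK
      · exact h
  · intro r s hr hs hrs
    constructor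
    · rintro ⟨x, hx⟩
      exact ⟨inr x, by rw [orderOf_injective _ inr_injective, hx]⟩
    · rintro ⟨y, hy⟩
      -- order of the image
      set k : K := rightHom y with hk
      have hdvd : orderOf k ∣ orderOf y := orderOf_map_dvd _ y
      have hpow : (y ^ orderOf k) ^ p = 1 := by
        have hker : y ^ orderOf k ∈ (rightHom : M ⋊[φ] K →* K).ker := by
          rw [MonoidHom.mem_ker, map_pow, ← hk, pow_orderOf_eq_one]
        rw [← range_inl_eq_ker_rightHom] at hker
        obtain ⟨m, hm⟩ := hker
        rw [← hm, ← map_pow, hM, map_one]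
      by_cases hone : y ^ orderOf k = 1
      · refine ⟨k, ?_⟩
        rw [← hy]
        exact Nat.dvd_antisymm hdvd (orderOf_dvd_of_pow_eq_one hone)
      · have hord : orderOf (y ^ orderOf k) = p := orderOf_eq_prime hpow hone
        have hy' : orderOf y = orderOf k * p := by
          have hkpos : orderOf k ≠ 0 := (orderOf_pos k).ne'
          have := orderOf_pow_of_dvd hkpos hdvd
          rw [hord] at this
          rw [this, Nat.mul_div_cancel' hdvd]
        -- WLOG p = r or p = s
        have hps : p = r ∨ p = s := by
          have : p ∣ r * s := by rw [← hy, hy']; exact dvd_mul_left _ _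
          rcases (Nat.Prime.dvd_mul hp).mp this with h | h
          · left; exact (Nat.prime_dvd_prime_iff_eq hp hr).mp h
          · right; exact (Nat.prime_dvd_prime_iff_eq hp hs).mp h
        -- the fixed vector
        have hker : y ^ orderOf k ∈ (rightHom : M ⋊[φ] K →* K).ker := by
          rw [MonoidHom.mem_ker, map_pow, ← hk, pow_orderOf_eq_one]
        rw [← range_inl_eq_ker_rightHom] at hker
        obtain ⟨m, hm⟩ := hker
        have hm1 : m ≠ 1 := by
          rintro rfl
          rw [map_one] at hm
          exact hone hm.symm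
        have hcomm : y * inl m = inl m * y := by
          rw [hm]; exact ((Commute.refl y).pow_right _).eq
        have hfixm : φ k m = m := by
          have h1 := congrArg SemidirectProduct.left hcomm
          rw [mul_left, mul_left, left_inl, right_inl, map_one, MulAut.one_apply, mul_comm m] at h1
          exact mul_left_cancel h1
        have key : ∀ t : ℕ, t.Prime → t ≠ p → orderOf k = t → ∃ g : K, orderOf g = p * t := by
          intro t ht htp hkt
          rcases hfix t ht htp with h | h
          · exact h
          · exact absurd (h k hkt m hfixm) hm1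
        rcases hps with h | h
        · subst h
          have : orderOf k = s := by
            rw [hy, mul_comm] at hy'
            exact (Nat.eq_of_mul_eq_mul_right hp.pos hy').symm
          exact key s hs (Ne.symm hrs) this
        · subst h
          have : orderOf k = r := by
            rw [hy] at hy'
            exact (Nat.eq_of_mul_eq_mul_right hp.pos hy').symm
          obtain ⟨g, hg⟩ := key r hr hrs this
          exact ⟨g, by rw [hg, mul_comm]⟩

/-- The main construction: if `V ≠ 0` is a module for `K` of exponent `p` on which all elements of prime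
order `r ≠ p` not joined to `p` act fixed-point-freely, then there are arbitrarily large groups with the
prime graph of `K`. -/
theorem unbounded {K V : Type*} [Group K] [Finite K] [AddCommGroup V] [Finite V] [DistribMulAction K V]
    (p : ℕ) (hp : p.Prime) (hV : ∀ v : V, p • v = 0) (hV0 : ∃ v : V, v ≠ 0) (hpK : p ∣ Nat.card K)
    (hfix : ∀ r : ℕ, r.Prime → r ≠ p → (∃ g : K, orderOf g = p * r) ∨
      ∀ g : K, orderOf g = r → ∀ v : V, g • v = v → v = 0) (N : ℕ) :
    ∃ (H : Type) (_ : Group H) (_ : Finite H), N < Nat.card H ∧ SameGraph K H := by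
  let W := Fin N → V
  let φ : K →* MulAut (Multiplicative W) :=
    { toFun := fun g =>
        { toFun := fun w => Multiplicative.ofAdd (g • Multiplicative.toAdd w)
          invFun := fun w => Multiplicative.ofAdd (g⁻¹ • Multiplicative.toAdd w)
          left_inv := fun w => by simp
          right_inv := fun w => by simp
          map_mul' := fun w w' => by
            show Multiplicative.ofAdd (g • (Multiplicative.toAdd w + Multiplicative.toAdd w')) = _
            rw [smul_add]; rfl }
      map_one' := by
        ext w; simp
      map_mul' := fun g h => by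
        apply MulEquiv.ext
        intro w
        show Multiplicative.ofAdd ((g * h) • Multiplicative.toAdd w) =
          Multiplicative.ofAdd (g • h • Multiplicative.toAdd w)
        rw [mul_smul] }
  have hφ : ∀ (g : K) (w : Multiplicative W), φ g w = w → ∀ i, g • (Multiplicative.toAdd w i) = Multiplicative.toAdd w i := by
    intro g w h i
    have h' : g • Multiplicative.toAdd w = Multiplicative.toAdd w := h
    exact congrFun h' i
  have hsame : SameGraph K (Multiplicative W ⋊[φ] K) := by
    apply sameGraph_semidirect φ p hp _ hpK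
    · intro r hr hrp
      rcases hfix r hr hrp with h | h
      · exact Or.inl h
      · right
        intro g hg w hw
        have h1 := hφ g w hw
        have h2 : Multiplicative.toAdd w = 0 := by
          funext i
          exact h g hg _ (h1 i)
        exact h2
    · intro w
      have : p • Multiplicative.toAdd w = 0 := by
        funext i
        exact hV _
      exact this
  have hWf : Finite (Multiplicative W) := inferInstanceAs (Finite (Fin N → V))
  have hfin : Finite (Multiplicative W ⋊[φ] K) := Finite.of_equiv _ (SemidirectProduct.equivProd (φ := φ)).symm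
  obtain ⟨H, iH, fH, ⟨e⟩⟩ := exists_type_zero (Multiplicative W ⋊[φ] K)
  refine ⟨H, iH, fH, ?_, hsame.trans (SameGraph.of_mulEquiv e)⟩
  rw [← Nat.card_congr e.toEquiv, SemidirectProduct.card]
  have hVc : 2 ≤ Nat.card V := by
    obtain ⟨v, hv⟩ := hV0
    have : Nontrivial V := ⟨v, 0, hv⟩
    exact Finite.one_lt_card
  have h1 : Nat.card (Multiplicative W) = Nat.card V ^ N := by
    show Nat.card (Fin N → V) = _
    rw [Nat.card_fun]; simp
  rw [h1]
  calc N < 2 ^ N := Nat.lt_two_pow_self
    _ ≤ Nat.card V ^ N := Nat.pow_le_pow_left hVc N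
    _ ≤ Nat.card V ^ N * Nat.card K := Nat.le_mul_of_pos_right _ Nat.card_pos

end Cfsg.Agent.Lib.PrimeGraphExt
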