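import Cfsg.Agent.Lib.FTHall
import Cfsg.Agent.Lib.NoKlein
import Cfsg.Agent.Lib.FrobAction
import Cfsg.Agent.Lib.Burnside
import Cfsg.Agent.Lib.Transfer
import Cfsg.Agent.Lib.SubgroupTools
import Cfsg.Agent.Lib.MinNormal

set_option autoImplicit false
set_option linter.all false

/-!
Normal subgroups `N` with all elements outside `N` of prime power order (S3901).
-/

namespace Cfsg.Agent.Lib.PrimePowerOutside

open Subgroup Cfsg Cfsg.Agent.Lib

universe u

theorem eq_two_primes {n q : ℕ} (hn : n ≠ 0) (h : ∀ r : ℕ, r.Prime → r ∣ n → r = 2 ∨ r = q) :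
    ∃ a b, n = 2 ^ a * q ^ b := by
  obtain ⟨a, m, hm, rfl⟩ := Nat.exists_eq_pow_mul_and_not_dvd hn 2 (by norm_num)
  have hm0 : m ≠ 0 := by rintro rfl; simp at hm
  refine ⟨a, m.primeFactorsList.length, ?_⟩
  congr 1
  exact Nat.eq_prime_pow_of_unique_prime_dvd (p := q) hm0 (by
    intro d hd hdm
    rcases h d hd (hdm.mul_left _) with rfl | rfl
    · exact absurd hdm hm
    · rfl)

/-- no element of `N` of coprime order commutes with an element of prime order outside `N` -/
theorem eq_one_of_commute {G : Type u} [Group G] [Finite G] {N : Subgroup G}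
    (h : ∀ x : G, x ∉ N → IsPrimePow (orderOf x)) {x y : G} (hx : x ∉ N) (hy : y ∈ N) (hxy : Commute x y)
    (hcop : (orderOf x).Coprime (orderOf y)) : y = 1 := by
  have h1 : x * y ∉ N := fun h2 => hx ((mul_mem_cancel_right hy).1 h2)
  have h2 := h _ h1
  rw [hxy.orderOf_mul_eq_mul_orderOf_of_coprime hcop] at h2
  obtain ⟨p, k, hp, hk, he⟩ := h2
  have hp' : p.Prime := Nat.prime_iff.2 hp
  have h3 : orderOf x ∣ p ^ k := he ▸ dvd_mul_right _ _
  have h4 : orderOf y ∣ p ^ k := he ▸ dvd_mul_left _ _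
  obtain ⟨i, _, hi⟩ := (Nat.dvd_prime_pow hp').1 h3
  obtain ⟨j, _, hj⟩ := (Nat.dvd_prime_pow hp').1 h4
  have hx1 : orderOf x ≠ 1 := by
    rw [Ne, orderOf_eq_one_iff]; rintro rfl; exact hx (one_mem _)
  rcases Nat.eq_zero_or_pos j with rfl | hj0
  · rw [pow_zero, orderOf_eq_one_iff] at hj; exact hj
  · exfalso
    rcases Nat.eq_zero_or_pos i with rfl | hi0
    · exact hx1 hi
    · rw [hi, hj] at hcop
      have h5 := Nat.Coprime.coprime_dvd_left (dvd_pow_self p hi0.ne') hcop
      have h6 := Nat.Coprime.coprime_dvd_right (dvd_pow_self p hj0.ne') h5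
      exact hp'.one_lt.ne' ((Nat.coprime_self p).1 h6)

theorem simple_quot {Y Q : Type*} [Group Y] [Group Q] (f : Y →* Q) (hf : Function.Surjective f) (M : Subgroup Y)
    [M.Normal] (hM : f.ker = M) [IsSimpleGroup Q] (hnc : ¬ ∀ a b : Q, a * b = b * a) :
    IsSimpleGroup (Y ⧸ M) ∧ ¬ ∀ a b : Y ⧸ M, a * b = b * a := by
  let e : Y ⧸ M ≃* Q := (QuotientGroup.quotientMulEquivOfEq hM.symm).trans
    (QuotientGroup.quotientKerEquivOfSurjective f hf)
  refine ⟨MulEquiv.isSimpleGroup e, fun h => hnc fun a b => ?_⟩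
  have := congrArg e (h (e.symm a) (e.symm b))
  rwa [map_mul, map_mul, e.apply_symm_apply, e.apply_symm_apply] at this

/-- the statement proved by induction -/
def Stm (n : ℕ) : Prop := ∀ (G : Type u) [Group G] [Finite G] (N : Subgroup G) [N.Normal], Nat.card G ≤ n →
    IsSimpleGroup (G ⧸ N) → (¬ ∀ a b : G ⧸ N, a * b = b * a) → (∀ x : G, x ∉ N → IsPrimePow (orderOf x)) →
    IsPGroup 2 N

theorem card_lt_of_ne_top {G : Type u} [Group G] [Finite G] {H : Subgroup G} (hH : H ≠ ⊤) : Nat.card H < Nat.card G := by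
  have h1 := Subgroup.card_le_card_group H
  refine lt_of_le_of_ne h1 fun h => hH ?_
  exact (Subgroup.card_eq_iff_eq_top H).1 h

/-- induction on a supplement of `N` -/
theorem of_supplement {n : ℕ} (ih : Stm.{u} n) {G : Type u} [Group G] [Finite G] (N : Subgroup G) [N.Normal]
    (hcard : Nat.card G ≤ n + 1) [IsSimpleGroup (G ⧸ N)] (hnc : ¬ ∀ a b : G ⧸ N, a * b = b * a)
    (h : ∀ x : G, x ∉ N → IsPrimePow (orderOf x)) (Y : Subgroup G) (hY : Y ⊔ N = ⊤) (hYt : Y ≠ ⊤) :
    IsPGroup 2 (N.subgroupOf Y) := by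
  have hlt := card_lt_of_ne_top hYt
  let f : Y →* G ⧸ N := (QuotientGroup.mk' N).comp Y.subtype
  have hf : Function.Surjective f := by
    intro q
    obtain ⟨g, rfl⟩ := QuotientGroup.mk'_surjective N q
    have h1 : g ∈ Y ⊔ N := hY ▸ trivial
    obtain ⟨y, hy, m, hm, rfl⟩ := (Subgroup.mem_sup_of_normal_right).1 h1
    refine ⟨⟨y, hy⟩, ?_⟩
    show QuotientGroup.mk' N y = QuotientGroup.mk' N (y * m)
    rw [map_mul, (QuotientGroup.eq_one_iff m).2 hm |> fun h => (show QuotientGroup.mk' N m = 1 from h), mul_one]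
  have hker : f.ker = N.subgroupOf Y := by
    ext y
    rw [MonoidHom.mem_ker, mem_subgroupOf]
    exact QuotientGroup.eq_one_iff (y : G)
  obtain ⟨h1, h2⟩ := simple_quot f hf (N.subgroupOf Y) hker hnc
  apply ih Y (N.subgroupOf Y) (by omega) h1 h2
  intro x hx
  have := h (x : G) (fun h => hx (mem_subgroupOf.2 h))
  rwa [Subgroup.orderOf_coe] at this

/-- induction on a quotient -/
theorem of_quotient {n : ℕ} (ih : Stm.{u} n) {G : Type u} [Group G] [Finite G] (N : Subgroup G) [N.Normal]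
    (hcard : Nat.card G ≤ n + 1) [IsSimpleGroup (G ⧸ N)] (hnc : ¬ ∀ a b : G ⧸ N, a * b = b * a)
    (h : ∀ x : G, x ∉ N → IsPrimePow (orderOf x)) (K : Subgroup G) [K.Normal] (hKN : K ≤ N) (hK : K ≠ ⊥) :
    IsPGroup 2 (N.map (QuotientGroup.mk' K)) := by
  have hlt : Nat.card (G ⧸ K) < Nat.card G := by
    have h1 := Subgroup.card_eq_card_quotient_mul_card_subgroup K
    have h2 : 1 < Nat.card K := by
      have := Subgroup.one_lt_card_iff_ne_bot K
      exact this.2 hK
    have h3 : 0 < Nat.card (G ⧸ K) := Nat.card_pos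
    nlinarith
  let f : (G ⧸ K) →* G ⧸ N := QuotientGroup.lift K (QuotientGroup.mk' N) (by
    intro x hx
    exact (QuotientGroup.eq_one_iff x).2 (hKN hx))
  have hf : Function.Surjective f := by
    intro q
    obtain ⟨g, rfl⟩ := QuotientGroup.mk'_surjective N q
    exact ⟨QuotientGroup.mk' K g, rfl⟩
  have hker : f.ker = N.map (QuotientGroup.mk' K) := by
    ext y
    obtain ⟨g, rfl⟩ := QuotientGroup.mk'_surjective K y
    rw [MonoidHom.mem_ker]
    constructor
    · intro h1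
      exact ⟨g, (QuotientGroup.eq_one_iff g).1 h1, rfl⟩
    · rintro ⟨m, hm, hmg⟩
      rw [← hmg]
      exact (QuotientGroup.eq_one_iff m).2 hm
  haveI : (N.map (QuotientGroup.mk' K)).Normal := inferInstance
  obtain ⟨h1, h2⟩ := simple_quot f hf (N.map (QuotientGroup.mk' K)) hker hnc
  apply ih (G ⧸ K) (N.map (QuotientGroup.mk' K)) (by omega) h1 h2
  intro x hx
  obtain ⟨g, rfl⟩ := QuotientGroup.mk'_surjective K x
  have hg : g ∉ N := fun hg => hx ⟨g, hg, rfl⟩
  obtain ⟨p, k, hp, hk, he⟩ := h g hg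
  have hd : orderOf (QuotientGroup.mk' K g) ∣ p ^ k := he ▸ orderOf_map_dvd _ g
  obtain ⟨i, _, hi⟩ := (Nat.dvd_prime_pow (Nat.prime_iff.2 hp)).1 hd
  refine ⟨p, i, hp, Nat.pos_of_ne_zero ?_, hi.symm⟩
  rintro rfl
  rw [pow_zero, orderOf_eq_one_iff] at hi
  apply hx
  rw [hi]
  exact one_mem _


theorem coprime_of_pow {p q i j : ℕ} (hp : p.Prime) (hq : q.Prime) (h : p ≠ q) : (p ^ i).Coprime (q ^ j) :=
  Nat.Coprime.pow _ _ ((Nat.coprime_primes hp hq).2 h)

theorem exists_klein (hFT : FTHall.FT.{u}) {S : Type u} [Group S] [Finite S] [IsSimpleGroup S]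
    (hnc : ¬ ∀ a b : S, a * b = b * a) : ∃ a b : S, a ≠ 1 ∧ b ≠ 1 ∧ a * b ≠ 1 ∧ a * a = 1 ∧ b * b = 1 ∧
      a * b * (a * b) = 1 ∧ ∃ E : Subgroup S, IsPGroup 2 E ∧ a ∈ E ∧ b ∈ E := by
  classical
  have heven : Even (Nat.card S) := by
    by_contra h
    rw [Nat.not_even_iff_odd] at h
    exact hnc (IsSimpleGroup.comm_iff_isSolvable.2 (hFT S h))
  obtain ⟨E, hE⟩ : ∃ E : Subgroup S, IsKleinFour E := by
    by_contra hcon
    push Not at hcon
    exact hnc (NoKlein.comm_of_no_klein hcon heven)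
  have h4 : Nat.card E = 4 := hE.card_four
  have hsq : ∀ x : E, x * x = 1 := by
    intro x
    have h1 := Monoid.pow_exponent_eq_one x
    rw [hE.exponent_two, pow_two] at h1
    exact h1
  haveI : Nontrivial E := by
    rw [← Finite.one_lt_card_iff_nontrivial]; omega
  obtain ⟨a, ha⟩ := exists_ne (1 : E)
  obtain ⟨b, hb⟩ : ∃ b : E, b ≠ 1 ∧ b ≠ a := by
    by_contra hcon
    push Not at hcon
    have h1 : ∀ x : E, x ∈ ({1, a} : Finset E) := by
      intro x
      by_cases hx : x = 1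
      · simp [hx]
      · simp [hcon x hx]
    haveI := Fintype.ofFinite E
    have h2 : (Finset.univ : Finset E) ⊆ {1, a} := fun x _ => h1 x
    have h3 := Finset.card_le_card h2
    rw [Finset.card_univ, ← Nat.card_eq_fintype_card, h4] at h3
    have h5 := Finset.card_le_two (a := (1 : E)) (b := a)
    omega
  refine ⟨a, b, fun h => ha (Subtype.ext h), fun h => hb.1 (Subtype.ext h), ?_, ?_, ?_, ?_, E, ?_, a.2, b.2⟩
  · intro h
    have h1 : a * b = 1 := Subtype.ext h
    apply hb.2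
    have h2 := hsq a
    exact mul_left_cancel (h1.trans h2.symm)
  · exact congrArg Subtype.val (hsq a)
  · exact congrArg Subtype.val (hsq b)
  · exact congrArg Subtype.val (hsq (a * b))
  · exact IsPGroup.of_card (n := 2) (by rw [h4]; norm_num)

/-- an element acting without fixed points and with square centralizing inverts -/
theorem inverts {G : Type u} [Group G] [Finite G] {N P : Subgroup G} (hPn : P.Normal) (hPN : P ≤ N) {q : ℕ} (hq : q.Prime)
    (hq2 : q ≠ 2) (hPq : IsPGroup q P) (hab : ∀ a ∈ P, ∀ b ∈ P, a * b = b * a)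
    (h : ∀ x : G, x ∉ N → IsPrimePow (orderOf x)) {a : G} (ha : a ∉ N) {k : ℕ} (ha2 : orderOf a = 2 ^ k) {y : G} (hy : y ∈ P)
    (hay : a * a * y = y * (a * a)) : a * y * a⁻¹ = y⁻¹ := by
  have hz : a * y * a⁻¹ ∈ P := hPn.conj_mem y hy a
  have hc : Commute a (y * (a * y * a⁻¹)) := by
    show a * (y * (a * y * a⁻¹)) = y * (a * y * a⁻¹) * a
    rw [hab _ hy _ hz]
    calc a * (a * y * a⁻¹ * y) = (a * a * y) * a⁻¹ * y := by group
      _ = (y * (a * a)) * a⁻¹ * y := by rw [hay]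
      _ = y * (a * y * a⁻¹) * a := by group
      _ = a * y * a⁻¹ * y * a := by rw [hab _ hy _ hz]
  haveI := Fact.mk hq
  obtain ⟨j, hj⟩ := (IsPGroup.iff_orderOf.1 hPq) ⟨_, mul_mem hy hz⟩
  rw [Subgroup.orderOf_mk] at hj
  have h1 := eq_one_of_commute h ha (hPN (mul_mem hy hz)) hc (by
    rw [ha2, hj]
    exact coprime_of_pow Nat.prime_two hq (Ne.symm hq2))
  exact eq_inv_of_mul_eq_one_right h1

theorem final (hFT : FTHall.FT.{u}) {G : Type u} [Group G] [Finite G] (N : Subgroup G) [N.Normal]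
    [IsSimpleGroup (G ⧸ N)] (hnc : ¬ ∀ a b : G ⧸ N, a * b = b * a)
    (h : ∀ x : G, x ∉ N → IsPrimePow (orderOf x)) {q : ℕ} (hq : q.Prime) (hq2 : q ≠ 2) (P : Subgroup G) [hPn : P.Normal]
    (hPN : P ≤ N) (hPq : IsPGroup q P) (hPne : P ≠ ⊥) (hab : ∀ a ∈ P, ∀ b ∈ P, a * b = b * a)
    (hNP : ∀ r : ℕ, r.Prime → r ∣ Nat.card N → r = 2 ∨ r = q) : False := by
  classical
  haveI : Fact (Nat.Prime 2) := ⟨Nat.prime_two⟩
  haveI := Fact.mk hq
  obtain ⟨a', b', ha1, hb1, hab1, ha2, hb2, hab2, E, hE, haE, hbE⟩ := exists_klein hFT hnc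
  obtain ⟨Q, hQ⟩ := hE.exists_le_sylow
  obtain ⟨S, hS⟩ := Sylow.mapSurjective_surjective (QuotientGroup.mk'_surjective N) 2 Q
  have hSQ : (S : Subgroup G).map (QuotientGroup.mk' N) = (Q : Subgroup (G ⧸ N)) := by
    rw [← hS]; rfl
  obtain ⟨a, haS, haa⟩ : a' ∈ (S : Subgroup G).map (QuotientGroup.mk' N) := hSQ ▸ hQ haE
  obtain ⟨b, hbS, hbb⟩ : b' ∈ (S : Subgroup G).map (QuotientGroup.mk' N) := hSQ ▸ hQ hbE
  set T : Subgroup G := (S : Subgroup G) ⊓ N with hT
  have hmem : ∀ {x : G}, QuotientGroup.mk' N x = 1 ↔ x ∈ N := fun {x} => QuotientGroup.eq_one_iff x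
  have haN : a ∉ N := fun h1 => ha1 (by rw [← haa]; exact hmem.2 h1)
  have hbN : b ∉ N := fun h1 => hb1 (by rw [← hbb]; exact hmem.2 h1)
  have habN : a * b ∉ N := fun h1 => hab1 (by rw [← haa, ← hbb, ← map_mul]; exact hmem.2 h1)
  have haT : a * a ∈ T := Subgroup.mem_inf.2 ⟨mul_mem haS haS, hmem.1 (by rw [map_mul, haa, ha2])⟩
  have hbT : b * b ∈ T := Subgroup.mem_inf.2 ⟨mul_mem hbS hbS, hmem.1 (by rw [map_mul, hbb, hb2])⟩
  have habT : a * b * (a * b) ∈ T := by
    refine Subgroup.mem_inf.2 ⟨mul_mem (mul_mem haS hbS) (mul_mem haS hbS), hmem.1 ?_⟩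
    rw [map_mul, map_mul, haa, hbb, hab2]
  have hord : ∀ x ∈ (S : Subgroup G), ∃ k : ℕ, orderOf x = 2 ^ k := by
    intro x hx
    obtain ⟨k, hk⟩ := (IsPGroup.iff_orderOf.1 S.isPGroup') ⟨x, hx⟩
    exact ⟨k, by rwa [Subgroup.orderOf_mk] at hk⟩
  have hordP : ∀ x ∈ P, ∃ k : ℕ, orderOf x = q ^ k := by
    intro x hx
    obtain ⟨k, hk⟩ := (IsPGroup.iff_orderOf.1 hPq) ⟨x, hx⟩
    exact ⟨k, by rwa [Subgroup.orderOf_mk] at hk⟩
  -- `C_P(T) = 1`
  have hCT : ∀ y ∈ P, (∀ t ∈ T, t * y = y * t) → y = 1 := by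
    intro y hy hyT
    obtain ⟨ka, hka⟩ := hord a haS
    obtain ⟨kb, hkb⟩ := hord b hbS
    obtain ⟨kab, hkab⟩ := hord (a * b) (mul_mem haS hbS)
    have e1 := inverts hPn hPN hq hq2 hPq hab h haN hka hy (hyT _ haT)
    have e2 := inverts hPn hPN hq hq2 hPq hab h hbN hkb hy (hyT _ hbT)
    have e3 := inverts hPn hPN hq hq2 hPq hab h habN hkab hy (hyT _ habT)
    have e4 : a * b * y * (a * b)⁻¹ = y := by
      calc a * b * y * (a * b)⁻¹ = a * (b * y * b⁻¹) * a⁻¹ := by group
        _ = a * y⁻¹ * a⁻¹ := by rw [e2]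
        _ = (a * y * a⁻¹)⁻¹ := by group
        _ = y := by rw [e1, inv_inv]
    rw [e4] at e3
    obtain ⟨k, hk⟩ := hordP y hy
    have h5 : y ^ 2 = 1 := by
      rw [pow_two]
      nth_rewrite 1 [e3]
      exact inv_mul_cancel y
    have h6 := orderOf_dvd_of_pow_eq_one h5
    rw [hk] at h6
    have h7 : (q ^ k).Coprime 2 := by
      have := coprime_of_pow (i := k) (j := 1) hq Nat.prime_two hq2
      rwa [pow_one] at this
    have h8 : q ^ k = 1 := Nat.Coprime.eq_one_of_dvd h7 h6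
    rw [h8, orderOf_eq_one_iff] at hk
    exact hk
  -- the prime `r`
  obtain ⟨r, hr, hrd, hr2, hrq⟩ : ∃ r : ℕ, r.Prime ∧ r ∣ Nat.card (G ⧸ N) ∧ r ≠ 2 ∧ r ≠ q := by
    by_contra hcon
    push Not at hcon
    obtain ⟨i, j, hij⟩ := eq_two_primes (n := Nat.card (G ⧸ N)) (q := q) Nat.card_pos.ne' (by
      intro r hr hrd
      by_cases h2 : r = 2
      · exact Or.inl h2
      · exact Or.inr (hcon r hr hrd h2))
    exact hnc (IsSimpleGroup.comm_iff_isSolvable.2 (Burnside.isSolvable_of_card_eq _ 2 q i j Nat.prime_two hq hij rfl))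
  haveI := Fact.mk hr
  -- the normalizer of `T`
  set X : Subgroup G := normalizer (T : Set G) with hX
  have hXN : X ⊔ N = ⊤ := by
    have := Sylow.normalizer_sup_eq_top (Transfer.sylowOfNormal S N)
    rwa [Transfer.map_sylowOfNormal] at this
  let f : X →* G ⧸ N := (QuotientGroup.mk' N).comp X.subtype
  have hf : Function.Surjective f := by
    intro z
    obtain ⟨g, rfl⟩ := QuotientGroup.mk'_surjective N z
    have h1 : g ∈ X ⊔ N := hXN ▸ trivial
    obtain ⟨y, hy, m, hm, rfl⟩ := (Subgroup.mem_sup_of_normal_right).1 h1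
    refine ⟨⟨y, hy⟩, ?_⟩
    show QuotientGroup.mk' N y = QuotientGroup.mk' N (y * m)
    rw [map_mul, hmem.2 hm, mul_one]
  have hrX : r ∣ Nat.card X := hrd.trans (Subgroup.card_dvd_of_surjective f hf)
  obtain ⟨x, hx⟩ := exists_prime_orderOf_dvd_card' r hrX
  have hxG : orderOf (x : G) = r := by rw [Subgroup.orderOf_coe, hx]
  have hnN : ∀ g : G, orderOf g = r → g ∉ N := by
    intro g hg hgN
    have h1 : r ∣ Nat.card N := by
      have := orderOf_dvd_natCard (⟨g, hgN⟩ : N)
      rwa [Subgroup.orderOf_mk, hg] at this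
    rcases hNP r hr h1 with h2 | h2
    · exact hr2 h2
    · exact hrq h2
  -- the action
  haveI hPcomm : IsMulCommutative P := ⟨⟨fun a b => Subtype.ext (hab a a.2 b b.2)⟩⟩
  letI : CommGroup P := { (inferInstance : Group P) with mul_comm := fun a b => Subtype.ext (hab a a.2 b b.2) }
  let act : X →* MulAut P := (MulAut.conjNormal (H := P)).comp X.subtype
  have hact : ∀ (g : X) (v : P), ((act g v : P) : G) = g * v * (g : G)⁻¹ := fun g v => rfl
  have hTX : T ≤ X := le_normalizer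
  haveI hKn : (T.subgroupOf X).Normal := Subgroup.normal_in_normalizer
  have hpowr : ∀ g ∈ zpowers x, g ≠ 1 → orderOf (g : G) = r := by
    intro g hg hg1
    have h1 : orderOf g ∣ r := by
      rw [← hx]
      exact orderOf_dvd_of_mem_zpowers hg
    rw [Subgroup.orderOf_coe]
    rcases (Nat.dvd_prime hr).1 h1 with h2 | h2
    · exact absurd (orderOf_eq_one_iff.1 h2) hg1
    · exact h2
  have hkey := FrobAction.pow_card_kernel_eq_one act (T.subgroupOf X) (zpowers x)
    (by
      intro g hg hg1 k hk hgk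
      have hkT : (k : G) ∈ T := mem_subgroupOf.1 hk
      obtain ⟨i, hi⟩ := hord k (Subgroup.mem_inf.1 hkT).1
      have ho := hpowr g hg hg1
      have h1 := eq_one_of_commute h (hnN g ho) (Subgroup.mem_inf.1 hkT).2 (congrArg Subtype.val hgk : (g : G) * k = k * g)
        (by
          rw [ho, hi]
          have := coprime_of_pow (i := 1) (j := i) hr Nat.prime_two hr2
          rwa [pow_one] at this)
      exact Subtype.ext h1)
    (by
      intro v hv
      have h1 := hCT v v.2 (by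
        intro t ht
        have h2 := congrArg Subtype.val (hv ⟨t, hTX ht⟩ (mem_subgroupOf.2 ht))
        rw [hact] at h2
        exact mul_inv_eq_iff_eq_mul.1 h2)
      exact Subtype.ext h1)
    (by
      intro v hv
      have h2 := congrArg Subtype.val (hv x (mem_zpowers x))
      rw [hact] at h2
      have h3 : (x : G) * v = v * x := mul_inv_eq_iff_eq_mul.1 h2
      obtain ⟨i, hi⟩ := hordP v v.2
      have h1 := eq_one_of_commute h (hnN x hxG) (hPN v.2) h3 (by
        rw [hxG, hi]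
        have := coprime_of_pow (i := 1) (j := i) hr hq hrq
        rwa [pow_one] at this)
      exact Subtype.ext h1)
  obtain ⟨m, hm⟩ : ∃ m, Nat.card (T.subgroupOf X) = 2 ^ m := by
    have h1 : IsPGroup 2 (T.subgroupOf X) := (S.isPGroup'.to_le (inf_le_left : T ≤ (S : Subgroup G))).comap_subtype
    exact IsPGroup.iff_card.1 h1
  apply hPne
  rw [eq_bot_iff]
  intro v hv
  have h1 := hkey ⟨v, hv⟩
  rw [hm] at h1
  have h2 : v ^ 2 ^ m = 1 := congrArg Subtype.val h1
  obtain ⟨i, hi⟩ := hordP v hv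
  have h3 := orderOf_dvd_of_pow_eq_one h2
  rw [hi] at h3
  have h4 : q ^ i = 1 := Nat.Coprime.eq_one_of_dvd (coprime_of_pow hq Nat.prime_two hq2) h3
  rw [h4, orderOf_eq_one_iff] at hi
  exact hi


theorem eq_bot_of_pGroups {G : Type*} [Group G] [Finite G] {q : ℕ} (hq : q.Prime) (hq2 : q ≠ 2) {P : Subgroup G}
    (h1 : IsPGroup q P) (h2 : IsPGroup 2 P) : P = ⊥ := by
  haveI := Fact.mk hq
  haveI : Fact (Nat.Prime 2) := ⟨Nat.prime_two⟩
  obtain ⟨i, hi⟩ := IsPGroup.iff_card.1 h1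
  obtain ⟨j, hj⟩ := IsPGroup.iff_card.1 h2
  rw [← Subgroup.card_eq_one]
  have := coprime_of_pow (i := i) (j := j) hq Nat.prime_two hq2
  rw [← hi, ← hj] at this
  exact (Nat.coprime_self _).1 this

theorem main (hFT : FTHall.FT.{u}) (n : ℕ) : Stm.{u} n := by
  induction n with
  | zero =>
    intro G _ _ N _ hn
    have := Nat.card_pos (α := G)
    omega
  | succ n ih =>
    intro G _ _ N hN hcard hs hnc h
    by_contra hN2
    haveI : Fact (Nat.Prime 2) := ⟨Nat.prime_two⟩
    obtain ⟨q, hq, hqd, hq2⟩ : ∃ q : ℕ, q.Prime ∧ q ∣ Nat.card N ∧ q ≠ 2 := by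
      by_contra hcon
      push Not at hcon
      apply hN2
      exact IsPGroup.of_card (n := _) (Nat.eq_prime_pow_of_unique_prime_dvd (p := 2) Nat.card_pos.ne'
        (fun {d} hd hdd => hcon d hd hdd))
    haveI := Fact.mk hq
    obtain ⟨P0⟩ : Nonempty (Sylow q N) := inferInstance
    set P : Subgroup G := (P0 : Subgroup N).map N.subtype with hP
    have hPN : P ≤ N := map_subtype_le _
    have hPq : IsPGroup q P := P0.isPGroup'.map _
    have hPne : P ≠ ⊥ := by
      rw [hP, Ne, Subgroup.map_eq_bot_iff_of_injective _ N.subtype_injective]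
      exact P0.ne_bot_of_dvd_card hqd
    have hsup : normalizer (P : Set G) ⊔ N = ⊤ := Sylow.normalizer_sup_eq_top P0
    by_cases hY : normalizer (P : Set G) = ⊤
    · haveI hPn : P.Normal := Subgroup.normalizer_eq_top_iff.1 hY
      -- the center of `P`
      set Z : Subgroup G := (center P).map P.subtype with hZ
      haveI hZn : Z.Normal := by
        rw [hZ]; infer_instance
      have hZP : Z ≤ P := map_subtype_le _
      have hZne : Z ≠ ⊥ := by
        haveI : Nontrivial P := (Subgroup.nontrivial_iff_ne_bot P).2 hPne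
        have h1 := hPq.bot_lt_center
        rw [hZ, Ne, Subgroup.map_eq_bot_iff_of_injective _ P.subtype_injective]
        exact h1.ne'
      have hq1 := of_quotient ih N hcard hnc h Z (hZP.trans hPN) hZne
      have hPZ : P.map (QuotientGroup.mk' Z) = ⊥ := by
        apply eq_bot_of_pGroups hq hq2 (hPq.map _)
        exact hq1.to_le (Subgroup.map_mono hPN)
      have hPZ' : P ≤ Z := by
        rw [Subgroup.map_eq_bot_iff, QuotientGroup.ker_mk'] at hPZ
        exact hPZ
      have hab : ∀ a ∈ P, ∀ b ∈ P, a * b = b * a := by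
        intro a ha b hb
        obtain ⟨c, hc, rfl⟩ := hPZ' ha
        exact (congrArg Subtype.val (mem_center_iff.1 hc ⟨b, hb⟩)).symm
      refine final hFT N hnc h hq hq2 P hPN hPq hPne hab ?_
      intro r hr hrd
      have hq3 := of_quotient ih N hcard hnc h P hPN hPne
      obtain ⟨i, hi⟩ := IsPGroup.iff_card.1 hPq
      obtain ⟨j, hj⟩ := IsPGroup.iff_card.1 hq3
      have h1 : Nat.card N = Nat.card P * Nat.card (N.map (QuotientGroup.mk' P)) := by
        have h2 := Subgroup.relIndex_ker (QuotientGroup.mk' P) (K := N)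
        rw [QuotientGroup.ker_mk'] at h2
        rw [← h2]
        exact (SubgroupTools.card_mul_relIndex_of_le hPN).symm
      rw [h1, hi, hj] at hrd
      rcases (Nat.Prime.dvd_mul hr).1 hrd with h3 | h3
      · right; exact (Nat.prime_dvd_prime_iff_eq hr hq).1 (hr.dvd_of_dvd_pow h3)
      · left; exact (Nat.prime_dvd_prime_iff_eq hr Nat.prime_two).1 (hr.dvd_of_dvd_pow h3)
    · have h1 := of_supplement ih N hcard hnc h _ hsup hY
      apply hPne
      have hPY : P ≤ normalizer (P : Set G) := le_normalizer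
      have h2 : IsPGroup 2 (P.subgroupOf (normalizer (P : Set G))) :=
        h1.to_le (fun x hx => mem_subgroupOf.2 (hPN (mem_subgroupOf.1 hx)))
      have h3 := h2.map (normalizer (P : Set G)).subtype
      rw [subgroupOf_map_subtype, inf_eq_left.2 hPY] at h3
      exact eq_bot_of_pGroups hq hq2 hPq h3


open MinNormal in
theorem simple_of_minBy {Q : Type u} [Group Q] [Finite Q] {M : Subgroup Q} (h : MinBy M M) : IsSimpleGroup M := by
  haveI : Nontrivial M := (Subgroup.nontrivial_iff_ne_bot M).2 h.ne_bot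
  refine ⟨fun L hL => ?_⟩
  have h1 : InvBy M (L.map M.subtype) := by
    rintro m hm _ ⟨l, hl, rfl⟩
    exact ⟨⟨m, hm⟩ * l * ⟨m, hm⟩⁻¹, hL.conj_mem l hl _, rfl⟩
  rcases h.min _ h1 (map_subtype_le L) with h2 | h2
  · left
    exact (Subgroup.map_eq_bot_iff_of_injective _ M.subtype_injective).1 h2
  · right
    rw [eq_top_iff]
    intro m _
    have h3 : (m : Q) ∈ L.map M.subtype := by rw [h2]; exact m.2
    obtain ⟨l, hl, hlm⟩ := h3
    have : l = m := Subtype.ext hlm
    rwa [← this]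

open MinNormal in
/-- in a group with all nontrivial elements of prime power order a nonabelian minimal normal subgroup is simple -/
theorem minBy_self {Q : Type u} [Group Q] [Finite Q] {M : Subgroup Q} (h : MinBy ⊤ M)
    (hna : ¬ ∀ x ∈ M, ∀ y ∈ M, x * y = y * x) (hpp : ∀ x : Q, x ≠ 1 → IsPrimePow (orderOf x)) : MinBy M M := by
  obtain ⟨T, hTM, hT⟩ := exists_minBy M M h.ne_bot (InvBy.self M)
  have hnaT := h.nonabelian_of hT hTM hna
  have hD := h.decomp hT hTM hna
  set B := M ⊓ Subgroup.centralizer (T : Set Q) with hB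
  have hB1 : B = ⊥ := by
    by_contra hB1
    obtain ⟨r, hr, hrd⟩ : ∃ r : ℕ, r.Prime ∧ r ∣ Nat.card B := by
      apply Nat.exists_prime_and_dvd
      rw [Ne, Subgroup.card_eq_one]
      exact hB1
    haveI := Fact.mk hr
    obtain ⟨b, hb⟩ := exists_prime_orderOf_dvd_card' r hrd
    obtain ⟨x, hx, hxp, hxr⟩ := exists_prime_ne_of_not_pgroup hr (hT.not_pgroup hnaT r hr)
    have hbQ : orderOf (b : Q) = r := by rw [Subgroup.orderOf_coe, hb]
    have hc : Commute x (b : Q) := hD.commute x hx b b.2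
    have h1 := eq_one_of_commute (N := ⊥) (fun y hy => hpp y (fun h => hy (by rw [h]; exact one_mem _)))
      (x := x) (y := (1 : Q)) (by
        intro hx1
        rw [Subgroup.mem_bot] at hx1
        rw [hx1, orderOf_one] at hxp
        exact Nat.not_prime_one hxp) (one_mem _) (Commute.one_right x) (by rw [orderOf_one]; exact Nat.coprime_one_right _)
    have h2 : orderOf (x * (b : Q)) = orderOf x * r := by
      rw [hc.orderOf_mul_eq_mul_orderOf_of_coprime, hbQ]
      rw [hbQ]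
      exact (Nat.coprime_primes hxp hr).2 hxr
    have h3 : x * (b : Q) ≠ 1 := by
      intro h4
      rw [h4, orderOf_one] at h2
      have := Nat.eq_one_of_mul_eq_one_left h2.symm
      exact hr.one_lt.ne' this
    obtain ⟨p, k, hp, hk, he⟩ := hpp _ h3
    rw [h2] at he
    have hp' : p.Prime := Nat.prime_iff.2 hp
    have h5 : orderOf x ∣ p ^ k := he ▸ dvd_mul_right _ _
    have h6 : r ∣ p ^ k := he ▸ dvd_mul_left _ _
    have h7 := (Nat.prime_dvd_prime_iff_eq hxp hp').1 (hxp.dvd_of_dvd_pow h5)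
    have h8 := (Nat.prime_dvd_prime_iff_eq hr hp').1 (hr.dvd_of_dvd_pow h6)
    exact hxr (h7.trans h8.symm)
  have hMT : M = T := by
    apply le_antisymm _ hTM
    intro m hm
    obtain ⟨t, ht, b, hb, rfl⟩ := hD.prod m hm
    rw [hB1, Subgroup.mem_bot] at hb
    rw [hb, mul_one]
    exact ht
  have : MinBy M T := hT
  rwa [← hMT] at this

open MinNormal in
theorem reduce (hFT : FTHall.FT.{u}) {G : Type u} [Group G] [Finite G] (N : Subgroup G) [N.Normal]
    (h : ∀ x : G, x ∉ N → IsPrimePow (orderOf x)) (hns : ¬ Group.IsSolvable (G ⧸ N)) : IsPGroup 2 N := by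
  classical
  obtain ⟨N1, hN1⟩ := (Set.toFinite {N' : Subgroup G | N ≤ N' ∧ ∃ hn : N'.Normal, ¬ Group.IsSolvable (G ⧸ N')}).exists_maximal
    ⟨N, le_rfl, inferInstance, hns⟩
  obtain ⟨hNN1, hn1, hns1⟩ := hN1.prop
  have hpp : ∀ x : G ⧸ N1, x ≠ 1 → IsPrimePow (orderOf x) := by
    intro x hx
    obtain ⟨g, rfl⟩ := QuotientGroup.mk'_surjective N1 x
    have hg : g ∉ N := fun hg => hx ((QuotientGroup.eq_one_iff g).2 (hNN1 hg))
    obtain ⟨p, k, hp, hk, he⟩ := h g hg
    have hd : orderOf (QuotientGroup.mk' N1 g) ∣ p ^ k := he ▸ orderOf_map_dvd _ g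
    obtain ⟨i, _, hi⟩ := (Nat.dvd_prime_pow (Nat.prime_iff.2 hp)).1 hd
    refine ⟨p, i, hp, Nat.pos_of_ne_zero ?_, hi.symm⟩
    rintro rfl
    rw [pow_zero, orderOf_eq_one_iff] at hi
    exact hx hi
  haveI : Nontrivial (G ⧸ N1) := by
    by_contra hcon
    rw [not_nontrivial_iff_subsingleton] at hcon
    exact hns1 inferInstance
  obtain ⟨Mb, -, hMb⟩ := exists_minBy (⊤ : Subgroup (G ⧸ N1)) ⊤ top_ne_bot (InvBy.self _)
  haveI hMbn := hMb.normal
  set M := Mb.comap (QuotientGroup.mk' N1) with hM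
  have hMmap : M.map (QuotientGroup.mk' N1) = Mb :=
    Subgroup.map_comap_eq_self_of_surjective (QuotientGroup.mk'_surjective _) _
  have hN1M : N1 ≤ M := by
    intro x hx
    rw [hM, mem_comap, (show QuotientGroup.mk' N1 x = 1 from (QuotientGroup.eq_one_iff x).2 hx)]
    exact one_mem _
  have hMsol : Group.IsSolvable (G ⧸ M) := by
    by_contra hcon
    have h1 : M ≤ N1 := hN1.le_of_ge ⟨hNN1.trans hN1M, inferInstance, hcon⟩ hN1M
    apply hMb.ne_bot
    rw [← hMmap, Subgroup.map_eq_bot_iff, QuotientGroup.ker_mk']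
    exact h1
  have hQM : Group.IsSolvable ((G ⧸ N1) ⧸ Mb) := by
    let f : G ⧸ M →* (G ⧸ N1) ⧸ Mb := QuotientGroup.lift M ((QuotientGroup.mk' Mb).comp (QuotientGroup.mk' N1)) (by
      intro x hx
      exact (QuotientGroup.eq_one_iff _).2 hx)
    have hf : Function.Surjective f := by
      intro y
      obtain ⟨z, rfl⟩ := QuotientGroup.mk'_surjective Mb y
      obtain ⟨g, rfl⟩ := QuotientGroup.mk'_surjective N1 z
      exact ⟨QuotientGroup.mk' M g, rfl⟩
    haveI := hMsol
    exact Group.isSolvable_of_surjective hf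
  have hna : ¬ ∀ x ∈ Mb, ∀ y ∈ Mb, x * y = y * x := by
    intro hab
    apply hns1
    haveI : Group.IsSolvable Mb := Group.isSolvable_of_comm fun a b => Subtype.ext (hab a a.2 b b.2)
    haveI := hQM
    exact Group.isSolvable_of_ker_le_range Mb.subtype (QuotientGroup.mk' Mb)
      (by rw [QuotientGroup.ker_mk', Subgroup.range_subtype])
  have hself := minBy_self hMb hna hpp
  haveI := simple_of_minBy hself
  let f : M →* Mb := (QuotientGroup.mk' N1).subgroupComap Mb
  have hf : Function.Surjective f := by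
    rintro ⟨y, hy⟩
    obtain ⟨g, rfl⟩ := QuotientGroup.mk'_surjective N1 y
    exact ⟨⟨g, hy⟩, rfl⟩
  have hker : f.ker = N1.subgroupOf M := by
    ext y
    rw [MonoidHom.mem_ker, mem_subgroupOf]
    constructor
    · intro h1
      exact (QuotientGroup.eq_one_iff (y : G)).1 (congrArg Subtype.val h1)
    · intro h1
      exact Subtype.ext ((QuotientGroup.eq_one_iff (y : G)).2 h1)
  obtain ⟨h1, h2⟩ := simple_quot f hf (N1.subgroupOf M) hker (fun hc => hna fun x hx y hy =>
    congrArg Subtype.val (hc ⟨x, hx⟩ ⟨y, hy⟩))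
  have h3 := main hFT (Nat.card M) M (N1.subgroupOf M) le_rfl h1 h2 (by
    intro x hx
    have := h (x : G) (fun h => hx (mem_subgroupOf.2 (hNN1 h)))
    rwa [Subgroup.orderOf_coe] at this)
  have h4 := h3.map M.subtype
  rw [subgroupOf_map_subtype, inf_eq_left.2 hN1M] at h4
  exact h4.to_le hNN1

end Cfsg.Agent.Lib.PrimePowerOutside
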