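import Cfsg.Agent.Lib.ProA
import Cfsg.Agent.Lib.ProP1

/-! S3399, piece N2, the case where a cover is everything (helper42). -/

set_option autoImplicit false
open scoped Pointwise

namespace Cfsg.Agent.Lib.Pro

section
variable {G Ω : Type} [Group G] [MulAction G Ω] {B : Set (Set Ω)} {f : ℕ}

/-- the case where a cover of a `J`-flat is everything -/
theorem stein4_univ (s : Sit G Ω B f) {J : ℕ} (hJ : 2 ≤ J) (h : ∀ S : Set Ω, S.ncard = J → (cl B S).ncard = J + 1)
    {S : Set Ω} (hS : S.ncard = J) (h2 : (Set.univ : Set Ω).ncard = 2 * (J + 1)) : False := by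
  classical
  haveI := s.fin
  have hf : f = J + 1 := by
    have := s.card
    rw [Set.ncard_univ] at h2
    omega
  -- closures of `J`-sets are blocks
  have hb : ∀ R : Set Ω, R.ncard = J → cl B R ∈ B := by
    intro R hR
    have h3 := h R hR
    have h4 : cl B R ≠ Set.univ := by
      intro h5
      rw [h5] at h3
      omega
    obtain ⟨F, hF, hRF⟩ := ex_block h4
    have h6 : cl B R = F := Set.eq_of_subset_of_ncard_le (cl_sub hF hRF) (by rw [h3, s.bf F hF, hf])
    rw [h6]; exact hF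
  obtain ⟨F, hF⟩ : ∃ F, F ∈ B := ⟨_, hb S hS⟩
  have hFc : F.ncard = J + 1 := by rw [s.bf F hF, hf]
  have hcc : Fᶜ.ncard = J + 1 := by
    have := Set.ncard_add_ncard_compl F
    rw [s.card] at this
    omega
  obtain ⟨b, hbF⟩ : Fᶜ.Nonempty := by
    rw [← Set.ncard_pos]; omega
  have hRc : (Fᶜ \ {b}).ncard = J := by
    rw [Set.ncard_diff_singleton_of_mem hbF, hcc]; rfl
  have hL := hb _ hRc
  have hRL := subset_cl B (Fᶜ \ {b})
  have hLc := h _ hRc
  generalize hLL : cl B (Fᶜ \ {b}) = L at hL hRL hLc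
  obtain ⟨z, hzF, hzL⟩ := s.meet F hF L hL
  have hzR : z ∉ Fᶜ \ {b} := fun h' => h'.1 hzF
  have hLe : insert z (Fᶜ \ {b}) = L := by
    apply Set.eq_of_subset_of_ncard_le (Set.insert_subset hzL hRL)
    rw [Set.ncard_insert_of_notMem hzR, hRc, hLc]
  have hbL : b ∉ L := by
    rw [← hLe]
    rintro (h' | h')
    · exact hbF (h' ▸ hzF)
    · exact h'.2 rfl
  obtain ⟨g, hg, hgb⟩ := s.mv F hF b hbF
  have hgz : g • z = z := (mem_fixingSubgroup_iff G).1 hg z hzF
  have hgc : ∀ x, x ∉ F → g • x ∉ F := by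
    intro x hx hgx
    apply hx
    have h1 := (mem_fixingSubgroup_iff G).1 (inv_mem hg) _ hgx
    rw [inv_smul_smul] at h1
    rw [h1]; exact hgx
  have hgbc : g • b ∉ F := hgc b hbF
  -- the common `J`-set
  have hQ : (insert z ((Fᶜ \ {b}) \ {g • b})).ncard = J := by
    have hmem : g • b ∈ Fᶜ \ {b} := ⟨hgbc, hgb⟩
    rw [Set.ncard_insert_of_notMem (fun h' => hzR h'.1), Set.ncard_diff_singleton_of_mem hmem, hRc]
    omega
  have hQL : insert z ((Fᶜ \ {b}) \ {g • b}) ⊆ L :=
    Set.insert_subset hzL (Set.diff_subset.trans hRL)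
  have hgL : g • L ∈ B := s.inv L hL g
  have hQgL : insert z ((Fᶜ \ {b}) \ {g • b}) ⊆ g • L := by
    apply Set.insert_subset
    · rw [← hgz]; exact Set.smul_mem_smul_set hzL
    · intro x hx
      rw [Set.mem_smul_set_iff_inv_smul_mem]
      apply hRL
      refine ⟨?_, ?_⟩
      · intro h'
        apply hx.1.1
        have h1 := (mem_fixingSubgroup_iff G).1 hg _ h'
        rw [smul_inv_smul] at h1
        rw [h1]; exact h'
      · intro h'
        apply hx.2
        rw [Set.mem_singleton_iff] at h' ⊢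
        rw [← h', smul_inv_smul]
  have e1 : cl B (insert z ((Fᶜ \ {b}) \ {g • b})) = L :=
    Set.eq_of_subset_of_ncard_le (cl_sub hL hQL) (by rw [h _ hQ, hLc])
  have e2 : cl B (insert z ((Fᶜ \ {b}) \ {g • b})) = g • L :=
    Set.eq_of_subset_of_ncard_le (cl_sub hgL hQgL) (by rw [h _ hQ, s.bf _ hgL, hf])
  have e3 : g • L = L := e2.symm.trans e1
  have h1 : g • b ∈ g • L := by
    rw [e3]
    exact hRL ⟨hgbc, hgb⟩
  rw [Set.smul_mem_smul_set_iff] at h1
  exact hbL h1

end
end Cfsg.Agent.Lib.Pro
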