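import Mathlib
import Cfsg.Agent.Lib.Pro0
import Cfsg.Agent.Lib.ProA

/-! S3399, piece N2: the case `f = J + 1` -/

set_option autoImplicit false
set_option linter.all false

open scoped Pointwise

namespace Cfsg.Agent.Lib.Pro

theorem stein4_univ {G Ω : Type} [Group G] [MulAction G Ω] {B : Set (Set Ω)} {f : ℕ} (s : Sit G Ω B f)
    {J : ℕ} (hJ : 1 ≤ J) (h : ∀ S : Set Ω, S.ncard = J → (cl B S).ncard = J + 1) (hf : f = J + 1) :
    False := by
  classical
  have hfin := s.fin
  have huniv : (Set.univ : Set Ω).ncard = 2 * f := by rw [Set.ncard_univ, s.card]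
  have key : ∀ S : Set Ω, S.ncard = J → cl B S ∈ B := by
    intro S hS
    have h1 := h S hS
    obtain ⟨F, hF, hSF⟩ := ex_block (B := B) (A := S) (by
      intro e
      rw [e, huniv] at h1
      omega)
    have h2 : cl B S = F := by
      apply Set.eq_of_subset_of_ncard_le (cl_sub hF hSF)
      rw [h1, s.bf F hF, hf]
    rw [h2]; exact hF
  obtain ⟨F, hF⟩ := s.ne
  have hFc : Fᶜ.ncard = J + 1 := by
    have h1 := Set.ncard_add_ncard_compl F
    rw [s.bf F hF, s.card] at h1
    omega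
  obtain ⟨b, hb⟩ : Fᶜ.Nonempty := by
    rw [Set.nonempty_iff_ne_empty]
    intro e
    rw [e, Set.ncard_empty] at hFc
    omega
  obtain ⟨g, hg, hgb⟩ := s.mv F hF b hb
  have hg' := (mem_fixingSubgroup_iff G).1 hg
  have hgF : ∀ y, g • y ∈ F ↔ y ∈ F := by
    intro y
    constructor
    · intro hy
      have h1 := (mem_fixingSubgroup_iff G).1 (inv_mem hg) _ hy
      rw [inv_smul_smul] at h1
      rwa [← h1] at hy
    · intro hy
      rw [hg' y hy]; exact hy
  have hgbF : g • b ∈ Fᶜ := fun h' => hb ((hgF b).1 h')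
  have hS1 : (Fᶜ \ {b}).ncard = J := by
    rw [Set.ncard_sdiff_singleton_of_mem hb, hFc]; rfl
  have hL := key _ hS1
  have hLc := h _ hS1
  set L := cl B (Fᶜ \ {b}) with hLdef
  obtain ⟨z, hzL, hzF⟩ := s.meet L hL F hF
  have hsub : Fᶜ \ {b} ⊆ L := subset_cl _ _
  have hins : (insert z (Fᶜ \ {b})).ncard = J + 1 := by
    rw [Set.ncard_insert_of_notMem (fun h' => h'.1 hzF), hS1]
  have hLe : insert z (Fᶜ \ {b}) = L := by
    apply Set.eq_of_subset_of_ncard_le (Set.insert_subset hzL hsub)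
    rw [hins, hLc]
  have hbL : b ∉ L := by
    rw [← hLe]
    rintro (h' | h')
    · exact hb (h' ▸ hzF)
    · exact h'.2 rfl
  have hgbL : g • b ∈ L := hsub ⟨hgbF, hgb⟩
  have hgL : g • b ∉ g • L := by
    rw [Set.smul_mem_smul_set_iff]; exact hbL
  have hgLB := s.inv L hL g
  set S2 := insert z (Fᶜ \ {b, g • b}) with hS2
  have hS2L : S2 ⊆ L := by
    rw [← hLe]
    apply Set.insert_subset_insert
    intro y hy
    exact ⟨hy.1, fun h' => hy.2 (Or.inl h')⟩
  have hS2gL : S2 ⊆ g • L := by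
    rintro y (rfl | hy)
    · exact ⟨y, hzL, hg' y hzF⟩
    · refine Set.mem_smul_set_iff_inv_smul_mem.2 (hsub ⟨?_, ?_⟩)
      · intro h'
        apply hy.1
        have := (hgF (g⁻¹ • y)).2 h'
        rwa [smul_inv_smul] at this
      · intro h'
        apply hy.2
        right
        have h'' : g⁻¹ • y = b := h'
        show y = g • b
        rw [← h'', smul_inv_smul]
  have hS2c : S2.ncard = J := by
    have e : Fᶜ \ {b, g • b} = (Fᶜ \ {b}) \ {g • b} := by
      ext y
      simp only [Set.mem_sdiff, Set.mem_insert_iff, Set.mem_singleton_iff]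
      tauto
    have e2 : (Fᶜ \ {b, g • b}).ncard = J - 1 := by
      rw [e, Set.ncard_sdiff_singleton_of_mem (by exact ⟨hgbF, hgb⟩), hS1]
    rw [hS2, Set.ncard_insert_of_notMem (fun h' => h'.1 hzF), e2]
    omega
  have h1 := h S2 hS2c
  have e1 : cl B S2 = L := by
    apply Set.eq_of_subset_of_ncard_le (cl_sub hL hS2L)
    rw [h1, hLc]
  have e2 : cl B S2 = g • L := by
    apply Set.eq_of_subset_of_ncard_le (cl_sub hgLB hS2gL)
    rw [h1, s.bf _ hgLB, hf]
  apply hgL
  rw [← e2, e1]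
  exact hgbL

end Cfsg.Agent.Lib.Pro
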