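import Cfsg.Agent.Lib.Pro0
import Cfsg.Agent.Lib.ProP1

set_option autoImplicit false
set_option linter.all false
open scoped Pointwise

/-! S3399, piece N2: the case where the cover is proper. -/

namespace Cfsg.Agent.Lib.Pro

/-- covers of the closures of `J`-sets -/
theorem steinBlock {G Ω : Type} [Group G] [MulAction G Ω] {B : Set (Set Ω)} {f : ℕ} (s : Sit G Ω B f)
    {J : ℕ} (hJ : 4 ≤ J) (hJf : J ≤ f) (h : ∀ S : Set Ω, S.ncard = J → (cl B S).ncard = J + 1)
    (h2 : ∀ S : Set Ω, S.ncard = J → ∀ D, Cov B (cl B S) D → cl B S ⊂ D → D.ncard = 2 * (J + 1))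
    (S : Set Ω) (hS : S.ncard = J) :
    (∃ F ∈ B, cl B S ⊆ F) ∧ ∀ y, y ∉ cl B S →
      Cov B (cl B S) (cl B (insert y (cl B S))) ∧ (cl B (insert y (cl B S))).ncard = 2 * (J + 1) := by
  haveI := s.fin
  have hc : (cl B S).ncard = J + 1 := h S hS
  have hne : cl B S ≠ Set.univ := by
    intro he
    rw [he, Set.ncard_univ, s.card] at hc
    omega
  have hcc : cl B (cl B S) = cl B S := cl_cl B S
  obtain ⟨F, hF, hSF⟩ : ∃ F ∈ B, cl B S ⊆ F := ex_block (by rw [hcc]; exact hne)
  refine ⟨⟨F, hF, hSF⟩, ?_⟩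
  have hn : (cl B S).Nonempty := by
    rw [← Set.ncard_pos, hc]; omega
  have huniv : cl B (Set.univ : Set Ω) = Set.univ := Set.eq_univ_of_univ_subset (subset_cl B _)
  obtain ⟨E, hE1, hE2, -, -⟩ := ex_cov (B := B) (A := cl B S) (D := Set.univ) hcc huniv (Set.ssubset_univ_iff.2 hne)
  have hE3 : E.ncard = 2 * (cl B S).ncard := by rw [h2 S hS E hE1 hE2, hc]
  intro y hy
  have := cov_eq s hn hF hSF hcc hE1 hE3 y hy
  rwa [hc] at this

theorem stein4_ne {G Ω : Type} [Group G] [MulAction G Ω] {B : Set (Set Ω)} {f : ℕ} (s : Sit G Ω B f)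
    {J : ℕ} (hJ : 4 ≤ J) (hJf : J ≤ f) (h : ∀ S : Set Ω, S.ncard = J → (cl B S).ncard = J + 1)
    (h2 : ∀ S : Set Ω, S.ncard = J → ∀ D, Cov B (cl B S) D → cl B S ⊂ D → D.ncard = 2 * (J + 1))
    (S : Set Ω) (hS : S.ncard = J) (D : Set Ω) (hD : Cov B (cl B S) D) (hSD : cl B S ⊂ D) (hDu : D ≠ Set.univ) :
    False := by
  classical
  haveI := s.fin
  letI : Fintype Ω := Fintype.ofFinite Ω
  have blk := steinBlock s hJ hJf h h2
  have hDc : D.ncard = 2 * (J + 1) := h2 S hS D hD hSD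
  -- `D` is a flat
  have hDcl : cl B D = D := by
    obtain ⟨x, hx, hxn⟩ := Set.exists_of_ssubset hSD
    have := hD.2 x hx hxn
    rw [← this, cl_cl]
  have huniv : cl B (Set.univ : Set Ω) = Set.univ := Set.eq_univ_of_univ_subset (subset_cl B _)
  obtain ⟨F, hF, hDF⟩ : ∃ F ∈ B, D ⊆ F := ex_block (by rw [hDcl]; exact hDu)
  obtain ⟨D1, hD1, hDD1, -, hD1cl⟩ := ex_cov (B := B) (A := D) (D := Set.univ) hDcl huniv (Set.ssubset_univ_iff.2 hDu)
  have hDn : D.Nonempty := by
    rw [← Set.ncard_pos, hDc]; omega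
  have hD1c : D1.ncard ≤ 2 * (2 * (J + 1)) := by
    have := cov_card s hDn hF hDF hDcl hD1
    rwa [hDc] at this
  obtain ⟨b2, hb2, hb2n⟩ := Set.exists_of_ssubset hDD1
  -- `S'`
  obtain ⟨S', hS'S, hS'c⟩ : ∃ S' ⊆ S, S'.ncard = J - 1 := Set.exists_subset_card_eq (by omega)
  have hS'D : S' ⊆ D := hS'S.trans ((subset_cl B S).trans hSD.subset)
  have hins : ∀ b, b ∉ S' → (insert b S').ncard = J := by
    intro b hb
    rw [Set.ncard_insert_of_notMem hb, hS'c]; omega
  have hb2S : b2 ∉ S' := fun hb => hb2n (hS'D hb)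
  set C2 := cl B (insert b2 S') with hC2
  have hC2c : C2.ncard = J + 1 := h _ (hins b2 hb2S)
  have hS'C2 : S' ⊆ C2 := (Set.subset_insert _ _).trans (subset_cl B _)
  have hb2C2 : b2 ∈ C2 := subset_cl B _ (Set.mem_insert _ _)
  have hC2D1 : C2 ⊆ D1 := by
    rw [← hD1cl]
    exact cl_mono B (Set.insert_subset hb2 (hS'D.trans hDD1.subset))
  -- the closures of `J`-sets are determined by `J` of their points
  have det : ∀ b c, b ∉ S' → c ∉ S' → c ∈ cl B (insert b S') → cl B (insert c S') = cl B (insert b S') := by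
    intro b c hb hc hcb
    refine Set.eq_of_subset_of_ncard_le ?_ ?_ (Set.toFinite _)
    · exact cl_le (Set.insert_subset hcb ((Set.subset_insert _ _).trans (subset_cl B _)))
    · rw [h _ (hins b hb), h _ (hins c hc)]
  have hC2D : ∀ y ∈ D, y ∉ S' → y ∉ C2 := by
    intro y hy hyS hyC
    have h3 : cl B (insert y S') = C2 := det b2 y hb2S hyS hyC
    apply hb2n
    have h4 : cl B (insert y S') ⊆ D := by
      rw [← hDcl]
      exact cl_mono B (Set.insert_subset hy hS'D)
    exact h4 (h3 ▸ hb2C2)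
  -- parts
  obtain ⟨-, hL⟩ := blk _ (hins b2 hb2S)
  rw [← hC2] at hL
  have hLsame : ∀ y z, y ∉ C2 → z ∈ cl B (insert y C2) → z ∉ C2 → cl B (insert z C2) = cl B (insert y C2) :=
    fun y z hy hz hzC => (hL y hy).1.2 z hz hzC
  have hself : ∀ y, y ∈ cl B (insert y C2) := fun y => subset_cl B _ (Set.mem_insert _ _)
  -- a part meets `D \ S'` in at most two points
  have htwo : ∀ y ∈ D, y ∉ S' → (cl B (insert y C2) ∩ (D \ S')).ncard ≤ 2 := by
    intro y hy hyS
    have hyC : y ∉ C2 := hC2D y hy hyS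
    set C3 := cl B (insert y S') with hC3
    have hC3c : C3.ncard = J + 1 := h _ (hins y hyS)
    have hC3L : C3 ⊆ cl B (insert y C2) := cl_mono B (Set.insert_subset_insert hS'C2)
    have hC3D : C3 ⊆ D := by
      rw [← hDcl]
      exact cl_mono B (Set.insert_subset hy hS'D)
    have hS'C3 : S' ⊆ C3 := (Set.subset_insert _ _).trans (subset_cl B _)
    obtain ⟨-, hL3⟩ := blk _ (hins y hyS)
    rw [← hC3] at hL3
    have hsub : cl B (insert y C2) ∩ (D \ S') ⊆ C3 \ S' := by
      rintro z ⟨hz1, hz2, hz3⟩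
      refine ⟨?_, hz3⟩
      by_contra hzC
      have h3 : cl B (insert z C3) = D := by
        refine Set.eq_of_subset_of_ncard_le ?_ ?_ (Set.toFinite _)
        · rw [← hDcl]
          exact cl_mono B (Set.insert_subset hz2 hC3D)
        · rw [(hL3 z hzC).2, hDc]
      have h4 : D ⊆ cl B (insert y C2) := by
        rw [← h3]
        exact cl_le (Set.insert_subset hz1 hC3L)
      have h5 : D = cl B (insert y C2) := by
        refine Set.eq_of_subset_of_ncard_le h4 ?_ (Set.toFinite _)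
        rw [(hL y hyC).2, hDc]
      apply hb2n
      rw [h5]
      exact subset_cl B _ (Set.mem_insert_of_mem _ hb2C2)
    refine (Set.ncard_le_ncard hsub).trans ?_
    rw [Set.ncard_diff hS'C3, hC3c, hS'c]
    omega
  -- double counting
  have key := Finset.card_mul_le_card_mul (s := (D \ S').toFinset) (t := (D1 \ C2).toFinset)
    (fun y z => z ∈ cl B (insert y C2)) (m := J + 1) (n := 2) ?_ ?_
  · rw [← Set.ncard_eq_toFinset_card', ← Set.ncard_eq_toFinset_card', Set.ncard_diff hS'D, Set.ncard_diff hC2D1,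
      hDc, hS'c, hC2c] at key
    have h3 : D1.ncard - (J + 1) ≤ 3 * (J + 1) := by omega
    have h4 : (2 * (J + 1) - (J - 1)) * (J + 1) ≤ 6 * (J + 1) := by
      calc _ ≤ (D1.ncard - (J + 1)) * 2 := key
        _ ≤ (3 * (J + 1)) * 2 := Nat.mul_le_mul_right _ h3
        _ = _ := by ring
    have h5 := Nat.le_of_mul_le_mul_right h4 (by omega)
    omega
  · intro y hy
    rw [Set.mem_toFinset] at hy
    have hyC : y ∉ C2 := hC2D y hy.1 hy.2
    have hsub : (cl B (insert y C2) \ C2).toFinset ⊆ (D1 \ C2).toFinset.bipartiteAbove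
        (fun y z => z ∈ cl B (insert y C2)) y := by
      intro z hz
      rw [Set.mem_toFinset] at hz
      rw [Finset.mem_bipartiteAbove, Set.mem_toFinset]
      refine ⟨⟨?_, hz.2⟩, hz.1⟩
      have h3 : cl B (insert y C2) ⊆ D1 := by
        rw [← hD1cl]
        exact cl_le (Set.insert_subset (subset_cl B _ (hDD1.subset hy.1)) (hC2D1.trans (subset_cl B _)))
      exact h3 hz.1
    have h3 := Finset.card_le_card hsub
    rw [← Set.ncard_eq_toFinset_card', Set.ncard_diff ((Set.subset_insert _ _).trans (subset_cl B _)),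
      (hL y hyC).2, hC2c] at h3
    omega
  · intro z hz
    rw [Set.mem_toFinset] at hz
    rcases Finset.eq_empty_or_nonempty ((D \ S').toFinset.bipartiteBelow (fun y z => z ∈ cl B (insert y C2)) z) with h3 | ⟨y0, hy0⟩
    · rw [h3]; simp
    · rw [Finset.mem_bipartiteBelow, Set.mem_toFinset] at hy0
      have hy0C : y0 ∉ C2 := hC2D y0 hy0.1.1 hy0.1.2
      have hz0 := hLsame y0 z hy0C hy0.2 hz.2
      have hsub : (D \ S').toFinset.bipartiteBelow (fun y z => z ∈ cl B (insert y C2)) z ⊆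
          (cl B (insert y0 C2) ∩ (D \ S')).toFinset := by
        intro y hy
        rw [Finset.mem_bipartiteBelow, Set.mem_toFinset] at hy
        rw [Set.mem_toFinset]
        refine ⟨?_, hy.1⟩
        have h4 := hLsame y z (hC2D y hy.1.1 hy.1.2) hy.2 hz.2
        rw [← hz0, h4]
        exact hself y
      refine (Finset.card_le_card hsub).trans ?_
      rw [← Set.ncard_eq_toFinset_card']
      exact htwo y0 hy0.1.1 hy0.1.2

end Cfsg.Agent.Lib.Pro
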