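import Mathlib
import Cfsg.Agent.Lib.Pro0
import Cfsg.Agent.Lib.ProA
import Cfsg.Agent.Lib.ProP1

/-! S3399, piece N2 -/

set_option autoImplicit false
set_option linter.all false

open scoped Pointwise

namespace Cfsg.Agent.Lib.Pro

theorem N2z.univ {G Ω : Type} [Group G] [MulAction G Ω] {B : Set (Set Ω)} {f : ℕ} (s : Sit G Ω B f)
    {J : ℕ} (hJ : 1 ≤ J) (h : ∀ S : Set Ω, S.ncard = J → (cl B S).ncard = J + 1) (hf : f = J + 1) :
    False := by
  classical
  have hfin := s.fin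
  have huniv : (Set.univ : Set Ω).ncard = 2 * f := by rw [Set.ncard_univ, s.card]
  have key : ∀ S : Set Ω, S.ncard = J → cl B S ∈ B := by
    intro S hS
    have h1 := h S hS
    obtain ⟨F, hF, hSF⟩ := ex_block (B := B) (A := S) (by
      intro e
      rw [e, huniv] at h1
      omega)
    have h2 : cl B S = F := by
      apply Set.eq_of_subset_of_ncard_le (cl_sub hF hSF)
      rw [h1, s.bf F hF, hf]
    rw [h2]; exact hF
  obtain ⟨F, hF⟩ := s.ne
  have hFc : Fᶜ.ncard = J + 1 := by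
    have h1 := Set.ncard_add_ncard_compl F
    rw [s.bf F hF, s.card] at h1
    omega
  obtain ⟨b, hb⟩ : Fᶜ.Nonempty := by
    rw [Set.nonempty_iff_ne_empty]
    intro e
    rw [e, Set.ncard_empty] at hFc
    omega
  obtain ⟨g, hg, hgb⟩ := s.mv F hF b hb
  have hg' := (mem_fixingSubgroup_iff G).1 hg
  have hgF : ∀ y, g • y ∈ F ↔ y ∈ F := by
    intro y
    constructor
    · intro hy
      have h1 := (mem_fixingSubgroup_iff G).1 (inv_mem hg) _ hy
      rw [inv_smul_smul] at h1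
      rwa [← h1] at hy
    · intro hy
      rw [hg' y hy]; exact hy
  have hgbF : g • b ∈ Fᶜ := fun h' => hb ((hgF b).1 h')
  have hS1 : (Fᶜ \ {b}).ncard = J := by
    rw [Set.ncard_sdiff_singleton_of_mem hb, hFc]; rfl
  have hL := key _ hS1
  have hLc := h _ hS1
  set L := cl B (Fᶜ \ {b}) with hLdef
  obtain ⟨z, hzL, hzF⟩ := s.meet L hL F hF
  have hsub : Fᶜ \ {b} ⊆ L := subset_cl _ _
  have hins : (insert z (Fᶜ \ {b})).ncard = J + 1 := by
    rw [Set.ncard_insert_of_notMem (fun h' => h'.1 hzF), hS1]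
  have hLe : insert z (Fᶜ \ {b}) = L := by
    apply Set.eq_of_subset_of_ncard_le (Set.insert_subset hzL hsub)
    rw [hins, hLc]
  have hbL : b ∉ L := by
    rw [← hLe]
    rintro (h' | h')
    · exact hb (h' ▸ hzF)
    · exact h'.2 rfl
  have hgbL : g • b ∈ L := hsub ⟨hgbF, hgb⟩
  have hgL : g • b ∉ g • L := by
    rw [Set.smul_mem_smul_set_iff]; exact hbL
  have hgLB := s.inv L hL g
  set S2 := insert z (Fᶜ \ {b, g • b}) with hS2
  have hS2L : S2 ⊆ L := by
    rw [← hLe]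
    apply Set.insert_subset_insert
    intro y hy
    exact ⟨hy.1, fun h' => hy.2 (Or.inl h')⟩
  have hS2gL : S2 ⊆ g • L := by
    rintro y (rfl | hy)
    · exact ⟨y, hzL, hg' y hzF⟩
    · refine Set.mem_smul_set_iff_inv_smul_mem.2 (hsub ⟨?_, ?_⟩)
      · intro h'
        apply hy.1
        have := (hgF (g⁻¹ • y)).2 h'
        rwa [smul_inv_smul] at this
      · intro h'
        apply hy.2
        right
        have h'' : g⁻¹ • y = b := h'
        show y = g • b
        rw [← h'', smul_inv_smul]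
  have hS2c : S2.ncard = J := by
    have e : Fᶜ \ {b, g • b} = (Fᶜ \ {b}) \ {g • b} := by
      ext y
      simp only [Set.mem_sdiff, Set.mem_insert_iff, Set.mem_singleton_iff]
      tauto
    have e2 : (Fᶜ \ {b, g • b}).ncard = J - 1 := by
      rw [e, Set.ncard_sdiff_singleton_of_mem (by exact ⟨hgbF, hgb⟩), hS1]
    rw [hS2, Set.ncard_insert_of_notMem (fun h' => h'.1 hzF), e2]
    omega
  have h1 := h S2 hS2c
  have e1 : cl B S2 = L := by
    apply Set.eq_of_subset_of_ncard_le (cl_sub hL hS2L)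
    rw [h1, hLc]
  have e2 : cl B S2 = g • L := by
    apply Set.eq_of_subset_of_ncard_le (cl_sub hgLB hS2gL)
    rw [h1, s.bf _ hgLB, hf]
  apply hgL
  rw [← e2, e1]
  exact hgbL


theorem N2z.pick {Ω : Type} [Finite Ω] (X : Set Ω) (P : Ω → Set Ω) (hX : 7 ≤ X.ncard)
    (hP : ∀ b, (P b ∩ X).ncard ≤ 2) :
    ∃ b1 ∈ X, ∃ b2 ∈ X, ∃ b3 ∈ X, ∃ b4 ∈ X, b2 ∉ P b1 ∧ b3 ∉ P b1 ∧ b3 ∉ P b2 ∧ b4 ∉ P b1 ∧
      b4 ∉ P b2 ∧ b4 ∉ P b3 := by
  classical
  have step : ∀ a b c : Ω, ∃ d ∈ X, d ∉ P a ∧ d ∉ P b ∧ d ∉ P c := by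
    intro a b c
    by_contra hno
    push Not at hno
    have hsub : X ⊆ (P a ∩ X) ∪ (P b ∩ X) ∪ (P c ∩ X) := by
      intro d hd
      by_cases h1 : d ∈ P a
      · exact Or.inl (Or.inl ⟨h1, hd⟩)
      · by_cases h2 : d ∈ P b
        · exact Or.inl (Or.inr ⟨h2, hd⟩)
        · exact Or.inr ⟨hno d hd h1 h2, hd⟩
    have h1 := Set.ncard_le_ncard hsub (Set.toFinite _)
    have h2 := Set.ncard_union_le ((P a ∩ X) ∪ (P b ∩ X)) (P c ∩ X)
    have h3 := Set.ncard_union_le (P a ∩ X) (P b ∩ X)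
    have := hP a
    have := hP b
    have := hP c
    omega
  obtain ⟨b1, hb1⟩ : X.Nonempty := by
    rw [Set.nonempty_iff_ne_empty]; rintro rfl; simp at hX
  obtain ⟨b2, hb2, h21, -, -⟩ := step b1 b1 b1
  obtain ⟨b3, hb3, h31, h32, -⟩ := step b1 b2 b2
  obtain ⟨b4, hb4, h41, h42, h43⟩ := step b1 b2 b3
  exact ⟨b1, hb1, b2, hb2, b3, hb3, b4, hb4, h21, h31, h32, h41, h42, h43⟩

theorem N2z.stein4 {G Ω : Type} [Group G] [MulAction G Ω] {B : Set (Set Ω)} {f : ℕ} (s : Sit G Ω B f)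
    {J : ℕ} (hJ : 4 ≤ J) (hJf : J ≤ f) (h : ∀ S : Set Ω, S.ncard = J → (cl B S).ncard = J + 1)
    (h2 : ∀ S : Set Ω, S.ncard = J → ∀ D, Cov B (cl B S) D → cl B S ⊂ D → D.ncard = 2 * (J + 1)) : False := by
  classical
  have hfin := s.fin
  have huniv : (Set.univ : Set Ω).ncard = 2 * f := by rw [Set.ncard_univ, s.card]
  have hclu : cl B (Set.univ : Set Ω) = Set.univ := Set.eq_univ_of_univ_subset (subset_cl _ _)
  -- covers of closures of J-sets
  have hcov : ∀ S : Set Ω, S.ncard = J → ∀ y, y ∉ cl B S →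
      Cov B (cl B S) (cl B (insert y (cl B S))) ∧ (cl B (insert y (cl B S))).ncard = 2 * (J + 1) := by
    intro S hS y hy
    have h1 := h S hS
    have hne : cl B S ≠ Set.univ := by
      intro e; rw [e, huniv] at h1; omega
    obtain ⟨F, hF, hSF⟩ := ex_block (B := B) (A := S) hne
    have hSne : (cl B S).Nonempty := by
      rw [Set.nonempty_iff_ne_empty]; intro e; rw [e, Set.ncard_empty] at h1; omega
    obtain ⟨E, hE1, hE2, -, -⟩ := ex_cov (cl_cl B S) hclu (Set.ssubset_univ_iff.2 hne)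
    have hEc := h2 S hS E hE1 hE2
    have := cov_eq s hSne hF (cl_sub hF hSF) (cl_cl B S) hE1 (by rw [hEc, h1]) y hy
    rw [h1] at this
    exact this
  -- a (J-1)-set and a point outside
  obtain ⟨S', hS'⟩ : ∃ S' : Set Ω, S'.ncard = J - 1 := by
    obtain ⟨t, -, ht⟩ := Set.exists_subset_card_eq (s := (Set.univ : Set Ω)) (n := J - 1)
      (by rw [huniv]; omega)
    exact ⟨t, ht⟩
  have hS'ins : ∀ b, b ∉ S' → (insert b S').ncard = J := by
    intro b hb
    rw [Set.ncard_insert_of_notMem hb, hS']; omega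
  obtain ⟨b0, hb0⟩ : ∃ b0, b0 ∉ S' := by
    by_contra hno
    push Not at hno
    have : S' = Set.univ := Set.eq_univ_of_forall hno
    rw [this, huniv] at hS'
    omega
  have hC := hS'ins b0 hb0
  have hCc := h _ hC
  set C := cl B (insert b0 S') with hCdef
  have hCne : C ≠ Set.univ := by
    intro e; rw [e, huniv] at hCc; omega
  obtain ⟨D, hD1, hD2, -, hDc⟩ := ex_cov (cl_cl B (insert b0 S')) hclu (Set.ssubset_univ_iff.2 hCne)
  have hDcard := h2 _ hC D hD1 hD2
  have hS'D : S' ⊆ D := (Set.subset_insert _ _).trans ((subset_cl B _).trans hD1.1)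
  by_cases hDu : D = Set.univ
  · apply N2z.univ s (by omega) h
    rw [hDu, huniv] at hDcard
    omega
  obtain ⟨F, hF, hDF⟩ := ex_block (B := B) (A := D) (by rw [hDc]; exact hDu)
  obtain ⟨D1, hD11, hD12, -, hD1c⟩ := ex_cov hDc hclu (Set.ssubset_univ_iff.2 hDu)
  have hDne : D.Nonempty := by
    rw [Set.nonempty_iff_ne_empty]; intro e; rw [e, Set.ncard_empty] at hDcard; omega
  have hD1card := cov_card s hDne hF hDF hDc hD11
  obtain ⟨b2, hb2, hb2D⟩ := Set.exists_of_ssubset hD12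
  have hb2S : b2 ∉ S' := fun h' => hb2D (hS'D h')
  have hC2 := hS'ins b2 hb2S
  have hC2c := h _ hC2
  have hC2cov := hcov _ hC2
  set C2 := cl B (insert b2 S') with hC2def
  have hC2D1 : C2 ⊆ D1 := by
    rw [← hD1c]
    apply cl_mono
    exact Set.insert_subset hb2 (hS'D.trans hD11.1)
  have hC2D : ∀ y ∈ C2, y ∈ D → y ∈ S' := by
    intro y hy hyD
    by_contra hyS
    have e0 : cl B (insert y S') ⊆ C2 := by
      apply cl_le
      exact Set.insert_subset hy ((Set.subset_insert _ _).trans (subset_cl B _))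
    have e : cl B (insert y S') = C2 := by
      apply Set.eq_of_subset_of_ncard_le e0
      rw [h _ (hS'ins y hyS), hC2c]
    have : C2 ⊆ D := by
      rw [← e, ← hDc]
      exact cl_mono B (Set.insert_subset hyD hS'D)
    exact hb2D (this (subset_cl B _ (Set.mem_insert _ _)))
  -- choose four points
  have hX : 7 ≤ (D \ S').ncard := by
    have h1 := Set.ncard_sdiff hS'D (Set.toFinite S')
    rw [h1, hDcard, hS']
    omega
  have hP : ∀ b, (cl B (insert b S') ∩ (D \ S')).ncard ≤ 2 := by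
    intro b
    by_cases hb : b ∈ S'
    · -- `b ∈ S'`: closure of `S'` is contained in a set of size `J+1`
      have hsub : cl B (insert b S') ∩ (D \ S') ⊆ C2 \ S' := by
        rintro y ⟨hy, -, hy'⟩
        refine ⟨?_, hy'⟩
        have : cl B (insert b S') ⊆ C2 := by
          rw [Set.insert_eq_of_mem hb]
          exact cl_mono B (Set.subset_insert _ _)
        exact this hy
      have h1 := Set.ncard_le_ncard hsub (Set.toFinite _)
      have h3 := Set.ncard_sdiff ((Set.subset_insert _ _).trans (subset_cl B _) : S' ⊆ C2) (Set.toFinite S')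
      omega
    · have hsub : cl B (insert b S') ∩ (D \ S') ⊆ cl B (insert b S') \ S' := by
        rintro y ⟨hy, -, hy'⟩
        exact ⟨hy, hy'⟩
      have h1 := Set.ncard_le_ncard hsub (Set.toFinite _)
      have h3 := Set.ncard_sdiff ((Set.subset_insert _ _).trans (subset_cl B _) : S' ⊆ cl B (insert b S'))
        (Set.toFinite S')
      have h4 := h _ (hS'ins b hb)
      omega
  obtain ⟨a1, ha1, a2, ha2, a3, ha3, a4, ha4, h21, h31, h32, h41, h42, h43⟩ :=
    N2z.pick (D \ S') (fun b => cl B (insert b S')) hX hP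
  -- the covers
  have hnC2 : ∀ a ∈ D \ S', a ∉ C2 := fun a ha h' => ha.2 (hC2D a h' ha.1)
  let L : Ω → Set Ω := fun a => cl B (insert a C2)
  have hLsub : ∀ a ∈ D \ S', L a ⊆ D1 := by
    intro a ha
    show cl B (insert a C2) ⊆ D1
    rw [← hD1c]
    exact cl_mono B (Set.insert_subset (hD11.1 ha.1) hC2D1)
  have hC2L : ∀ a, C2 ⊆ L a := fun a => (Set.subset_insert _ _).trans (subset_cl B _)
  have hLcard : ∀ a ∈ D \ S', (L a \ C2).ncard = J + 1 := by
    intro a ha
    have h1 := (hC2cov a (hnC2 a ha)).2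
    have h3 := Set.ncard_sdiff (hC2L a) (Set.toFinite C2)
    rw [h3]
    show (cl B (insert a C2)).ncard - C2.ncard = J + 1
    omega
  have hdisj : ∀ a ∈ D \ S', ∀ a' ∈ D \ S', a' ∉ cl B (insert a S') → Disjoint (L a \ C2) (L a' \ C2) := by
    intro a ha a' ha' hn
    rw [Set.disjoint_left]
    rintro y ⟨hy, hyC⟩ ⟨hy', -⟩
    have e1 : cl B (insert y C2) = L a := (hC2cov a (hnC2 a ha)).1.2 y hy hyC
    have e2 : cl B (insert y C2) = L a' := (hC2cov a' (hnC2 a' ha')).1.2 y hy' hyC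
    have e3 : L a = L a' := e1.symm.trans e2
    have hLc : cl B (L a) = L a := cl_cl B _
    have haL : a ∈ L a := subset_cl B _ (Set.mem_insert _ _)
    have ha'L : a' ∈ L a := by rw [e3]; exact subset_cl B _ (Set.mem_insert _ _)
    have hS'L : S' ⊆ L a := ((Set.subset_insert _ _).trans (subset_cl B _)).trans (hC2L a)
    have hE := hcov _ (hS'ins a ha.2) a' hn
    have hE1 : cl B (insert a' (cl B (insert a S'))) ⊆ L a := by
      rw [← hLc]
      apply cl_mono
      apply Set.insert_subset ha'L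
      rw [← hLc]
      exact cl_mono B (Set.insert_subset haL hS'L)
    have hE2 : cl B (insert a' (cl B (insert a S'))) ⊆ D := by
      rw [← hDc]
      apply cl_mono
      apply Set.insert_subset ha'.1
      rw [← hDc]
      exact cl_mono B (Set.insert_subset ha.1 hS'D)
    have e4 : cl B (insert a' (cl B (insert a S'))) = L a := by
      apply Set.eq_of_subset_of_ncard_le hE1
      rw [hE.2]
      exact (hC2cov a (hnC2 a ha)).2.le
    have e5 : cl B (insert a' (cl B (insert a S'))) = D := by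
      apply Set.eq_of_subset_of_ncard_le hE2
      rw [hE.2, hDcard]
    apply hb2D
    rw [← e5, e4]
    exact hC2L a (subset_cl B _ (Set.mem_insert _ _))
  have hd12 := hdisj a1 ha1 a2 ha2 h21
  have hd13 := hdisj a1 ha1 a3 ha3 h31
  have hd23 := hdisj a2 ha2 a3 ha3 h32
  have hd14 := hdisj a1 ha1 a4 ha4 h41
  have hd24 := hdisj a2 ha2 a4 ha4 h42
  have hd34 := hdisj a3 ha3 a4 ha4 h43
  have hU : ((L a1 \ C2) ∪ (L a2 \ C2) ∪ (L a3 \ C2) ∪ (L a4 \ C2)).ncard = 4 * (J + 1) := by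
    rw [Set.ncard_union_eq (by
        rw [Set.disjoint_union_left, Set.disjoint_union_left]; exact ⟨⟨hd14, hd24⟩, hd34⟩),
      Set.ncard_union_eq (by rw [Set.disjoint_union_left]; exact ⟨hd13, hd23⟩),
      Set.ncard_union_eq hd12, hLcard a1 ha1, hLcard a2 ha2, hLcard a3 ha3, hLcard a4 ha4]
    ring
  have hUsub : (L a1 \ C2) ∪ (L a2 \ C2) ∪ (L a3 \ C2) ∪ (L a4 \ C2) ⊆ D1 \ C2 := by
    rintro y (((hy | hy) | hy) | hy)
    · exact ⟨hLsub a1 ha1 hy.1, hy.2⟩
    · exact ⟨hLsub a2 ha2 hy.1, hy.2⟩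
    · exact ⟨hLsub a3 ha3 hy.1, hy.2⟩
    · exact ⟨hLsub a4 ha4 hy.1, hy.2⟩
  have h5 := Set.ncard_le_ncard hUsub (Set.toFinite _)
  have h6 := Set.ncard_sdiff hC2D1 (Set.toFinite C2)
  have h7 := Set.ncard_le_ncard hC2D1 (Set.toFinite D1)
  omega

end Cfsg.Agent.Lib.Pro
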