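import Mathlib
import Cfsg.Agent.Lib.Pro0

set_option autoImplicit false
set_option linter.all false

open scoped Pointwise

namespace Cfsg.Agent.Lib.ProQ12
open Cfsg.Agent.Lib.Pro

theorem exch {Ω : Type} [Finite Ω] {B : Set (Set Ω)} (h : ∀ S : Set Ω, S.ncard = 3 → (cl B S).ncard = 4)
    {S S' : Set Ω} (hS : S.ncard = 3) (hS' : S'.ncard = 3) (hs : S' ⊆ cl B S) : cl B S' = cl B S :=
  Set.eq_of_subset_of_ncard_le (cl_le hs) (by rw [h _ hS, h _ hS']) (Set.toFinite _)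

theorem three {Ω : Type} {a x y : Ω} (h1 : x ≠ a) (h2 : y ≠ a) (h3 : y ≠ x) : ({a, x, y} : Set Ω).ncard = 3 := by
  rw [Set.ncard_eq_three]
  exact ⟨a, x, y, h1.symm, h2.symm, h3.symm, rfl⟩

/-- the involution -/
theorem ex_sig {Ω : Type} [Finite Ω] {B : Set (Set Ω)} (h : ∀ S : Set Ω, S.ncard = 3 → (cl B S).ncard = 4)
    {a x : Ω} (hxa : x ≠ a) : ∃ σ : Ω → Ω, ∀ y, y ≠ a → y ≠ x →
      (σ y ≠ a ∧ σ y ≠ x ∧ σ y ≠ y) ∧ cl B {a, x, y} = {a, x, y, σ y} ∧ σ (σ y) = y ∧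
        (∀ F ∈ B, a ∈ F → x ∉ F → y ∈ F → σ y ∉ F) ∧ (∀ F ∈ B, a ∈ F → x ∈ F → y ∈ F → σ y ∈ F) := by
  classical
  have h1 : ∀ y, ∃ z, y ≠ a → y ≠ x → (z ≠ a ∧ z ≠ x ∧ z ≠ y) ∧ cl B {a, x, y} = {a, x, y, z} := by
    intro y
    by_cases hy : y ≠ a ∧ y ≠ x
    · have h2 := three hxa hy.1 hy.2
      have h3 := h _ h2
      have h4 : (cl B {a, x, y} \ {a, x, y}).ncard = 1 := by
        rw [Set.ncard_diff (subset_cl _ _) (Set.toFinite _), h3, h2]
      obtain ⟨z, hz⟩ := Set.ncard_eq_one.1 h4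
      have h5 : z ∈ cl B {a, x, y} \ {a, x, y} := by rw [hz]; rfl
      have h6 : z ≠ a ∧ z ≠ x ∧ z ≠ y := by
        have := h5.2
        simp only [Set.mem_insert_iff, Set.mem_singleton_iff, not_or] at this
        exact this
      refine ⟨z, fun _ _ => ⟨h6, ?_⟩⟩
      have h7 : cl B {a, x, y} = {a, x, y} ∪ (cl B {a, x, y} \ {a, x, y}) := (Set.union_diff_cancel (subset_cl _ _)).symm
      rw [h7, hz]
      ext w
      simp only [Set.mem_union, Set.mem_insert_iff, Set.mem_singleton_iff]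
      tauto
    · exact ⟨y, fun h2 h3 => absurd ⟨h2, h3⟩ hy⟩
  choose σ hσ using h1
  refine ⟨σ, fun y hya hyx => ?_⟩
  obtain ⟨⟨k1, k2, k3⟩, k4⟩ := hσ y hya hyx
  obtain ⟨⟨l1, l2, l3⟩, l4⟩ := hσ (σ y) k1 k2
  have k5 : cl B {a, x, σ y} = cl B {a, x, y} := by
    apply exch h (three hxa hya hyx) (three hxa k1 k2)
    rw [k4]
    intro w hw
    simp only [Set.mem_insert_iff, Set.mem_singleton_iff] at hw ⊢
    tauto
  refine ⟨⟨k1, k2, k3⟩, k4, ?_, ?_, ?_⟩
  · have h6 : σ (σ y) ∈ cl B {a, x, σ y} := by rw [l4]; simp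
    rw [k5, k4] at h6
    simp only [Set.mem_insert_iff, Set.mem_singleton_iff] at h6
    tauto
  · intro F hF ha hx hy hs
    apply hx
    have h6 : cl B {a, y, σ y} = cl B {a, x, y} := by
      apply exch h (three hxa hya hyx) (three hya k1 k3)
      rw [k4]
      intro w hw
      simp only [Set.mem_insert_iff, Set.mem_singleton_iff] at hw ⊢
      tauto
    have h7 : x ∈ cl B {a, y, σ y} := by rw [h6]; exact subset_cl _ _ (by simp)
    apply cl_sub hF _ h7
    intro w hw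
    simp only [Set.mem_insert_iff, Set.mem_singleton_iff] at hw
    rcases hw with rfl | rfl | rfl <;> assumption
  · intro F hF ha hx hy
    have h7 : σ y ∈ cl B {a, x, y} := by rw [k4]; simp
    apply cl_sub hF _ h7
    intro w hw
    simp only [Set.mem_insert_iff, Set.mem_singleton_iff] at hw
    rcases hw with rfl | rfl | rfl <;> assumption

theorem half {G Ω : Type} [Group G] [MulAction G Ω] {B : Set (Set Ω)} {f : ℕ} (s : Sit G Ω B f)
    (h : ∀ S : Set Ω, S.ncard = 3 → (cl B S).ncard = 4) {F F' : Set Ω} (hF : F ∈ B) (hF' : F' ∈ B) (hne : F ≠ F') :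
    2 * (F ∩ F').ncard = f := by
  classical
  haveI := s.fin
  obtain ⟨a, ha, ha'⟩ := s.meet F hF F' hF'
  have h1 : ∃ x ∈ F, x ∉ F' := by
    by_contra hcon
    push_neg at hcon
    exact hne (Set.eq_of_subset_of_ncard_le hcon (by rw [s.bf F hF, s.bf F' hF']) (Set.toFinite _))
  obtain ⟨x, hx, hx'⟩ := h1
  have hxa : x ≠ a := by rintro rfl; exact hx' ha'
  obtain ⟨σ, hσ⟩ := ex_sig h hxa
  -- (1)
  have h2 : ∀ y, y ∉ F' → y ≠ x → σ y ∈ F' := by
    intro y hy hyx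
    by_contra hcon
    have hya : y ≠ a := by rintro rfl; exact hy ha'
    have h3 : (F' \ {a}).ncard ≤ ((F'ᶜ \ {x}) \ {y}).ncard := by
      apply Set.ncard_le_ncard_of_injOn σ
      · rintro z ⟨hz, hza⟩
        have hza' : z ≠ a := hza
        have hzx : z ≠ x := by rintro rfl; exact hx' hz
        obtain ⟨⟨m1, m2, m3⟩, m4, m5, m6, m7⟩ := hσ z hza' hzx
        refine ⟨⟨m6 F' hF' ha' hx' hz, m2⟩, ?_⟩
        intro h4
        have h5 : σ z = y := h4
        rw [h5] at m5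
        rw [m5] at hcon
        exact hcon hz
      · rintro z ⟨hz, hza⟩ z' ⟨hz', hza'⟩ hzz
        have hzx : z ≠ x := by rintro rfl; exact hx' hz
        have hzx' : z' ≠ x := by rintro rfl; exact hx' hz'
        rw [← (hσ z hza hzx).2.2.1, ← (hσ z' hza' hzx').2.2.1, hzz]
    rw [Set.ncard_diff_singleton_of_mem ha', Set.ncard_diff_singleton_of_mem (show y ∈ F'ᶜ \ {x} from ⟨hy, hyx⟩),
      Set.ncard_diff_singleton_of_mem (show x ∈ F'ᶜ from hx'), Set.ncard_compl, s.bf F' hF', s.card] at h3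
    have := s.f1
    have h6 : 2 ≤ f := by
      have : ({x, y} : Set Ω).ncard ≤ (F'ᶜ).ncard := by
        apply Set.ncard_le_ncard _ (Set.toFinite _)
        intro w hw
        simp only [Set.mem_insert_iff, Set.mem_singleton_iff] at hw
        rcases hw with rfl | rfl
        · exact hx'
        · exact hy
      rw [Set.ncard_pair hyx.symm, Set.ncard_compl, s.bf F' hF', s.card] at this
      omega
    omega
  have h3 : ((F ∩ F') \ {a}).ncard ≤ ((F \ F') \ {x}).ncard := by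
    apply Set.ncard_le_ncard_of_injOn σ
    · rintro z ⟨⟨hz1, hz2⟩, hza⟩
      have hzx : z ≠ x := by rintro rfl; exact hx' hz2
      obtain ⟨⟨m1, m2, m3⟩, m4, m5, m6, m7⟩ := hσ z hza hzx
      exact ⟨⟨m7 F hF ha hx hz1, m6 F' hF' ha' hx' hz2⟩, m2⟩
    · rintro z ⟨⟨hz1, hz2⟩, hza⟩ z' ⟨⟨hz1', hz2'⟩, hza'⟩ hzz
      have hzx : z ≠ x := by rintro rfl; exact hx' hz2
      have hzx' : z' ≠ x := by rintro rfl; exact hx' hz2'
      rw [← (hσ z hza hzx).2.2.1, ← (hσ z' hza' hzx').2.2.1, hzz]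
  have h4 : ((F \ F') \ {x}).ncard ≤ ((F ∩ F') \ {a}).ncard := by
    apply Set.ncard_le_ncard_of_injOn σ
    · rintro z ⟨⟨hz1, hz2⟩, hzx⟩
      have hza : z ≠ a := by rintro rfl; exact hz2 ha'
      obtain ⟨⟨m1, m2, m3⟩, m4, m5, m6, m7⟩ := hσ z hza hzx
      exact ⟨⟨m7 F hF ha hx hz1, h2 z hz2 hzx⟩, m1⟩
    · rintro z ⟨⟨hz1, hz2⟩, hzx⟩ z' ⟨⟨hz1', hz2'⟩, hzx'⟩ hzz
      have hza : z ≠ a := by rintro rfl; exact hz2 ha'
      have hza' : z' ≠ a := by rintro rfl; exact hz2' ha'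
      rw [← (hσ z hza hzx).2.2.1, ← (hσ z' hza' hzx').2.2.1, hzz]
  rw [Set.ncard_diff_singleton_of_mem (show a ∈ F ∩ F' from ⟨ha, ha'⟩),
    Set.ncard_diff_singleton_of_mem (show x ∈ F \ F' from ⟨hx, hx'⟩)] at h3 h4
  have h5 := Set.ncard_inter_add_ncard_diff_eq_ncard F F' (Set.toFinite _)
  rw [s.bf F hF] at h5
  have h6 : 0 < (F ∩ F').ncard := (Set.ncard_pos (Set.toFinite _)).2 ⟨a, ha, ha'⟩
  have h7 : 0 < (F \ F').ncard := (Set.ncard_pos (Set.toFinite _)).2 ⟨x, hx, hx'⟩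
  omega

theorem sqs {G Ω : Type} [Group G] [MulAction G Ω] {B : Set (Set Ω)} {f : ℕ} (s : Sit G Ω B f)
    (h3 : 3 ≤ f) (h : ∀ S : Set Ω, S.ncard = 3 → (cl B S).ncard = 4) : False := by
  classical
  haveI := s.fin
  haveI : Fintype Ω := Fintype.ofFinite _
  obtain ⟨F, hF⟩ := s.ne
  set B' : Finset (Set Ω) := (Set.toFinite B).toFinset with hB'
  have hmem : ∀ X, X ∈ B' ↔ X ∈ B := fun X => Set.Finite.mem_toFinset _
  have hr : ∀ a b : Ω, (B'.filter (fun X => a ∈ X)).card = (B'.filter (fun X => b ∈ X)).card := by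
    have key : ∀ a b : Ω, (B'.filter (fun X => a ∈ X)).card ≤ (B'.filter (fun X => b ∈ X)).card := by
      intro a b
      obtain ⟨g, hg⟩ := s.tr1 a b
      apply Finset.card_le_card_of_injOn (fun X => g • X)
      · intro X hX
        simp only [Finset.coe_filter, Set.mem_setOf_eq, hmem] at hX ⊢
        refine ⟨s.inv X hX.1 g, ?_⟩
        rw [← hg]
        exact Set.smul_mem_smul_set hX.2
      · intro X _ Y _ hXY
        exact smul_left_cancel g hXY
    exact fun a b => le_antisymm (key a b) (key b a)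
  obtain ⟨a0, ha0⟩ : F.Nonempty := by
    rw [← Set.ncard_pos, s.bf F hF]; omega
  set r := (B'.filter (fun X => a0 ∈ X)).card with hrdef
  have hcount : ∀ Y : Set Ω, ∑ X ∈ B', (Y ∩ X).ncard = Y.ncard * r := by
    intro Y
    have h1 : ∀ X : Set Ω, (Y ∩ X).ncard = ∑ y ∈ Y.toFinset, if y ∈ X then 1 else 0 := by
      intro X
      rw [Finset.sum_ite, Finset.sum_const_zero, add_zero, Finset.sum_const, smul_eq_mul, mul_one,
        Set.ncard_eq_toFinset_card']
      congr 1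
      ext y
      simp
    rw [Finset.sum_congr rfl (fun X _ => h1 X), Finset.sum_comm]
    have h2 : ∀ y ∈ Y.toFinset, (∑ X ∈ B', if y ∈ X then 1 else 0) = r := by
      intro y _
      rw [Finset.sum_ite, Finset.sum_const_zero, add_zero, Finset.sum_const, smul_eq_mul, mul_one, hrdef]
      exact hr y a0
    rw [Finset.sum_congr rfl h2, Finset.sum_const, smul_eq_mul, ← Set.ncard_eq_toFinset_card']
  have hc1 := hcount Set.univ
  have hc2 := hcount F
  have e1 : ∑ X ∈ B', (Set.univ ∩ X).ncard = B'.card * f := by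
    rw [Finset.sum_congr rfl (g := fun _ => f), Finset.sum_const, smul_eq_mul]
    intro X hX
    rw [Set.univ_inter]
    exact s.bf X ((hmem X).1 hX)
  rw [e1, Set.ncard_univ, s.card] at hc1
  have hb : B'.card = 2 * r := by
    have : B'.card * f = (2 * r) * f := by rw [hc1]; ring
    exact Nat.eq_of_mul_eq_mul_right (by omega) this
  have e2 : 2 * ∑ X ∈ B', (F ∩ X).ncard = 2 * f + (B'.card - 1) * f := by
    rw [← Finset.add_sum_erase B' _ ((hmem F).2 hF), Set.inter_self, s.bf F hF, mul_add, Finset.mul_sum,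
      Finset.sum_congr rfl (g := fun _ => f), Finset.sum_const, smul_eq_mul,
      Finset.card_erase_of_mem ((hmem F).2 hF)]
    intro X hX
    rw [Finset.mem_erase] at hX
    exact half s h hF ((hmem X).1 hX.2) hX.1.symm
  rw [hc2, s.bf F hF, hb] at e2
  have hr0 : 0 < r := by
    rw [hrdef, Finset.card_pos]
    exact ⟨F, by simp [hmem, hF, ha0]⟩
  have e3 : 2 * (f * r) = f * (2 + (2 * r - 1)) := by rw [e2]; ring
  have e4 : f * (2 * r) = f * (2 + (2 * r - 1)) := by rw [← e3]; ring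
  have := Nat.eq_of_mul_eq_mul_left (by omega) e4
  omega

end Cfsg.Agent.Lib.ProQ12
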