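import Mathlib
import Cfsg.Agent.Lib.ProT2a
import Cfsg.Agent.Lib.ProP1
import Cfsg.Agent.Lib.ProN

/-! S3399, piece T2 (helper83): a minimal closure, final form. -/

set_option autoImplicit false
set_option linter.all false
open scoped Pointwise

namespace Cfsg.Agent.Lib.Pro

variable {G Ω : Type} [Group G] [MulAction G Ω] {B : Set (Set Ω)} {f : ℕ}

theorem minC (s : Sit G Ω B f) {j : ℕ} (hj : 3 ≤ j) (hjf : j < f)
    (htr : ∀ i < j, ∀ S : Set Ω, S.ncard = i → Trans G S) (hcl : ∀ i ≤ j, Closed B i)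
    (hnc : ∀ T : Set Ω, T.ncard = j + 1 → cl B T ≠ T) :
    ∃ C F q, F ∈ B ∧ C ⊆ F ∧ cl B C = C ∧ C.ncard = j + q ∧ 2 ≤ q ∧ q + 1 ≤ j ∧
      (∀ T ⊆ C, T.ncard = j + 1 → cl B T = C) ∧
      ∀ S ⊆ C, S.ncard = j → {y | ∀ g ∈ fixingSubgroup G S, g • y ∉ C}.Nonempty ∧
        w F {y | ∀ g ∈ fixingSubgroup G S, g • y ∉ C} + q ≤ j :=
  minC_of s hj hjf (fun h1 h2 h3 h4 h5 h6 h7 => cov_le s h1 h2 h3 h4 h5 h6 h7)
    (fun k hk h => stein s (J := j + 1) (k := k) (by omega) (by omega) hk h) htr hcl hnc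

end Cfsg.Agent.Lib.Pro
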