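import Cfsg.Agent.Lib.ProT5a
import Cfsg.Agent.Lib.ProN1
import Cfsg.Agent.Lib.ProN2

/-! S3399, piece T5: the exceptional case of `cyc3` (helper85). -/

set_option autoImplicit false
open scoped Pointwise

namespace Cfsg.Agent.Lib.Pro

theorem exc3 {G Ω : Type} [Group G] [MulAction G Ω] {B : Set (Set Ω)} {f : ℕ}
    (s : Sit G Ω B f) (hjf : 3 < f)
    (htr : ∀ i < 3, ∀ S : Set Ω, S.ncard = i → Trans G S) (hcl : ∀ i ≤ 3, Closed B i)
    (hn : ∀ S : Set Ω, S.ncard = 3 → ¬ Trans G S)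
    (h4 : ∀ T T' : Set Ω, T.ncard = 4 → T'.ncard = 4 → ∃ g : G, g • T = T')
    (he : ∀ S S' : Set Ω, S.ncard = 3 → S'.ncard = 3 → ∀ x ∉ S, ∀ x' ∉ S',
         (orb G S x).ncard = (orb G S' x').ncard) : False :=
  exc3_aux s hjf (fun k hk h => by
    obtain ⟨rfl, h2⟩ := tits s (J := 4) (by norm_num) (by omega) hk h
    exact stein4 s (J := 4) le_rfl (by omega) h h2) htr hcl hn h4 he

end Cfsg.Agent.Lib.Pro
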