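import Cfsg.Agent.Lib.RelSylow
import Cfsg.Prelude.Def_HallClasses

/-!
# Pronormal overgroups of Sylow subgroups: extensions (helper1)
-/

set_option autoImplicit false
set_option linter.all false

namespace Cfsg.Agent.Lib.PronormalExt

open Cfsg Cfsg.Agent.Lib.RelSylow Subgroup

universe u v

variable {G : Type u} [Group G]

/-- the good elements of the pronormality condition -/
def Good (H : Subgroup G) (g : G) : Prop :=
  ∃ x ∈ H ⊔ H.map (MulAut.conj g).toMonoidHom, x⁻¹ * g ∈ normalizer (H : Set G)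

theorem conj_eq_iff {H : Subgroup G} {g x : G} :
    H.map (MulAut.conj g).toMonoidHom = H.map (MulAut.conj x).toMonoidHom ↔
      x⁻¹ * g ∈ normalizer (H : Set G) := by
  rw [mem_normalizer_iff_map, ← conj_conj]
  constructor
  · intro h
    rw [h, conj_conj, inv_mul_cancel, conj_one]
  · intro h
    have h1 := congrArg (fun K : Subgroup G => K.map (MulAut.conj x).toMonoidHom) h
    simp only [conj_conj] at h1
    rwa [mul_inv_cancel_left] at h1

theorem isPronormal_iff {H : Subgroup G} : IsPronormal H ↔ ∀ g, Good H g := by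
  unfold IsPronormal Good
  simp only [conj_eq_iff]

theorem good_of {H : Subgroup G} {g j : G} (hj : j ∈ H ⊔ H.map (MulAut.conj g).toMonoidHom)
    (h : Good H (j⁻¹ * g)) : Good H g := by
  obtain ⟨x, hx, hxn⟩ := h
  set J := H ⊔ H.map (MulAut.conj g).toMonoidHom with hJ
  have h1 : H ⊔ H.map (MulAut.conj (j⁻¹ * g)).toMonoidHom ≤ J := by
    refine sup_le le_sup_left ?_
    rw [← conj_conj]
    have h2 : J.map (MulAut.conj j⁻¹).toMonoidHom = J := conj_eq_of_mem (inv_mem hj)
    rw [← h2]
    exact map_mono le_sup_right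
  refine ⟨j * x, mul_mem hj (h1 hx), ?_⟩
  rwa [mul_inv_rev, mul_assoc]

theorem good_mul_iff {H : Subgroup G} {g n : G} (hn : n ∈ normalizer (H : Set G)) (h : Good H g) :
    Good H (g * n) := by
  obtain ⟨x, hx, hxn⟩ := h
  refine ⟨x, ?_, ?_⟩
  · rw [← conj_conj, conj_eq_of_mem_normalizer hn]; exact hx
  · rw [← mul_assoc]; exact mul_mem hxn hn

theorem map_conj' {K : Type*} [Group K] (f : G →* K) (H : Subgroup G) (g : G) :
    (H.map (MulAut.conj g).toMonoidHom).map f = (H.map f).map (MulAut.conj (f g)).toMonoidHom := by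
  rw [Subgroup.map_map, Subgroup.map_map]
  congr 1
  ext x
  simp

theorem isPronormal_map {K : Type*} [Group K] {f : G →* K} (hf : Function.Surjective f)
    {H : Subgroup G} (h : IsPronormal H) : IsPronormal (H.map f) := by
  rw [isPronormal_iff] at h ⊢
  intro g
  obtain ⟨g, rfl⟩ := hf g
  obtain ⟨x, hx, hxn⟩ := h g
  refine ⟨f x, ?_, ?_⟩
  · rw [← map_conj', ← Subgroup.map_sup]
    exact mem_map_of_mem f hx
  · rw [← map_inv, ← map_mul]
    exact le_normalizer_map f (mem_map_of_mem f hxn)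

theorem isPronormal_of_map {K : Type*} [Group K] {f : G →* K} {H : Subgroup G} (hk : f.ker ≤ H)
    (h : IsPronormal (H.map f)) : IsPronormal H := by
  rw [isPronormal_iff] at h ⊢
  intro g
  obtain ⟨y, hy, hyn⟩ := h (f g)
  rw [← map_conj', ← Subgroup.map_sup] at hy
  obtain ⟨x, hx, rfl⟩ := hy
  refine ⟨x, hx, ?_⟩
  rw [← map_inv, ← map_mul, mem_normalizer_iff_map, ← map_conj'] at hyn
  rw [mem_normalizer_iff_map]
  have hcomap : ∀ L : Subgroup G, f.ker ≤ L → (L.map f).comap f = L := by
    intro L hL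
    rw [comap_map_eq, sup_eq_left.2 hL]
  have h1 : f.ker ≤ H.map (MulAut.conj (x⁻¹ * g)).toMonoidHom := by
    intro z hz
    rw [mem_conj_iff]
    apply hk
    have := (inferInstance : f.ker.Normal).conj_mem z hz (x⁻¹ * g)⁻¹
    rwa [inv_inv] at this
  rw [← hcomap _ h1, hyn, hcomap _ hk]

theorem isPronormal_of_subtype {N : Subgroup G} {K : Subgroup N}
    (h : IsPronormal (K.map N.subtype)) : IsPronormal K := by
  rw [isPronormal_iff] at h ⊢
  intro g
  obtain ⟨x, hx, hxn⟩ := h (g : G)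
  have h1 : (K.map N.subtype).map (MulAut.conj (g : G)).toMonoidHom =
      (K.map (MulAut.conj g).toMonoidHom).map N.subtype := (map_conj' N.subtype K g).symm
  rw [h1, ← Subgroup.map_sup] at hx
  obtain ⟨x, hx, rfl⟩ := hx
  refine ⟨x, hx, ?_⟩
  rw [mem_normalizer_iff_map] at hxn ⊢
  apply map_injective N.subtype_injective
  rw [map_conj']
  exact hxn

theorem overPronormal_quotient_iff {p : ℕ} [Fact p.Prime] [Finite G] (T : Subgroup G) [T.Normal] :
    (∀ K : Subgroup (G ⧸ T), (∃ P : Sylow p (G ⧸ T), (P : Subgroup (G ⧸ T)) ≤ K) → IsPronormal K) ↔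
      ∀ K : Subgroup G, T ≤ K → (∃ P : Sylow p G, (P : Subgroup G) ≤ K) → IsPronormal K := by
  have hs := QuotientGroup.mk'_surjective T
  constructor
  · rintro h K hTK ⟨P, hP⟩
    apply isPronormal_of_map (f := QuotientGroup.mk' T) (by rwa [QuotientGroup.ker_mk'])
    exact h _ ⟨P.mapSurjective hs, map_mono hP⟩
  · rintro h K ⟨P, hP⟩
    have h1 : (K.comap (QuotientGroup.mk' T)).map (QuotientGroup.mk' T) = K :=
      map_comap_eq_self_of_surjective hs K
    rw [← h1]
    apply isPronormal_map hs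
    apply h
    · intro t ht
      rw [mem_comap]
      have : QuotientGroup.mk' T t = 1 := (QuotientGroup.eq_one_iff t).2 ht
      rw [this]; exact one_mem _
    · obtain ⟨Q, rfl⟩ := Sylow.mapSurjective_surjective hs p P
      exact ⟨Q, (le_comap_map _ _).trans (comap_mono hP)⟩

section main

variable [Finite G] {p : ℕ} [Fact p.Prime]

theorem backward (A : Subgroup G) [A.Normal]
    (hA : ∀ K : Subgroup ↥A, (∃ P : Sylow p ↥A, (P : Subgroup ↥A) ≤ K) → IsPronormal K)
    (hQ : ∀ K : Subgroup (G ⧸ A), (∃ P : Sylow p (G ⧸ A), (P : Subgroup (G ⧸ A)) ≤ K) → IsPronormal K)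
    (T : Subgroup G) (hT : IsSyl p T A)
    (hN : ∀ K : Subgroup ↥(normalizer (T : Set G)), T.subgroupOf _ ≤ K →
      (∃ P : Sylow p ↥(normalizer (T : Set G)), (P : Subgroup ↥(normalizer (T : Set G))) ≤ K) → IsPronormal K)
    (h2 : ∀ K : Subgroup G, (∃ P : Sylow p G, (P : Subgroup G) ≤ K) →
      normalizer ((K.map (QuotientGroup.mk' A) : Subgroup (G ⧸ A)) : Set (G ⧸ A)) ≤
        (normalizer (K : Set G)).map (QuotientGroup.mk' A))
    (H : Subgroup G) (P : Sylow p G) (hPH : (P : Subgroup G) ≤ H)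
    (hPT : (P : Subgroup G) ⊓ A = T) : IsPronormal H := by
  have hs := QuotientGroup.mk'_surjective A
  rw [isPronormal_iff]
  -- step 4
  set X := H ⊓ A with hX
  have hHX : H ≤ normalizer (X : Set G) := by
    intro h hh
    rw [mem_normalizer_iff_map, hX, Subgroup.map_inf _ _ _ (MulAut.conj h).injective, conj_eq_of_mem hh,
      conj_eq_of_mem_normalizer (le_normalizer_of_normal (mem_top h))]
  have hTX : T ≤ X := by
    rw [hX, ← hPT]
    exact inf_le_inf_right A hPH
  have hTsX : IsSyl p T X := hT.of_le hTX inf_le_right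
  have hPN : (P : Subgroup G) ≤ normalizer (T : Set G) := by
    intro x hx
    rw [mem_normalizer_iff_map, ← hPT, Subgroup.map_inf _ _ _ (MulAut.conj x).injective, conj_eq_of_mem hx,
      conj_eq_of_mem_normalizer (le_normalizer_of_normal (mem_top x))]
  have hG4 : ∀ a ∈ A, a ∈ normalizer (X : Set G) → a ∈ normalizer (T : Set G) → Good H a := by
    intro a haA haX haT
    set N := normalizer (T : Set G) with hNdef
    set M := H ⊓ N with hM
    have hPsN : IsSyl p (P : Subgroup G) N := (isSyl_top_iff P).of_le hPN le_top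
    have hPro : IsPronormal (M.subgroupOf N) := by
      apply hN
      · intro t ht
        rw [mem_subgroupOf] at ht ⊢
        exact ⟨(hTX ht).1, t.2⟩
      · obtain ⟨Q, _, hQ⟩ := hPsN.exists_sylow
        refine ⟨Q, ?_⟩
        rw [hQ]
        exact (subgroupOf_mono N) (le_inf hPH hPN)
    rw [isPronormal_iff] at hPro
    obtain ⟨k, hk, hkn⟩ := hPro ⟨a, haT⟩
    have hMs : (M.subgroupOf N).map N.subtype = M := by
      rw [subgroupOf_map_subtype, inf_eq_left.2 inf_le_right]
    have hk' : (k : G) ∈ M ⊔ M.map (MulAut.conj a).toMonoidHom := by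
      have h1 := mem_map_of_mem N.subtype hk
      rw [Subgroup.map_sup, map_conj', hMs] at h1
      exact h1
    have hkn' : (k : G)⁻¹ * a ∈ normalizer (M : Set G) := by
      rw [mem_normalizer_iff_map] at hkn ⊢
      have h1 := congrArg (Subgroup.map N.subtype) hkn
      rw [map_conj', hMs] at h1
      exact h1
    have hkX : (k : G) ∈ normalizer (X : Set G) := by
      have h1 : M ⊔ M.map (MulAut.conj a).toMonoidHom ≤ normalizer (X : Set G) := by
        refine sup_le (inf_le_left.trans hHX) ?_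
        have h2 : M.map (MulAut.conj a).toMonoidHom ≤
            (normalizer (X : Set G)).map (MulAut.conj a).toMonoidHom := map_mono (inf_le_left.trans hHX)
        rwa [normalizer_conj, conj_eq_of_mem_normalizer haX] at h2
      exact h1 hk'
    refine ⟨k, ?_, ?_⟩
    · exact (sup_le_sup inf_le_left (map_mono inf_le_left)) hk'
    · have hHdec : X ⊔ M = H := hTsX.frattini_sup inf_le_left hHX
      rw [mem_normalizer_iff_map, ← hHdec, Subgroup.map_sup,
        conj_eq_of_mem_normalizer (mul_mem (inv_mem hkX) haX), conj_eq_of_mem_normalizer hkn']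
  have hG3 : ∀ a ∈ A, a ∈ normalizer (X : Set G) → Good H a := by
    intro a haA haX
    obtain ⟨y, hy, hyT⟩ := hTsX.conj (hTsX.conj_isSyl' haX)
    apply good_of (j := y) (mem_sup_left (hX ▸ hy).1)
    apply hG4
    · exact mul_mem (inv_mem (hX ▸ hy).2) haA
    · exact mul_mem (inv_mem (le_normalizer hy)) haX
    · rw [← conj_eq_iff]; exact hyT.symm
  have hG2 : ∀ a ∈ A, Good H a := by
    intro a haA
    have hPro : IsPronormal (X.subgroupOf A) := by
      apply hA
      obtain ⟨Q, _, hQ⟩ := hT.exists_sylow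
      refine ⟨Q, ?_⟩
      rw [hQ]
      exact subgroupOf_mono A hTX
    rw [isPronormal_iff] at hPro
    obtain ⟨k, hk, hkn⟩ := hPro ⟨a, haA⟩
    have hXs : (X.subgroupOf A).map A.subtype = X := by
      rw [subgroupOf_map_subtype, inf_eq_left.2 inf_le_right]
    have hk' : (k : G) ∈ X ⊔ X.map (MulAut.conj a).toMonoidHom := by
      have h1 := mem_map_of_mem A.subtype hk
      rw [Subgroup.map_sup, map_conj', hXs] at h1
      exact h1
    have hkn' : (k : G)⁻¹ * a ∈ normalizer (X : Set G) := by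
      rw [mem_normalizer_iff_map] at hkn ⊢
      have h1 := congrArg (Subgroup.map A.subtype) hkn
      rw [map_conj', hXs] at h1
      exact h1
    apply good_of (j := (k : G)) ((sup_le_sup inf_le_left (map_mono inf_le_left)) hk')
    exact hG3 _ (mul_mem (inv_mem k.2) haA) hkn'
  intro g
  have hPro := hQ (H.map (QuotientGroup.mk' A)) ⟨P.mapSurjective hs, map_mono hPH⟩
  rw [isPronormal_iff] at hPro
  obtain ⟨x, hx, hxn⟩ := hPro (QuotientGroup.mk' A g)
  rw [← map_conj', ← Subgroup.map_sup] at hx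
  obtain ⟨j, hj, rfl⟩ := hx
  obtain ⟨n, hn, hnj⟩ := h2 H ⟨P, hPH⟩ hxn
  apply good_of hj
  have ha : j⁻¹ * g * n⁻¹ ∈ A := by
    rw [← QuotientGroup.ker_mk' A, MonoidHom.mem_ker, map_mul, map_mul, map_inv, map_inv, hnj,
      mul_inv_cancel]
  have h3 := good_mul_iff hn (hG2 _ ha)
  rwa [inv_mul_cancel_right] at h3

theorem exists_sylow_inf (A : Subgroup G) [A.Normal] {T : Subgroup G} (hT : IsSyl p T A) :
    ∃ P : Sylow p G, (P : Subgroup G) ⊓ A = T := by
  obtain ⟨P, hTP, hP⟩ := exists_isSyl_ge hT.2.1 (le_top : T ≤ (⊤ : Subgroup G))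
  obtain ⟨Q, rfl⟩ := hP.toSylow
  refine ⟨Q, ?_⟩
  have h1 := hP.inf (le_top : A ≤ ⊤) le_normalizer_of_normal
  exact (hT.eq_of_le h1.2.1 h1.1 (le_inf hTP hT.1)).symm

theorem main (A : Subgroup G) [A.Normal]
    (hA : ∀ K : Subgroup ↥A, (∃ P : Sylow p ↥A, (P : Subgroup ↥A) ≤ K) → IsPronormal K)
    (hQ : ∀ K : Subgroup (G ⧸ A), (∃ P : Sylow p (G ⧸ A), (P : Subgroup (G ⧸ A)) ≤ K) → IsPronormal K)
    (T : Subgroup G) (hT : IsSyl p T A) [(T.subgroupOf (normalizer (T : Set G))).Normal] :
    (∀ K : Subgroup G, (∃ P : Sylow p G, (P : Subgroup G) ≤ K) → IsPronormal K) ↔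
      ((∀ K : Subgroup (↥(normalizer (T : Set G)) ⧸ T.subgroupOf (normalizer (T : Set G))),
        (∃ P : Sylow p (↥(normalizer (T : Set G)) ⧸ T.subgroupOf (normalizer (T : Set G))),
          (P : Subgroup (↥(normalizer (T : Set G)) ⧸ T.subgroupOf (normalizer (T : Set G)))) ≤ K) →
          IsPronormal K) ∧
        ∀ K : Subgroup G, (∃ P : Sylow p G, (P : Subgroup G) ≤ K) →
          (normalizer (K : Set G)).map (QuotientGroup.mk' A) =
            normalizer ((K.map (QuotientGroup.mk' A) : Subgroup (G ⧸ A)) : Set (G ⧸ A))) := by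
  have hs := QuotientGroup.mk'_surjective A
  rw [overPronormal_quotient_iff]
  constructor
  · intro h
    refine ⟨?_, ?_⟩
    · rintro K hTK ⟨P, hPK⟩
      apply isPronormal_of_subtype
      obtain ⟨P₀, hP₀⟩ := exists_sylow_inf A hT
      have hP₀N : (P₀ : Subgroup G) ≤ normalizer (T : Set G) := by
        intro x hx
        rw [mem_normalizer_iff_map, ← hP₀, Subgroup.map_inf _ _ _ (MulAut.conj x).injective, conj_eq_of_mem hx,
          conj_eq_of_mem_normalizer (le_normalizer_of_normal (mem_top x))]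
      have h1 : IsSyl p (P₀ : Subgroup G) (normalizer (T : Set G)) :=
        (isSyl_top_iff P₀).of_le hP₀N le_top
      obtain ⟨n, hn, hnP⟩ := h1.conj (isSyl_of_sylow P)
      have h2 : IsSyl p ((P : Subgroup ↥(normalizer (T : Set G))).map (normalizer (T : Set G)).subtype) ⊤ := by
        rw [← hnP]
        exact (isSyl_top_iff P₀).conj_isSyl' (le_normalizer (mem_top n))
      obtain ⟨Q, hQ⟩ := h2.toSylow
      apply h
      exact ⟨Q, by rw [hQ]; exact map_mono hPK⟩
    · rintro K ⟨P, hPK⟩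
      apply le_antisymm (le_normalizer_map _)
      intro g hg
      obtain ⟨g, rfl⟩ := hs g
      obtain ⟨x, hx, hxn⟩ := isPronormal_iff.1 (h K ⟨P, hPK⟩) g
      have h1 : QuotientGroup.mk' A x ∈ K.map (QuotientGroup.mk' A) := by
        have h2 := mem_map_of_mem (QuotientGroup.mk' A) hx
        rw [Subgroup.map_sup, map_conj', conj_eq_of_mem_normalizer hg, sup_idem] at h2
        exact h2
      obtain ⟨k, hk, hkx⟩ := h1
      refine ⟨k * (x⁻¹ * g), mul_mem (le_normalizer hk) hxn, ?_⟩
      rw [map_mul, hkx, ← map_mul, mul_inv_cancel_left]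
  · rintro ⟨h1, h2⟩ H ⟨P, hPH⟩
    obtain ⟨b, hb, hbT⟩ := ((isSyl_top_iff P).inf (le_top : A ≤ ⊤) le_normalizer_of_normal).conj hT
    have h3 : IsSyl p ((P : Subgroup G).map (MulAut.conj b).toMonoidHom) ⊤ :=
      (isSyl_top_iff P).conj_isSyl' (le_normalizer (mem_top b))
    obtain ⟨Q, hQ'⟩ := h3.toSylow
    have h4 : IsPronormal (H.map (MulAut.conj b).toMonoidHom) := by
      apply backward A hA hQ T hT h1 (fun K hK => (h2 K hK).ge) _ Q
      · rw [hQ']; exact map_mono hPH
      · rw [hQ', ← hbT, Subgroup.map_inf _ _ _ (MulAut.conj b).injective,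
          conj_eq_of_mem_normalizer (A := A) (le_normalizer_of_normal (mem_top b))]
    have h5 := isPronormal_map (f := (MulAut.conj b⁻¹).toMonoidHom) (MulAut.conj b⁻¹).surjective h4
    rwa [conj_conj, inv_mul_cancel, conj_one] at h5

theorem of_self_normalizing (h : ∀ P : Sylow p G, normalizer ((P : Subgroup G) : Set G) = P)
    (K : Subgroup G) (hK : ∃ P : Sylow p G, (P : Subgroup G) ≤ K) :
    IsPronormal K ∧ normalizer (K : Set G) = K := by
  obtain ⟨P, hPK⟩ := hK
  have key : ∀ (J : Subgroup G), K ≤ J → ∀ g, K.map (MulAut.conj g).toMonoidHom ≤ J →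
      ∃ j ∈ J, j⁻¹ * g ∈ K := by
    intro J hKJ g hgJ
    have h1 : IsSyl p (P : Subgroup G) J := (isSyl_top_iff P).of_le (hPK.trans hKJ) le_top
    have h2 : IsSyl p ((P : Subgroup G).map (MulAut.conj g).toMonoidHom) J :=
      ((isSyl_top_iff P).conj_isSyl' (le_normalizer (mem_top g))).of_le
        ((map_mono hPK).trans hgJ) le_top
    obtain ⟨j, hj, hjP⟩ := h1.conj h2
    refine ⟨j, hj, ?_⟩
    have h3 : j⁻¹ * g ∈ normalizer ((P : Subgroup G) : Set G) := conj_eq_iff.1 hjP.symm
    rw [h P] at h3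
    exact hPK h3
  constructor
  · rw [isPronormal_iff]
    intro g
    obtain ⟨j, hj, hjg⟩ := key (K ⊔ K.map (MulAut.conj g).toMonoidHom) le_sup_left g le_sup_right
    exact ⟨j, hj, le_normalizer hjg⟩
  · apply le_antisymm _ le_normalizer
    intro g hg
    obtain ⟨j, hj, hjg⟩ := key K le_rfl g (by rw [conj_eq_of_mem_normalizer hg])
    have := mul_mem hj hjg
    rwa [mul_inv_cancel_left] at this

end main

end Cfsg.Agent.Lib.PronormalExt
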