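import Cfsg.Agent.Lib.QNilB
import Cfsg.Agent.S0205
import Cfsg.Agent.Lib.Cores
import Mathlib.GroupTheory.SchurZassenhaus

/-!
# Groups in which every `p'`-subgroup is nilpotent: the minimal counterexample (helper68)
-/

set_option autoImplicit false
set_option linter.unusedSectionVars false

namespace Cfsg.Agent.Lib.QNil

open Subgroup Cfsg Cfsg.Agent.Lib.LocBase

universe u

variable {G : Type u} [Group G] [Finite G] {p : ℕ}

theorem NP.quot_pgroup (h : NP p G) (hp : p.Prime) {r : ℕ} (hr : r.Prime) {Q : Subgroup G} [Q.Normal]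
    (hQ : IsPGroup r Q) : NP p (G ⧸ Q) := by
  have hrf : Fact r.Prime := ⟨hr⟩
  intro H hH
  have hf : Function.Surjective (QuotientGroup.mk' Q) := QuotientGroup.mk'_surjective Q
  set Y := H.comap (QuotientGroup.mk' Q) with hY
  have hg := MonoidHom.subgroupComap_surjective_of_surjective (QuotientGroup.mk' Q) H hf
  set g := (QuotientGroup.mk' Q).subgroupComap H with hgdef
  have hker : Nat.card g.ker = Nat.card Q := by
    have hQY : Q ≤ Y := by
      intro x hx
      rw [hY, mem_comap, QuotientGroup.mk'_apply, (QuotientGroup.eq_one_iff x).mpr hx]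
      exact one_mem _
    have e : g.ker = Q.subgroupOf Y := by
      ext x
      rw [MonoidHom.mem_ker, mem_subgroupOf, Subtype.ext_iff]
      change (QuotientGroup.mk' Q (x : G)) = 1 ↔ _
      exact QuotientGroup.eq_one_iff _
    rw [e]
    exact Nat.card_congr (Subgroup.subgroupOfEquivOfLe hQY).toEquiv
  have hidx : g.ker.index = Nat.card H := by
    have e := QuotientGroup.quotientKerEquivOfSurjective g hg
    exact Nat.card_congr e.toEquiv
  obtain ⟨n, hn⟩ := IsPGroup.iff_card.mp hQ
  by_cases hrp : r = p
  · subst hrp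
    have hcop : Nat.Coprime (Nat.card g.ker) g.ker.index := by
      rw [hker, hidx, hn]
      exact Nat.Coprime.pow_left _ hH.symm
    obtain ⟨K, hK⟩ := Subgroup.exists_right_complement'_of_coprime hcop
    have hK1 : Nat.card K = Nat.card H := by
      rw [← hidx]
      have h1 := hK.card_mul
      have h2 := Subgroup.card_mul_index g.ker
      have h3 : 0 < Nat.card g.ker := Nat.card_pos
      rw [← h2] at h1
      exact Nat.eq_of_mul_eq_mul_left h3 h1
    have hKn : Group.IsNilpotent K := h.sub _ K (by rw [hK1]; exact hH)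
    have h4 : Function.Surjective (g.comp K.subtype) := by
      have hinj : Function.Injective (g.comp K.subtype) := by
        rw [injective_iff_map_eq_one]
        intro a ha
        have h5 : (a : Y) ∈ g.ker ⊓ K := ⟨ha, a.2⟩
        rw [hK.disjoint.eq_bot, mem_bot] at h5
        exact Subtype.ext h5
      have := Nat.bijective_iff_injective_and_card (g.comp K.subtype)
      exact (this.mpr ⟨hinj, hK1⟩).2
    exact Group.nilpotent_of_surjective _ h4
  · have hYc : (Nat.card Y).Coprime p := by
      rw [← Subgroup.card_mul_index g.ker, hker, hidx, hn]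
      exact Nat.Coprime.mul_left (Nat.Coprime.pow_left _ ((Nat.coprime_primes hr hp).mpr hrp)) hH
    have hYn : Group.IsNilpotent Y := h Y hYc
    exact Group.nilpotent_of_surjective g hg

theorem exists_pCore_ne_bot {N : Subgroup G} (hN : N.Normal) (hN1 : N ≠ ⊥) (hs : Group.IsSolvable N) :
    ∃ r : ℕ, r.Prime ∧ pCore r G ≠ ⊥ := by
  have hnt : Nontrivial N := (Subgroup.nontrivial_iff_ne_bot N).2 hN1
  have h1 : Cfsg.fittingSubgroup N ≠ ⊥ := Cores.fittingSubgroup_ne_bot
  by_contra hcon
  push Not at hcon
  apply h1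
  rw [Cores.fittingSubgroup_eq_iSup, eq_bot_iff]
  apply iSup_le
  intro r
  have h2 := Cores.map_pCore_subtype_le (r : ℕ) N
  rw [hcon r r.2, le_bot_iff, map_eq_bot_iff_of_injective _ N.subtype_injective] at h2
  rw [h2]

/-- the minimal counterexample -/
structure Min (p : ℕ) (G : Type u) [Group G] : Prop where
  hp : p.Prime
  hp3 : 3 < p
  np : NP p G
  simple : IsSimpleGroup G
  nsol : ¬ Group.IsSolvable G
  sub : ∀ K : Subgroup G, K ≠ ⊤ → Group.IsSolvable K

theorem solvable_of_no_min (hp : p.Prime) (hp3 : 3 < p)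
    (hno : ∀ (G : Type u) [Group G] [Finite G], ¬ Min p G) (n : ℕ) : ∀ (G : Type u) [Group G] [Finite G],
    Nat.card G = n → NP p G → Group.IsSolvable G := by
  induction n using Nat.strong_induction_on with
  | _ n ih =>
  intro G _ _ hn h
  by_contra hns
  have hsub : ∀ H : Subgroup G, H ≠ ⊤ → Group.IsSolvable H := by
    intro H hH
    apply ih _ _ H rfl (h.sub H)
    rw [← hn]
    exact lt_of_le_of_ne (Subgroup.card_le_card_group H) fun hc => hH (Subgroup.card_eq_iff_eq_top H |>.1 hc)
  have hnt : Nontrivial G := by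
    by_contra hnt
    rw [not_nontrivial_iff_subsingleton] at hnt
    exact hns inferInstance
  have hsimple : IsSimpleGroup G := by
    refine ⟨fun N hN => ?_⟩
    by_contra hcon
    push Not at hcon
    obtain ⟨hN1, hN2⟩ := hcon
    obtain ⟨r, hr, hr1⟩ := exists_pCore_ne_bot hN hN1 (hsub N hN2)
    have hrf : Fact r.Prime := ⟨hr⟩
    have hQn : (pCore r G).Normal := pCore_normal r G
    have hq := h.quot_pgroup hp hr (isPGroup_pCore r G)
    have hlt : Nat.card (G ⧸ pCore r G) < n := by
      rw [← hn, card_eq_card_quotient_mul_card_subgroup (pCore r G)]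
      have h1 : 1 < Nat.card (pCore r G) := by
        rw [Finite.one_lt_card_iff_nontrivial, Subgroup.nontrivial_iff_ne_bot]; exact hr1
      have h2 : 0 < Nat.card (G ⧸ pCore r G) := Nat.card_pos
      nlinarith
    have hs2 := ih _ hlt (G ⧸ pCore r G) rfl hq
    have hs1 : Group.IsSolvable (pCore r G) := by
      have := (isPGroup_pCore r G).isNilpotent
      infer_instance
    exact hns ((Group.isSolvable_iff_subgroup_quotient (pCore r G)).2 ⟨hs1, hs2⟩)
  exact hno G ⟨hp, hp3, h, hsimple, hns, hsub⟩

theorem Min.even (h : Min p G) : Even (Nat.card G) := by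
  by_contra hodd
  rw [Nat.not_even_iff_odd] at hodd
  exact h.nsol (Cfsg.Agent.S0205.result hodd)

theorem Min.p_ne_two (h : Min p G) : p ≠ 2 := by
  have := h.hp3
  omega

/-- normal subgroups -/
theorem Min.normalizer_ne_top (h : Min p G) {N : Subgroup G} (hN1 : N ≠ ⊥) (hN2 : N ≠ ⊤) :
    normalizer (N : Set G) ≠ ⊤ := by
  intro hc
  have := h.simple
  have hN : N.Normal := normalizer_eq_top_iff.mp hc
  rcases hN.eq_bot_or_eq_top with h1 | h1
  · exact hN1 h1
  · exact hN2 h1

theorem Min.ne_top_of_solvable (h : Min p G) {N : Subgroup G} (hs : Group.IsSolvable N) : N ≠ ⊤ := by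
  rintro rfl
  apply h.nsol
  exact Group.isSolvable_of_isSolvable_injective (f := (Subgroup.topEquiv (G := G)).symm.toMonoidHom)
    (Subgroup.topEquiv (G := G)).symm.injective

theorem Min.pgroup_ne_top (h : Min p G) {r : ℕ} [Fact r.Prime] {R : Subgroup G} (hR : IsPGroup r R) : R ≠ ⊤ := by
  apply h.ne_top_of_solvable
  have := hR.isNilpotent
  infer_instance

/-- normalizers of nontrivial `r`-subgroups are solvable -/
theorem Min.sol_normalizer (h : Min p G) {r : ℕ} [Fact r.Prime] {R : Subgroup G} (hR : IsPGroup r R)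
    (hR1 : R ≠ ⊥) : Group.IsSolvable (normalizer (R : Set G)) :=
  h.sub _ (h.normalizer_ne_top hR1 (h.pgroup_ne_top hR))

theorem Min.center_bot (h : Min p G) {z : G} (hz : ∀ g : G, g * z = z * g) : z = 1 := by
  have := h.simple
  have hc : center G = ⊥ ∨ center G = ⊤ := (inferInstance : (center G).Normal).eq_bot_or_eq_top
  rcases hc with hc | hc
  · have h1 : z ∈ center G := by
      rw [mem_center_iff]; exact hz
    rwa [hc, mem_bot] at h1
  · exfalso
    apply h.nsol
    apply Group.isSolvable_of_comm
    intro a b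
    have h1 : b ∈ center G := by rw [hc]; exact mem_top _
    exact mem_center_iff.mp h1 a

theorem Min.sol_centralizer (h : Min p G) {t : G} (ht : t ≠ 1) : Group.IsSolvable (centralizer ({t} : Set G)) := by
  apply h.sub
  intro hc
  apply ht
  apply h.center_bot
  intro g
  have : g ∈ centralizer ({t} : Set G) := by rw [hc]; exact mem_top _
  exact mem_centralizer_singleton_iff.mp this

end Cfsg.Agent.Lib.QNil
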