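import Cfsg.Agent.Lib.QNilC
import Cfsg.Agent.Lib.IsolatedZ
import Cfsg.Agent.Lib.SfThomp

/-!
# Groups in which every `p'`-subgroup is nilpotent: a normal elementary abelian subgroup of order 8 in `S` (helper68)
-/

set_option autoImplicit false
set_option linter.unusedSectionVars false

namespace Cfsg.Agent.Lib.QNil

open Subgroup Cfsg Cfsg.Agent.Lib.LocBase Cfsg.Agent.Lib.SfThomp Cfsg.Agent.Lib.PReduced

universe u

variable {G : Type u} [Group G] [Finite G] {p : ℕ}

theorem Min.oddCore_bot (h : Min p G) : oddCore G = ⊥ := by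
  have hs := h.simple
  have hn : (oddCore G).Normal := pPrimeCore_normal 2 G
  rcases hn.eq_bot_or_eq_top with h1 | h1
  · exact h1
  · exfalso
    have h2 := IsolatedZ.odd_card_oddCore (G := G)
    rw [h1, Subgroup.card_top] at h2
    exact (Nat.not_even_iff_odd.mpr h2) h.even

theorem Min.not_isolated (h : Min p G) {z : G} : ¬ IsIsolatedInvolution z := by
  intro hz
  have h1 : z = 1 := h.center_bot (fun g => by
    have h2 := IsolatedZ.zstar_comm hz g
    rw [h.oddCore_bot, mem_bot] at h2
    have h3 : z * g * z⁻¹ = g := by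
      rwa [mul_inv_eq_one] at h2
    rw [mul_inv_eq_iff_eq_mul] at h3
    exact h3.symm)
  have h2 := hz.1
  rw [h1, orderOf_one] at h2
  omega

theorem mem_cent_conj {g z : G} : g * z * g⁻¹ = z ↔ g ∈ centralizer ({z} : Set G) := by
  rw [mem_centralizer_singleton_iff, mul_inv_eq_iff_eq_mul]

theorem cent_map_conj (g z : G) : (centralizer ({z} : Set G)).map (MulAut.conj g).toMonoidHom =
    centralizer ({g * z * g⁻¹} : Set G) := by
  ext x
  rw [mem_map_conj, mem_centralizer_singleton_iff, mem_centralizer_singleton_iff]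
  constructor
  · intro h
    calc x * (g * z * g⁻¹) = g * ((g⁻¹ * x * g) * z) * g⁻¹ := by group
      _ = g * (z * (g⁻¹ * x * g)) * g⁻¹ := by rw [h]
      _ = (g * z * g⁻¹) * x := by group
  · intro h
    calc g⁻¹ * x * g * z = g⁻¹ * (x * (g * z * g⁻¹)) * g := by group
      _ = g⁻¹ * ((g * z * g⁻¹) * x) * g := by rw [h]
      _ = z * (g⁻¹ * x * g) := by group

theorem order_conj (g z : G) : orderOf (g * z * g⁻¹) = orderOf z := by
  have := orderOf_injective (MulAut.conj g).toMonoidHom (MulAut.conj g).injective z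
  rw [← this]; rfl

/-- maximal intersection argument -/
theorem Min.exists_R (h : Min p G) {S : Subgroup G} (hS : IsSyl 2 S ⊤) {z : G} (hz : orderOf z = 2)
    (hzS : z ∈ S) (hSz : S ≤ centralizer ({z} : Set G)) :
    ∃ R : Subgroup G, IsPGroup 2 R ∧ z ∈ R ∧ R ≤ centralizer ({z} : Set G) ∧
      ¬ normalizer (R : Set G) ≤ centralizer ({z} : Set G) := by
  have h2f : Fact (Nat.Prime 2) := ⟨Nat.prime_two⟩
  -- a conjugate of `z` in `S`, different from `z`
  have h1 : ∃ g : G, g * z * g⁻¹ ∈ S ∧ g * z * g⁻¹ ≠ z := by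
    have h2 := h.not_isolated (z := z)
    unfold IsIsolatedInvolution at h2
    push Not at h2
    obtain ⟨g, hg1, hg2⟩ := h2 hz
    have hS1 := hS.of_le hSz le_top
    have hp1 : IsPGroup 2 (zpowers (g * z * g⁻¹)) :=
      IsPGroup.of_card (n := 1) (by rw [Nat.card_zpowers, order_conj, hz, pow_one])
    obtain ⟨c, hc, hc2⟩ := hS1.exists_conj_le hp1 (by
      rw [zpowers_le, mem_centralizer_singleton_iff]; exact hg1.eq.symm)
    refine ⟨c * g, ?_, ?_⟩
    · have h3 : c * (g * z * g⁻¹) * c⁻¹ ∈ S := hc2 ⟨_, mem_zpowers _, rfl⟩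
      have e : c * g * z * (c * g)⁻¹ = c * (g * z * g⁻¹) * c⁻¹ := by group
      rwa [e]
    · intro h3
      apply hg2
      have e2 : c⁻¹ * z * c = z := by
        have := mem_centralizer_singleton_iff.mp hc
        rw [mul_assoc, ← this]; group
      calc g * z * g⁻¹ = c⁻¹ * (c * g * z * (c * g)⁻¹) * c := by group
        _ = c⁻¹ * z * c := by rw [h3]
        _ = z := e2
  obtain ⟨g, ⟨hg1, hg2⟩, hmax⟩ := Set.Finite.exists_maximalFor
    (fun g : G => Nat.card ↥(S.map (MulAut.conj g).toMonoidHom ⊓ S)) {g : G | g * z * g⁻¹ ∈ S ∧ g * z * g⁻¹ ≠ z}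
    (Set.toFinite _) h1
  set a := g * z * g⁻¹ with ha
  set S' := S.map (MulAut.conj g).toMonoidHom with hS'
  set R := S' ⊓ S with hR
  have haS' : a ∈ S' := ⟨z, hzS, rfl⟩
  have hS'c : S' ≤ centralizer ({a} : Set G) := by
    rw [ha, ← cent_map_conj]
    exact map_conj_mono g hSz
  have hS's : IsSyl 2 S' ⊤ := by
    have := hS.map_conj g
    rwa [Subgroup.map_top_of_surjective _ (MulAut.conj g).surjective] at this
  have hkey : ¬ normalizer (R : Set G) ≤ centralizer ({a} : Set G) := by
    intro hN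
    have hlt : R < S := by
      refine lt_of_le_of_ne inf_le_right ?_
      intro e
      have e1 : S' = S := by
        have h3 : S ≤ S' := by rw [← e]; exact inf_le_left
        have h4 : Nat.card S' = Nat.card S := card_map_conj S g
        exact (Subgroup.eq_of_le_of_card_ge h3 h4.le).symm
      have h5 : g ∈ normalizer (R : Set G) := by
        rw [e]; exact mem_normalizer_of_map_conj_eq e1
      have h6 := mem_cent_conj.mpr (hN h5)
      apply hg2
      rw [ha] at h6
      have h7 : g * (g * z * g⁻¹) * g⁻¹ = g * z * g⁻¹ := h6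
      have h8 : g * z * g⁻¹ = z := by
        have h9 := congrArg (fun x => g⁻¹ * x * g) h7
        have e1 : g⁻¹ * (g * (g * z * g⁻¹) * g⁻¹) * g = g * z * g⁻¹ := by group
        have e2 : g⁻¹ * (g * z * g⁻¹) * g = z := by group
        rwa [e1, e2] at h9
      exact h8
    have h3 := LocMore.lt_inf_normalizer hS.pgroup hlt
    set D := S ⊓ normalizer (R : Set G) with hD
    have hDp : IsPGroup 2 D := hS.pgroup.to_le inf_le_left
    obtain ⟨c, hc, hcD⟩ := (hS's.of_le hS'c le_top).exists_conj_le hDp (inf_le_right.trans hN)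
    have hca := mem_cent_conj.mpr hc
    have e1 : (c⁻¹ * g) * z * (c⁻¹ * g)⁻¹ = a := by
      have h4 : c⁻¹ * a * c = a := by
        nth_rewrite 1 [← hca]; group
      rw [← h4, ha]; group
    have h5 : D ≤ S.map (MulAut.conj (c⁻¹ * g)).toMonoidHom := by
      rw [map_conj_mul, ← hS', ← map_conj_le_iff]
      exact hcD
    have h6 := hmax (j := c⁻¹ * g) (by
      refine ⟨?_, ?_⟩
      · rw [e1]; exact hg1
      · rw [e1]; exact hg2) (by
      refine Subgroup.card_le_of_le (le_trans h3.le ?_)
      exact le_inf h5 inf_le_left)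
    have h7 : Nat.card R < Nat.card D := by
      refine lt_of_le_of_ne (Subgroup.card_le_of_le h3.le) (fun e => h3.ne (Subgroup.eq_of_le_of_card_ge h3.le e.ge))
    have h8 : Nat.card D ≤ Nat.card ↥(S.map (MulAut.conj (c⁻¹ * g)).toMonoidHom ⊓ S) :=
      Subgroup.card_le_of_le (le_inf h5 inf_le_left)
    exact absurd (h8.trans h6) (not_le.mpr h7)
  -- conjugate back
  refine ⟨R.map (MulAut.conj g⁻¹).toMonoidHom, isPGroup_map_conj (hS.pgroup.to_le inf_le_right) _, ?_, ?_, ?_⟩
  · exact ⟨a, ⟨haS', hg1⟩, by change g⁻¹ * a * g⁻¹⁻¹ = z; rw [ha]; group⟩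
  · have e : centralizer ({z} : Set G) = (centralizer ({a} : Set G)).map (MulAut.conj g⁻¹).toMonoidHom := by
      rw [cent_map_conj]
      congr 2
      rw [ha]; group
    rw [e]
    exact map_conj_mono _ (inf_le_left.trans hS'c)
  · intro hc
    apply hkey
    have e : centralizer ({z} : Set G) = (centralizer ({a} : Set G)).map (MulAut.conj g⁻¹).toMonoidHom := by
      rw [cent_map_conj]
      congr 2
      rw [ha]; group
    rw [e, ← map_conj_normalizer, map_conj_le_map_conj] at hc
    exact hc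

end Cfsg.Agent.Lib.QNil
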