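import Cfsg.Agent.Lib.QNilD

/-!
# Groups in which every `p'`-subgroup is nilpotent: a normal elementary abelian subgroup of order 8 in `S`, end (helper68)
-/

set_option autoImplicit false
set_option linter.unusedSectionVars false

namespace Cfsg.Agent.Lib.QNil

open Subgroup Cfsg Cfsg.Agent.Lib.LocBase Cfsg.Agent.Lib.SfThomp Cfsg.Agent.Lib.PReduced Cfsg.Agent.Lib.SfMin

universe u

variable {G : Type u} [Group G] [Finite G] {p : ℕ}

theorem maxE_le_cent {M T A V : Subgroup G} (hs : Group.IsSolvable M) (hf : ¬ Cfsg.Involves (Equiv.Perm (Fin 4)) M)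
    (hVr : PRed 2 V M) (hT : IsSyl 2 T M) (hVT : V ≤ T) (hA : MaxE T A) : A ≤ centralizer (V : Set G) := by
  have hVC : V ≤ centralizer (V : Set G) := (elem_iff.mp hVr.elem).1
  have hA2 : ∀ a ∈ A, a * a ∈ centralizer (V : Set G) := by
    intro a ha
    have := (elem_iff.mp hA.elem).2 a ha
    rw [pow_two] at this
    rw [this]; exact one_mem _
  have h1 : ((centralizer (V : Set G)).relIndex A) ^ 2 ≤ (centralizer (A : Set G)).relIndex V := by
    have := SfAct.bound_of_PRed hs hf hVr (hA.le.trans hT.le) hA2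
    rwa [Subgroup.inf_relIndex_left, Subgroup.inf_relIndex_left] at this
  set m := (centralizer (V : Set G)).relIndex A with hm
  have hmp : 0 < m := ri_pos _ _
  set A₀ := A ⊓ centralizer (V : Set G) with hA₀
  have hB : IsElementaryAbelian 2 (A₀ ⊔ V) :=
    elem_sup (elem_mono hA.elem inf_le_left) hVr.elem inf_le_right
  have h2 := hA.max _ (sup_le (inf_le_left.trans hA.le) hVT) hB
  have hAV : A ⊓ V ≤ V ⊓ centralizer (A : Set G) :=
    le_inf inf_le_right (inf_le_left.trans (elem_iff.mp hA.elem).1)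
  have e1 : A₀.relIndex (A₀ ⊔ V) = A₀.relIndex V :=
    LocTrace.relIndex_sup_of_le_normalizer ((Subgroup.le_centralizer_iff.mp inf_le_right).trans (centralizer_le_normalizer _))
  have e2 := FrakM.card_mul_relIndex (le_sup_left : A₀ ≤ A₀ ⊔ V)
  have e3 := FrakM.card_mul_relIndex (inf_le_left : A₀ ≤ A)
  rw [Subgroup.inf_relIndex_left, ← hm] at e3
  have h3 : A₀.relIndex V ≤ m := by
    rw [e1] at e2
    rw [← e2, ← e3] at h2
    exact Nat.le_of_mul_le_mul_left h2 Nat.card_pos
  have h4 : (centralizer (A : Set G)).relIndex V ≤ A₀.relIndex V := by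
    have h5 : A₀ ⊓ V ≤ centralizer (A : Set G) ⊓ V := by
      apply le_inf _ inf_le_right
      exact (inf_le_inf_right V inf_le_left).trans (hAV.trans inf_le_right)
    rw [← Subgroup.inf_relIndex_right A₀ V, ← Subgroup.inf_relIndex_right (centralizer (A : Set G)) V]
    exact Subgroup.relIndex_le_of_le_left h5 (ri_pos _ _).ne'
  have h5 : m = 1 := by nlinarith
  rw [hm, Subgroup.relIndex_eq_one] at h5
  exact h5

/-- the situation -/
structure RF (z : G) (R : Subgroup G) : Prop where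
  pg : IsPGroup 2 R
  mem : z ∈ R
  cent : R ≤ centralizer ({z} : Set G)
  nn : ¬ normalizer (R : Set G) ≤ centralizer ({z} : Set G)

variable {z : G} {R T : Subgroup G}

theorem RF.ncl_le (h : RF z R) (hz : orderOf z = 2) : ncl (normalizer (R : Set G)) (zpowers z) ≤ R ⊓ centralizer (R : Set G) := by
  apply PReduced.ncl_le
  · rw [zpowers_le]
    exact ⟨h.mem, mem_centralizer_iff.mpr fun r hr => mem_centralizer_singleton_iff.mp (h.cent hr)⟩
  · exact le_normalizer_inf le_rfl (le_normalizer_centralizer le_rfl)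

theorem elem_zpowers (hz : orderOf z = 2) : IsElementaryAbelian 2 (zpowers z) := by
  rw [elem_iff]
  refine ⟨?_, ?_⟩
  · intro x hx
    rw [mem_centralizer_iff]
    intro y hy
    obtain ⟨a, rfl⟩ := mem_zpowers_iff.mp hx
    obtain ⟨b, rfl⟩ := mem_zpowers_iff.mp hy
    rw [← zpow_add, ← zpow_add, add_comm]
  · intro x hx
    obtain ⟨a, rfl⟩ := mem_zpowers_iff.mp hx
    rw [← zpow_natCast, ← zpow_mul, mul_comm, zpow_mul]
    have : z ^ ((2 : ℕ) : ℤ) = 1 := by
      rw [zpow_natCast, ← hz, pow_orderOf_eq_one]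
    rw [this, one_zpow]

theorem RF.pred (h : RF z R) (hz : orderOf z = 2) (hT : IsSyl 2 T (normalizer (R : Set G)))
    (hTz : T ≤ centralizer ({z} : Set G)) : PRed 2 (ncl (normalizer (R : Set G)) (zpowers z)) (normalizer (R : Set G)) := by
  have h2f : Fact (Nat.Prime 2) := ⟨Nat.prime_two⟩
  set N := normalizer (R : Set G) with hN
  have h1 := h.ncl_le hz
  refine ⟨h1.trans (inf_le_left.trans le_normalizer), le_normalizer_ncl _ _, ?_, ?_⟩
  · apply elem_iSup
    · intro g; exact elem_map (elem_zpowers hz) _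
    · intro g g'
      have h3 : (zpowers z).map (MulAut.conj (g : G)).toMonoidHom ≤ R ⊓ centralizer (R : Set G) :=
        (le_iSup (fun g : ↥N => (zpowers z).map (MulAut.conj (g : G)).toMonoidHom) g).trans h1
      have h4 : (zpowers z).map (MulAut.conj (g' : G)).toMonoidHom ≤ R ⊓ centralizer (R : Set G) :=
        (le_iSup (fun g : ↥N => (zpowers z).map (MulAut.conj (g : G)).toMonoidHom) g').trans h1
      exact (h3.trans inf_le_right).trans (centralizer_le (h4.trans inf_le_left))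
  · intro D hDL hDn hpD
    have hpDX : pRes 2 D ≤ centralizer (zpowers z : Set G) := hpD.trans (centralizer_le (le_ncl N (zpowers z)))
    have hsyl : IsSyl 2 (T ⊓ D) D := hT.inf_normal hDL hDn
    have h2 : D ≤ centralizer (zpowers z : Set G) := by
      rw [← hsyl.sup_pRes]
      apply sup_le _ hpDX
      rw [Subgroup.zpowers_eq_closure, centralizer_closure]
      exact inf_le_left.trans hTz
    rw [le_centralizer_iff]
    apply PReduced.ncl_le
    · rw [le_centralizer_iff]; exact h2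
    · exact le_normalizer_centralizer hDn

theorem RF.ne_bot (h : RF z R) (hz : orderOf z = 2) : R ≠ ⊥ := by
  intro hb
  have := h.mem
  rw [hb, mem_bot] at this
  rw [this, orderOf_one] at hz
  omega

/-- the Thompson subgroup of a Sylow subgroup of `N(R)` inherits the property -/
theorem RF.thompson (hm : Min p G) (h : RF z R) (hz : orderOf z = 2) (hT : IsSyl 2 T (normalizer (R : Set G)))
    (hTz : T ≤ centralizer ({z} : Set G)) : RF z (JJ T) := by
  have h2f : Fact (Nat.Prime 2) := ⟨Nat.prime_two⟩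
  set N := normalizer (R : Set G) with hN
  set V := ncl N (zpowers z) with hV
  have hs : Group.IsSolvable N := hm.sol_normalizer h.pg (h.ne_bot hz)
  have hf : ¬ Cfsg.Involves (Equiv.Perm (Fin 4)) N := (hm.np.sub N).s4free hm.hp hm.hp3 hs
  have hVr := h.pred hz hT hTz
  have hRT : R ≤ T := (LocBase.le_pCoreOf le_normalizer le_rfl h.pg).trans hT.pCoreOf_le
  have hVT : V ≤ T := (h.ncl_le hz).trans (inf_le_left.trans hRT)
  have hJ : JJ T ≤ centralizer (V : Set G) := sSup_le fun _ hA => maxE_le_cent hs hf hVr hT hVT hA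
  have hzV : z ∈ V := le_ncl N (zpowers z) (mem_zpowers z)
  have hCV : centralizer (V : Set G) ≤ centralizer ({z} : Set G) :=
    centralizer_le (by rw [Set.singleton_subset_iff]; exact hzV)
  refine ⟨hT.pgroup.to_le (JJ_le T), ?_, (JJ_le T).trans hTz, ?_⟩
  · apply OZ_le_JJ
    rw [mem_OZ]
    refine ⟨hRT h.mem, ?_, by rw [← hz, pow_orderOf_eq_one]⟩
    rw [mem_centralizer_iff]
    intro t ht
    exact mem_centralizer_singleton_iff.mp (hTz ht)
  · intro hc
    apply h.nn
    intro g hg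
    have hVn := le_normalizer_ncl N (zpowers z)
    have h1 := LocTrace.isSyl_TL hT hVn
    obtain ⟨c, hc1, n, hn, e⟩ := h1.frattini (H := N) inf_le_left
      (le_normalizer_inf le_normalizer (le_normalizer_centralizer hVn)) hg
    have h2 := JJ_eq (le_inf (JJ_le T) hJ) inf_le_left
    have h3 := normalizer_le_JJ _ hn.2
    rw [h2] at h3
    rw [e]
    exact mul_mem (hCV hc1.2) (hc h3)

theorem exists_gt_of_not_syl {T H : Subgroup G} (hT : IsPGroup 2 T) (hTH : T ≤ H) (hn : ¬ IsSyl 2 T H) :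
    ∃ T₂ : Subgroup G, IsPGroup 2 T₂ ∧ T < T₂ ∧ T₂ ≤ H ∧ T₂ ≤ normalizer (T : Set G) := by
  have h2f : Fact (Nat.Prime 2) := ⟨Nat.prime_two⟩
  obtain ⟨S, hS, hTS⟩ := exists_isSyl_ge hT hTH
  have hlt : T < S := lt_of_le_of_ne hTS (by rintro rfl; exact hn hS)
  exact ⟨S ⊓ normalizer (T : Set G), hS.pgroup.to_le inf_le_left, LocMore.lt_inf_normalizer hS.pgroup hlt,
    inf_le_left.trans hS.le, inf_le_right⟩

theorem card_lt_card_of_lt {A B : Subgroup G} (h : A < B) : Nat.card A < Nat.card B :=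
  lt_of_le_of_ne (Subgroup.card_le_of_le h.le) (fun e => h.ne (Subgroup.eq_of_le_of_card_ge h.le e.ge))

theorem mem_of_coprime_pows {H : Subgroup G} {x : G} {a b : ℕ} (h : a.Coprime b) (ha : x ^ a ∈ H) (hb : x ^ b ∈ H) :
    x ∈ H := by
  have h1 := Nat.gcd_eq_gcd_ab a b
  rw [Nat.Coprime] at h
  rw [h] at h1
  have h2 : x = (x ^ a) ^ (a.gcdA b) * (x ^ b) ^ (a.gcdB b) := by
    rw [← zpow_natCast, ← zpow_natCast, ← zpow_mul, ← zpow_mul, ← zpow_add, ← h1]
    simp
  rw [h2]
  exact mul_mem (zpow_mem ha _) (zpow_mem hb _)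

/-- odd order elements normalizing a 2-group of order at most 4 centralize it -/
theorem Min.small_cent (hm : Min p G) {V : Subgroup G} (hV : IsPGroup 2 V) (hV4 : Nat.card V ≤ 4) {x : G}
    (hx : x ∈ normalizer (V : Set G)) (hxo : (orderOf x).Coprime 2) : x ∈ centralizer (V : Set G) := by
  have hpf : Fact p.Prime := ⟨hm.hp⟩
  obtain ⟨k, m, hpm, hkm⟩ := Nat.exists_eq_pow_mul_and_not_dvd (orderOf_pos x).ne' p hm.hp.one_lt.ne'
  have hm0 : 0 < m := Nat.pos_of_ne_zero (by rintro rfl; exact hpm (dvd_zero p))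
  have hk0 : 0 < p ^ k := pow_pos hm.hp.pos k
  have ho1 : orderOf (x ^ m) = p ^ k := by
    rw [orderOf_pow, hkm, Nat.gcd_eq_right (Dvd.intro_left _ rfl), Nat.mul_div_cancel _ hm0]
  have ho2 : orderOf (x ^ (p ^ k)) = m := by
    rw [orderOf_pow, hkm, Nat.gcd_eq_right (Dvd.intro _ rfl), Nat.mul_div_cancel_left _ hk0]
  have hpm' : m.Coprime p := ((hm.hp.coprime_iff_not_dvd).mpr hpm).symm
  have h1 : x ^ m ∈ centralizer (V : Set G) := by
    have h2 := cent_of_index_le hm.hp hm.hp3 hV ho1 (pow_mem hx m) (by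
      refine le_trans ?_ hV4
      exact Nat.le_of_dvd Nat.card_pos (relIndex_dvd_card _ _))
    rw [mem_centralizer_iff]
    intro v hv
    exact (mem_centralizer_iff.mp (h2 hv) _ (mem_zpowers _)).symm
  have h2 : x ^ (p ^ k) ∈ centralizer (V : Set G) := by
    apply hm.np.odd_comm ((Nat.coprime_primes hm.hp Nat.prime_two).mpr hm.p_ne_two) hV (pow_mem hx _)
    · rw [ho2]; exact hpm'
    · rw [ho2]
      apply Nat.coprime_two_right.mp
      exact Nat.Coprime.coprime_dvd_left (by rw [hkm]; exact Dvd.intro_left _ rfl) hxo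
  exact mem_of_coprime_pows (Nat.Coprime.pow_right k hpm') h1 h2

theorem RF.card_gt (hm : Min p G) (h : RF z R) (hz : orderOf z = 2) (hT : IsSyl 2 T (normalizer (R : Set G)))
    (hTz : T ≤ centralizer ({z} : Set G)) : 4 < Nat.card (ncl (normalizer (R : Set G)) (zpowers z)) := by
  have h2f : Fact (Nat.Prime 2) := ⟨Nat.prime_two⟩
  by_contra hcon
  push Not at hcon
  set N := normalizer (R : Set G) with hN
  set V := ncl N (zpowers z) with hV
  have hVp : IsPGroup 2 V := h.pg.to_le ((h.ncl_le hz).trans inf_le_left)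
  have hzV : z ∈ V := le_ncl N (zpowers z) (mem_zpowers z)
  have hCV : centralizer (V : Set G) ≤ centralizer ({z} : Set G) :=
    centralizer_le (by rw [Set.singleton_subset_iff]; exact hzV)
  apply h.nn
  change N ≤ _
  rw [← hT.sup_pRes]
  apply sup_le hTz
  rw [pRes_le_iff]
  intro x hx hxo
  exact hCV (hm.small_cent hVp hcon (le_normalizer_ncl N _ hx) hxo)

/-- **a normal elementary abelian subgroup of order at least 8** -/
theorem Min.exists_V (hm : Min p G) : ∃ S V : Subgroup G, IsSyl 2 S ⊤ ∧ V ≤ S ∧ S ≤ normalizer (V : Set G) ∧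
    IsElementaryAbelian 2 V ∧ 2 ^ 3 ≤ Nat.card V := by
  have h2f : Fact (Nat.Prime 2) := ⟨Nat.prime_two⟩
  obtain ⟨S, hS⟩ := exists_isSyl 2 (⊤ : Subgroup G)
  have hS1 : S ≠ ⊥ := by
    rintro rfl
    apply hS.ndvd
    rw [Subgroup.relIndex_top_right, Subgroup.index_bot]
    exact hm.even.two_dvd
  have hOZ := SfUniq.OZ_ne_bot hS.pgroup hS1
  obtain ⟨⟨z, hzO⟩, hz1⟩ := (Subgroup.ne_bot_iff_exists_ne_one.mp hOZ)
  rw [mem_OZ] at hzO
  obtain ⟨hzS, hzc, hz2⟩ := hzO
  have hz : orderOf z = 2 := orderOf_eq_prime hz2 (by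
    rintro rfl
    exact hz1 rfl)
  have hSz : S ≤ centralizer ({z} : Set G) := by
    intro s hs
    rw [mem_centralizer_singleton_iff]
    exact mem_centralizer_iff.mp hzc s hs
  obtain ⟨R₀, hR₀p, hR₀z, hR₀c, hR₀n⟩ := hm.exists_R hS hz hzS hSz
  have hR₀ : RF z R₀ := ⟨hR₀p, hR₀z, hR₀c, hR₀n⟩
  obtain ⟨T₀, hT₀⟩ := exists_isSyl 2 (normalizer (R₀ : Set G) ⊓ centralizer ({z} : Set G))
  obtain ⟨T, ⟨R, hR, hT⟩, hmax⟩ := Set.Finite.exists_maximalFor
    (fun T : Subgroup G => Nat.card T)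
    {T : Subgroup G | ∃ R, RF z R ∧ IsSyl 2 T (normalizer (R : Set G) ⊓ centralizer ({z} : Set G))}
    (Set.toFinite _) ⟨T₀, R₀, hR₀, hT₀⟩
  have hTN : T ≤ normalizer (R : Set G) := hT.le.trans inf_le_left
  have hTz : T ≤ centralizer ({z} : Set G) := hT.le.trans inf_le_right
  have hRT : R ≤ T := by
    refine (LocBase.le_pCoreOf (le_inf le_normalizer hR.cent) inf_le_left hR.pg).trans hT.pCoreOf_le
  -- no bigger ones
  have hbig : ∀ R' T' : Subgroup G, RF z R' → IsPGroup 2 T' → T < T' → T' ≤ normalizer (R' : Set G) →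
      T' ≤ centralizer ({z} : Set G) → False := by
    intro R' T' hR' hT'p hlt hT'N hT'z
    obtain ⟨T₃, hT₃, hle⟩ := exists_isSyl_ge hT'p (le_inf hT'N hT'z)
    have h1 := card_lt_card_of_lt hlt
    have h2 := Subgroup.card_le_of_le hle
    have h3 := hmax (j := T₃) ⟨R', hR', hT₃⟩ (h1.le.trans h2)
    exact absurd (h2.trans h3) (not_le.mpr h1)
  have hTtop : IsSyl 2 T ⊤ := by
    by_contra hn
    have hn' : ¬ IsSyl 2 T (centralizer ({z} : Set G)) := by
      intro hc
      apply hn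
      have hS1 := hS.of_le hSz le_top
      have h1 := hc.card_le hS.pgroup hSz
      exact hS.of_card_ge hT.pgroup le_top h1
    obtain ⟨T₂, hT₂p, hlt, hT₂z, hT₂N⟩ := exists_gt_of_not_syl hT.pgroup hTz hn'
    by_cases hNT : normalizer (T : Set G) ≤ centralizer ({z} : Set G)
    · have hTs : IsSyl 2 T (normalizer (R : Set G)) := by
        by_contra hn2
        obtain ⟨T₄, hT₄p, hlt4, hT₄N, hT₄n⟩ := exists_gt_of_not_syl hT.pgroup hTN hn2
        have h1 := hT.eq_of_le hT₄p (le_inf hT₄N (hT₄n.trans hNT)) hlt4.le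
        exact hlt4.ne h1
      have hJ := hR.thompson hm hz hTs hTz
      exact hbig _ T₂ hJ hT₂p hlt (hT₂N.trans (normalizer_le_JJ T)) hT₂z
    · have hRT' : RF z T := ⟨hT.pgroup, hRT hR.mem, hTz, hNT⟩
      exact hbig _ T₂ hRT' hT₂p hlt hT₂N hT₂z
  have hTN' : IsSyl 2 T (normalizer (R : Set G)) := hTtop.of_le hTN le_top
  set V := ncl (normalizer (R : Set G)) (zpowers z) with hV
  have h4 := hR.card_gt hm hz hTN' hTz
  have hVe : IsElementaryAbelian 2 V := (hR.pred hz hTN' hTz).elem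
  refine ⟨T, V, hTtop, (hR.ncl_le hz).trans (inf_le_left.trans hRT), hTN.trans (le_normalizer_ncl _ _), hVe, ?_⟩
  obtain ⟨n, hn⟩ := IsPGroup.iff_card.mp (elem_isPGroup hVe)
  rw [← hV, hn] at h4
  rw [hn]
  apply Nat.pow_le_pow_right (by norm_num)
  by_contra hlt
  have h5 : n ≤ 2 := by omega
  have h6 : 2 ^ n ≤ 2 ^ 2 := Nat.pow_le_pow_right (by norm_num) h5
  omega

end Cfsg.Agent.Lib.QNil
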