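import Cfsg.Agent.Lib.QNilE
import Cfsg.Agent.Lib.SSF2Bal
import Cfsg.Agent.Lib.PConstraint
import Cfsg.Agent.Lib.ConstrainedLocal
import Cfsg.Agent.Lib.SigP
import Cfsg.Agent.Lib.StrongEmbPt

/-!
# Groups in which every `p'`-subgroup is nilpotent: signalizers and strong embedding (helper68)
-/

set_option autoImplicit false
set_option linter.unusedSectionVars false

namespace Cfsg.Agent.Lib.QNil

open Subgroup Cfsg Cfsg.Agent.Lib.LocBase Cfsg.Agent.Lib.PReduced

universe u

variable {G : Type u} [Group G] [Finite G] {p : ℕ}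

theorem charP_of_solvable (hs : Group.IsSolvable G) (hO : pPrimeCore 2 G = ⊥) :
    centralizer (pCore 2 G : Set G) ≤ pCore 2 G := by
  have h2f : Fact (Nat.Prime 2) := ⟨Nat.prime_two⟩
  exact ConstrainedLocal.charP_iff.mpr ⟨hO, SigP.isPConstrained_of_isSolvable hs⟩

theorem card_map_of_disj {X Y : Type*} [Group X] [Group Y] [Finite X] (f : X →* Y) {V : Subgroup X} (h : V ⊓ f.ker = ⊥) :
    Nat.card (V.map f) = Nat.card V := by
  have hinj : Function.Injective (f.comp V.subtype) := by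
    rw [injective_iff_map_eq_one]
    intro a ha
    have h5 : (a : X) ∈ V ⊓ f.ker := ⟨a.2, ha⟩
    rw [h, mem_bot] at h5
    exact Subtype.ext h5
  have h1 := Nat.card_congr (Equiv.ofInjective _ hinj)
  rw [h1]
  have e : V.map f = (f.comp V.subtype).range := by
    rw [MonoidHom.range_comp, Subgroup.range_subtype]
  rw [e]
  rfl

/-- solvable groups: a big elementary abelian group in `O_{2',2}` -/
theorem NP.frat (h : NP p G) (hp : p.Prime) (hp3 : 3 < p) (hs : Group.IsSolvable G) {T V : Subgroup G}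
    (hT : IsSyl 2 T ⊤) (hVT : V ≤ T) (hTV : T ≤ normalizer (V : Set G)) (hV : IsElementaryAbelian 2 V)
    (hV2 : 2 < Nat.card V) :
    ∃ T₁ U : Subgroup G, T₁ ≤ T ∧ U ≤ T₁ ∧ IsElementaryAbelian 2 U ∧ 2 < Nat.card U ∧
      (⊤ : Subgroup G) ≤ pPrimeCore 2 G ⊔ normalizer (T₁ : Set G) := by
  have h2f : Fact (Nat.Prime 2) := ⟨Nat.prime_two⟩
  have hOn : (pPrimeCore 2 G).Normal := pPrimeCore_normal 2 G
  set O := pPrimeCore 2 G with hO
  set K := pPrimePCore 2 G with hK
  have hKn : K.Normal := (pCore_normal 2 (G ⧸ O)).comap _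
  have hT₁ : IsSyl 2 (T ⊓ K) K := hT.inf_normal le_top (by rw [normalizer_eq_top_iff.mpr hKn])
  set T₁ := T ⊓ K with hT₁d
  have hmap : T₁.map (QuotientGroup.mk' O) = pCore 2 (G ⧸ O) :=
    PConstraint.map_sylow_eq ⟨hT₁.le, hT₁.pgroup, hT₁.ndvd⟩
  have hqs : Group.IsSolvable (G ⧸ O) := inferInstance
  have hch : centralizer (pCore 2 (G ⧸ O) : Set (G ⧸ O)) ≤ pCore 2 (G ⧸ O) :=
    charP_of_solvable hqs (Cores.pPrimeCore_quotient_pPrimeCore 2 G)
  have hq : NP p (G ⧸ O) := h.surj hp hs _ (QuotientGroup.mk'_surjective O)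
  have hVO : V ⊓ (QuotientGroup.mk' O).ker = ⊥ := by
    rw [QuotientGroup.ker_mk']
    apply (disjoint_of_coprime' ?_)
    obtain ⟨n, hn⟩ := IsPGroup.iff_card.mp (elem_isPGroup hV)
    rw [hn]
    exact Nat.Coprime.pow_left _ (Cores.coprime_card_pPrimeCore 2 G).symm
  obtain ⟨Ub, hUQ, hUe, hUc, hUV⟩ := core_rank hq hp hp3 hch (T := T.map (QuotientGroup.mk' O))
    (V := V.map (QuotientGroup.mk' O)) (by rw [← hmap]; exact map_mono inf_le_left) (map_mono hVT)
    ((map_mono hTV).trans (le_normalizer_map _)) (elem_map hV _) (by rw [card_map_of_disj _ hVO]; exact hV2)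
  refine ⟨T₁, V ⊓ Ub.comap (QuotientGroup.mk' O), inf_le_left, ?_, elem_mono hV inf_le_left, ?_, ?_⟩
  · refine le_inf (inf_le_left.trans hVT) (inf_le_right.trans ?_)
    exact comap_mono hUQ
  · have h1 : (V ⊓ Ub.comap (QuotientGroup.mk' O)).map (QuotientGroup.mk' O) = Ub := by
      apply le_antisymm
      · exact map_le_iff_le_comap.mpr inf_le_right
      · intro u hu
        obtain ⟨v, hv, rfl⟩ := hUV hu
        exact ⟨v, ⟨hv, hu⟩, rfl⟩
    have h2 := card_map_of_disj (QuotientGroup.mk' O) (V := V ⊓ Ub.comap (QuotientGroup.mk' O)) (by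
      rw [eq_bot_iff, ← hVO]
      exact inf_le_inf_right _ inf_le_left)
    rw [h1] at h2
    rwa [← h2]
  · have h1 := hT₁.frattini_sup (H := ⊤) le_top (by rw [normalizer_eq_top_iff.mpr hKn])
    rw [← h1]
    have h2 : K = T₁ ⊔ O := by
      have h3 := congrArg (Subgroup.comap (QuotientGroup.mk' O)) hmap
      rw [Subgroup.comap_map_eq, QuotientGroup.ker_mk'] at h3
      exact h3.symm
    apply sup_le
    · rw [h2]
      exact sup_le (le_normalizer.trans le_sup_right) le_sup_left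
    · exact inf_le_right.trans le_sup_right
where
  disjoint_of_coprime' {A B : Subgroup G} (h : (Nat.card A).Coprime (Nat.card B)) : A ⊓ B = ⊥ := by
    rw [eq_bot_iff]
    intro x hx
    rw [mem_bot, ← orderOf_eq_one_iff]
    have h1 : orderOf x ∣ Nat.card A := by
      have := orderOf_dvd_natCard (⟨x, hx.1⟩ : A)
      rwa [Subgroup.orderOf_mk] at this
    have h2 : orderOf x ∣ Nat.card B := by
      have := orderOf_dvd_natCard (⟨x, hx.2⟩ : B)
      rwa [Subgroup.orderOf_mk] at this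
    exact Nat.eq_one_of_dvd_coprimes h h1 h2

/-- ambient form for the centralizer of an involution -/
theorem Min.cent_le (hm : Min p G) {t : G} (ht : orderOf t = 2) {S V : Subgroup G} (hVS : V ≤ S)
    (hSV : S ≤ normalizer (V : Set G)) (hV : IsElementaryAbelian 2 V) (hV3 : 2 ^ 3 ≤ Nat.card V)
    (htS : t ∈ S) (hSt : IsSyl 2 (S ⊓ centralizer ({t} : Set G)) (centralizer ({t} : Set G))) :
    ∃ T₁ U : Subgroup G, T₁ ≤ S ∧ U ≤ T₁ ∧ IsElementaryAbelian 2 U ∧ 2 < Nat.card U ∧
      centralizer ({t} : Set G) ≤ centralizerPPrimeCore 2 t ⊔ normalizer (T₁ : Set G) := by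
  have h2f : Fact (Nat.Prime 2) := ⟨Nat.prime_two⟩
  set C := centralizer ({t} : Set G) with hC
  have ht1 : t ≠ 1 := by
    rintro rfl
    rw [orderOf_one] at ht
    omega
  have htt : t * t = 1 := by
    have := pow_orderOf_eq_one t
    rwa [ht, pow_two] at this
  have hCs : Group.IsSolvable C := hm.sol_centralizer ht1
  have hcard : Nat.card V ≤ (Nat.card ↥(V ⊓ C)) ^ 2 := by
    apply H55Invol.card_le_sq_of_involution_action V
      (fun a ha b hb => (mem_centralizer_iff.mp ((elem_iff.mp hV).1 hb) a ha))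
      (fun a ha => by have := (elem_iff.mp hV).2 a ha; rwa [pow_two] at this) htt
    intro a ha
    exact (mem_normalizer_iff.mp (hSV htS) a).mp ha
  have hF2 : 2 < Nat.card ↥(V ⊓ C) := by
    by_contra hlt
    have h1 : Nat.card ↥(V ⊓ C) ≤ 2 := by omega
    have h2 : (Nat.card ↥(V ⊓ C)) ^ 2 ≤ 2 ^ 2 := Nat.pow_le_pow_left h1 2
    omega
  have hSt' : IsSyl 2 ((S ⊓ C).subgroupOf C) (⊤ : Subgroup C) := by
    refine ⟨le_top, hSt.pgroup.comap_subtype, ?_⟩
    rw [Subgroup.relIndex_top_right]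
    exact hSt.ndvd
  obtain ⟨T₁, U, h1, h2, h3, h4, h5⟩ := (hm.np.sub C).frat hm.hp hm.hp3 hCs hSt'
    (V := (V ⊓ C).subgroupOf C) (Subgroup.comap_mono (inf_le_inf_right _ hVS)) (by
      intro x hx
      have h6 : (x : G) ∈ S ⊓ C := hx
      have h7 : (x : G) ∈ normalizer ((V ⊓ C : Subgroup G) : Set G) :=
        le_normalizer_inf (inf_le_left.trans hSV) (inf_le_right.trans le_normalizer) h6
      rw [mem_normalizer_iff] at h7 ⊢
      intro y
      exact h7 y) (by
      have h6 : IsElementaryAbelian 2 (V ⊓ C : Subgroup G) := elem_mono hV inf_le_left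
      rw [elem_iff] at h6 ⊢
      refine ⟨?_, ?_⟩
      · intro x hx
        rw [mem_centralizer_iff]
        intro y hy
        exact Subtype.ext (mem_centralizer_iff.mp (h6.1 hx) y hy)
      · intro x hx
        exact Subtype.ext (h6.2 x hx)) (by
      rw [Nat.card_congr (subgroupOfEquivOfLe (inf_le_right : V ⊓ C ≤ C)).toEquiv]; exact hF2)
  refine ⟨T₁.map C.subtype, U.map C.subtype, ?_, map_mono h2, elem_map h3 _, ?_, ?_⟩
  · refine (map_mono h1).trans ?_
    rw [Subgroup.map_subgroupOf_eq_of_le inf_le_right]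
    exact inf_le_left
  · rw [card_map_of_injective C.subtype_injective]; exact h4
  · have h6 := map_mono (f := C.subtype) h5
    rw [← MonoidHom.range_eq_map, Subgroup.range_subtype, Subgroup.map_sup] at h6
    refine h6.trans (sup_le_sup le_rfl ?_)
    exact le_normalizer_map _

theorem Min.bal (hm : Min p G) : SSF2.Bal2 G := by
  apply SSF2.bal2_of_constrained
  intro x hx
  apply SigP.isPConstrained_of_isSolvable
  apply hm.sol_centralizer
  rintro rfl
  rw [orderOf_one] at hx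
  omega

section WW

variable {S V : Subgroup G} (hS : IsSyl 2 S ⊤) (hVS : V ≤ S) (hSV : S ≤ normalizer (V : Set G))
  (hV : IsElementaryAbelian 2 V) (hV3 : 2 ^ 3 ≤ Nat.card V)
include hSV hV hV3

theorem Min.norm_W (hm : Min p G) {U : Subgroup G} (hUS : U ≤ S) (hU : IsElementaryAbelian 2 U)
    (hU2 : 2 < Nat.card U) {n : G} (hn : U.map (MulAut.conj n).toMonoidHom ≤ S) :
    n ∈ normalizer (SSF2.Wof V : Set G) := by
  apply mem_normalizer_of_map_conj_eq
  have h1 := SSF2.Wof_eq_of_normal hm.bal hV hV3 hSV hUS hU hU2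
  have h2 := SSF2.Wof_eq_of_normal hm.bal hV hV3 hSV hn (elem_map hU _) (by rw [card_map_conj]; exact hU2)
  rw [SSF2.Wof_conj, h1] at h2
  exact h2

include hVS in
theorem Min.cent_le_W (hm : Min p G) {t : G} (ht : orderOf t = 2) (htS : t ∈ S)
    (hSt : IsSyl 2 (S ⊓ centralizer ({t} : Set G)) (centralizer ({t} : Set G))) :
    centralizer ({t} : Set G) ≤ normalizer (SSF2.Wof V : Set G) := by
  obtain ⟨T₁, U, h1, h2, h3, h4, h5⟩ := hm.cent_le ht hVS hSV hV hV3 htS hSt
  refine h5.trans (sup_le ?_ ?_)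
  · refine le_trans ?_ le_normalizer
    rw [← SSF2.Wof_inf_of_normal hm.bal hV hV3 hSV htS ht]
    exact inf_le_left
  · intro n hn
    apply hm.norm_W hSV hV hV3 (h2.trans h1) h3 h4
    refine le_trans ?_ h1
    rw [← map_conj_eq_of_mem hn]
    exact map_conj_mono n h2

include hS hVS in
theorem Min.cent_le_W' (hm : Min p G) {t : G} (ht : orderOf t = 2) (htS : t ∈ S) :
    centralizer ({t} : Set G) ≤ normalizer (SSF2.Wof V : Set G) := by
  have h2f : Fact (Nat.Prime 2) := ⟨Nat.prime_two⟩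
  have htt : t * t = 1 := by
    have := pow_orderOf_eq_one t
    rwa [ht, pow_two] at this
  obtain ⟨S₃, hS₃, hle⟩ := exists_isSyl_ge (A := S ⊓ centralizer ({t} : Set G)) (H := centralizer ({t} : Set G))
    (hS.pgroup.to_le inf_le_left) inf_le_right
  obtain ⟨h, -, hh⟩ := hS.exists_conj_le hS₃.pgroup le_top
  have hS₃' := hS₃.map_conj h
  rw [cent_map_conj] at hS₃'
  set s := h * t * h⁻¹ with hs
  have hso : orderOf s = 2 := by rw [hs, order_conj, ht]
  have htC : t ∈ S ⊓ centralizer ({t} : Set G) := ⟨htS, mem_centralizer_singleton_iff.mpr rfl⟩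
  have hsS : s ∈ S := hh ⟨t, hle htC, rfl⟩
  have hSs : IsSyl 2 (S ⊓ centralizer ({s} : Set G)) (centralizer ({s} : Set G)) := by
    apply hS₃'.of_card_ge (hS.pgroup.to_le inf_le_left) inf_le_right
    exact Subgroup.card_le_of_le (le_inf hh hS₃'.le)
  have h1 := hm.cent_le_W hVS hSV hV hV3 hso hsS hSs
  -- `h` normalizes `W`
  have hcard : Nat.card V ≤ (Nat.card ↥(V ⊓ centralizer ({t} : Set G))) ^ 2 := by
    apply H55Invol.card_le_sq_of_involution_action V
      (fun a ha b hb => (mem_centralizer_iff.mp ((elem_iff.mp hV).1 hb) a ha))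
      (fun a ha => by have := (elem_iff.mp hV).2 a ha; rwa [pow_two] at this) htt
    intro a ha
    exact (mem_normalizer_iff.mp (hSV htS) a).mp ha
  have hF2 : 2 < Nat.card ↥(V ⊓ centralizer ({t} : Set G)) := by
    by_contra hlt
    have h1 : Nat.card ↥(V ⊓ centralizer ({t} : Set G)) ≤ 2 := by omega
    have h2 : (Nat.card ↥(V ⊓ centralizer ({t} : Set G))) ^ 2 ≤ 2 ^ 2 := Nat.pow_le_pow_left h1 2
    omega
  have h2 : h ∈ normalizer (SSF2.Wof V : Set G) := by
    apply hm.norm_W hSV hV hV3 (U := V ⊓ centralizer ({t} : Set G)) (inf_le_left.trans hVS) (elem_mono hV inf_le_left) hF2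
    exact (map_conj_mono h ((inf_le_inf_right _ hVS).trans hle)).trans hh
  intro g hg
  have h3 : h * g * h⁻¹ ∈ normalizer (SSF2.Wof V : Set G) := by
    apply h1
    rw [hs, ← cent_map_conj]
    exact ⟨g, hg, rfl⟩
  have h4 := mul_mem (mul_mem (inv_mem h2) h3) h2
  have e : h⁻¹ * (h * g * h⁻¹) * h = g := by group
  rwa [e] at h4

end WW

end Cfsg.Agent.Lib.QNil
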