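import Cfsg.Agent.Lib.QNilF

/-!
# Groups in which every `p'`-subgroup is nilpotent: strong embedding (helper68)
-/

set_option autoImplicit false
set_option linter.unusedSectionVars false

namespace Cfsg.Agent.Lib.QNil

open Subgroup Cfsg Cfsg.Agent.Lib.LocBase Cfsg.Agent.Lib.PReduced

universe u

variable {G : Type u} [Group G] [Finite G] {p : ℕ}

section WW

variable {S V : Subgroup G} (hS : IsSyl 2 S ⊤) (hVS : V ≤ S) (hSV : S ≤ normalizer (V : Set G))
  (hV : IsElementaryAbelian 2 V) (hV3 : 2 ^ 3 ≤ Nat.card V)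
include hSV hV hV3

theorem card_inf_cent {t : G} (ht : orderOf t = 2) (htS : t ∈ S) : 2 < Nat.card ↥(V ⊓ centralizer ({t} : Set G)) := by
  have htt : t * t = 1 := by
    have := pow_orderOf_eq_one t
    rwa [ht, pow_two] at this
  have hcard : Nat.card V ≤ (Nat.card ↥(V ⊓ centralizer ({t} : Set G))) ^ 2 := by
    apply H55Invol.card_le_sq_of_involution_action V
      (fun a ha b hb => (mem_centralizer_iff.mp ((elem_iff.mp hV).1 hb) a ha))
      (fun a ha => by have := (elem_iff.mp hV).2 a ha; rwa [pow_two] at this) htt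
    intro a ha
    exact (mem_normalizer_iff.mp (hSV htS) a).mp ha
  by_contra hlt
  have h1 : Nat.card ↥(V ⊓ centralizer ({t} : Set G)) ≤ 2 := by omega
  have h2 : (Nat.card ↥(V ⊓ centralizer ({t} : Set G))) ^ 2 ≤ 2 ^ 2 := Nat.pow_le_pow_left h1 2
  omega

include hS hVS in
theorem Min.strong_of_ne_bot (hm : Min p G) (hW : SSF2.Wof V ≠ ⊥) :
    IsStronglyEmbedded (normalizer (SSF2.Wof V : Set G)) := by
  have h2f : Fact (Nat.Prime 2) := ⟨Nat.prime_two⟩
  set M := normalizer (SSF2.Wof V : Set G) with hM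
  have hWo := SSF2.odd_Wof hm.bal hV hV3
  have hSM : S ≤ M := hSV.trans (SSF2.normalizer_le_normalizer_Wof V)
  have hSMs : IsSyl 2 S M := hS.of_le hSM le_top
  apply StrongEmbPt.of_fix
  · apply hm.normalizer_ne_top hW
    intro hc
    rw [hc, Subgroup.card_top] at hWo
    exact (Nat.not_even_iff_odd.mpr hWo) hm.even
  · have h1 : V ≤ M := hVS.trans hSM
    obtain ⟨n, hn⟩ := IsPGroup.iff_card.mp (elem_isPGroup hV)
    have h2 : Nat.card V ∣ Nat.card M := Subgroup.card_dvd_of_le h1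
    have h3 : 2 ∣ Nat.card V := by
      rw [hn]
      apply dvd_pow_self
      rintro rfl
      rw [hn] at hV3
      norm_num at hV3
    exact even_iff_two_dvd.mpr (h3.trans h2)
  · intro x g hx hxM hyM
    -- conjugate into `S`
    have hpx : ∀ y : G, orderOf y = 2 → IsPGroup 2 (zpowers y) := fun y hy =>
      IsPGroup.of_card (n := 1) (by rw [Nat.card_zpowers, hy, pow_one])
    obtain ⟨m1, hm1, h1⟩ := hSMs.exists_conj_le (hpx x hx) (by rwa [zpowers_le])
    have hx1 : m1 * x * m1⁻¹ ∈ S := h1 ⟨x, mem_zpowers x, rfl⟩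
    have hyo : orderOf (g * x * g⁻¹) = 2 := by rw [order_conj, hx]
    obtain ⟨m2, hm2, h2⟩ := hSMs.exists_conj_le (hpx _ hyo) (by rwa [zpowers_le])
    have hy1 : m2 * (g * x * g⁻¹) * m2⁻¹ ∈ S := h2 ⟨_, mem_zpowers _, rfl⟩
    set x1 := m1 * x * m1⁻¹ with hx1d
    set y1 := m2 * (g * x * g⁻¹) * m2⁻¹ with hy1d
    set g1 := m2 * g * m1⁻¹ with hg1
    have hgx : g1 * x1 * g1⁻¹ = y1 := by rw [hg1, hx1d, hy1d]; group
    have hx1o : orderOf x1 = 2 := by rw [hx1d, order_conj, hx]
    have hy1o : orderOf y1 = 2 := by rw [hy1d, order_conj, hyo]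
    have hCx := hm.cent_le_W' hS hVS hSV hV hV3 hx1o hx1
    -- a noncyclic subgroup of `C(y1)`
    set U := V ⊓ centralizer ({y1} : Set G) with hU
    have hU2 : 2 < Nat.card U := card_inf_cent hSV hV hV3 hy1o hy1
    have hUx : U.map (MulAut.conj g1⁻¹).toMonoidHom ≤ centralizer ({x1} : Set G) := by
      have e : centralizer ({x1} : Set G) = (centralizer ({y1} : Set G)).map (MulAut.conj g1⁻¹).toMonoidHom := by
        rw [cent_map_conj, ← hgx]
        congr 2
        group
      rw [e]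
      exact map_conj_mono _ inf_le_right
    have hUp : IsPGroup 2 U := hS.pgroup.to_le (inf_le_left.trans hVS)
    obtain ⟨m, hmm, h3⟩ := hSMs.exists_conj_le (isPGroup_map_conj hUp g1⁻¹) (hUx.trans hCx)
    have h4 : m * g1⁻¹ ∈ M := by
      apply hm.norm_W hSV hV hV3 (U := U) (inf_le_left.trans hVS) (elem_mono hV inf_le_left) hU2
      rw [map_conj_mul]; exact h3
    have h5 : g1 ∈ M := by
      have := M.inv_mem (M.mul_mem (M.inv_mem hmm) h4)
      have e : (m⁻¹ * (m * g1⁻¹))⁻¹ = g1 := by group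
      rwa [e] at this
    have h6 := M.mul_mem (M.mul_mem (M.inv_mem hm2) h5) hm1
    have e : m2⁻¹ * g1 * m1 = g := by rw [hg1]; group
    rwa [e] at h6

include hS hVS in
theorem Min.core_cent_bot (hm : Min p G) (hW : SSF2.Wof V = ⊥) {t : G} (ht : orderOf t = 2) :
    centralizerPPrimeCore 2 t = ⊥ := by
  have h2f : Fact (Nat.Prime 2) := ⟨Nat.prime_two⟩
  obtain ⟨h, -, hh⟩ := hS.exists_conj_le (A := zpowers t)
    (IsPGroup.of_card (n := 1) (by rw [Nat.card_zpowers, ht, pow_one])) le_top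
  have hsS : h * t * h⁻¹ ∈ S := hh ⟨t, mem_zpowers t, rfl⟩
  have hso : orderOf (h * t * h⁻¹) = 2 := by rw [order_conj, ht]
  have h1 := SSF2.Wof_inf_of_normal hm.bal hV hV3 hSV hsS hso
  rw [hW, bot_inf_eq, Balance.cpc_conj] at h1
  exact (Subgroup.map_eq_bot_iff_of_injective _ (MulAut.conj h).injective).mp h1.symm

include hS hVS in
theorem Min.loc (hm : Min p G) (hW : SSF2.Wof V = ⊥) {M : Subgroup G} (hM : IsTwoLocal M) : SfThomp.Loc M := by
  have h2f : Fact (Nat.Prime 2) := ⟨Nat.prime_two⟩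
  obtain ⟨R, hR, hR1, hRM⟩ := hM
  have hs : Group.IsSolvable M := by rw [hRM]; exact hm.sol_normalizer hR hR1
  refine ⟨hs, ?_, (hm.np.sub M).s4free hm.hp hm.hp3 hs⟩
  rw [isCharP_iff]
  apply charP_of_solvable hs
  -- the core of `M`
  rw [← SigCon.oOf_eq_bot_iff]
  set D := SigCon.oOf 2 M with hD
  have hOZ := SfUniq.OZ_ne_bot hR hR1
  obtain ⟨⟨z, hzO⟩, hz1⟩ := (Subgroup.ne_bot_iff_exists_ne_one.mp hOZ)
  rw [mem_OZ] at hzO
  obtain ⟨hzR, hzc, hz2⟩ := hzO
  have hz : orderOf z = 2 := orderOf_eq_prime hz2 (by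
    rintro rfl
    exact hz1 rfl)
  have hRz : R ≤ centralizer ({z} : Set G) := by
    intro s hs
    rw [mem_centralizer_singleton_iff]
    exact mem_centralizer_iff.mp hzc s hs
  have hCR : centralizer (R : Set G) ≤ centralizer ({z} : Set G) :=
    centralizer_le (by rw [Set.singleton_subset_iff]; exact hzR)
  have hCM : centralizer (R : Set G) ≤ M := by rw [hRM]; exact centralizer_le_normalizer _
  have hRM' : R ≤ M := by rw [hRM]; exact le_normalizer
  have hDc : D ≤ centralizer (R : Set G) := by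
    -- `[D, R] ≤ D ∩ R = 1`
    have h1 : ⁅D, R⁆ ≤ D ⊓ R := by
      apply le_inf
      · exact commutator_le_left_of_le (hRM'.trans (SigCon.le_normalizer_oOf M))
      · exact commutator_le_right_of_le ((SigCon.oOf_le M).trans (by rw [hRM]))
    have h2 : D ⊓ R = ⊥ := by
      apply NP.frat.disjoint_of_coprime'
      obtain ⟨n, hn⟩ := IsPGroup.iff_card.mp hR
      rw [hn]
      exact Nat.Coprime.pow_right _ (SigCon.coprime_card_oOf M)
    rw [h2, le_bot_iff] at h1
    exact Subgroup.commutator_eq_bot_iff_le_centralizer.mp h1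
  have hDo : D ≤ SigCon.oOf 2 (centralizer (R : Set G)) := by
    apply SigCon.le_oOf hDc (hCM.trans (SigCon.le_normalizer_oOf M))
    exact SigCon.coprime_card_oOf M
  have h3 : D ≤ SigCon.oOf 2 (centralizer ({z} : Set G)) := by
    apply SigCon.le_oOf_of_le_oOf_centralizer _ hR hRz (hDc.trans hCR) hDo
    apply SigP.isPConstrained_of_isSolvable
    apply hm.sol_centralizer
    rintro rfl
    exact hz1 rfl
  have h4 := hm.core_cent_bot hS hVS hSV hV hV3 hW hz
  rw [eq_bot_iff, ← h4]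
  exact h3

end WW

/-- **a strongly embedded subgroup** containing a four-group -/
theorem Min.exists_strong (hm : Min p G) : ∃ M : Subgroup G, IsStronglyEmbedded M ∧
    ∃ V : Subgroup G, V ≤ M ∧ IsElementaryAbelian 2 V ∧ 2 < Nat.card V := by
  have h2f : Fact (Nat.Prime 2) := ⟨Nat.prime_two⟩
  obtain ⟨S, V, hS, hVS, hSV, hV, hV3⟩ := hm.exists_V
  by_cases hW : SSF2.Wof V = ⊥
  · have hl : ∀ M : Subgroup G, IsTwoLocal M → SfThomp.Loc M := fun M hM => hm.loc hS hVS hSV hV hV3 hW hM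
    have hO : pCore 2 G = ⊥ := by
      have hs := hm.simple
      rcases (pCore_normal 2 G).eq_bot_or_eq_top with h1 | h1
      · exact h1
      · exact absurd h1 (hm.pgroup_ne_top (isPGroup_pCore 2 G))
    have hS1 : S ≠ ⊥ := by
      rintro rfl
      rw [le_bot_iff] at hVS
      rw [hVS, Subgroup.card_bot] at hV3
      norm_num at hV3
    obtain ⟨M, hM, hSM⟩ := SfUniq.exists_max (M := normalizer (S : Set G)) ⟨S, hS.pgroup, hS1, rfl⟩
    exact ⟨M, SfUniq.stronglyEmbedded hl hO hM, V, hVS.trans (le_normalizer.trans hSM), hV, by omega⟩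
  · exact ⟨_, hm.strong_of_ne_bot hS hVS hSV hV hV3 hW, V,
      hVS.trans (hSV.trans (SSF2.normalizer_le_normalizer_Wof V)), hV, by omega⟩

end Cfsg.Agent.Lib.QNil
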