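import Cfsg.Agent.Lib.QNilG
import Cfsg.Agent.Lib.BenPe

/-!
# Groups in which every `p'`-subgroup is nilpotent are solvable for `p > 3` (helper68)
-/

set_option autoImplicit false
set_option linter.unusedSectionVars false

namespace Cfsg.Agent.Lib.QNil

open Subgroup Cfsg MulAction Cfsg.Agent.Lib.InvAct Cfsg.Agent.Lib.BenP

universe u

variable {G : Type u} [Group G] [Finite G] {p : ℕ}

section act

variable {Ω : Type u} [MulAction G Ω] [Finite Ω] [IsPretransitive G Ω] (hU : UniqueFix G Ω)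
  (hinv : ∃ t : G, orderOf t = 2)
include hU hinv

/-- the number of involutions fixing a point is a power of `p` -/
theorem ncard_pow (hnp : NP p G) (hp : p.Prime) (hp2 : p ≠ 2) {a b : Ω} (hab : a ≠ b) :
    (invSwap G a a).ncard = p ^ ((invSwap G a a).ncard.factorization p) := by
  have hpf : Fact p.Prime := ⟨hp⟩
  have hn0 : (invSwap G a a).ncard ≠ 0 := by
    have := (Set.ncard_pos (Set.toFinite _)).2 (exists_invSwap hU hinv a a)
    omega
  have h1 : ∀ {r : ℕ}, r.Prime → r ∣ (invSwap G a a).ncard → r = p := by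
    intro r hr hrn
    by_contra hne
    have hrf : Fact r.Prime := ⟨hr⟩
    obtain ⟨Q, -, hQ⟩ := SylAmb.exists_isSyl_ge (p := r) (R := (⊥ : Subgroup G)) (N := D G a b) IsPGroup.of_bot bot_le
    obtain ⟨s, hs, hsN⟩ := exists_swap_normalizing hU hinv hab hQ
    have h2 := card_syl_ge hU hab hQ hs
    have hQo : Odd (Nat.card Q) := by
      obtain ⟨k, hk⟩ := Subgroup.card_dvd_of_le hQ.1
      have h3 := odd_D hU hab
      rw [hk, Nat.odd_mul] at h3
      exact h3.1
    have h3 : s ∈ centralizer (Q : Set G) := by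
      apply hnp.invol_comm hp hp2 hs.1 _ hQo hsN
      obtain ⟨n, hn⟩ := IsPGroup.iff_card.mp hQ.2.1
      rw [hn]
      exact Nat.Coprime.pow_left _ ((Nat.coprime_primes hr hp).mpr hne)
    have h4 : Q ⊓ centralizer ({s} : Set G) = Q := by
      rw [inf_eq_left]
      intro q hq
      rw [mem_centralizer_singleton_iff]
      exact (mem_centralizer_iff.mp h3 q hq)
    rw [h4] at h2
    have h5 : 0 < Nat.card Q := Nat.card_pos
    have h6 : r ^ ((invSwap G a a).ncard.factorization r) ≤ 1 := by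
      by_contra hlt
      push Not at hlt
      nlinarith
    have h7 : (invSwap G a a).ncard.factorization r ≠ 0 := by
      have := hr.factorization_pos_of_dvd hn0 hrn
      omega
    have h8 := Nat.one_lt_pow h7 hr.one_lt
    omega
  have h2 := Nat.eq_prime_pow_of_unique_prime_dvd hn0 h1
  conv_lhs => rw [h2]
  conv_rhs => rw [h2, hp.factorization_pow, Finsupp.single_eq_same]

/-- condition (*) -/
theorem star_of (hnp : NP p G) (hp : p.Prime) (hp2 : p ≠ 2)
    (hrk : ∀ c : Ω, ∃ v w : G, v ∈ invSwap G c c ∧ w ∈ invSwap G c c ∧ v * w ∈ invSwap G c c) : Star G Ω p := by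
  have hpf : Fact p.Prime := ⟨hp⟩
  intro c f v X hv hvc hfc hX hXc hXf hvX
  rw [← ncard_pow hU hinv hnp hp hp2 (a := c) (b := f) hfc.symm]
  rw [card_conj_orbit X v]
  apply Nat.mul_lt_mul_of_pos_right _ Nat.card_pos
  have hsub : {w : G | ∃ k ∈ X, k * v * k⁻¹ = w} ⊆ invSwap G c c := by
    rintro w ⟨k, hk, rfl⟩
    refine ⟨by rw [BenP.orderOf_conj', hv], ?_⟩
    have h1 : k • c = c := hXc hk
    have h2 : k⁻¹ • c = c := by rw [inv_smul_eq_iff]; exact h1.symm
    rw [← smul_smul, ← smul_smul, h2, hvc, h1]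
  apply Set.ncard_lt_ncard _ (Set.toFinite _)
  refine ⟨hsub, ?_⟩
  intro hcon
  obtain ⟨v1, v2, hv1, hv2, hv12⟩ := hrk c
  have hvv : v * v = 1 := by
    have := pow_orderOf_eq_one v
    rwa [hv, pow_two] at this
  have hvi : v⁻¹ = v := inv_eq_of_mul_eq_one_left hvv
  have key : ∀ w ∈ invSwap G c c, w * v ∈ X ∧ v * w ∈ X := by
    intro w hw
    obtain ⟨k, hk, rfl⟩ := hcon hw
    constructor
    · have e : k * v * k⁻¹ * v = k * (v * k⁻¹ * v⁻¹) := by rw [hvi]; group
      rw [e]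
      exact mul_mem hk ((mem_normalizer_iff.mp hvX _).mp (inv_mem hk))
    · have e : v * (k * v * k⁻¹) = (v * k * v⁻¹) * k⁻¹ := by rw [hvi]; group
      rw [e]
      exact mul_mem ((mem_normalizer_iff.mp hvX _).mp hk) (inv_mem hk)
  have h1 := (key v1 hv1).1
  have h2 := (key v2 hv2).2
  have h3 : v1 * v2 ∈ X := by
    have := mul_mem h1 h2
    have e : v1 * v * (v * v2) = v1 * (v * v) * v2 := by group
    rw [e, hvv, mul_one] at this
    exact this
  obtain ⟨k, hk⟩ := IsPGroup.iff_orderOf.mp hX ⟨_, h3⟩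
  rw [Subgroup.orderOf_mk, hv12.1] at hk
  have h4 : p ∣ 2 := by
    rw [hk]
    apply dvd_pow_self
    rintro rfl
    rw [pow_zero] at hk
    omega
  exact hp2 ((Nat.prime_dvd_prime_iff_eq hp Nat.prime_two).mp h4)

/-- the final count -/
theorem count_false (hnp : NP p G) (hp : p.Prime) (hp2 : p ≠ 2) {c b₀ : Ω} (hcb : c ≠ b₀)
    (hfix : ∀ x : G, (∃ k, orderOf x = p ^ k) → ∃ b : Ω, x • b = b) : False := by
  classical
  have := Fintype.ofFinite G
  have := Fintype.ofFinite Ω
  obtain ⟨z, hz⟩ := exists_invSwap hU hinv c c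
  have hzz : z * z = 1 := by
    have := pow_orderOf_eq_one z
    rwa [hz.1, pow_two] at this
  have hzi : z⁻¹ = z := inv_eq_of_mul_eq_one_left hzz
  set n := (invSwap G c c).ncard with hn
  have hn0 : 0 < n := (Set.ncard_pos (Set.toFinite _)).2 ⟨z, hz⟩
  have hcard : ∀ a b : Ω, (invSwap G a b).ncard = n := by
    intro a b
    rw [ncard_invSwap_eq hU a b, ncard_invFix_eq a c]
  let I : Finset G := Finset.univ.filter (fun t => orderOf t = 2 ∧ t • c ≠ c)
  let E : Finset Ω := Finset.univ.erase c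
  have hE : 0 < E.card := Finset.card_pos.mpr ⟨b₀, Finset.mem_erase.mpr ⟨hcb.symm, Finset.mem_univ _⟩⟩
  have h1 : I.card = E.card * n := by
    rw [Finset.card_eq_sum_card_fiberwise (f := fun t => t • c) (t := E)]
    · rw [Finset.sum_const_nat (m := n)]
      intro y hy
      rw [← hcard c y, ← Set.ncard_coe_finset]
      congr 1
      ext t
      simp only [I, Finset.coe_filter, Finset.mem_filter, Finset.mem_univ, true_and, invSwap, Set.mem_ofPred_eq]
      constructor
      · rintro ⟨⟨h1, -⟩, h2⟩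
        exact ⟨h1, h2⟩
      · rintro ⟨h1, h2⟩
        refine ⟨⟨h1, ?_⟩, h2⟩
        rw [h2]
        exact Finset.ne_of_mem_erase hy
    · intro t ht
      simp only [I, Finset.coe_filter, Finset.mem_univ, true_and, Set.mem_ofPred_eq] at ht
      exact Finset.mem_erase.mpr ⟨ht.2, Finset.mem_univ _⟩
  let Tb : Ω → Finset G := fun b => (invSwap G b (z • b)).toFinite.toFinset.erase z
  have h2 : I ⊆ E.biUnion Tb := by
    intro t ht
    simp only [I, Finset.mem_filter, Finset.mem_univ, true_and] at ht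
    obtain ⟨ht2, htc⟩ := ht
    obtain ⟨c', hc', -⟩ := hU t ht2
    have hne : c ≠ c' := by
      rintro rfl
      exact htc hc'
    have hodd := odd_of_fix_ne hU hz.1 ht2 hz.2 hc' hne
    have htt : t * t = 1 := by
      have := pow_orderOf_eq_one t
      rwa [ht2, pow_two] at this
    have hti : t⁻¹ = t := inv_eq_of_mul_eq_one_left htt
    have hinv' : z * (z * t) * z⁻¹ = (z * t)⁻¹ := by
      rw [mul_inv_rev, hti, hzi, ← mul_assoc, hzz, one_mul]
    obtain ⟨b, hb⟩ := hfix (z * t) (hnp.inv hp hp2 hz.1 hodd hinv')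
    have hb' : t • b = z • b := by
      have h3 := congrArg (fun y => z • y) hb
      change z • ((z * t) • b) = z • b at h3
      rw [smul_smul, ← mul_assoc, hzz, one_mul] at h3
      exact h3
    rw [Finset.mem_biUnion]
    refine ⟨b, Finset.mem_erase.mpr ⟨?_, Finset.mem_univ _⟩, ?_⟩
    · rintro rfl
      exact htc (hb'.trans hz.2)
    · rw [Finset.mem_erase]
      refine ⟨?_, ?_⟩
      · rintro rfl
        exact htc hz.2
      · rw [Set.Finite.mem_toFinset]
        exact ⟨ht2, hb'⟩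
  have h3 : ∀ b ∈ E, (Tb b).card ≤ n - 1 := by
    intro b _
    have hz' : z ∈ (invSwap G b (z • b)).toFinite.toFinset := by
      rw [Set.Finite.mem_toFinset]; exact ⟨hz.1, rfl⟩
    rw [Finset.card_erase_of_mem hz', ← Set.ncard_eq_toFinset_card _ _, hcard]
  have h4 : I.card ≤ E.card * (n - 1) :=
    ((Finset.card_le_card h2).trans Finset.card_biUnion_le).trans (Finset.sum_le_card_nsmul _ _ _ h3)
  rw [h1] at h4
  have h5 : E.card * (n - 1) < E.card * n := Nat.mul_lt_mul_of_pos_left (by omega) hE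
  omega

end act

theorem Min.false (hm : Min p G) : False := by
  have hpf : Fact p.Prime := ⟨hm.hp⟩
  have h2f : Fact (Nat.Prime 2) := ⟨Nat.prime_two⟩
  obtain ⟨M, hM, V, hVM, hV, hV2⟩ := hm.exists_strong
  have hU := StrongEmbPt.uniqueFix hM
  -- two commuting involutions
  have hVn : Nontrivial V := by
    rw [← Finite.one_lt_card_iff_nontrivial]; omega
  obtain ⟨⟨v, hvV⟩, hv1⟩ := exists_ne (1 : V)
  have hv1' : v ≠ 1 := fun e => hv1 (Subtype.ext e)
  have hw : ∃ w ∈ V, w ≠ 1 ∧ w ≠ v := by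
    by_contra hcon
    push Not at hcon
    have h1 : (V : Set G) ⊆ {1, v} := by
      intro w hw
      by_cases h : w = 1
      · left; exact h
      · right; exact hcon w hw h
    have h2 : (V : Set G).ncard ≤ 2 := (Set.ncard_le_ncard h1 (Set.toFinite _)).trans (Set.ncard_insert_le _ _ |>.trans (by rw [Set.ncard_singleton]))
    have h3 : (V : Set G).ncard = Nat.card V := rfl
    omega
  obtain ⟨w, hwV, hw1, hwv⟩ := hw
  have hVe := PReduced.elem_iff.mp hV
  have ho : ∀ x ∈ V, x ≠ 1 → orderOf x = 2 := fun x hx hx1 => orderOf_eq_prime (hVe.2 x hx) hx1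
  have hinv : ∃ t : G, orderOf t = 2 := ⟨v, ho v hvV hv1'⟩
  have hfixM : ∀ x ∈ M, x • (QuotientGroup.mk 1 : G ⧸ M) = QuotientGroup.mk 1 := fun x hx =>
    (StrongEmbPt.smul_one_eq_iff x).2 hx
  have hvw : v * w ≠ 1 := by
    intro h
    apply hwv
    have h1 := hVe.2 v hvV
    rw [pow_two] at h1
    exact mul_left_cancel (h.trans h1.symm)
  have hrk : ∀ c : G ⧸ M, ∃ v w : G, v ∈ invSwap G c c ∧ w ∈ invSwap G c c ∧ v * w ∈ invSwap G c c := by
    intro c
    obtain ⟨g, rfl⟩ := exists_smul_eq G (QuotientGroup.mk 1 : G ⧸ M) c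
    have key : ∀ x ∈ V, x ≠ 1 → g * x * g⁻¹ ∈ invSwap G (g • (QuotientGroup.mk 1 : G ⧸ M)) (g • (QuotientGroup.mk 1 : G ⧸ M)) := by
      intro x hx hx1
      refine ⟨by rw [BenP.orderOf_conj', ho x hx hx1], ?_⟩
      rw [smul_smul, inv_mul_cancel_right, ← smul_smul, hfixM x (hVM hx)]
    refine ⟨g * v * g⁻¹, g * w * g⁻¹, key v hvV hv1', key w hwV hw1, ?_⟩
    have e : g * v * g⁻¹ * (g * w * g⁻¹) = g * (v * w) * g⁻¹ := by group
    rw [e]
    exact key _ (mul_mem hvV hwV) hvw
  have hstar := star_of (Ω := G ⧸ M) hU hinv hm.np hm.hp hm.p_ne_two hrk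
  obtain ⟨g, hg⟩ : ∃ g : G, g ∉ M := by
    by_contra hcon
    push Not at hcon
    exact hM.1 (eq_top_iff.mpr fun x _ => hcon x)
  have hne : (QuotientGroup.mk 1 : G ⧸ M) ≠ QuotientGroup.mk g := by
    intro h
    rw [QuotientGroup.eq] at h
    apply hg
    simpa using h
  obtain ⟨a, b, P, hab, hP, hFx⟩ := exists_two hU hinv hm.p_ne_two hstar ⟨_, _, hne⟩
  have hPa : P ≤ stabilizer G a := by
    have : a ∈ Fx (G ⧸ M) P := by rw [hFx]; simp
    exact this
  refine count_false (Ω := G ⧸ M) hU hinv hm.np hm.hp hm.p_ne_two hne ?_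
  rintro x ⟨k, hk⟩
  have hxp : IsPGroup p (zpowers x) := IsPGroup.of_card (n := k) (by rw [Nat.card_zpowers, hk])
  obtain ⟨Q, hQ1, hQ⟩ := SylAmb.exists_isSyl_ge (p := p) (R := zpowers x) (N := (⊤ : Subgroup G)) hxp le_top
  obtain ⟨h, -, rfl⟩ := hP.exists_conj hQ
  refine ⟨h • a, ?_⟩
  obtain ⟨y, hy, hyx⟩ := hQ1 (mem_zpowers x)
  have hyx' : h * y * h⁻¹ = x := hyx
  rw [← hyx', smul_smul, inv_mul_cancel_right, ← smul_smul]
  have : y • a = a := hPa hy
  rw [this]

/-- **Theorem**: `p > 3`, all `p'`-subgroups nilpotent -/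
theorem solvable_of_np (hp : p.Prime) (hp3 : 3 < p) (h : NP p G) : Group.IsSolvable G :=
  solvable_of_no_min hp hp3 (fun _ _ _ hm => hm.false) _ G rfl h

end Cfsg.Agent.Lib.QNil
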