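import Cfsg.Agent.Lib.ClosedZJ
import Cfsg.Agent.Lib.QdSection

/-!
`Qd(p)`-free groups: sections, `p`-stability, control of strong fusion. (helper51)
-/

set_option autoImplicit false

namespace Cfsg.Agent.Lib.QdCtrl

open Cfsg.Agent.Lib.CFSylow Cfsg.Agent.Lib.CFFusion Cfsg.Agent.Lib.CFControl
  Cfsg.Agent.Lib.CFLocal Cfsg.Agent.Lib.CFCore Cfsg.Agent.Lib.CFSection Cfsg.Agent.Lib.CFMin
  Cfsg.Agent.Lib.CFMain Cfsg.Agent.Lib.CFRed Cfsg.Agent.Lib.CFStmt Cfsg.Agent.Lib.ClosedCF
  Cfsg.Agent.Lib.ClosedPS Cfsg.Agent.Lib.ClosedWF Cfsg.Agent.Lib.ClosedZJ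

universe u v w

section sections

/-- sections as surjective images of subgroups, across universes. -/
theorem involves_iff {H : Type u} [Group H] {G : Type v} [Group G] :
    Cfsg.Involves H G ↔ ∃ (K : Subgroup G) (f : ↥K →* H), Function.Surjective f := by
  constructor
  · rintro ⟨K, R, hR, ⟨e⟩⟩
    exact ⟨K, e.toMonoidHom.comp (QuotientGroup.mk' _), e.surjective.comp (QuotientGroup.mk'_surjective _)⟩
  · rintro ⟨K, f, hf⟩
    have e : ((f.ker).map K.subtype).subgroupOf K = f.ker :=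
      Subgroup.comap_map_eq_self_of_injective K.subtype_injective _
    have hn : (((f.ker).map K.subtype).subgroupOf K).Normal := by rw [e]; infer_instance
    exact ⟨K, (f.ker).map K.subtype, hn,
      ⟨(QuotientGroup.quotientMulEquivOfEq e).trans (QuotientGroup.quotientKerEquivOfSurjective f hf)⟩⟩

theorem involves_trans {H : Type u} [Group H] {Y : Type v} [Group Y] {X : Type w} [Group X]
    (h : Cfsg.Involves H Y) (h' : Cfsg.Involves Y X) : Cfsg.Involves H X := by
  rw [involves_iff] at h h' ⊢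
  obtain ⟨L, g, hg⟩ := h
  obtain ⟨K, f, hf⟩ := h'
  refine ⟨(L.comap f).map K.subtype, ?_, ?_⟩
  · refine g.comp ?_
    refine MonoidHom.codRestrict (f.comp (Subgroup.inclusion (Subgroup.map_subtype_le _))) L ?_
    rintro ⟨x, y, hy, rfl⟩
    exact hy
  · intro z
    obtain ⟨l, rfl⟩ := hg z
    obtain ⟨k, hk⟩ := hf l
    refine ⟨⟨k, k, ?_, rfl⟩, ?_⟩
    · change f k ∈ L
      rw [hk]; exact l.2
    · simp only [MonoidHom.comp_apply]
      congr 1
      exact Subtype.ext hk

theorem involves_of_isSec {X Y : Type u} [Group X] [Group Y] (h : IsSec Y X) : Cfsg.Involves Y X :=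
  involves_iff.2 h

theorem involves_subgroup {X : Type u} [Group X] (K : Subgroup X) : Cfsg.Involves ↥K X :=
  involves_iff.2 ⟨K, MonoidHom.id _, fun x => ⟨x, rfl⟩⟩

theorem involves_of_surjective {X : Type u} {Y : Type v} [Group X] [Group Y] (f : X →* Y)
    (hf : Function.Surjective f) : Cfsg.Involves Y X :=
  involves_iff.2 ⟨⊤, f.comp (⊤ : Subgroup X).subtype, fun y => by
    obtain ⟨x, rfl⟩ := hf y
    exact ⟨⟨x, Subgroup.mem_top x⟩, rfl⟩⟩

end sections

section qd
variable {p : ℕ} [Fact p.Prime]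

theorem stableOn_of_qd_free {X : Type u} [Group X] [Finite X] (hp : p ≠ 2)
    (h : ¬ Cfsg.Involves ↥(Cfsg.qd p) X) (V : Subgroup X) [V.Normal] (hV : IsPGroup p V) :
    Cfsg.IsPStableOn p V := by
  by_contra hns
  obtain ⟨K, R, hR, -, he⟩ := QdSection.qd_of_natSec hp hV (PStabPair.natSec_of_not_isPStableOn hp hV hns)
  exact h ⟨K, R, hR, he⟩

/-- `Qd(p)`-free groups are `p`-stable in the normalizer form. -/
theorem normalizerPStable_of_qd_free {X : Type u} [Group X] [Finite X] (hp : p ≠ 2)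
    (h : ¬ Cfsg.Involves ↥(Cfsg.qd p) X) : Cfsg.IsNormalizerPStable p X := by
  intro P hP g hg hq
  by_contra hns
  have h1 : QuadSection.NatSec p P (nz P) := by
    refine PStabPair.natSec_of_not_stable hp hP (N := nz P) le_rfl hg
      (QuadSection.quad_of_commutator hq) ?_
    intro D hD hDn hDp hgD
    apply hns
    set C := (Subgroup.centralizer (P : Set X)).subgroupOf (nz P) with hC
    have h2 : (D.subgroupOf (nz P)).Normal := (Subgroup.normal_subgroupOf_iff_le_normalizer hD).2 hDn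
    have h3 : ((D.subgroupOf (nz P)).map (QuotientGroup.mk' C)).Normal :=
      h2.map _ (QuotientGroup.mk'_surjective C)
    have h4 : IsPGroup p ((D.subgroupOf (nz P)).map (QuotientGroup.mk' C)) := by
      rintro ⟨_, x, hx, rfl⟩
      obtain ⟨k, hk⟩ := hDp (x : X) hx
      refine ⟨k, ?_⟩
      apply Subtype.ext
      show (QuotientGroup.mk' C x) ^ p ^ k = 1
      rw [← map_pow]
      exact (QuotientGroup.eq_one_iff _).2 hk
    exact le_pCore h3 h4 ⟨⟨g, hg⟩, hgD, rfl⟩
  obtain ⟨K, R, hR, -, he⟩ := QdSection.qd_of_natSec hp hP h1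
  exact h ⟨K, R, hR, he⟩

theorem ctrl_of_qd_free {G : Type u} [Group G] [Finite G] {W : ∀ (Q : Type u) [Group Q], Subgroup Q}
    (hW : IsZJ p W) (hp : p ≠ 2) (h : ¬ Cfsg.Involves ↥(Cfsg.qd p) G) : Ctrl p W G := by
  refine ctrl_all hW.isChar ?_ G (isSec_refl G)
  intro X _ _ hX hc
  apply hW.ctrl hp hc
  intro V _ hV
  exact stableOn_of_qd_free hp (fun h' => h (involves_trans h' (involves_of_isSec hX))) V hV

end qd

end Cfsg.Agent.Lib.QdCtrl
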