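import Cfsg.Agent.Lib.QdNot2

/-!
`Qd(p)` involved in `G` implies `SL(2,p)` involved in a `p`-local subgroup. (helper51)
-/

set_option autoImplicit false

namespace Cfsg.Agent.Lib.QdLocal

open Subgroup Cfsg.Agent.Lib.QdAffine Matrix Cfsg.Agent.Lib.QdNot
  Cfsg.Agent.Lib.CFSylow Cfsg.Agent.Lib.CFFusion Cfsg.Agent.Lib.CFControl
  Cfsg.Agent.Lib.CFSection Cfsg.Agent.Lib.QdCtrl
open scoped commutatorElement MatrixGroups

universe u v

theorem involves_of_injective {X : Type u} {Y : Type v} [Group X] [Group Y] (g : Y →* X)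
    (hg : Function.Injective g) : Cfsg.Involves Y X :=
  involves_iff.2 ⟨g.range, (MonoidHom.ofInjective hg).symm.toMonoidHom, (MonoidHom.ofInjective hg).symm.surjective⟩

variable {p : ℕ} [hp : Fact p.Prime]

theorem qd_involves_sl2 : Cfsg.Involves (SL(2, ZMod p)) ↥(Cfsg.qd p) := by
  have : Function.Surjective (block (F := ZMod p)) := fun A => ⟨emb A, block_emb A⟩
  exact involves_of_surjective (X := ↥(Cfsg.qdOver (ZMod p))) block this

theorem exists_local {G : Type u} [Group G] [Finite G] (h : Cfsg.Involves ↥(Cfsg.qd p) G) :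
    ∃ P : Subgroup G, IsPGroup p P ∧ P ≠ ⊥ ∧ Cfsg.Involves (SL(2, ZMod p)) ↥(nz P) := by
  have h' : Cfsg.Involves ↥(Cfsg.qdOver (ZMod p)) G := h
  obtain ⟨K, f, hf⟩ := involves_iff.1 h'
  have hVn : ((block (F := ZMod p)).ker.comap f).Normal := inferInstance
  obtain ⟨T, hT⟩ := exists_sylIn (G := ↥K) p ((block (F := ZMod p)).ker.comap f)
  refine ⟨T.map K.subtype, hT.isPGroup.map _, ?_, ?_⟩
  · intro h0
    rw [Subgroup.map_eq_bot_iff_of_injective _ K.subtype_injective] at h0
    subst h0
    have h1 : RelSylow.IsSyl p ((⊥ : Subgroup ↥K).map f) (((block (F := ZMod p)).ker.comap f).map f) :=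
      RelSylow.IsSyl.map f hT
    rw [Subgroup.map_comap_eq_self_of_surjective hf, Subgroup.map_bot] at h1
    have htr : ∀ (v : Fin 2 → ZMod p) (n : ℕ), tr v ^ n = tr (n • v) := by
      intro v n
      induction n with
      | zero => rw [pow_zero, zero_smul, tr_zero]
      | succ n ih => rw [pow_succ, ih, ← tr_add, add_smul, one_smul]
    have h2 : IsPGroup p (block (F := ZMod p)).ker := by
      rintro ⟨y, hy⟩
      refine ⟨1, ?_⟩
      obtain ⟨v, hv⟩ := ker_eq_tr (M := y) hy
      apply Subtype.ext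
      show y ^ p ^ 1 = 1
      rw [hv, pow_one, htr]
      have : p • v = 0 := by
        ext i; simp
      rw [this, tr_zero]
    have hfin : Finite ↥(Cfsg.qdOver (ZMod p)) := Finite.of_surjective f hf
    have h3 := h1.eq_of_le h2 le_rfl h1.1
    have h4 : tr ![(1 : ZMod p), 0] ∈ (block (F := ZMod p)).ker := tr_mem_ker _
    rw [← h3, Subgroup.mem_bot, ← tr_zero] at h4
    have h5 := congrFun (tr_injective h4) 0
    simp at h5
  · have hsurj : Function.Surjective (((block (F := ZMod p)).comp f).comp (nz T).subtype) := by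
      intro A
      obtain ⟨k, hk⟩ := hf (emb A)
      obtain ⟨v, hv, m, hm, rfl⟩ := frattini (p := p) (T := T) (H := ⊤) hT le_top
        (by rw [Subgroup.normalizer_eq_top]) (mem_top k)
      refine ⟨⟨m, hm.2⟩, ?_⟩
      have h1 : block (f (v * m)) = A := by rw [hk, block_emb]
      have h2 : block (f v) = 1 := hv
      rw [map_mul, map_mul, h2, one_mul] at h1
      exact h1
    have h1 : Cfsg.Involves (SL(2, ZMod p)) ↥(nz T) := involves_of_surjective _ hsurj
    let g : ↥(nz T) →* ↥(nz (T.map K.subtype)) :=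
      (K.subtype.comp (nz T).subtype).codRestrict _ (fun x =>
        Subgroup.le_normalizer_map K.subtype ⟨x, x.2, rfl⟩)
    have hg : Function.Injective g := by
      intro x y hxy
      have : ((x : ↥K) : G) = ((y : ↥K) : G) := congrArg (fun z : ↥(nz (T.map K.subtype)) => (z : G)) hxy
      exact Subtype.ext (Subtype.ext this)
    exact involves_trans h1 (involves_of_injective g hg)

end Cfsg.Agent.Lib.QdLocal
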