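import Cfsg.Agent.Lib.QdCtrl
import Cfsg.Agent.Lib.QdFree
import Cfsg.Agent.Lib.ClsStab
import Cfsg.Agent.S2763

/-!
`Qd(p)` is not `p`-stable, and no family of characteristic `p`-functors controls strong fusion in it. (helper51)
-/

set_option autoImplicit false

namespace Cfsg.Agent.Lib.QdNot

open Subgroup Cfsg.Agent.Lib.QdAffine Matrix Cfsg.Agent.Lib.ClsStab
open scoped commutatorElement MatrixGroups

universe u

/-- commutator form of quadratic action from the elementwise form. -/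
theorem commutator_of_quadOn {X : Type*} [Group X] {a : X} {V : Subgroup X}
    (h : QuadOn a V) : ⁅⁅V, zpowers a⁆, zpowers a⁆ = ⊥ := by
  rw [commutator_eq_bot_iff_le_centralizer]
  have h0 : centralizer ((zpowers a : Subgroup X) : Set X) = centralizer ({a} : Set X) := by
    rw [zpowers_eq_closure, centralizer_closure]
  rw [h0, commutator_le]
  intro v hv z hz
  let K : Subgroup X :=
    { carrier := {z | z ∈ zpowers a ∧ ∀ v ∈ V, ⁅v, z⁆ ∈ centralizer ({a} : Set X)}
      one_mem' := ⟨one_mem _, fun v _ => by rw [commutatorElement_one_right]; exact one_mem _⟩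
      mul_mem' := by
        rintro z w ⟨hz, hz'⟩ ⟨hw, hw'⟩
        refine ⟨mul_mem hz hw, fun v hv => ?_⟩
        have h1 : ⁅v, z * w⁆ = ⁅v, z⁆ * (z * ⁅v, w⁆ * z⁻¹) := by
          simp only [commutatorElement_def]; group
        have h2 : z * ⁅v, w⁆ * z⁻¹ = ⁅v, w⁆ := by
          have h3 := hw' v hv
          rw [← h0, mem_centralizer_iff] at h3
          rw [h3 z hz]; group
        rw [h1, h2]
        exact mul_mem (hz' v hv) (hw' v hv)
      inv_mem' := by
        rintro z ⟨hz, hz'⟩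
        refine ⟨inv_mem hz, fun v hv => ?_⟩
        have h1 : ⁅v, z⁻¹⁆ = z⁻¹ * ⁅v, z⁆⁻¹ * z := by
          simp only [commutatorElement_def]; group
        have h3 := inv_mem (hz' v hv)
        have h4 := h3
        rw [← h0, mem_centralizer_iff] at h4
        have h5 := h4 z⁻¹ (inv_mem hz)
        rw [h1, h5]
        simpa using h3 }
  have haK : a ∈ K := by
    refine ⟨mem_zpowers a, fun v hv => ?_⟩
    rw [mem_centralizer_singleton_iff]
    have h1 := h v hv
    have h2 : (a * v * a⁻¹ * v⁻¹) * a = a * (a * v * a⁻¹ * v⁻¹) := by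
      calc (a * v * a⁻¹ * v⁻¹) * a = (a * (a * v * a⁻¹ * v⁻¹) * a⁻¹) * a := by rw [h1]
        _ = _ := by group
    have h3 : Commute (a * v * a⁻¹ * v⁻¹) a := h2
    have h4 : ⁅v, a⁆ = (a * v * a⁻¹ * v⁻¹)⁻¹ := by rw [commutatorElement_def]; group
    rw [h4]
    exact h3.inv_left.eq
  exact ((zpowers_le.2 haK) hz).2 v hv

theorem stableOn_of_normalizer {G : Type u} [Group G] [Finite G] {p : ℕ} [Fact p.Prime]
    (hst : Cfsg.IsNormalizerPStable p G) (V : Subgroup G) [V.Normal] (hV : IsPGroup p V) :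
    Cfsg.IsPStableOn p V := by
  refine ClosedPS.stableOn_of_hom hst (N := ⊤) (f := (Subgroup.topEquiv (G := G)).toMonoidHom)
    (Subgroup.topEquiv (G := G)).surjective ?_ V hV
  have h1 : (Subgroup.topEquiv (G := G)).toMonoidHom.ker = ⊥ :=
    (MonoidHom.ker_eq_bot_iff _).2 (Subgroup.topEquiv (G := G)).injective
  rw [h1, Subgroup.card_bot]
  exact (Fact.out : p.Prime).one_lt.ne' ∘ Nat.dvd_one.1

section
variable {p : ℕ} [hp : Fact p.Prime]

def Um (F : Type*) [Field F] (t : F) : SL(2, F) := ⟨!![1, t; 0, 1], by simp [Matrix.det_fin_two]⟩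
def Lm (F : Type*) [Field F] (t : F) : SL(2, F) := ⟨!![1, 0; t, 1], by simp [Matrix.det_fin_two]⟩
def wm (F : Type*) [Field F] : SL(2, F) := ⟨!![0, -1; 1, 0], by simp [Matrix.det_fin_two]⟩

theorem w_conj (F : Type*) [Field F] : wm F * Um F 1 * (wm F)⁻¹ = (Lm F 1)⁻¹ := by
  have h : Lm F 1 * (wm F * Um F 1) = wm F := by
    apply Subtype.ext
    rw [Matrix.SpecialLinearGroup.coe_mul, Matrix.SpecialLinearGroup.coe_mul]
    ext i j
    fin_cases i <;> fin_cases j <;> simp [wm, Um, Lm, Matrix.mul_apply, Fin.sum_univ_two]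
  rw [mul_inv_eq_iff_eq_mul, ← mul_right_inj (Lm F 1), h]; group

/-- `U L` is not of `p`-power order. -/
theorem ul_not_pElem (k : ℕ) : (Um (ZMod p) 1 * Lm (ZMod p) 1) ^ p ^ k ≠ 1 := by
  intro h
  have h1 : ((Um (ZMod p) 1 * Lm (ZMod p) 1 : SL(2, ZMod p)) : Matrix (Fin 2) (Fin 2) (ZMod p)) ^ p ^ k = 1 := by
    have h0 := congrArg (fun A : SL(2, ZMod p) => (A : Matrix (Fin 2) (Fin 2) (ZMod p))) h
    simpa using h0
  have h2 := QdFree.sub_one_pow_of_pow_eq_one h1
  have h3 : (((Um (ZMod p) 1 * Lm (ZMod p) 1 : SL(2, ZMod p)) : Matrix (Fin 2) (Fin 2) (ZMod p)) - 1).det = -1 := by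
    rw [Matrix.SpecialLinearGroup.coe_mul, Matrix.det_fin_two]
    simp [Um, Lm, Matrix.mul_apply, Fin.sum_univ_two]
  have h4 := congrArg Matrix.det h2
  rw [Matrix.det_pow, h3, Matrix.det_zero] at h4
  have : (-1 : ZMod p) ≠ 0 := by simp
  exact pow_ne_zero _ this h4

/-- `Qd(p)` is not `p`-stable. -/
theorem not_stable {Y : Type u} [Group Y] [Finite Y] (e : Y ≃* ↥(Cfsg.qd p)) :
    ¬ Cfsg.IsNormalizerPStable p Y := by
  intro hst
  have e' : Y ≃* ↥(Cfsg.qdOver (ZMod p)) := e
  clear e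
  set V : Subgroup Y := (block (F := ZMod p)).ker.comap e'.toMonoidHom with hV
  have hVmem : ∀ {y : Y}, y ∈ V ↔ block (e' y) = 1 := Iff.rfl
  have htr : ∀ (v : Fin 2 → ZMod p) (n : ℕ), tr v ^ n = tr (n • v) := by
    intro v n
    induction n with
    | zero => rw [pow_zero, zero_smul, tr_zero]
    | succ n ih => rw [pow_succ, ih, ← tr_add, add_smul, one_smul]
  have hVp : IsPGroup p V := by
    rintro ⟨y, hy⟩
    refine ⟨1, ?_⟩
    obtain ⟨v, hv⟩ := ker_eq_tr (M := e' y) hy
    apply Subtype.ext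
    apply e'.injective
    show e' (y ^ p ^ 1) = e' 1
    rw [map_pow, hv, map_one, pow_one, htr]
    have : p • v = 0 := by
      ext i; simp
    rw [this, tr_zero]
  have hstV := stableOn_of_normalizer hst V hVp
  rw [PStab.isPStableOn_iff] at hstV
  set a : Y := e'.symm (emb (Um (ZMod p) 1)) with ha
  set b : Y := e'.symm (emb (Lm (ZMod p) 1)) with hb
  set w : Y := e'.symm (emb (wm (ZMod p))) with hw
  have hwab : w * a * w⁻¹ = b⁻¹ := by
    rw [hw, ha, hb, ← map_mul, ← map_inv, ← map_mul, ← map_inv, ← map_mul, ← map_inv, ← map_mul, w_conj,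
      map_inv]
  have hquad : QuadOn a V := by
    intro v hv
    obtain ⟨x, hx⟩ := ker_eq_tr (M := e' v) hv
    apply e'.injective
    simp only [map_mul, map_inv]
    rw [ha, MulEquiv.apply_symm_apply, hx, conj_tr, block_emb]
    have h1 : (tr x)⁻¹ = tr (-x) := by
      rw [inv_eq_iff_mul_eq_one, ← tr_add, add_neg_cancel, tr_zero]
    rw [h1, ← tr_add, conj_tr, block_emb]
    congr 1
    ext i
    fin_cases i <;> simp [Um, Matrix.mulVec, dotProduct, Fin.sum_univ_two]
  have haD := hstV a (commutator_of_quadOn hquad)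
  have hDn : (PStab.Dcore p (centralizer (V : Set Y))).Normal := inferInstance
  have hbD : b ∈ PStab.Dcore p (centralizer (V : Set Y)) := by
    have h1 := hDn.conj_mem a haD w
    rw [hwab] at h1
    simpa using inv_mem h1
  obtain ⟨k, hk⟩ := PStab.exists_pow_mem_of_mem_Dcore (mul_mem haD hbD)
  have hblock : ∀ g ∈ centralizer (V : Set Y), block (e' g) = 1 := by
    intro g hg
    apply Subtype.ext
    apply Matrix.mulVec_injective
    funext c
    have h1 : e'.symm (tr c) ∈ V := by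
      rw [hVmem, MulEquiv.apply_symm_apply]
      exact tr_mem_ker c
    have h2 := (CFSylow.mem_centralizer.1 hg) _ h1
    have h3 := congrArg e' h2
    rw [map_mul, map_mul, map_inv, MulEquiv.apply_symm_apply, conj_tr] at h3
    rw [Matrix.SpecialLinearGroup.coe_one, Matrix.one_mulVec]
    exact tr_injective h3
  have h1 := hblock _ hk
  rw [map_pow, map_pow, map_mul, map_mul, ha, hb, MulEquiv.apply_symm_apply, MulEquiv.apply_symm_apply,
    block_emb, block_emb] at h1
  exact ul_not_pElem k h1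

end

end Cfsg.Agent.Lib.QdNot
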