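import Cfsg.Agent.Lib.QdNot

/-!
No family of characteristic `p`-functors controls strong fusion in `Qd(p)`. (helper51)
-/

set_option autoImplicit false

namespace Cfsg.Agent.Lib.QdNot2

open Subgroup Cfsg.Agent.Lib.QdAffine Matrix Cfsg.Agent.Lib.QdNot
  Cfsg.Agent.Lib.CFSylow Cfsg.Agent.Lib.CFFusion Cfsg.Agent.Lib.CFControl
  Cfsg.Agent.Lib.CFSection
open scoped commutatorElement MatrixGroups

universe u

variable {p : ℕ} [hp : Fact p.Prime]

theorem transport {Y : Type u} [Group Y] [Finite Y] (e : Y ≃* ↥(Cfsg.qd p)) (S : Sylow p Y)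
    (T : Subgroup ↥(S : Subgroup Y)) (hT : T ≠ ⊥) (hTc : T.Characteristic) :
    nz (T.map (S : Subgroup Y).subtype) = nz (S : Subgroup Y) ∧ nz (S : Subgroup Y) ≠ ⊤ := by
  let S' : Sylow p ↥(Cfsg.qd p) := S.mapSurjective (f := e.toMonoidHom) e.surjective
  let ε : ↥(S : Subgroup Y) ≃* ↥(S' : Subgroup ↥(Cfsg.qd p)) := e.subgroupMap (S : Subgroup Y)
  let T' : Subgroup ↥(S' : Subgroup ↥(Cfsg.qd p)) := T.map ε.toMonoidHom
  have hT' : T' ≠ ⊥ := by
    intro h
    apply hT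
    rwa [Subgroup.map_eq_bot_iff_of_injective _ ε.injective] at h
  have hTc' : T'.Characteristic := by
    rw [Subgroup.characteristic_iff_map_eq]
    intro φ
    have h1 := Subgroup.characteristic_iff_map_eq.1 hTc ((ε.trans φ).trans ε.symm)
    show (T.map ε.toMonoidHom).map φ.toMonoidHom = T.map ε.toMonoidHom
    conv_rhs => rw [← h1]
    rw [Subgroup.map_map, Subgroup.map_map]
    congr 1
    ext x
    simp
  obtain ⟨h1, h2⟩ := Cfsg.Agent.S2763.result S' T' hT' hTc'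
  have h3 : T'.map (S' : Subgroup ↥(Cfsg.qd p)).subtype = (T.map (S : Subgroup Y).subtype).map e.toMonoidHom := by
    rw [Subgroup.map_map, Subgroup.map_map]
    rfl
  have h4 : (S' : Subgroup ↥(Cfsg.qd p)) = (S : Subgroup Y).map e.toMonoidHom := rfl
  rw [h3, h4, ← Subgroup.map_equiv_normalizer_eq, ← Subgroup.map_equiv_normalizer_eq] at h1
  constructor
  · exact Subgroup.map_injective e.injective h1
  · intro h
    apply h2
    rw [h4, ← Subgroup.map_equiv_normalizer_eq]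
    have h5 : normalizer ((S : Subgroup Y) : Set Y) = ⊤ := h
    rw [h5]
    exact Subgroup.map_top_of_surjective _ e.surjective

theorem exists_V {Y : Type u} [Group Y] [Finite Y] (e : Y ≃* ↥(Cfsg.qd p)) :
    ∃ V : Subgroup Y, V.Normal ∧ IsPGroup p V ∧ centralizer (V : Set Y) ≤ V := by
  have e' : Y ≃* ↥(Cfsg.qdOver (ZMod p)) := e
  clear e
  refine ⟨(block (F := ZMod p)).ker.comap e'.toMonoidHom, inferInstance, ?_, ?_⟩
  · have htr : ∀ (v : Fin 2 → ZMod p) (n : ℕ), tr v ^ n = tr (n • v) := by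
      intro v n
      induction n with
      | zero => rw [pow_zero, zero_smul, tr_zero]
      | succ n ih => rw [pow_succ, ih, ← tr_add, add_smul, one_smul]
    rintro ⟨y, hy⟩
    refine ⟨1, ?_⟩
    obtain ⟨v, hv⟩ := ker_eq_tr (M := e' y) hy
    apply Subtype.ext
    apply e'.injective
    show e' (y ^ p ^ 1) = e' 1
    rw [map_pow, hv, map_one, pow_one, htr]
    have : p • v = 0 := by
      ext i; simp
    rw [this, tr_zero]
  · intro g hg
    show block (e' g) = 1
    apply Subtype.ext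
    apply Matrix.mulVec_injective
    funext c
    have h1 : e'.symm (tr c) ∈ (block (F := ZMod p)).ker.comap e'.toMonoidHom := by
      show block (e' (e'.symm (tr c))) = 1
      rw [MulEquiv.apply_symm_apply]
      exact tr_mem_ker c
    have h2 := (CFSylow.mem_centralizer.1 hg) _ h1
    have h3 := congrArg e' h2
    rw [map_mul, map_mul, map_inv, MulEquiv.apply_symm_apply, conj_tr] at h3
    rw [Matrix.SpecialLinearGroup.coe_one, Matrix.one_mulVec]
    exact tr_injective h3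

theorem sylow_ne_bot {Y : Type u} [Group Y] [Finite Y] (e : Y ≃* ↥(Cfsg.qd p)) (S : Sylow p Y) :
    (S : Subgroup Y) ≠ ⊥ := by
  obtain ⟨V, hVn, hVp, hVc⟩ := exists_V e
  obtain ⟨S', hS'⟩ := hVp.exists_le_sylow
  intro h
  have hVS : V ≤ S := hVp.le_sylow_of_normal S
  rw [h, le_bot_iff] at hVS
  subst hVS
  have h1 : (⊤ : Subgroup Y) ≤ ⊥ := by
    refine le_trans ?_ hVc
    intro x _
    rw [CFSylow.mem_centralizer]
    intro a ha
    rw [Subgroup.mem_bot] at ha
    subst ha; simp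
  have h3 : ∀ y : ↥(Cfsg.qd p), y = 1 := by
    intro y
    have : e.symm y = 1 := h1 (mem_top _)
    rw [← e.apply_symm_apply y, this, map_one]
  obtain ⟨x, y, -, -, hxy⟩ := QdFree.qd_exists_pElem (p := p)
  apply hxy
  rw [h3 (x * y)]
  exact ⟨0, one_pow _⟩

theorem nz_functor {Y : Type u} [Group Y] [Finite Y] (e : Y ≃* ↥(Cfsg.qd p)) (S : Sylow p Y)
    {W : ∀ (Q : Type u) [Group Q], Subgroup Q} (hW : Cfsg.IsCharPFunctor.{u} p W) :
    nz (Cfsg.inducedFunctor W (S : Subgroup Y)) = nz (S : Subgroup Y) ∧ nz (S : Subgroup Y) ≠ ⊤ := by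
  apply transport e S
  · exact hW.1 _ S.isPGroup' ((Subgroup.nontrivial_iff_ne_bot _).2 (sylow_ne_bot e S))
  · rw [Subgroup.characteristic_iff_map_eq]
    intro φ
    exact hW.2 _ _ S.isPGroup' φ

/-- no family of functors controls strong fusion in `Qd(p)`. -/
theorem not_ctrlSF {Y : Type u} [Group Y] [Finite Y] (e : Y ≃* ↥(Cfsg.qd p))
    {𝓦 : Set (∀ (Q : Type u) [Group Q], Subgroup Q)} (h𝓦 : ∀ W ∈ 𝓦, Cfsg.IsCharPFunctor.{u} p W) :
    ¬ CtrlSF p 𝓦 Y := by
  intro h
  obtain ⟨V, hVn, hVp, hVc⟩ := exists_V e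
  obtain ⟨S⟩ : Nonempty (Sylow p Y) := inferInstance
  have hVS : V ≤ S := hVp.le_sylow_of_normal S
  have hS := sylIn_sylow S
  have h1 := h _ hS V hVS
  have hne : nz (S : Subgroup Y) ≠ ⊤ := by
    obtain ⟨W, hW⟩ | h𝓦e := Set.eq_empty_or_nonempty 𝓦 |>.symm
    · exact (nz_functor e S (h𝓦 W hW)).2
    · exact (nz_functor e S ClosedPS.isChar_Wab).2
  apply hne
  rw [eq_top_iff]
  intro g _
  have h2 := h1 g (mem_top g) (by
    rw [show cj g V = V from cj_normal]; exact hVS)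
  have key : ∀ g, Reach (CFControl.mem (ind 𝓦 Y) ⊤ (S : Subgroup Y)) (S : Subgroup Y) V g →
      g ∈ nz (S : Subgroup Y) := by
    intro g hg
    induction hg with
    | one hB hg => exact Subgroup.le_normalizer (hVS (hVc hg))
    | @step g m M _ hM hm hle ih =>
      obtain ⟨_, ⟨W, hW, rfl⟩, rfl⟩ := hM
      refine mul_mem ?_ ih
      have h3 := hm.2
      change m ∈ nz (Cfsg.inducedFunctor W (S : Subgroup Y)) at h3
      rwa [(nz_functor e S (h𝓦 W hW)).1] at h3
  exact key g h2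

theorem not_controls {Y : Type u} [Group Y] [Finite Y] (e : Y ≃* ↥(Cfsg.qd p)) (S : Sylow p Y)
    {W : ∀ (Q : Type u) [Group Q], Subgroup Q} (hW : Cfsg.IsCharPFunctor.{u} p W) :
    ¬ Cfsg.ControlsStrongFusion p (Cfsg.inducedFunctor W (S : Subgroup Y)) := by
  rintro ⟨T, -, hT⟩
  obtain ⟨V, hVn, hVp, hVc⟩ := exists_V e
  have hVS : V ≤ S := hVp.le_sylow_of_normal S
  have hVT : V ≤ T := hVp.le_sylow_of_normal T
  obtain ⟨h1, hne⟩ := nz_functor e S hW
  apply hne
  rw [eq_top_iff]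
  intro g _
  obtain ⟨x, hx, hx'⟩ := (hT (V : Set Y) hVT).2 g (by
    rintro _ ⟨v, hv, rfl⟩
    exact hVT (hVn.conj_mem v hv g))
  have h2 : x⁻¹ * g ∈ V := by
    apply hVc
    rw [CFSylow.mem_centralizer]
    intro v hv
    calc x⁻¹ * g * v * (x⁻¹ * g)⁻¹ = x⁻¹ * (g * v * g⁻¹) * x := by group
      _ = v := by rw [hx' v hv]; group
  have h3 : g = x * (x⁻¹ * g) := by group
  rw [h3]
  have hx2 : x ∈ nz (S : Subgroup Y) := by rw [← h1]; exact hx
  exact mul_mem hx2 (Subgroup.le_normalizer (hVS h2))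

end Cfsg.Agent.Lib.QdNot2
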