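import Cfsg.Agent.Lib.QmPU7
import Cfsg.Agent.Lib.ChermakDelgado
import Cfsg.Agent.Lib.FrattiniP
import Cfsg.Agent.Lib.H70Frattini
set_option autoImplicit false
set_option linter.unusedSectionVars false

/-! Centrally large subgroups of a subgroup, inside the ambient group. -/
namespace Cfsg.Agent.Lib.QmCore

open Matrix Cfsg.Agent.Lib.ClSL2 Cfsg.Agent.Lib.LocBase Cfsg.Agent.Lib.ChermakDelgado
open scoped MatrixGroups commutatorElement

section CL

variable {G : Type*} [Group G] [Finite G]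

/-- the centre of a subgroup -/
def zz' (R : Subgroup G) : Subgroup G := R ⊓ Subgroup.centralizer (R : Set G)

/-- `|R| |Z(R)|` -/
noncomputable def clz (R : Subgroup G) : ℕ := Nat.card R * Nat.card (zz' R)

/-- centrally large in `S` -/
def CLin (S R : Subgroup G) : Prop := R ≤ S ∧ ∀ R' ≤ S, clz R' ≤ clz R

/-- minimal centrally large in `S` -/
def MCLin (S R : Subgroup G) : Prop := CLin S R ∧ ∀ R' ≤ R, CLin S R' → R' = R

theorem mem_zz' {R : Subgroup G} {x : G} : x ∈ zz' R ↔ x ∈ R ∧ ∀ r ∈ R, r * x = x * r := by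
  rw [zz', Subgroup.mem_inf, Subgroup.mem_centralizer_iff]; rfl

theorem map_inf_centralizer (S : Subgroup G) (R : Subgroup ↥S) :
    (R ⊓ Subgroup.centralizer (R : Set ↥S)).map S.subtype = zz' (R.map S.subtype) := by
  ext x
  rw [mem_zz']
  constructor
  · rintro ⟨y, ⟨hy, hy'⟩, rfl⟩
    refine ⟨⟨y, hy, rfl⟩, ?_⟩
    rintro _ ⟨r, hr, rfl⟩
    exact congrArg Subtype.val (Subgroup.mem_centralizer_iff.1 hy' r hr)
  · rintro ⟨⟨y, hy, rfl⟩, h⟩
    refine ⟨y, ⟨hy, ?_⟩, rfl⟩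
    refine Subgroup.mem_centralizer_iff.2 fun r hr => Subtype.ext ?_
    exact h r ⟨r, hr, rfl⟩

theorem card_map_sub (S : Subgroup G) (R : Subgroup ↥S) : Nat.card (R.map S.subtype) = Nat.card R :=
  (Nat.card_congr (R.equivMapOfInjective S.subtype S.subtype_injective).toEquiv).symm

theorem clz_map (S : Subgroup G) (R : Subgroup ↥S) :
    Nat.card R * Nat.card (Subgroup.center R) = clz (R.map S.subtype) := by
  rw [clz, card_map_sub, ← map_inf_centralizer, card_map_sub, card_center_eq]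

theorem clin_iff (S : Subgroup G) (R : Subgroup ↥S) : Cfsg.IsCentrallyLarge R ↔ CLin S (R.map S.subtype) := by
  constructor
  · intro h
    refine ⟨Subgroup.map_subtype_le R, fun R' hR' => ?_⟩
    have h1 := clm_le_max (R'.subgroupOf S)
    rw [clz_map, Subgroup.map_subgroupOf_eq_of_le hR'] at h1
    have h2 : Nat.card R * Nat.card (Subgroup.center R) = Cfsg.maxCentralProduct ↥S := h
    rw [clz_map] at h2
    rw [h2]; exact h1
  · intro h
    obtain ⟨H, hH⟩ := exists_isCentrallyLarge (P := ↥S)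
    have h1 := h.2 (H.map S.subtype) (Subgroup.map_subtype_le H)
    rw [← clz_map, ← clz_map] at h1
    exact le_antisymm (clm_le_max R) (hH.ge.trans h1)

theorem mclin_iff (S : Subgroup G) (R : Subgroup ↥S) :
    Cfsg.IsMinimalCentrallyLarge R ↔ MCLin S (R.map S.subtype) := by
  constructor
  · rintro ⟨h1, h2⟩
    refine ⟨(clin_iff S R).1 h1, fun R' hR' hc => ?_⟩
    have hR'S : R' ≤ S := hc.1
    have h3 := h2 (R'.subgroupOf S) ?_ ?_
    · rw [← h3, Subgroup.map_subgroupOf_eq_of_le hR'S]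
    · intro x hx
      obtain ⟨y, hy, hxy⟩ := hR' (show (x : G) ∈ R' from hx)
      rwa [← Subtype.ext hxy]
    · rw [clin_iff, Subgroup.map_subgroupOf_eq_of_le hR'S]; exact hc
  · rintro ⟨h1, h2⟩
    refine ⟨(clin_iff S R).2 h1, fun R' hR' hc => ?_⟩
    apply Subgroup.map_injective S.subtype_injective
    exact h2 _ (Subgroup.map_mono hR') ((clin_iff S R').1 hc)

theorem mclin_iff' {S R : Subgroup G} (h : R ≤ S) :
    Cfsg.IsMinimalCentrallyLarge (R.subgroupOf S) ↔ MCLin S R := by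
  rw [mclin_iff, Subgroup.map_subgroupOf_eq_of_le h]

theorem clin_iff' {S R : Subgroup G} (h : R ≤ S) :
    Cfsg.IsCentrallyLarge (R.subgroupOf S) ↔ CLin S R := by
  rw [clin_iff, Subgroup.map_subgroupOf_eq_of_le h]

theorem MCLin.le {S R : Subgroup G} (h : MCLin S R) : R ≤ S := h.1.1

theorem CLin.cent_le {S R : Subgroup G} (h : CLin S R) : S ⊓ Subgroup.centralizer (R : Set G) ≤ R := by
  have h1 := IsCentrallyLarge.centralizer_le ((clin_iff' h.1).2 h)
  rintro x ⟨hx, hx'⟩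
  have h2 : (⟨x, hx⟩ : ↥S) ∈ Subgroup.centralizer ((R.subgroupOf S : Subgroup ↥S) : Set ↥S) := by
    refine Subgroup.mem_centralizer_iff.2 fun r hr => Subtype.ext ?_
    exact Subgroup.mem_centralizer_iff.1 hx' r hr
  exact h1 h2

theorem CLin.zz_eq {S R : Subgroup G} (h : CLin S R) : zz' R = S ⊓ Subgroup.centralizer (R : Set G) := by
  apply le_antisymm (inf_le_inf_right _ h.1)
  exact le_inf h.cent_le inf_le_right

theorem CLin.exists_min {S R : Subgroup G} (h : CLin S R) : ∃ R' ≤ R, MCLin S R' := by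
  obtain ⟨R', h1, h2⟩ := exists_minimal_le ((clin_iff' h.1).2 h)
  refine ⟨R'.map S.subtype, ?_, (mclin_iff S R').1 h2⟩
  rintro _ ⟨x, hx, rfl⟩
  exact h1 hx

theorem exists_mclin (S : Subgroup G) : ∃ R, MCLin S R := by
  obtain ⟨R, hR⟩ := exists_isMinimalCentrallyLarge (P := ↥S)
  exact ⟨_, (mclin_iff S R).1 hR⟩

theorem MCLin.card_eq {S R R' : Subgroup G} (h : MCLin S R) (h' : MCLin S R') : Nat.card R = Nat.card R' := by
  have h1 := (mcl_card_eq ((mclin_iff' h.le).2 h) ((mclin_iff' h'.le).2 h')).1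
  rw [Nat.card_congr (Subgroup.subgroupOfEquivOfLe h.le).toEquiv,
    Nat.card_congr (Subgroup.subgroupOfEquivOfLe h'.le).toEquiv] at h1
  exact h1

theorem MCLin.comm_eq {S R R' : Subgroup G} (h : MCLin S R) (h' : MCLin S R') : ⁅R, R⁆ = ⁅R', R'⁆ := by
  have h1 := mcl_commutator_eq ((mclin_iff' h.le).2 h) ((mclin_iff' h'.le).2 h')
  have h2 := congrArg (Subgroup.map S.subtype) h1
  rwa [Subgroup.map_commutator, Subgroup.map_commutator, Subgroup.map_subgroupOf_eq_of_le h.le,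
    Subgroup.map_subgroupOf_eq_of_le h'.le] at h2

theorem CLin.mono {S Q R : Subgroup G} (hQ : Q ≤ S) (hR : R ≤ Q) (h : CLin S R) : CLin Q R :=
  ⟨hR, fun R' hR' => h.2 R' (hR'.trans hQ)⟩

theorem CLin.up {S Q R R₀ : Subgroup G} (hQ : Q ≤ S) (h : CLin Q R) (h₀ : CLin S R₀) (hR₀ : R₀ ≤ Q) : CLin S R :=
  ⟨h.1.trans hQ, fun R' hR' => (h₀.2 R' hR').trans (h.2 R₀ hR₀)⟩

theorem MCLin.mono {S Q R : Subgroup G} (hQ : Q ≤ S) (hR : R ≤ Q) (h : MCLin S R) : MCLin Q R :=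
  ⟨h.1.mono hQ hR, fun R' hR' hc => h.2 R' hR' (hc.up hQ h.1 hR)⟩

theorem MCLin.up {S Q R R₀ : Subgroup G} (hQ : Q ≤ S) (h : MCLin Q R) (h₀ : CLin S R₀) (hR₀ : R₀ ≤ Q) : MCLin S R :=
  ⟨h.1.up hQ h₀ hR₀, fun R' hR' hc => h.2 R' hR' (hc.mono hQ (hR'.trans h.1.1))⟩

theorem zz_cj (g : G) (R : Subgroup G) : zz' (cj g R) = cj g (zz' R) := by
  ext x
  rw [mem_zz']
  constructor
  · rintro ⟨⟨r, hr, rfl⟩, h⟩
    refine ⟨r, mem_zz'.2 ⟨hr, fun s hs => ?_⟩, rfl⟩
    have h1 := h ((MulAut.conj g) s) ⟨s, hs, rfl⟩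
    have h2 : (MulAut.conj g) (s * r) = (MulAut.conj g) (r * s) := by rw [map_mul, map_mul]; exact h1
    exact (MulAut.conj g).injective h2
  · rintro ⟨r, hr, rfl⟩
    obtain ⟨hr, h⟩ := mem_zz'.1 hr
    refine ⟨⟨r, hr, rfl⟩, ?_⟩
    rintro _ ⟨s, hs, rfl⟩
    show (MulAut.conj g) s * (MulAut.conj g) r = (MulAut.conj g) r * (MulAut.conj g) s
    rw [← map_mul, h s hs, map_mul]

theorem clz_cj (g : G) (R : Subgroup G) : clz (cj g R) = clz R := by
  rw [clz, clz, zz_cj, card_cj, card_cj]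

theorem cj_inv_cj (g : G) (R : Subgroup G) : cj g⁻¹ (cj g R) = R := by
  rw [cj_cj, inv_mul_cancel, cj_one]

theorem CLin.cj {Q R : Subgroup G} (hQ : Q.Normal) (h : CLin Q R) (g : G) : CLin Q (cj g R) :=
  ⟨(cj_mono h.1 g).trans (cj_le_normal hQ g), fun R' hR' => by rw [clz_cj]; exact h.2 R' hR'⟩

theorem MCLin.cj {Q R : Subgroup G} (hQ : Q.Normal) (h : MCLin Q R) (g : G) : MCLin Q (cj g R) := by
  refine ⟨h.1.cj hQ g, fun R' hR' hc => ?_⟩
  have h1 : QmCore.cj g⁻¹ R' ≤ R := by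
    have := cj_mono hR' g⁻¹
    rwa [cj_inv_cj] at this
  have h2 := h.2 _ h1 (hc.cj hQ g⁻¹)
  rw [← h2, cj_cj, mul_inv_cancel, cj_one]

/-- the Frattini subgroup of a subgroup, in the group -/
def fr (R : Subgroup G) : Subgroup G := (frattini ↥R).map R.subtype

theorem pow_mem_fr {p : ℕ} [Fact p.Prime] {R : Subgroup G} (hR : IsPGroup p R) {x : G} (hx : x ∈ R) : x ^ p ∈ fr R :=
  ⟨⟨x, hx⟩ ^ p, H70Frattini.pow_mem_frattini hR _, rfl⟩

theorem comm_mem_fr {p : ℕ} [Fact p.Prime] {R : Subgroup G} (hR : IsPGroup p R) {x y : G} (hx : x ∈ R) (hy : y ∈ R) :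
    ⁅x, y⁆ ∈ fr R :=
  ⟨⁅⟨x, hx⟩, ⟨y, hy⟩⁆, H70Frattini.commutator_le_frattini hR
    (Subgroup.commutator_mem_commutator (Subgroup.mem_top _) (Subgroup.mem_top _)), rfl⟩

theorem fr_le_self (R : Subgroup G) : fr R ≤ R := Subgroup.map_subtype_le _

theorem fr_le {p : ℕ} [Fact p.Prime] {R N : Subgroup G} (hn : ∀ r ∈ R, ∀ x ∈ N, r * x * r⁻¹ ∈ N)
    (hp : ∀ r ∈ R, r ^ p ∈ N) (hc : ∀ r ∈ R, ∀ s ∈ R, ⁅r, s⁆ ∈ N) : fr R ≤ N := by
  have hnn : (N.subgroupOf R).Normal := ⟨fun x hx r => hn r r.2 x hx⟩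
  have h1 : frattini ↥R ≤ N.subgroupOf R := by
    refine FrattiniP.frattini_le_of_elementary (p := p) ?_ (fun x => hp x x.2)
    rw [commutator_def, Subgroup.commutator_le]
    intro x _ y _
    exact hc x x.2 y y.2
  rintro _ ⟨x, hx, rfl⟩
  exact h1 hx

theorem fr_norm {R : Subgroup G} {r : G} (hr : r ∈ R) {x : G} (hx : x ∈ fr R) : r * x * r⁻¹ ∈ fr R := by
  obtain ⟨y, hy, rfl⟩ := hx
  exact ⟨⟨r, hr⟩ * y * ⟨r, hr⟩⁻¹, (inferInstance : (frattini ↥R).Normal).conj_mem y hy ⟨r, hr⟩, rfl⟩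

theorem fr_cj_le {p : ℕ} [Fact p.Prime] (g : G) {R : Subgroup G} (hR : IsPGroup p R) : fr (cj g R) ≤ cj g (fr R) := by
  apply fr_le (p := p)
  · rintro _ ⟨r, hr, rfl⟩ _ ⟨x, hx, rfl⟩
    refine ⟨r * x * r⁻¹, fr_norm hr hx, ?_⟩
    show (MulAut.conj g) (r * x * r⁻¹) = (MulAut.conj g) r * (MulAut.conj g) x * ((MulAut.conj g) r)⁻¹
    rw [map_mul, map_mul, map_inv]
  · rintro _ ⟨r, hr, rfl⟩
    refine ⟨r ^ p, pow_mem_fr hR hr, ?_⟩
    show (MulAut.conj g) (r ^ p) = ((MulAut.conj g) r) ^ p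
    rw [map_pow]
  · rintro _ ⟨r, hr, rfl⟩ _ ⟨s, hs, rfl⟩
    refine ⟨⁅r, s⁆, comm_mem_fr hR hr hs, ?_⟩
    show (MulAut.conj g) ⁅r, s⁆ = ⁅(MulAut.conj g) r, (MulAut.conj g) s⁆
    rw [map_commutatorElement]

theorem fr_cj {p : ℕ} [Fact p.Prime] (g : G) {R : Subgroup G} (hR : IsPGroup p R) : fr (cj g R) = cj g (fr R) := by
  apply le_antisymm (fr_cj_le g hR)
  have h1 := fr_cj_le g⁻¹ (R := cj g R) (hR.map _)
  rw [cj_inv_cj] at h1
  have h2 := cj_mono h1 g
  rwa [cj_cj, mul_inv_cancel, cj_one] at h2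

/-- adding a central elementary abelian subgroup does not change the Frattini subgroup -/
theorem fr_sup {p : ℕ} [Fact p.Prime] {R₀ E : Subgroup G} (hR : IsPGroup p ↥(R₀ ⊔ E))
    (hE : ∀ e ∈ E, ∀ r ∈ R₀ ⊔ E, r * e = e * r) (hEp : ∀ e ∈ E, e ^ p = 1) : fr (R₀ ⊔ E) = fr R₀ := by
  have hR₀ : IsPGroup p R₀ := hR.to_le le_sup_left
  have hdec : ∀ x ∈ R₀ ⊔ E, ∃ r ∈ R₀, ∃ e ∈ E, x = r * e := by
    intro x hx
    have h1 : R₀ ≤ Subgroup.normalizer (E : Set G) := by
      apply le_norm_of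
      intro r hr e he
      rw [hE e he r (Subgroup.mem_sup_left hr), mul_inv_cancel_right]; exact he
    exact LocBase.exists_mul_of_mem_sup_of_le' h1 (by rwa [sup_comm] at hx)
  apply le_antisymm
  · apply fr_le (p := p)
    · intro x hx y hy
      obtain ⟨r, hr, e, he, rfl⟩ := hdec x hx
      have h1 : e * y = y * e := (hE e he y (Subgroup.mem_sup_left (fr_le_self _ hy))).symm
      have h2 : r * e * y * (r * e)⁻¹ = r * y * r⁻¹ := by
        rw [mul_assoc r e y, h1]; group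
      rw [h2]; exact fr_norm hr hy
    · intro x hx
      obtain ⟨r, hr, e, he, rfl⟩ := hdec x hx
      have h1 : Commute r e := hE e he r (Subgroup.mem_sup_left hr)
      rw [h1.mul_pow, hEp e he, mul_one]
      exact pow_mem_fr hR₀ hr
    · intro x hx y hy
      obtain ⟨r, hr, e, he, rfl⟩ := hdec x hx
      obtain ⟨s, hs, f, hf, rfl⟩ := hdec y hy
      have h1 : ⁅r * e, s * f⁆ = ⁅r, s⁆ := by
        have a1 : r * e = e * r := hE e he r (Subgroup.mem_sup_left hr)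
        have a2 : s * f = f * s := hE f hf s (Subgroup.mem_sup_left hs)
        have a3 : s * e = e * s := hE e he s (Subgroup.mem_sup_left hs)
        have a4 : r * f = f * r := hE f hf r (Subgroup.mem_sup_left hr)
        have a5 : f * e = e * f := hE e he f (Subgroup.mem_sup_right hf)
        rw [commutatorElement_def, commutatorElement_def]
        have b1 : r * e * (s * f) = (r * s) * (e * f) := by
          calc r * e * (s * f) = r * (e * s) * f := by group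
            _ = r * (s * e) * f := by rw [a3]
            _ = _ := by group
        have b2 : (r * e)⁻¹ * (s * f)⁻¹ = (e * f)⁻¹ * (r⁻¹ * s⁻¹) := by
          have : s * f * (r * e) = (s * r) * (e * f) := by
            calc s * f * (r * e) = s * (f * r) * e := by group
              _ = s * (r * f) * e := by rw [a4]
              _ = s * r * (f * e) := by group
              _ = _ := by rw [a5]
          calc (r * e)⁻¹ * (s * f)⁻¹ = (s * f * (r * e))⁻¹ := by group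
            _ = ((s * r) * (e * f))⁻¹ := by rw [this]
            _ = _ := by group
        calc r * e * (s * f) * (r * e)⁻¹ * (s * f)⁻¹ = (r * e * (s * f)) * ((r * e)⁻¹ * (s * f)⁻¹) := by group
          _ = (r * s) * (e * f) * ((e * f)⁻¹ * (r⁻¹ * s⁻¹)) := by rw [b1, b2]
          _ = _ := by group
      rw [h1]; exact comm_mem_fr hR₀ hr hs
  · apply fr_le (p := p)
    · intro r hr x hx; exact fr_norm (Subgroup.mem_sup_left hr) hx
    · intro r hr; exact pow_mem_fr hR (Subgroup.mem_sup_left hr)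
    · intro r hr s hs; exact comm_mem_fr hR (Subgroup.mem_sup_left hr) (Subgroup.mem_sup_left hs)

end CL

end Cfsg.Agent.Lib.QmCore
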