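import Cfsg.Agent.Lib.QmCL
set_option autoImplicit false
set_option linter.unusedSectionVars false

/-! Centrally large subgroups in the pushing-up situation. -/
namespace Cfsg.Agent.Lib.QmCore

open Matrix Cfsg.Agent.Lib.ClSL2 Cfsg.Agent.Lib.LocBase Cfsg.Agent.Lib.ChermakDelgado
open scoped MatrixGroups commutatorElement

/-- a natural module `V ≤ Z(O_p(G))` in the pushing-up situation. -/
structure FFV {p : ℕ} {G : Type*} [Group G] (S : Sylow p G) (q : ℕ) (V : Subgroup G) : Prop where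
  n : V.Normal
  el : ∀ v ∈ V, v ^ p = 1
  Q : V ≤ Cfsg.pCore p G ⊓ Subgroup.centralizer (Cfsg.pCore p G : Set G)
  cent : ∀ B ≤ (S : Subgroup G), ¬ B ≤ Cfsg.pCore p G →
    V ⊓ Subgroup.centralizer (B : Set G) = V ⊓ Subgroup.centralizer ((S : Subgroup G) : Set G)
  cV : Nat.card V = q * Nat.card ↥(V ⊓ Subgroup.centralizer ((S : Subgroup G) : Set G))
  cS : Nat.card (S : Subgroup G) = q * Nat.card ↥(Cfsg.pCore p G)
  q1 : 1 < q

namespace PU

variable {p : ℕ} [hp : Fact p.Prime] {G : Type*} [Group G] [Finite G] {S : Sylow p G} {M : Subgroup G}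
  {F : Type*} [Field F] [Fintype F] [CharP F p] {φ : G →* PSL(2, F)}

/-- passing from `W` to `Ω₁(W)` -/
theorem cent_omega (h : PU p S M φ) {W : Subgroup G} (hWn : W.Normal) (hWc : ∀ x ∈ W, ∀ y ∈ W, x * y = y * x)
    (hWp : IsPGroup p W) (hW : Subgroup.centralizer (W : Set G) ≤ M) :
    Subgroup.centralizer (Cfsg.omegaOne p W : Set G) ≤ M := by
  have hV1n : (Cfsg.omegaOne p W).Normal := Cfsg.Agent.Lib.ZJElem.omega_normal (p := p) W
  rcases h.le_or_sup (Subgroup.centralizer (Cfsg.omegaOne p W : Set G)) with h1 | h1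
  · exact h1
  · exfalso
    have hcn : (Subgroup.centralizer (Cfsg.omegaOne p W : Set G)).Normal := Subgroup.normal_centralizer
    have h2 : Cfsg.pResidual p G ≤ Subgroup.centralizer (W : Set G) := by
      have h3 : ∀ g : G, Nat.Coprime (orderOf g) p → g ∈ Subgroup.centralizer (Cfsg.omegaOne p W : Set G) := by
        intro g hg
        set f := QuotientGroup.mk' (Subgroup.centralizer (Cfsg.omegaOne p W : Set G)) with hf
        have h4 : IsPGroup p ((S : Subgroup G).map f) := S.2.map _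
        have h5 : (S : Subgroup G).map f = ⊤ := by
          have h6 : ((Subgroup.centralizer (Cfsg.omegaOne p W : Set G)) ⊔ (S : Subgroup G)).map f =
              (S : Subgroup G).map f := by
            rw [Subgroup.map_sup, (Subgroup.map_eq_bot_iff _).2 (by rw [QuotientGroup.ker_mk']), bot_sup_eq]
          rw [← h6, h1, ← MonoidHom.range_eq_map, MonoidHom.range_eq_top]
          exact QuotientGroup.mk'_surjective _
        have h7 : f g = 1 := by
          apply eq_one_of_isPGroup_of_pow h4 (a := f g) (n := orderOf g)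
          · rw [h5]; trivial
          · exact hg
          · rw [← map_pow, pow_orderOf_eq_one, map_one]
        exact (QuotientGroup.eq_one_iff g).1 h7
      unfold Cfsg.pResidual
      rw [Subgroup.closure_le]
      intro g hg
      show g ∈ Subgroup.centralizer (W : Set G)
      rw [Subgroup.mem_centralizer_iff]
      intro v hv
      refine (comm_of_omega hWc hWp (fun v hv => hWn.conj_mem v hv g) hg ?_ v hv).symm
      intro v hv hvp
      exact (Subgroup.mem_centralizer_iff.1 (h3 g hg) v (ThompsonJ.mem_omegaOne hv hvp)).symm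
    apply h.coatom.1
    rw [eq_top_iff, ← PNilp.sylow_sup_pResidual S]
    exact sup_le h.le (h2.trans hW)

/-- a subgroup of `Z(S)` not normal in `G` gives a natural module in its normal closure. -/
theorem exists_ffv (h : PU p S M φ) (hchar : Subgroup.centralizer (Cfsg.pCore p G : Set G) ≤ Cfsg.pCore p G)
    {Z₀ : Subgroup G} (hZ₀ : Z₀ ≤ ZS S) (hn : ¬ Z₀.Normal) (hJ : ¬ JS S ≤ Cfsg.pCore p G) :
    FFV S (Fintype.card F) (Cfsg.omegaOne p (Subgroup.normalClosure (Z₀ : Set G))) := by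
  set W := Subgroup.normalClosure (Z₀ : Set G) with hW
  set V := Cfsg.omegaOne p W with hV
  have hWn : W.Normal := Subgroup.normalClosure_normal
  have hWVZ : W ≤ VZ S := Subgroup.normalClosure_mono (SetLike.coe_subset_coe.2 hZ₀)
  have hWc : ∀ x ∈ W, ∀ y ∈ W, x * y = y * x := fun x hx y hy => VZ_comm hchar x (hWVZ hx) y (hWVZ hy)
  have hWQ := hWVZ.trans (VZ_le hchar)
  have hWp : IsPGroup p W := AmalgamCharP.isPGroup_pCore.to_le (hWQ.trans inf_le_left)
  have hWM : Subgroup.centralizer (W : Set G) ≤ M := by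
    by_contra hcon
    apply hn
    apply normal_of_le_center
    apply h.central_of hcon
    · exact Subgroup.centralizer_le Subgroup.subset_normalClosure
    · rw [Subgroup.le_centralizer_iff]; exact hZ₀.trans inf_le_right
  have hVM := h.cent_omega hWn hWc hWp hWM
  have hVn : V.Normal := Cfsg.Agent.Lib.ZJElem.omega_normal (p := p) W
  have hVW : V ≤ W := ThompsonJ.omegaOne_le _
  have hVQ := hVW.trans hWQ
  have hVe : Cfsg.IsElementaryAbelian p V := ThompsonJ.elemAb_omegaOne (comm_inst hWc)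
  have hQC : Cfsg.pCore p G ≤ Subgroup.centralizer (V : Set G) := by
    rw [Subgroup.le_centralizer_iff]; exact hVQ.trans inf_le_right
  have hCn : (Subgroup.centralizer (V : Set G)).Normal := Subgroup.normal_centralizer
  have hCk : Subgroup.centralizer (V : Set G) ≤ φ.ker := h.le_ker_of_normal hCn hVM
  have hSC := h.inf_eq hQC hCk
  obtain ⟨A, hA, hAQ⟩ : ∃ A ∈ 𝒜 S, ¬ A ≤ Cfsg.pCore p G := by
    by_contra hcon
    push Not at hcon
    exact hJ (sSup_le hcon)
  have hnot : ∀ B ≤ (S : Subgroup G), ¬ B ≤ Cfsg.pCore p G → ¬ B ≤ Subgroup.centralizer (V : Set G) := by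
    intro B hB hBQ hle
    apply hBQ
    rw [← hSC]; exact le_inf hB hle
  have hAC : A ⊓ Subgroup.centralizer (V : Set G) = A ⊓ Cfsg.pCore p G := by
    rw [← hSC, ← inf_assoc, inf_eq_left.2 hA.1]
  have hoff : Nat.card V * Nat.card ↥(A ⊓ Subgroup.centralizer (V : Set G)) ≤
      Nat.card A * Nat.card ↥(V ⊓ Subgroup.centralizer (A : Set G)) := by
    rw [hAC]
    refine (h.off_est hA hVn hVQ).trans (Nat.mul_le_mul_left _ ?_)
    exact Subgroup.card_le_of_le (inf_le_inf_left _ (mem_cent hA.2.1))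
  obtain ⟨-, -, -, -, -, h2, -, h4, h5⟩ := h.ff hVn hVe hQC hVM hA.1 (hnot A hA.1 hAQ) hoff
  exact
    { n := hVn
      el := fun v hv => hVe.2 v hv
      Q := hVQ
      cent := fun B hB hBQ => h4 B hB (hnot B hB hBQ)
      cV := h2
      cS := h5
      q1 := Fintype.one_lt_card }

end PU

namespace FFV

variable {p : ℕ} [hp : Fact p.Prime] {G : Type*} [Group G] [Finite G] {S : Sylow p G} {q : ℕ} {V : Subgroup G}

theorem relQ (f : FFV S q V) {R : Subgroup G} (hR : R ≤ S) :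
    Nat.card R ≤ q * Nat.card ↥(R ⊓ Cfsg.pCore p G) := by
  have h1 := card_sup_inf (N := Cfsg.pCore p G) (H := R) (pCore_normal p G)
  have h2 : Nat.card ↥(Cfsg.pCore p G ⊔ R) ≤ Nat.card (S : Subgroup G) :=
    Subgroup.card_le_of_le (sup_le (AmalgamCharP.pCore_le_sylow S) hR)
  rw [f.cS] at h2
  have h3 : Nat.card ↥(Cfsg.pCore p G) * Nat.card R ≤
      Nat.card ↥(Cfsg.pCore p G) * (q * Nat.card ↥(R ⊓ Cfsg.pCore p G)) := by
    rw [← h1, inf_comm R]
    calc _ ≤ q * Nat.card ↥(Cfsg.pCore p G) * Nat.card ↥(Cfsg.pCore p G ⊓ R) := Nat.mul_le_mul_right _ h2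
      _ = _ := by ring
  exact Nat.le_of_mul_le_mul_left h3 Nat.card_pos

/-- the replacement of a minimal centrally large subgroup not in `O_p(G)` -/
theorem main (f : FFV S q V) {R : Subgroup G} (hR : MCLin (S : Subgroup G) R) (hRQ : ¬ R ≤ Cfsg.pCore p G) :
    MCLin (S : Subgroup G) ((R ⊓ Cfsg.pCore p G) ⊔ V) ∧
    zz' ((R ⊓ Cfsg.pCore p G) ⊔ V) = (zz' R ⊓ Cfsg.pCore p G) ⊔ V ∧
    Nat.card (zz' R) = q * Nat.card ↥(zz' R ⊓ Cfsg.pCore p G) ∧
    V ⊓ zz' R = V ⊓ Subgroup.centralizer ((S : Subgroup G) : Set G) ∧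
    V ⊓ R = V ⊓ Subgroup.centralizer ((S : Subgroup G) : Set G) ∧
    Nat.card R = q * Nat.card ↥(R ⊓ Cfsg.pCore p G) := by
  set Q := Cfsg.pCore p G with hQ
  have hQn := pCore_normal p G
  have hQS : Q ≤ S := AmalgamCharP.pCore_le_sylow S
  set V₀ := V ⊓ Subgroup.centralizer ((S : Subgroup G) : Set G) with hV₀
  set R' := (R ⊓ Q) ⊔ V with hR'
  have hVQ : V ≤ Q := f.Q.trans inf_le_left
  have hVC : ∀ v ∈ V, ∀ x ∈ Q, x * v = v * x := fun v hv x hx => Subgroup.mem_centralizer_iff.1 (f.Q hv).2 x hx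
  have hR'Q : R' ≤ Q := sup_le inf_le_right hVQ
  have hzR : zz' R = (S : Subgroup G) ⊓ Subgroup.centralizer (R : Set G) := hR.1.zz_eq
  have hVz : V ⊓ zz' R = V₀ := by
    rw [hzR, hV₀, ← f.cent R hR.le hRQ]
    ext x
    simp only [Subgroup.mem_inf]
    constructor
    · rintro ⟨h1, -, h2⟩; exact ⟨h1, h2⟩
    · rintro ⟨h1, h2⟩; exact ⟨h1, hQS (hVQ h1), h2⟩
  have hzQ : (zz' R ⊓ Q) ⊔ V ≤ zz' R' := by
    apply sup_le
    · rintro x ⟨hx, hxQ⟩
      obtain ⟨hxR, hxc⟩ := mem_zz'.1 hx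
      refine mem_zz'.2 ⟨Subgroup.mem_sup_left ⟨hxR, hxQ⟩, ?_⟩
      have : R' ≤ Subgroup.centralizer ({x} : Set G) := by
        apply sup_le
        · rintro y ⟨hy, -⟩
          rw [Subgroup.mem_centralizer_singleton_iff]; exact hxc y hy
        · intro v hv
          rw [Subgroup.mem_centralizer_singleton_iff]; exact (hVC v hv x hxQ).symm
      intro r hr
      exact Subgroup.mem_centralizer_singleton_iff.1 (this hr)
    · intro v hv
      exact mem_zz'.2 ⟨Subgroup.mem_sup_right hv, fun r hr => hVC v hv r (hR'Q hr)⟩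
  have hcV : Nat.card V = q * Nat.card V₀ := f.cV
  have hV0pos : 0 < Nat.card V₀ := Nat.card_pos
  have hqpos : 0 < q := by have := f.q1; omega
  -- |(zz R ∩ Q) V| = q |zz R ∩ Q|
  have hc1 : Nat.card ↥((zz' R ⊓ Q) ⊔ V) = q * Nat.card ↥(zz' R ⊓ Q) := by
    have h1 := card_sup_inf (N := V) (H := zz' R ⊓ Q) f.n
    have h2 : V ⊓ (zz' R ⊓ Q) = V₀ := by
      rw [← inf_assoc, hVz, inf_eq_left]; exact inf_le_left.trans hVQ
    rw [h2, sup_comm, hcV] at h1
    apply Nat.eq_of_mul_eq_mul_right hV0pos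
    rw [h1]; ring
  have hc2 : Nat.card R' * Nat.card ↥(V ⊓ R) = Nat.card V * Nat.card ↥(R ⊓ Q) := by
    have h1 := card_sup_inf (N := V) (H := R ⊓ Q) f.n
    have h2 : V ⊓ (R ⊓ Q) = V ⊓ R := by
      rw [← inf_assoc, inf_eq_left]; exact inf_le_left.trans hVQ
    rwa [h2, sup_comm] at h1
  have hr1 : Nat.card R ≤ q * Nat.card ↥(R ⊓ Q) := f.relQ hR.le
  have hzS : zz' R ≤ S := inf_le_left.trans hR.le
  have hr2 : Nat.card (zz' R) ≤ q * Nat.card ↥(zz' R ⊓ Q) := f.relQ hzS
  have hmax : clz R' ≤ clz R := hR.1.2 R' (hR'Q.trans hQS)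
  have hzc : q * Nat.card ↥(zz' R ⊓ Q) ≤ Nat.card (zz' R') := by
    rw [← hc1]; exact Subgroup.card_le_of_le hzQ
  have hpz : 0 < Nat.card ↥(zz' R ⊓ Q) := Nat.card_pos
  have hpR : 0 < Nat.card ↥(R ⊓ Q) := Nat.card_pos
  have hRR' : Nat.card ↥(R ⊓ Q) ≤ Nat.card R' := Subgroup.card_le_of_le le_sup_left
  by_cases hz : zz' R ≤ Q
  · exfalso
    have hzz : zz' R ⊓ Q = zz' R := inf_eq_left.2 hz
    rw [hzz] at hzc hpz
    have h1 : Nat.card R' * (q * Nat.card (zz' R)) ≤ Nat.card R * Nat.card (zz' R) :=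
      (Nat.mul_le_mul_left _ hzc).trans hmax
    have h2 : q * Nat.card R' ≤ Nat.card R := by
      refine Nat.le_of_mul_le_mul_right (c := Nat.card (zz' R)) ?_ hpz
      calc q * Nat.card R' * Nat.card (zz' R) = Nat.card R' * (q * Nat.card (zz' R)) := by ring
        _ ≤ _ := h1
    have h3 : Nat.card R' ≤ Nat.card ↥(R ⊓ Q) := Nat.le_of_mul_le_mul_left (h2.trans hr1) hqpos
    have h4 : R ⊓ Q = R' := Subgroup.eq_of_le_of_card_ge le_sup_left h3
    have h5 : R' ≤ R := by rw [← h4]; exact inf_le_left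
    have h6 : CLin (S : Subgroup G) R' := by
      refine ⟨hR'Q.trans hQS, fun X hX => (hR.1.2 X hX).trans ?_⟩
      calc clz R = Nat.card R * Nat.card (zz' R) := rfl
        _ ≤ (q * Nat.card ↥(R ⊓ Q)) * Nat.card (zz' R) := Nat.mul_le_mul_right _ hr1
        _ ≤ (q * Nat.card R') * Nat.card (zz' R) := Nat.mul_le_mul_right _ (Nat.mul_le_mul_left _ hRR')
        _ = Nat.card R' * (q * Nat.card (zz' R)) := by ring
        _ ≤ Nat.card R' * Nat.card (zz' R') := Nat.mul_le_mul_left _ hzc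
    have h7 := hR.2 R' h5 h6
    exact hRQ (h7 ▸ hR'Q)
  · have hVR : V ⊓ R = V₀ := by
      apply le_antisymm
      · rw [hV₀, ← f.cent (zz' R) hzS hz]
        refine le_inf inf_le_left ?_
        rw [Subgroup.le_centralizer_iff]
        intro x hx
        rw [Subgroup.mem_centralizer_iff]
        intro y hy
        exact (mem_zz'.1 hx).2 y hy.2
      · rw [← hVz]; exact inf_le_inf_left _ inf_le_left
    have hc3 : Nat.card R' = q * Nat.card ↥(R ⊓ Q) := by
      rw [hVR, hcV] at hc2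
      apply Nat.eq_of_mul_eq_mul_right hV0pos
      rw [hc2]; ring
    have e1 : Nat.card R' * Nat.card (zz' R') ≤ Nat.card R * Nat.card (zz' R) := hmax
    have e2 : Nat.card R * Nat.card (zz' R) ≤ Nat.card R' * Nat.card (zz' R) := by
      rw [hc3]; exact Nat.mul_le_mul_right _ hr1
    have hpR' : 0 < Nat.card R' := Nat.card_pos
    have e3 : Nat.card (zz' R') ≤ Nat.card (zz' R) := Nat.le_of_mul_le_mul_left (e1.trans e2) hpR'
    have e4 : Nat.card (zz' R) ≤ Nat.card (zz' R') := hr2.trans hzc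
    have e5 : Nat.card (zz' R) = Nat.card (zz' R') := le_antisymm e4 e3
    have e6 : Nat.card (zz' R) = q * Nat.card ↥(zz' R ⊓ Q) := le_antisymm hr2 (hzc.trans e5.ge)
    have e7 : Nat.card R = Nat.card R' := by
      apply le_antisymm (hr1.trans hc3.ge)
      rw [← e5] at e1
      exact Nat.le_of_mul_le_mul_right e1 Nat.card_pos
    have hCL : CLin (S : Subgroup G) R' := by
      refine ⟨hR'Q.trans hQS, fun X hX => (hR.1.2 X hX).trans ?_⟩
      rw [clz, clz, e5, e7]
    refine ⟨⟨hCL, fun X hX hXc => ?_⟩, ?_, e6, hVz, hVR, by rw [e7, hc3]⟩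
    · obtain ⟨Y, hY, hYm⟩ := hXc.exists_min
      have h1 := hYm.card_eq hR
      have h2 : Y = R' := Subgroup.eq_of_le_of_card_ge (hY.trans hX) (by rw [h1, e7])
      exact le_antisymm hX (h2 ▸ hY)
    · symm
      apply Subgroup.eq_of_le_of_card_ge hzQ
      rw [hc1, ← e6, e5]

/-- some minimal centrally large subgroup lies in `O_p(G)` -/
theorem exists_in (f : FFV S q V) : ∃ R, MCLin (S : Subgroup G) R ∧ R ≤ Cfsg.pCore p G := by
  obtain ⟨R, hR⟩ := exists_mclin (S : Subgroup G)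
  by_cases h : R ≤ Cfsg.pCore p G
  · exact ⟨R, hR, h⟩
  · exact ⟨_, (f.main hR h).1, sup_le inf_le_right (f.Q.trans inf_le_left)⟩

/-- conjugates of minimal centrally large subgroups inside `O_p(G)` -/
theorem cj_mcl {R : Subgroup G} (hR : MCLin (S : Subgroup G) R) (hRQ : R ≤ Cfsg.pCore p G) (g : G) :
    MCLin (S : Subgroup G) (cj g R) ∧ cj g R ≤ Cfsg.pCore p G := by
  have hQn := pCore_normal p G
  have hQS : Cfsg.pCore p G ≤ S := AmalgamCharP.pCore_le_sylow S
  have h1 : cj g R ≤ Cfsg.pCore p G := (cj_mono hRQ g).trans (cj_le_normal hQn g)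
  exact ⟨((hR.mono hQS hRQ).cj hQn g).up hQS hR.1 hRQ, h1⟩

/-- the derived subgroup of a minimal centrally large subgroup is normal in `G` -/
theorem comm_normal (f : FFV S q V) {R : Subgroup G} (hR : MCLin (S : Subgroup G) R) : (⁅R, R⁆ : Subgroup G).Normal := by
  obtain ⟨R₁, h1, h2⟩ := f.exists_in
  rw [hR.comm_eq h1]
  constructor
  intro x hx g
  have h3 := (cj_mcl h1 h2 g).1
  have h4 : ⁅cj g R₁, cj g R₁⁆ = ⁅R₁, R₁⁆ := h3.comm_eq h1
  rw [← h4, cj, ← Subgroup.map_commutator]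
  exact ⟨x, hx, rfl⟩

end FFV

end Cfsg.Agent.Lib.QmCore
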