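import Cfsg.Agent.Lib.QmCL2
import Cfsg.Agent.Lib.NatSL2
set_option autoImplicit false
set_option linter.unusedSectionVars false

/-! Centrally large subgroups in the pushing-up situation: conclusions. -/
namespace Cfsg.Agent.Lib.QmCore

open Matrix Cfsg.Agent.Lib.ClSL2 Cfsg.Agent.Lib.LocBase Cfsg.Agent.Lib.ChermakDelgado
open scoped MatrixGroups commutatorElement

section Equiv

variable {P : Type*} [Group P] [Finite P]

theorem cl_map_equiv (e : P ≃* P) {Q : Subgroup P} (hQ : Cfsg.IsCentrallyLarge Q) :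
    Cfsg.IsCentrallyLarge (Q.map e.toMonoidHom) := by
  have h1 : Nat.card (Q.map e.toMonoidHom) = Nat.card Q := (Nat.card_congr (e.subgroupMap Q).toEquiv).symm
  have h2 : Nat.card (Subgroup.center ↥(Q.map e.toMonoidHom)) = Nat.card (Subgroup.center ↥Q) :=
    (Nat.card_congr (Subgroup.centerCongr (e.subgroupMap Q)).toEquiv).symm
  show Nat.card (Q.map e.toMonoidHom) * Nat.card (Subgroup.center ↥(Q.map e.toMonoidHom)) = _
  rw [h1, h2]; exact hQ

theorem map_symm_map (e : P ≃* P) (Q : Subgroup P) : (Q.map e.toMonoidHom).map e.symm.toMonoidHom = Q := by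
  rw [Subgroup.map_map]
  have : e.symm.toMonoidHom.comp e.toMonoidHom = MonoidHom.id P := by ext x; simp
  rw [this, Subgroup.map_id]

theorem mcl_map_equiv (e : P ≃* P) {Q : Subgroup P} (hQ : Cfsg.IsMinimalCentrallyLarge Q) :
    Cfsg.IsMinimalCentrallyLarge (Q.map e.toMonoidHom) := by
  refine ⟨cl_map_equiv e hQ.1, fun R' hR' hc => ?_⟩
  have h1 : R'.map e.symm.toMonoidHom ≤ Q := by
    have := Subgroup.map_mono (f := e.symm.toMonoidHom) hR'
    rwa [map_symm_map] at this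
  have h2 := hQ.2 _ h1 (cl_map_equiv e.symm hc)
  rw [← h2]
  exact (map_symm_map e.symm R').symm

theorem mcl_comm_char {Q : Subgroup P} (hQ : Cfsg.IsMinimalCentrallyLarge Q) : (⁅Q, Q⁆ : Subgroup P).Characteristic := by
  rw [Subgroup.characteristic_iff_map_eq]
  intro e
  rw [Subgroup.map_commutator]
  exact mcl_commutator_eq (mcl_map_equiv e hQ) hQ

end Equiv

namespace PU

variable {p : ℕ} [hp : Fact p.Prime] {G : Type*} [Group G] [Finite G] {S : Sylow p G} {M : Subgroup G}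
  {F : Type*} [Field F] [Fintype F] [CharP F p] {φ : G →* PSL(2, F)}

theorem ZS_normal_of_J (hJT : (S : Subgroup G) ≤ Subgroup.centralizer (ZJ S : Set G)) (hJ : JS S ≤ Cfsg.pCore p G) :
    (ZS S).Normal := by
  have hQS := AmalgamCharP.pCore_le_sylow (p := p) S
  have hJQ : ThompsonJ.J (fun A => IsMulCommutative A) (Cfsg.pCore p G) = JS S :=
    ThompsonJ.J_eq_of_J_le A_nonempty hQS hJ
  have hQn := pCore_normal p G
  have hJn : (JS S).Normal := by
    rw [← hJQ, ← Subgroup.normalizer_eq_top_iff, eq_top_iff]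
    have h1 := ThompsonJ.normalizer_le_normalizer_J_ab (Cfsg.pCore p G)
    rwa [Subgroup.normalizer_eq_top] at h1
  have hZJn : (ZJ S).Normal := inf_normal' hJn (cent_normal hJn)
  have h1 : ZS S = ZJ S := by
    apply le_antisymm
    · intro z hz
      obtain ⟨A, hA⟩ := A_nonempty (p := p) (G := G) (S := S)
      have h2 : z ∈ A := mem_of_cent hA hz.1 (Subgroup.centralizer_le (SetLike.coe_subset_coe.2 hA.1) hz.2)
      exact ⟨ThompsonJ.le_J hA h2, Subgroup.centralizer_le (SetLike.coe_subset_coe.2 JS_le) hz.2⟩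
    · refine le_inf ZJ_le_S ?_
      rw [Subgroup.le_centralizer_iff]; exact hJT
  rw [h1]; exact hZJn

theorem normal_of_ZS (h : PU p S M φ) (hZ : (ZS S).Normal) {Z₀ : Subgroup G} (hZ₀ : Z₀ ≤ ZS S) : Z₀.Normal := by
  obtain ⟨x, hx⟩ := h.exists_not_mem
  have h1 : (S : Subgroup G) ≤ Subgroup.centralizer (ZS S : Set G) := by
    rw [Subgroup.le_centralizer_iff]; exact inf_le_right
  have h2 : Subgroup.centralizer (ZS S : Set G) = ⊤ := by
    rw [eq_top_iff, ← h.gen_conj hx]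
    exact sup_le h1 ((cj_mono h1 x).trans (cj_le_normal (cent_normal hZ) x))
  apply normal_of_le_center
  intro z hz
  rw [Subgroup.mem_center_iff]
  intro g
  have h3 : g ∈ Subgroup.centralizer (ZS S : Set G) := by rw [h2]; trivial
  exact (Subgroup.mem_centralizer_iff.1 h3 z (hZ₀ hz)).symm

theorem dich (h : PU p S M φ) (hchar : Subgroup.centralizer (Cfsg.pCore p G : Set G) ≤ Cfsg.pCore p G)
    (hJT : (S : Subgroup G) ≤ Subgroup.centralizer (ZJ S : Set G)) {Z₀ : Subgroup G} (hZ₀ : Z₀ ≤ ZS S) :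
    Z₀.Normal ∨ FFV S (Fintype.card F) (Cfsg.omegaOne p (Subgroup.normalClosure (Z₀ : Set G))) := by
  by_cases hn : Z₀.Normal
  · exact Or.inl hn
  · refine Or.inr (h.exists_ffv hchar hZ₀ hn ?_)
    intro hJ
    exact hn (h.normal_of_ZS (ZS_normal_of_J hJT hJ) hZ₀)

end PU

namespace FFV

variable {p : ℕ} [hp : Fact p.Prime] {G : Type*} [Group G] [Finite G] {S : Sylow p G} {q : ℕ} {V : Subgroup G}

theorem not_le (f : FFV S q V) : ¬ V ≤ Subgroup.centralizer ((S : Subgroup G) : Set G) := by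
  intro h
  have h1 := f.cV
  rw [inf_eq_left.2 h] at h1
  have h2 : 0 < Nat.card V := Nat.card_pos
  have h3 := f.q1
  nlinarith

theorem join_normal (h : ∀ R, MCLin (S : Subgroup G) R → R ≤ Cfsg.pCore p G) :
    ((Cfsg.minimalCentrallyLargeJoin ↥(S : Subgroup G)).map (S : Subgroup G).subtype).Normal := by
  constructor
  intro n hn g
  set N := (Cfsg.minimalCentrallyLargeJoin ↥(S : Subgroup G)).map (S : Subgroup G).subtype with hN
  have h1 : Cfsg.minimalCentrallyLargeJoin ↥(S : Subgroup G) ≤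
      (N.comap (MulAut.conj g).toMonoidHom).comap (S : Subgroup G).subtype := by
    apply sSup_le
    intro R hR r hr
    have hR' : MCLin (S : Subgroup G) (R.map (S : Subgroup G).subtype) := (mclin_iff _ R).1 hR
    obtain ⟨h2, -⟩ := cj_mcl hR' (h _ hR') g
    have h3 : Cfsg.IsMinimalCentrallyLarge ((cj g (R.map (S : Subgroup G).subtype)).subgroupOf (S : Subgroup G)) :=
      (mclin_iff' h2.le).2 h2
    have h4 : (MulAut.conj g) (r : G) ∈ cj g (R.map (S : Subgroup G).subtype) := ⟨r, ⟨r, hr, rfl⟩, rfl⟩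
    exact ⟨⟨_, h2.le h4⟩, le_sSup (α := Subgroup ↥(S : Subgroup G)) h3 h4, rfl⟩
  obtain ⟨s, hs, rfl⟩ := hn
  exact h1 hs

theorem mcl_join (f : FFV S q V) {R : Subgroup G} (hR : MCLin (S : Subgroup G) R) (hV : V ≤ ⁅R, R⁆) :
    ∀ R', MCLin (S : Subgroup G) R' → R' ≤ Cfsg.pCore p G := by
  intro R' hR'
  by_contra hcon
  obtain ⟨-, -, -, -, h1, -⟩ := f.main hR' hcon
  apply f.not_le
  have h2 : V ≤ R' := by
    refine hV.trans ?_
    rw [hR.comm_eq hR']
    exact Subgroup.commutator_le.2 fun x hx y hy => mul_mem (mul_mem (mul_mem hx hy) (inv_mem hx)) (inv_mem hy)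
  rw [inf_eq_left.2 h2] at h1
  exact h1.le.trans inf_le_right

end FFV

open PU in
theorem cl_main {p : ℕ} [hp : Fact p.Prime] {G : Type*} [Group G] [Finite G] {S : Subgroup G}
    (hE : Cfsg.IsPushingUpSituation p S) (hJ : S ≤ Subgroup.centralizer (Cfsg.centerThompsonAOf S : Set G))
    {Z₀ : Subgroup G} (hZ₀ : Z₀ ≤ S ⊓ Subgroup.centralizer (S : Set G)) :
    ∃ P : Sylow p G, (P : Subgroup G) = S ∧ (Z₀.Normal ∨ ∃ q, FFV P q (Cfsg.omegaOne p (Subgroup.normalClosure (Z₀ : Set G)))) := by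
  obtain ⟨-, ⟨P, rfl⟩, hchar, huniq, K, hK, F, _, _, n, hF, he⟩ := hE
  have hchar' : CharP F p := Cfsg.Agent.Lib.NatSL2.charP_of_card hF
  obtain ⟨M, φ, h, -⟩ := PU.mk' P huniq K he
  rw [PU.centerThompson_eq] at hJ
  refine ⟨P, rfl, ?_⟩
  rcases h.dich hchar hJ hZ₀ with h1 | h1
  · exact Or.inl h1
  · exact Or.inr ⟨_, h1⟩

end Cfsg.Agent.Lib.QmCore
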