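import Cfsg.Agent.Lib.QmCL3
set_option autoImplicit false
set_option linter.unusedSectionVars false

/-! Frattini subgroups of minimal centrally large subgroups in the pushing-up situation. -/
namespace Cfsg.Agent.Lib.QmCore

open Matrix Cfsg.Agent.Lib.ClSL2 Cfsg.Agent.Lib.LocBase Cfsg.Agent.Lib.ChermakDelgado
open scoped MatrixGroups commutatorElement

section Fr

variable {G : Type*} [Group G] [Finite G] {p : ℕ} [hp : Fact p.Prime]

theorem fr_map {H : Type*} [Group H] [Finite H] (f : G →* H) {R : Subgroup G} (hR : IsPGroup p R) :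
    (fr R).map f = fr (R.map f) := by
  apply le_antisymm
  · rw [Subgroup.map_le_iff_le_comap]
    apply fr_le (p := p)
    · intro r hr x hx
      rw [Subgroup.mem_comap, map_mul, map_mul, map_inv]
      exact fr_norm (Subgroup.mem_map_of_mem f hr) hx
    · intro r hr
      rw [Subgroup.mem_comap, map_pow]
      exact pow_mem_fr (hR.map f) ⟨r, hr, rfl⟩
    · intro r hr s hs
      rw [Subgroup.mem_comap, map_commutatorElement]
      exact comm_mem_fr (hR.map f) ⟨r, hr, rfl⟩ ⟨s, hs, rfl⟩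
  · apply fr_le (p := p)
    · rintro _ ⟨r, hr, rfl⟩ _ ⟨x, hx, rfl⟩
      exact ⟨r * x * r⁻¹, fr_norm hr hx, by rw [map_mul, map_mul, map_inv]⟩
    · rintro _ ⟨r, hr, rfl⟩
      exact ⟨r ^ p, pow_mem_fr hR hr, by rw [map_pow]⟩
    · rintro _ ⟨r, hr, rfl⟩ _ ⟨s, hs, rfl⟩
      exact ⟨⁅r, s⁆, comm_mem_fr hR hr hs, by rw [map_commutatorElement]⟩

theorem zz_comm (R : Subgroup G) : IsMulCommutative (zz' R) :=
  PU.comm_inst (fun _ hx _ hy => (mem_zz'.1 hy).2 _ (mem_zz'.1 hx).1)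

/-- `Ω₁(Z(R))` -/
def om (p : ℕ) (R : Subgroup G) : Subgroup G := Cfsg.omegaOne p (zz' R)

theorem om_le (R : Subgroup G) : om p R ≤ zz' R := ThompsonJ.omegaOne_le _

theorem om_pow {R : Subgroup G} {x : G} (hx : x ∈ om p R) : x ^ p = 1 :=
  ((ThompsonJ.mem_omegaOne_iff (zz_comm R)).1 hx).2

theorem mem_om {R : Subgroup G} {x : G} : x ∈ om p R ↔ x ∈ zz' R ∧ x ^ p = 1 :=
  ThompsonJ.mem_omegaOne_iff (zz_comm R)

theorem om_cj (g : G) (R : Subgroup G) : om p (cj g R) = cj g (om p R) := by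
  ext x
  rw [mem_om, zz_cj]
  constructor
  · rintro ⟨⟨y, hy, rfl⟩, h⟩
    refine ⟨y, mem_om.2 ⟨hy, ?_⟩, rfl⟩
    have h2 : (MulAut.conj g) (y ^ p) = 1 := by rw [map_pow]; exact h
    exact (MulAut.conj g).injective (h2.trans (map_one _).symm)
  · rintro ⟨y, hy, rfl⟩
    obtain ⟨h1, h2⟩ := mem_om.1 hy
    refine ⟨⟨y, h1, rfl⟩, ?_⟩
    show ((MulAut.conj g) y) ^ p = 1
    rw [← map_pow, h2, map_one]

theorem card_om_sub (S : Subgroup G) (R : Subgroup ↥S) :
    Nat.card ↥(Cfsg.omegaOneCenter p R) = Nat.card ↥(om p (R.map S.subtype)) := by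
  rw [om, ← map_inf_centralizer, ← ThompsonJ.map_omegaOne S.subtype_injective, card_map_sub]
  rfl

/-- the maximum is attained -/
theorem mz_spec (S : Type*) [Group S] [Finite S] :
    (∃ Q : Subgroup S, Cfsg.IsMinimalCentrallyLarge Q ∧ Nat.card ↥(Cfsg.omegaOneCenter p Q) = Cfsg.maxOmegaCenterOfMinimalCL p S) ∧
    ∀ Q : Subgroup S, Cfsg.IsMinimalCentrallyLarge Q → Nat.card ↥(Cfsg.omegaOneCenter p Q) ≤ Cfsg.maxOmegaCenterOfMinimalCL p S := by
  have hb : BddAbove {k : ℕ | ∃ Q : Subgroup S, Cfsg.IsMinimalCentrallyLarge Q ∧ Nat.card ↥(Cfsg.omegaOneCenter p Q) = k} := by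
    refine ⟨Nat.card S, ?_⟩
    rintro k ⟨Q, -, rfl⟩
    exact Subgroup.card_le_card_group _
  constructor
  · obtain ⟨Q, hQ⟩ := exists_isMinimalCentrallyLarge (P := S)
    exact Nat.sSup_mem (s := {k : ℕ | ∃ Q : Subgroup S, Cfsg.IsMinimalCentrallyLarge Q ∧ Nat.card ↥(Cfsg.omegaOneCenter p Q) = k})
      ⟨_, Q, hQ, rfl⟩ hb
  · intro Q hQ
    exact le_csSup hb ⟨Q, hQ, rfl⟩

end Fr

namespace FFV

variable {p : ℕ} [hp : Fact p.Prime] {G : Type*} [Group G] [Finite G] {S : Sylow p G} {q : ℕ} {V : Subgroup G}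

theorem fr_main (f : FFV S q V) {R : Subgroup G} (hR : MCLin (S : Subgroup G) R)
    (hmax : ∀ R', MCLin (S : Subgroup G) R' → Nat.card (om p R') ≤ Nat.card (om p R)) :
    ∃ R', MCLin (S : Subgroup G) R' ∧ R' ≤ Cfsg.pCore p G ∧ Nat.card (om p R') = Nat.card (om p R) ∧ fr R' = fr R := by
  by_cases hRQ : R ≤ Cfsg.pCore p G
  · exact ⟨R, hR, hRQ, rfl, rfl⟩
  obtain ⟨h1, h2, h3, h4, h5, h6⟩ := f.main hR hRQ
  set Q := Cfsg.pCore p G with hQ
  have hQS : Q ≤ S := AmalgamCharP.pCore_le_sylow S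
  have hVQ : V ≤ Q := f.Q.trans inf_le_left
  have hQp : IsPGroup p Q := AmalgamCharP.isPGroup_pCore
  set R' := (R ⊓ Q) ⊔ V with hR'
  have hR'Q : R' ≤ Q := sup_le inf_le_right hVQ
  set V₀ := V ⊓ Subgroup.centralizer ((S : Subgroup G) : Set G) with hV₀
  have hV0pos : 0 < Nat.card V₀ := Nat.card_pos
  have hcV : Nat.card V = q * Nat.card V₀ := f.cV
  have hΩS : om p R ≤ S := (om_le R).trans (inf_le_left.trans hR.le)
  -- `Ω₁(Z(R)) ∩ Q` and `V` lie in `Ω₁(Z(R'))`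
  have h7 : (om p R ⊓ Q) ⊔ V ≤ om p R' := by
    apply sup_le
    · rintro x ⟨hx, hxQ⟩
      refine mem_om.2 ⟨?_, om_pow hx⟩
      rw [h2]; exact Subgroup.mem_sup_left ⟨om_le R hx, hxQ⟩
    · intro v hv
      refine mem_om.2 ⟨?_, f.el v hv⟩
      rw [h2]; exact Subgroup.mem_sup_right hv
  have h8 : V ⊓ (om p R ⊓ Q) = V₀ := by
    apply le_antisymm
    · rw [← h4]; exact inf_le_inf_left _ (inf_le_left.trans (om_le R))
    · intro v hv
      have hv' : v ∈ V ⊓ zz' R := by rw [h4]; exact hv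
      exact ⟨hv.1, mem_om.2 ⟨hv'.2, f.el v hv.1⟩, hVQ hv.1⟩
  have h9 : Nat.card ↥((om p R ⊓ Q) ⊔ V) = q * Nat.card ↥(om p R ⊓ Q) := by
    have a1 := card_sup_inf (N := V) (H := om p R ⊓ Q) f.n
    rw [h8, sup_comm, hcV] at a1
    apply Nat.eq_of_mul_eq_mul_right hV0pos
    rw [a1]; ring
  have h10 : Nat.card (om p R) ≤ q * Nat.card ↥(om p R ⊓ Q) := f.relQ hΩS
  have h11 : Nat.card ↥((om p R ⊓ Q) ⊔ V) ≤ Nat.card (om p R') := Subgroup.card_le_of_le h7
  have h12 := hmax R' h1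
  have h13 : Nat.card (om p R) = q * Nat.card ↥(om p R ⊓ Q) := le_antisymm h10 (by rw [← h9]; exact h11.trans h12)
  have h14 : Nat.card (om p R') = Nat.card (om p R) := le_antisymm h12 (h13.le.trans (h9.ge.trans h11))
  -- `R = (R ∩ Q) Ω₁(Z(R))`
  have h15 : (R ⊓ Q) ⊔ om p R = R := by
    apply Subgroup.eq_of_le_of_card_ge (sup_le inf_le_left ((om_le R).trans inf_le_left))
    have a1 := card_mul_le_sup (P := R ⊓ Q) (Q := om p R) (R := (R ⊓ Q) ⊔ om p R) le_sup_left le_sup_right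
    have a2 : (R ⊓ Q) ⊓ om p R = om p R ⊓ Q := by
      apply le_antisymm
      · exact le_inf inf_le_right (inf_le_left.trans inf_le_right)
      · exact le_inf (le_inf (inf_le_left.trans ((om_le R).trans inf_le_left)) inf_le_right) inf_le_left
    rw [a2, h13] at a1
    rw [h6]
    refine Nat.le_of_mul_le_mul_right (c := Nat.card ↥(om p R ⊓ Q)) ?_ Nat.card_pos
    calc q * Nat.card ↥(R ⊓ Q) * Nat.card ↥(om p R ⊓ Q) = Nat.card ↥(R ⊓ Q) * (q * Nat.card ↥(om p R ⊓ Q)) := by ring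
      _ ≤ _ := a1
  refine ⟨R', h1, hR'Q, h14, ?_⟩
  have h16 : fr R' = fr (R ⊓ Q) := by
    apply fr_sup (p := p) (hQp.to_le hR'Q)
    · intro v hv r hr
      exact Subgroup.mem_centralizer_iff.1 (f.Q hv).2 r (hR'Q hr)
    · exact f.el
  have h17 : fr R = fr (R ⊓ Q) := by
    have hRp : IsPGroup p ↥((R ⊓ Q) ⊔ om p R) := by rw [h15]; exact S.2.to_le hR.le
    have a1 := fr_sup (p := p) (R₀ := R ⊓ Q) (E := om p R) hRp ?_ ?_
    · rwa [h15] at a1
    · intro e he r hr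
      rw [h15] at hr
      exact (mem_zz'.1 (om_le R he)).2 r hr
    · intro e he; exact om_pow he
  rw [h16, h17]

theorem sphi_normal (f : FFV S q V) :
    ((Cfsg.frattiniOfMinimalCLJoin p ↥(S : Subgroup G)).map (S : Subgroup G).subtype).Normal := by
  obtain ⟨-, hz⟩ := mz_spec (p := p) ↥(S : Subgroup G)
  set N := (Cfsg.frattiniOfMinimalCLJoin p ↥(S : Subgroup G)).map (S : Subgroup G).subtype with hN
  -- members
  have hmem : ∀ R, MCLin (S : Subgroup G) R → Nat.card (om p R) = Cfsg.maxOmegaCenterOfMinimalCL p ↥(S : Subgroup G) →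
      fr R ≤ N := by
    intro R hR hc
    have h1 : Cfsg.IsMinimalCentrallyLarge (R.subgroupOf (S : Subgroup G)) := (mclin_iff' hR.le).2 hR
    have h2 : (R.subgroupOf (S : Subgroup G)).map (S : Subgroup G).subtype = R := Subgroup.map_subgroupOf_eq_of_le hR.le
    have h3 : Nat.card ↥(Cfsg.omegaOneCenter p (R.subgroupOf (S : Subgroup G))) = Cfsg.maxOmegaCenterOfMinimalCL p ↥(S : Subgroup G) := by
      rw [card_om_sub, h2]; exact hc
    have h4 : fr (R.subgroupOf (S : Subgroup G)) ≤ Cfsg.frattiniOfMinimalCLJoin p ↥(S : Subgroup G) :=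
      le_iSup (fun Q : {Q : Subgroup ↥(S : Subgroup G) // Cfsg.IsMinimalCentrallyLarge Q ∧
        Nat.card ↥(Cfsg.omegaOneCenter p Q) = Cfsg.maxOmegaCenterOfMinimalCL p ↥(S : Subgroup G)} =>
        (frattini ↥(Q : Subgroup ↥(S : Subgroup G))).map (Q : Subgroup ↥(S : Subgroup G)).subtype) ⟨_, h1, h3⟩
    have h5 : IsPGroup p ↥(R.subgroupOf (S : Subgroup G)) := S.2.to_subgroup _
    rw [← h2, ← fr_map _ h5]
    exact Subgroup.map_mono h4
  constructor
  intro n hn g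
  have h1 : Cfsg.frattiniOfMinimalCLJoin p ↥(S : Subgroup G) ≤
      (N.comap (MulAut.conj g).toMonoidHom).comap (S : Subgroup G).subtype := by
    apply iSup_le
    rintro ⟨Q, hQ, hc⟩
    have hQ' : MCLin (S : Subgroup G) (Q.map (S : Subgroup G).subtype) := (mclin_iff _ Q).1 hQ
    have hc' : Nat.card (om p (Q.map (S : Subgroup G).subtype)) = Cfsg.maxOmegaCenterOfMinimalCL p ↥(S : Subgroup G) := by
      rw [← card_om_sub]; exact hc
    obtain ⟨R', h2, h3, h4, h5⟩ := f.fr_main hQ' (fun R' hR' => by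
      rw [hc']
      have := hz (R'.subgroupOf (S : Subgroup G)) ((mclin_iff' hR'.le).2 hR')
      rwa [card_om_sub, Subgroup.map_subgroupOf_eq_of_le hR'.le] at this)
    obtain ⟨h6, -⟩ := cj_mcl h2 h3 g
    have h7 : fr (cj g R') ≤ N := by
      apply hmem _ h6
      rw [om_cj, card_cj, h4, hc']
    have hQp : IsPGroup p ↥Q := S.2.to_subgroup _
    have h8 : fr Q ≤ (N.comap (MulAut.conj g).toMonoidHom).comap (S : Subgroup G).subtype := by
      rw [← Subgroup.map_le_iff_le_comap, fr_map _ hQp, ← h5, ← Subgroup.map_le_iff_le_comap]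
      rw [fr_cj g (AmalgamCharP.isPGroup_pCore.to_le h3)] at h7
      exact h7
    exact h8
  obtain ⟨s, hs, rfl⟩ := hn
  exact h1 hs

end FFV

end Cfsg.Agent.Lib.QmCore
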