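import Cfsg.Agent.Lib.R24Rel
import Cfsg.Agent.Lib.CosetChain

set_option autoImplicit false
set_option linter.all false
set_option maxRecDepth 100000

namespace Cfsg.Agent.Lib.R24L1
open Cfsg.Spor Cfsg.Agent.Lib.BenesPerm Cfsg.Agent.Lib.BenesAct Cfsg.Agent.Lib.BenesWord
open Cfsg.Agent.Lib.BenesPlane Cfsg.Agent.Lib.CosetClosure Cfsg.Agent.Lib.CosetFacts
open Cfsg.Agent.Lib.CosetMain Cfsg.Agent.Lib.CoxBridge Cfsg.Agent.Lib.CosetGroup Cfsg.Agent.Lib.CosetInst Cfsg.Agent.Lib.CosetInj
open Cfsg.Agent.Lib.BenesPack Cfsg.Agent.Lib.CosetPack Cfsg.Agent.Lib.CosetChain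
open Cfsg.Agent.Lib.R24Rel (rels)

noncomputable def m0_0 : Nat := (nat_lit 0x104404401011004400100000410014)
noncomputable def m0_1 : Nat := (nat_lit 0x222102203021010301003000020012)
noncomputable def m0_2 : Nat := (nat_lit 0xa0303020901010104020800000004)
noncomputable def m0_3 : Nat := (nat_lit 0x80043008000100010001200a80000)
noncomputable def m0_4 : Nat := (nat_lit 0x18a0000027890000985800008800)
noncomputable def m0_5 : Nat := (nat_lit 0x352011000000000010080000)
noncomputable def m0_6 : Nat := (nat_lit 0x2500100000000000)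
noncomputable def m0_7 : Nat := (nat_lit 0x250010000000000000000000)
noncomputable def m0_8 : Nat := (nat_lit 0x1020000025000000100800000000)
noncomputable def m0_9 : Nat := (nat_lit 0x80001008000100010001000880000)
noncomputable def m0_10 : Nat := (nat_lit 0x80303020901010104020800000000)
noncomputable def m0_11 : Nat := (nat_lit 0x222102203021010301003000020010)
noncomputable def m0_12 : Nat := (nat_lit 0x104404401011004400100000410014)
noncomputable def n0 : Net := (Net.cons (nat_lit 1) m0_0 (Net.cons (nat_lit 2) m0_1 (Net.cons (nat_lit 4) m0_2 (Net.cons (nat_lit 8) m0_3 (Net.cons (nat_lit 16) m0_4 (Net.cons (nat_lit 32) m0_5 (Net.cons (nat_lit 64) m0_6 (Net.cons (nat_lit 32) m0_7 (Net.cons (nat_lit 16) m0_8 (Net.cons (nat_lit 8) m0_9 (Net.cons (nat_lit 4) m0_10 (Net.cons (nat_lit 2) m0_11 (Net.cons (nat_lit 1) m0_12 Net.nil)))))))))))))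
noncomputable def m1_0 : Nat := (nat_lit 0x4000000144004400100000000400)
noncomputable def m1_1 : Nat := (nat_lit 0x203020222220120203103000000130)
noncomputable def m1_2 : Nat := (nat_lit 0x80206090a02020609040000000004)
noncomputable def m1_3 : Nat := (nat_lit 0x600b000200025002400400000)
noncomputable def m1_4 : Nat := (nat_lit 0x450400000af2000031b000000000)
noncomputable def m1_5 : Nat := (nat_lit 0xcf4022000000000020000000)
noncomputable def m1_6 : Nat := (nat_lit 0x8a40200000000000)
noncomputable def m1_7 : Nat := (nat_lit 0x8a4020000000000000000000)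
noncomputable def m1_8 : Nat := (nat_lit 0x450000000a400000200000000000)
noncomputable def m1_9 : Nat := (nat_lit 0x600b000200021002000000000)
noncomputable def m1_10 : Nat := (nat_lit 0x6090a02020609040000000000)
noncomputable def m1_11 : Nat := (nat_lit 0x203020222220120203103000000010)
noncomputable def m1_12 : Nat := (nat_lit 0x4000000144004400100000000400)
noncomputable def n1 : Net := (Net.cons (nat_lit 1) m1_0 (Net.cons (nat_lit 2) m1_1 (Net.cons (nat_lit 4) m1_2 (Net.cons (nat_lit 8) m1_3 (Net.cons (nat_lit 16) m1_4 (Net.cons (nat_lit 32) m1_5 (Net.cons (nat_lit 64) m1_6 (Net.cons (nat_lit 32) m1_7 (Net.cons (nat_lit 16) m1_8 (Net.cons (nat_lit 8) m1_9 (Net.cons (nat_lit 4) m1_10 (Net.cons (nat_lit 2) m1_11 (Net.cons (nat_lit 1) m1_12 Net.nil)))))))))))))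
noncomputable def m2_0 : Nat := (nat_lit 0x10401000044410010010400004400)
noncomputable def m2_1 : Nat := (nat_lit 0x112022000000112000020200100010)
noncomputable def m2_2 : Nat := (nat_lit 0x704000302000908090c0000010c00)
noncomputable def m2_3 : Nat := (nat_lit 0x2c002000400041000600000080)
noncomputable def m2_4 : Nat := (nat_lit 0x40c00000074f0000cb8000000000)
noncomputable def m2_5 : Nat := (nat_lit 0x64cf08000000000082000000)
noncomputable def m2_6 : Nat := (nat_lit 0x244f000000000000)
noncomputable def m2_7 : Nat := (nat_lit 0x244f00000000000000000000)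
noncomputable def m2_8 : Nat := (nat_lit 0x40800000044f0000820000000000)
noncomputable def m2_9 : Nat := (nat_lit 0x8002000400041000200000000)
noncomputable def m2_10 : Nat := (nat_lit 0x404000302000908090c0000000800)
noncomputable def m2_11 : Nat := (nat_lit 0x112022000000112000020200100000)
noncomputable def m2_12 : Nat := (nat_lit 0x10401000044410010010400004400)
noncomputable def n2 : Net := (Net.cons (nat_lit 1) m2_0 (Net.cons (nat_lit 2) m2_1 (Net.cons (nat_lit 4) m2_2 (Net.cons (nat_lit 8) m2_3 (Net.cons (nat_lit 16) m2_4 (Net.cons (nat_lit 32) m2_5 (Net.cons (nat_lit 64) m2_6 (Net.cons (nat_lit 32) m2_7 (Net.cons (nat_lit 16) m2_8 (Net.cons (nat_lit 8) m2_9 (Net.cons (nat_lit 4) m2_10 (Net.cons (nat_lit 2) m2_11 (Net.cons (nat_lit 1) m2_12 Net.nil)))))))))))))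
noncomputable def m3_0 : Nat := (nat_lit 0x110040440101000100404411000100)
noncomputable def m3_1 : Nat := (nat_lit 0x200103010300101200001131201100)
noncomputable def m3_2 : Nat := (nat_lit 0x80001050801000100000000000500)
noncomputable def m3_3 : Nat := (nat_lit 0x40058009000000001005500e40040)
noncomputable def m3_4 : Nat := (nat_lit 0x550b0000043b0000190000008000)
noncomputable def m3_5 : Nat := (nat_lit 0xd12018000000000011000000)
noncomputable def m3_6 : Nat := (nat_lit 0x8020100000000000)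
noncomputable def m3_7 : Nat := (nat_lit 0x802010000000000000000000)
noncomputable def m3_8 : Nat := (nat_lit 0x5100000000200000110000000000)
noncomputable def m3_9 : Nat := (nat_lit 0x40058009000000000001100800000)
noncomputable def m3_10 : Nat := (nat_lit 0x80001050801000100000000000400)
noncomputable def m3_11 : Nat := (nat_lit 0x200103010300101200001131201100)
noncomputable def m3_12 : Nat := (nat_lit 0x110040440101000100404411000100)
noncomputable def n3 : Net := (Net.cons (nat_lit 1) m3_0 (Net.cons (nat_lit 2) m3_1 (Net.cons (nat_lit 4) m3_2 (Net.cons (nat_lit 8) m3_3 (Net.cons (nat_lit 16) m3_4 (Net.cons (nat_lit 32) m3_5 (Net.cons (nat_lit 64) m3_6 (Net.cons (nat_lit 32) m3_7 (Net.cons (nat_lit 16) m3_8 (Net.cons (nat_lit 8) m3_9 (Net.cons (nat_lit 4) m3_10 (Net.cons (nat_lit 2) m3_11 (Net.cons (nat_lit 1) m3_12 Net.nil)))))))))))))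
noncomputable def m4_0 : Nat := (nat_lit 0x100400100414050000000005000)
noncomputable def m4_1 : Nat := (nat_lit 0x2002301000201023020003010000)
noncomputable def m4_2 : Nat := (nat_lit 0xb0203040000000d080202090200)
noncomputable def m4_3 : Nat := (nat_lit 0x19005100010095008200b10000)
noncomputable def m4_4 : Nat := (nat_lit 0xb0000000037f000087d000009000)
noncomputable def m4_5 : Nat := (nat_lit 0xb02b00210000000002900000)
noncomputable def m4_6 : Nat := (nat_lit 0x2b000000000000)
noncomputable def m4_7 : Nat := (nat_lit 0x2b00000000000000000000)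
noncomputable def m4_8 : Nat := (nat_lit 0xb0000000002b0000029000000000)
noncomputable def m4_9 : Nat := (nat_lit 0x11005100010085008200900000)
noncomputable def m4_10 : Nat := (nat_lit 0xb0203040000000d080202090000)
noncomputable def m4_11 : Nat := (nat_lit 0x2002301000201023020003010000)
noncomputable def m4_12 : Nat := (nat_lit 0x100400100414050000000005000)
noncomputable def n4 : Net := (Net.cons (nat_lit 1) m4_0 (Net.cons (nat_lit 2) m4_1 (Net.cons (nat_lit 4) m4_2 (Net.cons (nat_lit 8) m4_3 (Net.cons (nat_lit 16) m4_4 (Net.cons (nat_lit 32) m4_5 (Net.cons (nat_lit 64) m4_6 (Net.cons (nat_lit 32) m4_7 (Net.cons (nat_lit 16) m4_8 (Net.cons (nat_lit 8) m4_9 (Net.cons (nat_lit 4) m4_10 (Net.cons (nat_lit 2) m4_11 (Net.cons (nat_lit 1) m4_12 Net.nil)))))))))))))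
noncomputable def m5_0 : Nat := (nat_lit 0x1415005000500140041410000)
noncomputable def m5_1 : Nat := (nat_lit 0x1312001200200001112000000)
noncomputable def m5_2 : Nat := (nat_lit 0x10004000804040001050000)
noncomputable def m5_3 : Nat := (nat_lit 0x4001500250013006f00180000)
noncomputable def m5_4 : Nat := (nat_lit 0x4020000f8340000960400001000)
noncomputable def m5_5 : Nat := (nat_lit 0x6c1204000000000006000000)
noncomputable def m5_6 : Nat := (nat_lit 0x6810040000000000)
noncomputable def m5_7 : Nat := (nat_lit 0x681004000000000000000000)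
noncomputable def m5_8 : Nat := (nat_lit 0x402000068100000060000000000)
noncomputable def m5_9 : Nat := (nat_lit 0x4001400240010000600100000)
noncomputable def m5_10 : Nat := (nat_lit 0x10004000804040000010000)
noncomputable def m5_11 : Nat := (nat_lit 0x1312001200200001112000000)
noncomputable def m5_12 : Nat := (nat_lit 0x1415005000500140041410000)
noncomputable def n5 : Net := (Net.cons (nat_lit 1) m5_0 (Net.cons (nat_lit 2) m5_1 (Net.cons (nat_lit 4) m5_2 (Net.cons (nat_lit 8) m5_3 (Net.cons (nat_lit 16) m5_4 (Net.cons (nat_lit 32) m5_5 (Net.cons (nat_lit 64) m5_6 (Net.cons (nat_lit 32) m5_7 (Net.cons (nat_lit 16) m5_8 (Net.cons (nat_lit 8) m5_9 (Net.cons (nat_lit 4) m5_10 (Net.cons (nat_lit 2) m5_11 (Net.cons (nat_lit 1) m5_12 Net.nil)))))))))))))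
noncomputable def m6_0 : Nat := (nat_lit 0x100545040000014105000014000000)
noncomputable def m6_1 : Nat := (nat_lit 0x312102020000011000021020310000)
noncomputable def m6_2 : Nat := (nat_lit 0x7020002000000010a000400030200)
noncomputable def m6_3 : Nat := (nat_lit 0x4a002000000001000700d80000)
noncomputable def m6_4 : Nat := (nat_lit 0x4a800000026000015b000005000)
noncomputable def m6_5 : Nat := (nat_lit 0x4840c000000000005100000)
noncomputable def m6_6 : Nat := (nat_lit 0x4040000000000)
noncomputable def m6_7 : Nat := (nat_lit 0x404000000000000000000)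
noncomputable def m6_8 : Nat := (nat_lit 0x480000000040000051000000000)
noncomputable def m6_9 : Nat := (nat_lit 0x8002000000000000500500000)
noncomputable def m6_10 : Nat := (nat_lit 0x2020002000000010a000400010000)
noncomputable def m6_11 : Nat := (nat_lit 0x2102020000011000021020310000)
noncomputable def m6_12 : Nat := (nat_lit 0x100545040000014105000014000000)
noncomputable def n6 : Net := (Net.cons (nat_lit 1) m6_0 (Net.cons (nat_lit 2) m6_1 (Net.cons (nat_lit 4) m6_2 (Net.cons (nat_lit 8) m6_3 (Net.cons (nat_lit 16) m6_4 (Net.cons (nat_lit 32) m6_5 (Net.cons (nat_lit 64) m6_6 (Net.cons (nat_lit 32) m6_7 (Net.cons (nat_lit 16) m6_8 (Net.cons (nat_lit 8) m6_9 (Net.cons (nat_lit 4) m6_10 (Net.cons (nat_lit 2) m6_11 (Net.cons (nat_lit 1) m6_12 Net.nil)))))))))))))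
noncomputable def m7_0 : Nat := (nat_lit 0x540500111051401000000100004101)
noncomputable def m7_1 : Nat := (nat_lit 0x110002201022001100021000200000)
noncomputable def m7_2 : Nat := (nat_lit 0xa010408000000080408080e00)
noncomputable def m7_3 : Nat := (nat_lit 0xc10000001000800004000f009800a0)
noncomputable def m7_4 : Nat := (nat_lit 0xc32c0000a8d40000450400000800)
noncomputable def m7_5 : Nat := (nat_lit 0x2ae008000000000005000000)
noncomputable def m7_6 : Nat := (nat_lit 0x28c0000000000000)
noncomputable def m7_7 : Nat := (nat_lit 0x28c000000000000000000000)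
noncomputable def m7_8 : Nat := (nat_lit 0x220000028c00000050000000000)
noncomputable def m7_9 : Nat := (nat_lit 0xc10000001000800004000500080000)
noncomputable def m7_10 : Nat := (nat_lit 0xa010408000000080408080a00)
noncomputable def m7_11 : Nat := (nat_lit 0x110002201022001100021000200000)
noncomputable def m7_12 : Nat := (nat_lit 0x540500111051401000000100004100)
noncomputable def n7 : Net := (Net.cons (nat_lit 1) m7_0 (Net.cons (nat_lit 2) m7_1 (Net.cons (nat_lit 4) m7_2 (Net.cons (nat_lit 8) m7_3 (Net.cons (nat_lit 16) m7_4 (Net.cons (nat_lit 32) m7_5 (Net.cons (nat_lit 64) m7_6 (Net.cons (nat_lit 32) m7_7 (Net.cons (nat_lit 16) m7_8 (Net.cons (nat_lit 8) m7_9 (Net.cons (nat_lit 4) m7_10 (Net.cons (nat_lit 2) m7_11 (Net.cons (nat_lit 1) m7_12 Net.nil)))))))))))))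
noncomputable def m8_0 : Nat := (nat_lit 0x10100010000401000440505144010)
noncomputable def m8_1 : Nat := (nat_lit 0x12100020020100030000100212132)
noncomputable def m8_2 : Nat := (nat_lit 0x20408000003080200000304)
noncomputable def m8_3 : Nat := (nat_lit 0x600028000000030088008b0010)
noncomputable def m8_4 : Nat := (nat_lit 0x4940000086c000023a100008100)
noncomputable def m8_5 : Nat := (nat_lit 0xcd000800000000000a10000)
noncomputable def m8_6 : Nat := (nat_lit 0x840008000000000)
noncomputable def m8_7 : Nat := (nat_lit 0x84000800000000000000000)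
noncomputable def m8_8 : Nat := (nat_lit 0x49000000840000000a100000000)
noncomputable def m8_9 : Nat := (nat_lit 0x2800000003008000810000)
noncomputable def m8_10 : Nat := (nat_lit 0x20408000003080200000100)
noncomputable def m8_11 : Nat := (nat_lit 0x12100020020100030000100212110)
noncomputable def m8_12 : Nat := (nat_lit 0x10100010000401000440505144010)
noncomputable def n8 : Net := (Net.cons (nat_lit 1) m8_0 (Net.cons (nat_lit 2) m8_1 (Net.cons (nat_lit 4) m8_2 (Net.cons (nat_lit 8) m8_3 (Net.cons (nat_lit 16) m8_4 (Net.cons (nat_lit 32) m8_5 (Net.cons (nat_lit 64) m8_6 (Net.cons (nat_lit 32) m8_7 (Net.cons (nat_lit 16) m8_8 (Net.cons (nat_lit 8) m8_9 (Net.cons (nat_lit 4) m8_10 (Net.cons (nat_lit 2) m8_11 (Net.cons (nat_lit 1) m8_12 Net.nil)))))))))))))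
noncomputable def nets : List Net := [n0, n1, n2, n3, n4, n5, n6, n7, n8]

noncomputable def r0_0 : Nat := (nat_lit 0x7c2e38270607b94004780078070e8)
noncomputable def r0_1 : Nat := (nat_lit 0x62c1f783af5c6000e00080479e01d0)
noncomputable def r0_2 : Nat := (nat_lit 0x6132080c00400000000080479e7600)
noncomputable def r0_3 : Nat := (nat_lit 0x61320b8c2f5c6384ee470d80000000)
noncomputable def r0_4 : Nat := (nat_lit 0x40100020000000000000000000000)
noncomputable def r0 : List Nat := (List.cons r0_0 (List.cons r0_1 (List.cons r0_2 (List.cons r0_3 (List.cons r0_4 List.nil)))))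
noncomputable def r1_0 : Nat := (nat_lit 0xab89c31c70011b1860ce001f81f0e2)
noncomputable def r1_1 : Nat := (nat_lit 0xc009e31ffe79e4218000001fbf0948)
noncomputable def r1_2 : Nat := (nat_lit 0xffe61c20000000000000001fbef600)
noncomputable def r1_3 : Nat := (nat_lit 0xebe23f007e390709888e1b80000000)
noncomputable def r1_4 : Nat := (nat_lit 0x100800200080000000000000000000)
noncomputable def r1 : List Nat := (List.cons r1_0 (List.cons r1_1 (List.cons r1_2 (List.cons r1_3 (List.cons r1_4 List.nil)))))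
noncomputable def r2_0 : Nat := (nat_lit 0xa396c23371832058715e083dc174a2)
noncomputable def r2_1 : Nat := (nat_lit 0x4416023f7cf3dc638080003dff882c)
noncomputable def r2_2 : Nat := (nat_lit 0xdea9d8c0000000000000007dbe7300)
noncomputable def r2_3 : Nat := (nat_lit 0xdea7da0f7c703c1a11387300000000)
noncomputable def r2_4 : Nat := (nat_lit 0x1000800100000000000000000000)
noncomputable def r2 : List Nat := (List.cons r2_0 (List.cons r2_1 (List.cons r2_2 (List.cons r2_3 (List.cons r2_4 List.nil)))))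
noncomputable def r3_0 : Nat := (nat_lit 0xf30af96b6002407adf140d3d407c32)
noncomputable def r3_1 : Nat := (nat_lit 0x140f617662f39447018814397b803c)
noncomputable def r3_2 : Nat := (nat_lit 0xe8f0008001040080080084591b3980)
noncomputable def r3_3 : Nat := (nat_lit 0xe8f2606660f1943cd6736200000000)
noncomputable def r3_4 : Nat := (nat_lit 0x1000200000000000000000000)
noncomputable def r3 : List Nat := (List.cons r3_0 (List.cons r3_1 (List.cons r3_2 (List.cons r3_3 (List.cons r3_4 List.nil)))))
noncomputable def r4_0 : Nat := (nat_lit 0xe00efc61680e71f8cc1c3c31cc6c32)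
noncomputable def r4_1 : Nat := (nat_lit 0xfe47e87ff820700003c3ff3803c)
noncomputable def r4_2 : Nat := (nat_lit 0xffd001800e0003800f00cc03c38dc0)
noncomputable def r4_3 : Nat := (nat_lit 0xffc6e50c81fc207e00f80340000000)
noncomputable def r4_4 : Nat := (nat_lit 0x800000000000000000000)
noncomputable def r4 : List Nat := (List.cons r4_0 (List.cons r4_1 (List.cons r4_2 (List.cons r4_3 (List.cons r4_4 List.nil)))))
noncomputable def r5_0 : Nat := (nat_lit 0xe03ffc00000ffff8001ffc01fc0e32)
noncomputable def r5_1 : Nat := (nat_lit 0x3ffffff7f002000c1f3f8e71e03c)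
noncomputable def r5_2 : Nat := (nat_lit 0xffe003a26ffe95ff53e2000071efc0)
noncomputable def r5_3 : Nat := (nat_lit 0xffdffc5d98016a00ac00c070000000)
noncomputable def r5_4 : Nat := (nat_lit 0x0)
noncomputable def r5 : List Nat := (List.cons r5_0 (List.cons r5_1 (List.cons r5_2 (List.cons r5_3 (List.cons r5_4 List.nil)))))
noncomputable def r6_0 : Nat := (nat_lit 0xf52203fb7608037bf9106da5584c32)
noncomputable def r6_1 : Nat := (nat_lit 0x980400f37df3dc0201187eba61803c)
noncomputable def r6_2 : Nat := (nat_lit 0x2679bb000a0c03840e008c82418dc0)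
noncomputable def r6_3 : Nat := (nat_lit 0x2659b8f371f3dc79f0e70040000000)
noncomputable def r6_4 : Nat := (nat_lit 0x2002000400000000000000000000)
noncomputable def r6 : List Nat := (List.cons r6_0 (List.cons r6_1 (List.cons r6_2 (List.cons r6_3 (List.cons r6_4 List.nil)))))
noncomputable def r7_0 : Nat := (nat_lit 0x100073e040002bc60023e002c0304c)
noncomputable def r7_1 : Nat := (nat_lit 0x820003e00f8e28003000e062860050)
noncomputable def r7_2 : Nat := (nat_lit 0x90386004800000000000e062c73200)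
noncomputable def r7_3 : Nat := (nat_lit 0x903863e48f8e2bc63f330480000000)
noncomputable def r7_4 : Nat := (nat_lit 0x20010004020000000000000000000)
noncomputable def r7 : List Nat := (List.cons r7_0 (List.cons r7_1 (List.cons r7_2 (List.cons r7_3 (List.cons r7_4 List.nil)))))
noncomputable def r8_0 : Nat := (nat_lit 0x1dc063f2000003e70000f200600800)
noncomputable def r8_1 : Nat := (nat_lit 0xe04043f20fcf80000000f278000900)
noncomputable def r8_2 : Nat := (nat_lit 0xfcbd2000000000000000f278618000)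
noncomputable def r8_3 : Nat := (nat_lit 0xfcfd63f20fcf83e70f980000000000)
noncomputable def r8_4 : Nat := (nat_lit 0x10008002010000000000000000000)
noncomputable def r8 : List Nat := (List.cons r8_0 (List.cons r8_1 (List.cons r8_2 (List.cons r8_3 (List.cons r8_4 List.nil)))))
noncomputable def R : List (List Nat) := (List.cons r0 (List.cons r1 (List.cons r2 (List.cons r3 (List.cons r4 (List.cons r5 (List.cons r6 (List.cons r7 (List.cons r8 List.nil)))))))))
noncomputable def d8 : Nat := (nat_lit 0x202900940205010c04409051844a8)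
noncomputable def d7 : Nat := (nat_lit 0x6d0508122051802100881218208902)
noncomputable def d6 : Nat := (nat_lit 0x8040040000000000000000842000)
noncomputable def d5 : Nat := (nat_lit 0x20000)
noncomputable def d4 : Nat := (nat_lit 0x2000001000080020020000001000)
noncomputable def d3 : Nat := (nat_lit 0x6008c00200000000082000200)
noncomputable def d2 : Nat := (nat_lit 0x4021000208030008010400000040)
noncomputable def d1 : Nat := (nat_lit 0x1000800104008416208040000010)
noncomputable def d0 : Nat := (nat_lit 0x900800600082044a01106020410004)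
noncomputable def D : Net := (Net.cons (nat_lit 0) d0 (Net.cons (nat_lit 1) d1 (Net.cons (nat_lit 2) d2 (Net.cons (nat_lit 3) d3 (Net.cons (nat_lit 4) d4 (Net.cons (nat_lit 5) d5 (Net.cons (nat_lit 6) d6 (Net.cons (nat_lit 7) d7 (Net.cons (nat_lit 8) d8 Net.nil)))))))))
noncomputable def Tp0 : Nat := (nat_lit 0x8000000000000000600000000000000050000000000000004000000000000000300000000000000020000000000000001000000000000000000000000000)
noncomputable def T : Tr := (Tr.leaf Tp0)
noncomputable def DTp0 : Nat := (nat_lit 0x0)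
noncomputable def DT : Tr := (Tr.leaf DTp0)
noncomputable def scr : Scr := Scr.nil
noncomputable def E : Ex := (Ex.cons (nat_lit 0) (nat_lit 0) (nat_lit 0) (Ex.cons (nat_lit 1) (nat_lit 0) (nat_lit 1) (Ex.cons (nat_lit 2) (nat_lit 0) (nat_lit 2) (Ex.cons (nat_lit 3) (nat_lit 0) (nat_lit 3) (Ex.cons (nat_lit 4) (nat_lit 0) (nat_lit 4) (Ex.cons (nat_lit 5) (nat_lit 0) (nat_lit 5) (Ex.cons (nat_lit 6) (nat_lit 0) (nat_lit 6) (Ex.cons (nat_lit 8) (nat_lit 0) (nat_lit 7) Ex.nil))))))))
noncomputable def nd : Nat := (nat_lit 0)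
noncomputable def g : Nat := (nat_lit 8)

/-- letters of the group -/
def sub : List ℕ := [0, 1, 2, 3, 4, 5, 6, 8, 9]
/-- letters of the subgroup -/
def sub' : List ℕ := [0, 1, 2, 3, 4, 5, 6, 9]

/-- relators in the local letters -/
def lrels : List Wd := [(Wd.pow (Wd.mul (Wd.g 0) (Wd.g 1)) 3),
  (Wd.pow (Wd.mul (Wd.g 0) (Wd.g 2)) 2),
  (Wd.pow (Wd.mul (Wd.g 1) (Wd.g 2)) 3),
  (Wd.pow (Wd.mul (Wd.g 0) (Wd.g 3)) 2),
  (Wd.pow (Wd.mul (Wd.g 1) (Wd.g 3)) 2),
  (Wd.pow (Wd.mul (Wd.g 2) (Wd.g 3)) 3),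
  (Wd.pow (Wd.mul (Wd.g 0) (Wd.g 4)) 2),
  (Wd.pow (Wd.mul (Wd.g 1) (Wd.g 4)) 2),
  (Wd.pow (Wd.mul (Wd.g 2) (Wd.g 4)) 2),
  (Wd.pow (Wd.mul (Wd.g 3) (Wd.g 4)) 3),
  (Wd.pow (Wd.mul (Wd.g 0) (Wd.g 5)) 2),
  (Wd.pow (Wd.mul (Wd.g 1) (Wd.g 5)) 2),
  (Wd.pow (Wd.mul (Wd.g 2) (Wd.g 5)) 2),
  (Wd.pow (Wd.mul (Wd.g 3) (Wd.g 5)) 2),
  (Wd.pow (Wd.mul (Wd.g 4) (Wd.g 5)) 3),
  (Wd.pow (Wd.mul (Wd.g 0) (Wd.g 6)) 2),
  (Wd.pow (Wd.mul (Wd.g 1) (Wd.g 6)) 2),
  (Wd.pow (Wd.mul (Wd.g 2) (Wd.g 6)) 2),
  (Wd.pow (Wd.mul (Wd.g 3) (Wd.g 6)) 3),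
  (Wd.pow (Wd.mul (Wd.g 4) (Wd.g 6)) 2),
  (Wd.pow (Wd.mul (Wd.g 5) (Wd.g 6)) 2),
  (Wd.pow (Wd.mul (Wd.g 0) (Wd.g 7)) 3),
  (Wd.pow (Wd.mul (Wd.g 1) (Wd.g 7)) 2),
  (Wd.pow (Wd.mul (Wd.g 2) (Wd.g 7)) 2),
  (Wd.pow (Wd.mul (Wd.g 3) (Wd.g 7)) 2),
  (Wd.pow (Wd.mul (Wd.g 4) (Wd.g 7)) 2),
  (Wd.pow (Wd.mul (Wd.g 5) (Wd.g 7)) 2),
  (Wd.pow (Wd.mul (Wd.g 6) (Wd.g 7)) 2),
  (Wd.pow (Wd.mul (Wd.g 0) (Wd.g 8)) 2),
  (Wd.pow (Wd.mul (Wd.g 1) (Wd.g 8)) 2),
  (Wd.pow (Wd.mul (Wd.g 2) (Wd.g 8)) 2),
  (Wd.pow (Wd.mul (Wd.g 3) (Wd.g 8)) 2),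
  (Wd.pow (Wd.mul (Wd.g 4) (Wd.g 8)) 2),
  (Wd.pow (Wd.mul (Wd.g 5) (Wd.g 8)) 2),
  (Wd.pow (Wd.mul (Wd.g 6) (Wd.g 8)) 2),
  (Wd.pow (Wd.mul (Wd.g 7) (Wd.g 8)) 3),
  (Wd.mul (Wd.g 8) (Wd.inv (Wd.pow (Wd.mul (Wd.mul (Wd.mul (Wd.mul (Wd.mul (Wd.mul (Wd.g 0) (Wd.g 1)) (Wd.g 2)) (Wd.g 3)) (Wd.g 4)) (Wd.g 5)) (Wd.g 6)) 9)))]

/-- periods -/
def pers : List ℕ := [2, 2, 2, 2, 2, 2, 2, 2, 2, 2, 2, 2, 2, 2, 2, 2, 2, 2, 2, 2, 2, 2, 2, 2, 2, 2, 2, 2, 2, 2, 2, 2, 2, 2, 2, 2, 64]

theorem c_relok : relOK rels lrels sub = true := by decide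
theorem c_nets : netsCheck (2 ^ 7) nets = true := by decide +kernel
theorem c_iv : ivK nets 7 ivI 9 = true := by decide +kernel
theorem c_full : fullInvK nets 120 9 = true := by decide +kernel
theorem c_len : lenK R 5 9 = true := by decide +kernel
theorem c_sym : symK nets ivI R 9 = true := by decide +kernel
theorem c_disj : disjK D 1 = true := by decide +kernel
theorem c_tree : treeK nets 7 D = true := by decide +kernel
theorem c_treelet : netLetK 9 D = true := by decide +kernel
theorem c_dtab : dtabK (2 ^ 7) nd DT = true := by decide +kernel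
theorem c_given : ∀ j, j < 8 → eSrc (T.get j) = 0 ∧ eDst (T.get j) = 0 ∧ eLet (T.get j) < sub.length ∧
  nthK 0 sub (eLet (T.get j)) ∈ sub' := by decide +kernel
theorem c_facts : factsK nets ivI R 9 120 (2 ^ 7) nd T DT ((lpats 9 lrels).map (fun W => (W.flat ivI).reverse)) 8 scr = true := by decide +kernel
theorem c_ex : exK nets R 9 T (8 + scr.len) E = true := by decide +kernel
theorem c_simdlet : simdLetK ivI 9 (lrels.zip pers) = true := by decide +kernel
theorem c_cover : force (2 ^ 7) (fun N => relsMDK nets ivI R N 3 5 ((lrels.zip pers).map (splitW ivI)) (exM E D) (fun ms => coverK nets ivI 120 ms 9)) = true := by decide +kernel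
theorem c_rels : relsD nets 7 3 ivI lrels = true := by decide +kernel

/-- the step of the chain -/
theorem step {G : Type*} [Group G] {x : ℕ → G} (hrels : ∀ W ∈ rels, W.eval x = 1) (hinv : ∀ c ∈ sub, x c * x c = 1)
    (hfin : Finite (LG x [0, 1, 2, 3, 4, 5, 6, 9])) : Finite (LG x [0, 1, 2, 3, 4, 5, 6, 8, 9]) ∧ Nat.card (LG x [0, 1, 2, 3, 4, 5, 6, 8, 9]) ≤ 120 * Nat.card (LG x [0, 1, 2, 3, 4, 5, 6, 9]) :=
  CosetChain.step hrels sub sub' pers c_relok hinv (by decide) (j := 3) (jk := 3) (P := 5) (D := D) (R := R)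
    (scr := scr) (E := E) (T := T) (DT := DT) (nd := nd) (g := 8) (k := 7) (n := 120) rfl
    c_nets (by norm_num) (by norm_num) (by norm_num) c_iv c_full c_len c_sym c_disj c_tree c_treelet c_dtab c_given
    (by decide) c_facts c_ex c_rels c_simdlet c_cover hfin

end Cfsg.Agent.Lib.R24L1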