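import Cfsg.Agent.Lib.R24Rel
import Cfsg.Agent.Lib.CosetChain

set_option autoImplicit false
set_option linter.all false
set_option maxRecDepth 100000

namespace Cfsg.Agent.Lib.R24L2
open Cfsg.Spor Cfsg.Agent.Lib.BenesPerm Cfsg.Agent.Lib.BenesAct Cfsg.Agent.Lib.BenesWord
open Cfsg.Agent.Lib.BenesPlane Cfsg.Agent.Lib.CosetClosure Cfsg.Agent.Lib.CosetFacts
open Cfsg.Agent.Lib.CosetMain Cfsg.Agent.Lib.CoxBridge Cfsg.Agent.Lib.CosetGroup Cfsg.Agent.Lib.CosetInst Cfsg.Agent.Lib.CosetInj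
open Cfsg.Agent.Lib.BenesPack Cfsg.Agent.Lib.CosetPack Cfsg.Agent.Lib.CosetChain
open Cfsg.Agent.Lib.R24Rel (rels)

noncomputable def m0_0 : Nat := (nat_lit 0x1000000001)
noncomputable def m0_1 : Nat := (nat_lit 0x10200000010)
noncomputable def m0_2 : Nat := (nat_lit 0xe090200000004)
noncomputable def m0_3 : Nat := (nat_lit 0x1003e00000000)
noncomputable def m0_4 : Nat := (nat_lit 0x290000000000)
noncomputable def m0_5 : Nat := (nat_lit 0x28000000)
noncomputable def m0_6 : Nat := (nat_lit 0x280000000000)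
noncomputable def m0_7 : Nat := (nat_lit 0x1002800000000)
noncomputable def m0_8 : Nat := (nat_lit 0x10200000000)
noncomputable def m0_9 : Nat := (nat_lit 0x10200000010)
noncomputable def m0_10 : Nat := (nat_lit 0x1000000000)
noncomputable def n0 : Net := (Net.cons (nat_lit 1) m0_0 (Net.cons (nat_lit 2) m0_1 (Net.cons (nat_lit 4) m0_2 (Net.cons (nat_lit 8) m0_3 (Net.cons (nat_lit 16) m0_4 (Net.cons (nat_lit 32) m0_5 (Net.cons (nat_lit 16) m0_6 (Net.cons (nat_lit 8) m0_7 (Net.cons (nat_lit 4) m0_8 (Net.cons (nat_lit 2) m0_9 (Net.cons (nat_lit 1) m0_10 Net.nil)))))))))))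
noncomputable def m1_0 : Nat := (nat_lit 0x10540414000000)
noncomputable def m1_1 : Nat := (nat_lit 0x1013200000012)
noncomputable def m1_2 : Nat := (nat_lit 0x8030605000000)
noncomputable def m1_3 : Nat := (nat_lit 0x100b600400000)
noncomputable def m1_4 : Nat := (nat_lit 0xa58000000000)
noncomputable def m1_5 : Nat := (nat_lit 0xa4000000)
noncomputable def m1_6 : Nat := (nat_lit 0xa40000000000)
noncomputable def m1_7 : Nat := (nat_lit 0x100a400000000)
noncomputable def m1_8 : Nat := (nat_lit 0x8030604000000)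
noncomputable def m1_9 : Nat := (nat_lit 0x1013200000000)
noncomputable def m1_10 : Nat := (nat_lit 0x540414000000)
noncomputable def n1 : Net := (Net.cons (nat_lit 1) m1_0 (Net.cons (nat_lit 2) m1_1 (Net.cons (nat_lit 4) m1_2 (Net.cons (nat_lit 8) m1_3 (Net.cons (nat_lit 16) m1_4 (Net.cons (nat_lit 32) m1_5 (Net.cons (nat_lit 16) m1_6 (Net.cons (nat_lit 8) m1_7 (Net.cons (nat_lit 4) m1_8 (Net.cons (nat_lit 2) m1_9 (Net.cons (nat_lit 1) m1_10 Net.nil)))))))))))
noncomputable def m2_0 : Nat := (nat_lit 0x44004050000000)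
noncomputable def m2_1 : Nat := (nat_lit 0x22001020000120)
noncomputable def m2_2 : Nat := (nat_lit 0x6000107040408)
noncomputable def m2_3 : Nat := (nat_lit 0x88000000900040)
noncomputable def m2_4 : Nat := (nat_lit 0x880000000000)
noncomputable def m2_5 : Nat := (nat_lit 0x88000000000000)
noncomputable def m2_6 : Nat := (nat_lit 0x1000400)
noncomputable def m2_7 : Nat := (nat_lit 0x22001020000120)
noncomputable def m2_8 : Nat := (nat_lit 0x4050000000)
noncomputable def n2 : Net := (Net.cons (nat_lit 1) m2_0 (Net.cons (nat_lit 2) m2_1 (Net.cons (nat_lit 4) m2_2 (Net.cons (nat_lit 8) m2_3 (Net.cons (nat_lit 16) m2_4 (Net.cons (nat_lit 8) m2_5 (Net.cons (nat_lit 4) m2_6 (Net.cons (nat_lit 2) m2_7 (Net.cons (nat_lit 1) m2_8 Net.nil)))))))))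
noncomputable def m3_0 : Nat := (nat_lit 0x44450004440400)
noncomputable def m3_1 : Nat := (nat_lit 0x1010002020120)
noncomputable def m3_2 : Nat := (nat_lit 0x4050000070000)
noncomputable def m3_3 : Nat := (nat_lit 0x100d000220000)
noncomputable def m3_4 : Nat := (nat_lit 0x410000002000)
noncomputable def m3_5 : Nat := (nat_lit 0x40000000)
noncomputable def m3_6 : Nat := (nat_lit 0x400000000000)
noncomputable def m3_7 : Nat := (nat_lit 0x1004000200000)
noncomputable def m3_8 : Nat := (nat_lit 0x10000020000)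
noncomputable def m3_9 : Nat := (nat_lit 0x1010002020000)
noncomputable def m3_10 : Nat := (nat_lit 0x44450004440400)
noncomputable def n3 : Net := (Net.cons (nat_lit 1) m3_0 (Net.cons (nat_lit 2) m3_1 (Net.cons (nat_lit 4) m3_2 (Net.cons (nat_lit 8) m3_3 (Net.cons (nat_lit 16) m3_4 (Net.cons (nat_lit 32) m3_5 (Net.cons (nat_lit 16) m3_6 (Net.cons (nat_lit 8) m3_7 (Net.cons (nat_lit 4) m3_8 (Net.cons (nat_lit 2) m3_9 (Net.cons (nat_lit 1) m3_10 Net.nil)))))))))))
noncomputable def m4_0 : Nat := (nat_lit 0x5041045000)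
noncomputable def m4_1 : Nat := (nat_lit 0x1022120013200)
noncomputable def m4_2 : Nat := (nat_lit 0x2010e00)
noncomputable def m4_3 : Nat := (nat_lit 0xdc00110080)
noncomputable def m4_4 : Nat := (nat_lit 0xc40400001000)
noncomputable def m4_5 : Nat := (nat_lit 0xc4000000)
noncomputable def m4_6 : Nat := (nat_lit 0xc40000000000)
noncomputable def m4_7 : Nat := (nat_lit 0xc400100000)
noncomputable def m4_8 : Nat := (nat_lit 0x10800)
noncomputable def m4_9 : Nat := (nat_lit 0x1022120013200)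
noncomputable def m4_10 : Nat := (nat_lit 0x5041045000)
noncomputable def n4 : Net := (Net.cons (nat_lit 1) m4_0 (Net.cons (nat_lit 2) m4_1 (Net.cons (nat_lit 4) m4_2 (Net.cons (nat_lit 8) m4_3 (Net.cons (nat_lit 16) m4_4 (Net.cons (nat_lit 32) m4_5 (Net.cons (nat_lit 16) m4_6 (Net.cons (nat_lit 8) m4_7 (Net.cons (nat_lit 4) m4_8 (Net.cons (nat_lit 2) m4_9 (Net.cons (nat_lit 1) m4_10 Net.nil)))))))))))
noncomputable def m5_0 : Nat := (nat_lit 0x1014005000)
noncomputable def m5_1 : Nat := (nat_lit 0x11230120000)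
noncomputable def m5_2 : Nat := (nat_lit 0x4040f0200)
noncomputable def m5_3 : Nat := (nat_lit 0x990000)
noncomputable def m5_4 : Nat := (nat_lit 0x9000)
noncomputable def m5_5 : Nat := (nat_lit 0x900000)
noncomputable def m5_6 : Nat := (nat_lit 0x90000)
noncomputable def m5_7 : Nat := (nat_lit 0x1010120000)
noncomputable def m5_8 : Nat := (nat_lit 0x1014005000)
noncomputable def n5 : Net := (Net.cons (nat_lit 1) m5_0 (Net.cons (nat_lit 2) m5_1 (Net.cons (nat_lit 4) m5_2 (Net.cons (nat_lit 8) m5_3 (Net.cons (nat_lit 16) m5_4 (Net.cons (nat_lit 8) m5_5 (Net.cons (nat_lit 4) m5_6 (Net.cons (nat_lit 2) m5_7 (Net.cons (nat_lit 1) m5_8 Net.nil)))))))))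
noncomputable def m6_0 : Nat := (nat_lit 0x14500000004400)
noncomputable def m6_1 : Nat := (nat_lit 0x30100000000000)
noncomputable def m6_2 : Nat := (nat_lit 0x6000000030e00)
noncomputable def m6_3 : Nat := (nat_lit 0x98004000180080)
noncomputable def m6_4 : Nat := (nat_lit 0x980000001800)
noncomputable def m6_5 : Nat := (nat_lit 0x98000000180000)
noncomputable def m6_6 : Nat := (nat_lit 0x10800)
noncomputable def m6_7 : Nat := (nat_lit 0x30100000000000)
noncomputable def m6_8 : Nat := (nat_lit 0x14500000004400)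
noncomputable def n6 : Net := (Net.cons (nat_lit 1) m6_0 (Net.cons (nat_lit 2) m6_1 (Net.cons (nat_lit 4) m6_2 (Net.cons (nat_lit 8) m6_3 (Net.cons (nat_lit 16) m6_4 (Net.cons (nat_lit 8) m6_5 (Net.cons (nat_lit 4) m6_6 (Net.cons (nat_lit 2) m6_7 (Net.cons (nat_lit 1) m6_8 Net.nil)))))))))
noncomputable def m7_0 : Nat := (nat_lit 0x55114151115511)
noncomputable def m7_1 : Nat := (nat_lit 0x330033302303)
noncomputable def m7_2 : Nat := (nat_lit 0x9000001060f06)
noncomputable def m7_3 : Nat := (nat_lit 0xff00990090)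
noncomputable def m7_4 : Nat := (nat_lit 0x666600000900)
noncomputable def m7_5 : Nat := (nat_lit 0x66000000)
noncomputable def m7_6 : Nat := (nat_lit 0x660000000000)
noncomputable def m7_7 : Nat := (nat_lit 0x6600090000)
noncomputable def m7_8 : Nat := (nat_lit 0x8000900)
noncomputable def m7_9 : Nat := (nat_lit 0x33003300032030)
noncomputable def m7_10 : Nat := (nat_lit 0x441404440044)
noncomputable def n7 : Net := (Net.cons (nat_lit 1) m7_0 (Net.cons (nat_lit 2) m7_1 (Net.cons (nat_lit 4) m7_2 (Net.cons (nat_lit 8) m7_3 (Net.cons (nat_lit 16) m7_4 (Net.cons (nat_lit 32) m7_5 (Net.cons (nat_lit 16) m7_6 (Net.cons (nat_lit 8) m7_7 (Net.cons (nat_lit 4) m7_8 (Net.cons (nat_lit 2) m7_9 (Net.cons (nat_lit 1) m7_10 Net.nil)))))))))))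
noncomputable def nets : List Net := [n0, n1, n2, n3, n4, n5, n6, n7]

noncomputable def r0_0 : Nat := (nat_lit 0xee6735c0f0f19c)
noncomputable def r0_1 : Nat := (nat_lit 0xeff8c000ff01e0)
noncomputable def r0_2 : Nat := (nat_lit 0x10000000fffe00)
noncomputable def r0_3 : Nat := (nat_lit 0x1060c1d7000000)
noncomputable def r0 : List Nat := (List.cons r0_0 (List.cons r0_1 (List.cons r0_2 (List.cons r0_3 List.nil))))
noncomputable def r1_0 : Nat := (nat_lit 0x3fe13dd0b0f1d4)
noncomputable def r1_1 : Nat := (nat_lit 0x3dfec000bf01a0)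
noncomputable def r1_2 : Nat := (nat_lit 0xc0000000bffe00)
noncomputable def r1_3 : Nat := (nat_lit 0xf3870b06000000)
noncomputable def r1 : List Nat := (List.cons r1_0 (List.cons r1_1 (List.cons r1_2 (List.cons r1_3 List.nil))))
noncomputable def r2_0 : Nat := (nat_lit 0x16138dea0f1c6)
noncomputable def r2_1 : Nat := (nat_lit 0x111681082b0090)
noncomputable def r2_2 : Nat := (nat_lit 0xcc0000082bfe00)
noncomputable def r2_3 : Nat := (nat_lit 0xdd777e20000000)
noncomputable def r2 : List Nat := (List.cons r2_0 (List.cons r2_1 (List.cons r2_2 (List.cons r2_3 List.nil))))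
noncomputable def r3_0 : Nat := (nat_lit 0xe971a81fa8d946)
noncomputable def r3_1 : Nat := (nat_lit 0x7604001b420058)
noncomputable def r3_2 : Nat := (nat_lit 0x1b42d600)
noncomputable def r3_3 : Nat := (nat_lit 0x76252fa0000000)
noncomputable def r3 : List Nat := (List.cons r3_0 (List.cons r3_1 (List.cons r3_2 (List.cons r3_3 List.nil))))
noncomputable def r4_0 : Nat := (nat_lit 0xe17da19c247c66)
noncomputable def r4_1 : Nat := (nat_lit 0xfe800018eb8078)
noncomputable def r4_2 : Nat := (nat_lit 0x18e71100)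
noncomputable def r4_3 : Nat := (nat_lit 0xfee94600000000)
noncomputable def r4 : List Nat := (List.cons r4_0 (List.cons r4_1 (List.cons r4_2 (List.cons r4_3 List.nil))))
noncomputable def r5_0 : Nat := (nat_lit 0xe07a2f45c36c66)
noncomputable def r5_1 : Nat := (nat_lit 0xff850147fc8078)
noncomputable def r5_2 : Nat := (nat_lit 0x52ffa008d80)
noncomputable def r5_3 : Nat := (nat_lit 0xfffad000000000)
noncomputable def r5 : List Nat := (List.cons r5_0 (List.cons r5_1 (List.cons r5_2 (List.cons r5_3 List.nil))))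
noncomputable def r6_0 : Nat := (nat_lit 0xbb41b81f2ec866)
noncomputable def r6_1 : Nat := (nat_lit 0xab16001fd00078)
noncomputable def r6_2 : Nat := (nat_lit 0x1fd40100)
noncomputable def r6_3 : Nat := (nat_lit 0xab17bfe0000000)
noncomputable def r6 : List Nat := (List.cons r6_0 (List.cons r6_1 (List.cons r6_2 (List.cons r6_3 List.nil))))
noncomputable def r7_0 : Nat := (nat_lit 0x0)
noncomputable def r7_1 : Nat := (nat_lit 0x24000000000000)
noncomputable def r7_2 : Nat := (nat_lit 0x42000000000000)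
noncomputable def r7_3 : Nat := (nat_lit 0x66000000000000)
noncomputable def r7 : List Nat := (List.cons r7_0 (List.cons r7_1 (List.cons r7_2 (List.cons r7_3 List.nil))))
noncomputable def R : List (List Nat) := (List.cons r0 (List.cons r1 (List.cons r2 (List.cons r3 (List.cons r4 (List.cons r5 (List.cons r6 (List.cons r7 List.nil))))))))
noncomputable def d7 : Nat := (nat_lit 0x9955a594aac954)
noncomputable def d6 : Nat := (nat_lit 0x44200000012400)
noncomputable def d5 : Nat := (nat_lit 0x1000)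
noncomputable def d4 : Nat := (nat_lit 0x21042000200)
noncomputable def d3 : Nat := (nat_lit 0x884000140080)
noncomputable def d2 : Nat := (nat_lit 0x22000001400020)
noncomputable def d1 : Nat := (nat_lit 0x28000008)
noncomputable def d0 : Nat := (nat_lit 0xa00000002)
noncomputable def D : Net := (Net.cons (nat_lit 0) d0 (Net.cons (nat_lit 1) d1 (Net.cons (nat_lit 2) d2 (Net.cons (nat_lit 3) d3 (Net.cons (nat_lit 4) d4 (Net.cons (nat_lit 5) d5 (Net.cons (nat_lit 6) d6 (Net.cons (nat_lit 7) d7 Net.nil))))))))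
noncomputable def Tp0 : Nat := (nat_lit 0x60000000000000005000000000000000400000000000000030000000000000002000000000000000100000000000)
noncomputable def T : Tr := (Tr.leaf Tp0)
noncomputable def DTp0 : Nat := (nat_lit 0x0)
noncomputable def DT : Tr := (Tr.leaf DTp0)
noncomputable def scr : Scr := Scr.nil
noncomputable def E : Ex := (Ex.cons (nat_lit 1) (nat_lit 0) (nat_lit 0) (Ex.cons (nat_lit 2) (nat_lit 0) (nat_lit 1) (Ex.cons (nat_lit 3) (nat_lit 0) (nat_lit 2) (Ex.cons (nat_lit 4) (nat_lit 0) (nat_lit 3) (Ex.cons (nat_lit 5) (nat_lit 0) (nat_lit 4) (Ex.cons (nat_lit 6) (nat_lit 0) (nat_lit 5) Ex.nil))))))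
noncomputable def nd : Nat := (nat_lit 0)
noncomputable def g : Nat := (nat_lit 6)

/-- letters of the group -/
def sub : List ℕ := [0, 1, 2, 3, 4, 5, 6, 9]
/-- letters of the subgroup -/
def sub' : List ℕ := [1, 2, 3, 4, 5, 6]

/-- relators in the local letters -/
def lrels : List Wd := [(Wd.pow (Wd.mul (Wd.g 0) (Wd.g 1)) 3),
  (Wd.pow (Wd.mul (Wd.g 0) (Wd.g 2)) 2),
  (Wd.pow (Wd.mul (Wd.g 1) (Wd.g 2)) 3),
  (Wd.pow (Wd.mul (Wd.g 0) (Wd.g 3)) 2),
  (Wd.pow (Wd.mul (Wd.g 1) (Wd.g 3)) 2),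
  (Wd.pow (Wd.mul (Wd.g 2) (Wd.g 3)) 3),
  (Wd.pow (Wd.mul (Wd.g 0) (Wd.g 4)) 2),
  (Wd.pow (Wd.mul (Wd.g 1) (Wd.g 4)) 2),
  (Wd.pow (Wd.mul (Wd.g 2) (Wd.g 4)) 2),
  (Wd.pow (Wd.mul (Wd.g 3) (Wd.g 4)) 3),
  (Wd.pow (Wd.mul (Wd.g 0) (Wd.g 5)) 2),
  (Wd.pow (Wd.mul (Wd.g 1) (Wd.g 5)) 2),
  (Wd.pow (Wd.mul (Wd.g 2) (Wd.g 5)) 2),
  (Wd.pow (Wd.mul (Wd.g 3) (Wd.g 5)) 2),
  (Wd.pow (Wd.mul (Wd.g 4) (Wd.g 5)) 3),
  (Wd.pow (Wd.mul (Wd.g 0) (Wd.g 6)) 2),
  (Wd.pow (Wd.mul (Wd.g 1) (Wd.g 6)) 2),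
  (Wd.pow (Wd.mul (Wd.g 2) (Wd.g 6)) 2),
  (Wd.pow (Wd.mul (Wd.g 3) (Wd.g 6)) 3),
  (Wd.pow (Wd.mul (Wd.g 4) (Wd.g 6)) 2),
  (Wd.pow (Wd.mul (Wd.g 5) (Wd.g 6)) 2),
  (Wd.pow (Wd.mul (Wd.g 0) (Wd.g 7)) 2),
  (Wd.pow (Wd.mul (Wd.g 1) (Wd.g 7)) 2),
  (Wd.pow (Wd.mul (Wd.g 2) (Wd.g 7)) 2),
  (Wd.pow (Wd.mul (Wd.g 3) (Wd.g 7)) 2),
  (Wd.pow (Wd.mul (Wd.g 4) (Wd.g 7)) 2),
  (Wd.pow (Wd.mul (Wd.g 5) (Wd.g 7)) 2),
  (Wd.pow (Wd.mul (Wd.g 6) (Wd.g 7)) 2),
  (Wd.mul (Wd.g 7) (Wd.inv (Wd.pow (Wd.mul (Wd.mul (Wd.mul (Wd.mul (Wd.mul (Wd.mul (Wd.g 0) (Wd.g 1)) (Wd.g 2)) (Wd.g 3)) (Wd.g 4)) (Wd.g 5)) (Wd.g 6)) 9)))]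

/-- periods -/
def pers : List ℕ := [2, 2, 2, 2, 2, 2, 2, 2, 2, 2, 2, 2, 2, 2, 2, 2, 2, 2, 2, 2, 2, 2, 2, 2, 2, 2, 2, 2, 64]

theorem c_relok : relOK rels lrels sub = true := by decide
theorem c_nets : netsCheck (2 ^ 6) nets = true := by decide +kernel
theorem c_iv : ivK nets 6 ivI 8 = true := by decide +kernel
theorem c_full : fullInvK nets 56 8 = true := by decide +kernel
theorem c_len : lenK R 4 8 = true := by decide +kernel
theorem c_sym : symK nets ivI R 8 = true := by decide +kernel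
theorem c_disj : disjK D 1 = true := by decide +kernel
theorem c_tree : treeK nets 6 D = true := by decide +kernel
theorem c_treelet : netLetK 8 D = true := by decide +kernel
theorem c_dtab : dtabK (2 ^ 6) nd DT = true := by decide +kernel
theorem c_given : ∀ j, j < 6 → eSrc (T.get j) = 0 ∧ eDst (T.get j) = 0 ∧ eLet (T.get j) < sub.length ∧
  nthK 0 sub (eLet (T.get j)) ∈ sub' := by decide +kernel
theorem c_facts : factsK nets ivI R 8 56 (2 ^ 6) nd T DT ((lpats 8 lrels).map (fun W => (W.flat ivI).reverse)) 6 scr = true := by decide +kernel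
theorem c_ex : exK nets R 8 T (6 + scr.len) E = true := by decide +kernel
theorem c_simdlet : simdLetK ivI 8 (lrels.zip pers) = true := by decide +kernel
theorem c_cover : force (2 ^ 6) (fun N => relsMDK nets ivI R N 2 4 ((lrels.zip pers).map (splitW ivI)) (exM E D) (fun ms => coverK nets ivI 56 ms 8)) = true := by decide +kernel
theorem c_rels : relsD nets 6 3 ivI lrels = true := by decide +kernel

/-- the step of the chain -/
theorem step {G : Type*} [Group G] {x : ℕ → G} (hrels : ∀ W ∈ rels, W.eval x = 1) (hinv : ∀ c ∈ sub, x c * x c = 1)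
    (hfin : Finite (LG x [1, 2, 3, 4, 5, 6])) : Finite (LG x [0, 1, 2, 3, 4, 5, 6, 9]) ∧ Nat.card (LG x [0, 1, 2, 3, 4, 5, 6, 9]) ≤ 56 * Nat.card (LG x [1, 2, 3, 4, 5, 6]) :=
  CosetChain.step hrels sub sub' pers c_relok hinv (by decide) (j := 2) (jk := 3) (P := 4) (D := D) (R := R)
    (scr := scr) (E := E) (T := T) (DT := DT) (nd := nd) (g := 6) (k := 6) (n := 56) rfl
    c_nets (by norm_num) (by norm_num) (by norm_num) c_iv c_full c_len c_sym c_disj c_tree c_treelet c_dtab c_given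
    (by decide) c_facts c_ex c_rels c_simdlet c_cover hfin

end Cfsg.Agent.Lib.R24L2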