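import Cfsg.Agent.Lib.CliffordCorr
import Cfsg.Agent.Lib.CanonExt
import Cfsg.Agent.Lib.CliffordExt
import Cfsg.Agent.Lib.CosetAvg
import Cfsg.Agent.Lib.FongSwan
import Cfsg.Agent.Lib.SubgroupTools

/-!
# Irreducible characters of subgroups as functions on the group (helper74)
-/

set_option autoImplicit false
set_option linter.all false

namespace Cfsg.Agent.Lib.RMck

open scoped ComplexConjugate
open Cfsg Cfsg.Agent.Lib.CharBasic Cfsg.Agent.Lib.Clifford Cfsg.Agent.Lib.CliffordCorr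
open Cfsg.Agent.Lib.CanonExt

universe u

attribute [local instance 5000] Fintype.ofFinite

section basic

variable {G : Type u} [Group G]

/-- the restriction of `f` to `H` is an irreducible character -/
def IrrOn (H : Subgroup G) (f : G → ℂ) : Prop := IsIrrCharacter H (fun h : H => f h)

/-- the restriction of `f` to `H` is a character -/
def ChOn (H : Subgroup G) (f : G → ℂ) : Prop := IsCharacter H (fun h : H => f h)

/-- extension by zero -/
noncomputable def lf (H : Subgroup G) (χ : H → ℂ) : G → ℂ := by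
  classical
  exact fun g => if h : g ∈ H then χ ⟨g, h⟩ else 0

theorem lf_coe (H : Subgroup G) (χ : H → ℂ) (h : H) : lf H χ h = χ h := by
  unfold lf
  simp only [dif_pos h.2]

theorem lf_mem (H : Subgroup G) (χ : H → ℂ) {g : G} (h : g ∈ H) : lf H χ g = χ ⟨g, h⟩ := lf_coe H χ ⟨g, h⟩

theorem lf_fun (H : Subgroup G) (χ : H → ℂ) : (fun h : H => lf H χ h) = χ := funext (lf_coe H χ)

theorem irrOn_lf {H : Subgroup G} {χ : H → ℂ} : IrrOn H (lf H χ) ↔ IsIrrCharacter H χ := by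
  unfold IrrOn
  rw [lf_fun]

theorem IrrOn.ch {H : Subgroup G} {f : G → ℂ} (h : IrrOn H f) : ChOn H f := h.isCharacter

theorem IrrOn.congr {H : Subgroup G} {f g : G → ℂ} (h : IrrOn H f) (hfg : ∀ x ∈ H, f x = g x) : IrrOn H g := by
  have : (fun x : H => g x) = fun x : H => f x := funext fun x => (hfg x x.2).symm
  unfold IrrOn
  rw [this]
  exact h

theorem ChOn.congr {H : Subgroup G} {f g : G → ℂ} (h : ChOn H f) (hfg : ∀ x ∈ H, f x = g x) : ChOn H g := by
  have : (fun x : H => g x) = fun x : H => f x := funext fun x => (hfg x x.2).symm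
  unfold ChOn
  rw [this]
  exact h

theorem IrrOn.one_ne {H : Subgroup G} {f : G → ℂ} (h : IrrOn H f) : f 1 ≠ 0 := by
  have h1 : IsIrrCharacter H (fun x : H => f x) := h
  exact h1.one_ne_zero

theorem ChOn.cls [Finite G] {H : Subgroup G} {f : G → ℂ} (h : ChOn H f) {x y : G} (hx : x ∈ H) (hy : y ∈ H) :
    f (y * x * y⁻¹) = f x := h.isClassFunction ⟨x, hx⟩ ⟨y, hy⟩

theorem ChOn.res {H K : Subgroup G} {f : G → ℂ} (h : ChOn H f) (hKH : K ≤ H) : ChOn K f :=
  IsCharacter.comp h (Subgroup.inclusion hKH)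

theorem irrOn_sub {K H : Subgroup G} (hKH : K ≤ H) {f : G → ℂ} :
    IsIrrCharacter (K.subgroupOf H) (fun n => f ((n : H) : G)) ↔ IrrOn K f :=
  isIrrCharacter_comp_mulEquiv_iff (χ := fun k : K => f k) (subEquiv K H hKH)

theorem irrOn_ofSub {K H : Subgroup G} (hKH : K ≤ H) {f : H → ℂ} :
    IrrOn (K.subgroupOf H) f ↔ IrrOn K (lf H f) := by
  rw [← irrOn_sub hKH]
  have : (fun n : K.subgroupOf H => lf H f ((n : H) : G)) = fun n : K.subgroupOf H => f n :=
    funext fun n => lf_coe H f n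
  rw [this]
  rfl

theorem IrrOn.conj {H : Subgroup G} {f : G → ℂ} (h : IrrOn H f) {y : G} (hy : y ∈ Subgroup.normalizer (H : Set G)) :
    IrrOn H (fun g => f (y * g * y⁻¹)) := by
  let e : H ≃* H :=
    { toFun := fun g => ⟨y * g * y⁻¹, ((Subgroup.mem_normalizer_iff.mp hy) _).mp g.2⟩
      invFun := fun g => ⟨y⁻¹ * g * y, by
        have := ((Subgroup.mem_normalizer_iff.mp (Subgroup.inv_mem _ hy)) _).mp g.2
        rwa [inv_inv] at this⟩
      left_inv := fun g => Subtype.ext (by simp [mul_assoc])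
      right_inv := fun g => Subtype.ext (by simp [mul_assoc])
      map_mul' := fun a b => Subtype.ext (by simp [mul_assoc]) }
  exact (isIrrCharacter_comp_mulEquiv_iff (χ := fun k : H => f k) e).mpr h

end basic

section fin

variable {G : Type u} [Group G] [Finite G]

/-- inner product on a subgroup -/
noncomputable def ip (H : Subgroup G) (f g : G → ℂ) : ℂ := classInner (fun h : H => f h) (fun h : H => g h)

theorem ip_sub {K H : Subgroup G} (hKH : K ≤ H) (f g : G → ℂ) :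
    classInner (fun n : K.subgroupOf H => f ((n : H) : G)) (fun n : K.subgroupOf H => g ((n : H) : G)) = ip K f g := by
  have := classInner_comp_equiv (subEquiv K H hKH) (fun k : K => f k) (fun k : K => g k)
  exact this

theorem ip_congr {H : Subgroup G} {f f' g g' : G → ℂ} (h1 : ∀ x ∈ H, f x = f' x) (h2 : ∀ x ∈ H, g x = g' x) :
    ip H f g = ip H f' g' := by
  have h3 : (fun x : H => f x) = fun x : H => f' x := funext fun x => h1 x x.2
  have h4 : (fun x : H => g x) = fun x : H => g' x := funext fun x => h2 x x.2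
  unfold ip
  rw [h3, h4]

/-- the subgroup of elements normalising `N` and fixing `f` on `N` -/
def stab (N : Subgroup G) (f : G → ℂ) : Subgroup G where
  carrier := {g | g ∈ Subgroup.normalizer (N : Set G) ∧ ∀ n ∈ N, f (g * n * g⁻¹) = f n}
  one_mem' := ⟨Subgroup.one_mem _, fun n _ => by simp⟩
  mul_mem' := by
    rintro a b ⟨ha, ha'⟩ ⟨hb, hb'⟩
    refine ⟨Subgroup.mul_mem _ ha hb, fun n hn => ?_⟩
    have h1 : a * b * n * (a * b)⁻¹ = a * (b * n * b⁻¹) * a⁻¹ := by group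
    rw [h1, ha' _ (((Subgroup.mem_normalizer_iff.mp hb) _).mp hn), hb' n hn]
  inv_mem' := by
    rintro a ⟨ha, ha'⟩
    refine ⟨Subgroup.inv_mem _ ha, fun n hn => ?_⟩
    have h1 : a⁻¹ * n * a⁻¹⁻¹ ∈ N := ((Subgroup.mem_normalizer_iff.mp (Subgroup.inv_mem _ ha)) _).mp hn
    have h2 := ha' _ h1
    have h3 : a * (a⁻¹ * n * a⁻¹⁻¹) * a⁻¹ = n := by group
    rw [← h2, h3]

theorem mem_stab {N : Subgroup G} {f : G → ℂ} {g : G} : g ∈ stab N f ↔
    g ∈ Subgroup.normalizer (N : Set G) ∧ ∀ n ∈ N, f (g * n * g⁻¹) = f n := Iff.rfl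

theorem le_stab {N : Subgroup G} {f : G → ℂ} (hf : ChOn N f) : N ≤ stab N f := fun x hx =>
  ⟨Subgroup.le_normalizer hx, fun n hn => hf.cls hn hx⟩

theorem stab_le_normalizer (N : Subgroup G) (f : G → ℂ) : stab N f ≤ Subgroup.normalizer (N : Set G) := fun _ h => h.1

/-- a normalising element, by finiteness -/
theorem mem_normalizer_of {N : Subgroup G} {x : G} (h : ∀ n ∈ N, x * n * x⁻¹ ∈ N) :
    x ∈ Subgroup.normalizer (N : Set G) := by
  have h1 : N.map (MulAut.conj x).toMonoidHom ≤ N := by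
    rintro _ ⟨n, hn, rfl⟩
    exact h n hn
  have h2 : N.map (MulAut.conj x).toMonoidHom = N := by
    apply Subgroup.eq_of_le_of_card_ge h1
    rw [Subgroup.card_map_of_injective (MulAut.conj x).injective]
  rw [Subgroup.mem_normalizer_iff]
  intro n
  refine ⟨h n, fun hn => ?_⟩
  rw [← h2] at hn
  obtain ⟨m, hm, hm'⟩ := hn
  have : m = n := (MulAut.conj x).injective hm'
  rwa [← this]

/-- extension to a group which is cyclic over `N` -/
theorem exists_ext {N H : Subgroup G} {x : G} (hNH : N ≤ H) (hH : H ≤ N ⊔ Subgroup.zpowers x) (hxH : x ∈ H)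
    {f : G → ℂ} (hf : IrrOn N f) (hx : x ∈ stab N f) : ∃ e : G → ℂ, IrrOn H e ∧ ∀ n ∈ N, e n = f n := by
  have hHs : H ≤ stab N f := hH.trans (sup_le (le_stab hf.ch) (by rwa [Subgroup.zpowers_le]))
  have hn : (N.subgroupOf H).Normal := by
    refine ⟨fun n hn g => ?_⟩
    rw [Subgroup.mem_subgroupOf] at hn ⊢
    exact ((Subgroup.mem_normalizer_iff.mp (hHs g.2).1) _).mp hn
  have hcyc : IsCyclic (H ⧸ N.subgroupOf H) := by
    refine ⟨((⟨x, hxH⟩ : H) : H ⧸ N.subgroupOf H), fun y => ?_⟩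
    obtain ⟨y, rfl⟩ := QuotientGroup.mk_surjective y
    have hy := hH y.2
    rw [SubgroupTools.mem_sup_of_le_normalizer (by
      rw [Subgroup.zpowers_le]
      exact (hHs hxH).1)] at hy
    obtain ⟨n, hn, k, hk, hnk⟩ := hy
    obtain ⟨i, rfl⟩ := Subgroup.mem_zpowers_iff.mp hk
    refine Subgroup.mem_zpowers_iff.mpr ⟨i, ?_⟩
    rw [← QuotientGroup.mk_zpow, QuotientGroup.eq]
    rw [Subgroup.mem_subgroupOf]
    have h1 : ((((⟨x, hxH⟩ : H) ^ i)⁻¹ * y : H) : G) = (x ^ i)⁻¹ * n * (x ^ i)⁻¹⁻¹ := by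
      push_cast
      rw [← hnk]
      group
    rw [h1]
    have h2 : (x ^ i)⁻¹ ∈ Subgroup.normalizer (N : Set G) :=
      Subgroup.inv_mem _ (Subgroup.zpow_mem _ (hHs hxH).1 _)
    exact ((Subgroup.mem_normalizer_iff.mp h2) _).mp hn
  have hϑ : IsIrrCharacter (N.subgroupOf H) (fun n => f ((n : H) : G)) := (irrOn_sub hNH).mpr hf
  obtain ⟨χ, hχ, hχ'⟩ := CliffordExt.exists_extension_of_cyclic hcyc hϑ (by
    intro g
    funext n
    exact (hHs g.2).2 n n.2)
  refine ⟨lf H χ, irrOn_lf.mpr hχ, fun n hn => ?_⟩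
  rw [lf_mem H χ (hNH hn)]
  exact hχ' ⟨⟨n, hNH hn⟩, hn⟩

/-- two extensions differ by a linear character -/
theorem exists_twist {N H : Subgroup G} (hNH : N ≤ H) (hn : H ≤ Subgroup.normalizer (N : Set G))
    {e e' : G → ℂ} (hN : IrrOn N e) (he : IrrOn H e) (he' : IrrOn H e') (hee : ∀ n ∈ N, e' n = e n) :
    ∃ β : H →* ℂˣ, (∀ n : H, (n : G) ∈ N → β n = 1) ∧ ∀ h : H, e' h = β h * e h := by
  have hn : (N.subgroupOf H).Normal := by
    refine ⟨fun n hn' g => ?_⟩
    rw [Subgroup.mem_subgroupOf] at hn' ⊢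
    exact ((Subgroup.mem_normalizer_iff.mp (hn g.2)) _).mp hn'
  have hϑ : IsIrrCharacter (N.subgroupOf H) (fun n => e ((n : H) : G)) := (irrOn_sub hNH).mpr hN
  obtain ⟨β, h1, h2⟩ := exists_linear_twist (G := H) (N := N.subgroupOf H) hϑ (χ := fun h : H => e h)
    (ψ := fun h : H => e' h) he (fun n => rfl) he' (fun n => hee _ n.2)
  exact ⟨β, fun n hn => h1 ⟨n, hn⟩, fun h => congrFun h2 h⟩

/-- the norm on a coset -/
theorem coset_norm {N H : Subgroup G} (hNH : N ≤ H) (hn : H ≤ Subgroup.normalizer (N : Set G))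
    {e : G → ℂ} (hN : IrrOn N e) (he : IrrOn H e) {x : G} (hx : x ∈ H) :
    ∑ n : N, e (n * x) * conj (e (n * x)) = (Nat.card N : ℂ) := by
  have hn : (N.subgroupOf H).Normal := by
    refine ⟨fun n hn' g => ?_⟩
    rw [Subgroup.mem_subgroupOf] at hn' ⊢
    exact ((Subgroup.mem_normalizer_iff.mp (hn g.2)) _).mp hn'
  have hϑ : IsIrrCharacter (N.subgroupOf H) (fun n => e ((n : H) : G)) := (irrOn_sub hNH).mpr hN
  have h1 := (CosetAvg.coset_average hϑ (χ := fun h : H => e h) (ψ := fun h : H => e h) he (fun n => rfl) he).1 1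
    isIrrCharacter_one (fun _ => rfl) (one_mul _).symm ⟨x, hx⟩
  have h0 : (Nat.card (N.subgroupOf H) : ℂ) ≠ 0 := by exact_mod_cast Nat.card_pos.ne'
  have h2 : ∑ n : N.subgroupOf H, e (((n : H) * ⟨x, hx⟩ : H) : G) * conj (e (((n : H) * ⟨x, hx⟩ : H) : G)) =
      (Nat.card (N.subgroupOf H) : ℂ) := by
    have h3 := congrArg (fun z => (Nat.card (N.subgroupOf H) : ℂ) * z) h1
    simp only [Pi.one_apply, mul_one] at h3
    rw [← mul_assoc, mul_inv_cancel₀ h0, one_mul] at h3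
    exact h3
  have h4 : Nat.card (N.subgroupOf H) = Nat.card N := Nat.card_congr (subEquiv N H hNH).toEquiv
  rw [h4] at h2
  rw [← h2]
  exact (Fintype.sum_equiv (subEquiv N H hNH).toEquiv _ _ (fun n => rfl)).symm

theorem exists_ne_zero {N H : Subgroup G} (hNH : N ≤ H) (hn : H ≤ Subgroup.normalizer (N : Set G))
    {e : G → ℂ} (hN : IrrOn N e) (he : IrrOn H e) {x : G} (hx : x ∈ H) : ∃ n ∈ N, e (n * x) ≠ 0 := by
  by_contra hno
  push Not at hno
  have h1 := coset_norm hNH hn hN he hx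
  rw [Finset.sum_eq_zero (fun n _ => by rw [hno n n.2, zero_mul])] at h1
  have h0 : (Nat.card N : ℂ) ≠ 0 := by exact_mod_cast Nat.card_pos.ne'
  exact h0 h1.symm

/-- a character of `H` which is a multiple of `e` on `N` is a multiple of `e` on every coset of `N` -/
theorem coset_scal {N H : Subgroup G} (hNH : N ≤ H) (hn : H ≤ Subgroup.normalizer (N : Set G))
    {e : G → ℂ} (hN : IrrOn N e) (he : IrrOn H e) {χ : G → ℂ} (hχ : ChOn H χ) {c : ℂ} (hc : ∀ n ∈ N, χ n = c * e n)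
    {x : G} (hx : x ∈ H) : ∃ a : ℂ, ∀ n ∈ N, χ (n * x) = a * e (n * x) := by
  classical
  have hn' : (N.subgroupOf H).Normal := by
    refine ⟨fun n hn' g => ?_⟩
    rw [Subgroup.mem_subgroupOf] at hn' ⊢
    exact ((Subgroup.mem_normalizer_iff.mp (hn g.2)) _).mp hn'
  have hϑ : IsIrrCharacter (N.subgroupOf H) (fun n => e ((n : H) : G)) := (irrOn_sub hNH).mpr hN
  have hχ0 : IsCharacter H (fun h : H => χ h) := hχ
  -- every constituent lies over `e`
  have key : ∀ ψ : IrrCharacter H, classInner (fun h : H => χ h) (ψ : H → ℂ) ≠ 0 →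
      ∃ β : H → ℂ, IsIrrCharacter H β ∧ (∀ n : N.subgroupOf H, β n = β 1) ∧ (ψ : H → ℂ) = β * fun h : H => e h := by
    intro ψ hψ
    apply exists_gallagher hϑ (χ := fun h : H => e h) he (fun n => rfl) ψ.2
    obtain ⟨η, hη⟩ := Clifford.exists_constituent (ψ.2.isCharacter.restrict (N.subgroupOf H))
      (FongSwan.isCharacter_ne_zero_of_irr ψ.2 (N.subgroupOf H))
    by_cases h1 : (η : N.subgroupOf H → ℂ) = fun n : N.subgroupOf H => e ((n : H) : G)
    · rw [← h1]; exact hη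
    · exfalso
      have h2 := FongSwan.over_trans hχ0 ψ.2 hψ η.2 hη
      apply h2
      have h3 : ∀ ξ : N.subgroupOf H → ℂ, (fun n : N.subgroupOf H => e ((n : H) : G)) = ξ →
          (fun m : N.subgroupOf H => χ ((m : H) : G)) = c • ξ := by
        rintro _ rfl
        funext m
        exact hc _ m.2
      show classInner (fun m : N.subgroupOf H => χ ((m : H) : G)) (η : N.subgroupOf H → ℂ) = 0
      rw [h3 _ rfl, classInner_smul_left, hϑ.classInner_eq_zero η.2 (fun h => h1 h.symm), mul_zero]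
  choose! β hβ hβc hβe using key
  refine ⟨∑ ψ : IrrCharacter H, classInner (fun h : H => χ h) (ψ : H → ℂ) * β ψ ⟨x, hx⟩, fun n hn1 => ?_⟩
  have h1 := congrFun hχ0.isClassFunction.expansion (⟨n, hNH hn1⟩ * ⟨x, hx⟩)
  simp only [Finset.sum_apply, Pi.smul_apply, smul_eq_mul] at h1
  have h2 : χ (n * x) = χ ((⟨n, hNH hn1⟩ * ⟨x, hx⟩ : H) : G) := rfl
  rw [h2, h1, Finset.sum_mul]
  apply Finset.sum_congr rfl
  intro ψ _
  by_cases h3 : classInner (fun h : H => χ h) (ψ : H → ℂ) = 0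
  · rw [h3]; simp
  · rw [mul_assoc]
    congr 1
    have h4 := congrFun (hβe ψ h3) (⟨n, hNH hn1⟩ * ⟨x, hx⟩)
    have h5 := CosetAvg.mul_eq_of_const' (hβ ψ h3).isCharacter (hβc ψ h3) ⟨⟨n, hNH hn1⟩, hn1⟩ ⟨x, hx⟩
    rw [h4, ← h5]
    rfl

end fin

end Cfsg.Agent.Lib.RMck
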