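import Cfsg.Agent.Lib.RMck1

/-!
# Counting the irreducible characters over an invariant character (helper74)
-/

set_option autoImplicit false
set_option linter.all false

namespace Cfsg.Agent.Lib.RMck

open scoped ComplexConjugate
open Cfsg Cfsg.Agent.Lib.CharBasic Cfsg.Agent.Lib.Clifford Cfsg.Agent.Lib.CliffordCorr
open Cfsg.Agent.Lib.CanonExt

universe u

attribute [local instance 5000] Fintype.ofFinite

section parseval

variable {G : Type u} [Group G] [Finite G]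

theorem parseval (F : G → ℂ) :
    ∑ χ : IrrCharacter G, (∑ g, F g * conj ((χ : G → ℂ) g)) * conj (∑ g, F g * conj ((χ : G → ℂ) g)) =
      ∑ y : G, ∑ g, F g * conj (F (y * g * y⁻¹)) := by
  have h0 : (Nat.card G : ℂ) ≠ 0 := by exact_mod_cast Nat.card_pos.ne'
  -- the average
  have hcl : IsClassFunction G (fun g => ∑ y : G, F (y * g * y⁻¹)) := by
    intro g x
    show ∑ y : G, F (y * (x * g * x⁻¹) * y⁻¹) = ∑ y : G, F (y * g * y⁻¹)
    refine Fintype.sum_equiv (Equiv.mulRight x) _ _ (fun y => ?_)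
    congr 1
    simp [mul_assoc]
  have h1 : ∀ a : G → ℂ, IsClassFunction G a → classInner (fun g => ∑ y : G, F (y * g * y⁻¹)) a = ∑ g, F g * conj (a g) := by
    intro a ha
    rw [classInner_def]
    have : ∑ g : G, (∑ y : G, F (y * g * y⁻¹)) * conj (a g) = ∑ y : G, ∑ g : G, F g * conj (a g) := by
      simp only [Finset.sum_mul]
      rw [Finset.sum_comm]
      apply Finset.sum_congr rfl
      intro y _
      refine Fintype.sum_equiv (MulAut.conj y).toEquiv _ _ (fun g => ?_)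
      show F (y * g * y⁻¹) * conj (a g) = F (y * g * y⁻¹) * conj (a (y * g * y⁻¹))
      rw [ha g y]
    rw [this, Finset.sum_const, Finset.card_univ, nsmul_eq_mul, ← Nat.card_eq_fintype_card, ← mul_assoc,
      inv_mul_cancel₀ h0, one_mul]
  have h2 := hcl.classInner_eq_sum (fun g => ∑ y : G, F (y * g * y⁻¹))
  rw [h1 _ hcl] at h2
  have h3 : ∀ χ : IrrCharacter G, classInner (fun g => ∑ y : G, F (y * g * y⁻¹)) (χ : G → ℂ) = ∑ g, F g * conj ((χ : G → ℂ) g) :=
    fun χ => h1 _ χ.2.isClassFunction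
  simp only [h3] at h2
  rw [← h2, Finset.sum_comm]
  apply Finset.sum_congr rfl
  intro g _
  rw [map_sum, Finset.mul_sum]

end parseval

section count

variable {G : Type u} [Group G] [Finite G]

theorem irrOn_of_res {K H : Subgroup G} (hKH : K ≤ H) {e : G → ℂ} (he : ChOn H e) (hK : IrrOn K e) : IrrOn H e := by
  have h1 : IsIrrCharacter (K.subgroupOf H) (fun n => e ((n : H) : G)) := (irrOn_sub hKH).mpr hK
  have he' : IsCharacter H (fun h : H => e h) := he
  exact he'.isIrr_of_restrict (K.subgroupOf H) h1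

/-- indicator sum over a coset -/
theorem sum_coset (M : Subgroup G) (x : G) (f : G → ℂ) [DecidablePred fun g : G => g * x⁻¹ ∈ M] :
    ∑ g : G, (if g * x⁻¹ ∈ M then f g else 0) = ∑ m : M, f (m * x) := by
  rw [← Finset.sum_filter]
  symm
  refine Finset.sum_bij (fun m _ => (m : G) * x) ?_ ?_ ?_ ?_
  · intro m _; simp
  · intro a _ b _ h; exact Subtype.ext (mul_right_cancel h)
  · intro g hg
    simp only [Finset.mem_filter, Finset.mem_univ, true_and] at hg
    exact ⟨⟨g * x⁻¹, hg⟩, Finset.mem_univ _, by simp⟩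
  · intro m _; rfl

/-- the elements commuting with `x` modulo `M` -/
def cM (M : Subgroup G) [hM : M.Normal] (x : G) : Subgroup G where
  carrier := {y | y * x * y⁻¹ * x⁻¹ ∈ M}
  one_mem' := by simp [M.one_mem]
  mul_mem' := by
    intro a b ha hb
    have h : a * b * x * (a * b)⁻¹ * x⁻¹ = a * (b * x * b⁻¹ * x⁻¹) * a⁻¹ * (a * x * a⁻¹ * x⁻¹) := by group
    show a * b * x * (a * b)⁻¹ * x⁻¹ ∈ M
    rw [h]
    exact M.mul_mem (hM.conj_mem _ hb a) ha
  inv_mem' := by
    intro a ha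
    have h : a⁻¹ * x * a⁻¹⁻¹ * x⁻¹ = a⁻¹ * (a * x * a⁻¹ * x⁻¹)⁻¹ * a⁻¹⁻¹ := by group
    show a⁻¹ * x * a⁻¹⁻¹ * x⁻¹ ∈ M
    rw [h]
    exact hM.conj_mem _ (M.inv_mem ha) _

theorem mem_cM {M : Subgroup G} [hM : M.Normal] {x y : G} : y ∈ cM M x ↔ y * x * y⁻¹ * x⁻¹ ∈ M := Iff.rfl

theorem le_cM {M : Subgroup G} [hM : M.Normal] (x : G) : M ≤ cM M x := by
  intro y hy
  rw [mem_cM]
  have : y * x * y⁻¹ * x⁻¹ = y * (x * y⁻¹ * x⁻¹) := by group
  rw [this]
  exact M.mul_mem hy (hM.conj_mem _ (M.inv_mem hy) x)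

theorem mem_coset_of_cM {M : Subgroup G} [hM : M.Normal] {x y m : G} (hm : m ∈ M) (hy : y ∈ cM M x) :
    ∃ m' ∈ M, y * (m * x) * y⁻¹ = m' * x := by
  refine ⟨y * m * y⁻¹ * (y * x * y⁻¹ * x⁻¹), M.mul_mem (hM.conj_mem _ hm y) hy, ?_⟩
  group

theorem exists_gamma {M : Subgroup G} [hM : M.Normal] {φ : G → ℂ} (h1 : IrrOn M φ)
    (h3 : ∀ g m, m ∈ M → φ (g * m * g⁻¹) = φ m) {x : G} {e : G → ℂ} (he : IrrOn (M ⊔ Subgroup.zpowers x) e)
    (hee : ∀ m ∈ M, e m = φ m) :
    ∃ γ : cM M x →* ℂ, (∀ y : cM M x, ∀ m ∈ M, e (y * (m * x) * (y : G)⁻¹) = γ y * e (m * x)) ∧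
      ∀ y : cM M x, γ y = 1 → ∀ h ∈ M ⊔ Subgroup.zpowers x, e (y * h * (y : G)⁻¹) = e h := by
  have hxH : x ∈ M ⊔ Subgroup.zpowers x := Subgroup.mem_sup_right (Subgroup.mem_zpowers x)
  have hMH : M ≤ M ⊔ Subgroup.zpowers x := le_sup_left
  have hn : M ⊔ Subgroup.zpowers x ≤ Subgroup.normalizer (M : Set G) := by
    rw [Subgroup.normalizer_eq_top_iff.mpr hM]; exact le_top
  have heM : IrrOn M e := h1.congr fun m hm => (hee m hm).symm
  have hnorm : ∀ y : cM M x, (y : G) ∈ Subgroup.normalizer ((M ⊔ Subgroup.zpowers x : Subgroup G) : Set G) := by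
    intro y
    apply mem_normalizer_of
    have : M ⊔ Subgroup.zpowers x ≤ (M ⊔ Subgroup.zpowers x).comap (MulAut.conj (y : G)).toMonoidHom := by
      refine sup_le ?_ ?_
      · intro m hm
        exact hMH (hM.conj_mem m hm y)
      · rw [Subgroup.zpowers_le]
        show (y : G) * x * (y : G)⁻¹ ∈ M ⊔ Subgroup.zpowers x
        have h : (y : G) * x * (y : G)⁻¹ = ((y : G) * x * (y : G)⁻¹ * x⁻¹) * x := by group
        rw [h]
        exact Subgroup.mul_mem _ (hMH y.2) hxH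
    exact this
  have key : ∀ y : cM M x, ∃ β : (M ⊔ Subgroup.zpowers x : Subgroup G) →* ℂˣ,
      (∀ n : (M ⊔ Subgroup.zpowers x : Subgroup G), (n : G) ∈ M → β n = 1) ∧
        ∀ h : (M ⊔ Subgroup.zpowers x : Subgroup G), e (y * h * (y : G)⁻¹) = β h * e h := by
    intro y
    exact exists_twist hMH hn heM he (he.conj (hnorm y)) (fun n hn' => by
      rw [hee _ (hM.conj_mem n hn' y), h3 _ _ hn', hee _ hn'])
  choose β hβ1 hβ2 using key
  have hval : ∀ y : cM M x, ∀ m ∈ M, e (y * (m * x) * (y : G)⁻¹) = (β y ⟨x, hxH⟩ : ℂ) * e (m * x) := by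
    intro y m hm
    have h4 := hβ2 y (⟨m, hMH hm⟩ * ⟨x, hxH⟩)
    rw [map_mul, hβ1 y ⟨m, hMH hm⟩ hm, one_mul] at h4
    exact h4
  obtain ⟨m₀, hm₀, hne⟩ := exists_ne_zero hMH hn heM he hxH
  let γ : cM M x →* ℂ :=
    { toFun := fun y => (β y ⟨x, hxH⟩ : ℂ)
      map_one' := by
        have h5 := hval 1 m₀ hm₀
        have h6 : ((1 : cM M x) : G) * (m₀ * x) * ((1 : cM M x) : G)⁻¹ = m₀ * x := by simp
        rw [h6] at h5
        exact (mul_right_cancel₀ hne (by rw [one_mul]; exact h5)).symm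
      map_mul' := by
        intro a b
        obtain ⟨m', hm', hb⟩ := mem_coset_of_cM hm₀ b.2
        have h5 := hval (a * b) m₀ hm₀
        have h6 : ((a * b : cM M x) : G) * (m₀ * x) * ((a * b : cM M x) : G)⁻¹ =
            a * (b * (m₀ * x) * (b : G)⁻¹) * (a : G)⁻¹ := by
          push_cast
          group
        rw [h6, hb, hval a m' hm', ← hb, hval b m₀ hm₀, ← mul_assoc] at h5
        exact (mul_right_cancel₀ hne h5).symm }
  refine ⟨γ, hval, fun y hy => ?_⟩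
  have h5 : β y ⟨x, hxH⟩ = 1 := by
    apply Units.ext
    exact hy
  have h6 : ∀ h ∈ M ⊔ Subgroup.zpowers x, ∀ hh : h ∈ M ⊔ Subgroup.zpowers x, β y ⟨h, hh⟩ = 1 := by
    intro h hh _
    rw [SubgroupTools.mem_sup_of_le_normalizer (by
      rw [Subgroup.zpowers_le]
      exact hn hxH)] at hh
    obtain ⟨n, hn1, k, hk, rfl⟩ := hh
    obtain ⟨i, rfl⟩ := Subgroup.mem_zpowers_iff.mp hk
    have h7 : (⟨n * x ^ i, ‹_›⟩ : (M ⊔ Subgroup.zpowers x : Subgroup G)) = ⟨n, hMH hn1⟩ * ⟨x, hxH⟩ ^ i := by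
      apply Subtype.ext
      push_cast
      rfl
    rw [h7, map_mul, map_zpow, h5, hβ1 y ⟨n, hMH hn1⟩ hn1, one_zpow, one_mul]
  intro h hh
  have h7 := hβ2 y ⟨h, hh⟩
  rw [h6 h hh hh, Units.val_one, one_mul] at h7
  exact h7

/-- sum of squares over a coset -/
noncomputable def sq (M : Subgroup G) (φ : G → ℂ) (x : G) : ℂ := by
  classical
  exact ∑ χ : IrrCharacter G, if ip M (χ : G → ℂ) φ ≠ 0 then
    ∑ m : M, (χ : G → ℂ) (m * x) * conj ((χ : G → ℂ) (m * x)) else 0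

theorem res_scal {M : Subgroup G} [hM : M.Normal] {φ : G → ℂ} (h1 : IrrOn M φ)
    (h3 : ∀ g m, m ∈ M → φ (g * m * g⁻¹) = φ m) {χ : G → ℂ} (hχ : IsIrrCharacter G χ) (h : ip M χ φ ≠ 0) :
    ∀ m ∈ M, χ m = ip M χ φ * φ m := by
  have h4 : ∀ g : G, cj M g (fun m : M => φ m) = fun m : M => φ m := by
    intro g
    funext m
    exact h3 g m m.2
  have h5 := res_eq_smul_of_invariant hχ h1 h4 h
  intro m hm
  exact congrFun h5 ⟨m, hm⟩

/-- orthogonality on a coset -/
theorem coset_orth {N H : Subgroup G} (hNH : N ≤ H) (hn : H ≤ Subgroup.normalizer (N : Set G))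
    {e : G → ℂ} (hN : IrrOn N e) (he : IrrOn H e) {χ : G → ℂ} (hχ : ChOn H χ) (hc : ip N χ e = 0)
    {x : G} (hx : x ∈ H) : ∑ n : N, χ (n * x) * conj (e (n * x)) = 0 := by
  classical
  have hn' : (N.subgroupOf H).Normal := by
    refine ⟨fun n hn' g => ?_⟩
    rw [Subgroup.mem_subgroupOf] at hn' ⊢
    exact ((Subgroup.mem_normalizer_iff.mp (hn g.2)) _).mp hn'
  have hϑ : IsIrrCharacter (N.subgroupOf H) (fun n => e ((n : H) : G)) := (irrOn_sub hNH).mpr hN
  have hχ0 : IsCharacter H (fun h : H => χ h) := hχ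
  have h0 : (Nat.card (N.subgroupOf H) : ℂ) ≠ 0 := by exact_mod_cast Nat.card_pos.ne'
  have key : ∀ ψ : IrrCharacter H, classInner (fun h : H => χ h) (ψ : H → ℂ) ≠ 0 →
      ∑ n : N.subgroupOf H, (ψ : H → ℂ) ((n : H) * ⟨x, hx⟩) * conj (e (((n : H) * ⟨x, hx⟩ : H) : G)) = 0 := by
    intro ψ hψ
    have h1 := (CosetAvg.coset_average hϑ (χ := fun h : H => e h) (ψ := (ψ : H → ℂ)) he (fun n => rfl) ψ.2).2 (by
      by_contra hne
      have h2 := FongSwan.over_trans hχ0 ψ.2 hψ hϑ hne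
      apply h2
      rw [← hc]
      exact ip_sub hNH χ e) ⟨x, hx⟩
    have h3 := congrArg (fun z => (Nat.card (N.subgroupOf H) : ℂ) * z) h1
    simp only [mul_zero] at h3
    rw [← mul_assoc, mul_inv_cancel₀ h0, one_mul] at h3
    exact h3
  have h1 : ∑ n : N, χ (n * x) * conj (e (n * x)) =
      ∑ n : N.subgroupOf H, χ (((n : H) * ⟨x, hx⟩ : H) : G) * conj (e (((n : H) * ⟨x, hx⟩ : H) : G)) :=
    (Fintype.sum_equiv (subEquiv N H hNH).toEquiv _ _ (fun n => rfl)).symm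
  rw [h1]
  have h2 : ∀ n : N.subgroupOf H, χ (((n : H) * ⟨x, hx⟩ : H) : G) =
      ∑ ψ : IrrCharacter H, classInner (fun h : H => χ h) (ψ : H → ℂ) * (ψ : H → ℂ) ((n : H) * ⟨x, hx⟩) := by
    intro n
    exact hχ0.isClassFunction.expansion_apply _
  simp only [h2, Finset.sum_mul]
  rw [Finset.sum_comm]
  apply Finset.sum_eq_zero
  intro ψ _
  by_cases h3 : classInner (fun h : H => χ h) (ψ : H → ℂ) = 0
  · simp [h3]
  · simp only [mul_assoc]
    rw [← Finset.mul_sum, key ψ h3, mul_zero]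

theorem sq_eq {M : Subgroup G} [hM : M.Normal] {φ : G → ℂ} (h1 : IrrOn M φ)
    (h3 : ∀ g m, m ∈ M → φ (g * m * g⁻¹) = φ m) {x : G} {e : G → ℂ} (he : IrrOn (M ⊔ Subgroup.zpowers x) e)
    (hee : ∀ m ∈ M, e m = φ m) {γ : cM M x →* ℂ}
    (hγ : ∀ y : cM M x, ∀ m ∈ M, e (y * (m * x) * (y : G)⁻¹) = γ y * e (m * x)) :
    sq M φ x = ∑ y : cM M x, conj (γ y) := by
  classical
  have hxH : x ∈ M ⊔ Subgroup.zpowers x := Subgroup.mem_sup_right (Subgroup.mem_zpowers x)
  have hMH : M ≤ M ⊔ Subgroup.zpowers x := le_sup_left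
  have hn : M ⊔ Subgroup.zpowers x ≤ Subgroup.normalizer (M : Set G) := by
    rw [Subgroup.normalizer_eq_top_iff.mpr hM]; exact le_top
  have heM : IrrOn M e := h1.congr fun m hm => (hee m hm).symm
  have h0 : (Nat.card M : ℂ) ≠ 0 := by exact_mod_cast Nat.card_pos.ne'
  have hnorm := coset_norm hMH hn heM he hxH
  have hpar := parseval (fun g : G => if g * x⁻¹ ∈ M then e g else 0)
  -- left side
  have hL : ∀ χ : IrrCharacter G, (∑ g, (if g * x⁻¹ ∈ M then e g else 0) * conj ((χ : G → ℂ) g)) *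
      conj (∑ g, (if g * x⁻¹ ∈ M then e g else 0) * conj ((χ : G → ℂ) g)) =
      (Nat.card M : ℂ) * (if ip M (χ : G → ℂ) φ ≠ 0 then
        ∑ m : M, (χ : G → ℂ) (m * x) * conj ((χ : G → ℂ) (m * x)) else 0) := by
    intro χ
    have h4 : ∑ g, (if g * x⁻¹ ∈ M then e g else 0) * conj ((χ : G → ℂ) g) =
        ∑ m : M, e (m * x) * conj ((χ : G → ℂ) (m * x)) := by
      rw [← sum_coset M x (fun g => e g * conj ((χ : G → ℂ) g))]
      apply Finset.sum_congr rfl
      intro g _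
      split_ifs <;> simp
    rw [h4]
    have hχH : ChOn (M ⊔ Subgroup.zpowers x) (χ : G → ℂ) := χ.2.isCharacter.restrict _
    split_ifs with h5
    · obtain ⟨a, ha⟩ := coset_scal hMH hn heM he hχH (c := ip M (χ : G → ℂ) φ) (fun m hm => by
        rw [res_scal h1 h3 χ.2 h5 m hm, hee m hm]) hxH
      have h6 : ∑ m : M, e (m * x) * conj ((χ : G → ℂ) (m * x)) = conj a * (Nat.card M : ℂ) := by
        rw [← hnorm, Finset.mul_sum]
        apply Finset.sum_congr rfl
        intro m _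
        rw [ha m m.2, map_mul]
        ring
      have h7 : ∑ m : M, (χ : G → ℂ) (m * x) * conj ((χ : G → ℂ) (m * x)) = a * conj a * (Nat.card M : ℂ) := by
        rw [← hnorm, Finset.mul_sum]
        apply Finset.sum_congr rfl
        intro m _
        rw [ha m m.2, map_mul]
        ring
      rw [h6, h7, map_mul, Complex.conj_conj, Complex.conj_natCast]
      ring
    · have h6 : ∑ m : M, (χ : G → ℂ) (m * x) * conj (e (m * x)) = 0 := by
        apply coset_orth hMH hn heM he hχH _ hxH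
        rw [← not_not (a := ip M (χ : G → ℂ) e = 0)]
        intro h7
        apply h5
        rwa [ip_congr (fun _ _ => rfl) (fun m hm => (hee m hm).symm)]
      have h7 : ∑ m : M, e (m * x) * conj ((χ : G → ℂ) (m * x)) = 0 := by
        have := congrArg (starRingEnd ℂ) h6
        rw [map_sum, map_zero] at this
        rw [← this]
        apply Finset.sum_congr rfl
        intro m _
        rw [map_mul, Complex.conj_conj, mul_comm]
      rw [h7]
      simp
  simp only [hL] at hpar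
  rw [← Finset.mul_sum] at hpar
  -- right side
  have hR : ∀ y : G, ∑ g, (if g * x⁻¹ ∈ M then e g else 0) *
      conj (if y * g * y⁻¹ * x⁻¹ ∈ M then e (y * g * y⁻¹) else 0) =
      if h : y ∈ cM M x then (Nat.card M : ℂ) * conj (γ ⟨y, h⟩) else 0 := by
    intro y
    have h4 : ∑ g, (if g * x⁻¹ ∈ M then e g else 0) *
        conj (if y * g * y⁻¹ * x⁻¹ ∈ M then e (y * g * y⁻¹) else 0) =
        ∑ m : M, e (m * x) * conj (if y * (m * x) * y⁻¹ * x⁻¹ ∈ M then e (y * (m * x) * y⁻¹) else 0) := by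
      rw [← sum_coset M x (fun g => e g * conj (if y * g * y⁻¹ * x⁻¹ ∈ M then e (y * g * y⁻¹) else 0))]
      apply Finset.sum_congr rfl
      intro g _
      by_cases h5 : g * x⁻¹ ∈ M
      · rw [if_pos h5, if_pos h5]
      · rw [if_neg h5, if_neg h5, zero_mul]
    rw [h4]
    split_ifs with h5
    · rw [← hnorm, Finset.sum_mul]
      apply Finset.sum_congr rfl
      intro m _
      obtain ⟨m', hm', h6⟩ := mem_coset_of_cM m.2 h5
      have h7 : y * (m * x) * y⁻¹ * x⁻¹ ∈ M := by rw [h6]; simpa using hm'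
      rw [if_pos h7]
      have h8 := hγ ⟨y, h5⟩ m m.2
      rw [h8, map_mul]
      ring
    · apply Finset.sum_eq_zero
      intro m _
      rw [if_neg, map_zero, mul_zero]
      intro h6
      apply h5
      rw [mem_cM]
      have h7 : y * x * y⁻¹ * x⁻¹ = (y * m * y⁻¹)⁻¹ * (y * (m * x) * y⁻¹ * x⁻¹) := by group
      rw [h7]
      exact M.mul_mem (M.inv_mem (hM.conj_mem _ m.2 y)) h6
  simp only [hR] at hpar
  have h8 : ∑ y : G, (if h : y ∈ cM M x then (Nat.card M : ℂ) * conj (γ ⟨y, h⟩) else 0) =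
      (Nat.card M : ℂ) * ∑ y : cM M x, conj (γ y) := by
    rw [Finset.mul_sum]
    symm
    refine Finset.sum_of_injOn (fun y : cM M x => (y : G)) (fun a _ b _ h => Subtype.ext h) (fun _ _ => by simp) ?_ ?_
    · intro y _ hy
      rw [dif_neg]
      intro h
      apply hy
      exact ⟨⟨y, h⟩, by simp, rfl⟩
    · intro y _
      rw [dif_pos y.2]
  rw [h8] at hpar
  exact mul_left_cancel₀ h0 hpar

theorem sum_reduce {M D : Subgroup G} [hM : M.Normal] (hMD : M ⊔ D = ⊤) {g : G → ℂ}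
    (hg : ∀ m ∈ M, ∀ x, g (m * x) = g x) :
    (Nat.card (M ⊓ D : Subgroup G) : ℂ) * ∑ x : G, g x = (Nat.card M : ℂ) * ∑ d : D, g d := by
  classical
  have hn : D ≤ Subgroup.normalizer (M : Set G) := by
    rw [Subgroup.normalizer_eq_top_iff.mpr hM]; exact le_top
  have h1 : ∀ d : D, (Nat.card M : ℂ) * g d = ∑ x : G, if x * (d : G)⁻¹ ∈ M then g x else 0 := by
    intro d
    rw [sum_coset M (d : G) g]
    rw [Finset.sum_congr rfl (fun (m : M) _ => hg m m.2 d), Finset.sum_const, Finset.card_univ, nsmul_eq_mul,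
      ← Nat.card_eq_fintype_card]
  rw [Finset.mul_sum (f := fun d : D => g d), Finset.sum_congr rfl (fun d _ => h1 d), Finset.sum_comm, Finset.mul_sum]
  apply Finset.sum_congr rfl
  intro x _
  have hx : x ∈ M ⊔ D := by rw [hMD]; trivial
  rw [SubgroupTools.mem_sup_of_le_normalizer hn] at hx
  obtain ⟨m₀, hm₀, d₀, hd₀, rfl⟩ := hx
  rw [← Finset.sum_filter, Finset.sum_const, nsmul_eq_mul]
  congr 1
  rw [Nat.card_eq_fintype_card, ← Finset.card_univ]
  norm_cast
  symm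
  symm
  refine Finset.card_bij (fun a _ => (⟨(a : G) * d₀, D.mul_mem a.2.2 hd₀⟩ : D)) ?_ ?_ ?_
  · intro a _
    simp only [Finset.mem_filter, Finset.mem_univ, true_and]
    have : m₀ * d₀ * ((a : G) * d₀)⁻¹ = m₀ * (a : G)⁻¹ := by group
    show m₀ * d₀ * ((a : G) * d₀)⁻¹ ∈ M
    rw [this]
    exact M.mul_mem hm₀ (M.inv_mem a.2.1)
  · intro a _ b _ h
    exact Subtype.ext (mul_right_cancel (congrArg Subtype.val h))
  · intro d hd
    simp only [Finset.mem_filter, Finset.mem_univ, true_and] at hd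
    refine ⟨⟨(d : G) * d₀⁻¹, ?_, D.mul_mem d.2 (D.inv_mem hd₀)⟩, Finset.mem_univ _, ?_⟩
    · have : (d : G) * d₀⁻¹ = (m₀ * d₀ * (d : G)⁻¹)⁻¹ * m₀ := by group
      rw [this]
      exact M.mul_mem (M.inv_mem hd) hm₀
    · apply Subtype.ext
      simp

/-- `φ` extends to `H` -/
def Ext (K : Subgroup G) (φ : G → ℂ) (H : Subgroup G) : Prop := ∃ e, IrrOn H e ∧ ∀ k ∈ K, e k = φ k

theorem gamma_iff {M K : Subgroup G} [hM : M.Normal] [hK : K.Normal] (hKM : K ≤ M)
    {φ : G → ℂ} (h1 : IrrOn M φ) (h2 : IrrOn K φ)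
    (h3 : ∀ g m, m ∈ M → φ (g * m * g⁻¹) = φ m) {x : G} {e : G → ℂ} (he : IrrOn (M ⊔ Subgroup.zpowers x) e)
    (hee : ∀ m ∈ M, e m = φ m) {γ : cM M x →* ℂ}
    (hγ : ∀ y : cM M x, ∀ m ∈ M, e (y * (m * x) * (y : G)⁻¹) = γ y * e (m * x))
    (hγ' : ∀ y : cM M x, γ y = 1 → ∀ h ∈ M ⊔ Subgroup.zpowers x, e (y * h * (y : G)⁻¹) = e h)
    (y : cM M x) (hy : (y : G) * x * (y : G)⁻¹ * x⁻¹ ∈ K) :
    γ y = 1 ↔ Ext K φ (K ⊔ Subgroup.closure {x, (y : G)}) := by
  have hxH : x ∈ M ⊔ Subgroup.zpowers x := Subgroup.mem_sup_right (Subgroup.mem_zpowers x)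
  have hxB : x ∈ K ⊔ Subgroup.zpowers x := Subgroup.mem_sup_right (Subgroup.mem_zpowers x)
  have hKB : K ≤ K ⊔ Subgroup.zpowers x := le_sup_left
  have hn : K ⊔ Subgroup.zpowers x ≤ Subgroup.normalizer (K : Set G) := by
    rw [Subgroup.normalizer_eq_top_iff.mpr hK]; exact le_top
  have hBH : K ⊔ Subgroup.zpowers x ≤ M ⊔ Subgroup.zpowers x := sup_le_sup_right hKM _
  have heK : IrrOn K e := h2.congr fun m hm => (hee m (hKM hm)).symm
  have heB : IrrOn (K ⊔ Subgroup.zpowers x) e := irrOn_of_res hKB (he.ch.res hBH) heK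
  have hBE : K ⊔ Subgroup.zpowers x ≤ K ⊔ Subgroup.closure {x, (y : G)} := by
    apply sup_le_sup_left
    rw [Subgroup.zpowers_le]
    exact Subgroup.subset_closure (by simp)
  have hyE : (y : G) ∈ K ⊔ Subgroup.closure {x, (y : G)} :=
    Subgroup.mem_sup_right (Subgroup.subset_closure (by simp))
  have hyn : (y : G) ∈ Subgroup.normalizer ((K ⊔ Subgroup.zpowers x : Subgroup G) : Set G) := by
    apply mem_normalizer_of
    have : K ⊔ Subgroup.zpowers x ≤ (K ⊔ Subgroup.zpowers x).comap (MulAut.conj (y : G)).toMonoidHom := by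
      refine sup_le ?_ ?_
      · intro m hm
        exact hKB (hK.conj_mem m hm y)
      · rw [Subgroup.zpowers_le]
        show (y : G) * x * (y : G)⁻¹ ∈ K ⊔ Subgroup.zpowers x
        have h : (y : G) * x * (y : G)⁻¹ = ((y : G) * x * (y : G)⁻¹ * x⁻¹) * x := by group
        rw [h]
        exact Subgroup.mul_mem _ (hKB hy) hxB
    exact this
  constructor
  · intro hg
    have hinv : (y : G) ∈ stab (K ⊔ Subgroup.zpowers x) e := ⟨hyn, fun n hn' => hγ' y hg n (hBH hn')⟩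
    obtain ⟨e', he', hee'⟩ := exists_ext hBE (by
      refine sup_le (hKB.trans le_sup_left) ?_
      rw [Subgroup.closure_le]
      rintro z (rfl | rfl)
      · exact Subgroup.mem_sup_left hxB
      · exact Subgroup.mem_sup_right (Subgroup.mem_zpowers _)) hyE heB hinv
    exact ⟨e', he', fun k hk => by rw [hee' k (hKB hk), hee k (hKM hk)]⟩
  · rintro ⟨ε, hε, hεK⟩
    have hεK' : IrrOn K ε := h2.congr fun m hm => (hεK m hm).symm
    have hεB : IrrOn (K ⊔ Subgroup.zpowers x) ε := irrOn_of_res hKB (hε.ch.res hBE) hεK'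
    obtain ⟨β, hβ1, hβ2⟩ := exists_twist hKB hn hεK' hεB heB (fun k hk => by rw [hεK k hk, hee k (hKM hk)])
    have hval : ∀ k, k ∈ K → e (k * x) = β ⟨x, hxB⟩ * ε (k * x) := by
      intro k hk
      have h4 := hβ2 (⟨k, hKB hk⟩ * ⟨x, hxB⟩)
      rw [map_mul, hβ1 ⟨k, hKB hk⟩ hk, one_mul] at h4
      exact h4
    obtain ⟨k₀, hk₀, hne⟩ := exists_ne_zero hKB hn heK heB hxB
    have h5 := hγ y k₀ (hKM hk₀)
    have h6 : (y : G) * (k₀ * x) * (y : G)⁻¹ = (y * k₀ * (y : G)⁻¹ * ((y : G) * x * (y : G)⁻¹ * x⁻¹)) * x := by group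
    rw [h6, hval _ (K.mul_mem (hK.conj_mem _ hk₀ y) hy), ← h6, hε.ch.cls (hBE (Subgroup.mul_mem _ (hKB hk₀) hxB)) hyE,
      ← hval _ hk₀] at h5
    exact (mul_right_cancel₀ hne (by rw [one_mul]; exact h5)).symm

theorem sq_left_inv (M : Subgroup G) [hM : M.Normal] (φ : G → ℂ) {m : G} (hm : m ∈ M) (x : G) :
    sq M φ (m * x) = sq M φ x := by
  classical
  unfold sq
  apply Finset.sum_congr rfl
  intro χ _
  split_ifs with h
  · refine Fintype.sum_equiv (Equiv.mulRight (⟨m, hm⟩ : M)) _ _ (fun n => ?_)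
    show (χ : G → ℂ) (n * (m * x)) * conj ((χ : G → ℂ) (n * (m * x))) =
      (χ : G → ℂ) ((n * m : G) * x) * conj ((χ : G → ℂ) ((n * m : G) * x))
    rw [mul_assoc]
  · rfl

theorem sum_sq (M : Subgroup G) (φ : G → ℂ) :
    ∑ x : G, sq M φ x = (Nat.card {χ : IrrCharacter G // ip M (χ : G → ℂ) φ ≠ 0} : ℂ) * Nat.card M * Nat.card G := by
  classical
  have h0 : (Nat.card G : ℂ) ≠ 0 := by exact_mod_cast Nat.card_pos.ne'
  unfold sq
  rw [Finset.sum_comm]
  have h1 : ∀ χ : IrrCharacter G, ∑ x : G, (if ip M (χ : G → ℂ) φ ≠ 0 then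
      ∑ m : M, (χ : G → ℂ) (m * x) * conj ((χ : G → ℂ) (m * x)) else 0) =
      if ip M (χ : G → ℂ) φ ≠ 0 then (Nat.card M : ℂ) * Nat.card G else 0 := by
    intro χ
    by_cases h : ip M (χ : G → ℂ) φ ≠ 0
    · simp only [if_pos h]
      rw [Finset.sum_comm]
      have h2 : ∀ m : M, ∑ x : G, (χ : G → ℂ) (m * x) * conj ((χ : G → ℂ) (m * x)) = Nat.card G := by
        intro m
        have h3 : ∑ x : G, (χ : G → ℂ) (m * x) * conj ((χ : G → ℂ) (m * x)) =
            ∑ x : G, (χ : G → ℂ) x * conj ((χ : G → ℂ) x) :=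
          Fintype.sum_equiv (Equiv.mulLeft (m : G)) _ _ (fun x => rfl)
        rw [h3]
        have h4 := χ.2.classInner_self
        rw [classInner_def] at h4
        have h5 := congrArg (fun z => (Nat.card G : ℂ) * z) h4
        simp only [mul_one] at h5
        rw [← mul_assoc, mul_inv_cancel₀ h0, one_mul] at h5
        exact h5
      rw [Finset.sum_congr rfl (fun m _ => h2 m), Finset.sum_const, Finset.card_univ, nsmul_eq_mul,
        Nat.card_eq_fintype_card (α := M)]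
    · simp only [if_neg h]
      simp
  rw [Finset.sum_congr rfl (fun χ _ => h1 χ), ← Finset.sum_filter, Finset.sum_const, nsmul_eq_mul,
    Nat.card_eq_fintype_card (α := {χ : IrrCharacter G // ip M (χ : G → ℂ) φ ≠ 0}), Fintype.card_subtype]
  ring

/-- number of elements of `D` commuting with `d` modulo `M` -/
noncomputable def cD (M D : Subgroup G) (d : G) : ℕ := Nat.card {d' : D // (d' : G) * d * (d' : G)⁻¹ * d⁻¹ ∈ M}

open scoped Classical in
theorem ggc {M K D : Subgroup G} [hM : M.Normal] [hK : K.Normal] (hKM : K ≤ M) (hMD : M ⊔ D = ⊤)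
    (hMD' : M ⊓ D ≤ K) {φ : G → ℂ} (h1 : IrrOn M φ) (h2 : IrrOn K φ)
    (h3 : ∀ g m, m ∈ M → φ (g * m * g⁻¹) = φ m) :
    (Nat.card {χ : IrrCharacter G // ip M (χ : G → ℂ) φ ≠ 0} : ℂ) * Nat.card D * Nat.card (M ⊓ D : Subgroup G) =
      ∑ d : D, if (∀ d' ∈ D, d' * d * d'⁻¹ * (d : G)⁻¹ ∈ M → Ext K φ (K ⊔ Subgroup.closure {(d : G), d'})) then
        (cD M D d : ℂ) else 0 := by
  have hG0 : (Nat.card G : ℂ) ≠ 0 := by exact_mod_cast Nat.card_pos.ne'
  have hM0 : (Nat.card M : ℂ) ≠ 0 := by exact_mod_cast Nat.card_pos.ne'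
  have hMD0 : (Nat.card (M ⊓ D : Subgroup G) : ℂ) ≠ 0 := by exact_mod_cast Nat.card_pos.ne'
  have hn : D ≤ Subgroup.normalizer (M : Set G) := by
    rw [Subgroup.normalizer_eq_top_iff.mpr hM]; exact le_top
  -- cardinalities
  have hc1 : (Nat.card (M ⊓ D : Subgroup G) : ℂ) * Nat.card G = (Nat.card M : ℂ) * Nat.card D := by
    have := sum_reduce hMD (g := fun _ => (1 : ℂ)) (fun _ _ _ => rfl)
    simpa [Nat.card_eq_fintype_card] using this
  have hc2 : ∀ d : G, (Nat.card (M ⊓ D : Subgroup G) : ℂ) * Nat.card (cM M d) = (Nat.card M : ℂ) * cD M D d := by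
    intro d
    have := sum_reduce hMD (g := fun y => if y ∈ cM M d then (1 : ℂ) else 0) (fun m hm x => by
      have h' : m * x ∈ cM M d ↔ x ∈ cM M d := by
        constructor
        · intro h
          have h' := (cM M d).mul_mem ((cM M d).inv_mem (le_cM d hm)) h
          simpa using h'
        · intro h
          exact (cM M d).mul_mem (le_cM d hm) h
      show (if m * x ∈ cM M d then (1 : ℂ) else 0) = if x ∈ cM M d then 1 else 0
      by_cases h : x ∈ cM M d
      · rw [if_pos h, if_pos (h'.mpr h)]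
      · rw [if_neg h, if_neg (fun h2 => h (h'.mp h2))])
    rw [← Finset.sum_filter, ← Finset.sum_filter] at this
    simp only [Finset.sum_const, nsmul_eq_mul, mul_one] at this
    rw [← Fintype.card_subtype, ← Fintype.card_subtype, ← Nat.card_eq_fintype_card, ← Nat.card_eq_fintype_card] at this
    exact this
  -- the value of `sq`
  have hval : ∀ d : D, sq M φ d = if (∀ d' ∈ D, d' * d * d'⁻¹ * (d : G)⁻¹ ∈ M →
      Ext K φ (K ⊔ Subgroup.closure {(d : G), d'})) then (Nat.card (cM M (d : G)) : ℂ) else 0 := by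
    intro d
    have hxH : (d : G) ∈ M ⊔ Subgroup.zpowers (d : G) := Subgroup.mem_sup_right (Subgroup.mem_zpowers _)
    have hMH : M ≤ M ⊔ Subgroup.zpowers (d : G) := le_sup_left
    have hnH : M ⊔ Subgroup.zpowers (d : G) ≤ Subgroup.normalizer (M : Set G) := by
      rw [Subgroup.normalizer_eq_top_iff.mpr hM]; exact le_top
    obtain ⟨e, he, hee⟩ := exists_ext (x := (d : G)) hMH le_rfl hxH h1 ⟨by
      rw [Subgroup.normalizer_eq_top_iff.mpr hM]; trivial, fun n hn => h3 _ _ hn⟩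
    have heM : IrrOn M e := h1.congr fun m hm => (hee m hm).symm
    obtain ⟨γ, hγ, hγ'⟩ := exists_gamma h1 h3 he hee
    rw [sq_eq h1 h3 he hee hγ]
    have hiff : (∀ d' ∈ D, d' * d * d'⁻¹ * (d : G)⁻¹ ∈ M →
      Ext K φ (K ⊔ Subgroup.closure {(d : G), d'})) ↔ γ = 1 := by
      have hcomm : ∀ d' ∈ D, d' * d * d'⁻¹ * (d : G)⁻¹ ∈ M → d' * d * d'⁻¹ * (d : G)⁻¹ ∈ K := by
        intro d' hd' h
        exact hMD' ⟨h, D.mul_mem (D.mul_mem (D.mul_mem hd' d.2) (D.inv_mem hd')) (D.inv_mem d.2)⟩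
      constructor
      · intro h
        obtain ⟨m₀, hm₀, hne⟩ := exists_ne_zero hMH hnH heM he hxH
        ext y
        have hy : (y : G) ∈ M ⊔ D := by rw [hMD]; trivial
        rw [SubgroupTools.mem_sup_of_le_normalizer hn] at hy
        obtain ⟨m, hm, d', hd', hmd⟩ := hy
        have hmc : m ∈ cM M (d : G) := le_cM _ hm
        have hdc : d' ∈ cM M (d : G) := by
          have h4 := (cM M (d : G)).mul_mem ((cM M (d : G)).inv_mem hmc) y.2
          rw [← hmd] at h4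
          simpa using h4
        have hy : y = ⟨m, hmc⟩ * ⟨d', hdc⟩ := Subtype.ext hmd.symm
        have h5 : γ ⟨m, hmc⟩ = 1 := by
          have h6 := hγ ⟨m, hmc⟩ m₀ hm₀
          have h7 : e (m * (m₀ * d) * m⁻¹) = e (m₀ * d) :=
            he.ch.cls (Subgroup.mul_mem _ (hMH hm₀) hxH) (hMH hm)
          exact (mul_right_cancel₀ hne (by rw [one_mul, ← h6]; exact h7.symm)).symm
        have h6 : γ ⟨d', hdc⟩ = 1 := by
          rw [gamma_iff hKM h1 h2 h3 he hee hγ hγ' ⟨d', hdc⟩ (hcomm d' hd' hdc)]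
          exact h d' hd' hdc
        rw [hy, map_mul, h5, h6, one_mul]
        rfl
      · intro h d' hd' hdM
        rw [← gamma_iff hKM h1 h2 h3 he hee hγ hγ' ⟨d', hdM⟩ (hcomm d' hd' hdM), h]
        rfl
    rw [← map_sum]
    rw [sum_hom_units γ]
    by_cases hg : γ = 1
    · rw [if_pos hg, if_pos (hiff.mpr hg), Nat.card_eq_fintype_card, map_natCast]
    · rw [if_neg hg, if_neg (fun h => hg (hiff.mp h))]
      simp
  have hs := sum_sq M φ
  have hr := sum_reduce hMD (g := sq M φ) (fun m hm x => sq_left_inv M φ hm x)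
  rw [hs] at hr
  have hfin : (Nat.card M : ℂ) * (Nat.card (M ⊓ D : Subgroup G) : ℂ) * ∑ d : D, sq M φ d =
      (Nat.card M : ℂ) * (Nat.card M : ℂ) * ∑ d : D, if (∀ d' ∈ D, d' * d * d'⁻¹ * (d : G)⁻¹ ∈ M → Ext K φ (K ⊔ Subgroup.closure {(d : G), d'})) then
        (cD M D d : ℂ) else 0 := by
    rw [Finset.mul_sum, Finset.mul_sum]
    apply Finset.sum_congr rfl
    intro d _
    rw [hval d]
    split_ifs
    · rw [mul_assoc, hc2 (d : G)]
      ring
    · simp
  have hM2 : (Nat.card M : ℂ) * (Nat.card M : ℂ) ≠ 0 := mul_ne_zero hM0 hM0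
  apply mul_left_cancel₀ hM2
  rw [← hfin]
  have h9 : (Nat.card M : ℂ) * (Nat.card (M ⊓ D : Subgroup G) : ℂ) * ∑ d : D, sq M φ d =
      (Nat.card (M ⊓ D : Subgroup G) : ℂ) * ((Nat.card M : ℂ) * ∑ d : D, sq M φ d) := by ring
  rw [h9, ← hr]
  calc _ = (Nat.card {χ : IrrCharacter G // ip M (χ : G → ℂ) φ ≠ 0} : ℂ) * (Nat.card M : ℂ) *
        (Nat.card (M ⊓ D : Subgroup G) : ℂ) * ((Nat.card M : ℂ) * Nat.card D) := by ring
    _ = _ := by rw [← hc1]; ring

end count

end Cfsg.Agent.Lib.RMck
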