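import Cfsg.Agent.S4208
import Cfsg.Agent.Lib.FrattiniP
import Cfsg.Agent.Lib.Transfer
import Cfsg.Agent.Lib.CycNorm
import Cfsg.Agent.Lib.H70Basic2

set_option autoImplicit false

/-!
Normal `p`-complements from bounds on the number of generators of `p`-subgroups.
-/

namespace Cfsg.Agent.Lib.RankComp

open Subgroup Cfsg

variable {G : Type*} [Group G]

theorem index_frattini_le {P : Type*} [Group P] [Finite P] {p : ℕ} [hp : Fact p.Prime] (hP : IsPGroup p P) {d : ℕ}
    (hd : Group.rank P ≤ d) : ∃ r, r ≤ d ∧ (frattini P).index = p ^ r := by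
  have h1 : ∃ r, (frattini P).index = p ^ r := by
    obtain ⟨n, hn⟩ := IsPGroup.iff_card.1 hP
    have h2 : (frattini P).index ∣ p ^ n := by rw [← hn]; exact Subgroup.index_dvd_card _
    obtain ⟨r, -, hr⟩ := (Nat.dvd_prime_pow hp.1).1 h2
    exact ⟨r, hr⟩
  obtain ⟨r, hr⟩ := h1
  obtain ⟨S, hS, hS2⟩ := Group.rank_spec P
  refine ⟨r, ?_, hr⟩
  have h2 := (FrattiniP.burnside_basis (H70Frattini.commutator_le_frattini hP)
    (fun x => H70Frattini.pow_mem_frattini hP x) hr).2 S hS2
  omega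

/-- a `p'`-element normalizing a `p`-group `Q` with `d` generators centralizes it if `|G|` is prime to
`(p - 1) ⋯ (p ^ d - 1)` -/
theorem mem_centralizer [Finite G] {p : ℕ} [hp : Fact p.Prime] {Q : Subgroup G} (hQ : IsPGroup p Q) {d : ℕ}
    (hd : Group.rank Q ≤ d) (hcop : Nat.Coprime (Nat.card G) (∏ i ∈ Finset.Icc 1 d, (p ^ i - 1)))
    {g : G} (hg : g ∈ normalizer (Q : Set G)) (hgo : (orderOf g).Coprime p) : g ∈ centralizer (Q : Set G) := by
  obtain ⟨r, hr, hri⟩ := index_frattini_le hQ hd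
  obtain ⟨n, hn⟩ := IsPGroup.iff_card.1 hQ
  have h1 := Cfsg.Agent.S4208.result (P := Q) hn hri
  have h2 : Q.normalizerMonoidHom ⟨g, hg⟩ = 1 := by
    by_contra hne
    have h3 : orderOf (Q.normalizerMonoidHom ⟨g, hg⟩) ≠ 1 := by rwa [Ne, orderOf_eq_one_iff]
    obtain ⟨q, hq, hqo⟩ := Nat.exists_prime_and_dvd h3
    have h4 : q ∣ orderOf g := by
      have := orderOf_map_dvd Q.normalizerMonoidHom (⟨g, hg⟩ : normalizer (Q : Set G))
      rw [Subgroup.orderOf_mk] at this
      exact hqo.trans this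
    have h5 : q ≠ p := by
      rintro rfl
      exact hq.one_lt.ne' (Nat.Coprime.eq_one_of_dvd hgo.symm h4)
    have h6 : q ∣ Nat.card G := h4.trans (orderOf_dvd_natCard g)
    have h7 := (hqo.trans (orderOf_dvd_natCard _)).trans h1
    rcases (Nat.Prime.dvd_mul hq).1 h7 with h8 | h8
    · exact h5 ((Nat.prime_dvd_prime_iff_eq hq hp.1).1 (hq.dvd_of_dvd_pow h8))
    · rw [Prime.dvd_finset_prod_iff hq.prime] at h8
      obtain ⟨i, hi, h9⟩ := h8
      rw [Finset.mem_range] at hi
      have h10 : p ^ r - p ^ i = p ^ i * (p ^ (r - i) - 1) := by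
        rw [Nat.mul_sub, mul_one, ← pow_add]
        congr 2
        omega
      rw [h10] at h9
      rcases (Nat.Prime.dvd_mul hq).1 h9 with h11 | h11
      · exact h5 ((Nat.prime_dvd_prime_iff_eq hq hp.1).1 (hq.dvd_of_dvd_pow h11))
      · have h12 : q ∣ ∏ i ∈ Finset.Icc 1 d, (p ^ i - 1) := by
          refine h11.trans (Finset.dvd_prod_of_mem (fun i => p ^ i - 1) ?_)
          rw [Finset.mem_Icc]
          omega
        exact hq.one_lt.ne' (Nat.eq_one_of_dvd_coprimes hcop h6 h12)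
  have h3 : (⟨g, hg⟩ : normalizer (Q : Set G)) ∈ Q.normalizerMonoidHom.ker := h2
  rw [Subgroup.normalizerMonoidHom_ker] at h3
  exact h3

theorem normalPComplement_of_rank [Finite G] {p : ℕ} [hp : Fact p.Prime] (P : Sylow p G)
    (hab : IsMulCommutative (P : Subgroup G)) {d : ℕ} (hd : Group.rank (P : Subgroup G) ≤ d)
    (hcop : Nat.Coprime (Nat.card G) (∏ i ∈ Finset.Icc 1 d, (p ^ i - 1))) : HasNormalPComplement p G := by
  have hle : normalizer ((P : Subgroup G) : Set G) ≤ centralizer ((P : Subgroup G) : Set G) := by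
    intro g hg
    obtain ⟨a, b, ⟨k, ha⟩, hb, hab'⟩ := Cfsg.Agent.Lib.CycNorm.exists_parts p hp.1 g
    rw [hab']
    refine mul_mem ?_ ?_
    · have h1 : IsPGroup p (zpowers (g ^ a)) := IsPGroup.of_card (n := k) (by rw [Nat.card_zpowers, ha])
      have h2 : zpowers (g ^ a) ≤ normalizer ((P : Subgroup G) : Set G) := by
        rw [zpowers_le]; exact pow_mem hg a
      have h3 : zpowers (g ^ a) ≤ (P : Subgroup G) := by
        have h4 : IsPGroup p ↥((P : Subgroup G) ⊔ zpowers (g ^ a)) := IsPGroup.to_sup_of_normal_left' P.2 h1 h2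
        have h5 := P.3 h4 le_sup_left
        exact le_sup_right.trans h5.le
      have h4 : g ^ a ∈ (P : Subgroup G) := h3 (mem_zpowers _)
      rw [mem_centralizer_iff]
      intro x hx
      have := hab.is_comm.comm ⟨x, hx⟩ ⟨g ^ a, h4⟩
      exact congrArg Subtype.val this
    · exact mem_centralizer P.2 hd hcop (pow_mem hg b) hb
  exact ⟨P, _, inferInstance, MonoidHom.ker_transferSylow_isComplement' P hle⟩

end Cfsg.Agent.Lib.RankComp
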