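import Cfsg.Agent.Lib.RankComp

set_option autoImplicit false

/-!
* solvability when the Sylow subgroups for all but the largest prime are abelian with two generators
* groups with a Sylow `2`-subgroup with a cyclic subgroup of index two
-/

namespace Cfsg.Agent.Lib.RankComp2

open Subgroup Cfsg

universe u

theorem card_mul_relIndex' {G : Type u} [Group G] {H K : Subgroup G} (h : H ≤ K) :
    Nat.card H * H.relIndex K = Nat.card K := by
  have h1 := (H.subgroupOf K).card_mul_index
  rwa [Nat.card_congr (Subgroup.subgroupOfEquivOfLe h).toEquiv] at h1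

theorem rank_le_two_of_cyclic_index_two {G : Type u} [Group G] [Finite G] {P Q : Subgroup G} {x : G}
    (hx : zpowers x ≤ P) (hxP : (zpowers x).relIndex P ≤ 2) (hQ : Q ≤ P) : Group.rank Q ≤ 2 := by
  classical
  obtain ⟨c, hc⟩ : ∃ c : G, zpowers c = zpowers x ⊓ Q := by
    have h1 : IsCyclic (zpowers x ⊓ Q : Subgroup G) :=
      isCyclic_of_injective (Subgroup.inclusion (inf_le_left : zpowers x ⊓ Q ≤ zpowers x))
        (Subgroup.inclusion_injective _)
    obtain ⟨c, hc⟩ := Subgroup.isCyclic_iff_exists_zpowers_eq_top _ |>.1 h1
    exact ⟨c, hc⟩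
  have hcQ : zpowers c ≤ Q := by rw [hc]; exact inf_le_right
  have hrel : (zpowers c).relIndex Q ≤ 2 := by
    rw [hc, Subgroup.inf_relIndex_right]
    have h1 : (zpowers x).relIndex P ≠ 0 := by
      rw [Subgroup.relIndex]; exact Subgroup.index_ne_zero_of_finite
    exact (Subgroup.relIndex_le_of_le_right hQ h1).trans hxP
  by_cases hQc : Q ≤ zpowers c
  · have h1 : Q = closure (({c} : Finset G) : Set G) := by
      rw [Finset.coe_singleton, ← zpowers_eq_closure]
      exact le_antisymm hQc hcQ
    rw [Subgroup.rank_congr h1]
    refine (Subgroup.rank_closure_finset_le_card _).trans ?_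
    simp
  · obtain ⟨y, hyQ, hyc⟩ := SetLike.not_le_iff_exists.1 hQc
    have h1 : Q = closure (({c, y} : Finset G) : Set G) := by
      rw [Finset.coe_pair]
      symm
      have hle : closure ({c, y} : Set G) ≤ Q := by
        rw [closure_le]
        rintro z (rfl | rfl)
        · exact hcQ (mem_zpowers _)
        · exact hyQ
      have hcle : zpowers c ≤ closure ({c, y} : Set G) := by
        rw [zpowers_le]; exact subset_closure (by simp)
      have h2 : Nat.card (zpowers c) * (zpowers c).relIndex Q = Nat.card Q :=
        card_mul_relIndex' hcQ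
      have h3 : Nat.card (zpowers c) ∣ Nat.card (closure ({c, y} : Set G)) := Subgroup.card_dvd_of_le hcle
      obtain ⟨k, hk⟩ := h3
      have hk2 : 2 ≤ k := by
        by_contra hcon
        have hpos : 0 < Nat.card (closure ({c, y} : Set G)) := Nat.card_pos
        have hk1 : k = 1 := by
          rcases Nat.eq_zero_or_pos k with h0 | h0
          · rw [h0] at hk; omega
          · omega
        rw [hk1, mul_one] at hk
        have h4 := Subgroup.eq_of_le_of_card_ge hcle hk.le
        apply hyc
        rw [h4]; exact subset_closure (by simp)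
      refine Subgroup.eq_of_le_of_card_ge hle ?_
      rw [hk, ← h2]
      exact Nat.mul_le_mul_left _ (hrel.trans hk2)
    rw [Subgroup.rank_congr h1]
    refine (Subgroup.rank_closure_finset_le_card _).trans ?_
    exact Finset.card_le_two

theorem exists_normal_of_cyclic_index_two {G : Type u} [Group G] [Finite G] (a n : ℕ)
    (hG : Nat.card G = 2 ^ a * n) (hn : Odd n) (h3 : ¬ 3 ∣ n) (hx : ∃ x : G, orderOf x = 2 ^ (a - 1)) :
    ∃ N : Subgroup G, N.Normal ∧ Nat.card N = n := by
  obtain ⟨x, hx⟩ := hx
  rcases Nat.eq_zero_or_pos a with ha | ha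
  · subst ha
    exact ⟨⊤, inferInstance, by rw [Subgroup.card_top, hG]; simp⟩
  have : Fact (Nat.Prime 2) := ⟨Nat.prime_two⟩
  have hxp : IsPGroup 2 (zpowers x) := IsPGroup.of_card (n := a - 1) (by rw [Nat.card_zpowers, hx])
  obtain ⟨P, hP⟩ := hxp.exists_le_sylow
  have hPcard : Nat.card (P : Subgroup G) = 2 ^ a := by
    rw [Sylow.card_eq_multiplicity, hG]
    congr 1
    have hn0 : n ≠ 0 := by rintro rfl; simp at hn
    rw [Nat.factorization_mul (by positivity) hn0, Finsupp.add_apply, Nat.factorization_pow, Finsupp.smul_apply,
      Nat.Prime.factorization_self Nat.prime_two, Nat.factorization_eq_zero_of_not_dvd (by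
        intro h; exact (Nat.not_even_iff_odd.2 hn) (even_iff_two_dvd.2 h))]
    simp
  have hrel : (zpowers x).relIndex (P : Subgroup G) ≤ 2 := by
    have h1 := card_mul_relIndex' hP
    rw [Nat.card_zpowers, hx, hPcard, mul_comm] at h1
    have h2 : 2 ^ a = 2 * 2 ^ (a - 1) := by
      rw [← pow_succ']; congr 1; omega
    rw [h2] at h1
    exact (Nat.eq_of_mul_eq_mul_right (by positivity) h1).le
  have hcop : Nat.Coprime (Nat.card G) (∏ i ∈ Finset.Icc 1 2, (2 ^ i - 1)) := by
    have h1 : (∏ i ∈ Finset.Icc 1 2, (2 ^ i - 1)) = 3 := by decide
    rw [h1, Nat.coprime_comm, Nat.Prime.coprime_iff_not_dvd Nat.prime_three, hG]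
    intro hd
    rcases (Nat.Prime.dvd_mul Nat.prime_three).1 hd with h2 | h2
    · have := Nat.prime_three.dvd_of_dvd_pow h2
      omega
    · exact h3 h2
  have hc : HasNormalPComplement 2 G := by
    rw [Cfsg.Agent.Lib.Transfer.hasNormalPComplement_iff_le_sylow P]
    intro Q hQ g hg hgo
    exact RankComp.mem_centralizer (P.2.to_le hQ) (rank_le_two_of_cyclic_index_two hP hrel hQ) hcop hg hgo
  rw [Cfsg.Agent.Lib.PNilp.hasNormalPComplement_iff_sylow P] at hc
  obtain ⟨N, hN, hc⟩ := hc
  refine ⟨N, hN, ?_⟩
  have h1 := hc.card_mul
  rw [hPcard, hG, mul_comm] at h1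
  exact Nat.eq_of_mul_eq_mul_left (by positivity) h1

theorem isSolvable_of_rank : ∀ (m : ℕ) (G : Type u) [Group G] [Finite G], Nat.card G = m →
    (∀ p : ℕ, p.Prime → p ∣ Nat.card G → (∃ q : ℕ, q.Prime ∧ q ∣ Nat.card G ∧ p < q) →
      ∀ P : Sylow p G, IsMulCommutative (P : Subgroup G) ∧ Group.rank (P : Subgroup G) ≤ 2) →
    ¬ 12 ∣ Nat.card G → Group.IsSolvable G := by
  intro m
  induction m using Nat.strong_induction_on with
  | _ m ih =>
    intro G _ _ hm h h12
    by_cases h1 : Nat.card G = 1
    · have : Subsingleton G := (Nat.card_eq_one_iff_unique.1 h1).1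
      infer_instance
    set p := (Nat.card G).minFac with hpdef
    have hp : p.Prime := Nat.minFac_prime h1
    have hpG : p ∣ Nat.card G := Nat.minFac_dvd _
    have := Fact.mk hp
    have hmin : ∀ q : ℕ, q.Prime → q ∣ Nat.card G → p ≤ q := fun q hq hqG =>
      Nat.minFac_le_of_dvd hq.two_le hqG
    by_cases hq : ∃ q : ℕ, q.Prime ∧ q ∣ Nat.card G ∧ p < q
    · obtain ⟨P⟩ : Nonempty (Sylow p G) := inferInstance
      obtain ⟨hab, hrk⟩ := h p hp hpG hq P
      have hcomp : HasNormalPComplement p G := by
        by_cases h6 : p = 2 ∧ 3 ∣ Nat.card G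
        · -- `|P| = 2`
          obtain ⟨hp2, h3⟩ := h6
          have hPc : Nat.card (P : Subgroup G) = 2 := by
            rw [Sylow.card_eq_multiplicity]
            have h7 : ¬ p ^ 2 ∣ Nat.card G := by
              rw [hp2]
              intro h4
              apply h12
              have : Nat.Coprime (2 ^ 2) 3 := by decide
              exact this.mul_dvd_of_dvd_of_dvd h4 h3
            have h8 : (Nat.card G).factorization p = 1 := by
              have h9 : (Nat.card G).factorization p < 2 := by
                by_contra hcon
                apply h7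
                exact (hp.pow_dvd_iff_le_factorization Nat.card_pos.ne').2 (by omega)
              have h10 : 0 < (Nat.card G).factorization p := hp.factorization_pos_of_dvd Nat.card_pos.ne' hpG
              omega
            rw [h8, pow_one, hp2]
          have hcyc : IsCyclic (P : Subgroup G) := isCyclic_of_prime_card (p := 2) hPc
          have hrk1 : Group.rank (P : Subgroup G) ≤ 1 := by
            obtain ⟨g, hg⟩ := Subgroup.isCyclic_iff_exists_zpowers_eq_top _ |>.1 hcyc
            have h9 : (P : Subgroup G) = closure (({g} : Finset G) : Set G) := by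
              rw [Finset.coe_singleton, ← zpowers_eq_closure, hg]
            rw [Subgroup.rank_congr h9]
            refine (Subgroup.rank_closure_finset_le_card _).trans ?_
            simp
          refine RankComp.normalPComplement_of_rank P hab hrk1 ?_
          rw [hp2]
          simp
        · refine RankComp.normalPComplement_of_rank P hab hrk ?_
          rw [Nat.coprime_iff_gcd_eq_one]
          by_contra hne
          obtain ⟨q, hq, hqd⟩ := Nat.exists_prime_and_dvd hne
          have hqG : q ∣ Nat.card G := hqd.trans (Nat.gcd_dvd_left _ _)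
          have hqp : q ∣ ∏ i ∈ Finset.Icc 1 2, (p ^ i - 1) := hqd.trans (Nat.gcd_dvd_right _ _)
          have h7 : ∏ i ∈ Finset.Icc 1 2, (p ^ i - 1) = (p - 1) * ((p + 1) * (p - 1)) := by
            have h8 : Finset.Icc 1 2 = ({1, 2} : Finset ℕ) := by decide
            rw [h8, Finset.prod_pair (by norm_num), pow_one]
            congr 1
            have := Nat.sq_sub_sq p 1
            rwa [one_pow] at this
          rw [h7] at hqp
          have hle := hmin q hq hqG
          have hp1 : 0 < p - 1 := by have := hp.two_le; omega
          have key : ¬ q ∣ p - 1 := by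
            intro hd
            have := Nat.le_of_dvd hp1 hd
            omega
          rcases (Nat.Prime.dvd_mul hq).1 hqp with h8 | h8
          · exact key h8
          rcases (Nat.Prime.dvd_mul hq).1 h8 with h8 | h8
          · -- `q ∣ p + 1`
            have h9 : q ≤ p + 1 := Nat.le_of_dvd (by omega) h8
            have h10 : q = p ∨ q = p + 1 := by omega
            rcases h10 with h10 | h10
            · rw [h10] at h8
              have : p ∣ 1 := (Nat.dvd_add_right dvd_rfl).1 h8
              exact hp.one_lt.ne' (Nat.dvd_one.1 this)
            · apply h6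
              rcases hp.eq_two_or_odd' with h11 | h11
              · refine ⟨h11, ?_⟩
                rw [h10, h11] at hqG
                exact hqG
              · exfalso
                have h12' : Even q := by rw [h10]; exact h11.add_one
                have h13 : q = 2 := (hq.even_iff).1 h12'
                have := hp.two_le
                omega
          · exact key h8
      rw [Cfsg.Agent.Lib.PNilp.hasNormalPComplement_iff_sylow P] at hcomp
      obtain ⟨N, hN, hc⟩ := hcomp
      have hcard := hc.card_mul
      obtain ⟨k, hk⟩ := IsPGroup.iff_card.1 P.2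
      have hPdvd : p ∣ Nat.card (P : Subgroup G) := P.dvd_card_of_dvd_card hpG
      have hNp : ¬ p ∣ Nat.card N := by
        intro hd
        have h7 := P.not_dvd_index
        apply h7
        have h8 := (P : Subgroup G).card_mul_index
        rw [← hcard, mul_comm (Nat.card N)] at h8
        have h9 := Nat.eq_of_mul_eq_mul_left Nat.card_pos h8
        rw [h9]; exact hd
      have hNG : Nat.card N ∣ Nat.card G := Subgroup.card_subgroup_dvd_card N
      have hNsol : Group.IsSolvable N := by
        refine ih (Nat.card N) ?_ N rfl ?_ ?_
        · rw [← hm, ← hcard]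
          have h7 : 1 < Nat.card (P : Subgroup G) := by
            have h8 := Nat.le_of_dvd Nat.card_pos hPdvd
            have := hp.one_lt
            omega
          have h8 : 0 < Nat.card N := Nat.card_pos
          nlinarith
        · intro r hr hrN hrq R
          have := Fact.mk hr
          have hrp : r ≠ p := by rintro rfl; exact hNp hrN
          have hRc : Nat.card (((R : Subgroup N).map N.subtype : Subgroup G)) = r ^ (Nat.card G).factorization r := by
            rw [Subgroup.card_map_of_injective N.subtype_injective, Sylow.card_eq_multiplicity, ← hcard,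
              Nat.factorization_mul Nat.card_pos.ne' Nat.card_pos.ne', Finsupp.add_apply]
            have h7 : (Nat.card (P : Subgroup G)).factorization r = 0 := by
              apply Nat.factorization_eq_zero_of_not_dvd
              rw [hk]
              intro hd
              exact hrp ((Nat.prime_dvd_prime_iff_eq hr hp).1 (hr.dvd_of_dvd_pow hd))
            rw [h7, add_zero]
          have h7 := h r hr (hrN.trans hNG) (by
            obtain ⟨q, hq, hqN, hrq⟩ := hrq
            exact ⟨q, hq, hqN.trans hNG, hrq⟩) (Sylow.ofCard _ hRc)
          have h8 : ((Sylow.ofCard _ hRc : Sylow r G) : Subgroup G) = (R : Subgroup N).map N.subtype := rfl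
          rw [h8] at h7
          have e := (R : Subgroup N).equivMapOfInjective N.subtype N.subtype_injective
          refine ⟨⟨⟨fun a b => e.injective ?_⟩⟩, ?_⟩
          · rw [map_mul, map_mul]
            exact h7.1.is_comm.comm _ _
          · rw [Group.rank_congr e]
            exact h7.2
        · intro hd
          exact h12 (hd.trans hNG)
      have hQsol : Group.IsSolvable (G ⧸ N) := by
        have h7 : Nat.card (G ⧸ N) = p ^ k := by
          have h8 := N.card_mul_index
          rw [← hcard] at h8
          have h9 := Nat.eq_of_mul_eq_mul_left Nat.card_pos h8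
          rw [Subgroup.index] at h9
          rw [h9, hk]
        have h8 : IsPGroup p (G ⧸ N) := IsPGroup.of_card h7
        have := h8.isNilpotent
        infer_instance
      exact (Group.isSolvable_iff_subgroup_quotient N).2 ⟨hNsol, hQsol⟩
    · -- `p`-group
      push Not at hq
      have h7 : Nat.card G = p ^ (Nat.card G).primeFactorsList.length := by
        refine Nat.eq_prime_pow_of_unique_prime_dvd Nat.card_pos.ne' ?_
        intro q hq' hqG
        exact le_antisymm (hq q hq' hqG) (hmin q hq' hqG)
      have h8 : IsPGroup p G := IsPGroup.of_card h7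
      have := h8.isNilpotent
      infer_instance

end Cfsg.Agent.Lib.RankComp2
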