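import Cfsg.Agent.Lib.RankTwoHeis
import Cfsg.Agent.Lib.PGroupRank

/-! A `p`-group `X` whose elements of order `p ≥ 5` form a nonabelian group `O` of order `p³`: an automorphism acting on
`O / Z(O)` with eigenvalues `2, 1/2` cannot act as the fourth power on a factor group of order `p` containing `O`
(under the conditions given by essential subgroups). -/

set_option autoImplicit false

namespace Cfsg.Agent.Lib.RankTwoCaseA

open Cfsg Subgroup
open Cfsg.Agent.Lib.RankTwoHeis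

variable {X : Type*} [Group X] {p : ℕ}

/-- a commutator -/
def cm (x y : X) : X := x⁻¹ * (y * x * y⁻¹)

theorem cm_mul_left {x x' y : X} (h : cm x y * x' = x' * cm x y) : cm (x * x') y = cm x y * cm x' y := by
  have h1 : cm (x * x') y = x'⁻¹ * (cm x y) * (y * x' * y⁻¹) := by unfold cm; group
  have h2 : x'⁻¹ * (cm x y) = cm x y * x'⁻¹ := by
    rw [inv_mul_eq_iff_eq_mul, ← mul_assoc, ← h, mul_inv_cancel_right]
  rw [h1, h2]; unfold cm; group

theorem cm_mul_right {x y y' : X} (h : cm x y' * y = y * cm x y') : cm x (y * y') = cm x y * cm x y' := by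
  have h1 : cm x (y * y') = cm x y * (y * cm x y' * y⁻¹) := by unfold cm; group
  rw [h1, ← h, mul_inv_cancel_right]

theorem cm_one_left (y : X) : cm 1 y = 1 := by unfold cm; group

theorem cm_one_right (x : X) : cm x 1 = 1 := by unfold cm; group

theorem cm_eq_one {x y : X} (h : x * y = y * x) : cm x y = 1 := by
  unfold cm; rw [← h]; group

theorem comm_of_cm {x y : X} (h : cm x y = 1) : x * y = y * x := by
  unfold cm at h
  rw [inv_mul_eq_one, eq_mul_inv_iff_mul_eq] at h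
  exact h

theorem cm_pow_left {x y : X} (h : cm x y * x = x * cm x y) (n : ℕ) : cm (x ^ n) y = cm x y ^ n := by
  induction n with
  | zero => rw [pow_zero, pow_zero, cm_one_left]
  | succ n ih =>
    rw [pow_succ', pow_succ', cm_mul_left, ih]
    exact ((show Commute (cm x y) x from h).pow_right n)

theorem cm_pow_right {x y : X} (h : cm x y * y = y * cm x y) (n : ℕ) : cm x (y ^ n) = cm x y ^ n := by
  induction n with
  | zero => rw [pow_zero, pow_zero, cm_one_right]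
  | succ n ih =>
    rw [pow_succ', pow_succ', cm_mul_right, ih]
    rw [ih]
    exact ((show Commute (cm x y) y from h).pow_left n)

variable {O E : Subgroup X}

theorem eq_one_of_pow_eq_one {Y : Type*} [Group Y] {y : Y} {p n : ℕ} (hp : p.Prime) (hn : ¬ p ∣ n) (h1 : y ^ p = 1)
    (h2 : y ^ n = 1) : y = 1 := by
  have h3 := Nat.dvd_gcd (orderOf_dvd_of_pow_eq_one h1) (orderOf_dvd_of_pow_eq_one h2)
  have h4 : Nat.gcd p n = 1 := (Nat.Prime.coprime_iff_not_dvd hp).2 hn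
  rw [h4] at h3
  exact orderOf_eq_one_iff.1 (Nat.dvd_one.1 h3)

theorem pow_eq_of_modEq {Y : Type*} [Group Y] {y : Y} {p m n : ℕ} (h1 : y ^ p = 1) (h : m ≡ n [MOD p]) : y ^ m = y ^ n := by
  rw [pow_eq_pow_iff_modEq]
  exact Nat.ModEq.of_dvd (orderOf_dvd_of_pow_eq_one h1) h

theorem core [Finite X] [hp : Fact p.Prime] (hp5 : 5 ≤ p) (hX : IsPGroup p X) (hO : Heis p O)
    (hmem : ∀ x : X, x ∈ O ↔ x ^ p = 1) (hZc : ∀ z ∈ ZO O, ∀ x : X, x * z = z * x) (hOE : O ≤ E) (hEn : E.Normal)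
    (hcyc : ∀ x : X, x ∉ E → ∀ y : X, ∃ n : ℕ, (x ^ n)⁻¹ * y ∈ E) (hpE : ∀ x : X, x ^ p ∈ E) (hne : ∃ x : X, x ∉ E)
    (hEO : ∀ g ∈ E, ∀ x ∈ O, x⁻¹ * (g * x * g⁻¹) ∈ ZO O) {a b : X} (ha : a ∈ O) (hb : b ∈ O)
    (haX : ∀ g : X, a⁻¹ * (g * a * g⁻¹) ∈ ZO O) (hgen : ∀ x ∈ O, ∃ i j : ℕ, (a ^ i * b ^ j)⁻¹ * x ∈ ZO O)
    {φ : MulAut X} (hφ4 : ∀ x : X, (x ^ 4)⁻¹ * φ x ∈ E) (hφa : (a ^ 2)⁻¹ * φ a ∈ ZO O) {ν' : ℕ}
    (hν : 2 * ν' ≡ 1 [MOD p]) (hφb : (b ^ ν')⁻¹ * φ b ∈ ZO O) : False := by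
  have hp2 : p ≠ 2 := by omega
  have hZO : ZO O ≤ O := inf_le_left
  have hd4 : ¬ p ∣ 4 := fun h => by have := Nat.le_of_dvd (by norm_num) h; omega
  have hd3 : ¬ p ∣ 3 := fun h => by have := Nat.le_of_dvd (by norm_num) h; omega
  have hd6 : ¬ p ∣ 6 := fun h => by
    have h1 : p ∣ 2 * 3 := h
    rcases hp.out.dvd_mul.1 h1 with h1 | h1
    · have := Nat.le_of_dvd (by norm_num) h1; omega
    · exact hd3 h1
  have hap := (hmem a).1 ha
  have hbp := (hmem b).1 hb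
  -- the commutator of a and b
  set z0 := cm a b with hz0
  have hz0Z : z0 ∈ ZO O := hO.comm_mem ha hb
  have hz0p : z0 ^ p = 1 := hO.ZO_pow hz0Z
  have hz01 : z0 ≠ 1 := by
    intro hh
    have hab : Commute a b := comm_of_cm hh
    obtain ⟨x, hx, y, hy, hxy⟩ := hO.na
    apply hxy
    obtain ⟨i, j, h1⟩ := hgen x hx
    obtain ⟨k, l, h2⟩ := hgen y hy
    have e1 : x = (a ^ i * b ^ j) * ((a ^ i * b ^ j)⁻¹ * x) := by group
    have e2 : y = (a ^ k * b ^ l) * ((a ^ k * b ^ l)⁻¹ * y) := by group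
    have c1 : ∀ w : X, Commute w ((a ^ i * b ^ j)⁻¹ * x) := fun w => hZc _ h1 w
    have c2 : ∀ w : X, Commute w ((a ^ k * b ^ l)⁻¹ * y) := fun w => hZc _ h2 w
    have c3 : Commute (a ^ i * b ^ j) (a ^ k * b ^ l) := by
      have ca : Commute a (a ^ k * b ^ l) := ((Commute.refl a).pow_right k).mul_right (hab.pow_right l)
      have cb : Commute b (a ^ k * b ^ l) := (hab.symm.pow_right k).mul_right ((Commute.refl b).pow_right l)
      exact (ca.pow_left i).mul_left (cb.pow_left j)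
    rw [e1, e2]
    exact ((c3.mul_right (c2 _)).mul_left ((c1 _).symm))
  have haZ : a ∉ ZO O := fun hh => hz01 (cm_eq_one (hZc a hh b).symm)
  -- φ fixes z0
  have hφz0 : φ z0 = z0 := by
    have e1 : φ a = a ^ 2 * ((a ^ 2)⁻¹ * φ a) := by group
    have e2 : φ b = b ^ ν' * ((b ^ ν')⁻¹ * φ b) := by group
    have h1 : φ z0 = cm (φ a) (φ b) := by rw [hz0]; unfold cm; simp only [map_mul, map_inv]
    have hz1 : ∀ m ∈ ZO O, ∀ y : X, cm m y = 1 := fun m hm y => cm_eq_one (hZc m hm y).symm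
    have hz2 : ∀ m ∈ ZO O, ∀ y : X, cm y m = 1 := fun m hm y => cm_eq_one (hZc m hm y)
    have hca : z0 * a = a * z0 := (hZc z0 hz0Z a).symm
    have hcb : z0 * b = b * z0 := (hZc z0 hz0Z b).symm
    rw [h1, e1, e2, cm_mul_left, hz1 _ hφa, mul_one, cm_mul_right, hz2 _ hφb, mul_one]
    · have h2 : cm (a ^ 2) b = z0 ^ 2 := cm_pow_left hca 2
      have h3 : cm (a ^ 2) (b ^ ν') = (cm (a ^ 2) b) ^ ν' := by
        apply cm_pow_right
        rw [h2]; exact (show Commute z0 b from hcb).pow_left 2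
      rw [h3, h2, ← pow_mul]
      have := pow_eq_of_modEq hz0p hν
      rw [this, pow_one]
    · rw [hz2 _ hφb, one_mul, mul_one]
    · exact (hZc _ hφa _).symm.symm
  have hφZ : ∀ z ∈ ZO O, φ z = z := by
    intro z hz
    obtain ⟨n, rfl⟩ := hO.zpow_of hz0Z hz01 hz
    rw [map_pow, hφz0]
  -- the quotient maps
  have hπ : ∃ (Q : Type _) (_ : Group Q) (π : X →* Q), ∀ x : X, π x = 1 ↔ x ∈ E :=
    ⟨X ⧸ E, inferInstance, QuotientGroup.mk' E, fun x => QuotientGroup.eq_one_iff x⟩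
  obtain ⟨Q, _, π, hπ⟩ := hπ
  have hπp : ∀ x : X, π x ^ p = 1 := fun x => by rw [← map_pow, hπ]; exact hpE x
  have hπφ : ∀ x : X, π (φ x) = π x ^ 4 := by
    intro x
    have h1 := (hπ _).2 (hφ4 x)
    rw [map_mul, map_inv, inv_mul_eq_one, map_pow] at h1
    exact h1.symm
  -- the p'-part of φ
  obtain ⟨k, m, hm, hk⟩ := Nat.exists_eq_pow_mul_and_not_dvd (orderOf_pos φ).ne' p hp.out.ne_one
  set θ := φ ^ p ^ k with hθ
  have hθm : θ ^ m = 1 := by rw [hθ, ← pow_mul, ← hk, pow_orderOf_eq_one]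
  have hfer : ∀ c : ℕ, c ^ p ^ k ≡ c [MOD p] := by
    intro c
    rw [← ZMod.natCast_eq_natCast_iff, Nat.cast_pow, ZMod.pow_card_pow]
  have hθZ : ∀ z ∈ ZO O, θ z = z := by
    have : ∀ n : ℕ, ∀ z ∈ ZO O, (φ ^ n) z = z := by
      intro n z hz
      induction n with
      | zero => rfl
      | succ n ih => rw [pow_succ', MulAut.mul_apply, ih, hφZ z hz]
    exact this _
  have hπθ : ∀ x : X, π (θ x) = π x ^ 4 := by
    have : ∀ n : ℕ, ∀ x : X, π ((φ ^ n) x) = π x ^ (4 ^ n) := by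
      intro n x
      induction n with
      | zero => rw [pow_zero, MulAut.one_apply, pow_zero, pow_one]
      | succ n ih => rw [pow_succ', MulAut.mul_apply, hπφ, ih, ← pow_mul, pow_succ]
    intro x
    rw [hθ, this]
    exact pow_eq_of_modEq (hπp x) (hfer 4)
  obtain ⟨z1, hz1, hθa⟩ : ∃ z1 ∈ ZO O, θ a = a ^ 2 * z1 := by
    have : ∀ n : ℕ, ∃ z ∈ ZO O, (φ ^ n) a = a ^ (2 ^ n) * z := by
      intro n
      induction n with
      | zero => exact ⟨1, one_mem _, by rw [pow_zero, MulAut.one_apply, pow_zero, pow_one, mul_one]⟩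
      | succ n ih =>
        obtain ⟨z, hz, h1⟩ := ih
        obtain ⟨z', hz', h2⟩ : ∃ z' ∈ ZO O, φ a = a ^ 2 * z' := ⟨_, hφa, by group⟩
        refine ⟨z' ^ 2 ^ n * z, mul_mem (pow_mem hz' _) hz, ?_⟩
        rw [pow_succ', MulAut.mul_apply, h1, map_mul, map_pow, hφZ z hz, h2,
          (show Commute (a ^ 2) z' from hZc z' hz' _).mul_pow, ← pow_mul, pow_succ' 2 n, mul_assoc]
    obtain ⟨z, hz, h1⟩ := this (p ^ k)
    refine ⟨z, hz, ?_⟩
    rw [hθ, h1, pow_eq_of_modEq hap (hfer 2)]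
  -- invariance
  have hθE : ∀ x : X, θ x ∈ E ↔ x ∈ E := by
    intro x
    rw [← hπ, ← hπ, hπθ]
    exact ⟨fun h => eq_one_of_pow_eq_one hp.out hd4 (hπp x) h, fun h => by rw [h, one_pow]⟩
  have hθO : ∀ x : X, θ x ∈ O ↔ x ∈ O := by
    intro x
    rw [hmem, hmem, ← map_pow, map_eq_one_iff _ θ.injective]
  let Y : Subgroup X := E ⊓ centralizer (O : Set X)
  have hYmem : ∀ y : X, y ∈ Y ↔ y ∈ E ∧ ∀ x ∈ O, x * y = y * x := by
    intro y
    show y ∈ E ⊓ centralizer (O : Set X) ↔ _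
    rw [mem_inf, mem_centralizer_iff]; rfl
  have hθY : ∀ y : X, θ y ∈ Y ↔ y ∈ Y := by
    intro y
    rw [hYmem, hYmem, hθE]
    refine and_congr_right fun _ => ⟨fun h x hx => ?_, fun h x hx => ?_⟩
    · have h1 := h (θ x) ((hθO x).2 hx)
      rw [← map_mul, ← map_mul] at h1
      exact θ.injective h1
    · obtain ⟨x, rfl⟩ := θ.surjective x
      rw [← map_mul, ← map_mul, h x ((hθO x).1 hx)]
  have hZY : ZO O ≤ Y := fun z hz => (hYmem z).2 ⟨hOE (hZO hz), fun x _ => hZc z hz x⟩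
  have hY1 : ∀ y ∈ Y, y ^ p = 1 → y ∈ ZO O := fun y hy h1 =>
    mem_ZO.2 ⟨(hmem y).2 h1, fun x hx => ((hYmem y).1 hy).2 x hx⟩
  have hYcyc : IsCyclic Y := by
    refine Cfsg.Agent.Lib.PGroupRank.isCyclic_of_pRankLE_one hp2 (hX.to_subgroup Y) fun A _ hA => ?_
    have h1 : A.map Y.subtype ≤ ZO O := by
      rintro _ ⟨y, hy, rfl⟩
      exact hY1 y y.2 (congrArg Subtype.val (hA y hy))
    have h2 : Nat.card (A.map Y.subtype) = Nat.card A := by
      rw [Nat.card_congr (A.equivMapOfInjective _ Y.subtype_injective).symm.toEquiv]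
    rw [← h2, pow_one, ← hO.card_ZO]
    exact Nat.card_le_card_of_injective _ (inclusion_injective h1)
  have hYcomm : ∀ x ∈ Y, ∀ y ∈ Y, x * y = y * x := by
    intro x hx y hy
    have h1 : (⟨x, hx⟩ : Y) * ⟨y, hy⟩ = ⟨y, hy⟩ * ⟨x, hx⟩ := by
      letI := hYcyc.commGroup
      exact mul_comm _ _
    exact congrArg Subtype.val h1
  -- θ is trivial on Y
  have hθY1 : ∀ y ∈ Y, θ y = y := by
    let θY : MulAut Y :=
      { toFun := fun y => ⟨θ y, (hθY y).2 y.2⟩
        invFun := fun y => ⟨θ⁻¹ (y : X), (hθY _).1 (by rw [MulAut.apply_inv_self]; exact y.2)⟩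
        left_inv := fun y => Subtype.ext (MulAut.inv_apply_self _ θ y)
        right_inv := fun y => Subtype.ext (MulAut.apply_inv_self _ θ y)
        map_mul' := fun x y => Subtype.ext (map_mul θ _ _) }
    have h1 : ∀ (n : ℕ) (y : Y), (((θY ^ n) y : Y) : X) = (θ ^ n) y := by
      intro n y
      induction n with
      | zero => rfl
      | succ n ih => rw [pow_succ', pow_succ', MulAut.mul_apply, MulAut.mul_apply, ← ih]; rfl
    obtain ⟨j, hj⟩ := exists_pow_eq_one hp2 (hX.to_subgroup Y) (α := θY) (fun y hy => Subtype.ext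
      (hθZ y (hY1 y y.2 (congrArg Subtype.val hy))))
    have h2 : θY ^ m = 1 := by
      ext y
      rw [h1, hθm]; rfl
    have h3 : θY = 1 := by
      have h4 := Nat.dvd_gcd (orderOf_dvd_of_pow_eq_one hj) (orderOf_dvd_of_pow_eq_one h2)
      have h5 : Nat.gcd (p ^ j) m = 1 := Nat.Coprime.pow_left j ((Nat.Prime.coprime_iff_not_dvd hp.out).2 hm)
      rw [h5] at h4
      exact orderOf_eq_one_iff.1 (Nat.dvd_one.1 h4)
    intro y hy
    have h4 : θY ⟨y, hy⟩ = ⟨y, hy⟩ := by rw [h3]; rfl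
    exact congrArg Subtype.val h4
  -- E = O Y
  have hEOY : ∀ g ∈ E, ∃ o ∈ O, ∃ y ∈ Y, g = o * y := by
    intro g hg
    obtain ⟨j, hj⟩ := hO.zpow_of hz0Z hz01 (hEO g hg a ha)
    obtain ⟨i, hi⟩ := hO.zpow_of hz0Z hz01 (hEO g hg b hb)
    have hca : z0 * a = a * z0 := (hZc z0 hz0Z a).symm
    have hcb : z0 * b = b * z0 := (hZc z0 hz0Z b).symm
    have hba : cm b a = z0⁻¹ := by
      have e1 : cm b a = (a * (b⁻¹ * ((cm a b) * b)) * a⁻¹)⁻¹ := by unfold cm; group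
      have e2 : b⁻¹ * ((cm a b) * b) = z0 := by rw [← hz0, hcb, inv_mul_cancel_left]
      rw [e1, e2, ← hca, mul_inv_cancel_right]
    -- the element a^(i(p-1)) b^j
    have hco : ∀ w : X, cm w (a ^ (i * (p - 1)) * b ^ j) = cm w (a ^ (i * (p - 1))) * (a ^ (i * (p - 1)) * cm w (b ^ j) * (a ^ (i * (p - 1)))⁻¹) := by
      intro w; unfold cm; group
    have hinv : (z0⁻¹) ^ (i * (p - 1)) = z0 ^ i := by
      rw [inv_pow, inv_eq_iff_mul_eq_one, ← pow_add]
      have e1 : i * (p - 1) + i = p * i := by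
        have : p = (p - 1) + 1 := by omega
        calc i * (p - 1) + i = i * ((p - 1) + 1) := by ring
          _ = p * i := by rw [← this, mul_comm]
      rw [e1, pow_mul, hz0p, one_pow]
    have h1 : cm a (a ^ (i * (p - 1)) * b ^ j) = z0 ^ j := by
      rw [hco, cm_eq_one ((Commute.refl a).pow_right _), one_mul, cm_pow_right hcb]
      have : Commute (a ^ (i * (p - 1))) (z0 ^ j) := ((show Commute a z0 from hca.symm).pow_left _).pow_right _
      rw [← hz0, this.eq, mul_inv_cancel_right]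
    have h2 : cm b (a ^ (i * (p - 1)) * b ^ j) = z0 ^ i := by
      rw [hco, cm_eq_one ((Commute.refl b).pow_right _), mul_one, mul_inv_cancel, mul_one, cm_pow_right, hba, hinv]
      rw [hba]; exact (show Commute z0 a from hca).inv_left
    set o := a ^ (i * (p - 1)) * b ^ j with ho
    have hoO : o ∈ O := mul_mem (pow_mem ha _) (pow_mem hb _)
    -- o and g act in the same way on O
    have h3 : g * a * g⁻¹ = o * a * o⁻¹ := by
      have e1 : a⁻¹ * (g * a * g⁻¹) = a⁻¹ * (o * a * o⁻¹) := by rw [hj]; exact h1.symm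
      exact mul_left_cancel e1
    have h4 : g * b * g⁻¹ = o * b * o⁻¹ := by
      have e1 : b⁻¹ * (g * b * g⁻¹) = b⁻¹ * (o * b * o⁻¹) := by rw [hi]; exact h2.symm
      exact mul_left_cancel e1
    have h5 : Commute a (o⁻¹ * g) := by
      have : (o⁻¹ * g) * a * (o⁻¹ * g)⁻¹ = o⁻¹ * (g * a * g⁻¹) * o := by group
      rw [h3] at this
      have h6 : (o⁻¹ * g) * a * (o⁻¹ * g)⁻¹ = a := by rw [this]; group
      rw [mul_inv_eq_iff_eq_mul] at h6
      exact h6.symm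
    have h6 : Commute b (o⁻¹ * g) := by
      have : (o⁻¹ * g) * b * (o⁻¹ * g)⁻¹ = o⁻¹ * (g * b * g⁻¹) * o := by group
      rw [h4] at this
      have h6 : (o⁻¹ * g) * b * (o⁻¹ * g)⁻¹ = b := by rw [this]; group
      rw [mul_inv_eq_iff_eq_mul] at h6
      exact h6.symm
    refine ⟨o, hoO, o⁻¹ * g, (hYmem _).2 ⟨mul_mem (inv_mem (hOE hoO)) hg, fun x hx => ?_⟩, by group⟩
    obtain ⟨i', j', h7⟩ := hgen x hx
    have e1 : x = (a ^ i' * b ^ j') * ((a ^ i' * b ^ j')⁻¹ * x) := by group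
    have h8 : Commute (o⁻¹ * g) ((a ^ i' * b ^ j')⁻¹ * x) := hZc _ h7 _
    rw [e1]
    exact (((h5.pow_left i').mul_left (h6.pow_left j')).mul_left h8.symm)
  -- the element g
  obtain ⟨g, hgE, hga⟩ : ∃ g : X, g ∉ E ∧ a * g = g * a := by
    obtain ⟨h, hh⟩ := hne
    obtain ⟨j, hj⟩ := hO.zpow_of hz0Z hz01 (haX h)
    have hcb : z0 * b = b * z0 := (hZc z0 hz0Z b).symm
    refine ⟨h * b ^ (j * (p - 1)), fun hc => hh ?_, ?_⟩
    · have h1 := mul_mem hc (inv_mem (hOE (pow_mem hb (j * (p - 1)))))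
      rwa [mul_inv_cancel_right] at h1
    · apply comm_of_cm
      rw [cm_mul_right, cm_pow_right hcb]
      · have h1 : cm a h = z0 ^ j := hj
        rw [h1, ← hz0, ← pow_add]
        have e1 : j + j * (p - 1) = p * j := by
          have : p = 1 + (p - 1) := by omega
          calc j + j * (p - 1) = j * (1 + (p - 1)) := by ring
            _ = p * j := by rw [← this, mul_comm]
        rw [e1, pow_mul, hz0p, one_pow]
      · rw [cm_pow_right hcb]
        exact (hZc _ (pow_mem hz0Z _) h).symm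
  -- E centralizes Y
  have hEY : ∀ e ∈ E, ∀ y ∈ Y, e * y = y * e := by
    intro e he y hy
    obtain ⟨o, ho, y', hy', rfl⟩ := hEOY e he
    have c1 : Commute o y := ((hYmem y).1 hy).2 o ho
    have c2 : Commute y' y := hYcomm y' hy' y hy
    exact c1.mul_left c2
  have hYn : ∀ x : X, ∀ y ∈ Y, x * y * x⁻¹ ∈ Y := by
    intro x y hy
    rw [hYmem] at hy ⊢
    refine ⟨hEn.conj_mem y hy.1 x, fun w hw => ?_⟩
    have h1 : x⁻¹ * w * x ∈ O := by
      rw [hmem]
      have e1 : x⁻¹ * w * x = x⁻¹ * w * (x⁻¹)⁻¹ := by rw [inv_inv]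
      rw [e1, conj_pow, (hmem w).1 hw]; group
    have h2 := hy.2 _ h1
    calc w * (x * y * x⁻¹) = x * ((x⁻¹ * w * x) * y) * x⁻¹ := by group
      _ = x * (y * (x⁻¹ * w * x)) * x⁻¹ := by rw [h2]
      _ = x * y * x⁻¹ * w := by group
  have hgY : ∀ y ∈ Y, g * y = y * g := by
    intro y hy
    have h1 : θ (g * y * g⁻¹) = g * y * g⁻¹ := hθY1 _ (hYn g y hy)
    rw [map_mul, map_mul, map_inv, hθY1 y hy] at h1
    obtain ⟨e, he, h2⟩ : ∃ e ∈ E, θ g = g ^ 4 * e := by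
      refine ⟨(g ^ 4)⁻¹ * θ g, ?_, by group⟩
      rw [← hπ, map_mul, map_inv, map_pow, hπθ, inv_mul_cancel]
    have h3 : e * y = y * e := hEY e he y hy
    have h4 : θ g * y * (θ g)⁻¹ = g ^ 4 * y * (g ^ 4)⁻¹ := by
      rw [h2]
      calc g ^ 4 * e * y * (g ^ 4 * e)⁻¹ = g ^ 4 * (e * y) * e⁻¹ * (g ^ 4)⁻¹ := by group
        _ = g ^ 4 * (y * e) * e⁻¹ * (g ^ 4)⁻¹ := by rw [h3]
        _ = g ^ 4 * y * (g ^ 4)⁻¹ := by group
    rw [h4] at h1
    -- g^3 commutes with y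
    have h5 : Commute (g ^ 3) y := by
      have e1 : g ^ 4 * y * (g ^ 4)⁻¹ = g * (g ^ 3 * y * (g ^ 3)⁻¹) * g⁻¹ := by group
      rw [e1] at h1
      have h6 : g ^ 3 * y * (g ^ 3)⁻¹ = y := by
        have h7 := mul_right_cancel h1
        exact mul_left_cancel h7
      rw [mul_inv_eq_iff_eq_mul] at h6
      exact h6
    -- g is a power of g^3
    obtain ⟨r, hr⟩ := IsPGroup.iff_orderOf.1 hX g
    have h6 : Nat.Coprime 3 (orderOf g) := by
      rw [hr]
      exact Nat.Coprime.pow_right r ((Nat.Prime.coprime_iff_not_dvd hp.out).2 hd3).symm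
    obtain ⟨s, hs⟩ := exists_pow_eq_self_of_coprime h6
    have h7 : Commute ((g ^ 3) ^ s) y := h5.pow_left s
    rw [hs] at h7
    exact h7
  -- R = C(a) ∩ C(Y)
  let R : Subgroup X := centralizer {a} ⊓ centralizer (Y : Set X)
  have hRmem : ∀ r : X, r ∈ R ↔ r * a = a * r ∧ ∀ y ∈ Y, y * r = r * y := by
    intro r
    show r ∈ centralizer {a} ⊓ centralizer (Y : Set X) ↔ _
    rw [mem_inf, mem_centralizer_singleton_iff, mem_centralizer_iff]; rfl
  have hRE : ∀ r ∈ R, r ∈ E → ∃ i : ℕ, ∃ y ∈ Y, r = a ^ i * y := by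
    intro r hr hrE
    obtain ⟨o, ho, y, hy, rfl⟩ := hEOY r hrE
    have hya : Commute a y := ((hYmem y).1 hy).2 a ha
    have hoa : o * a = a * o := by
      have h1 : Commute (o * y) a := ((hRmem _).1 hr).1
      have h2 : Commute (o * y * y⁻¹) a := h1.mul_left hya.symm.inv_left
      rw [mul_inv_cancel_right] at h2
      exact h2
    obtain ⟨a1, a2, a3, a4⟩ := hO.CO_mid ha haZ
    obtain ⟨i, hi⟩ := hO.mid_gen a1 a2 a3 a4 haZ (mem_CO.2 ⟨ho, hoa⟩)
    refine ⟨i, (a ^ i)⁻¹ * o * y, mul_mem (hZY hi) hy, by group⟩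
  have hform : ∀ r ∈ R, ∃ n i : ℕ, ∃ y ∈ Y, r = g ^ n * a ^ i * y := by
    intro r hr
    obtain ⟨n, hn⟩ := hcyc g hgE r
    have hgR : g ∈ R := (hRmem g).2 ⟨hga.symm, fun y hy => (hgY y hy).symm⟩
    obtain ⟨i, y, hy, h1⟩ := hRE _ (mul_mem (inv_mem (pow_mem hgR n)) hr) hn
    refine ⟨n, i, y, hy, ?_⟩
    rw [mul_assoc, ← h1]; group
  have hRcomm : ∀ r ∈ R, ∀ s ∈ R, r * s = s * r := by
    intro r hr s hs
    obtain ⟨n, i, y, hy, rfl⟩ := hform r hr
    have h1 := (hRmem s).1 hs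
    have c1 : Commute a s := h1.1.symm
    have c2 : Commute y s := h1.2 y hy
    have c3 : Commute g s := by
      obtain ⟨n', i', y', hy', rfl⟩ := hform s hs
      have d1 : Commute g a := hga.symm
      have d2 : Commute g y' := hgY y' hy'
      exact (((Commute.refl g).pow_right n').mul_right (d1.pow_right i')).mul_right d2
    exact ((c3.pow_left n).mul_left (c1.pow_left i)).mul_left c2
  have haR : a ∈ R := (hRmem a).2 ⟨rfl, fun y hy => (((hYmem y).1 hy).2 a ha).symm⟩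
  have hgR : g ∈ R := (hRmem g).2 ⟨hga.symm, fun y hy => (hgY y hy).symm⟩
  have hYR : Y ≤ R := fun y hy => (hRmem y).2 ⟨(((hYmem y).1 hy).2 a ha).symm, fun y' hy' => hYcomm y' hy' y hy⟩
  have hθR : ∀ r ∈ R, θ r ∈ R := by
    intro r hr
    obtain ⟨h1, h2⟩ := (hRmem r).1 hr
    rw [hRmem]
    refine ⟨?_, fun y hy => ?_⟩
    · have h3 : Commute (θ r) (θ a) := by
        show θ r * θ a = θ a * θ r
        rw [← map_mul, ← map_mul, h1]
      rw [hθa] at h3
      have h4 : Commute (θ r) (a ^ 2 * z1 * z1⁻¹) := h3.mul_right (show Commute (θ r) z1 from hZc z1 hz1 _).inv_right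
      rw [mul_inv_cancel_right] at h4
      have h5 := h4.pow_right ν'
      rw [← pow_mul, pow_eq_of_modEq hap hν, pow_one] at h5
      exact h5
    · have h3 : θ (y * r) = θ (r * y) := by rw [h2 y hy]
      rw [map_mul, map_mul, hθY1 y hy] at h3
      exact h3
  letI : CommGroup R := { (inferInstance : Group R) with mul_comm := fun x y => Subtype.ext (hRcomm x x.2 y y.2) }
  let θR : R →* R :=
    { toFun := fun r => ⟨θ r, hθR r r.2⟩
      map_one' := Subtype.ext (map_one θ)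
      map_mul' := fun x y => Subtype.ext (map_mul θ _ _) }
  obtain ⟨i, y, hy, hgp⟩ := hRE (g ^ p) (pow_mem hgR p) (hpE g)
  let gR : R := ⟨g, hgR⟩
  let aR : R := ⟨a, haR⟩
  let yR : R := ⟨y, hYR hy⟩
  let zR : R := ⟨z1, hYR (hZY hz1)⟩
  have e1 : θR aR = aR ^ 2 * zR := Subtype.ext hθa
  have e2 : θR yR = yR := Subtype.ext (hθY1 y hy)
  have e3 : θR zR = zR := Subtype.ext (hθZ z1 hz1)
  have e4 : gR ^ p = aR ^ i * yR := Subtype.ext hgp
  let x1 : R := θR gR * gR⁻¹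
  let x2 : R := θR x1 * (x1 ^ 2)⁻¹
  have e5 : x1 ^ p = aR ^ i * zR ^ i := by
    show (θR gR * gR⁻¹) ^ p = _
    rw [mul_pow, ← map_pow, inv_pow, e4, map_mul, map_pow, e1, e2, mul_pow, ← pow_mul]
    have : aR ^ (2 * i) = aR ^ i * aR ^ i := by rw [← pow_add, two_mul]
    rw [this, mul_inv_rev]
    calc aR ^ i * aR ^ i * zR ^ i * yR * (yR⁻¹ * (aR ^ i)⁻¹) = aR ^ i * aR ^ i * zR ^ i * (aR ^ i)⁻¹ := by group
      _ = aR ^ i * zR ^ i * (aR ^ i) * (aR ^ i)⁻¹ := by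
        rw [mul_right_comm (aR ^ i) (aR ^ i) (zR ^ i)]
      _ = _ := by rw [mul_inv_cancel_right]
  have e6 : x2 ^ p = 1 := by
    show (θR x1 * (x1 ^ 2)⁻¹) ^ p = 1
    rw [mul_pow, ← map_pow, inv_pow, ← pow_mul, mul_comm 2 p, pow_mul, e5, map_mul, map_pow, map_pow, e1, e3,
      mul_inv_eq_one, mul_pow, mul_pow, ← pow_mul, ← pow_mul, ← pow_mul]
    rw [mul_comm i 2, two_mul i, pow_add, pow_add, mul_assoc]
  have e7 : (x2 : X) ^ p = 1 := congrArg Subtype.val e6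
  have e8 : (x2 : X) ∈ E := hOE ((hmem _).2 e7)
  have e9 : π (x1 : X) = π g ^ 3 := by
    show π (θ g * g⁻¹) = _
    rw [map_mul, hπθ, map_inv]
    group
  have e10 : π (x2 : X) = π g ^ 6 := by
    show π (θ (x1 : X) * ((x1 : X) ^ 2)⁻¹) = _
    rw [map_mul, hπθ, map_inv, map_pow, e9]
    group
  apply hgE
  rw [← hπ]
  refine eq_one_of_pow_eq_one hp.out hd6 (hπp g) ?_
  rw [← e10, hπ]
  exact e8

end Cfsg.Agent.Lib.RankTwoCaseA
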