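import Cfsg.Agent.Lib.EssRank2
import Cfsg.Agent.Lib.NormalRankTwo
import Cfsg.Agent.Lib.MaxClassTwo

/-! For `p ≥ 5`, a `p`-group `X` whose elements of order `p` form a central subgroup `M` of order `p²` on which
automorphisms of `X` induce `SL_2(p)`, and with an automorphism of order `p` nontrivial on `M`, equals `M`. -/

set_option autoImplicit false

namespace Cfsg.Agent.Lib.RankTwoNoExt

open Subgroup

variable {X : Type*} [Group X] [Finite X] {p : ℕ} [hp : Fact p.Prime]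

theorem no_ext (hp5 : 5 ≤ p) (hX : IsPGroup p X) {M : Subgroup X} (hMc : ∀ m ∈ M, ∀ g : X, g * m = m * g)
    (hMp : ∀ x, x ∈ M ↔ x ^ p = 1) {a b : X} (haM : a ∈ M) (hbM : b ∈ M) (ha1 : a ≠ 1)
    (hgen : ∀ x ∈ M, ∃ i j : ℕ, x = a ^ i * b ^ j) {s t σ : MulAut X} (hsa : s a = a) (hsb : s b = b * a)
    (htb : t b = b) (hta : t a = a * b) {n : ℕ} (hσa : σ a = a) (hσb : σ b = b * a ^ n) (hn : ¬ p ∣ n) (hσp : σ ^ p = 1)
    (hMT : ∃ x : X, x ∉ M) : False := by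
  classical
  have hp0 := hp.out.pos
  have hp2 : p ≠ 2 := by omega
  have hb1 : b ≠ 1 := by
    rintro rfl
    rw [map_one, one_mul] at hsb
    exact ha1 hsb.symm
  have hap : a ^ p = 1 := (hMp a).1 haM
  have hbp : b ^ p = 1 := (hMp b).1 hbM
  have horda : orderOf a = p := orderOf_eq_prime hap ha1
  have hordb : orderOf b = p := orderOf_eq_prime hbp hb1
  have hpow1 : ∀ c : X, orderOf c = p → ∀ k : ℕ, c ^ k = 1 ↔ p ∣ k := fun c hc k => by
    rw [← hc]; exact orderOf_dvd_iff_pow_eq_one.symm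
  have hab : a * b = b * a := hMc b hbM a
  -- automorphisms preserve M
  have hαM : ∀ (α : MulAut X), ∀ x ∈ M, α x ∈ M := fun α x hx => by
    rw [hMp, ← map_pow, (hMp x).1 hx, map_one]
  -- D
  have hcm : ∀ x : X, (∀ g, x⁻¹ * (g * x * g⁻¹) ∈ M) → ∀ y : X, ∃ c ∈ M, y * x = x * y * c := by
    intro x hx y
    refine ⟨_, hx y, ?_⟩
    rw [mul_assoc x y, hMc _ (hx y) y]
    group
  have hmulpow : ∀ x : X, (∀ g, x⁻¹ * (g * x * g⁻¹) ∈ M) → ∀ y : X, (x * y) ^ p = x ^ p * y ^ p := by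
    intro x hx y
    obtain ⟨c, hc, h⟩ := hcm x hx y
    exact Cfsg.Agent.Lib.NormalRankTwo.mul_pow_prime hp.out hp2 (fun g => (hMc c hc g).symm) ((hMp c).1 hc) h
  let D : Subgroup X :=
    { carrier := {x | x ^ p ∈ M ∧ ∀ g, x⁻¹ * (g * x * g⁻¹) ∈ M}
      one_mem' := ⟨by rw [one_pow]; exact M.one_mem, fun g => by simp [M.one_mem]⟩
      mul_mem' := by
        rintro x y ⟨hx, hx'⟩ ⟨hy, hy'⟩
        refine ⟨by rw [hmulpow x hx' y]; exact M.mul_mem hx hy, fun g => ?_⟩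
        have h1 : (x * y)⁻¹ * (g * (x * y) * g⁻¹) = y⁻¹ * (x⁻¹ * (g * x * g⁻¹)) * y * (y⁻¹ * (g * y * g⁻¹)) := by group
        have h2 : y⁻¹ * (x⁻¹ * (g * x * g⁻¹)) * y = x⁻¹ * (g * x * g⁻¹) := by
          rw [hMc _ (hx' g) y⁻¹, inv_mul_cancel_right]
        rw [h1, h2]; exact M.mul_mem (hx' g) (hy' g)
      inv_mem' := by
        rintro x ⟨hx, hx'⟩
        refine ⟨by rw [inv_pow]; exact M.inv_mem hx, fun g => ?_⟩
        have h1 : x⁻¹⁻¹ * (g * x⁻¹ * g⁻¹) = x * (x⁻¹ * (g * x * g⁻¹))⁻¹ * x⁻¹ := by group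
        rw [h1, hMc _ (M.inv_mem (hx' g)) x, mul_inv_cancel_right]
        exact M.inv_mem (hx' g) }
  have hD : ∀ x, x ∈ D ↔ x ^ p ∈ M ∧ ∀ g, x⁻¹ * (g * x * g⁻¹) ∈ M := fun _ => Iff.rfl
  have hMD : M ≤ D := by
    intro x hx
    rw [hD]
    refine ⟨M.pow_mem hx p, fun g => ?_⟩
    rw [hMc x hx g, mul_inv_cancel_right, inv_mul_cancel]; exact M.one_mem
  have hαD : ∀ (α : MulAut X), ∀ x ∈ D, α x ∈ D := by
    intro α x hx
    rw [hD] at hx ⊢
    refine ⟨by rw [← map_pow]; exact hαM α _ hx.1, fun g => ?_⟩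
    have h1 := hαM α _ (hx.2 (α⁻¹ g))
    rw [map_mul, map_mul, map_mul, map_inv, map_inv, MulAut.apply_inv_self] at h1
    exact h1
  -- a point of D outside M
  have hMn : M.Normal := ⟨fun x hx g => by rw [hMc x hx g, mul_inv_cancel_right]; exact hx⟩
  obtain ⟨x1, hx1D, hx1M⟩ : ∃ x ∈ D, x ∉ M := by
    have htop : (⊤ : Subgroup (X ⧸ M)) ≠ ⊥ := by
      obtain ⟨x, hx⟩ := hMT
      intro h
      apply hx
      have h1 : (x : X ⧸ M) ∈ (⊤ : Subgroup (X ⧸ M)) := mem_top _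
      rw [h, mem_bot] at h1
      exact (QuotientGroup.eq_one_iff x).1 h1
    obtain ⟨z, -, hzc, hzo⟩ := Cfsg.Agent.Lib.NormalRankTwo.exists_central_of_normal (hX.to_quotient M) ⊤ htop
    obtain ⟨x, rfl⟩ := QuotientGroup.mk_surjective z
    refine ⟨x, (hD x).2 ⟨?_, fun g => ?_⟩, fun h => ?_⟩
    · have h1 := pow_orderOf_eq_one (x : X ⧸ M)
      rw [hzo, ← QuotientGroup.mk_pow, QuotientGroup.eq_one_iff] at h1
      exact h1
    · have h1 := mem_center_iff.1 hzc (g : X ⧸ M)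
      rw [← QuotientGroup.mk_mul, ← QuotientGroup.mk_mul, QuotientGroup.eq] at h1
      have h2 := hMn.conj_mem _ (M.inv_mem h1) g
      have h3 : g * ((g * x)⁻¹ * (x * g))⁻¹ * g⁻¹ = x⁻¹ * (g * x * g⁻¹) → x⁻¹ * (g * x * g⁻¹) ∈ M := fun e => e ▸ h2
      have h4 := hMn.conj_mem _ h1 g
      have h5 : g * ((g * x)⁻¹ * (x * g)) * g⁻¹ = (x⁻¹ * (g * x * g⁻¹))⁻¹ → x⁻¹ * (g * x * g⁻¹) ∈ M := fun e => by
        have := M.inv_mem (e ▸ h4 : (x⁻¹ * (g * x * g⁻¹))⁻¹ ∈ M)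
        rwa [inv_inv] at this
      apply h5
      group
    · have h1 : (x : X ⧸ M) = 1 := (QuotientGroup.eq_one_iff x).2 h
      rw [h1, orderOf_one] at hzo
      exact hp.out.one_lt.ne hzo
  -- I = p-th powers of D
  let π : D →* X := MonoidHom.mk' (fun x => (x : X) ^ p) (fun x y => hmulpow x ((hD x).1 x.2).2 y)
  have hπ : ∀ x : D, π x = (x : X) ^ p := fun _ => rfl
  have hIM : ∀ i ∈ π.range, i ∈ M := by
    rintro _ ⟨x, rfl⟩; exact ((hD x).1 x.2).1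
  have hαI : ∀ (α : MulAut X), ∀ i ∈ π.range, α i ∈ π.range := by
    rintro α _ ⟨x, rfl⟩
    exact ⟨⟨α x, hαD α x x.2⟩, by rw [hπ, hπ, map_pow]⟩
  have hpw : ∀ (c : X), orderOf c = p → ∀ k : ℕ, ¬ p ∣ k → c ^ k ∈ π.range → c ∈ π.range := by
    intro c hc k hk hck
    have hcop : Nat.Coprime k (orderOf c) := by
      rw [hc]; exact ((Nat.Prime.coprime_iff_not_dvd hp.out).2 hk).symm
    obtain ⟨r, hr⟩ := exists_pow_eq_self_of_coprime hcop
    rw [← hr]; exact π.range.pow_mem hck r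
  have haI : a ∈ π.range := by
    have hi : x1 ^ p ∈ π.range := ⟨⟨x1, hx1D⟩, rfl⟩
    have hi1 : x1 ^ p ≠ 1 := fun h => hx1M ((hMp x1).2 h)
    obtain ⟨k, l, hkl⟩ := hgen _ (hIM _ hi)
    have hcm2 : Commute a b := hab
    by_cases hl : p ∣ l
    · have h1 : b ^ l = 1 := (hpow1 b hordb l).2 hl
      rw [h1, mul_one] at hkl
      have hk : ¬ p ∣ k := by
        intro hk
        rw [(hpow1 a horda k).2 hk] at hkl
        exact hi1 hkl
      exact hpw a horda k hk (hkl ▸ hi)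
    · have h1 := π.range.mul_mem (π.range.inv_mem hi) (hαI s _ hi)
      have h2 : (x1 ^ p)⁻¹ * s (x1 ^ p) = a ^ l := by
        rw [hkl, map_mul, map_pow, map_pow, hsa, hsb, (hcm2.symm).mul_pow]
        group
      rw [h2] at h1
      exact hpw a horda l hl h1
  have hbI : b ∈ π.range := by
    have h1 := π.range.mul_mem (π.range.inv_mem haI) (hαI t _ haI)
    rw [hta, inv_mul_cancel_left] at h1
    exact h1
  obtain ⟨⟨a1, ha1D⟩, ha1p⟩ := haI
  obtain ⟨⟨b1, hb1D⟩, hb1p⟩ := hbI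
  change a1 ^ p = a at ha1p
  change b1 ^ p = b at hb1p
  have ha1' := ((hD a1).1 ha1D).2
  have hb1' := ((hD b1).1 hb1D).2
  have hker : ∀ x y : X, x ∈ D → x ^ p = y ^ p → x⁻¹ * y ∈ M := by
    intro x y hx hxy
    rw [hMp, hmulpow x⁻¹ ((hD _).1 (D.inv_mem hx)).2 y, inv_pow, hxy, inv_mul_cancel]
  -- D is commutative
  have hcab : a1 * b1 = b1 * a1 := by
    have c1 := hker a1 (s a1) ha1D (by rw [← map_pow, ha1p, hsa])
    have c2 := hker (b1 * a1) (s b1) (D.mul_mem hb1D ha1D) (by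
      rw [← map_pow, hb1p, hsb, hmulpow b1 hb1' a1, hb1p, ha1p])
    have c3 := hker (a1 * b1) (t a1) (D.mul_mem ha1D hb1D) (by
      rw [← map_pow, ha1p, hta, hmulpow a1 ha1' b1, hb1p, ha1p])
    have c4 := hker b1 (t b1) hb1D (by rw [← map_pow, hb1p, htb])
    set κ := a1⁻¹ * (b1 * a1 * b1⁻¹) with hκ
    have hκM : κ ∈ M := ha1' b1
    have hsκ : s κ = κ := by
      have e1 : s a1 = a1 * (a1⁻¹ * s a1) := by group
      have e2 : s b1 = b1 * a1 * ((b1 * a1)⁻¹ * s b1) := by group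
      set m1 := a1⁻¹ * s a1 with hm1
      set m2 := (b1 * a1)⁻¹ * s b1 with hm2
      have f1 : ∀ g : X, g * m1 = m1 * g := hMc m1 c1
      have f2 : ∀ g : X, g * m2 = m2 * g := hMc m2 c2
      rw [hκ, map_mul, map_mul, map_mul, map_inv, map_inv, e1, e2]
      calc (a1 * m1)⁻¹ * (b1 * a1 * m2 * (a1 * m1) * (b1 * a1 * m2)⁻¹)
          = m1⁻¹ * a1⁻¹ * (b1 * a1 * (m2 * (a1 * m1)) * m2⁻¹ * (a1⁻¹ * b1⁻¹)) := by group
        _ = m1⁻¹ * a1⁻¹ * (b1 * a1 * ((a1 * m1) * m2) * m2⁻¹ * (a1⁻¹ * b1⁻¹)) := by rw [f2 (a1 * m1)]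
        _ = m1⁻¹ * (a1⁻¹ * b1 * a1 * a1 * m1) * a1⁻¹ * b1⁻¹ := by group
        _ = m1⁻¹ * (m1 * (a1⁻¹ * b1 * a1 * a1)) * a1⁻¹ * b1⁻¹ := by rw [f1 (a1⁻¹ * b1 * a1 * a1)]
        _ = a1⁻¹ * (b1 * a1 * b1⁻¹) := by group
    have htκ : t κ = κ := by
      have e1 : t a1 = a1 * b1 * ((a1 * b1)⁻¹ * t a1) := by group
      have e2 : t b1 = b1 * (b1⁻¹ * t b1) := by group
      set m1 := (a1 * b1)⁻¹ * t a1 with hm1
      set m2 := b1⁻¹ * t b1 with hm2
      have f1 : ∀ g : X, g * m1 = m1 * g := hMc m1 c3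
      have f2 : ∀ g : X, g * m2 = m2 * g := hMc m2 c4
      have f3 : b1⁻¹ * κ = κ * b1⁻¹ := hMc κ hκM b1⁻¹
      have h1 : t κ = (a1 * b1)⁻¹ * (b1 * (a1 * b1) * b1⁻¹) := by
        rw [hκ, map_mul, map_mul, map_mul, map_inv, map_inv, e1, e2]
        calc (a1 * b1 * m1)⁻¹ * (b1 * m2 * (a1 * b1 * m1) * (b1 * m2)⁻¹)
            = m1⁻¹ * (a1 * b1)⁻¹ * (b1 * (m2 * (a1 * b1 * m1)) * m2⁻¹ * b1⁻¹) := by group
          _ = m1⁻¹ * (a1 * b1)⁻¹ * (b1 * ((a1 * b1 * m1) * m2) * m2⁻¹ * b1⁻¹) := by rw [f2 (a1 * b1 * m1)]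
          _ = m1⁻¹ * ((a1 * b1)⁻¹ * b1 * (a1 * b1) * m1) * b1⁻¹ := by group
          _ = m1⁻¹ * (m1 * ((a1 * b1)⁻¹ * b1 * (a1 * b1))) * b1⁻¹ := by rw [f1 ((a1 * b1)⁻¹ * b1 * (a1 * b1))]
          _ = (a1 * b1)⁻¹ * (b1 * (a1 * b1) * b1⁻¹) := by group
      rw [h1]
      calc (a1 * b1)⁻¹ * (b1 * (a1 * b1) * b1⁻¹) = b1⁻¹ * (a1⁻¹ * (b1 * a1 * b1⁻¹)) * b1 := by group
        _ = κ := by rw [← hκ, f3, inv_mul_cancel_right]
    have hκ1 : κ = 1 := by
      obtain ⟨k, l, hkl⟩ := hgen κ hκM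
      have hcm2 : Commute a b := hab
      have h1 : a ^ l = 1 := by
        have h2 : s κ = κ * a ^ l := by
          rw [hkl, map_mul, map_pow, map_pow, hsa, hsb, (hcm2.symm).mul_pow]; group
        rw [hsκ] at h2
        exact (mul_eq_left.1 h2.symm)
      have h3 : b ^ l = 1 := (hpow1 b hordb l).2 ((hpow1 a horda l).1 h1)
      rw [h3, mul_one] at hkl
      have h4 : b ^ k = 1 := by
        have h2 : t κ = κ * b ^ k := by
          rw [hkl, map_pow, hta, hcm2.mul_pow]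
        rw [htκ] at h2
        exact (mul_eq_left.1 h2.symm)
      rw [hkl]; exact (hpow1 a horda k).2 ((hpow1 b hordb k).1 h4)
    rw [hκ, inv_mul_eq_one, eq_mul_inv_iff_mul_eq] at hκ1
    exact hκ1
  have hdec : ∀ x ∈ D, ∃ k l : ℕ, ∃ m ∈ M, x = a1 ^ k * b1 ^ l * m ∧ x ^ p = a ^ k * b ^ l := by
    intro x hx
    obtain ⟨k, l, hkl⟩ := hgen _ ((hD x).1 hx).1
    refine ⟨k, l, (a1 ^ k * b1 ^ l)⁻¹ * x, ?_, by group, hkl⟩
    apply hker _ _ (D.mul_mem (D.pow_mem ha1D k) (D.pow_mem hb1D l))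
    have h1 := hmulpow (a1 ^ k) ((hD _).1 (D.pow_mem ha1D k)).2 (b1 ^ l)
    rw [h1, ← pow_mul, ← pow_mul, mul_comm k p, mul_comm l p, pow_mul, pow_mul, ha1p, hb1p, hkl]
  have hDcomm : ∀ x ∈ D, ∀ y ∈ D, x * y = y * x := by
    intro x hx y hy
    obtain ⟨k, l, m, hm, rfl, -⟩ := hdec x hx
    obtain ⟨k', l', m', hm', rfl, -⟩ := hdec y hy
    have c1 : Commute a1 b1 := hcab
    have cm : ∀ g, Commute g m := hMc m hm
    have cm' : ∀ g, Commute g m' := hMc m' hm'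
    have h1 : Commute (a1 ^ k * b1 ^ l) (a1 ^ k' * b1 ^ l') := by
      refine Commute.mul_left (Commute.mul_right ?_ ?_) (Commute.mul_right ?_ ?_)
      · exact (Commute.refl a1).pow_pow k k'
      · exact c1.pow_pow k l'
      · exact c1.symm.pow_pow l k'
      · exact (Commute.refl b1).pow_pow l l'
    exact (Commute.mul_left (Commute.mul_right h1 (cm' _)) (Commute.mul_right (cm _).symm (cm' _)))
  letI : CommGroup D := { (inferInstance : Group D) with mul_comm := fun x y => Subtype.ext (hDcomm x x.2 y y.2) }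
  obtain ⟨σD, hσD, -⟩ := Cfsg.Agent.Lib.EssChain.exists_restrict σ (L := D) (hαD σ)
  have hσDpow : σD ^ p = 1 := by
    ext x
    have h1 : ∀ (k : ℕ) (x : D), (((σD ^ k) x : D) : X) = (σ ^ k) (x : X) := by
      intro k
      induction k with
      | zero => intro x; rfl
      | succ k ih => intro x; rw [pow_succ', MulAut.mul_apply, hσD, ih, pow_succ', MulAut.mul_apply]
    rw [h1, hσp]; rfl
  let φ : AddMonoid.End (Additive D) := MonoidHom.toAdditive (σD : D →* D)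
  let δ : AddMonoid.End (Additive D) := φ - 1
  have hδ : ∀ v : Additive D, δ v = Additive.ofMul (σD v.toMul) - v := fun v => rfl
  have hδapp : ∀ y : D, δ (Additive.ofMul y) = Additive.ofMul (σD y * y⁻¹) := by
    intro y
    rw [ofMul_mul, ofMul_inv]
    show Additive.ofMul (σD y) - Additive.ofMul y = _
    abel
  have h1δ : 1 + δ = φ := by
    show 1 + (φ - 1) = φ
    rw [add_sub_cancel]
  have hδp : (1 + δ) ^ p = 1 := by
    rw [h1δ]
    have h1 : ∀ (n : ℕ) (v : Additive D), (φ ^ n) v = Additive.ofMul ((σD ^ n) v.toMul) := by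
      intro n
      induction n with
      | zero => intro v; rfl
      | succ n ih => intro v; rw [pow_succ]; show (φ ^ n) (Additive.ofMul (σD v.toMul)) = _; rw [ih, pow_succ]; rfl
    apply AddMonoidHom.ext
    intro v
    have h2 := h1 p v
    rw [hσDpow] at h2
    exact h2
  obtain ⟨w, hw⟩ := Cfsg.Agent.Lib.EssRank2.delta_key δ hp5 hδp (by
    intro v
    obtain ⟨x, hxv⟩ : ∃ x : D, Additive.ofMul x = v := ⟨Additive.toMul v, rfl⟩
    subst hxv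
    rw [hδapp, hδapp]
    set y : D := σD x * x⁻¹ with hy
    obtain ⟨k, l, m, hm, hx, hxp⟩ := hdec x x.2
    have hcm2 : Commute a b := hab
    have hyp : (y : X) ^ p = a ^ (n * l) := by
      have h1 : (y : X) = σ x * (x : X)⁻¹ := by rw [hy, Subgroup.coe_mul, hσD]; rfl
      rw [h1, hmulpow _ ((hD _).1 (hαD σ x x.2)).2, ← map_pow, inv_pow, hxp, map_mul, map_pow, map_pow, hσa, hσb]
      have h2 : Commute b (a ^ n) := hcm2.symm.pow_right n
      rw [h2.mul_pow, ← pow_mul]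
      have h3 : a ^ k * (b ^ l * a ^ (n * l)) * (a ^ k * b ^ l)⁻¹ = a ^ (n * l) := by
        have h4 : Commute (a ^ (n * l)) (a ^ k * b ^ l) :=
          ((Commute.refl a).pow_pow _ _).mul_right (hcm2.pow_pow _ _)
        rw [← mul_assoc (a ^ k), ← h4.eq, mul_inv_cancel_right]
      exact h3
    have hzM : ((σD y * y⁻¹ : D) : X) ∈ M := by
      rw [hMp]
      have h1 : ((σD y * y⁻¹ : D) : X) = σ y * (y : X)⁻¹ := by rw [Subgroup.coe_mul, hσD]; rfl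
      rw [h1, hmulpow _ ((hD _).1 (hαD σ y y.2)).2, ← map_pow, inv_pow, hyp, map_pow, hσa, mul_inv_cancel]
    obtain ⟨i, j, hij⟩ := hgen _ hzM
    refine ⟨Additive.ofMul (⟨a1, ha1D⟩ ^ i * ⟨b1, hb1D⟩ ^ j), ?_⟩
    rw [← ofMul_pow]
    apply congrArg Additive.ofMul
    apply Subtype.ext
    rw [hij]
    show a ^ i * b ^ j = (a1 ^ i * b1 ^ j) ^ p
    rw [hmulpow (a1 ^ i) ((hD _).1 (D.pow_mem ha1D i)).2 (b1 ^ j), ← pow_mul, ← pow_mul, mul_comm i p, mul_comm j p,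
      pow_mul, pow_mul, ha1p, hb1p]) (Additive.ofMul ⟨b1, hb1D⟩)
  rw [hδapp] at hw
  have h1 : (σD ⟨b1, hb1D⟩ * (⟨b1, hb1D⟩ : D)⁻¹) ^ p = (Additive.toMul w) ^ (p * p) := hw
  have h2 := congrArg Subtype.val h1
  have h3 : (((σD ⟨b1, hb1D⟩ * (⟨b1, hb1D⟩ : D)⁻¹) ^ p : D) : X) = a ^ n := by
    have h4 : (((σD ⟨b1, hb1D⟩ * (⟨b1, hb1D⟩ : D)⁻¹) ^ p : D) : X) = (σ b1 * b1⁻¹) ^ p := by
      rw [Subgroup.coe_pow, Subgroup.coe_mul, hσD]; rfl
    rw [h4, hmulpow _ ((hD _).1 (hαD σ b1 hb1D)).2, ← map_pow, inv_pow, hb1p, hσb]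
    have h5 : Commute b (a ^ n) := (show Commute b a from hab.symm).pow_right n
    rw [h5.eq, mul_inv_cancel_right]
  have h4 : (((Additive.toMul w) ^ (p * p) : D) : X) = 1 := by
    rw [Subgroup.coe_pow, pow_mul]
    exact (hMp _).1 ((hD _).1 (Additive.toMul w).2).1
  have h5 : a ^ n = 1 := by rw [← h3, ← h4]; exact h2
  exact hn ((hpow1 a horda n).1 h5)

end Cfsg.Agent.Lib.RankTwoNoExt
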