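import Cfsg.Agent.Lib.RankTwoHeis2
import Cfsg.Agent.Lib.RankTwoNoExt

/-! Essential subgroups over `p`-groups whose elements of order `p ≥ 5` form a nonabelian group `O` of order `p³`:
essential subgroups not containing `O`. -/

set_option autoImplicit false

namespace Cfsg.Agent.Lib.RankTwoFusion

open Cfsg Cfsg.FusionSystem Subgroup
open Cfsg.Agent.Lib.FusionBasic Cfsg.Agent.Lib.FusionSat Cfsg.Agent.Lib.FusionNormal Cfsg.Agent.Lib.FusionAlperin
open Cfsg.Agent.Lib.RankTwoHeis Cfsg.Agent.Lib.EssSection Cfsg.Agent.Lib.EssTorus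

variable {Ω : Type*} [Group Ω] {S : Subgroup Ω} {F : FusionSystem S} {p : ℕ} {O E : Subgroup Ω}

/-- `O` = the elements of order dividing `p` of the `p`-group `S`, a nonabelian group of order `p³` -/
structure Om (p : ℕ) (S O : Subgroup Ω) : Prop where
  hS : IsPGroup p S
  fin : Finite S
  mem : ∀ x, x ∈ O ↔ x ∈ S ∧ x ^ p = 1
  heis : Heis p O

theorem Om.le (h : Om p S O) : O ≤ S := fun x hx => ((h.mem x).1 hx).1

theorem Om.conj_O (h : Om p S O) {s x : Ω} (hs : s ∈ S) (hx : x ∈ O) : s * x * s⁻¹ ∈ O := by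
  have hxS := h.le hx
  rw [h.mem]
  exact ⟨S.mul_mem (S.mul_mem hs hxS) (S.inv_mem hs), by rw [conj_pow, ((h.mem x).1 hx).2, mul_one, mul_inv_cancel]⟩

theorem Om.conj_ZO (h : Om p S O) {s z : Ω} (hs : s ∈ S) (hz : z ∈ ZO O) : s * z * s⁻¹ ∈ ZO O := by
  rw [mem_ZO] at hz ⊢
  refine ⟨h.conj_O hs hz.1, fun x hx => ?_⟩
  have h1 := hz.2 (s⁻¹ * x * s⁻¹⁻¹) (h.conj_O (S.inv_mem hs) hx)
  calc x * (s * z * s⁻¹) = s * ((s⁻¹ * x * s⁻¹⁻¹) * z) * s⁻¹ := by group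
    _ = s * (z * (s⁻¹ * x * s⁻¹⁻¹)) * s⁻¹ := by rw [h1]
    _ = s * z * s⁻¹ * x := by group

theorem Om.central (h : Om p S O) {s z : Ω} (hs : s ∈ S) (hz : z ∈ ZO O) : s * z = z * s := by
  have := Fact.mk h.heis.hp
  have := h.fin
  have hle : ZO O ≤ S := inf_le_left.trans h.le
  have hn : ((ZO O).subgroupOf S).Normal := ⟨fun z hz g => h.conj_ZO g.2 hz⟩
  have hne : (ZO O).subgroupOf S ≠ ⊥ := by
    intro hb
    have h1 : Nat.card ((ZO O).subgroupOf S) = p := by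
      rw [Nat.card_congr (subgroupOfEquivOfLe hle).toEquiv]; exact h.heis.card_ZO
    rw [hb, card_bot] at h1
    exact h.heis.hp.one_lt.ne h1
  obtain ⟨ζ, hζ, hζc, hζo⟩ := Cfsg.Agent.Lib.NormalRankTwo.exists_central_of_normal h.hS _ hne
  have hζ1 : (ζ : Ω) ≠ 1 := by
    intro e
    have : ζ = 1 := Subtype.ext e
    rw [this, orderOf_one] at hζo
    exact h.heis.hp.one_lt.ne hζo
  obtain ⟨n, rfl⟩ := h.heis.zpow_of hζ hζ1 hz
  have h2 : s * (ζ : Ω) = ζ * s := congrArg Subtype.val (mem_center_iff.1 hζc ⟨s, hs⟩)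
  exact (show Commute s (ζ : Ω) from h2).pow_right n

theorem Om.normal (h : Om p S O) : S ≤ normalizer (O : Set Ω) := by
  intro s hs
  rw [mem_normalizer_iff]
  intro x
  refine ⟨fun hx => h.conj_O hs hx, fun hx => ?_⟩
  have h1 := h.conj_O (S.inv_mem hs) hx
  have h2 : s⁻¹ * (s * x * s⁻¹) * s⁻¹⁻¹ = x := by group
  rwa [h2] at h1

theorem Om.normalizerIn_eq (h : Om p S O) : normalizerIn S O = S :=
  le_antisymm (normalizerIn_le S O) (fun s hs => ⟨hs, h.normal hs⟩)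

theorem Om.fiso (h : Om p S O) {Q : Subgroup Ω} {f : Ω → Ω} (hf : FIso F O Q f) : Q = O := by
  have hle : Q ≤ O := by
    intro y hy
    obtain ⟨x, hx, rfl⟩ := hf.mem_iff.1 hy
    rw [h.mem]
    exact ⟨hf.1.map_mem hx, by rw [← hf.1.map_pow hx, ((h.mem x).1 hx).2, hf.1.map_one]⟩
  have := h.heis.finite
  exact eq_of_le_of_card_ge hle hf.card_eq.le

theorem Om.fullyNormalized (h : Om p S O) : F.IsFullyNormalized O := by
  have := h.fin
  refine ⟨h.le, fun Q hQ => ?_⟩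
  obtain ⟨f, hf⟩ := isConj_iff_fiso.1 hQ
  rw [h.fiso hf]

theorem Om.centric (h : Om p S O) (hc : centralizerIn S O ≤ O) : F.IsCentric O := by
  refine ⟨h.le, fun Q hQ => ?_⟩
  obtain ⟨f, hf⟩ := isConj_iff_fiso.1 hQ
  rw [h.fiso hf]; exact hc

theorem Om.ZO_le (h : Om p S O) (hE : F.IsCentric E) : ZO O ≤ E := by
  intro z hz
  refine hE.2 E (isConj_refl F hE.1) (mem_centralizerIn.2 ⟨h.le (mem_ZO.1 hz).1, ?_⟩)
  rw [mem_centralizer_iff]
  exact fun x hx => h.central (hE.1 hx) hz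

theorem two_inv {p : ℕ} (hp : p.Prime) (hp2 : p ≠ 2) : ((p + 1) / 2) * 2 ≡ 1 [MOD p] := by
  have hodd : Odd p := hp.odd_of_ne_two hp2
  obtain ⟨k, hk⟩ := hodd
  have h1 : (p + 1) / 2 * 2 = p + 1 := by omega
  rw [h1]
  have : p + 1 ≡ 0 + 1 [MOD p] := Nat.ModEq.add_right 1 ((Nat.modEq_zero_iff_dvd).2 dvd_rfl)
  simpa using this

/-- `y² = 1` and `y = 2` mod `p` are incompatible for `p ≥ 5` -/
theorem not_two {p : ℕ} (hp5 : 5 ≤ p) {y : ℕ} (h1 : y * y ≡ 1 [MOD p]) (h2 : y ≡ 2 [MOD p]) : False := by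
  have h3 : 2 * 2 ≡ 1 [MOD p] := (Nat.ModEq.mul h2 h2).symm.trans h1
  have h4 : p ∣ 2 * 2 - 1 := (Nat.modEq_iff_dvd' (by norm_num)).1 h3.symm
  have := Nat.le_of_dvd (by norm_num) h4
  omega

variable [Finite S] [hp : Fact p.Prime]

/-- essential subgroups do not consist of central elements of order `p` only -/
theorem Om.exists_noncentral (h : Om p S O) (hF : F.IsSaturated p) (hp2 : p ≠ 2) (hE : F.IsEssential p E) :
    ∃ c ∈ E, c ∈ O ∧ c ∉ ZO O := by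
  by_contra hcon
  push Not at hcon
  have hS := h.hS
  have hES := hE.1.1
  have hfE : Finite E := finite_of_le hES
  have hes := essS_of_essential hS hF hE
  let K : Subgroup (MulAut E) :=
    { carrier := {α | α ∈ F.autGroup E ∧ ∀ x : E, x ^ p = 1 → α x = x}
      one_mem' := ⟨one_mem _, fun _ _ => rfl⟩
      mul_mem' := by
        rintro α β ⟨h1, h2⟩ ⟨h3, h4⟩
        exact ⟨mul_mem h1 h3, fun x hx => by rw [MulAut.mul_apply, h4 x hx, h2 x hx]⟩
      inv_mem' := by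
        rintro α ⟨h1, h2⟩
        refine ⟨inv_mem h1, fun x hx => ?_⟩
        conv_lhs => rw [← h2 x hx]
        exact MulAut.inv_apply_self _ _ _ }
  obtain ⟨u, hu, hu1⟩ := hes.out
  obtain ⟨g, hg⟩ := hes.rad K (fun α hα => hα.1) (by
    rintro ⟨α, hα⟩
    obtain ⟨k, hk⟩ := exists_pow_eq_one hp2 (isPGroup_of_le hS hES) hα.2
    exact ⟨k, Subtype.ext hk⟩) (by
    rintro α hα κ ⟨h1, h2⟩
    refine ⟨mul_mem (mul_mem hα h1) (inv_mem hα), fun x hx => ?_⟩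
    rw [MulAut.mul_apply, MulAut.mul_apply, h2 (α⁻¹ x) (by rw [← map_pow, hx, map_one]), MulAut.apply_inv_self]) u (by
    refine ⟨hes.le hu, fun x hx => ?_⟩
    obtain ⟨g, hg, hgu⟩ := mem_autInducedBy_iff.1 hu
    refine Subtype.ext ?_
    have hxO : (x : Ω) ∈ O := (h.mem _).2 ⟨hES x.2, congrArg Subtype.val hx⟩
    rw [hgu, h.central hg (hcon x x.2 hxO), mul_inv_cancel_right])
  exact hu1 g hg

theorem Om.caseB1 (h : Om p S O) (hF : F.IsSaturated p) (hp5 : 5 ≤ p) (hE : F.IsEssential p E) (hOE : ¬ O ≤ E) :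
    E ≤ O ∧ ∃ b ∈ E, b ∉ ZO O ∧ (∀ t ∈ normalizerIn S E, t ∈ O) ∧ ∃ f : Ω → Ω, FIso F O O f ∧ f b = b ^ 2 := by
  have hp2 : p ≠ 2 := by omega
  have hS := h.hS
  have hES := hE.1.1
  have hfE : Finite E := finite_of_le hES
  have hes := essS_of_essential hS hF hE
  have hZE := h.ZO_le hE.1
  obtain ⟨c0, hc0E, hc0O, hc0Z⟩ := h.exists_noncentral hF hp2 hE
  obtain ⟨x0, hx0O, hx0E⟩ : ∃ x ∈ O, x ∉ E := by
    by_contra hcon; push Not at hcon; exact hOE hcon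
  set M : Subgroup E := (E ⊓ O).subgroupOf E with hM
  have hMmem : ∀ x : E, x ∈ M ↔ x ^ p = 1 := by
    intro x
    rw [hM, mem_subgroupOf, mem_inf, h.mem]
    constructor
    · rintro ⟨-, -, h1⟩; exact Subtype.ext h1
    · intro h1; exact ⟨x.2, hES x.2, congrArg Subtype.val h1⟩
  have hcard : Nat.card (E ⊓ O : Subgroup Ω) = p ^ 2 :=
    h.heis.card_mid (le_inf hZE inf_le_left) inf_le_right ⟨c0, ⟨hc0E, hc0O⟩, hc0Z⟩ ⟨x0, hx0O, fun hh => hx0E hh.1⟩
  have hMcard : Nat.card M = p ^ 2 * Nat.card (⊥ : Subgroup E) := by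
    rw [card_bot, mul_one, hM, Nat.card_congr (subgroupOfEquivOfLe inf_le_left).toEquiv, hcard]
  obtain ⟨c1, c2, c3, c4⟩ := hes.section_lemma (isPGroup_of_le hS hES) (M := M) (N := ⊥)
    (fun α _ x hx => by rw [hMmem, ← map_pow, (hMmem x).1 hx, map_one])
    (fun α _ x hx => by rw [mem_bot.1 hx, map_one]; exact one_mem _) bot_le hMcard
    (fun x hx => by rw [(hMmem x).1 hx]; exact one_mem _)
    (fun α _ hα => exists_pow_eq_one hp2 (isPGroup_of_le hS hES) (fun x hx =>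
      (inv_mul_eq_one.1 (mem_bot.1 (hα x ((hMmem x).2 hx)))).symm))
  obtain ⟨α, hα, hαB⟩ : ∃ α ∈ F.autGroup E, α ∉ extAuts F E :=
    SetLike.exists_of_lt (lt_of_le_of_ne hes.ext_le hes.ext_ne)
  obtain ⟨a, ha, b, hb, haN, hgen, hab, hba, s, hs, hsa, hsb, hUs, ⟨t, ht, htb, hta, -⟩, htor⟩ := c4 α hα hαB
  rw [mem_bot, inv_mul_eq_one] at hsa hsb htb hta
  have ha1 : a ≠ 1 := fun e => haN (mem_bot.2 e)
  have hgen' : ∀ x ∈ M, ∃ i j : ℕ, x = a ^ i * b ^ j := by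
    intro x hx
    obtain ⟨i, j, hij⟩ := hgen x hx
    exact ⟨i, j, (inv_mul_eq_one.1 (mem_bot.1 hij)).symm⟩
  have hMc : ∀ m ∈ M, ∀ g : E, g * m = m * g := by
    intro m hm g
    have h1 := inv_mul_eq_one.1 (mem_bot.1 (c1 g m hm))
    conv_rhs => rw [h1]
    group
  have hinnM : ∀ g : E, ∀ m ∈ M, MulAut.conj g m = m := by
    intro g m hm
    rw [MulAut.conj_apply, hMc m hm g, mul_inv_cancel_right]
  have hap : a ^ p = 1 := (hMmem a).1 ha
  have hspow : ∀ k : ℕ, (s ^ k) a = a ∧ (s ^ k) b = b * a ^ k := by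
    intro k
    induction k with
    | zero => exact ⟨rfl, by simp⟩
    | succ k ih =>
      refine ⟨by rw [pow_succ', MulAut.mul_apply, ih.1, ← hsa], ?_⟩
      rw [pow_succ', MulAut.mul_apply, ih.2, map_mul, map_pow, ← hsa, ← hsb, pow_succ', mul_assoc]
  have hsp : ∃ g : E, s ^ p = MulAut.conj g := by
    refine c3 _ (pow_mem (hes.le hs) p) fun x hx => ?_
    obtain ⟨i, j, rfl⟩ := hgen' x hx
    rw [mem_bot, inv_mul_eq_one, map_mul, map_pow, map_pow, (hspow p).1, (hspow p).2, hap, mul_one]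
  -- elements of S inducing automorphisms
  have hnp : ∀ (t : Ω) (ht : t ∈ normalizerIn S E), t ∉ E → ∀ n : ℕ,
      (∃ g : E, conjAut E t ht.2 = s ^ n * MulAut.conj g) → ¬ p ∣ n := by
    rintro t ht htE n ⟨g, hg⟩ ⟨m, rfl⟩
    obtain ⟨g', hg'⟩ := hsp
    apply htE
    refine mem_of_conj_mem_inn (hE.1.2 E (isConj_refl F hES)) ht.1 ht.2 ⟨g' ^ m * g, ?_⟩ hES
    rw [hg, pow_mul, hg', map_mul, map_pow]
  -- an element of O normalizing E
  obtain ⟨h0, hh0O, hh0N, hh0E⟩ : ∃ h0 ∈ O, h0 ∈ normalizerIn S E ∧ h0 ∉ E := by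
    have hlt : E < E ⊔ O := lt_of_le_of_ne le_sup_left (fun e => hOE (e ▸ le_sup_right))
    obtain ⟨t, ht, htE⟩ := SetLike.exists_of_lt (lt_normalizerIn hS (sup_le hES h.le) hlt)
    obtain ⟨y, hy, z, hz, hyz⟩ := (mem_sup_of_normalizes (hES.trans h.normal)).1 ht.1
    have hzt : z = y⁻¹ * t := by rw [← hyz]; group
    refine ⟨z, hz, ⟨h.le hz, ?_⟩, fun hzE => htE ?_⟩
    · rw [hzt]; exact (normalizer (E : Set Ω)).mul_mem ((normalizer (E : Set Ω)).inv_mem (le_normalizer hy)) ht.2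
    · rw [← hyz]; exact mul_mem hy hzE
  have hh0p : h0 ^ p = 1 := ((h.mem h0).1 hh0O).2
  obtain ⟨n, g, hng⟩ := hUs (conjAut E h0 hh0N.2) (conjAut_mem_autInducedBy hh0N.2 hh0N.1)
  have hn := hnp h0 hh0N hh0E n ⟨g, hng⟩
  have hcpow : ∀ (k : ℕ) (t : Ω) (htn : t ∈ normalizer (E : Set Ω)) (x : E), (((conjAut E t htn ^ k) x : E) : Ω) = t ^ k * x * (t ^ k)⁻¹ := by
    intro k t htn
    induction k with
    | zero => intro x; simp
    | succ k ih =>
      intro x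
      rw [pow_succ', MulAut.mul_apply, conjAut_apply, ih, pow_succ']
      group
  have hEO : E ≤ O := by
    by_contra hEO
    refine Cfsg.Agent.Lib.RankTwoNoExt.no_ext hp5 (isPGroup_of_le hS hES) hMc hMmem ha hb ha1 hgen' hsa.symm
      hsb.symm htb.symm hta.symm (σ := conjAut E h0 hh0N.2) (n := n) ?_ ?_ hn ?_ ?_
    · rw [hng, MulAut.mul_apply, hinnM g a ha, (hspow n).1]
    · rw [hng, MulAut.mul_apply, hinnM g b hb, (hspow n).2]
    · ext x
      rw [hcpow, hh0p]; simp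
    · obtain ⟨x, hx, hxO⟩ : ∃ x ∈ E, x ∉ O := by
        by_contra hcon; push Not at hcon; exact hEO hcon
      exact ⟨⟨x, hx⟩, fun hh => hxO (mem_subgroupOf.1 hh).2⟩
  refine ⟨hEO, b, b.2, ?_⟩
  have hMtop : ∀ x : E, x ∈ M := fun x => mem_subgroupOf.2 ⟨x.2, hEO x.2⟩
  have hbZ : (b : Ω) ∉ ZO O := by
    intro hbZ
    obtain ⟨g, hg, hgs⟩ := mem_autInducedBy_iff.1 hs
    have h1 := hgs b
    rw [← hsb, h.central hg hbZ, mul_inv_cancel_right] at h1
    apply ha1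
    have h2 : b * a = b := Subtype.ext h1
    exact mul_eq_left.1 h2
  -- N_S(E) ≤ O
  have hNO : ∀ t ∈ normalizerIn S E, t ∈ O := by
    intro t ht
    have hinn1 : ∀ g : E, MulAut.conj g = 1 := fun g => by ext x; rw [hinnM g x (hMtop x)]; rfl
    obtain ⟨m, g', hm⟩ := hUs (conjAut E t ht.2) (conjAut_mem_autInducedBy ht.2 ht.1)
    rw [hinn1, mul_one] at hm hng
    have hsp1 : s ^ p = 1 := by
      obtain ⟨g, hg⟩ := hsp
      rw [hg, hinn1]
    -- k with n k = m mod p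
    obtain ⟨k, hk⟩ : ∃ k : ℕ, s ^ (n * k) = s ^ m := by
      have hcop : Nat.Coprime n (orderOf s) := by
        have h1 := orderOf_dvd_of_pow_eq_one hsp1
        exact Nat.Coprime.coprime_dvd_right h1 ((Nat.Prime.coprime_iff_not_dvd hp.out).2 hn).symm
      obtain ⟨r, hr⟩ := exists_pow_eq_self_of_coprime hcop
      exact ⟨r * m, by rw [← mul_assoc, pow_mul, pow_mul s n r, hr]⟩
    have hz : (h0 ^ k)⁻¹ * t ∈ centralizerIn S E := by
      refine mem_centralizerIn.2 ⟨mul_mem (inv_mem (pow_mem hh0N.1 k)) ht.1, ?_⟩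
      rw [mem_centralizer_iff']
      intro x hx
      have h1 : (conjAut E t ht.2) ⟨x, hx⟩ = ((conjAut E h0 hh0N.2) ^ k) ⟨x, hx⟩ := by
        rw [hm, hng, ← pow_mul, hk]
      have h2 := congrArg Subtype.val h1
      rw [hcpow, conjAut_apply] at h2
      have h3 : t * x * t⁻¹ = h0 ^ k * x * (h0 ^ k)⁻¹ := h2
      calc (h0 ^ k)⁻¹ * t * x * ((h0 ^ k)⁻¹ * t)⁻¹ = (h0 ^ k)⁻¹ * (t * x * t⁻¹) * h0 ^ k := by group
        _ = x := by rw [h3]; group
    have hz2 := hEO (hE.1.2 E (isConj_refl F hES) hz)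
    have h3 : t = h0 ^ k * ((h0 ^ k)⁻¹ * t) := by group
    rw [h3]; exact mul_mem (pow_mem hh0O k) hz2
  refine ⟨hbZ, hNO, ?_⟩
  -- the torus element
  obtain ⟨τ, hτ, -, hτU, hτa, hτb⟩ := htor _ _ (two_inv hp.out hp2)
  obtain ⟨f, hf, hfE', hfτ⟩ := exists_ext_of_norm hS hF hE.2.1 hτ hτU
  have hNeq : normalizerIn S E = O := by
    refine le_antisymm hNO fun x hx => ⟨h.le hx, ?_⟩
    have hfin : Finite (E : Set Ω) := hfE
    refine mem_normalizer_fintype fun y hy => ?_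
    have h1 := hZE (h.heis.comm_mem (hEO hy) hx)
    have h2 := mul_mem hy h1
    rwa [mul_inv_cancel_left] at h2
  rw [hNeq] at hf
  refine ⟨f, hf, ?_⟩
  rw [hfτ b]
  rw [mem_bot, inv_mul_eq_one] at hτb
  rw [← hτb]; rfl

end Cfsg.Agent.Lib.RankTwoFusion
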