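import Cfsg.Agent.Lib.RankTwoFusion
import Cfsg.Agent.Lib.PGroupRank

/-! Essential subgroups over `p`-groups whose elements of order `p ≥ 5` form a nonabelian group `O` of order `p³`:
there are none unless `S = O`. -/

set_option autoImplicit false

namespace Cfsg.Agent.Lib.RankTwoFusion

open Cfsg Cfsg.FusionSystem Subgroup
open Cfsg.Agent.Lib.FusionBasic Cfsg.Agent.Lib.FusionSat Cfsg.Agent.Lib.FusionNormal Cfsg.Agent.Lib.FusionAlperin
open Cfsg.Agent.Lib.RankTwoHeis Cfsg.Agent.Lib.EssSection Cfsg.Agent.Lib.EssTorus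

variable {Ω : Type*} [Group Ω] {S : Subgroup Ω} {F : FusionSystem S} {p : ℕ} {O E : Subgroup Ω}

variable [Finite S] [hp : Fact p.Prime]

theorem Om.caseB (h : Om p S O) (hF : F.IsSaturated p) (hp5 : 5 ≤ p) (hE : F.IsEssential p E) (hOE : ¬ O ≤ E)
    (hSO : ∃ s ∈ S, s ∉ O) : False := by
  have hp2 : p ≠ 2 := by omega
  have hS := h.hS
  have hES := hE.1.1
  have hOfin := h.heis.finite
  have hfE : Finite E := finite_of_le hES
  have hZE := h.ZO_le hE.1
  obtain ⟨hEO, e, heE, heZ, hNO, f0, hf0, hf0e⟩ := h.caseB1 hF hp5 hE hOE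
  obtain ⟨x0, hx0O, hx0E⟩ : ∃ x ∈ O, x ∉ E := by
    by_contra hcon; push Not at hcon; exact hOE hcon
  have heO := hEO heE
  have hsit : Sit p S O e := by
    refine ⟨hS, inferInstance, h.heis, h.le, fun x hx => ?_, heO, heZ, fun s hs hse => ?_, hSO⟩
    · rw [h.mem]; exact ⟨fun hh => hh.2, fun hh => ⟨hx, hh⟩⟩
    · apply hNO
      refine ⟨hs, ?_⟩
      have hfin : Finite (E : Set Ω) := hfE
      refine mem_normalizer_fintype fun y hy => ?_
      obtain ⟨n, hn⟩ := h.heis.mid_gen hZE hEO ⟨x0, hx0O, hx0E⟩ heE heZ hy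
      have h1 : y = e ^ n * ((e ^ n)⁻¹ * y) := by group
      have h2 : s * e * s⁻¹ = (s * e * s⁻¹ * e⁻¹) * e := by group
      have h3 : s * y * s⁻¹ = (s * e * s⁻¹) ^ n * (s * ((e ^ n)⁻¹ * y) * s⁻¹) := by
        rw [conj_pow]; group
      rw [h3, h.central hs hn, mul_inv_cancel_right, h2]
      exact E.mul_mem (E.pow_mem (E.mul_mem (hZE hse) heE) n) (hZE hn)
  obtain ⟨V, hZV, hVO, heV, hV0, hVmem, hTop, hmain⟩ := hsit.main
  have hVn : (V.subgroupOf O).Normal := by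
    refine ⟨fun y hy g => ?_⟩
    rw [mem_subgroupOf] at hy ⊢
    have h5 := hZV (h.heis.comm_mem y.2 g.2)
    have h6 := V.mul_mem hy h5
    rw [mul_inv_cancel_left] at h6
    exact h6
  obtain ⟨r, hr⟩ : ∃ r : O →* O ⧸ V.subgroupOf O, ∀ s : O, r s = 1 ↔ (s : Ω) ∈ V :=
    ⟨QuotientGroup.mk' _, fun s => QuotientGroup.eq_one_iff s⟩
  have hreq : ∀ x y : O, r x = r y ↔ ((x : Ω))⁻¹ * y ∈ V := by
    intro x y
    rw [← inv_mul_eq_one, ← map_inv, ← map_mul, hr]; rfl
  -- elements outside V: x^y V = x^2 V implies y = 2 mod p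
  have hkey : ∀ x : O, (x : Ω) ∉ V → ∀ y : ℕ, r x ^ y = r x ^ 2 → y ≡ 2 [MOD p] := by
    intro x hx y hxy
    have h1 : orderOf (r x) = p := by
      refine orderOf_eq_prime ?_ (fun hh => hx ((hr x).1 hh))
      rw [← map_pow]
      have : x ^ p = 1 := Subtype.ext (h.heis.exp x x.2)
      rw [this, map_one]
    rw [← h1]; exact pow_eq_pow_iff_modEq.1 hxy
  -- centric
  have hcO : centralizerIn S O ≤ O := by
    intro c hc
    apply hEO
    refine hE.1.2 E (isConj_refl F hES) (mem_centralizerIn.2 ⟨hc.1, ?_⟩)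
    have h1 : c ∈ centralizer (O : Set Ω) := (mem_centralizerIn.1 hc).2
    rw [mem_centralizer_iff] at h1 ⊢
    exact fun x hx => h1 x (hEO hx)
  have hOfn : F.IsFullyNormalized O := h.fullyNormalized
  have hOS : O < S := by
    refine lt_of_le_of_ne h.le ?_
    rintro rfl
    obtain ⟨s, hs, hs'⟩ := hSO
    exact hs' hs
  rcases essential_dichotomy hS hF hOS hOfn with ⟨-, hext⟩ | ⟨hOess, -⟩
  · -- not essential
    obtain ⟨φ0, hφ0, hφ0f⟩ := exists_aut_of_fmap hf0.1 (fun x hx => hf0.mem hx)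
    let B' : Subgroup (MulAut O) :=
      { carrier := {α | (∀ v : O, (v : Ω) ∈ V → ((α v : O) : Ω) ∈ V) ∧ ∃ y : ℕ, y * y ≡ 1 [MOD p] ∧ ∀ x : O, r (α x) = r x ^ y}
        one_mem' := ⟨fun v hv => hv, 1, rfl, fun x => by rw [pow_one]; rfl⟩
        mul_mem' := by
          rintro α β ⟨h1, y, hy, h2⟩ ⟨h3, z, hz, h4⟩
          refine ⟨fun v hv => h1 _ (h3 v hv), y * z, ?_, fun x => ?_⟩
          · have := Nat.ModEq.mul hy hz
            have e : y * z * (y * z) = (y * y) * (z * z) := by ring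
            rw [e]; exact this
          · rw [MulAut.mul_apply, h2, h4, ← pow_mul, mul_comm]
        inv_mem' := by
          rintro α ⟨h1, y, hy, h2⟩
          have hrp : ∀ x : O, (r x) ^ p = 1 := fun x => by
            rw [← map_pow]
            have : x ^ p = 1 := Subtype.ext (h.heis.exp x x.2)
            rw [this, map_one]
          have h5 : ∀ x : O, r (α⁻¹ x) = r x ^ y := by
            intro x
            have h6 := h2 (α⁻¹ x)
            rw [MulAut.apply_inv_self] at h6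
            rw [h6, ← pow_mul]
            conv_lhs => rw [← pow_one (r (α⁻¹ x))]
            by_cases hc : r (α⁻¹ x) = 1
            · rw [hc, one_pow, one_pow]
            · rw [pow_eq_pow_iff_modEq, orderOf_eq_prime (hrp _) hc]; exact hy.symm
          refine ⟨fun v hv => ?_, y, hy, h5⟩
          rw [← hr, h5, (hr v).2 hv, one_pow] }
    have hle : extAuts F O ≤ B' := by
      unfold extAuts
      rw [closure_le]
      rintro α ⟨T, f, hOT, hf, hfα⟩
      obtain ⟨t, ht, htO⟩ := SetLike.exists_of_lt hOT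
      have hTS := hTop T hOT.le hf.le ⟨t, ht, htO⟩
      subst hTS
      have hfi : FIso F T T f := hf.fiso_of_card le_rfl (fun x hx => hf.map_mem hx) le_rfl
      obtain ⟨h1, y, hy, h2⟩ := hmain F f hfi
      refine ⟨fun v hv => by rw [← hfα]; exact h1 v hv, y, hy, fun x => ?_⟩
      have h3 := h2 x x.2
      symm
      rw [← map_pow, hreq]
      rw [← hfα x]; exact h3
    have hφB : φ0 ∈ B' := hle (by rw [hext]; exact hφ0)
    obtain ⟨-, y, hy, h2⟩ := hφB
    have h3 := h2 ⟨e, heO⟩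
    have h4 : φ0 ⟨e, heO⟩ = ⟨e, heO⟩ ^ 2 := Subtype.ext (by rw [hφ0f]; exact hf0e)
    rw [h4, map_pow] at h3
    exact not_two hp5 hy (hkey ⟨e, heO⟩ heV y h3.symm)
  · -- O essential
    have hes := essS_of_essential hS hF hOess
    set N : Subgroup O := (ZO O).subgroupOf O with hN
    have hNcard : Nat.card (⊤ : Subgroup O) = p ^ 2 * Nat.card N := by
      have h1 : Nat.card N = p := by
        rw [hN, Nat.card_congr (subgroupOfEquivOfLe (show ZO O ≤ O from inf_le_left)).toEquiv, h.heis.card_ZO]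
      rw [card_top, h1, h.heis.card]; ring
    have hNinv : ∀ α ∈ F.autGroup O, ∀ x ∈ N, α x ∈ N := by
      intro α hα x hx
      rw [hN, mem_subgroupOf, mem_ZO] at hx ⊢
      refine ⟨Subtype.coe_prop _, fun y hy => ?_⟩
      have h1 := hx.2 (α⁻¹ ⟨y, hy⟩ : O) (Subtype.coe_prop _)
      have h2 : (α⁻¹ ⟨y, hy⟩ : O) * x = x * (α⁻¹ ⟨y, hy⟩ : O) := Subtype.ext h1
      have h3 := congrArg α h2
      rw [map_mul, map_mul, MulAut.apply_inv_self] at h3
      exact congrArg Subtype.val h3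
    have hNp : ∀ x ∈ N, x ^ p = 1 := fun x _ => Subtype.ext (h.heis.exp x x.2)
    have hNcen : ∀ x ∈ N, ∀ y : O, y * x = x * y := fun x hx y => Subtype.ext ((mem_ZO.1 (mem_subgroupOf.1 hx)).2 y y.2)
    obtain ⟨c1, c2, c3, c4⟩ := hes.section_lemma (isPGroup_of_le hS h.le) (M := ⊤) (N := N)
      (fun _ _ _ _ => mem_top _) hNinv le_top hNcard
      (fun x _ => by
        have : x ^ p = 1 := Subtype.ext (h.heis.exp x x.2)
        rw [this]; exact one_mem _) (by
      intro α hα hαN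
      refine ⟨1, ?_⟩
      -- α is trivial on N
      have hcomm : ∀ x y : O, x⁻¹ * (y * x * y⁻¹) ∈ N := fun x y => mem_subgroupOf.2 (h.heis.comm_mem x.2 y.2)
      obtain ⟨x, hx, y, hy, hxy⟩ := h.heis.na
      set z : O := (⟨x, hx⟩ : O)⁻¹ * (⟨y, hy⟩ * ⟨x, hx⟩ * (⟨y, hy⟩ : O)⁻¹) with hz
      have hzN : z ∈ N := hcomm _ _
      have hz1 : (z : Ω) ≠ 1 := by
        intro hh
        apply hxy
        have h1 : x⁻¹ * (y * x * y⁻¹) = 1 := hh
        rw [inv_mul_eq_one, eq_mul_inv_iff_mul_eq] at h1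
        exact h1
      have hαz : α z = z := by
        obtain ⟨m1, hm1, e1⟩ : ∃ m ∈ N, α ⟨x, hx⟩ = ⟨x, hx⟩ * m := ⟨_, hαN _ (mem_top _), by rw [mul_inv_cancel_left]⟩
        obtain ⟨m2, hm2, e2⟩ : ∃ m ∈ N, α ⟨y, hy⟩ = ⟨y, hy⟩ * m := ⟨_, hαN _ (mem_top _), by rw [mul_inv_cancel_left]⟩
        rw [hz, map_mul, map_mul, map_mul, map_inv, map_inv, e1, e2]
        have f1 := hNcen m1 hm1
        have f2 := hNcen m2 hm2
        set X : O := ⟨x, hx⟩
        set Y : O := ⟨y, hy⟩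
        calc (X * m1)⁻¹ * (Y * m2 * (X * m1) * (Y * m2)⁻¹) = m1⁻¹ * X⁻¹ * (Y * (m2 * (X * m1)) * m2⁻¹ * Y⁻¹) := by group
          _ = m1⁻¹ * X⁻¹ * (Y * ((X * m1) * m2) * m2⁻¹ * Y⁻¹) := by rw [f2 (X * m1)]
          _ = m1⁻¹ * (X⁻¹ * Y * X * m1) * Y⁻¹ := by group
          _ = m1⁻¹ * (m1 * (X⁻¹ * Y * X)) * Y⁻¹ := by rw [f1 (X⁻¹ * Y * X)]
          _ = X⁻¹ * (Y * X * Y⁻¹) := by group
      have hαN1 : ∀ w ∈ N, α w = w := by
        intro w hw
        obtain ⟨n, hn⟩ := h.heis.zpow_of (mem_subgroupOf.1 hzN) hz1 (mem_subgroupOf.1 hw)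
        have : w = z ^ n := Subtype.ext hn
        rw [this, map_pow, hαz]
      rw [pow_one]
      ext w
      have h1 : ∀ k : ℕ, (α ^ k) w = w * (w⁻¹ * α w) ^ k := by
        intro k
        induction k with
        | zero => simp
        | succ k ih =>
          rw [pow_succ', MulAut.mul_apply, ih, map_mul, map_pow, hαN1 _ (hαN w (mem_top _)), pow_succ', ← mul_assoc]
          congr 1
          group
      rw [h1, hNp _ (hαN w (mem_top _)), mul_one]; rfl)
    obtain ⟨α, hα, hαB⟩ : ∃ α ∈ F.autGroup O, α ∉ extAuts F O :=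
      SetLike.exists_of_lt (lt_of_le_of_ne hes.ext_le hes.ext_ne)
    obtain ⟨a, -, b, -, haN, hgen, hab, hba, s, hs, hsa, hsb, hUs, -, htor⟩ := c4 α hα hαB
    -- a ∈ V
    have haV : (a : Ω) ∈ V := by
      refine hVmem a a.2 fun t ht => ?_
      obtain ⟨n, g, hn⟩ := hUs (conjAut O t (h.normal ht)) (conjAut_mem_autInducedBy (h.normal ht) ht)
      have h1 : ∀ k : ℕ, a⁻¹ * (s ^ k) a ∈ N := by
        intro k
        induction k with
        | zero =>
          have : a⁻¹ * (s ^ 0) a = 1 := by rw [pow_zero, MulAut.one_apply, inv_mul_cancel]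
          rw [this]; exact one_mem _
        | succ k ih =>
          have h2 : a⁻¹ * (s ^ (k + 1)) a = (a⁻¹ * s a) * s (a⁻¹ * (s ^ k) a) := by
            rw [pow_succ', MulAut.mul_apply, map_mul, map_inv]; group
          rw [h2]; exact N.mul_mem hsa (hNinv s (hes.le hs) _ ih)
      have h2 : a⁻¹ * (conjAut O t (h.normal ht)) a ∈ N := by
        rw [hn, MulAut.mul_apply, MulAut.conj_apply]
        have h3 := c1 g a (mem_top _)
        have h4 : a⁻¹ * (s ^ n) (g * a * g⁻¹) = (a⁻¹ * (s ^ n) a) * (s ^ n) (a⁻¹ * (g * a * g⁻¹)) := by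
          rw [map_mul (s ^ n) a⁻¹, map_inv]; group
        rw [h4]; exact N.mul_mem (h1 n) (hNinv _ (pow_mem (hes.le hs) n) _ h3)
      have h3 : (a : Ω)⁻¹ * (t * a * t⁻¹) ∈ ZO O := mem_subgroupOf.1 h2
      have h4 : t * (a : Ω) * t⁻¹ * (a : Ω)⁻¹ = a * ((a : Ω)⁻¹ * (t * a * t⁻¹)) * (a : Ω)⁻¹ := by group
      rw [h4, (mem_ZO.1 h3).2 a a.2, mul_inv_cancel_right]; exact h3
    have hbV : (b : Ω) ∉ V := by
      intro hbV
      apply heV
      obtain ⟨i, j, hij⟩ := hgen ⟨e, heO⟩ (mem_top _)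
      have h1 : ((a : Ω) ^ i * (b : Ω) ^ j)⁻¹ * e ∈ ZO O := hij
      have h2 : e = ((a : Ω) ^ i * (b : Ω) ^ j) * (((a : Ω) ^ i * (b : Ω) ^ j)⁻¹ * e) := by group
      rw [h2]
      exact V.mul_mem (V.mul_mem (V.pow_mem haV i) (V.pow_mem hbV j)) (hZV h1)
    obtain ⟨τ, hτ, -, hτU, hτa, hτb⟩ := htor _ _ (two_inv hp.out hp2)
    obtain ⟨f, hf, hfE', hfτ⟩ := exists_ext_of_norm hS hF hOfn hτ hτU
    rw [h.normalizerIn_eq] at hf
    obtain ⟨h1, y, hy, h2⟩ := hmain F f hf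
    have h3 : r b ^ y = r b ^ 2 := by
      have h4 : r (b ^ y) = r (τ b) := by
        rw [hreq, ← hfτ]; exact h2 b b.2
      have h5 : r (b ^ 2) = r (τ b) := by
        rw [hreq]; exact hZV (mem_subgroupOf.1 hτb)
      rw [← map_pow, ← map_pow, h4, h5]
    exact not_two hp5 hy (hkey b hbV y h3)

end Cfsg.Agent.Lib.RankTwoFusion
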