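import Cfsg.Agent.Lib.RankTwoFusion2
import Cfsg.Agent.Lib.RankTwoCaseA

/-! Essential subgroups over `p`-groups whose elements of order `p ≥ 5` form a nonabelian group `O` of order `p³`:
essential subgroups containing `O`. -/

set_option autoImplicit false

namespace Cfsg.Agent.Lib.RankTwoFusion

open Cfsg Cfsg.FusionSystem Subgroup
open Cfsg.Agent.Lib.FusionBasic Cfsg.Agent.Lib.FusionSat Cfsg.Agent.Lib.FusionNormal Cfsg.Agent.Lib.FusionAlperin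
open Cfsg.Agent.Lib.RankTwoHeis Cfsg.Agent.Lib.EssSection Cfsg.Agent.Lib.EssTorus

variable {Ω : Type*} [Group Ω] {S : Subgroup Ω} {F : FusionSystem S} {p : ℕ} {O E : Subgroup Ω}

theorem Om.pow_fix (h : Om p S O) (hES : E ≤ S) (hOE : O ≤ E) {α : MulAut E}
    (hα : ∀ x : E, (x : Ω) ∈ O → ((x⁻¹ * α x : E) : Ω) ∈ ZO O) (x : E) (hx : x ^ p = 1) : (α ^ p) x = x := by
  have hO : ∀ x : E, x ^ p = 1 → (x : Ω) ∈ O := fun x hx => (h.mem _).2 ⟨hES x.2, congrArg Subtype.val hx⟩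
  have hcen : ∀ m : E, (m : Ω) ∈ ZO O → ∀ w : E, w * m = m * w := fun m hm w => Subtype.ext (h.central (hES w.2) hm)
  obtain ⟨x0, hx0, y0, hy0, hxy⟩ := h.heis.na
  obtain ⟨X, hX⟩ : ∃ X : E, (X : Ω) = x0 := ⟨⟨x0, hOE hx0⟩, rfl⟩
  obtain ⟨Y, hY⟩ : ∃ Y : E, (Y : Ω) = y0 := ⟨⟨y0, hOE hy0⟩, rfl⟩
  set z : E := X⁻¹ * (Y * X * Y⁻¹) with hz
  have hzZ : (z : Ω) ∈ ZO O := by
    have : (z : Ω) = x0⁻¹ * (y0 * x0 * y0⁻¹) := by rw [hz, ← hX, ← hY]; rfl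
    rw [this]; exact h.heis.comm_mem hx0 hy0
  have hz1 : (z : Ω) ≠ 1 := by
    intro hh
    apply hxy
    have h1 : x0⁻¹ * (y0 * x0 * y0⁻¹) = 1 := by rw [← hX, ← hY]; exact hh
    rw [inv_mul_eq_one, eq_mul_inv_iff_mul_eq] at h1
    exact h1
  have hαz : α z = z := by
    obtain ⟨m1, hm1, e1⟩ : ∃ m : E, (m : Ω) ∈ ZO O ∧ α X = X * m :=
      ⟨_, hα X (by rw [hX]; exact hx0), by rw [mul_inv_cancel_left]⟩
    obtain ⟨m2, hm2, e2⟩ : ∃ m : E, (m : Ω) ∈ ZO O ∧ α Y = Y * m :=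
      ⟨_, hα Y (by rw [hY]; exact hy0), by rw [mul_inv_cancel_left]⟩
    rw [hz, map_mul, map_mul, map_mul, map_inv, map_inv, e1, e2]
    have f1 := hcen m1 hm1
    have f2 := hcen m2 hm2
    calc (X * m1)⁻¹ * (Y * m2 * (X * m1) * (Y * m2)⁻¹) = m1⁻¹ * X⁻¹ * (Y * (m2 * (X * m1)) * m2⁻¹ * Y⁻¹) := by group
      _ = m1⁻¹ * X⁻¹ * (Y * ((X * m1) * m2) * m2⁻¹ * Y⁻¹) := by rw [f2 (X * m1)]
      _ = m1⁻¹ * (X⁻¹ * Y * X * m1) * Y⁻¹ := by group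
      _ = m1⁻¹ * (m1 * (X⁻¹ * Y * X)) * Y⁻¹ := by rw [f1 (X⁻¹ * Y * X)]
      _ = X⁻¹ * (Y * X * Y⁻¹) := by group
  have hαN1 : ∀ w : E, (w : Ω) ∈ ZO O → α w = w := by
    intro w hw
    obtain ⟨n, hn⟩ := h.heis.zpow_of hzZ hz1 hw
    have : w = z ^ n := Subtype.ext hn
    rw [this, map_pow, hαz]
  have hxN := hα x (hO x hx)
  have h1 : ∀ k : ℕ, (α ^ k) x = x * (x⁻¹ * α x) ^ k := by
    intro k
    induction k with
    | zero => simp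
    | succ k ih =>
      rw [pow_succ', MulAut.mul_apply, ih, map_mul, map_pow, hαN1 _ hxN, pow_succ', ← mul_assoc]
      congr 1
      group
  have h2 : (x⁻¹ * α x) ^ p = 1 := Subtype.ext (h.heis.exp _ (mem_ZO.1 hxN).1)
  rw [h1, h2, mul_one]

variable [Finite S] [hp : Fact p.Prime]

theorem Om.caseA (h : Om p S O) (hF : F.IsSaturated p) (hp5 : 5 ≤ p) (hE : F.IsEssential p E) (hOE : O ≤ E) : False := by
  have hp2 : p ≠ 2 := by omega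
  have hS := h.hS
  have hES := hE.1.1
  have hfE : Finite E := finite_of_le hES
  have hes := essS_of_essential hS hF hE
  have hZOO : ZO O ≤ O := inf_le_left
  set M : Subgroup E := O.subgroupOf E with hM
  set N : Subgroup E := (ZO O).subgroupOf E with hN
  have hMmem : ∀ x : E, x ∈ M ↔ x ^ p = 1 := by
    intro x
    rw [hM, mem_subgroupOf, h.mem]
    constructor
    · rintro ⟨-, h1⟩; exact Subtype.ext h1
    · intro h1; exact ⟨hES x.2, congrArg Subtype.val h1⟩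
  have hMα : ∀ α : MulAut E, ∀ x, α x ∈ M ↔ x ∈ M := by
    intro α x
    rw [hMmem, hMmem, ← map_pow, map_eq_one_iff _ α.injective]
  have hNmem : ∀ x : E, x ∈ N ↔ x ∈ M ∧ ∀ y ∈ M, y * x = x * y := by
    intro x
    rw [hN, hM, mem_subgroupOf, mem_subgroupOf, mem_ZO]
    refine and_congr_right fun _ => ⟨fun h1 y hy => Subtype.ext (h1 y (mem_subgroupOf.1 hy)), fun h1 y hy => ?_⟩
    exact congrArg Subtype.val (h1 ⟨y, hOE hy⟩ (mem_subgroupOf.2 hy))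
  have hNα : ∀ α : MulAut E, ∀ x ∈ N, α x ∈ N := by
    intro α x hx
    rw [hNmem] at hx ⊢
    refine ⟨(hMα α x).2 hx.1, fun y hy => ?_⟩
    obtain ⟨y, rfl⟩ := α.surjective y
    rw [← map_mul, ← map_mul, hx.2 y ((hMα α y).1 hy)]
  have hcardM : Nat.card M = p ^ 2 * Nat.card N := by
    rw [hM, hN, Nat.card_congr (subgroupOfEquivOfLe hOE).toEquiv, Nat.card_congr (subgroupOfEquivOfLe (hZOO.trans hOE)).toEquiv,
      h.heis.card, h.heis.card_ZO]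
    ring
  obtain ⟨c1, c2, c3, c4⟩ := hes.section_lemma (isPGroup_of_le hS hES) (M := M) (N := N)
    (fun α _ x hx => (hMα α x).2 hx) (fun α _ x hx => hNα α x hx) (fun x hx => ((hNmem x).1 hx).1) hcardM
    (fun x hx => by rw [(hMmem x).1 hx]; exact one_mem _) (by
    intro α hα hαN
    obtain ⟨k, hk⟩ := exists_pow_eq_one hp2 (isPGroup_of_le hS hES) (h.pow_fix hES hOE (α := α) fun x hx =>
      mem_subgroupOf.1 (hαN x (mem_subgroupOf.2 hx)))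
    exact ⟨k + 1, by rw [pow_succ', pow_mul]; exact hk⟩)
  obtain ⟨α, hα, hαB⟩ : ∃ α ∈ F.autGroup E, α ∉ extAuts F E :=
    SetLike.exists_of_lt (lt_of_le_of_ne hes.ext_le hes.ext_ne)
  obtain ⟨a, haM, b, hbM, haN, hgen, hab, hba, s, hs, hsa, hsb, hUs, ⟨t, ht, htb, hta, -⟩, htor⟩ := c4 α hα hαB
  obtain ⟨τ, hτ, hτ4, hτU, hτa, hτb⟩ := htor 2 ((p + 1) / 2) (by rw [mul_comm]; exact two_inv hp.out hp2)
  obtain ⟨f, hf, hfE', hfτ⟩ := exists_ext_of_norm hS hF hE.2.1 hτ hτU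
  set P := normalizerIn S E with hP
  have hEP : E ≤ P := le_normalizerIn hES
  have hPS : P ≤ S := normalizerIn_le S E
  have hfP : Finite P := finite_of_le hPS
  obtain ⟨φ, -, hφf⟩ := exists_aut_of_fmap hf.1 (fun x hx => hf.mem hx)
  have hmemP : ∀ x : P, (x : Ω) ∈ normalizer (E : Set Ω) := fun x => x.2.2
  -- s^p is inner
  have hσ : ∀ u : MulAut E, (∃ g : E, u = MulAut.conj g) ↔ u ∈ (MulAut.conj (G := E)).range := by
    intro u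
    constructor
    · rintro ⟨g, rfl⟩; exact ⟨g, rfl⟩
    · rintro ⟨g, rfl⟩; exact ⟨g, rfl⟩
  have hInn : (MulAut.conj (G := E)).range.Normal := by
    refine ⟨?_⟩
    rintro _ ⟨g, rfl⟩ α
    refine ⟨α g, ?_⟩
    ext x
    simp [MulAut.conj_apply]
  let Q := MulAut E ⧸ (MulAut.conj (G := E)).range
  obtain ⟨κ, hκ⟩ : ∃ κ : MulAut E →* Q, ∀ u, κ u = 1 ↔ ∃ g : E, u = MulAut.conj g :=
    ⟨QuotientGroup.mk' _, fun u => (QuotientGroup.eq_one_iff u).trans (hσ u).symm⟩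
  have hspow : ∀ k : ℕ, a⁻¹ * (s ^ k) a ∈ N ∧ (b * a ^ k)⁻¹ * (s ^ k) b ∈ N := by
    intro k
    induction k with
    | zero => exact ⟨by rw [pow_zero, MulAut.one_apply, inv_mul_cancel]; exact one_mem _,
        by simp [one_mem]⟩
    | succ k ih =>
      have e1 : (s ^ (k + 1)) a = s ((s ^ k) a) := by rw [pow_succ', MulAut.mul_apply]
      have e2 : (s ^ (k + 1)) b = s ((s ^ k) b) := by rw [pow_succ', MulAut.mul_apply]
      obtain ⟨m1, hm1, d1⟩ : ∃ m ∈ N, (s ^ k) a = a * m := ⟨_, ih.1, by rw [mul_inv_cancel_left]⟩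
      obtain ⟨m2, hm2, d2⟩ : ∃ m ∈ N, (s ^ k) b = b * a ^ k * m := ⟨_, ih.2, by rw [mul_inv_cancel_left]⟩
      obtain ⟨m3, hm3, d3⟩ : ∃ m ∈ N, s a = a * m := ⟨_, hsa, by rw [mul_inv_cancel_left]⟩
      obtain ⟨m4, hm4, d4⟩ : ∃ m ∈ N, s b = b * a * m := ⟨_, hsb, by rw [mul_inv_cancel_left]⟩
      refine ⟨?_, ?_⟩
      · rw [e1, d1, map_mul, d3]
        have : a⁻¹ * (a * m3 * s m1) = m3 * s m1 := by group
        rw [this]; exact N.mul_mem hm3 (hNα s m1 hm1)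
      · have hcm : ∀ m ∈ N, ∀ y : E, Commute y m := fun m hm y =>
          Subtype.ext (h.central (hES y.2) (mem_subgroupOf.1 hm))
        rw [e2, d2, map_mul, map_mul, map_pow, d3, d4, (hcm m3 hm3 a).mul_pow, pow_succ' a k]
        have : (b * (a * a ^ k))⁻¹ * (b * a * m4 * (a ^ k * m3 ^ k) * s m2) = (a ^ k)⁻¹ * (m4 * a ^ k) * m3 ^ k * s m2 := by group
        rw [this, ← (hcm m4 hm4 (a ^ k)).eq, inv_mul_cancel_left]
        exact N.mul_mem (N.mul_mem hm4 (N.pow_mem hm3 k)) (hNα s m2 hm2)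
  have hap : a ^ p = 1 := (hMmem a).1 haM
  have hsp : κ s ^ p = 1 := by
    rw [← map_pow, hκ]
    refine c3 _ (pow_mem (hes.le hs) p) fun x hx => ?_
    obtain ⟨i, j, hij⟩ := hgen x hx
    have hcm : ∀ m ∈ N, ∀ y : E, Commute y m := fun m hm y =>
      Subtype.ext (h.central (hES y.2) (mem_subgroupOf.1 hm))
    obtain ⟨m1, hm1, d1⟩ : ∃ m ∈ N, (s ^ p) a = a * m := ⟨_, (hspow p).1, by rw [mul_inv_cancel_left]⟩
    obtain ⟨m2, hm2, d2⟩ : ∃ m ∈ N, (s ^ p) b = b * m := by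
      refine ⟨_, (hspow p).2, ?_⟩
      rw [hap, mul_one, mul_inv_cancel_left]
    obtain ⟨m3, hm3, d3⟩ : ∃ m ∈ N, x = a ^ i * b ^ j * m := ⟨_, hij, by rw [mul_inv_cancel_left]⟩
    rw [d3, map_mul, map_mul, map_pow, map_pow, d1, d2, (hcm m1 hm1 a).mul_pow, (hcm m2 hm2 b).mul_pow]
    have : (a ^ i * b ^ j * m3)⁻¹ * (a ^ i * m1 ^ i * (b ^ j * m2 ^ j) * (s ^ p) m3) =
      m3⁻¹ * ((b ^ j)⁻¹ * (m1 ^ i * b ^ j)) * m2 ^ j * (s ^ p) m3 := by group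
    rw [this, ← (hcm _ (pow_mem hm1 i) (b ^ j)).eq, inv_mul_cancel_left]
    exact N.mul_mem (N.mul_mem (N.mul_mem (N.inv_mem hm3) (N.pow_mem hm1 i)) (N.pow_mem hm2 j)) (hNα _ m3 hm3)
  -- the action of P
  let c : P → MulAut E := fun x => conjAut E (x : Ω) (hmemP x)
  have hc : ∀ (x : P) (y : E), ((c x y : E) : Ω) = x * y * (x : Ω)⁻¹ := fun x y => by
    show ((conjAut E (x : Ω) (hmemP x) y : E) : Ω) = _
    rw [conjAut_apply]
  have hcmul : ∀ x y : P, c (x * y) = c x * c y := by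
    intro x y
    ext w
    rw [MulAut.mul_apply, hc, hc, hc]
    show (x : Ω) * y * w * ((x : Ω) * y)⁻¹ = _
    group
  have hcU : ∀ x : P, c x ∈ autInducedBy S E := fun x => conjAut_mem_autInducedBy (hmemP x) x.2.1
  let π : P →* Q := MonoidHom.mk' (fun x => κ (c x)) (fun x y => by rw [hcmul, map_mul])
  have hπ : ∀ x : P, π x = 1 ↔ (x : Ω) ∈ E := by
    intro x
    show κ (c x) = 1 ↔ _
    rw [hκ]
    constructor
    · rintro ⟨g, hg⟩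
      exact mem_of_conj_mem_inn (hE.1.2 E (isConj_refl F hES)) x.2.1 (hmemP x) ⟨g, hg.symm⟩ hES
    · intro hx
      refine ⟨⟨x, hx⟩, ?_⟩
      ext w
      rw [hc]; rfl
  have hπs : ∀ x : P, ∃ n : ℕ, π x = κ s ^ n := by
    intro x
    obtain ⟨n, g, hng⟩ := hUs (c x) (hcU x)
    refine ⟨n, ?_⟩
    show κ (c x) = _
    rw [hng, map_mul, map_pow, (hκ _).2 ⟨g, rfl⟩, mul_one]
  have hπp : ∀ x : P, π x ^ p = 1 := by
    intro x
    obtain ⟨n, hn⟩ := hπs x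
    rw [hn, ← pow_mul, mul_comm, pow_mul, hsp, one_pow]
  have hcyc : ∀ x : P, (x : Ω) ∉ E → ∀ y : P, ∃ n : ℕ, π x ^ n = π y := by
    intro x hx y
    obtain ⟨n, hn⟩ := hπs x
    obtain ⟨m, hm⟩ := hπs y
    have h1 : ¬ p ∣ n := by
      rintro ⟨k, rfl⟩
      apply hx
      rw [← hπ, hn, pow_mul, hsp, one_pow]
    have hcop : Nat.Coprime n (orderOf (κ s)) :=
      Nat.Coprime.coprime_dvd_right (orderOf_dvd_of_pow_eq_one hsp) ((Nat.Prime.coprime_iff_not_dvd hp.out).2 h1).symm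
    obtain ⟨r, hr⟩ := exists_pow_eq_self_of_coprime hcop
    exact ⟨r * m, by rw [hn, pow_mul, hr, hm]⟩
  have hπeq : ∀ x y : P, π x = π y ↔ ((x⁻¹ * y : P) : Ω) ∈ E := by
    intro x y
    rw [← hπ, map_mul, map_inv, inv_mul_eq_one]
  have hOP : O ≤ P := hOE.trans hEP
  have hfφ : ∀ x : P, ((φ x : P) : Ω) = f x := fun x => hφf x
  have hZP : ∀ x : P, x ∈ ZO (O.subgroupOf P) ↔ (x : Ω) ∈ ZO O := by
    intro x
    rw [mem_ZO, mem_ZO, mem_subgroupOf]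
    refine and_congr_right fun _ => ⟨fun h1 y hy => ?_, fun h1 y hy => Subtype.ext (h1 y (mem_subgroupOf.1 hy))⟩
    exact congrArg Subtype.val (h1 ⟨y, hOP hy⟩ (mem_subgroupOf.2 hy))
  have hheis : Heis p (O.subgroupOf P) := by
    refine ⟨hp.out, ?_, fun x hx => Subtype.ext (h.heis.exp _ (mem_subgroupOf.1 hx)), ?_⟩
    · rw [Nat.card_congr (subgroupOfEquivOfLe hOP).toEquiv, h.heis.card]
    · obtain ⟨x, hx, y, hy, hxy⟩ := h.heis.na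
      exact ⟨⟨x, hOP hx⟩, mem_subgroupOf.2 hx, ⟨y, hOP hy⟩, mem_subgroupOf.2 hy, fun e => hxy (congrArg Subtype.val e)⟩
  have haE : ∀ x : E, (x : Ω) ∈ P := fun x => hEP x.2
  refine Cfsg.Agent.Lib.RankTwoCaseA.core (X := P) (O := O.subgroupOf P) (E := E.subgroupOf P) hp5
    (isPGroup_of_le hS hPS) hheis ?_ ?_ (fun x hx => mem_subgroupOf.2 (hOE (mem_subgroupOf.1 hx))) ?_ ?_ ?_ ?_ ?_
    (a := ⟨a, haE a⟩) (b := ⟨b, haE b⟩) ?_ ?_ ?_ ?_ (φ := φ) ?_ ?_ (ν' := (p + 1) / 2) ?_ ?_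
  · intro x
    rw [mem_subgroupOf, h.mem]
    exact ⟨fun h1 => Subtype.ext h1.2, fun h1 => ⟨hPS x.2, congrArg Subtype.val h1⟩⟩
  · intro z hz x
    exact Subtype.ext (h.central (hPS x.2) ((hZP z).1 hz))
  · refine ⟨fun x hx g => ?_⟩
    rw [mem_subgroupOf] at hx ⊢
    rw [← hπ] at hx ⊢
    rw [map_mul, map_mul, hx, mul_one, map_inv, mul_inv_cancel]
  · intro x hx y
    obtain ⟨n, hn⟩ := hcyc x (fun hh => hx (mem_subgroupOf.2 hh)) y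
    refine ⟨n, ?_⟩
    rw [mem_subgroupOf, ← hπeq, map_pow]; exact hn
  · intro x
    rw [mem_subgroupOf, ← hπ, map_pow]; exact hπp x
  · have hlt := lt_normalizerIn hS le_rfl (Cfsg.Agent.Lib.FusionEss.lt_of_essential hS hF hE)
    obtain ⟨t, ht, htE⟩ := SetLike.exists_of_lt hlt
    exact ⟨⟨t, ht⟩, fun hh => htE (mem_subgroupOf.1 hh)⟩
  · intro g hg x hx
    rw [hZP]
    exact mem_subgroupOf.1 (c1 ⟨g, mem_subgroupOf.1 hg⟩ ⟨x, hOE (mem_subgroupOf.1 hx)⟩ (mem_subgroupOf.2 (mem_subgroupOf.1 hx)))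
  · exact mem_subgroupOf.2 (mem_subgroupOf.1 haM)
  · exact mem_subgroupOf.2 (mem_subgroupOf.1 hbM)
  · intro g
    rw [hZP]
    obtain ⟨n, g', hng⟩ := hUs (c g) (hcU g)
    have h2 : a⁻¹ * (c g) a ∈ N := by
      rw [hng, MulAut.mul_apply, MulAut.conj_apply]
      have h3 := c1 g' a haM
      have h4 : a⁻¹ * (s ^ n) (g' * a * g'⁻¹) = (a⁻¹ * (s ^ n) a) * (s ^ n) (a⁻¹ * (g' * a * g'⁻¹)) := by
        rw [map_mul (s ^ n) a⁻¹, map_inv]; group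
      rw [h4]; exact N.mul_mem (hspow n).1 (hNα _ _ h3)
    have h3 := mem_subgroupOf.1 h2
    have h4 : ((a⁻¹ * (c g) a : E) : Ω) = (a : Ω)⁻¹ * (g * a * (g : Ω)⁻¹) := by
      show (a : Ω)⁻¹ * ((c g a : E) : Ω) = _
      rw [hc]
    rw [h4] at h3
    exact h3
  · intro x hx
    have hxO := mem_subgroupOf.1 hx
    obtain ⟨i, j, hij⟩ := hgen ⟨x, hOE hxO⟩ (mem_subgroupOf.2 hxO)
    refine ⟨i, j, ?_⟩
    rw [hZP]
    exact mem_subgroupOf.1 hij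
  · intro x
    rw [mem_subgroupOf, ← hπeq, map_pow]
    -- c (φ x) = τ (c x) τ⁻¹
    have h1 : c (φ x) = τ * c x * τ⁻¹ := by
      ext w
      obtain ⟨w, rfl⟩ := τ.surjective w
      rw [MulAut.mul_apply, MulAut.mul_apply, MulAut.inv_apply_self, hc, hfφ]
      have e1 : ((τ (c x w) : E) : Ω) = f (c x w : E) := (hfτ _).symm
      have e2 : ((τ w : E) : Ω) = f w := (hfτ w).symm
      have e3 : ((c x w : E) : Ω) = x * w * (x : Ω)⁻¹ := hc x w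
      rw [e1, e2, e3, hf.1.map_mul (P.mul_mem x.2 (haE w)) (P.inv_mem x.2), hf.1.map_mul x.2 (haE w), hf.1.map_inv x.2]
    obtain ⟨g, hg⟩ := hτ4 (c x) (hcU x)
    show κ (c x) ^ 4 = κ (c (φ x))
    rw [h1, hg, map_mul, map_pow, (hκ _).2 ⟨g, rfl⟩, mul_one]
  · rw [hZP]
    have h1 := mem_subgroupOf.1 hτa
    have h2 : ((((⟨a, haE a⟩ : P) ^ 2)⁻¹ * φ ⟨a, haE a⟩ : P) : Ω) = (((a ^ 2)⁻¹ * τ a : E) : Ω) := by
      show ((a : Ω) ^ 2)⁻¹ * ((φ ⟨a, haE a⟩ : P) : Ω) = ((a : Ω) ^ 2)⁻¹ * ((τ a : E) : Ω)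
      rw [hfφ, ← hfτ]
    rw [h2]; exact h1
  · rw [mul_comm]; exact two_inv hp.out hp2
  · rw [hZP]
    have h1 := mem_subgroupOf.1 hτb
    have h2 : ((((⟨b, haE b⟩ : P) ^ ((p + 1) / 2))⁻¹ * φ ⟨b, haE b⟩ : P) : Ω) = (((b ^ ((p + 1) / 2))⁻¹ * τ b : E) : Ω) := by
      show ((b : Ω) ^ ((p + 1) / 2))⁻¹ * ((φ ⟨b, haE b⟩ : P) : Ω) = ((b : Ω) ^ ((p + 1) / 2))⁻¹ * ((τ b : E) : Ω)
      rw [hfφ, ← hfτ]
    rw [h2]; exact h1

end Cfsg.Agent.Lib.RankTwoFusion
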