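import Cfsg.Agent.Lib.EssSection
import Cfsg.Agent.Lib.Critical2
import Cfsg.Agent.Lib.PGroupOmega
import Cfsg.Agent.Lib.NormalRankTwo
import Cfsg.Agent.Lib.MaxClassTwo

/-! Nonabelian groups of order `p³` inside a `p`-group; automorphisms of the `p`-groups `S` whose elements of order `p`
form such a group. -/

set_option autoImplicit false

namespace Cfsg.Agent.Lib.RankTwoHeis

open Cfsg Cfsg.FusionSystem Subgroup
open Cfsg.Agent.Lib.FusionBasic Cfsg.Agent.Lib.FusionSat Cfsg.Agent.Lib.FusionNormal Cfsg.Agent.Lib.FusionAlperin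

/-- an automorphism fixing all elements of order `p` is a `p`-element (`p` odd) -/
theorem exists_pow_eq_one {X : Type*} [Group X] [Finite X] {p : ℕ} [hp : Fact p.Prime] (hp2 : p ≠ 2) (hX : IsPGroup p X)
    {α : MulAut X} (h : ∀ x : X, x ^ p = 1 → α x = x) : ∃ k : ℕ, α ^ (p ^ k) = 1 := by
  obtain ⟨D, -, hD, -, hD2⟩ := Cfsg.Agent.Lib.Critical2.exists_critical_omega hp2 hX
  obtain ⟨k, m, hm, hk⟩ := Nat.exists_eq_pow_mul_and_not_dvd (orderOf_pos α).ne' p hp.out.ne_one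
  refine ⟨k, hD2 _ ?_ ?_⟩
  · have h1 : orderOf (α ^ p ^ k) ∣ m := by
      rw [orderOf_dvd_iff_pow_eq_one, ← pow_mul, ← hk, pow_orderOf_eq_one]
    exact Nat.Coprime.coprime_dvd_left h1 (Nat.Coprime.symm ((Nat.Prime.coprime_iff_not_dvd hp.out).2 hm))
  · intro x hx
    have : ∀ n : ℕ, (α ^ n) x = x := by
      intro n
      induction n with
      | zero => rfl
      | succ n ih => rw [pow_succ', MulAut.mul_apply, ih, h x (hD x hx)]
    exact this _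

variable {Ω : Type*} [Group Ω] {p : ℕ}

/-- the centre of a subgroup, as a subgroup of the ambient group -/
def ZO (O : Subgroup Ω) : Subgroup Ω := O ⊓ centralizer (O : Set Ω)

theorem mem_ZO {O : Subgroup Ω} {z : Ω} : z ∈ ZO O ↔ z ∈ O ∧ ∀ x ∈ O, x * z = z * x := by
  unfold ZO
  rw [mem_inf, mem_centralizer_iff]
  rfl

/-- nonabelian of order `p³` and exponent `p` -/
structure Heis (p : ℕ) (O : Subgroup Ω) : Prop where
  hp : p.Prime
  card : Nat.card O = p ^ 3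
  exp : ∀ x ∈ O, x ^ p = 1
  na : ∃ x ∈ O, ∃ y ∈ O, x * y ≠ y * x

variable {O : Subgroup Ω}

theorem Heis.finite (h : Heis p O) : Finite O := by
  apply Nat.finite_of_card_ne_zero
  rw [h.card]; exact (pow_pos h.hp.pos 3).ne'

theorem Heis.comm_mem (h : Heis p O) {x y : Ω} (hx : x ∈ O) (hy : y ∈ O) : x⁻¹ * (y * x * y⁻¹) ∈ ZO O := by
  have := Fact.mk h.hp
  have := h.finite
  have h1 := Cfsg.Agent.Lib.PGroupOmega.commutator_mem_center_of_card_le (R := O) (IsPGroup.of_card h.card) h.card.le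
    (⟨x, hx⟩ : O)⁻¹ ⟨y, hy⟩
  rw [mem_ZO]
  refine ⟨O.mul_mem (O.inv_mem hx) (O.mul_mem (O.mul_mem hy hx) (O.inv_mem hy)), fun z hz => ?_⟩
  have h2 := congrArg Subtype.val (mem_center_iff.1 h1 ⟨z, hz⟩)
  rw [commutatorElement_def] at h2
  have h3 : z * (x⁻¹ * y * x⁻¹⁻¹ * y⁻¹) = (x⁻¹ * y * x⁻¹⁻¹ * y⁻¹) * z := h2
  have h4 : x⁻¹ * y * x⁻¹⁻¹ * y⁻¹ = x⁻¹ * (y * x * y⁻¹) := by group
  rw [h4] at h3
  exact h3

theorem Heis.card_ZO (h : Heis p O) : Nat.card (ZO O) = p := by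
  have := Fact.mk h.hp
  have := h.finite
  obtain ⟨j, hj1, hj2, hj3, hj4⟩ := Cfsg.Agent.Lib.MaxClassTwo.card_center (G := O) h.card (by norm_num)
  have h1 : ¬ 3 - j ≤ 1 := by
    intro hj
    have h2 := Cfsg.Agent.Lib.MaxClassTwo.comm_of_center_index hj4 hj
    obtain ⟨x, hx, y, hy, hxy⟩ := h.na
    exact hxy (congrArg Subtype.val (h2.is_comm.comm (⟨x, hx⟩ : O) ⟨y, hy⟩))
  have hj' : j = 1 := by omega
  rw [hj', pow_one] at hj3
  have h2 : (center O).map O.subtype = ZO O := by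
    ext z
    rw [mem_ZO]
    constructor
    · rintro ⟨z, hz, rfl⟩
      exact ⟨z.2, fun x hx => congrArg Subtype.val (mem_center_iff.1 hz ⟨x, hx⟩)⟩
    · rintro ⟨hz, hz'⟩
      exact ⟨⟨z, hz⟩, mem_center_iff.2 fun x => Subtype.ext (hz' x x.2), rfl⟩
  rw [← h2, Nat.card_congr ((center O).equivMapOfInjective _ O.subtype_injective).symm.toEquiv, hj3]

theorem Heis.ZO_pow (h : Heis p O) {z : Ω} (hz : z ∈ ZO O) : z ^ p = 1 := h.exp z (mem_ZO.1 hz).1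

/-- elements of the centre are powers of a nontrivial one -/
theorem Heis.zpow_of (h : Heis p O) {ζ : Ω} (hζ : ζ ∈ ZO O) (hζ1 : ζ ≠ 1) {z : Ω} (hz : z ∈ ZO O) : ∃ n : ℕ, z = ζ ^ n := by
  have := Fact.mk h.hp
  have hf : Finite (ZO O) := by
    apply Nat.finite_of_card_ne_zero; rw [h.card_ZO]; exact h.hp.ne_zero
  have h1 := mem_zpowers_of_prime_card h.card_ZO (g := (⟨ζ, hζ⟩ : ZO O)) (g' := ⟨z, hz⟩) (fun e => hζ1 (congrArg Subtype.val e))
  obtain ⟨n, hn⟩ := mem_powers_iff_mem_zpowers.2 h1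
  exact ⟨n, (congrArg Subtype.val hn).symm⟩

/-- a subgroup strictly between `Z(O)` and `O` has order `p²` -/
theorem Heis.card_mid (h : Heis p O) {V : Subgroup Ω} (h1 : ZO O ≤ V) (h2 : V ≤ O) (h3 : ∃ x ∈ V, x ∉ ZO O)
    (h4 : ∃ x ∈ O, x ∉ V) : Nat.card V = p ^ 2 := by
  have := h.finite
  have hfV : Finite V := Finite.of_injective _ (inclusion_injective h2)
  have hd1 := card_dvd_of_le h1
  have hd2 := card_dvd_of_le h2
  rw [h.card] at hd2
  obtain ⟨k, hk, hkV⟩ := (Nat.dvd_prime_pow h.hp).1 hd2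
  rw [h.card_ZO, hkV] at hd1
  have hk0 : k ≠ 0 := by
    rintro rfl
    rw [pow_zero] at hd1
    exact h.hp.one_lt.ne' (Nat.dvd_one.1 hd1)
  have hk1 : k ≠ 1 := by
    rintro rfl
    obtain ⟨x, hx, hx'⟩ := h3
    apply hx'
    have : ZO O = V := eq_of_le_of_card_ge h1 (by rw [h.card_ZO, hkV, pow_one])
    rw [this]; exact hx
  have hk3 : k ≠ 3 := by
    rintro rfl
    obtain ⟨x, hx, hx'⟩ := h4
    apply hx'
    have : V = O := eq_of_le_of_card_ge h2 (by rw [h.card, hkV])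
    rw [this]; exact hx
  have : k = 2 := by omega
  rw [hkV, this]

/-- two subgroups between `Z(O)` and `O` -/
theorem Heis.le_of_mid (h : Heis p O) {V W : Subgroup Ω} (h1 : ZO O ≤ V) (h2 : V ≤ O) (h4 : ∃ x ∈ O, x ∉ V)
    (hW : ZO O ≤ W) (hWO : W ≤ O) (hW' : ∃ x ∈ O, x ∉ W) {x : Ω} (hxV : x ∈ V) (hxW : x ∈ W) (hx : x ∉ ZO O) : V = W := by
  have := h.finite
  have hfV : Finite V := Finite.of_injective _ (inclusion_injective h2)
  have hfW : Finite W := Finite.of_injective _ (inclusion_injective hWO)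
  have c1 := h.card_mid h1 h2 ⟨x, hxV, hx⟩ h4
  have c2 := h.card_mid hW hWO ⟨x, hxW, hx⟩ hW'
  have c3 := h.card_mid (le_inf h1 hW) (inf_le_left.trans h2) ⟨x, ⟨hxV, hxW⟩, hx⟩ (by
    obtain ⟨y, hy, hy'⟩ := h4; exact ⟨y, hy, fun hh => hy' hh.1⟩)
  have e1 : V ⊓ W = V := eq_of_le_of_card_ge inf_le_left (by rw [c1, c3])
  have e2 : V ⊓ W = W := eq_of_le_of_card_ge inf_le_right (by rw [c2, c3])
  exact e1.symm.trans e2

/-- the centralizer in `O` of a noncentral element -/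
def CO (O : Subgroup Ω) (x : Ω) : Subgroup Ω := O ⊓ centralizer {x}

theorem mem_CO {x y : Ω} : y ∈ CO O x ↔ y ∈ O ∧ y * x = x * y := by
  unfold CO
  rw [mem_inf, mem_centralizer_singleton_iff]

theorem Heis.CO_mid (h : Heis p O) {x : Ω} (hx : x ∈ O) (hxZ : x ∉ ZO O) : ZO O ≤ CO O x ∧ CO O x ≤ O ∧ (∃ y ∈ O, y ∉ CO O x) ∧
    x ∈ CO O x := by
  refine ⟨fun z hz => mem_CO.2 ⟨(mem_ZO.1 hz).1, ((mem_ZO.1 hz).2 x hx).symm⟩, inf_le_left, ?_, mem_CO.2 ⟨hx, rfl⟩⟩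
  by_contra hcon
  push Not at hcon
  exact hxZ (mem_ZO.2 ⟨hx, fun y hy => (mem_CO.1 (hcon y hy)).2⟩)

/-- an element of a middle subgroup, modulo the centre -/
theorem Heis.mid_gen (h : Heis p O) {V : Subgroup Ω} (h1 : ZO O ≤ V) (h2 : V ≤ O) (h4 : ∃ x ∈ O, x ∉ V) {v x : Ω}
    (hv : v ∈ V) (hvZ : v ∉ ZO O) (hx : x ∈ V) : ∃ n : ℕ, (v ^ n)⁻¹ * x ∈ ZO O := by
  have := Fact.mk h.hp
  have := h.finite
  have hfV : Finite V := Finite.of_injective _ (inclusion_injective h2)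
  have c1 := h.card_mid h1 h2 ⟨v, hv, hvZ⟩ h4
  have hn : ((ZO O).subgroupOf V).Normal := by
    refine ⟨fun z hz g => ?_⟩
    rw [mem_subgroupOf] at hz ⊢
    have h5 : (g : Ω) * z = z * g := (mem_ZO.1 hz).2 g (h2 g.2)
    show (g : Ω) * z * (g : Ω)⁻¹ ∈ ZO O
    rw [h5, mul_inv_cancel_right]; exact hz
  have hc : Nat.card (V ⧸ (ZO O).subgroupOf V) = p := by
    have h5 := ((ZO O).subgroupOf V).index_mul_card
    have h6 : Nat.card ((ZO O).subgroupOf V) = p := by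
      rw [Nat.card_congr (subgroupOfEquivOfLe h1).toEquiv]; exact h.card_ZO
    rw [h6, c1, pow_two] at h5
    exact Nat.eq_of_mul_eq_mul_right h.hp.pos h5
  have hv1 : ((⟨v, hv⟩ : V) : V ⧸ (ZO O).subgroupOf V) ≠ 1 := fun e => hvZ ((QuotientGroup.eq_one_iff (N := (ZO O).subgroupOf V) (⟨v, hv⟩ : V)).1 e)
  have h5 := mem_zpowers_of_prime_card hc (g' := ((⟨x, hx⟩ : V) : V ⧸ (ZO O).subgroupOf V)) hv1
  obtain ⟨n, hn⟩ := mem_powers_iff_mem_zpowers.2 h5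
  refine ⟨n, ?_⟩
  have h6 : (((⟨v, hv⟩ : V) ^ n : V) : V ⧸ (ZO O).subgroupOf V) = ((⟨x, hx⟩ : V) : V ⧸ (ZO O).subgroupOf V) := hn
  have h7 := QuotientGroup.eq.1 h6
  exact h7

/-- middle subgroups are abelian -/
theorem Heis.mid_comm (h : Heis p O) {V : Subgroup Ω} (h1 : ZO O ≤ V) (h2 : V ≤ O) (h4 : ∃ x ∈ O, x ∉ V) {x y : Ω}
    (hx : x ∈ V) (hy : y ∈ V) : x * y = y * x := by
  by_cases hxZ : x ∈ ZO O
  · exact ((mem_ZO.1 hxZ).2 y (h2 hy)).symm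
  · obtain ⟨a1, a2, a3, a4⟩ := h.CO_mid (h2 hx) hxZ
    have e := h.le_of_mid h1 h2 h4 a1 a2 a3 hx a4 hxZ
    have : y ∈ CO O x := e ▸ hy
    exact (mem_CO.1 this).2.symm

end Cfsg.Agent.Lib.RankTwoHeis
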