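import Cfsg.Agent.Lib.RankTwoHeis

/-! `p`-groups `S` whose elements of order `p` form a nonabelian group `O` of order `p³` containing a self-normalizing
(up to `O`) middle subgroup `E`. -/

set_option autoImplicit false

namespace Cfsg.Agent.Lib.RankTwoHeis

open Cfsg Cfsg.FusionSystem Subgroup
open Cfsg.Agent.Lib.FusionBasic Cfsg.Agent.Lib.FusionSat Cfsg.Agent.Lib.FusionNormal Cfsg.Agent.Lib.FusionAlperin

variable {Ω : Type*} [Group Ω] {p : ℕ} {S O : Subgroup Ω}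

/-- the situation -/
structure Sit (p : ℕ) (S O : Subgroup Ω) (e : Ω) : Prop where
  hS : IsPGroup p S
  fin : Finite S
  heis : Heis p O
  le : O ≤ S
  mem : ∀ x ∈ S, x ∈ O ↔ x ^ p = 1
  he : e ∈ O
  heZ : e ∉ ZO O
  norm : ∀ s ∈ S, s * e * s⁻¹ * e⁻¹ ∈ ZO O → s ∈ O
  ne : ∃ s ∈ S, s ∉ O

/-- the second centre (inside `O`) -/
def VO (S O : Subgroup Ω) (hZ : ∀ s ∈ S, ∀ z ∈ ZO O, s * z * s⁻¹ ∈ ZO O) : Subgroup Ω where
  carrier := {x | x ∈ O ∧ ∀ s ∈ S, s * x * s⁻¹ * x⁻¹ ∈ ZO O}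
  one_mem' := ⟨O.one_mem, fun s _ => by simp [(ZO O).one_mem]⟩
  mul_mem' := by
    rintro x y ⟨hx, hx'⟩ ⟨hy, hy'⟩
    refine ⟨O.mul_mem hx hy, fun s hs => ?_⟩
    have h1 : s * (x * y) * s⁻¹ * (x * y)⁻¹ = (s * x * s⁻¹ * x⁻¹) * (x * (s * y * s⁻¹ * y⁻¹) * x⁻¹) := by group
    have h2 : x * (s * y * s⁻¹ * y⁻¹) * x⁻¹ = s * y * s⁻¹ * y⁻¹ := by
      rw [(mem_ZO.1 (hy' s hs)).2 x hx, mul_inv_cancel_right]
    rw [h1, h2]
    exact (ZO O).mul_mem (hx' s hs) (hy' s hs)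
  inv_mem' := by
    rintro x ⟨hx, hx'⟩
    refine ⟨O.inv_mem hx, fun s hs => ?_⟩
    have h1 : s * x⁻¹ * s⁻¹ * x⁻¹⁻¹ = x⁻¹ * ((x * (s * x⁻¹ * s⁻¹ * x) * x⁻¹)) * x := by group
    have h3 : s * x⁻¹ * s⁻¹ * x⁻¹⁻¹ = (s * x * s⁻¹)⁻¹ * x := by group
    have h4 : (s * x * s⁻¹)⁻¹ * x = x⁻¹ * ((s * x * s⁻¹ * x⁻¹)⁻¹) * x := by group
    have h2 : x⁻¹ * ((s * x * s⁻¹ * x⁻¹)⁻¹) * x = (s * x * s⁻¹ * x⁻¹)⁻¹ := by
      have h5 := (mem_ZO.1 ((ZO O).inv_mem (hx' s hs))).2 x⁻¹ (O.inv_mem hx)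
      rw [h5, inv_mul_cancel_right]
    rw [h3, h4, h2]
    exact (ZO O).inv_mem (hx' s hs)

variable {e : Ω}

theorem Sit.conj_O (h : Sit p S O e) {s x : Ω} (hs : s ∈ S) (hx : x ∈ O) : s * x * s⁻¹ ∈ O := by
  have hxS := h.le hx
  rw [h.mem _ (S.mul_mem (S.mul_mem hs hxS) (S.inv_mem hs)), conj_pow, (h.mem x hxS).1 hx, mul_one, mul_inv_cancel]

theorem Sit.conj_ZO' (h : Sit p S O e) {s z : Ω} (hs : s ∈ S) (hz : z ∈ ZO O) : s * z * s⁻¹ ∈ ZO O := by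
  rw [mem_ZO] at hz ⊢
  refine ⟨h.conj_O hs hz.1, fun x hx => ?_⟩
  have h1 := hz.2 (s⁻¹ * x * s⁻¹⁻¹) (h.conj_O (S.inv_mem hs) hx)
  calc x * (s * z * s⁻¹) = s * ((s⁻¹ * x * s⁻¹⁻¹) * z) * s⁻¹ := by group
    _ = s * (z * (s⁻¹ * x * s⁻¹⁻¹)) * s⁻¹ := by rw [h1]
    _ = s * z * s⁻¹ * x := by group

theorem Sit.central (h : Sit p S O e) {s z : Ω} (hs : s ∈ S) (hz : z ∈ ZO O) : s * z = z * s := by
  have := Fact.mk h.heis.hp
  have := h.fin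
  have hle : ZO O ≤ S := inf_le_left.trans h.le
  have hn : ((ZO O).subgroupOf S).Normal := ⟨fun z hz g => h.conj_ZO' g.2 hz⟩
  have hne : (ZO O).subgroupOf S ≠ ⊥ := by
    intro hb
    have h1 : Nat.card ((ZO O).subgroupOf S) = p := by
      rw [Nat.card_congr (subgroupOfEquivOfLe hle).toEquiv]; exact h.heis.card_ZO
    rw [hb, card_bot] at h1
    exact h.heis.hp.one_lt.ne h1
  obtain ⟨ζ, hζ, hζc, hζo⟩ := Cfsg.Agent.Lib.NormalRankTwo.exists_central_of_normal h.hS _ hne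
  have hζ1 : (ζ : Ω) ≠ 1 := by
    intro e
    have : ζ = 1 := Subtype.ext e
    rw [this, orderOf_one] at hζo
    exact h.heis.hp.one_lt.ne hζo
  obtain ⟨n, rfl⟩ := h.heis.zpow_of hζ hζ1 hz
  have h2 : s * (ζ : Ω) = ζ * s := congrArg Subtype.val (mem_center_iff.1 hζc ⟨s, hs⟩)
  exact (show Commute s (ζ : Ω) from h2).pow_right n

/-- membership in `V` -/
theorem mem_VO {hZ : ∀ s ∈ S, ∀ z ∈ ZO O, s * z * s⁻¹ ∈ ZO O} {x : Ω} :
    x ∈ VO S O hZ ↔ x ∈ O ∧ ∀ s ∈ S, s * x * s⁻¹ * x⁻¹ ∈ ZO O := Iff.rfl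

theorem Sit.VO_mid (h : Sit p S O e) {hZ : ∀ s ∈ S, ∀ z ∈ ZO O, s * z * s⁻¹ ∈ ZO O} :
    ZO O ≤ VO S O hZ ∧ VO S O hZ ≤ O ∧ e ∉ VO S O hZ ∧ ∃ v ∈ VO S O hZ, v ∉ ZO O := by
  have := Fact.mk h.heis.hp
  have := h.fin
  refine ⟨fun z hz => ⟨(mem_ZO.1 hz).1, fun s hs => ?_⟩, fun x hx => hx.1, fun he => ?_, ?_⟩
  · exact (ZO O).mul_mem (hZ s hs z hz) ((ZO O).inv_mem hz)
  · obtain ⟨s, hs, hsO⟩ := h.ne
    exact hsO (h.norm s hs (he.2 s hs))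
  · -- O/Z meets the centre of S/Z
    have hn : ((ZO O).subgroupOf S).Normal := ⟨fun z hz g => h.conj_ZO' g.2 hz⟩
    have hOn : (O.subgroupOf S).Normal := ⟨fun z hz g => h.conj_O g.2 hz⟩
    let N := (O.subgroupOf S).map (QuotientGroup.mk' ((ZO O).subgroupOf S))
    have hNn : N.Normal := Normal.map hOn _ (QuotientGroup.mk'_surjective _)
    have hNb : N ≠ ⊥ := by
      intro hb
      have h1 : (((⟨e, h.le h.he⟩ : S) : S ⧸ (ZO O).subgroupOf S)) ∈ N := ⟨⟨e, h.le h.he⟩, h.he, rfl⟩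
      rw [hb, mem_bot] at h1
      exact h.heZ ((QuotientGroup.eq_one_iff (N := (ZO O).subgroupOf S) (⟨e, h.le h.he⟩ : S)).1 h1)
    obtain ⟨x, ⟨y, hy, rfl⟩, hxc, hxo⟩ := Cfsg.Agent.Lib.NormalRankTwo.exists_central_of_normal
      (h.hS.to_quotient ((ZO O).subgroupOf S)) N hNb
    refine ⟨y, ⟨hy, fun s hs => ?_⟩, fun hyZ => ?_⟩
    · have h1 := mem_center_iff.1 hxc ((⟨s, hs⟩ : S) : S ⧸ (ZO O).subgroupOf S)
      have h2 : (((⟨s, hs⟩ * y * (⟨s, hs⟩ : S)⁻¹ * y⁻¹ : S)) : S ⧸ (ZO O).subgroupOf S) = 1 := by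
        rw [QuotientGroup.mk_mul, QuotientGroup.mk_mul, QuotientGroup.mk_mul, QuotientGroup.mk_inv, QuotientGroup.mk_inv]
        have h3 : ((⟨s, hs⟩ : S) : S ⧸ (ZO O).subgroupOf S) * (y : S ⧸ (ZO O).subgroupOf S) =
          (y : S ⧸ (ZO O).subgroupOf S) * ((⟨s, hs⟩ : S) : S ⧸ (ZO O).subgroupOf S) := h1
        rw [h3, mul_inv_cancel_right, mul_inv_cancel]
      exact (QuotientGroup.eq_one_iff (N := (ZO O).subgroupOf S) (⟨s, hs⟩ * y * (⟨s, hs⟩ : S)⁻¹ * y⁻¹ : S)).1 h2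
    · have h1 : (QuotientGroup.mk' ((ZO O).subgroupOf S)) y = 1 :=
        (QuotientGroup.eq_one_iff (N := (ZO O).subgroupOf S) y).2 hyZ
      rw [h1, orderOf_one] at hxo
      exact h.heis.hp.one_lt.ne hxo

/-- `O = V⟨e⟩` -/
theorem Sit.gen_e (h : Sit p S O e) {V : Subgroup Ω} (h1 : ZO O ≤ V) (h2 : V ≤ O) (h3 : e ∉ V) (h4 : ∃ v ∈ V, v ∉ ZO O)
    {x : Ω} (hx : x ∈ O) : ∃ n : ℕ, (e ^ n)⁻¹ * x ∈ V := by
  have := Fact.mk h.heis.hp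
  have := h.heis.finite
  obtain ⟨v, hv, hvZ⟩ := h4
  have hn : (V.subgroupOf O).Normal := by
    refine ⟨fun y hy g => ?_⟩
    rw [mem_subgroupOf] at hy ⊢
    have h5 := h1 (h.heis.comm_mem y.2 g.2)
    have h6 := V.mul_mem hy h5
    rw [mul_inv_cancel_left] at h6
    exact h6
  have c1 := h.heis.card_mid h1 h2 ⟨v, hv, hvZ⟩ ⟨e, h.he, h3⟩
  have hc : Nat.card (O ⧸ V.subgroupOf O) = p := by
    have h5 := (V.subgroupOf O).index_mul_card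
    have h6 : Nat.card (V.subgroupOf O) = p ^ 2 := by
      rw [Nat.card_congr (subgroupOfEquivOfLe h2).toEquiv]; exact c1
    rw [h6, h.heis.card, show p ^ 3 = p * p ^ 2 by ring] at h5
    exact Nat.eq_of_mul_eq_mul_right (pow_pos h.heis.hp.pos 2) h5
  have he1 : ((⟨e, h.he⟩ : O) : O ⧸ V.subgroupOf O) ≠ 1 :=
    fun e' => h3 ((QuotientGroup.eq_one_iff (N := V.subgroupOf O) (⟨e, h.he⟩ : O)).1 e')
  have h5 := mem_zpowers_of_prime_card hc (g' := ((⟨x, hx⟩ : O) : O ⧸ V.subgroupOf O)) he1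
  obtain ⟨n, hn⟩ := mem_powers_iff_mem_zpowers.2 h5
  refine ⟨n, ?_⟩
  have h6 : (((⟨e, h.he⟩ : O) ^ n : O) : O ⧸ V.subgroupOf O) = ((⟨x, hx⟩ : O) : O ⧸ V.subgroupOf O) := hn
  have h7 := QuotientGroup.eq.1 h6
  exact h7

/-- the main computation -/
theorem Sit.main (h : Sit p S O e) : ∃ V : Subgroup Ω, ZO O ≤ V ∧ V ≤ O ∧ e ∉ V ∧ (∃ v ∈ V, v ∉ ZO O) ∧
    (∀ x ∈ O, (∀ s ∈ S, s * x * s⁻¹ * x⁻¹ ∈ ZO O) → x ∈ V) ∧
    (∀ T : Subgroup Ω, O ≤ T → T ≤ S → (∃ t ∈ T, t ∉ O) → T = S) ∧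
    ∀ (F : FusionSystem S) (f : Ω → Ω), FIso F S S f → (∀ v ∈ V, f v ∈ V) ∧ ∃ y : ℕ, y * y ≡ 1 [MOD p] ∧
      ∀ x ∈ O, (x ^ y)⁻¹ * f x ∈ V := by
  have hpf := Fact.mk h.heis.hp
  have hfin := h.fin
  have hOfin := h.heis.finite
  have hp := h.heis.hp
  have hZ : ∀ s ∈ S, ∀ z ∈ ZO O, s * z * s⁻¹ ∈ ZO O := fun s hs z hz => h.conj_ZO' hs hz
  obtain ⟨V, hVdef⟩ : ∃ V, V = VO S O hZ := ⟨_, rfl⟩
  have hVmem : ∀ x, x ∈ V ↔ x ∈ O ∧ ∀ s ∈ S, s * x * s⁻¹ * x⁻¹ ∈ ZO O := fun x => by rw [hVdef]; exact mem_VO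
  obtain ⟨hZV, hVO, heV, v0, hv0, hv0Z⟩ : ZO O ≤ V ∧ V ≤ O ∧ e ∉ V ∧ ∃ v ∈ V, v ∉ ZO O := by
    rw [hVdef]; exact h.VO_mid
  have hVex : ∃ x ∈ O, x ∉ V := ⟨e, h.he, heV⟩
  have hVcomm : ∀ x ∈ V, ∀ y ∈ V, x * y = y * x := fun x hx y hy => h.heis.mid_comm hZV hVO hVex hx hy
  have heS := h.le h.he
  have hOS := h.le
  have hVS : V ≤ S := hVO.trans hOS
  have heO := h.he
  have hep : e ^ p = 1 := h.heis.exp e heO
  have he1 : e ≠ 1 := fun e1 => h.heZ (e1 ▸ (ZO O).one_mem)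
  have horde : orderOf e = p := orderOf_eq_prime hep he1
  -- elements of `V` commuting with `e`
  have hVe : ∀ x ∈ V, x * e = e * x → x ∈ ZO O := by
    intro x hx hxe
    by_contra hxZ
    obtain ⟨a1, a2, a3, a4⟩ := h.heis.CO_mid (hVO hx) hxZ
    have e1 := h.heis.le_of_mid hZV hVO hVex a1 a2 a3 hx a4 hxZ
    exact heV (e1 ▸ mem_CO.2 ⟨heO, hxe.symm⟩)
  -- elements of `O` commuting with a noncentral element of `V`
  have hVc : ∀ v ∈ V, v ∉ ZO O → ∀ x ∈ O, x * v = v * x → x ∈ V := by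
    intro v hv hvZ x hx hxv
    obtain ⟨a1, a2, a3, a4⟩ := h.heis.CO_mid (hVO hv) hvZ
    have e1 := h.heis.le_of_mid hZV hVO hVex a1 a2 a3 hv a4 hvZ
    rw [e1]; exact mem_CO.2 ⟨hx, hxv⟩
  -- the commutator ζ = [e, v0]
  set ζ := e * v0 * e⁻¹ * v0⁻¹ with hζdef
  have hζZ : ζ ∈ ZO O := ((hVmem v0).1 hv0).2 e heS
  have hζ1 : ζ ≠ 1 := by
    intro hh
    apply hv0Z
    apply hVe v0 hv0
    have : e * v0 = v0 * e := by
      rw [hζdef, mul_inv_eq_one, mul_inv_eq_iff_eq_mul] at hh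
      exact hh
    exact this.symm
  have hordζ : orderOf ζ = p := orderOf_eq_prime (h.heis.ZO_pow hζZ) hζ1
  have hcen : ∀ s ∈ S, ∀ z ∈ ZO O, s * z = z * s := fun s hs z hz => h.central hs hz
  have hev0 : ∀ n : ℕ, e ^ n * v0 * (e ^ n)⁻¹ = v0 * ζ ^ n := by
    intro n
    induction n with
    | zero => simp
    | succ n ih =>
      have h1 : e * v0 * e⁻¹ = v0 * ζ := by
        rw [← hcen v0 (hVS hv0) ζ hζZ |>.symm, hζdef]; group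
      have h2 : e * ζ ^ n * e⁻¹ = ζ ^ n := by
        rw [hcen e heS _ ((ZO O).pow_mem hζZ n), mul_inv_cancel_right]
      calc e ^ (n + 1) * v0 * (e ^ (n + 1))⁻¹ = e * (e ^ n * v0 * (e ^ n)⁻¹) * e⁻¹ := by rw [pow_succ']; group
        _ = e * (v0 * ζ ^ n) * e⁻¹ := by rw [ih]
        _ = (e * v0 * e⁻¹) * (e * ζ ^ n * e⁻¹) := by group
        _ = v0 * ζ ^ (n + 1) := by rw [h1, h2, mul_assoc, ← pow_succ']
  -- every element of S is in ⟨e⟩ C(v0)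
  have hred : ∀ s ∈ S, ∃ n : ℕ, ((e ^ n)⁻¹ * s) * v0 = v0 * ((e ^ n)⁻¹ * s) := by
    intro s hs
    have h1 := ((hVmem v0).1 hv0).2 s hs
    obtain ⟨n, hn⟩ := h.heis.zpow_of hζZ hζ1 h1
    refine ⟨n, ?_⟩
    have h2 : s * v0 * s⁻¹ = v0 * ζ ^ n := by
      rw [← hcen v0 (hVS hv0) _ ((ZO O).pow_mem hζZ n) |>.symm, ← hn]; group
    have h3 := hev0 n
    have h4 : s * v0 * s⁻¹ = e ^ n * v0 * (e ^ n)⁻¹ := h2.trans h3.symm
    have h5 : s * v0 = e ^ n * v0 * (e ^ n)⁻¹ * s := by rw [← h4]; group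
    calc ((e ^ n)⁻¹ * s) * v0 = (e ^ n)⁻¹ * (s * v0) := by group
      _ = v0 * ((e ^ n)⁻¹ * s) := by rw [h5]; group
  -- action of elements commuting with v0 on e
  have hact : ∀ s ∈ S, s * v0 = v0 * s → e⁻¹ * (s * e * s⁻¹) ∈ V := by
    intro s hs hsv
    obtain ⟨n, hn⟩ := h.gen_e hZV hVO heV ⟨v0, hv0, hv0Z⟩ (h.conj_O hs heO)
    set v1 := (e ^ n)⁻¹ * (s * e * s⁻¹) with hv1
    have h1 : s * e * s⁻¹ = e ^ n * v1 := by rw [hv1]; group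
    -- apply to ζ
    have h2 : s * ζ * s⁻¹ = ζ := by rw [hcen s hs ζ hζZ, mul_inv_cancel_right]
    have h3 : s * ζ * s⁻¹ = (s * e * s⁻¹) * v0 * (s * e * s⁻¹)⁻¹ * v0⁻¹ := by
      have h4 : s * v0 * s⁻¹ = v0 := by rw [hsv, mul_inv_cancel_right]
      calc s * ζ * s⁻¹ = (s * e * s⁻¹) * (s * v0 * s⁻¹) * (s * e * s⁻¹)⁻¹ * (s * v0 * s⁻¹)⁻¹ := by rw [hζdef]; group
        _ = _ := by rw [h4]
    have h5 : (s * e * s⁻¹) * v0 * (s * e * s⁻¹)⁻¹ * v0⁻¹ = ζ ^ n := by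
      have h6 : v1 * v0 * v1⁻¹ = v0 := by rw [hVcomm v1 hn v0 hv0, mul_inv_cancel_right]
      calc (s * e * s⁻¹) * v0 * (s * e * s⁻¹)⁻¹ * v0⁻¹ = e ^ n * (v1 * v0 * v1⁻¹) * (e ^ n)⁻¹ * v0⁻¹ := by rw [h1]; group
        _ = e ^ n * v0 * (e ^ n)⁻¹ * v0⁻¹ := by rw [h6]
        _ = v0 * ζ ^ n * v0⁻¹ := by rw [hev0]
        _ = ζ ^ n := by
          rw [hcen v0 (hVS hv0) _ ((ZO O).pow_mem hζZ n), mul_inv_cancel_right]
    have h6 : ζ ^ n = ζ ^ 1 := by rw [← h5, ← h3, h2, pow_one]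
    have h7 : n ≡ 1 [MOD p] := by rw [← hordζ]; exact pow_eq_pow_iff_modEq.1 h6
    have h8 : e ^ n = e := by
      have := (pow_eq_pow_iff_modEq (x := e) (n := n) (m := 1)).2 (by rw [horde]; exact h7)
      rwa [pow_one] at this
    rw [h1, h8, inv_mul_cancel_left]; exact hn
  -- w
  obtain ⟨s0, hs0, hs0O, hs0p⟩ : ∃ s0 ∈ S, s0 ∉ O ∧ s0 ^ p ∈ O := by
    obtain ⟨s, hs, hsO⟩ := h.ne
    have hex : ∃ k : ℕ, s ^ p ^ k ∈ O := by
      obtain ⟨k, hk⟩ := h.hS ⟨s, hs⟩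
      refine ⟨k, ?_⟩
      have : s ^ p ^ k = 1 := congrArg Subtype.val hk
      rw [this]; exact O.one_mem
    classical
    have hk := Nat.find_spec hex
    have hk0 : Nat.find hex ≠ 0 := by
      intro h0
      rw [h0, pow_zero, pow_one] at hk
      exact hsO hk
    obtain ⟨m, hm⟩ := Nat.exists_eq_succ_of_ne_zero hk0
    refine ⟨s ^ p ^ m, S.pow_mem hs _, Nat.find_min hex (by omega), ?_⟩
    rw [← pow_mul, ← pow_succ, ← Nat.succ_eq_add_one, ← hm]; exact hk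
  obtain ⟨i0, hi0⟩ := hred s0 hs0
  set w := (e ^ i0)⁻¹ * s0 with hw
  have hwS : w ∈ S := S.mul_mem (S.inv_mem (S.pow_mem heS _)) hs0
  have hwO : w ∉ O := by
    intro hh
    apply hs0O
    have := O.mul_mem (O.pow_mem heO i0) hh
    rw [hw, mul_inv_cancel_left] at this
    exact this
  have hOn : (O.subgroupOf S).Normal := ⟨fun z hz g => h.conj_O g.2 hz⟩
  have hwpO : w ^ p ∈ O := by
    have h1 : (((⟨w, hwS⟩ : S)) : S ⧸ O.subgroupOf S) = ((⟨s0, hs0⟩ : S) : S ⧸ O.subgroupOf S) := by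
      rw [QuotientGroup.eq]
      show w⁻¹ * s0 ∈ O
      have h2 : w⁻¹ * s0 = s0⁻¹ * e ^ i0 * s0⁻¹⁻¹ := by rw [hw]; group
      rw [h2]; exact h.conj_O (S.inv_mem hs0) (O.pow_mem heO _)
    have h2 : ((⟨w, hwS⟩ ^ p : S) : S ⧸ O.subgroupOf S) = ((⟨s0, hs0⟩ ^ p : S) : S ⧸ O.subgroupOf S) := by
      rw [QuotientGroup.mk_pow, QuotientGroup.mk_pow, h1]
    have h3 : ((⟨s0, hs0⟩ ^ p : S) : S ⧸ O.subgroupOf S) = 1 := by
      rw [QuotientGroup.eq_one_iff]; exact hs0p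
    rw [h3] at h2
    exact (QuotientGroup.eq_one_iff (N := O.subgroupOf S) (⟨w, hwS⟩ ^ p : S)).1 h2
  have hwv0 : w * v0 = v0 * w := hi0
  -- v'
  set v' := e⁻¹ * (w * e * w⁻¹) with hv'
  have hv'V : v' ∈ V := hact w hwS hwv0
  have hwe : w * e * w⁻¹ = e * v' := by rw [hv']; group
  have hv'Z : v' ∉ ZO O := by
    intro hh
    apply hwO
    apply h.norm w hwS
    have h1 : w * e * w⁻¹ * e⁻¹ = v' := by
      rw [hwe, hcen e heS v' hh, mul_inv_cancel_right]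
    rw [h1]; exact hh
  -- commuting with V
  have hcommV : ∀ s ∈ S, s * v0 = v0 * s → ∀ v ∈ V, s * v = v * s := by
    intro s hs hsv v hv
    obtain ⟨n, hn⟩ := h.heis.mid_gen hZV hVO hVex hv0 hv0Z hv
    have h1 : v = v0 ^ n * ((v0 ^ n)⁻¹ * v) := by group
    have h2 : Commute s (v0 ^ n) := (show Commute s v0 from hsv).pow_right n
    have h3 : Commute s ((v0 ^ n)⁻¹ * v) := hcen s hs _ hn
    rw [h1]; exact h2.mul_right h3
  have hwV := hcommV w hwS hwv0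
  have hwk : ∀ k : ℕ, w ^ k * e * (w ^ k)⁻¹ = e * v' ^ k := by
    intro k
    induction k with
    | zero => simp
    | succ k ih =>
      have h1 : w * v' ^ k * w⁻¹ = v' ^ k := by rw [hwV _ (V.pow_mem hv'V k), mul_inv_cancel_right]
      calc w ^ (k + 1) * e * (w ^ (k + 1))⁻¹ = w * (w ^ k * e * (w ^ k)⁻¹) * w⁻¹ := by rw [pow_succ']; group
        _ = w * (e * v' ^ k) * w⁻¹ := by rw [ih]
        _ = (w * e * w⁻¹) * (w * v' ^ k * w⁻¹) := by group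
        _ = e * v' ^ (k + 1) := by rw [hwe, h1, mul_assoc, ← pow_succ']
  have hwpV : w ^ p ∈ V := by
    apply hVc v0 hv0 hv0Z _ hwpO
    exact ((show Commute w v0 from hwv0).pow_left p)
  have hwpZ : w ^ p ∈ ZO O := by
    apply hVe _ hwpV
    have h1 := hwk p
    rw [h.heis.exp v' (hVO hv'V), mul_one, mul_inv_eq_iff_eq_mul] at h1
    exact h1
  have hwp1 : w ^ p ≠ 1 := fun hh => hwO ((h.mem w hwS).2 hh)
  have hordw : orderOf (w ^ p) = p := orderOf_eq_prime (h.heis.ZO_pow hwpZ) hwp1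
  -- elements commuting with v0 are in ⟨w⟩V
  have hCV : ∀ s ∈ S, s * v0 = v0 * s → ∃ c : ℕ, (w ^ c)⁻¹ * s ∈ V := by
    intro s hs hsv
    have hv1 := hact s hs hsv
    obtain ⟨c, hc⟩ := h.heis.mid_gen hZV hVO hVex hv'V hv'Z hv1
    refine ⟨c, ?_⟩
    set t := (w ^ c)⁻¹ * s with ht
    have htS : t ∈ S := S.mul_mem (S.inv_mem (S.pow_mem hwS c)) hs
    have htv : t * v0 = v0 * t := by
      have h1 : Commute ((w ^ c)⁻¹ * s) v0 := (((show Commute w v0 from hwv0).pow_left c).inv_left).mul_left hsv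
      exact h1
    have htO : t ∈ O := by
      apply h.norm t htS
      -- t e t⁻¹ ∈ e Z
      have h2 : (w ^ c)⁻¹ * e * w ^ c = e * (v' ^ c)⁻¹ := by
        have h3 := hwk c
        have h4 : w ^ c * (v' ^ c)⁻¹ = (v' ^ c)⁻¹ * w ^ c :=
          (((show Commute w (v' ^ c) from hwV _ (V.pow_mem hv'V c)).pow_left c).inv_right)
        have h5 : e * v' ^ c = w ^ c * e * (w ^ c)⁻¹ := h3.symm
        have h6 : e = w ^ c * e * (w ^ c)⁻¹ * (v' ^ c)⁻¹ := by rw [← h5]; group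
        calc (w ^ c)⁻¹ * e * w ^ c = (w ^ c)⁻¹ * (w ^ c * e * (w ^ c)⁻¹ * (v' ^ c)⁻¹) * w ^ c := by rw [← h6]
          _ = e * ((w ^ c)⁻¹ * ((v' ^ c)⁻¹ * w ^ c)) := by group
          _ = e * ((w ^ c)⁻¹ * (w ^ c * (v' ^ c)⁻¹)) := by rw [h4]
          _ = e * (v' ^ c)⁻¹ := by group
      set v1 := e⁻¹ * (s * e * s⁻¹) with hv1def
      have h7 : s * e * s⁻¹ = e * v1 := by rw [hv1def]; group
      have h8 : (w ^ c)⁻¹ * v1 * w ^ c = v1 := by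
        have : Commute (w ^ c) v1 := (show Commute w v1 from hwV v1 hv1).pow_left c
        rw [mul_assoc, ← this.eq, inv_mul_cancel_left]
      have h9 : t * e * t⁻¹ * e⁻¹ = (v' ^ c)⁻¹ * v1 := by
        calc t * e * t⁻¹ * e⁻¹ = (w ^ c)⁻¹ * (s * e * s⁻¹) * w ^ c * e⁻¹ := by rw [ht]; group
          _ = ((w ^ c)⁻¹ * e * w ^ c) * ((w ^ c)⁻¹ * v1 * w ^ c) * e⁻¹ := by rw [h7]; group
          _ = e * ((v' ^ c)⁻¹ * v1) * e⁻¹ := by rw [h2, h8]; group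
          _ = (v' ^ c)⁻¹ * v1 := by rw [hcen e heS _ hc, mul_inv_cancel_right]
      rw [h9]; exact hc
    exact hVc v0 hv0 hv0Z t htO htv
  have hSgen : ∀ s ∈ S, ∃ c : ℕ, (w ^ c)⁻¹ * s ∈ O := by
    intro s hs
    obtain ⟨n, hn⟩ := hred s hs
    obtain ⟨c, hc⟩ := hCV _ (S.mul_mem (S.inv_mem (S.pow_mem heS n)) hs) hn
    refine ⟨c, ?_⟩
    have h1 : (w ^ c)⁻¹ * s = ((w ^ c)⁻¹ * e ^ n * (w ^ c)⁻¹⁻¹) * ((w ^ c)⁻¹ * ((e ^ n)⁻¹ * s)) := by group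
    rw [h1]
    exact O.mul_mem (h.conj_O (S.inv_mem (S.pow_mem hwS c)) (O.pow_mem heO n)) (hVO hc)
  refine ⟨V, hZV, hVO, heV, ⟨v0, hv0, hv0Z⟩, fun x hx hxs => (hVmem x).2 ⟨hx, hxs⟩, ?_, ?_⟩
  · rintro T hOT hTS ⟨t, ht, htO⟩
    refine le_antisymm hTS ?_
    obtain ⟨c, hc⟩ := hSgen t (hTS ht)
    have hwcT : w ^ c ∈ T := by
      have h1 : w ^ c = t * ((w ^ c)⁻¹ * t)⁻¹ := by group
      rw [h1]; exact T.mul_mem ht (T.inv_mem (hOT hc))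
    have hpc : ¬ p ∣ c := by
      rintro ⟨d, rfl⟩
      apply htO
      have h1 : t = w ^ (p * d) * ((w ^ (p * d))⁻¹ * t) := by group
      rw [h1]
      refine O.mul_mem ?_ hc
      rw [pow_mul]; exact O.pow_mem hwpO d
    have hwT : w ∈ T := by
      have hcop : IsCoprime (p : ℤ) (c : ℤ) := Nat.isCoprime_iff_coprime.2 ((Nat.Prime.coprime_iff_not_dvd hp).2 hpc)
      obtain ⟨a, b, hab⟩ := hcop
      have h1 : w = (w ^ p) ^ a * (w ^ c) ^ b := by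
        rw [← zpow_natCast, ← zpow_natCast w c, ← zpow_mul, ← zpow_mul, ← zpow_add]
        have : (p : ℤ) * a + c * b = 1 := by rw [mul_comm (p : ℤ) a, mul_comm (c : ℤ) b]; exact hab
        rw [this, zpow_one]
      rw [h1]
      exact T.mul_mem (T.zpow_mem (hOT hwpO) a) (T.zpow_mem hwcT b)
    intro s hs
    obtain ⟨d, hd⟩ := hSgen s hs
    have h1 : s = w ^ d * ((w ^ d)⁻¹ * s) := by group
    rw [h1]; exact T.mul_mem (T.pow_mem hwT d) (hOT hd)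
  · intro F f hf
    have hfO : ∀ x ∈ O, f x ∈ O := by
      intro x hx
      rw [h.mem _ (hf.mem (hOS hx)), ← hf.1.map_pow (hOS hx), (h.mem x (hOS hx)).1 hx, hf.1.map_one]
    have hfOs : ∀ x ∈ O, ∃ y ∈ O, f y = x := by
      intro x hx
      obtain ⟨y, hy, rfl⟩ := hf.mem_iff.1 (hOS hx)
      refine ⟨y, (h.mem y hy).2 ?_, rfl⟩
      have h1 := (h.mem _ (hf.mem hy)).1 hx
      rw [← hf.1.map_pow hy] at h1
      exact hf.1.eq_one (S.pow_mem hy p) h1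
    have hfZ : ∀ z ∈ ZO O, f z ∈ ZO O := by
      intro z hz
      rw [mem_ZO]
      refine ⟨hfO z (mem_ZO.1 hz).1, fun x hx => ?_⟩
      obtain ⟨y, hy, rfl⟩ := hfOs x hx
      rw [← hf.1.map_mul (hOS hy) (hOS (mem_ZO.1 hz).1), (mem_ZO.1 hz).2 y hy, hf.1.map_mul (hOS (mem_ZO.1 hz).1) (hOS hy)]
    have hfV : ∀ v ∈ V, f v ∈ V := by
      intro v hv
      rw [hVmem]
      refine ⟨hfO v (hVO hv), fun s hs => ?_⟩
      obtain ⟨t, ht, rfl⟩ := hf.mem_iff.1 hs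
      have h1 := hfZ _ (((hVmem v).1 hv).2 t ht)
      rw [hf.1.map_mul (S.mul_mem (S.mul_mem ht (hVS hv)) (S.inv_mem ht)) (S.inv_mem (hVS hv)), hf.1.map_conj ht (hVS hv),
        hf.1.map_inv (hVS hv)] at h1
      exact h1
    have hfVs : ∀ x ∈ V, ∃ y ∈ V, f y = x := by
      have hfV' : Finite V := Finite.of_injective _ (inclusion_injective hVS)
      have hinj : Function.Injective (fun v : V => (⟨f v, hfV v v.2⟩ : V)) := fun a b hab =>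
        Subtype.ext (hf.1.inj (hVS a.2) (hVS b.2) (congrArg Subtype.val hab))
      intro x hx
      obtain ⟨y, hy⟩ := (Finite.injective_iff_surjective.1 hinj) ⟨x, hx⟩
      exact ⟨y, y.2, congrArg Subtype.val hy⟩
    refine ⟨hfV, ?_⟩
    -- f w
    obtain ⟨c, hc⟩ := hCV (f w) (hf.mem hwS) (by
      obtain ⟨y, hy, hyv⟩ := hfVs v0 hv0
      rw [← hyv, ← hf.1.map_mul hwS (hVS hy), hwV y hy, hf.1.map_mul (hVS hy) hwS])
    set x := (w ^ c)⁻¹ * f w with hx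
    have hfw : f w = w ^ c * x := by rw [hx]; group
    -- f e
    obtain ⟨y, hy⟩ := h.gen_e hZV hVO heV ⟨v0, hv0, hv0Z⟩ (hfO e heO)
    set x1 := (e ^ y)⁻¹ * f e with hx1
    have hfe : f e = e ^ y * x1 := by rw [hx1]; group
    have hxw : Commute w x := hwV x hc
    -- f on the centre
    have hfwp : f (w ^ p) = (w ^ p) ^ c := by
      rw [hf.1.map_pow hwS, hfw, (hxw.pow_left c).mul_pow, h.heis.exp x (hVO hc), mul_one, ← pow_mul, ← pow_mul, mul_comm]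
    have hfz : ∀ z ∈ ZO O, f z = z ^ c := by
      intro z hz
      obtain ⟨n, rfl⟩ := h.heis.zpow_of hwpZ hwp1 hz
      rw [hf.1.map_pow (S.pow_mem hwS p), hfwp, ← pow_mul (w ^ p), ← pow_mul (w ^ p), mul_comm c n]
    have hcp : ¬ p ∣ c := by
      intro hd
      apply hwp1
      apply hf.1.eq_one (S.pow_mem hwS p)
      rw [hfwp]
      obtain ⟨d, rfl⟩ := hd
      rw [pow_mul, h.heis.ZO_pow hwpZ, one_pow]
    -- computation modulo ZO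
    have hn : ((ZO O).subgroupOf S).Normal := ⟨fun z hz g => h.conj_ZO' g.2 hz⟩
    obtain ⟨q, hq, hqs⟩ : ∃ q : S →* S ⧸ (ZO O).subgroupOf S, (∀ s : S, q s = 1 ↔ (s : Ω) ∈ ZO O) ∧ True :=
      ⟨QuotientGroup.mk' _, fun s => QuotientGroup.eq_one_iff s, trivial⟩
    have hqeq : ∀ (s t : Ω) (hs : s ∈ S) (ht : t ∈ S), q ⟨s, hs⟩ = q ⟨t, ht⟩ ↔ s⁻¹ * t ∈ ZO O := by
      intro s t hs ht
      rw [← hq ⟨s⁻¹ * t, S.mul_mem (S.inv_mem hs) ht⟩]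
      have : (⟨s⁻¹ * t, S.mul_mem (S.inv_mem hs) ht⟩ : S) = (⟨s, hs⟩ : S)⁻¹ * ⟨t, ht⟩ := rfl
      rw [this, map_mul, map_inv, inv_mul_eq_one]
    have hqO : ∀ (s t : Ω) (hs : s ∈ O) (ht : t ∈ O), Commute (q ⟨s, hOS hs⟩) (q ⟨t, hOS ht⟩) := by
      intro s t hs ht
      have h1 := h.heis.comm_mem hs ht
      have h2 := (hqeq s (t * s * t⁻¹) (hOS hs) (S.mul_mem (S.mul_mem (hOS ht) (hOS hs)) (S.inv_mem (hOS ht)))).2 h1
      have h3 : (⟨t * s * t⁻¹, S.mul_mem (S.mul_mem (hOS ht) (hOS hs)) (S.inv_mem (hOS ht))⟩ : S) =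
        ⟨t, hOS ht⟩ * ⟨s, hOS hs⟩ * (⟨t, hOS ht⟩ : S)⁻¹ := rfl
      rw [h3, map_mul, map_mul, map_inv] at h2
      show q ⟨s, hOS hs⟩ * q ⟨t, hOS ht⟩ = q ⟨t, hOS ht⟩ * q ⟨s, hOS hs⟩
      rw [h2, inv_mul_cancel_right, ← h2]
    -- images
    set E := q ⟨e, heS⟩ with hE
    set W := q ⟨w, hwS⟩ with hW
    set V' := q ⟨v', hVS hv'V⟩ with hV'
    set X := q ⟨x, hVS hc⟩ with hX
    set X1 := q ⟨x1, hVS hy⟩ with hX1
    have hfv'V := hfV v' hv'V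
    have r1 : W * E * W⁻¹ = E * V' := by
      have : (⟨w, hwS⟩ * ⟨e, heS⟩ * (⟨w, hwS⟩ : S)⁻¹ : S) = ⟨e, heS⟩ * ⟨v', hVS hv'V⟩ := Subtype.ext hwe
      have h1 := congrArg q this
      rw [map_mul, map_mul, map_inv, map_mul] at h1
      exact h1
    have r2 : q ⟨f w, hf.mem hwS⟩ = W ^ c * X := by
      have : (⟨f w, hf.mem hwS⟩ : S) = ⟨w, hwS⟩ ^ c * ⟨x, hVS hc⟩ := Subtype.ext hfw
      rw [this, map_mul, map_pow]
    have r3 : q ⟨f e, hf.mem heS⟩ = E ^ y * X1 := by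
      have : (⟨f e, hf.mem heS⟩ : S) = ⟨e, heS⟩ ^ y * ⟨x1, hVS hy⟩ := Subtype.ext hfe
      rw [this, map_mul, map_pow]
    have r4 : (W ^ c * X) * (E ^ y * X1) * (W ^ c * X)⁻¹ = (E ^ y * X1) * q ⟨f v', hVS hfv'V⟩ := by
      have h1 : f w * f e * (f w)⁻¹ = f e * f v' := by
        rw [← hf.1.map_conj hwS heS, hwe, hf.1.map_mul heS (hVS hv'V)]
      have : (⟨f w, hf.mem hwS⟩ * ⟨f e, hf.mem heS⟩ * (⟨f w, hf.mem hwS⟩ : S)⁻¹ : S) =
        ⟨f e, hf.mem heS⟩ * ⟨f v', hVS hfv'V⟩ := Subtype.ext h1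
      have h2 := congrArg q this
      rw [map_mul, map_mul, map_inv, map_mul, r2, r3] at h2
      exact h2
    have cEV' : Commute E V' := hqO e v' heO (hVO hv'V)
    have cWV' : Commute W V' := by
      have h1 := congrArg q (Subtype.ext (hwV v' hv'V) : (⟨w, hwS⟩ * ⟨v', hVS hv'V⟩ : S) = ⟨v', hVS hv'V⟩ * ⟨w, hwS⟩)
      rw [map_mul, map_mul] at h1
      exact h1
    have cWX1 : Commute W X1 := by
      have h1 := congrArg q (Subtype.ext (hwV x1 hy) : (⟨w, hwS⟩ * ⟨x1, hVS hy⟩ : S) = ⟨x1, hVS hy⟩ * ⟨w, hwS⟩)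
      rw [map_mul, map_mul] at h1
      exact h1
    have cXE : Commute X E := hqO x e (hVO hc) heO
    have cXX1 : Commute X X1 := hqO x x1 (hVO hc) (hVO hy)
    have cEX1 : Commute E X1 := hqO e x1 heO (hVO hy)
    have cV'X1 : Commute V' X1 := hqO v' x1 (hVO hv'V) (hVO hy)
    have r5 : ∀ k : ℕ, W ^ k * E * (W ^ k)⁻¹ = E * V' ^ k := by
      intro k
      induction k with
      | zero => simp
      | succ k ih =>
        have h1 : W * V' ^ k * W⁻¹ = V' ^ k := by rw [(cWV'.pow_right k).eq, mul_inv_cancel_right]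
        calc W ^ (k + 1) * E * (W ^ (k + 1))⁻¹ = W * (W ^ k * E * (W ^ k)⁻¹) * W⁻¹ := by rw [pow_succ']; group
          _ = W * (E * V' ^ k) * W⁻¹ := by rw [ih]
          _ = (W * E * W⁻¹) * (W * V' ^ k * W⁻¹) := by group
          _ = E * V' ^ (k + 1) := by rw [r1, h1, mul_assoc, ← pow_succ']
    have r6 : (W ^ c * X) * (E ^ y * X1) * (W ^ c * X)⁻¹ = E ^ y * V' ^ (c * y) * X1 := by
      have h1 : X * (E ^ y * X1) * X⁻¹ = E ^ y * X1 := by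
        have : Commute X (E ^ y * X1) := (cXE.pow_right y).mul_right cXX1
        rw [this.eq, mul_inv_cancel_right]
      have h2 : W ^ c * X1 * (W ^ c)⁻¹ = X1 := by rw [(cWX1.pow_left c).eq, mul_inv_cancel_right]
      calc (W ^ c * X) * (E ^ y * X1) * (W ^ c * X)⁻¹ = W ^ c * (X * (E ^ y * X1) * X⁻¹) * (W ^ c)⁻¹ := by group
        _ = W ^ c * (E ^ y * X1) * (W ^ c)⁻¹ := by rw [h1]
        _ = (W ^ c * E ^ y * (W ^ c)⁻¹) * (W ^ c * X1 * (W ^ c)⁻¹) := by group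
        _ = (W ^ c * E * (W ^ c)⁻¹) ^ y * X1 := by rw [h2, conj_pow]
        _ = (E * V' ^ c) ^ y * X1 := by rw [r5]
        _ = E ^ y * V' ^ (c * y) * X1 := by rw [(cEV'.pow_right c).mul_pow, pow_mul]
    have r7 : q ⟨f v', hVS hfv'V⟩ = V' ^ (c * y) := by
      rw [r6, mul_assoc, mul_assoc, mul_right_inj, (cV'X1.pow_left (c * y)).eq, mul_right_inj] at r4
      exact r4.symm
    -- so f v' ∈ v'^(c y) Z
    have r8 : (v' ^ (c * y))⁻¹ * f v' ∈ ZO O := by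
      rw [← hqeq (v' ^ (c * y)) (f v') (S.pow_mem (hVS hv'V) _) (hVS hfv'V), r7]
      have : (⟨v' ^ (c * y), S.pow_mem (hVS hv'V) _⟩ : S) = ⟨v', hVS hv'V⟩ ^ (c * y) := rfl
      rw [this, map_pow]
    set z := (v' ^ (c * y))⁻¹ * f v' with hz
    have hfv' : f v' = v' ^ (c * y) * z := by rw [hz]; group
    -- ζ1 = [e, v']
    set ζ1 := e * v' * e⁻¹ * v'⁻¹ with hζ1def
    have hζ1Z : ζ1 ∈ ZO O := ((hVmem v').1 hv'V).2 e heS
    have hζ1ne : ζ1 ≠ 1 := by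
      intro hh
      apply hv'Z
      apply hVe v' hv'V
      rw [hζ1def, mul_inv_eq_one, mul_inv_eq_iff_eq_mul] at hh
      exact hh.symm
    have hordζ1 : orderOf ζ1 = p := orderOf_eq_prime (h.heis.ZO_pow hζ1Z) hζ1ne
    have hcom1 : ∀ (m n : ℕ), e ^ m * v' ^ n * (e ^ m)⁻¹ = v' ^ n * ζ1 ^ (m * n) := by
      have hb : e * v' * e⁻¹ = v' * ζ1 := by
        rw [← hcen v' (hVS hv'V) ζ1 hζ1Z |>.symm, hζ1def]; group
      have hm : ∀ m : ℕ, e ^ m * v' * (e ^ m)⁻¹ = v' * ζ1 ^ m := by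
        intro m
        induction m with
        | zero => simp
        | succ m ih =>
          have h2 : e * ζ1 ^ m * e⁻¹ = ζ1 ^ m := by
            rw [hcen e heS _ ((ZO O).pow_mem hζ1Z m), mul_inv_cancel_right]
          calc e ^ (m + 1) * v' * (e ^ (m + 1))⁻¹ = e * (e ^ m * v' * (e ^ m)⁻¹) * e⁻¹ := by rw [pow_succ']; group
            _ = e * (v' * ζ1 ^ m) * e⁻¹ := by rw [ih]
            _ = (e * v' * e⁻¹) * (e * ζ1 ^ m * e⁻¹) := by group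
            _ = v' * ζ1 ^ (m + 1) := by rw [hb, h2, mul_assoc, ← pow_succ']
      intro m n
      have h1 : e ^ m * v' ^ n * (e ^ m)⁻¹ = (e ^ m * v' * (e ^ m)⁻¹) ^ n := by rw [conj_pow]
      have h2 : Commute v' (ζ1 ^ m) := hcen v' (hVS hv'V) _ ((ZO O).pow_mem hζ1Z m)
      rw [h1, hm, h2.mul_pow, pow_mul]
    have hfζ : f ζ1 = ζ1 ^ (y * (c * y)) := by
      have h1 : f ζ1 = f e * f v' * (f e)⁻¹ * (f v')⁻¹ := by
        rw [hζ1def, hf.1.map_mul (S.mul_mem (S.mul_mem heS (hVS hv'V)) (S.inv_mem heS)) (S.inv_mem (hVS hv'V)),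
          hf.1.map_conj heS (hVS hv'V), hf.1.map_inv (hVS hv'V)]
      have hzc : ∀ s ∈ S, s * z = z * s := fun s hs => hcen s hs z r8
      have hx1v : x1 * v' ^ (c * y) * x1⁻¹ = v' ^ (c * y) := by
        rw [hVcomm x1 hy _ (V.pow_mem hv'V _), mul_inv_cancel_right]
      have h2 : f e * f v' * (f e)⁻¹ = v' ^ (c * y) * ζ1 ^ (y * (c * y)) * z := by
        have h3 : (f e) * z * (f e)⁻¹ = z := by rw [hzc _ (hf.mem heS), mul_inv_cancel_right]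
        calc f e * f v' * (f e)⁻¹ = (f e * v' ^ (c * y) * (f e)⁻¹) * (f e * z * (f e)⁻¹) := by rw [hfv']; group
          _ = (e ^ y * (x1 * v' ^ (c * y) * x1⁻¹) * (e ^ y)⁻¹) * z := by rw [h3, hfe]; group
          _ = (e ^ y * v' ^ (c * y) * (e ^ y)⁻¹) * z := by rw [hx1v]
          _ = _ := by rw [hcom1]
      rw [h1, h2, hfv']
      have h4 : v' ^ (c * y) * ζ1 ^ (y * (c * y)) = ζ1 ^ (y * (c * y)) * v' ^ (c * y) :=
        hcen _ (S.pow_mem (hVS hv'V) _) _ ((ZO O).pow_mem hζ1Z _)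
      rw [h4]; group
    have hfζ' := hfz ζ1 hζ1Z
    have hmod : y * (c * y) ≡ c [MOD p] := by
      rw [← hordζ1]; exact pow_eq_pow_iff_modEq.1 (hfζ.symm.trans hfζ')
    have hyy : y * y ≡ 1 [MOD p] := by
      have h1 : c * (y * y) ≡ c * 1 [MOD p] := by
        have : c * (y * y) = y * (c * y) := by ring
        rw [this, mul_one]; exact hmod
      exact Nat.ModEq.cancel_left_of_coprime ((Nat.Prime.coprime_iff_not_dvd hp).2 hcp) h1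
    refine ⟨y, hyy, fun u hu => ?_⟩
    -- u = e^n v2
    obtain ⟨n, hn2⟩ := h.gen_e hZV hVO heV ⟨v0, hv0, hv0Z⟩ hu
    -- modulo V everything commutes: use normality of V in O
    have hVn : (V.subgroupOf O).Normal := by
      refine ⟨fun y hy g => ?_⟩
      rw [mem_subgroupOf] at hy ⊢
      have h5 := hZV (h.heis.comm_mem y.2 g.2)
      have h6 := V.mul_mem hy h5
      rw [mul_inv_cancel_left] at h6
      exact h6
    obtain ⟨r, hr⟩ : ∃ r : O →* O ⧸ V.subgroupOf O, ∀ s : O, r s = 1 ↔ (s : Ω) ∈ V :=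
      ⟨QuotientGroup.mk' _, fun s => QuotientGroup.eq_one_iff s⟩
    have hfu : f u = (f e) ^ n * f ((e ^ n)⁻¹ * u) := by
      rw [← hf.1.map_pow heS, ← hf.1.map_mul (S.pow_mem heS n) (S.mul_mem (S.inv_mem (S.pow_mem heS n)) (hOS hu)),
        mul_inv_cancel_left]
    have g1 : r ⟨f u, hfO u hu⟩ = (r ⟨e, heO⟩) ^ (y * n) := by
      have h1 : (⟨f u, hfO u hu⟩ : O) = (⟨e, heO⟩ ^ y * ⟨x1, hVO hy⟩) ^ n * ⟨f ((e ^ n)⁻¹ * u), hVO (hfV _ hn2)⟩ := by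
        apply Subtype.ext
        show f u = (e ^ y * x1) ^ n * f ((e ^ n)⁻¹ * u)
        rw [hfu, hfe]
      rw [h1, map_mul, (hr ⟨f ((e ^ n)⁻¹ * u), hVO (hfV _ hn2)⟩).2 (hfV _ hn2), mul_one, map_pow, map_mul, map_pow,
        (hr ⟨x1, hVO hy⟩).2 hy, mul_one, pow_mul]
    have g2 : r ⟨u, hu⟩ = (r ⟨e, heO⟩) ^ n := by
      have h1 : (⟨u, hu⟩ : O) = ⟨e, heO⟩ ^ n * ⟨(e ^ n)⁻¹ * u, hVO hn2⟩ := Subtype.ext (by
        show u = e ^ n * ((e ^ n)⁻¹ * u); group)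
      rw [h1, map_mul, map_pow, (hr ⟨(e ^ n)⁻¹ * u, hVO hn2⟩).2 hn2, mul_one]
    have g3 : r ((⟨u, hu⟩ ^ y)⁻¹ * ⟨f u, hfO u hu⟩) = 1 := by
      rw [map_mul, map_inv, map_pow, g1, g2, ← pow_mul, mul_comm n y, inv_mul_cancel]
    exact (hr _).1 g3

end Cfsg.Agent.Lib.RankTwoHeis
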