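import Cfsg.Agent.Lib.AgemoMeta
import Cfsg.Agent.Lib.MaxClassCrit

/-!
# `p`-groups of rank two, `p` odd: the generic configuration (helper2)
-/

set_option autoImplicit false
set_option linter.unusedSectionVars false

open Subgroup
open scoped commutatorElement

namespace Cfsg.Agent.Lib.RankTwoOdd

open Cfsg Cfsg.Agent.Lib Cfsg.Agent.Lib.AgemoMeta

universe u

/-- `E` is a normal elementary abelian subgroup of order `p²`, not central, `C` its centralizer,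
`F = E ∩ Z(G)`, and all elements of order `p` of `C` lie in `E`. -/
structure Su (G : Type u) [Group G] (p : ℕ) (E C F : Subgroup G) (e : G) : Prop where
  hp2 : p ≠ 2
  hG : IsPGroup p G
  En : E.Normal
  Ecard : Nat.card E = p ^ 2
  Ecomm : ∀ x ∈ E, ∀ y ∈ E, Commute x y
  Eexp : ∀ x ∈ E, x ^ p = 1
  Cdef : C = centralizer (E : Set G)
  omega : ∀ x ∈ C, x ^ p = 1 → x ∈ E
  Fdef : F = E ⊓ center G
  Fcard : Nat.card F = p
  eE : e ∈ E
  eF : e ∉ F
  Ctop : C ≠ ⊤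
  comm : ∀ g : G, ∀ x ∈ E, ⁅g, x⁆ ∈ F

section basic

variable {G : Type u} [Group G] [Finite G] {p : ℕ} [hp : Fact p.Prime]

theorem exists_setup (hp2 : p ≠ 2) (hG : IsPGroup p G) (hrk : PRankLE p 2 G) {E : Subgroup G} (hE : E.Normal)
    (hEe : IsElementaryAbelian p E) (hEc : Nat.card E = p ^ 2) (hC : centralizer (E : Set G) ≠ ⊤) :
    ∃ C F e, Su G p E C F e := by
  have hcomm : ∀ x ∈ E, ∀ y ∈ E, Commute x y := fun x hx y hy => PGroupOdd.comm_of_isMulCommutative hEe.1 hx hy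
  have hEne : E ≠ ⊥ := by
    intro h
    rw [h, card_bot] at hEc
    have := hp.out.one_lt
    nlinarith
  obtain ⟨ζ, hζE, hζc, hζo⟩ := PGroupOdd.exists_central_mem hG hE hEne
  set F := E ⊓ center G with hF
  have hζF : ζ ∈ F := ⟨hζE, hζc⟩
  have hFE : F ≤ E := inf_le_left
  have hFn : F.Normal := by
    constructor
    intro x hx g
    have h1 : g * x * g⁻¹ = x := by
      rw [(mem_center_iff.mp hx.2 g)]; group
    rw [h1]; exact hx
  have hFneE : F ≠ E := by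
    intro h
    apply hC
    rw [eq_top_iff]
    intro g _
    rw [mem_centralizer_iff]
    intro x hx
    rw [SetLike.mem_coe, ← h] at hx
    exact (mem_center_iff.mp hx.2 g).symm
  have hFlt : F < E := lt_of_le_of_ne hFE hFneE
  have hFc : Nat.card F = p := by
    have h1 : Nat.card F ∣ p ^ 2 := hEc ▸ card_dvd_of_le hFE
    obtain ⟨k, hk, hk'⟩ := (Nat.dvd_prime_pow hp.out).mp h1
    have h2 : k ≠ 2 := by
      rintro rfl
      exact hFneE (eq_of_le_of_card_ge hFE (by rw [hk', hEc]))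
    have h3 : k ≠ 0 := by
      rintro rfl
      rw [pow_zero] at hk'
      have h4 := card_eq_one.mp hk'
      rw [h4, mem_bot] at hζF
      rw [hζF, orderOf_one] at hζo
      exact hp.out.one_lt.ne hζo
    have h4 : k = 1 := by omega
    rw [hk', h4, pow_one]
  obtain ⟨e, heE, heF, -, heg⟩ := PGroupOdd.exists_mem_step hG hFn hE hFlt
  refine ⟨centralizer (E : Set G), F, e, hp2, hG, hE, hEc, hcomm, hEe.2, rfl, ?_, rfl, hFc, heE, heF, hC, ?_⟩
  · intro x hx hxp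
    by_contra hxE
    have h1 := PGroupOdd.card_sup_zpowers hE hxE (by rw [hxp]; exact one_mem _)
    have h2 := PGroupOdd.isMulCommutative_sup_zpowers hEe.1 hx
    have h3 := hrk (E ⊔ zpowers x) h2 (by
      intro y hy
      rw [mem_sup_of_normal_left] at hy
      obtain ⟨a, ha, _, ⟨k, rfl⟩, rfl⟩ := hy
      have h4 : Commute a (x ^ k) := Commute.zpow_right (mem_centralizer_iff.mp hx a ha) k
      simp only
      rw [h4.mul_pow, hEe.2 a ha, one_mul, ← zpow_natCast, ← zpow_mul, mul_comm, zpow_mul, zpow_natCast, hxp,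
        one_zpow])
    rw [h1, hEc] at h3
    have h4 := hp.out.one_lt
    have h5 : 0 < p ^ 2 := by positivity
    nlinarith
  · -- `E = F ⊔ ⟨e⟩`
    intro g x hx
    have h1 : F ⊔ zpowers e = E := by
      apply eq_of_le_of_card_ge (sup_le hFE (by rw [zpowers_le]; exact heE))
      rw [PGroupOdd.card_sup_zpowers hFn heF (by rw [hEe.2 e heE]; exact one_mem _), hFc, hEc, pow_two]
    rw [← h1, mem_sup_of_normal_left] at hx
    obtain ⟨f, hf, _, ⟨k, rfl⟩, rfl⟩ := hx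
    simp only
    have h2 : Commute g f := mem_center_iff.mp hf.2 g
    have h3 : Commute ⁅g, e⁆ e := hcomm _ (hFE (heg g)) _ heE
    have h4 : ⁅g, f * e ^ k⁆ = ⁅g, e ^ k⁆ := by
      rw [commutatorElement_def, commutatorElement_def]
      calc g * (f * e ^ k) * g⁻¹ * (f * e ^ k)⁻¹ = (g * f) * e ^ k * g⁻¹ * (e ^ k)⁻¹ * f⁻¹ := by group
        _ = f * (g * e ^ k * g⁻¹ * (e ^ k)⁻¹) * f⁻¹ := by rw [h2.eq]; group
        _ = _ := by
          have : Commute (g * e ^ k * g⁻¹ * (e ^ k)⁻¹) f := (mem_center_iff.mp hf.2 _)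
          rw [← this.eq]; group
    rw [h4]
    have h5 : ⁅g, e ^ k⁆ = ⁅g, e⁆ ^ k := by
      have h6 : g * e * g⁻¹ = ⁅g, e⁆ * e := by rw [commutatorElement_def]; group
      rw [commutatorElement_def, ← conj_zpow, h6, h3.mul_zpow]; group
    rw [h5]
    exact zpow_mem (heg g) k

variable {E C F : Subgroup G} {e : G}

theorem Su.p3 (h : Su G p E C F e) : 3 ≤ p := by
  have := hp.out.two_le
  have := h.hp2
  omega

theorem Su.FE (h : Su G p E C F e) : F ≤ E := by rw [h.Fdef]; exact inf_le_left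

theorem Su.Fcen (h : Su G p E C F e) {x : G} (hx : x ∈ F) (g : G) : Commute x g := by
  rw [h.Fdef] at hx
  exact ((mem_center_iff.mp hx.2 g) : Commute g x).symm

theorem Su.EC (h : Su G p E C F e) : E ≤ C := by
  rw [h.Cdef]
  intro x hx
  rw [mem_centralizer_iff]
  intro y hy
  exact h.Ecomm y hy x hx

theorem Su.EcC (h : Su G p E C F e) {x c : G} (hx : x ∈ E) (hc : c ∈ C) : Commute x c := by
  rw [h.Cdef, mem_centralizer_iff] at hc
  exact hc x hx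

theorem Su.Cn (h : Su G p E C F e) : C.Normal := by
  rw [h.Cdef]
  haveI := h.En
  infer_instance

theorem Su.Fn (h : Su G p E C F e) : F.Normal := by
  constructor
  intro x hx g
  have h1 : g * x * g⁻¹ = x := by rw [← (h.Fcen hx g).eq]; group
  rw [h1]; exact hx

theorem Su.sup_eq (h : Su G p E C F e) {x : G} (hx : x ∈ E) (hxF : x ∉ F) : F ⊔ zpowers x = E := by
  apply eq_of_le_of_card_ge (sup_le h.FE (by rw [zpowers_le]; exact hx))
  rw [PGroupOdd.card_sup_zpowers h.Fn hxF (by rw [h.Eexp x hx]; exact one_mem _), h.Fcard, h.Ecard, pow_two]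

/-- an element of `E` commuting with an element outside `C` is in `F` -/
theorem Su.mem_F (h : Su G p E C F e) {g x : G} (hg : g ∉ C) (hx : x ∈ E) (hgx : Commute x g) : x ∈ F := by
  by_contra hxF
  apply hg
  rw [h.Cdef, mem_centralizer_iff]
  intro y hy
  haveI := h.Fn
  rw [SetLike.mem_coe, ← h.sup_eq hx hxF, mem_sup_of_normal_left] at hy
  obtain ⟨f, hf, _, ⟨k, rfl⟩, rfl⟩ := hy
  exact (Commute.mul_left (h.Fcen hf g) (hgx.zpow_left k)).eq

/-- every element of `F` is a power of a nontrivial one -/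
theorem Su.zpow_F (h : Su G p E C F e) {x y : G} (hx : x ∈ F) (hx1 : x ≠ 1) (hy : y ∈ F) : ∃ k : ℤ, x ^ k = y := by
  have h1 : (⟨y, hy⟩ : F) ∈ zpowers (⟨x, hx⟩ : F) :=
    mem_zpowers_of_prime_card h.Fcard (fun hh => hx1 (congrArg Subtype.val hh))
  obtain ⟨k, hk⟩ := h1
  exact ⟨k, congrArg Subtype.val hk⟩

theorem Su.pc (h : Su G p E C F e) {x y : G} (hx : x ∈ C) (hy : y ∈ C) (hxy : x ^ p = y ^ p) : x⁻¹ * y ∈ E := by
  apply h.omega _ (mul_mem (inv_mem hx) hy)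
  exact pcentral h.hp2 h.hG (C := C) (fun a ha hap b hb => h.EcC (h.omega a ha hap) hb) hx hy hxy

/-- the commutator map with `e` -/
theorem Su.exists_chi (h : Su G p E C F e) : ∃ χ : G →* F, ∀ g, ((χ g : F) : G) = ⁅g, e⁆ :=
  ⟨{ toFun := fun g => ⟨⁅g, e⁆, h.comm g e h.eE⟩
     map_one' := by apply Subtype.ext; simp
     map_mul' := by
      intro a b
      apply Subtype.ext
      show ⁅a * b, e⁆ = ⁅a, e⁆ * ⁅b, e⁆
      have h1 : ⁅a * b, e⁆ = a * ⁅b, e⁆ * a⁻¹ * ⁅a, e⁆ := by simp only [commutatorElement_def]; group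
      rw [h1, ← (h.Fcen (h.comm b e h.eE) a).eq, mul_inv_cancel_right, (h.Fcen (h.comm b e h.eE) _).eq] },
    fun _ => rfl⟩

theorem Su.mem_C_iff (h : Su G p E C F e) (g : G) : g ∈ C ↔ ⁅g, e⁆ = 1 := by
  rw [commutatorElement_eq_one_iff_mul_comm]
  constructor
  · intro hg
    exact (h.EcC h.eE hg).symm.eq
  · intro hg
    by_contra hgC
    exact h.eF (h.mem_F hgC h.eE (Eq.symm hg))

theorem Su.exists_zpow (h : Su G p E C F e) {g : G} (hg : g ∉ C) (x : G) : ∃ (k : ℤ) (c : G), c ∈ C ∧ x = c * g ^ k := by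
  obtain ⟨χ, hχ⟩ := h.exists_chi
  have h1 : χ g ≠ 1 := by
    intro hh
    apply hg
    rw [h.mem_C_iff, ← hχ, hh]; rfl
  have h2 : χ x ∈ zpowers (χ g) := mem_zpowers_of_prime_card h.Fcard h1
  obtain ⟨k, hk⟩ := h2
  refine ⟨k, x * (g ^ k)⁻¹, ?_, by group⟩
  rw [h.mem_C_iff, ← hχ, map_mul, map_inv, map_zpow, ← hk]
  simp

theorem Su.index_C (h : Su G p E C F e) : C.index = p := by
  obtain ⟨χ, hχ⟩ := h.exists_chi
  have h1 : C = χ.ker := by
    ext g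
    rw [h.mem_C_iff, MonoidHom.mem_ker, ← hχ]
    constructor
    · intro hh; exact Subtype.ext hh
    · intro hh; rw [hh]; rfl
  have h2 : C.index ∣ p := by
    rw [h1, index_ker, ← h.Fcard]
    exact card_subgroup_dvd_card _
  rcases (Nat.dvd_prime hp.out).mp h2 with h3 | h3
  · exact absurd (index_eq_one.mp h3) h.Ctop
  · exact h3

/-- if `G` is not metacyclic, every `p`-th power is the `p`-th power of an element of `C` -/
theorem Su.exists_pow_eq (h : Su G p E C F e) (hm : ¬ IsMetacyclic G) (g : G) : ∃ c ∈ C, g ^ p = c ^ p := by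
  classical
  set S : Set G := {u | ∃ c ∈ C, u = c ^ p} with hS
  set U := closure (Set.range fun x : G => x ^ p) with hU
  have hSU : S ⊆ (U : Set G) := by
    rintro _ ⟨c, -, rfl⟩
    exact Subgroup.subset_closure ⟨c, rfl⟩
  have hidx : p ^ 3 ≤ U.index := by
    by_contra hlt
    push Not at hlt
    apply hm
    apply metacyclic h.hp2 h.hG
    obtain ⟨k, hk⟩ := h.hG.index U
    rw [hk] at hlt ⊢
    have := (Nat.pow_lt_pow_iff_right hp.out.one_lt).mp hlt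
    exact Nat.pow_le_pow_right hp.out.pos (by omega)
  have hcard : Nat.card C ≤ Nat.card E * Nat.card S := by
    rw [← Nat.card_prod]
    have hch : ∀ s : S, ∃ c ∈ C, (s : G) = c ^ p := fun s => s.2
    choose r hr hr' using hch
    let f : C → E × S := fun c =>
      (⟨(r ⟨(c : G) ^ p, c, c.2, rfl⟩)⁻¹ * c, h.pc (hr _) c.2 (hr' ⟨(c : G) ^ p, c, c.2, rfl⟩).symm⟩,
        ⟨(c : G) ^ p, c, c.2, rfl⟩)
    apply Nat.card_le_card_of_injective f
    intro a b hab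
    have h1 : (⟨(a : G) ^ p, a, a.2, rfl⟩ : S) = ⟨(b : G) ^ p, b, b.2, rfl⟩ := congrArg Prod.snd hab
    have h2 : (r ⟨(a : G) ^ p, a, a.2, rfl⟩)⁻¹ * (a : G) = (r ⟨(b : G) ^ p, b, b.2, rfl⟩)⁻¹ * (b : G) :=
      congrArg (fun q => ((Prod.fst q : E) : G)) hab
    rw [h1] at h2
    exact Subtype.ext (mul_left_cancel h2)
  have hUle : Nat.card U ≤ Nat.card S := by
    have h1 := C.card_mul_index
    rw [h.index_C] at h1
    have h2 := U.card_mul_index
    have h3 : Nat.card U * p ^ 3 ≤ Nat.card G := by rw [← h2]; exact Nat.mul_le_mul_left _ hidx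
    have h4 : Nat.card G ≤ p ^ 3 * Nat.card S := by
      rw [← h1]
      calc Nat.card C * p ≤ (Nat.card E * Nat.card S) * p := Nat.mul_le_mul_right _ hcard
        _ = p ^ 3 * Nat.card S := by rw [h.Ecard]; ring
    have h5 : 0 < p ^ 3 := pow_pos hp.out.pos 3
    have h6 : Nat.card U * p ^ 3 ≤ Nat.card S * p ^ 3 := by rw [mul_comm (Nat.card S)]; exact h3.trans h4
    exact Nat.le_of_mul_le_mul_right h6 h5
  have hSeq : S = (U : Set G) := by
    apply Set.eq_of_subset_of_ncard_le hSU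
    rw [← Nat.card_coe_set_eq, ← Nat.card_coe_set_eq]
    exact hUle
  have h1 : g ^ p ∈ (U : Set G) := Subgroup.subset_closure ⟨g, rfl⟩
  rw [← hSeq] at h1
  exact h1

/-- an element outside `C` with `p`-th power in `F` -/
theorem Su.exists_t' (h : Su G p E C F e) (hm : ¬ IsMetacyclic G) {g : G} (hg : g ∉ C) :
    ∃ t, t ∉ C ∧ t ^ p ∈ F ∧ (3 < p → t ^ p = 1) := by
  obtain ⟨c, hc, hgc⟩ := h.exists_pow_eq hm g
  have hy : g⁻¹ * c * g ∈ C := by
    have := h.Cn.conj_mem c hc g⁻¹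
    rwa [inv_inv] at this
  have hyp : c ^ p = (g⁻¹ * c * g) ^ p := by
    have h1 := conj_pow (i := p) (a := g⁻¹) (b := c)
    rw [inv_inv] at h1
    rw [h1, ← hgc, mul_assoc, ← pow_succ, pow_succ', inv_mul_cancel_left]
  have h1 := h.pc hc hy hyp
  set d := c * g⁻¹ * c⁻¹ * g with hd
  have hdE : d ∈ E := by
    have h2 : d = c * (c⁻¹ * (g⁻¹ * c * g))⁻¹ * c⁻¹ := by rw [hd]; group
    rw [h2]
    exact h.En.conj_mem _ (inv_mem h1) c
  set f := d⁻¹ * g⁻¹ * d * g with hf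
  have hfF : f ∈ F := by
    have h2 : f = (⁅g⁻¹, d⁻¹⁆)⁻¹ := by rw [hf, commutatorElement_def]; group
    rw [h2]
    exact inv_mem (h.comm _ _ (inv_mem hdE))
  have h3 := PGroupOdd.mul_pow_of_comm3 (y := g) (m := c⁻¹) (d := d) (e := f) (by rw [hd]; group)
    (by rw [hf]; group) (h.Fcen hfF g) (h.EcC hdE hc).symm.inv_left (h.Fcen hfF _).symm (h.Fcen hfF _).symm p
  rw [inv_pow, hgc, mul_inv_cancel, one_mul, PGroupOdd.pow_choose_two_eq_one hp.out h.hp2 (h.Eexp d hdE),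
    one_mul] at h3
  refine ⟨g * c⁻¹, ?_, ?_, ?_⟩
  · intro hh
    apply hg
    have := mul_mem hh hc
    rwa [inv_mul_cancel_right] at this
  · rw [h3]; exact pow_mem hfF _
  · intro hp3
    rw [h3]
    exact PGroupOdd.pow_choose_three_eq_one hp.out hp3 (h.Eexp f (h.FE hfF))

/-! ### The case `E < C` -/

/-- the data of an element `w ∈ C \ E` with `w ^ p ∈ F`, `[w, G] ≤ E` -/
structure W (G : Type u) [Group G] (p : ℕ) (E C F : Subgroup G) (w : G) : Prop where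
  wC : w ∈ C
  wE : w ∉ E
  wp : w ^ p ∈ F
  wp1 : w ^ p ≠ 1
  comm : ∀ g : G, ⁅g, w⁆ ∈ E

theorem Su.exists_w (h : Su G p E C F e) (hEC : E ≠ C) : ∃ w, W G p E C F w := by
  obtain ⟨w, hwC, hwE, hwp, hwg⟩ := PGroupOdd.exists_mem_step h.hG h.En h.Cn (lt_of_le_of_ne h.EC hEC)
  refine ⟨w, hwC, hwE, ?_, fun h1 => hwE (h.omega w hwC h1), hwg⟩
  rw [h.Fdef]
  refine ⟨hwp, mem_center_iff.mpr fun g => ?_⟩
  have h1 : g * w * g⁻¹ = ⁅g, w⁆ * w := by rw [commutatorElement_def]; group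
  have h2 : g * w ^ p * g⁻¹ = w ^ p := by
    rw [← conj_pow, h1, (h.EcC (hwg g) hwC).mul_pow, h.Eexp _ (hwg g), one_mul]
  calc g * w ^ p = (g * w ^ p * g⁻¹) * g := by group
    _ = w ^ p * g := by rw [h2]

variable {w : G}

theorem W.exists_zpow (hw : W G p E C F w) (h : Su G p E C F e) {x : G} (hx : x ∈ C) (hxF : x ^ p ∈ F) :
    ∃ j : ℤ, (w ^ j)⁻¹ * x ∈ E := by
  obtain ⟨j, hj⟩ := h.zpow_F hw.wp hw.wp1 hxF
  refine ⟨j, h.pc (zpow_mem hw.wC j) hx ?_⟩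
  rw [← hj, ← zpow_natCast, ← zpow_natCast, ← zpow_mul, ← zpow_mul, mul_comm]

theorem W.zpow_mem_E (hw : W G p E C F w) (h : Su G p E C F e) {j : ℤ} (hj : (p : ℤ) ∣ j) : w ^ j ∈ E := by
  obtain ⟨k, rfl⟩ := hj
  rw [zpow_mul, zpow_natCast]
  exact zpow_mem (h.FE hw.wp) k

/-- conjugation of `w ^ j` -/
theorem W.conj_zpow (hw : W G p E C F w) (h : Su G p E C F e) (g : G) (j : ℤ) :
    g * w ^ j * g⁻¹ = ⁅g, w⁆ ^ j * w ^ j := by
  have h1 : g * w * g⁻¹ = ⁅g, w⁆ * w := by rw [commutatorElement_def]; group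
  rw [← _root_.conj_zpow, h1, (h.EcC (hw.comm g) hw.wC).mul_zpow]

/-- the centralizer in `C` of an element outside `C` is `F`, unless `[g, w] ∈ F` -/
theorem W.cent (hw : W G p E C F w) (h : Su G p E C F e) {g : G} (hg : g ∉ C) (hgw : ⁅g, w⁆ ∉ F)
    {x : G} (hx : x ∈ C) (hxg : Commute x g) : x ∈ F := by
  by_contra hxF
  -- the last power outside `F`
  have hex : ∃ i : ℕ, x ^ p ^ i ∈ F := by
    obtain ⟨k, hk⟩ := IsPGroup.iff_orderOf.mp h.hG x
    exact ⟨k, by rw [← hk, pow_orderOf_eq_one]; exact one_mem _⟩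
  classical
  obtain ⟨i, hi, hi'⟩ : ∃ i, x ^ p ^ i ∉ F ∧ x ^ p ^ (i + 1) ∈ F := by
    have h1 := Nat.find_spec hex
    have h2 : Nat.find hex ≠ 0 := by
      intro h0
      rw [h0, pow_zero, pow_one] at h1
      exact hxF h1
    obtain ⟨i, hi⟩ := Nat.exists_eq_succ_of_ne_zero h2
    refine ⟨i, Nat.find_min hex (by omega), ?_⟩
    rw [← Nat.succ_eq_add_one, ← hi]; exact h1
  set y := x ^ p ^ i with hy
  have hyC : y ∈ C := pow_mem hx _
  have hyg : Commute y g := hxg.pow_left _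
  have hyp : y ^ p ∈ F := by rw [hy, ← pow_mul, ← pow_succ]; exact hi'
  obtain ⟨j, hj⟩ := hw.exists_zpow h hyC hyp
  set ε := (w ^ j)⁻¹ * y with hε
  have hyε : y = w ^ j * ε := by rw [hε]; group
  by_cases hpj : (p : ℤ) ∣ j
  · have : y ∈ E := by rw [hyε]; exact mul_mem (hw.zpow_mem_E h hpj) hj
    exact hi (h.mem_F hg this hyg)
  · -- `⁅g, w⁆ ^ j ∈ F`
    have h1 : g * y * g⁻¹ = y := by rw [← hyg.eq]; group
    have h2 : g * y * g⁻¹ = ⁅g, w⁆ ^ j * w ^ j * (⁅g, ε⁆ * ε) := by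
      rw [hyε, ← hw.conj_zpow h g j, commutatorElement_def]; group
    have h3 : ⁅g, w⁆ ^ j ∈ F := by
      have h4 : ⁅g, w⁆ ^ j * w ^ j * (⁅g, ε⁆ * ε) = w ^ j * ε := by rw [← h2, h1, hyε]
      have h5 : w ^ j * ⁅g, ε⁆ = ⁅g, ε⁆ * w ^ j := ((h.Fcen (h.comm g ε hj) (w ^ j)).symm).eq
      have h6 : ⁅g, w⁆ ^ j * ⁅g, ε⁆ = 1 := by
        have h7 : ⁅g, w⁆ ^ j * ⁅g, ε⁆ * (w ^ j * ε) = w ^ j * ε := by
          rw [← h4]
          calc ⁅g, w⁆ ^ j * ⁅g, ε⁆ * (⁅g, w⁆ ^ j * w ^ j * (⁅g, ε⁆ * ε)) = ⁅g, w⁆ ^ j * ⁅g, ε⁆ * (w ^ j * ε) := by rw [h4]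
            _ = ⁅g, w⁆ ^ j * (⁅g, ε⁆ * w ^ j) * ε := by group
            _ = ⁅g, w⁆ ^ j * w ^ j * (⁅g, ε⁆ * ε) := by rw [← h5]; group
        exact mul_eq_right.mp h7
      rw [eq_inv_of_mul_eq_one_left h6]
      exact inv_mem (h.comm g ε hj)
    apply hgw
    have hcop : IsCoprime j (p : ℤ) := by
      rw [isCoprime_comm]
      exact (Int.prime_iff_natAbs_prime.mpr (by simpa using hp.out)).coprime_iff_not_dvd.mpr hpj
    obtain ⟨a, b, hab⟩ := hcop
    have h7 : ⁅g, w⁆ = (⁅g, w⁆ ^ j) ^ a * (⁅g, w⁆ ^ p) ^ b := by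
      rw [← zpow_mul, ← zpow_natCast ⁅g, w⁆ p, ← zpow_mul, ← zpow_add]
      rw [show j * a + (p : ℤ) * b = 1 by linarith, zpow_one]
    rw [h7, h.Eexp _ (hw.comm g), one_zpow, mul_one]
    exact zpow_mem h3 a

/-- the maximal class criterion -/
theorem W.max_class (hw : W G p E C F w) (h : Su G p E C F e) {g : G} (hg : g ∉ C) (hgw : ⁅g, w⁆ ∉ F)
    {n : ℕ} (hn : Nat.card G = p ^ n) : Group.nilpotencyClass G = n - 1 := by
  have hgp : g ^ p ∈ F := by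
    apply hw.cent h hg hgw
    · have h1 := h.index_C
      haveI := h.Cn
      have := Subgroup.pow_index_mem C g
      rwa [h1] at this
    · exact (Commute.refl g).pow_left p
  have hgF : g ∉ F := fun hh => hg (h.EC (h.FE hh))
  refine MaxClassCrit.nilpotencyClass_of_self_centralizing n hn (F ⊔ zpowers g) ?_ ?_
  · rw [PGroupOdd.card_sup_zpowers h.Fn hgF hgp, h.Fcard, pow_two]
  · intro x hx
    obtain ⟨k, c, hc, hxc⟩ := h.exists_zpow hg x
    have h1 : Commute c g := by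
      have h2 : Commute x g := (mem_centralizer_iff.mp hx g (mem_sup_right (mem_zpowers g))).symm
      have h3 : c = x * (g ^ k)⁻¹ := by rw [hxc]; group
      rw [h3]
      exact h2.mul_left ((Commute.refl g).zpow_left k).inv_left
    rw [hxc]
    exact mul_mem (mem_sup_left (hw.cent h hg hgw hc h1)) (mem_sup_right (zpow_mem (mem_zpowers g) k))

/-- an element `t` of order `p` outside `C`, normalizing things for `p = 3` -/
theorem W.exists_t (hw : W G p E C F w) (h : Su G p E C F e) (hm : ¬ IsMetacyclic G)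
    (h3 : p = 3 → ∀ g, g ∉ C → ⁅g, w⁆ ∈ F) : ∃ t, t ∉ C ∧ t ^ p = 1 := by
  obtain ⟨g, hg⟩ : ∃ g, g ∉ C := by
    by_contra hcon
    push Not at hcon
    exact h.Ctop (eq_top_iff.mpr fun x _ => hcon x)
  obtain ⟨t, ht, htF, ht1⟩ := h.exists_t' hm hg
  by_cases hp3 : 3 < p
  · exact ⟨t, ht, ht1 hp3⟩
  have hp3' : p = 3 := by have := h.p3; omega
  -- choose `w' = w ε` commuting with `t`
  have h1 := h3 hp3' t ht
  have h2 : ⁅t, e⁆ ≠ 1 := by
    intro hh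
    exact ht ((h.mem_C_iff t).mpr hh)
  obtain ⟨k, hk⟩ := h.zpow_F (h.comm t e h.eE) h2 h1
  set w' := w * (e ^ k)⁻¹ with hw'
  have hekE : e ^ k ∈ E := zpow_mem h.eE k
  have hcw : Commute t w' := by
    have h4 : t * e ^ k * t⁻¹ = ⁅t, w⁆ * e ^ k := by
      have h5 : t * e * t⁻¹ = ⁅t, e⁆ * e := by rw [commutatorElement_def]; group
      rw [← _root_.conj_zpow, h5, (h.Fcen (h.comm t e h.eE) e).mul_zpow, hk]
    have h6 : t * w * t⁻¹ = ⁅t, w⁆ * w := by rw [commutatorElement_def]; group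
    have h7 : t * w' * t⁻¹ = w' := by
      have h8 : t * w' * t⁻¹ = (t * w * t⁻¹) * (t * e ^ k * t⁻¹)⁻¹ := by rw [hw']; group
      rw [h8, h4, h6, mul_inv_rev]
      have h9 : Commute ⁅t, w⁆ (w * (e ^ k)⁻¹) := h.Fcen h1 _
      calc ⁅t, w⁆ * w * ((e ^ k)⁻¹ * ⁅t, w⁆⁻¹) = (⁅t, w⁆ * (w * (e ^ k)⁻¹)) * ⁅t, w⁆⁻¹ := by group
        _ = w' := by rw [h9.eq, mul_inv_cancel_right]
    show t * w' = w' * t
    calc t * w' = (t * w' * t⁻¹) * t := by group
      _ = w' * t := by rw [h7]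
  have hw'p : w' ^ p = w ^ p := by
    rw [hw', (h.EcC (inv_mem hekE) hw.wC).symm.mul_pow, inv_pow, h.Eexp _ hekE, inv_one, mul_one]
  have hw'C : w' ∈ C := mul_mem hw.wC (inv_mem (h.EC hekE))
  obtain ⟨l, hl⟩ := h.zpow_F hw.wp hw.wp1 htF
  refine ⟨t * (w' ^ l)⁻¹, ?_, ?_⟩
  · intro hh
    apply ht
    have := mul_mem hh (zpow_mem hw'C l)
    rwa [inv_mul_cancel_right] at this
  · rw [((hcw.zpow_right l).inv_right).mul_pow, inv_pow, ← hl, ← hw'p, ← zpow_natCast, ← zpow_natCast, ← zpow_mul,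
      ← zpow_mul, mul_comm, mul_inv_cancel]

/-- Claim N -/
theorem W.mem_E (hw : W G p E C F w) (h : Su G p E C F e) {t : G} (ht : t ^ p = 1)
    (h3 : p = 3 → ⁅t⁻¹, w⁆ ∈ F) {c : G} (hc : c ∈ C) (hm : (t⁻¹ * c * t * c⁻¹) ^ p ∈ F) :
    t⁻¹ * c * t * c⁻¹ ∈ E := by
  set m := t⁻¹ * c * t * c⁻¹ with hmdef
  have hmC : m ∈ C := by
    have := h.Cn.conj_mem c hc t⁻¹
    rw [inv_inv] at this
    exact mul_mem this (inv_mem hc)
  obtain ⟨j, hj⟩ := hw.exists_zpow h hmC hm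
  set ε := (w ^ j)⁻¹ * m with hε
  have hmε : m = w ^ j * ε := by rw [hε]; group
  set d := m⁻¹ * t⁻¹ * m * t with hd
  have hd1 : d = ε⁻¹ * ((w ^ j)⁻¹ * (⁅t⁻¹, w⁆ ^ j * w ^ j)) * (⁅t⁻¹, ε⁆ * ε) := by
    rw [← hw.conj_zpow h, hd, hmε, commutatorElement_def]; group
  have hwj : Commute (⁅t⁻¹, w⁆ ^ j) (w ^ j) := h.EcC (zpow_mem (hw.comm _) j) (zpow_mem hw.wC j)
  have hd2 : d = ⁅t⁻¹, w⁆ ^ j * ⁅t⁻¹, ε⁆ := by
    rw [hd1, hwj.eq, inv_mul_cancel_left]
    have e1 : Commute ε⁻¹ (⁅t⁻¹, w⁆ ^ j) := h.Ecomm _ (inv_mem hj) _ (zpow_mem (hw.comm _) j)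
    have e2 : Commute ε⁻¹ ⁅t⁻¹, ε⁆ := (h.Fcen (h.comm _ _ hj) _).symm
    calc ε⁻¹ * ⁅t⁻¹, w⁆ ^ j * (⁅t⁻¹, ε⁆ * ε) = ⁅t⁻¹, w⁆ ^ j * (ε⁻¹ * ⁅t⁻¹, ε⁆) * ε := by rw [e1.eq]; group
      _ = _ := by rw [e2.eq]; group
  have hdE : d ∈ E := by
    rw [hd2]
    exact mul_mem (zpow_mem (hw.comm _) j) (h.FE (h.comm _ _ hj))
  set f := d⁻¹ * t⁻¹ * d * t with hf
  have hfF : f ∈ F := by
    have h2 : f = (⁅t⁻¹, d⁻¹⁆)⁻¹ := by rw [hf, commutatorElement_def]; group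
    rw [h2]
    exact inv_mem (h.comm _ _ (inv_mem hdE))
  have key := PGroupOdd.mul_pow_of_comm3 (y := t) (m := m) (d := d) (e := f) (by rw [hd]; group)
    (by rw [hf]; group) (h.Fcen hfF t) (h.EcC hdE hmC).symm (h.Fcen hfF _).symm (h.Fcen hfF _).symm p
  have h4 : t * m = c * t * c⁻¹ := by rw [hmdef]; group
  rw [h4, conj_pow, ht, mul_one, mul_inv_cancel, one_mul,
    PGroupOdd.pow_choose_two_eq_one hp.out h.hp2 (h.Eexp d hdE), mul_one] at key
  apply h.omega m hmC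
  have h5 : f ^ (p.choose 3) = 1 := by
    by_cases hp3 : 3 < p
    · exact PGroupOdd.pow_choose_three_eq_one hp.out hp3 (h.Eexp f (h.FE hfF))
    · have hp3' : p = 3 := by have := h.p3; omega
      have hdF : d ∈ F := by
        rw [hd2]
        exact mul_mem (zpow_mem (h3 hp3') j) (h.comm _ _ hj)
      have : f = 1 := by
        rw [hf, mul_assoc, (h.Fcen hdF t).eq]; group
      rw [this, one_pow]
  rw [h5, mul_one] at key
  exact key.symm

/-- `x ∈ C`, `x ^ p ∈ E` imply `x ^ p ∈ F` -/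
theorem W.pow_mem_F (hw : W G p E C F w) (h : Su G p E C F e) {t : G} (htC : t ∉ C) (ht : t ^ p = 1)
    (h3 : p = 3 → ⁅t⁻¹, w⁆ ∈ F) {x : G} (hx : x ∈ C) (hxp : x ^ p ∈ E) : x ^ p ∈ F := by
  by_contra hxF
  have htC' : t⁻¹ ∉ C := fun hh => htC (by simpa using inv_mem hh)
  set f := ⁅t⁻¹, x ^ p⁆ with hf
  have hfF : f ∈ F := h.comm _ _ hxp
  have hf1 : f ≠ 1 := by
    intro hh
    rw [hf, commutatorElement_eq_one_iff_mul_comm] at hh
    exact hxF (h.mem_F htC' hxp (Eq.symm hh))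
  obtain ⟨k, hk⟩ := h.zpow_F hw.wp hw.wp1 hfF
  have hx'C : t⁻¹ * x * t ∈ C := by
    have := h.Cn.conj_mem x hx t⁻¹
    rwa [inv_inv] at this
  have hx'p : (t⁻¹ * x * t) ^ p = f * x ^ p := by
    have h1 := conj_pow (i := p) (a := t⁻¹) (b := x)
    rw [inv_inv] at h1
    rw [h1, hf, commutatorElement_def]; group
  -- `(w ^ k x) ^ p = f x ^ p`
  have hcm : ⁅x⁻¹, (w ^ k)⁻¹⁆ ∈ E := by
    have h1 : ⁅x⁻¹, (w ^ k)⁻¹⁆ = x⁻¹ * w ^ (-k) * x⁻¹⁻¹ * w ^ k := by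
      rw [commutatorElement_def]; group
    rw [h1, hw.conj_zpow h]
    have h2 : ⁅x⁻¹, w⁆ ^ (-k) * w ^ (-k) * w ^ k = ⁅x⁻¹, w⁆ ^ (-k) := by group
    rw [h2]
    exact zpow_mem (hw.comm _) _
  have h5 := PGroupOdd.mul_pow_of_comm (x := w ^ k) (y := x) (c := ⁅x⁻¹, (w ^ k)⁻¹⁆)
    (by rw [commutatorElement_def]; group) (h.EcC hcm (zpow_mem hw.wC k)) (h.EcC hcm hx) p
  rw [PGroupOdd.pow_choose_two_eq_one hp.out h.hp2 (h.Eexp _ hcm), mul_one] at h5
  have h6 : (w ^ k) ^ p = f := by rw [← hk, ← zpow_natCast, ← zpow_natCast, ← zpow_mul, ← zpow_mul, mul_comm]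
  rw [h6, ← hx'p] at h5
  have h7 := h.pc (mul_mem (zpow_mem hw.wC k) hx) hx'C h5
  set ε := (w ^ k * x)⁻¹ * (t⁻¹ * x * t) with hε
  have h8 : t⁻¹ * x * t * x⁻¹ = w ^ k * (x * ε * x⁻¹) := by rw [hε]; group
  have hε' : x * ε * x⁻¹ ∈ E := h.En.conj_mem ε h7 x
  have h9 : (t⁻¹ * x * t * x⁻¹) ^ p = f := by
    rw [h8, (h.EcC hε' (zpow_mem hw.wC k)).symm.mul_pow, h.Eexp _ hε', mul_one, h6]
  have h10 := hw.mem_E h ht h3 hx (by rw [h9]; exact hfF)
  rw [h.Eexp _ h10] at h9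
  exact hf1 h9.symm

end basic

end Cfsg.Agent.Lib.RankTwoOdd
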