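import Cfsg.Agent.Lib.ClassAction
import Cfsg.Agent.Lib.Clifford
import Cfsg.Agent.Lib.FrobSchur
import Cfsg.Agent.Lib.CharBasic2

/-!
# Real characters and normal subgroups of odd index (helper81)
-/

set_option autoImplicit false
set_option linter.unusedSectionVars false

namespace Cfsg.Agent.Lib.RealOdd

open scoped ComplexConjugate
open Cfsg Cfsg.Agent.Lib.CharBasic Cfsg.Agent.Lib.PermLemma Cfsg.Agent.Lib.OrbitCount
open Cfsg.Agent.Lib.ClassAction Cfsg.Agent.Lib.Clifford Cfsg.Agent.Lib.FrobSchur MulAction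

universe u

variable {G : Type u} [Group G]

theorem conj_eq_iff_real {X : Type*} (χ : X → ℂ) :
    (fun x => conj (χ x)) = χ ↔ ∀ x, (χ x).im = 0 := by
  constructor
  · intro h x
    exact Complex.conj_eq_iff_im.mp (congrFun h x)
  · intro h
    funext x
    exact Complex.conj_eq_iff_im.mpr (h x)

theorem irrConj_eq_iff [Finite G] (χ : IrrCharacter G) :
    irrConj G χ = χ ↔ ∀ g : G, ((χ : G → ℂ) g).im = 0 := by
  rw [Subtype.ext_iff, ← conj_eq_iff_real]
  rfl

/-- Parity argument. -/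
theorem exists_real_of_odd_sum [Finite G] (f : IrrCharacter G → ℕ)
    (hf : ∀ χ, f (irrConj G χ) = f χ) (hodd : Odd (∑ χ : IrrCharacter G, f χ)) :
    ∃ χ : IrrCharacter G, (∀ g : G, ((χ : G → ℂ) g).im = 0) ∧ Odd (f χ) := by
  by_contra hcon
  push Not at hcon
  have h1 : ∑ χ : IrrCharacter G, (f χ : ZMod 2) = 0 := by
    apply Finset.sum_involution (fun χ _ => irrConj G χ)
    · intro χ _
      rw [hf, ← two_mul]
      have : (2 : ZMod 2) = 0 := by decide
      rw [this, zero_mul]
    · intro χ _ hχ h2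
      apply hχ
      rw [irrConj_eq_iff] at h2
      have h3 := hcon χ h2
      rw [Nat.not_odd_iff_even] at h3
      exact (ZMod.natCast_eq_zero_iff _ _).mpr h3.two_dvd
    · intro χ _; exact Finset.mem_univ _
    · intro χ _; exact irrConj_irrConj χ
  rw [← Nat.cast_sum, ZMod.natCast_eq_zero_iff] at h1
  exact (Nat.not_even_iff_odd.mpr hodd) (even_iff_two_dvd.mpr h1)

/-- For `K` normal of odd index, `G` has as many orbits on the real irreducible characters of `K`
as on the real classes of `K`. -/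
theorem card_quot_real_eq {G : Type*} [Group G] [Finite G] (K : Subgroup G) [K.Normal] (hodd : Odd K.index) : Nat.card (Quot (fun θ η : {θ : Cfsg.IrrCharacter ↥K // (∀ k : ↥K, ((θ : ↥K → ℂ) k).im = 0)} => ∃ g : G, ∀ k k' : ↥K, (k' : G) = g * (k : G) * g⁻¹ → (η.1 : ↥K → ℂ) k' = (θ.1 : ↥K → ℂ) k)) = Nat.card (Quot (fun x y : {x : ↥K // IsConj x x⁻¹} => ∃ g : G, (y.1 : G) = g * x.1 * g⁻¹)) := by
  classical
  let φ : G →* MulAut K := MulAut.conjNormal
  let _ := irrAct φ
  let _ := clsAct φ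
  have hφ : ∀ (g : G) (k : K), ((φ g k : K) : G) = g * k * g⁻¹ := fun g k =>
    MulAut.conjNormal_apply g k
  have hKirr : ∀ (g : G), g ∈ K → ∀ θ : IrrCharacter K, g • θ = θ := by
    intro g hg θ
    apply Subtype.ext
    funext x
    rw [irrAct_apply]
    apply θ.2.isClassFunction.conj_eq
    refine isConj_iff.mpr ⟨⟨g, hg⟩, ?_⟩
    apply Subtype.ext
    rw [Subgroup.coe_mul, Subgroup.coe_mul, hφ]
    simp only [Subgroup.coe_inv]
    group
  have hKcls : ∀ (g : G), g ∈ K → ∀ C : ConjClasses K, g • C = C := by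
    intro g hg C
    obtain ⟨x, rfl⟩ := ConjClasses.mk_surjective C
    rw [clsAct_mk, ConjClasses.mk_eq_mk_iff_isConj]
    apply IsConj.symm
    refine isConj_iff.mpr ⟨⟨g, hg⟩, ?_⟩
    apply Subtype.ext
    rw [Subgroup.coe_mul, Subgroup.coe_mul, hφ]
    simp only [Subgroup.coe_inv]
  have hpow : ∀ g : G, g ^ K.index ∈ K := fun g => Subgroup.pow_index_mem K g
  have key := card_real_orbits_eq φ (AI.val : AI →+* ℂ) (X := K)
    (by exact_mod_cast Nat.card_pos.ne')
  -- left-hand side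
  have hL : Nat.card (Quot (fun θ η : {θ : Cfsg.IrrCharacter ↥K // (∀ k : ↥K, ((θ : ↥K → ℂ) k).im = 0)} => ∃ g : G, ∀ k k' : ↥K, (k' : G) = g * (k : G) * g⁻¹ → (η.1 : ↥K → ℂ) k' = (θ.1 : ↥K → ℂ) k)) =
      Nat.card {q : orbitRel.Quotient G (IrrCharacter K) //
        cbar (irrConj K) (irrConj_smul φ) q = q} := by
    refine card_quot_eq _ (fun θ => ⟨Quotient.mk'' θ.1, ?_⟩) ?_ ?_
    · rw [cbar_mk]
      congr 1
      apply Subtype.ext
      funext x
      rw [irrConj_apply]
      exact Complex.conj_eq_iff_im.mpr (θ.2 x)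
    · intro θ η
      rw [Subtype.mk.injEq, Quotient.eq'']
      constructor
      · rintro ⟨g, hg⟩
        refine ⟨g⁻¹, ?_⟩
        apply Subtype.ext
        funext x
        show ((g⁻¹ • η.1 : IrrCharacter K) : K → ℂ) x = _
        rw [irrAct_apply, inv_inv]
        exact hg x _ (hφ g x)
      · rintro ⟨g, hg⟩
        have hg' : g • η.1 = θ.1 := hg
        refine ⟨g⁻¹, fun k k' hk => ?_⟩
        have h1 : k' = φ g⁻¹ k := Subtype.ext (by rw [hφ]; exact hk)
        rw [← hg', irrAct_apply, h1]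
    · rintro ⟨q, hq⟩
      induction q using Quotient.inductionOn' with
      | _ θ =>
      rw [cbar_mk, Quotient.eq''] at hq
      obtain ⟨g, hg⟩ := hq
      have hg' : g • θ = irrConj K θ := hg
      have h1 := invol_fixed_of_odd (irrConj K) irrConj_irrConj (irrConj_smul φ) θ g hg' K.index
        hodd (hKirr _ (hpow g) θ)
      refine ⟨⟨θ, fun k => ?_⟩, rfl⟩
      have h2 := congrArg (fun χ : IrrCharacter K => (χ : K → ℂ) k) h1
      simp only [irrConj_apply] at h2
      exact Complex.conj_eq_iff_im.mp h2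
  have hR : Nat.card (Quot (fun x y : {x : ↥K // IsConj x x⁻¹} => ∃ g : G, (y.1 : G) = g * x.1 * g⁻¹)) =
      Nat.card {q : orbitRel.Quotient G (ConjClasses K) //
        cbar (classInv K) (classInv_smul φ) q = q} := by
    refine card_quot_eq _ (fun x => ⟨Quotient.mk'' (ConjClasses.mk x.1), ?_⟩) ?_ ?_
    · rw [cbar_mk]
      congr 1
      rw [classInv_mk, ConjClasses.mk_eq_mk_iff_isConj]
      exact x.2.symm
    · intro x y
      rw [Subtype.mk.injEq, Quotient.eq'']
      constructor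
      · rintro ⟨g, hg⟩
        refine ⟨g⁻¹, ?_⟩
        show g⁻¹ • ConjClasses.mk y.1 = ConjClasses.mk x.1
        rw [clsAct_mk]
        congr 1
        apply Subtype.ext
        rw [hφ, hg]
        group
      · rintro ⟨g, hg⟩
        have hg' : g • ConjClasses.mk y.1 = ConjClasses.mk x.1 := hg
        rw [clsAct_mk, ConjClasses.mk_eq_mk_iff_isConj] at hg'
        obtain ⟨c, hc⟩ := isConj_iff.mp hg'
        refine ⟨g⁻¹ * (c : G)⁻¹, ?_⟩
        rw [← hc]
        rw [Subgroup.coe_mul, Subgroup.coe_mul, hφ]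
        simp only [Subgroup.coe_inv]
        group
    · rintro ⟨q, hq⟩
      induction q using Quotient.inductionOn' with
      | _ C =>
      obtain ⟨x, rfl⟩ := ConjClasses.mk_surjective C
      rw [cbar_mk, Quotient.eq''] at hq
      obtain ⟨g, hg⟩ := hq
      have hg' : g • ConjClasses.mk x = classInv K (ConjClasses.mk x) := hg
      have h1 := invol_fixed_of_odd (classInv K) classInv_classInv (classInv_smul φ) _ g hg'
        K.index hodd (hKcls _ (hpow g) _)
      rw [classInv_mk, ConjClasses.mk_eq_mk_iff_isConj] at h1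
      exact ⟨⟨x, h1.symm⟩, rfl⟩
  rw [hL, hR]
  exact key


section Odd

variable (N : Subgroup G) [hN : N.Normal]

/-- Real elements of `G` lie in any normal subgroup of odd index. -/
theorem mem_of_isConj_inv [Finite G] (hodd : Odd N.index) {g : G} (h : IsConj g g⁻¹) : g ∈ N := by
  rw [← QuotientGroup.eq_one_iff]
  apply eq_one_of_isConj_inv (G := G ⧸ N)
  · rw [← Subgroup.index_eq_card]; exact hodd
  · exact (QuotientGroup.mk' N).map_isConj h

/-- Real elements of `G` are real in any normal subgroup of odd index. -/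
theorem isConj_inv_of_isConj_inv [Finite G] (hodd : Odd N.index) (x : N)
    (h : IsConj (x : G) (x : G)⁻¹) : IsConj x x⁻¹ := by
  obtain ⟨t, ht⟩ := isConj_iff.mp h
  have h1 : ∀ m : ℕ, t ^ (2 * m) * x * (t ^ (2 * m))⁻¹ = (x : G) := by
    intro m
    induction m with
    | zero => simp
    | succ m ih =>
      have h2 : t ^ 2 * x * (t ^ 2)⁻¹ = (x : G) := by
        have h3 : t * (t * x * t⁻¹) * t⁻¹ = (x : G) := by
          rw [ht]
          have := congrArg (fun y => y⁻¹) ht
          simpa [mul_assoc] using this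
        rw [← h3]
        simp only [pow_two]
        rw [h3]
        calc t * t * ↑x * (t * t)⁻¹ = t * (t * x * t⁻¹) * t⁻¹ := by group
          _ = x := h3
      calc t ^ (2 * (m + 1)) * x * (t ^ (2 * (m + 1)))⁻¹
          = t ^ (2 * m) * (t ^ 2 * x * (t ^ 2)⁻¹) * (t ^ (2 * m))⁻¹ := by
            rw [show 2 * (m + 1) = 2 * m + 2 by ring, pow_add]; group
        _ = x := by rw [h2, ih]
  obtain ⟨m, hm⟩ := hodd
  have h4 : t ^ N.index ∈ N := Subgroup.pow_index_mem N t
  refine isConj_iff.mpr ⟨⟨t ^ N.index, h4⟩, ?_⟩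
  apply Subtype.ext
  show t ^ N.index * x * (t ^ N.index)⁻¹ = (x : G)⁻¹
  rw [hm, pow_succ']
  calc t * t ^ (2 * m) * x * (t * t ^ (2 * m))⁻¹
      = t * (t ^ (2 * m) * x * (t ^ (2 * m))⁻¹) * t⁻¹ := by group
    _ = (x : G)⁻¹ := by rw [h1, ht]

/-- The number of real classes of `G` is the number of `G`-orbits of real elements of `N`. -/
theorem card_real_classes_eq [Finite G] (hodd : Odd N.index) :
    Nat.card {C : ConjClasses G // ∀ g : G, ConjClasses.mk g = C → IsConj g g⁻¹} =
      Nat.card (Quot (fun x y : {x : N // IsConj x x⁻¹} => ∃ g : G, (y.1 : G) = g * x.1 * g⁻¹)) := by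
  symm
  refine card_quot_eq _ (fun x => ⟨ConjClasses.mk (x.1 : G), ?_⟩) ?_ ?_
  · intro g hg
    rw [ConjClasses.mk_eq_mk_iff_isConj] at hg
    have h1 : IsConj (x.1 : G) (x.1 : G)⁻¹ := N.subtype.map_isConj x.2
    obtain ⟨c, hc⟩ := isConj_iff.mp hg
    have h6 : IsConj g⁻¹ (x.1 : G)⁻¹ := isConj_iff.mpr ⟨c, by rw [← hc]; group⟩
    exact (hg.trans h1).trans h6.symm
  · intro x y
    rw [Subtype.mk.injEq, ConjClasses.mk_eq_mk_iff_isConj, isConj_iff]
    constructor
    · rintro ⟨g, hg⟩; exact ⟨g, hg.symm⟩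
    · rintro ⟨g, hg⟩; exact ⟨g, hg.symm⟩
  · rintro ⟨C, hC⟩
    obtain ⟨g, rfl⟩ := ConjClasses.mk_surjective C
    have h1 := hC g rfl
    exact ⟨⟨⟨g, mem_of_isConj_inv N hodd h1⟩,
      isConj_inv_of_isConj_inv N hodd ⟨g, mem_of_isConj_inv N hodd h1⟩ h1⟩, rfl⟩

theorem inertia_conj {θ : N → ℂ} (g : G) :
    cj N g (fun n => conj (θ n)) = fun n => conj (cj N g θ n) := rfl

/-- Constituents of the restriction of a real irreducible character to a normal subgroup of odd
index are real. -/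
theorem real_of_constituent [Fintype G] [Fintype N] (hodd : Odd N.index) {χ : G → ℂ}
    (hχ : IsIrrCharacter G χ) (hreal : ∀ g : G, (χ g).im = 0) {θ : N → ℂ}
    (hθ : IsIrrCharacter N θ) (h : classInner (fun n : N => χ n) θ ≠ 0) :
    ∀ n : N, (θ n).im = 0 := by
  have h1 : classInner (fun n : N => χ n) (fun n => conj (θ n)) ≠ 0 := by
    have h2 : (fun n : N => χ n) = fun n : N => conj (χ n) := by
      funext n
      exact (Complex.conj_eq_iff_im.mpr (hreal n)).symm
    rw [h2, classInner_conj_conj, ← conj_classInner]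
    exact (map_ne_zero _).mpr h
  obtain ⟨g, hg⟩ := exists_cj_eq hχ hθ hθ.conj h h1
  -- g moves θ to its conjugate, an odd power of g lies in N
  rw [← conj_eq_iff_real]
  have h2 : cj N (g * g) θ = θ := by
    rw [← cj_cj, ← hg, inertia_conj, ← hg]
    funext n
    simp
  have h3 : ∀ m : ℕ, cj N (g ^ (2 * m)) θ = θ := by
    intro m
    induction m with
    | zero => rw [mul_zero, pow_zero, cj_one]
    | succ m ih =>
      rw [show 2 * (m + 1) = 2 * m + 2 by ring, pow_add, ← cj_cj, ih, pow_two, h2]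
  have h4 : cj N (g ^ N.index) θ = θ :=
    cj_of_mem hθ.isClassFunction (Subgroup.pow_index_mem N g)
  obtain ⟨m, hm⟩ := hodd
  rw [hm, pow_succ', ← cj_cj, ← hg, inertia_conj, h3] at h4
  exact h4

/-- Above every real irreducible character of a normal subgroup of odd index there is a real one. -/
theorem exists_real_over [Fintype G] [Fintype N] (hodd : Odd N.index) {θ : N → ℂ}
    (hθ : IsIrrCharacter N θ) (hreal : ∀ n : N, (θ n).im = 0) :
    ∃ χ : IrrCharacter G, (∀ g : G, ((χ : G → ℂ) g).im = 0) ∧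
      classInner (fun n : N => (χ : G → ℂ) n) θ ≠ 0 := by
  have hc : IsCharacter G (indFun N θ) := isCharacter_indFun N hθ.isCharacter
  obtain ⟨c, hc1, hc2⟩ := hc.exists_coeff
  have hind : classInner (indFun N θ) (indFun N θ) = ((∑ χ : IrrCharacter G, c χ ^ 2 : ℕ) : ℂ) := by
    rw [hc.isClassFunction.classInner_eq_sum]
    push_cast
    refine Finset.sum_congr rfl fun χ _ => ?_
    rw [hc1, Complex.conj_natCast]; ring
  have h1 := classInner_indFun_self hθ
  rw [hind] at h1
  have h2 : Nat.card N * (∑ χ : IrrCharacter G, c χ ^ 2) = Nat.card (inertia N θ) := by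
    exact_mod_cast h1
  have h3 : Odd (∑ χ : IrrCharacter G, c χ ^ 2) := by
    have h4 : N.relIndex (inertia N θ) = ∑ χ : IrrCharacter G, c χ ^ 2 := by
      have h6 := Subgroup.card_mul_index (N.subgroupOf (inertia N θ))
      have h7 : Nat.card (N.subgroupOf (inertia N θ)) = Nat.card N :=
        Nat.card_congr (Subgroup.subgroupOfEquivOfLe (le_inertia hθ.isClassFunction)).toEquiv
      rw [h7, ← h2] at h6
      exact Nat.eq_of_mul_eq_mul_left Nat.card_pos h6
    rw [← h4]
    exact hodd.of_dvd_nat (Subgroup.relIndex_dvd_index_of_le (le_inertia hθ.isClassFunction))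
  obtain ⟨χ, hχ1, hχ2⟩ := exists_real_of_odd_sum (fun χ => c χ ^ 2) (by
    intro χ
    have h5 : classInner (indFun N θ) ((irrConj G χ : IrrCharacter G) : G → ℂ) =
        classInner (indFun N θ) (χ : G → ℂ) := by
      have h6 : indFun N θ = fun g => conj (indFun N θ g) := by
        have h7 := IndFun.indFun_conj N θ
        have h8 : (fun n => conj (θ n)) = θ := (conj_eq_iff_real θ).mpr hreal
        rw [h8] at h7
        exact h7
      have h9 : ((irrConj G χ : IrrCharacter G) : G → ℂ) = fun g => conj ((χ : G → ℂ) g) := rfl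
      rw [h9]
      conv_lhs => rw [h6]
      rw [classInner_conj_conj, ← conj_classInner, hc1]
      simp
    rw [hc1, hc1] at h5
    have h6 : c (irrConj G χ) = c χ := by exact_mod_cast h5
    show c (irrConj G χ) ^ 2 = c χ ^ 2
    rw [h6]) h3
  refine ⟨χ, hχ1, ?_⟩
  have h8 : c χ ≠ 0 := by
    intro h0
    simp only [h0] at hχ2
    exact absurd hχ2 (by decide)
  have h9 := hc1 χ
  rw [IndFun.frobenius_reciprocity N θ _ χ.2.isClassFunction] at h9
  rw [← conj_classInner, h9, Complex.conj_natCast]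
  exact_mod_cast h8

/-- Above every real irreducible character of a normal subgroup of odd index there is exactly one
real one. -/
theorem unique_real_over [Fintype G] [Fintype N] (hodd : Odd N.index) {θ : N → ℂ}
    (hθ : IsIrrCharacter N θ) (χ ψ : IrrCharacter G)
    (hχ : ∀ g : G, ((χ : G → ℂ) g).im = 0) (hψ : ∀ g : G, ((ψ : G → ℂ) g).im = 0)
    (h1 : classInner (fun n : N => (χ : G → ℂ) n) θ ≠ 0)
    (h2 : classInner (fun n : N => (ψ : G → ℂ) n) θ ≠ 0) : χ = ψ := by
  classical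
  -- a constituent of each real character
  have hex : ∀ χ : {χ : IrrCharacter G // ∀ g : G, ((χ : G → ℂ) g).im = 0},
      ∃ θ : {θ : IrrCharacter N // ∀ n : N, ((θ : N → ℂ) n).im = 0},
        classInner (fun n : N => (χ.1 : G → ℂ) n) (θ.1 : N → ℂ) ≠ 0 := by
    intro χ
    obtain ⟨θ, hθ, h⟩ := (χ.1.2.isCharacter.restrict N).exists_constituent (by
      intro h0
      have := congrFun h0 1
      exact χ.1.2.one_ne_zero this)
    exact ⟨⟨⟨θ, hθ⟩, real_of_constituent N hodd χ.1.2 χ.2 hθ h⟩, h⟩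
  choose Θ hΘ using hex
  let r := (fun θ η : {θ : Cfsg.IrrCharacter ↥N // (∀ k : ↥N, ((θ : ↥N → ℂ) k).im = 0)} => ∃ g : G, ∀ k k' : ↥N, (k' : G) = g * (k : G) * g⁻¹ → (η.1 : ↥N → ℂ) k' = (θ.1 : ↥N → ℂ) k)
  let F : {χ : IrrCharacter G // ∀ g : G, ((χ : G → ℂ) g).im = 0} → Quot r := fun χ =>
    Quot.mk r (Θ χ)
  have hrel : ∀ (χ : {χ : IrrCharacter G // ∀ g : G, ((χ : G → ℂ) g).im = 0})
      (θ : {θ : IrrCharacter N // ∀ n : N, ((θ : N → ℂ) n).im = 0}),
        classInner (fun n : N => (χ.1 : G → ℂ) n) (θ.1 : N → ℂ) ≠ 0 → F χ = Quot.mk r θ := by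
    intro χ θ h
    obtain ⟨g, hg⟩ := exists_cj_eq χ.1.2 θ.1.2 (Θ χ).1.2 h (hΘ χ)
    apply Quot.sound
    refine ⟨g, fun k k' hk => ?_⟩
    have hk' : k' = ⟨g * k * g⁻¹, hN.conj_mem (k : G) k.2 g⟩ := Subtype.ext hk
    rw [hg, cj_apply, hk']
  have hsurj : Function.Surjective F := by
    intro q
    induction q using Quot.ind with
    | _ θ =>
    obtain ⟨χ, hχ1, hχ2⟩ := exists_real_over N hodd θ.1.2 θ.2
    exact ⟨⟨χ, hχ1⟩, hrel ⟨χ, hχ1⟩ θ hχ2⟩
  have hcard : Nat.card {χ : IrrCharacter G // ∀ g : G, ((χ : G → ℂ) g).im = 0} =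
      Nat.card (Quot r) := by
    rw [card_real_irr_eq_card_real_classes, card_real_classes_eq N hodd, ← card_quot_real_eq N hodd]
  have hinj : Function.Injective F := by
    have : Finite (Quot r) := Finite.of_surjective _ hsurj
    exact (Nat.bijective_iff_surjective_and_card F |>.mpr ⟨hsurj, hcard⟩).1
  have hreal := real_of_constituent N hodd χ.2 hχ hθ h1
  have e1 := hrel ⟨χ, hχ⟩ ⟨⟨θ, hθ⟩, hreal⟩ h1
  have e2 := hrel ⟨ψ, hψ⟩ ⟨⟨θ, hθ⟩, hreal⟩ h2
  exact congrArg Subtype.val (hinj (e1.trans e2.symm))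

end Odd

end Cfsg.Agent.Lib.RealOdd
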