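import Cfsg.Agent.Lib.NilOp

/-!
# Reduction of lattices modulo a prime element (helper78)

`R` a principal ideal domain, `k` a field with a surjection `R → k` whose kernel is generated by
`ϖ`.  For a free `R`-module `L` the reduction is `k ⊗[R] L`, `red w = 1 ⊗ₜ w`.
-/

namespace Cfsg.Agent.Lib.RedMod

open Module TensorProduct

variable {R : Type*} [CommRing R] {k : Type*} [Field k] [Algebra R k]
  {L : Type*} [AddCommGroup L] [Module R L]

variable (R k) in
/-- reduction -/
noncomputable def red : L →ₗ[R] k ⊗[R] L := TensorProduct.mk R k L 1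

theorem red_apply (w : L) : red R k w = (1 : k) ⊗ₜ[R] w := rfl

theorem smul_red (r : R) (w : L) : (algebraMap R k r) • red R k w = red R k (r • w) := by
  rw [map_smul, red_apply, algebraMap_smul]

theorem red_surjective (hs : Function.Surjective (algebraMap R k)) :
    Function.Surjective (red R k : L → k ⊗[R] L) := by
  intro v
  induction v using TensorProduct.induction_on with
  | zero => exact ⟨0, map_zero _⟩
  | tmul c w =>
    obtain ⟨r, rfl⟩ := hs c
    refine ⟨r • w, ?_⟩
    rw [red_apply, ← TensorProduct.smul_tmul, Algebra.smul_def, mul_one]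
  | add x y hx hy =>
    obtain ⟨a, rfl⟩ := hx
    obtain ⟨b, rfl⟩ := hy
    exact ⟨a + b, map_add _ _ _⟩

theorem baseChange_red (f : L →ₗ[R] L) (w : L) : f.baseChange k (red R k w) = red R k (f w) := rfl

variable (R k) in
/-- image of a submodule in the reduction -/
noncomputable def redSub (S : Submodule R L) : Submodule k (k ⊗[R] L) :=
  Submodule.span k ((red R k : L → k ⊗[R] L) '' S)

theorem red_mem_redSub {S : Submodule R L} {w : L} (hw : w ∈ S) : red R k w ∈ redSub R k S :=
  Submodule.subset_span ⟨w, hw, rfl⟩

theorem mem_redSub (hs : Function.Surjective (algebraMap R k)) (S : Submodule R L)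
    (v : k ⊗[R] L) : v ∈ redSub R k S ↔ ∃ w ∈ S, red R k w = v := by
  constructor
  · intro h
    induction h using Submodule.span_induction with
    | mem x hx => exact hx
    | zero => exact ⟨0, S.zero_mem, map_zero _⟩
    | add x y _ _ hx hy =>
      obtain ⟨a, ha, rfl⟩ := hx
      obtain ⟨b, hb, rfl⟩ := hy
      exact ⟨a + b, S.add_mem ha hb, map_add _ _ _⟩
    | smul c x _ hx =>
      obtain ⟨a, ha, rfl⟩ := hx
      obtain ⟨r, rfl⟩ := hs c
      exact ⟨r • a, S.smul_mem r ha, (smul_red r a).symm⟩
  · rintro ⟨w, hw, rfl⟩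
    exact Submodule.subset_span ⟨w, hw, rfl⟩

theorem redSub_mono {S S' : Submodule R L} (h : S ≤ S') : redSub R k S ≤ redSub R k S' :=
  Submodule.span_mono (Set.image_mono h)

variable [IsDomain R] [Module.Free R L] [Module.Finite R L]

theorem red_eq_zero_iff {ϖ : R} (hk : ∀ r, algebraMap R k r = 0 ↔ ϖ ∣ r) (w : L) :
    red R k w = 0 ↔ ∃ w', w = ϖ • w' := by
  constructor
  · intro h
    let b := Module.finBasis R L
    have h1 : ∀ i, ϖ ∣ b.repr w i := by
      intro i
      have h2 : (b.baseChange k).repr (red R k w) i = 0 := by rw [h]; simp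
      rw [red_apply, Module.Basis.baseChange_repr_tmul] at h2
      rw [← hk]
      rwa [Algebra.smul_def, mul_one] at h2
    choose a ha using h1
    refine ⟨∑ i, a i • b i, ?_⟩
    rw [Finset.smul_sum]
    conv_lhs => rw [← b.sum_repr w]
    refine Finset.sum_congr rfl fun i _ => ?_
    rw [smul_smul, ← ha i]
  · rintro ⟨w', rfl⟩
    rw [← smul_red, (hk ϖ).mpr dvd_rfl, zero_smul]

/-- The rank of a pure submodule is the dimension of its image. -/
theorem finrank_redSub [IsPrincipalIdealRing R] {ϖ : R}
    (hs : Function.Surjective (algebraMap R k))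
    (hk : ∀ r, algebraMap R k r = 0 ↔ ϖ ∣ r) (S : Submodule R L)
    (hS : ∀ w : L, ϖ • w ∈ S → w ∈ S) :
    finrank k (redSub R k S) = finrank R S := by
  have : Module.Free R S := inferInstance
  have : Module.Finite R S := inferInstance
  let b := Module.finBasis R S
  have hlin : LinearIndependent k (fun i => red R k ((b i : S) : L)) := by
    rw [Fintype.linearIndependent_iff]
    intro g hg
    choose r hr using fun i => hs (g i)
    have h1 : red R k ((∑ i, r i • b i : S) : L) = 0 := by
      rw [← hg]
      push_cast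
      rw [map_sum]
      refine Finset.sum_congr rfl fun i _ => ?_
      rw [← smul_red, hr]
    obtain ⟨w', hw'⟩ := (red_eq_zero_iff hk _).mp h1
    have hw'S : w' ∈ S := hS w' (by rw [← hw']; exact (∑ i, r i • b i : S).2)
    have h2 : (∑ i, r i • b i : S) = ϖ • (⟨w', hw'S⟩ : S) := Subtype.ext hw'
    have h3 : ∀ i, r i = ϖ * b.repr ⟨w', hw'S⟩ i := by
      intro i
      have h4 := congrArg (fun z => b.repr z i) h2
      simp only [map_sum, map_smul, Module.Basis.repr_self, Finsupp.coe_finset_sum, Finset.sum_apply,
        Finsupp.smul_apply, smul_eq_mul] at h4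
      rw [← h4]
      rw [Finset.sum_eq_single i]
      · simp
      · intro j _ hj
        rw [Finsupp.single_eq_of_ne (Ne.symm hj), mul_zero]
      · intro h; exact absurd (Finset.mem_univ i) h
    intro i
    rw [← hr i, hk, h3 i]
    exact dvd_mul_right _ _
  have hspan : redSub R k S = Submodule.span k (Set.range fun i => red R k ((b i : S) : L)) := by
    apply le_antisymm
    · intro v hv
      obtain ⟨w, hw, rfl⟩ := (mem_redSub hs S v).mp hv
      have h1 : w = ((∑ i, b.repr ⟨w, hw⟩ i • b i : S) : L) := by rw [b.sum_repr]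
      rw [h1]
      push_cast
      rw [map_sum]
      apply Submodule.sum_mem
      intro i _
      rw [← smul_red]
      exact Submodule.smul_mem _ _ (Submodule.subset_span ⟨i, rfl⟩)
    · rw [Submodule.span_le]
      rintro _ ⟨i, rfl⟩
      exact red_mem_redSub (b i).2
  rw [hspan, finrank_span_eq_card hlin, Fintype.card_fin]

theorem finrank_red : finrank k (k ⊗[R] L) = finrank R L := Module.finrank_baseChange

end Cfsg.Agent.Lib.RedMod
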