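import Mathlib
import Cfsg.Agent.Lib.ReeC

/-!
Abstract small Ree groups, part D: generic lemmas on tori, the torus `H` (helper18).
-/

set_option autoImplicit false

namespace Cfsg.Agent.Lib.ReeD

/-- a subgroup conjugated into itself by `g` -/
theorem mem_normalizer_of_le {G : Type*} [Group G] [Finite G] {T : Subgroup G} {g : G}
    (h : ∀ s ∈ T, g * s * g⁻¹ ∈ T) : g ∈ Subgroup.normalizer (T : Set G) := by
  have hf : Function.Injective (fun s : T => (⟨g * s * g⁻¹, h s s.2⟩ : T)) := by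
    intro a b hab
    have := congrArg Subtype.val hab
    simpa using this
  have hs := Finite.injective_iff_surjective.mp hf
  rw [Subgroup.mem_normalizer_iff]
  intro s
  refine ⟨h s, fun hs' => ?_⟩
  obtain ⟨t, ht⟩ := hs ⟨g * s * g⁻¹, hs'⟩
  have h1 : g * (t : G) * g⁻¹ = g * s * g⁻¹ := congrArg Subtype.val ht
  have h2 : (t : G) = s := mul_left_cancel (mul_right_cancel h1)
  rw [← h2]; exact t.2

variable {G : Type*} [Group G] [Finite G]

/-- normalizers of non-trivial subgroups of a self-centralizing piece -/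
theorem norm_of_cent {T A A₀ : Subgroup G} (hTc : ∀ x ∈ T, ∀ y ∈ T, x * y = y * x) (hAT : A ≤ T)
    (hc : ∀ x ∈ A, x ≠ 1 → ∀ c : G, c * x = x * c → c ∈ T) (h0 : A₀ ≤ A) (hne : A₀ ≠ ⊥) :
    Subgroup.normalizer (A₀ : Set G) ≤ Subgroup.normalizer (T : Set G) := by
  intro g hg
  obtain ⟨⟨x, hx⟩, hx1'⟩ := (Subgroup.ne_bot_iff_exists_ne_one).mp hne
  have hx1 : x ≠ 1 := fun h => hx1' (Subtype.ext h)
  apply mem_normalizer_of_le
  intro s hs
  have h1 : g * x * g⁻¹ ∈ A₀ := (Subgroup.mem_normalizer_iff.mp hg x).mp hx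
  refine hc _ (h0 h1) (fun h => hx1 (by
    have : (x : G) = g⁻¹ * (g * x * g⁻¹) * g := by group
    rw [this, h]; group)) _ ?_
  have h2 := hTc s hs x (hAT (h0 hx))
  calc g * s * g⁻¹ * (g * x * g⁻¹) = g * (s * x) * g⁻¹ := by group
    _ = g * (x * s) * g⁻¹ := by rw [h2]
    _ = _ := by group

/-- counting the elements of a conjugation invariant set whose members are conjugate into `T` -/
theorem card_conj (T : Subgroup G) (hTc : ∀ x ∈ T, ∀ y ∈ T, x * y = y * x) (P : G → Prop)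
    (hinv : ∀ g x, P x → P (g * x * g⁻¹)) (hin : ∀ x, P x → ∃ g : G, g * x * g⁻¹ ∈ T)
    (hc : ∀ x ∈ T, P x → ∀ c : G, c * x = x * c → c ∈ T) :
    Nat.card {g // P g} * Nat.card (Subgroup.normalizer (T : Set G)) = Nat.card G * Nat.card {x : T // P x} := by
  classical
  choose a0 ha0 using fun g : {g // P g} => hin g.1 g.2
  have hiff : ∀ (b : G), b ∈ Subgroup.normalizer (T : Set G) → ∀ x ∈ T, b * x * b⁻¹ ∈ T := fun b hb x hx =>
    (Subgroup.mem_normalizer_iff.mp hb x).mp hx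
  let f : {g // P g} × Subgroup.normalizer (T : Set G) → G × {x : T // P x} := fun p =>
    ((a0 p.1)⁻¹ * (p.2 : G)⁻¹, ⟨⟨p.2 * (a0 p.1 * p.1 * (a0 p.1)⁻¹) * (p.2 : G)⁻¹, hiff _ p.2.2 _ (ha0 p.1)⟩,
      hinv _ _ (hinv _ _ p.1.2)⟩)
  have hf : Function.Bijective f := by
    constructor
    · rintro ⟨g, b⟩ ⟨g', b'⟩ h
      have h1 : (a0 g)⁻¹ * (b : G)⁻¹ = (a0 g')⁻¹ * (b' : G)⁻¹ := congrArg Prod.fst h
      have h2 : b * (a0 g * g * (a0 g)⁻¹) * (b : G)⁻¹ = b' * (a0 g' * g' * (a0 g')⁻¹) * (b' : G)⁻¹ :=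
        congrArg (fun p : G × {x : T // P x} => ((p.2 : T) : G)) h
      have h3 : (g : G) = g' := by
        calc (g : G) = ((a0 g)⁻¹ * (b : G)⁻¹) * (b * (a0 g * g * (a0 g)⁻¹) * (b : G)⁻¹) * ((a0 g)⁻¹ * (b : G)⁻¹)⁻¹ := by group
          _ = ((a0 g')⁻¹ * (b' : G)⁻¹) * (b' * (a0 g' * g' * (a0 g')⁻¹) * (b' : G)⁻¹) * ((a0 g')⁻¹ * (b' : G)⁻¹)⁻¹ := by
            rw [h1, h2]
          _ = g' := by group
      have h4 : g = g' := Subtype.ext h3
      subst h4
      have h5 : (b : G) = b' := by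
        have := mul_left_cancel h1
        exact inv_injective this
      rw [Subtype.ext h5]
    · rintro ⟨a, ⟨⟨x, hxT⟩, hPx⟩⟩
      have hPx' : P x := hPx
      set g : {g // P g} := ⟨a * x * a⁻¹, hinv a x hPx'⟩ with hg
      have hgx : (g : G) = a * x * a⁻¹ := rfl
      have hb : a⁻¹ * (a0 g)⁻¹ ∈ Subgroup.normalizer (T : Set G) := by
        apply mem_normalizer_of_le
        intro s hs
        apply hc x hxT hPx'
        have h1 := hTc s hs _ (ha0 g)
        have h2 : x = a⁻¹ * (a0 g)⁻¹ * (a0 g * g * (a0 g)⁻¹) * (a⁻¹ * (a0 g)⁻¹)⁻¹ := by rw [hgx]; group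
        calc a⁻¹ * (a0 g)⁻¹ * s * (a⁻¹ * (a0 g)⁻¹)⁻¹ * x
            = a⁻¹ * (a0 g)⁻¹ * s * (a⁻¹ * (a0 g)⁻¹)⁻¹ * (a⁻¹ * (a0 g)⁻¹ * (a0 g * g * (a0 g)⁻¹) * (a⁻¹ * (a0 g)⁻¹)⁻¹) := by
              rw [← h2]
          _ = a⁻¹ * (a0 g)⁻¹ * (s * (a0 g * g * (a0 g)⁻¹)) * (a⁻¹ * (a0 g)⁻¹)⁻¹ := by group
          _ = a⁻¹ * (a0 g)⁻¹ * ((a0 g * g * (a0 g)⁻¹) * s) * (a⁻¹ * (a0 g)⁻¹)⁻¹ := by rw [h1]
          _ = a⁻¹ * (a0 g)⁻¹ * (a0 g * g * (a0 g)⁻¹) * (a⁻¹ * (a0 g)⁻¹)⁻¹ * (a⁻¹ * (a0 g)⁻¹ * s * (a⁻¹ * (a0 g)⁻¹)⁻¹) := by group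
          _ = _ := by rw [← h2]
      refine ⟨(g, ⟨_, hb⟩), ?_⟩
      apply Prod.ext
      · show (a0 g)⁻¹ * (a⁻¹ * (a0 g)⁻¹)⁻¹ = a
        group
      · apply Subtype.ext
        apply Subtype.ext
        show a⁻¹ * (a0 g)⁻¹ * (a0 g * g * (a0 g)⁻¹) * (a⁻¹ * (a0 g)⁻¹)⁻¹ = x
        rw [hgx]; group
  have := Nat.card_congr (Equiv.ofBijective f hf)
  rwa [Nat.card_prod, Nat.card_prod] at this

end Cfsg.Agent.Lib.ReeD

namespace Cfsg.Agent.Lib.ReeA.RD

open Cfsg.Agent.Lib.ReePSL Cfsg.Agent.Lib.ReeA Cfsg.Agent.Lib.H53Ree Cfsg.Agent.Lib.H53PSL2 Cfsg.Agent.Lib.ReeB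
open Cfsg.Agent.Lib.ReeD

variable {G : Type*} [Group G] [Finite G] {K : Type*} [Field K] [Fintype K] {m : ℕ} (D : RD G K m)

local notation "q" => Fintype.card K
local notation "PSL2" => Matrix.ProjectiveSpecialLinearGroup (Fin 2) K

theorem H_comm {x y : G} (hx : x ∈ D.H) (hy : y ∈ D.H) : x * y = y * x := by
  haveI := D.cyc
  have := IsCyclic.isMulCommutative (α := D.H)
  exact congrArg Subtype.val (this.is_comm.comm ⟨x, hx⟩ ⟨y, hy⟩)

theorem eq_oz {h : G} (hh : h ∈ D.H) (h2 : h * h ≠ 1) {x : G ⧸ D.B} (hx : h • x = x) : x = D.o ∨ x = D.z := by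
  by_cases hxo : x = D.o
  · exact Or.inl hxo
  · right
    obtain ⟨u, hu, rfl⟩ := D.exists_u hxo
    have h3 := (D.H_fix hh hu).mp hx
    rw [D.fpf hh h2 hu h3, one_smul]

/-- the setwise stabilizer of the two base points normalizes `H` and centralizes `i` -/
theorem conj_mem_H {c : G} (hc : (c • D.o = D.o ∧ c • D.z = D.z) ∨ (c • D.o = D.z ∧ c • D.z = D.o)) {h : G}
    (hh : h ∈ D.H) : c * h * c⁻¹ ∈ D.H := by
  obtain ⟨h1, h2⟩ := D.stab2.mpr hh
  apply D.stab2.mp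
  rcases hc with ⟨c1, c2⟩ | ⟨c1, c2⟩
  · have c1' : c⁻¹ • D.o = D.o := by rw [inv_smul_eq_iff]; exact c1.symm
    have c2' : c⁻¹ • D.z = D.z := by rw [inv_smul_eq_iff]; exact c2.symm
    constructor
    · rw [mul_smul, mul_smul, c1', h1, c1]
    · rw [mul_smul, mul_smul, c2', h2, c2]
  · have c1' : c⁻¹ • D.o = D.z := by rw [inv_smul_eq_iff]; exact c2.symm
    have c2' : c⁻¹ • D.z = D.o := by rw [inv_smul_eq_iff]; exact c1.symm
    constructor
    · rw [mul_smul, mul_smul, c1', h2, c2]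
    · rw [mul_smul, mul_smul, c2', h1, c1]

theorem swap_or {c h : G} (hh : h ∈ D.H) (h2 : h * h ≠ 1) (hc : c * h = h * c) :
    (c • D.o = D.o ∧ c • D.z = D.z) ∨ (c • D.o = D.z ∧ c • D.z = D.o) := by
  obtain ⟨h3, h4⟩ := D.stab2.mpr hh
  have h5 : h • (c • D.o) = c • D.o := by rw [← mul_smul, ← hc, mul_smul, h3]
  have h6 : h • (c • D.z) = c • D.z := by rw [← mul_smul, ← hc, mul_smul, h4]
  rcases D.eq_oz hh h2 h5 with e1 | e1 <;> rcases D.eq_oz hh h2 h6 with e2 | e2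
  · exact absurd (smul_left_cancel c (e1.trans e2.symm)) D.o_ne_z
  · exact Or.inl ⟨e1, e2⟩
  · exact Or.inr ⟨e1, e2⟩
  · exact absurd (smul_left_cancel c (e1.trans e2.symm)) D.o_ne_z

theorem conj_i {c : G} (hc : (c • D.o = D.o ∧ c • D.z = D.z) ∨ (c • D.o = D.z ∧ c • D.z = D.o)) :
    c * D.i = D.i * c := by
  have h1 := D.conj_mem_H hc D.i_mem
  have h2 : c * D.i * c⁻¹ = D.i := by
    apply D.eq_i h1
    · intro h
      apply D.i_ne
      have : D.i = c⁻¹ * (c * D.i * c⁻¹) * c := by group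
      rw [this, h]; group
    · have : c * D.i * c⁻¹ * (c * D.i * c⁻¹) = c * (D.i * D.i) * c⁻¹ := by group
      rw [this, D.i_sq]; group
  exact mul_inv_eq_iff_eq_mul.mp h2

/-- `C(h) = H` for `h ∈ H` with `h² ≠ 1`. -/
theorem cent_H {c h : G} (hh : h ∈ D.H) (h2 : h * h ≠ 1) (hc : c * h = h * c) : c ∈ D.H := by
  haveI : Fact (Nat.Prime 3) := ⟨Nat.prime_three⟩
  haveI := D.charP
  have hci := D.conj_i (D.swap_or hh h2 hc)
  obtain ⟨ι, C, hcov⟩ := D.exists_conf D.i_mem D.i_ne D.i_sq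
  have hcomm := C.comm
  have key : ∀ {y : PSL2}, D.i * ι y ∈ D.H ↔ ι y ∈ D.H := by
    intro y
    exact Subgroup.mul_mem_cancel_left _ D.i_mem
  obtain ⟨yh, hyh⟩ := hcov h (D.H_comm hh D.i_mem)
  have hyH : ι yh ∈ D.H := by
    rcases hyh with e | e
    · rw [← e]; exact hh
    · rw [← key, ← e]; exact hh
  have hyh2 : yh * yh ≠ 1 := by
    intro h1
    apply h2
    rcases hyh with e | e
    · rw [e, ← map_mul, h1, map_one]
    · rw [e]
      have : D.i * ι yh * (D.i * ι yh) = (D.i * D.i) * (ι yh * ι yh) := by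
        rw [mul_assoc, ← mul_assoc (ι yh), ← hcomm]; group
      rw [this, D.i_sq, ← map_mul, h1, map_one, one_mul]
  obtain ⟨y, hy⟩ := hcov c hci
  have hyc : y * yh = yh * y := by
    apply C.inj
    rw [map_mul, map_mul]
    have e1 : ι y = c ∨ ι y = D.i * c := by
      rcases hy with e | e
      · exact Or.inl e.symm
      · right; rw [e, ← mul_assoc, D.i_sq, one_mul]
    have e2 : ι yh = h ∨ ι yh = D.i * h := by
      rcases hyh with e | e
      · exact Or.inl e.symm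
      · right; rw [e, ← mul_assoc, D.i_sq, one_mul]
    have hih := D.H_comm D.i_mem hh
    have aux : ∀ a b : G, a * b = b * a → a * D.i = D.i * a → b * D.i = D.i * b →
        (D.i * a) * b = b * (D.i * a) ∧ a * (D.i * b) = (D.i * b) * a ∧ (D.i * a) * (D.i * b) = (D.i * b) * (D.i * a) := by
      intro a b hab ha hb
      have c1 : Commute a b := hab
      have c2 : Commute a D.i := ha
      have c3 : Commute b D.i := hb
      exact ⟨(c3.symm.mul_left c1).eq, (c2.mul_right c1).eq,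
        ((Commute.refl D.i).mul_left c2 |>.mul_right (c3.symm.mul_left c1)).eq⟩
    obtain ⟨k1, k2, k3⟩ := aux c h hc hci hih.symm
    rcases e1 with e1 | e1 <;> rcases e2 with e2 | e2 <;> rw [e1, e2]
    · exact hc
    · exact k2
    · exact k1
    · exact k3
  have hn3 : ¬ 3 ∣ orderOf yh := by
    rw [← orderOf_injective ι C.inj]
    intro h3
    exact D.three_not_dvd_sub (h3.trans (D.orderOf_H hyH))
  obtain ⟨T, N, hTN, hT, hyT, hcT, -, hsq, hnorm⟩ := tor 3 (by have := D.q_ge; omega) yh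
    (by rintro rfl; exact hyh2 (one_mul 1)) hn3
  have hyT' : y ∈ T := Cfsg.Agent.Lib.ReePSL.cent hTN hsq hyT hyh2 hnorm hyc
  -- `H ∩ L`
  set T' : Subgroup PSL2 := D.H.comap ι with hT'
  have hTT : T' ≤ T := by
    intro t ht
    refine Cfsg.Agent.Lib.ReePSL.cent hTN hsq hyT hyh2 hnorm ?_
    apply C.inj
    rw [map_mul, map_mul]
    exact D.H_comm ht hyH
  have hcard : 2 * Nat.card T' = q - 1 := by
    let f : T' ⊕ T' → D.H := Sum.elim (fun t => ⟨ι t, t.2⟩) (fun t => ⟨D.i * ι t, key.mpr t.2⟩)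
    have hf : Function.Bijective f := by
      constructor
      · rintro (x | x) (y | y) hxy
        · exact congrArg _ (Subtype.ext (C.inj (congrArg Subtype.val hxy)))
        · exfalso
          have h1 : ι x = D.i * ι y := congrArg Subtype.val hxy
          apply C.nt ((x : PSL2) * (y : PSL2)⁻¹)
          rw [map_mul, map_inv, h1, mul_inv_cancel_right]
        · exfalso
          have h1 : D.i * ι x = ι y := congrArg Subtype.val hxy
          apply C.nt ((y : PSL2) * (x : PSL2)⁻¹)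
          rw [map_mul, map_inv, ← h1, mul_inv_cancel_right]
        · have h1 : D.i * ι x = D.i * ι y := congrArg Subtype.val hxy
          exact congrArg _ (Subtype.ext (C.inj (mul_left_cancel h1)))
      · rintro ⟨k, hk⟩
        obtain ⟨y, h | h⟩ := hcov k (D.H_comm hk D.i_mem)
        · exact ⟨Sum.inl ⟨y, by show ι y ∈ D.H; rw [← h]; exact hk⟩, Subtype.ext h.symm⟩
        · exact ⟨Sum.inr ⟨y, by show ι y ∈ D.H; rw [← key, ← h]; exact hk⟩, Subtype.ext h.symm⟩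
    have := Nat.card_congr (Equiv.ofBijective f hf)
    rw [Nat.card_sum, ← two_mul, D.card_H] at this
    exact this
  have hg : Nat.gcd 2 (q - 1) = 2 := Nat.gcd_eq_left (by have := D.q_mod; omega)
  rw [hg] at hcT
  have hdv : Nat.card T' ∣ Nat.card T := Subgroup.card_dvd_of_le hTT
  have hTcard : Nat.card T = Nat.card T' := by
    rcases hcT with h | h
    · omega
    · exfalso
      have e1 : Nat.card T = Nat.card T' + 1 := by have := D.q_ge; omega
      rw [e1] at hdv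
      have := (Nat.dvd_add_right (dvd_refl _)).mp hdv
      have h5 := Nat.dvd_one.mp this
      have := D.q_ge
      omega
  have hTeq : T' = T := Subgroup.eq_of_le_of_card_ge hTT hTcard.le
  have hyH' : ι y ∈ D.H := by
    have : y ∈ T' := by rw [hTeq]; exact hyT'
    exact this
  rcases hy with e | e
  · rw [e]; exact hyH'
  · rw [e]; exact key.mpr hyH'

end Cfsg.Agent.Lib.ReeA.RD
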