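import Mathlib
import Cfsg.Agent.Lib.ReeD

/-!
Abstract small Ree groups, part E: fixed point counts (helper18).
-/

set_option autoImplicit false
set_option linter.unusedSectionVars false

namespace Cfsg.Agent.Lib.ReeA.RD

open Cfsg.Agent.Lib.ReePSL Cfsg.Agent.Lib.ReeA Cfsg.Agent.Lib.H53Ree Cfsg.Agent.Lib.H53PSL2 Cfsg.Agent.Lib.ReeB
open Cfsg.Agent.Lib.ReeD

variable {G : Type*} [Group G] [Finite G] {K : Type*} [Field K] [Fintype K] {m : ℕ} (D : RD G K m)

local notation "q" => Fintype.card K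
local notation "PSL2" => Matrix.ProjectiveSpecialLinearGroup (Fin 2) K

theorem exists_swap : ∃ s : G, s • D.o = D.z ∧ s • D.z = D.o := D.two_trans D.o_ne_z.symm

theorem exists_H2 : ∃ h ∈ D.H, h * h ≠ 1 := by
  haveI := D.cyc
  obtain ⟨h, hh⟩ := IsCyclic.exists_ofOrder_eq_natCard (α := D.H)
  refine ⟨h, h.2, fun h1 => ?_⟩
  have h2 : orderOf h ∣ 2 := orderOf_dvd_of_pow_eq_one (by rw [pow_two]; exact Subtype.ext h1)
  rw [hh, D.card_H] at h2
  have := Nat.le_of_dvd (by norm_num) h2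
  have := D.q_ge
  omega

theorem mem_norm_H {g : G} : g ∈ Subgroup.normalizer (D.H : Set G) ↔
    (g • D.o = D.o ∧ g • D.z = D.z) ∨ (g • D.o = D.z ∧ g • D.z = D.o) := by
  constructor
  · intro hg
    obtain ⟨h, hh, h2⟩ := D.exists_H2
    have h3 : g⁻¹ * h * g ∈ D.H := by
      have := (Subgroup.mem_normalizer_iff.mp (inv_mem hg) h).mp hh
      rwa [inv_inv] at this
    have h4 : g⁻¹ * h * g * (g⁻¹ * h * g) ≠ 1 := by
      intro h5
      apply h2
      have : h * h = g * (g⁻¹ * h * g * (g⁻¹ * h * g)) * g⁻¹ := by group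
      rw [this, h5]; group
    obtain ⟨e1, e2⟩ := D.stab2.mpr hh
    have f1 : (g⁻¹ * h * g) • (g⁻¹ • D.o) = g⁻¹ • D.o := by
      rw [← mul_smul]
      have : g⁻¹ * h * g * g⁻¹ = g⁻¹ * h := by group
      rw [this, mul_smul, e1]
    have f2 : (g⁻¹ * h * g) • (g⁻¹ • D.z) = g⁻¹ • D.z := by
      rw [← mul_smul]
      have : g⁻¹ * h * g * g⁻¹ = g⁻¹ * h := by group
      rw [this, mul_smul, e2]
    have key : ∀ {x y : G ⧸ D.B}, g⁻¹ • x = y → g • y = x := by
      intro x y h; rw [← h, smul_inv_smul]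
    rcases D.eq_oz h3 h4 f1 with e1 | e1 <;> rcases D.eq_oz h3 h4 f2 with e2 | e2
    · exact absurd (smul_left_cancel _ (e1.trans e2.symm)) D.o_ne_z
    · exact Or.inl ⟨key e1, key e2⟩
    · exact Or.inr ⟨key e2, key e1⟩
    · exact absurd (smul_left_cancel _ (e1.trans e2.symm)) D.o_ne_z
  · intro hg
    exact mem_normalizer_of_le fun s hs => D.conj_mem_H hg hs

theorem card_norm_H : Nat.card (Subgroup.normalizer (D.H : Set G)) = 2 * (q - 1) := by
  obtain ⟨s, hs1, hs2⟩ := D.exists_swap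
  have hsN : s ∈ Subgroup.normalizer (D.H : Set G) := D.mem_norm_H.mpr (Or.inr ⟨hs1, hs2⟩)
  have hsH : s ∉ D.H := fun h => D.o_ne_z ((D.stab2.mpr h).1.symm.trans hs1)
  let f : D.H ⊕ D.H → Subgroup.normalizer (D.H : Set G) :=
    Sum.elim (fun h => ⟨h, Subgroup.le_normalizer h.2⟩) (fun h => ⟨s * h, mul_mem hsN (Subgroup.le_normalizer h.2)⟩)
  have hf : Function.Bijective f := by
    constructor
    · rintro (x | x) (y | y) hxy
      · have h1 : ((f (Sum.inl x) : Subgroup.normalizer (D.H : Set G)) : G) = f (Sum.inl y) := by rw [hxy]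
        exact congrArg Sum.inl (Subtype.ext h1)
      · exfalso
        have h1 : (x : G) = s * y := congrArg Subtype.val hxy
        apply hsH
        have : s = x * (y : G)⁻¹ := by rw [h1, mul_inv_cancel_right]
        rw [this]; exact mul_mem x.2 (inv_mem y.2)
      · exfalso
        have h1 : s * x = (y : G) := congrArg Subtype.val hxy
        apply hsH
        have : s = y * (x : G)⁻¹ := by rw [← h1, mul_inv_cancel_right]
        rw [this]; exact mul_mem y.2 (inv_mem x.2)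
      · have h1 : s * (x : G) = s * y := congrArg Subtype.val hxy
        exact congrArg _ (Subtype.ext (mul_left_cancel h1))
    · rintro ⟨g, hg⟩
      rcases D.mem_norm_H.mp hg with h | ⟨h1, h2⟩
      · exact ⟨Sum.inl ⟨g, D.stab2.mp h⟩, rfl⟩
      · refine ⟨Sum.inr ⟨s⁻¹ * g, D.stab2.mp ⟨?_, ?_⟩⟩, ?_⟩
        · rw [mul_smul, h1, ← hs1, inv_smul_smul]
        · rw [mul_smul, h2, ← hs2, inv_smul_smul]
        · apply Subtype.ext
          show s * (s⁻¹ * g) = g
          group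
  have := Nat.card_congr (Equiv.ofBijective f hf)
  rw [Nat.card_sum, D.card_H] at this
  omega

/-- `3`-elements of `B` lie in `U`. -/
theorem mem_U {b : G} (hb : b ∈ D.B) (h3 : ∃ k, orderOf b = 3 ^ k) : b ∈ D.U := by
  have hn : (D.U.subgroupOf D.B).Normal := by
    refine ⟨fun x hx g => ?_⟩
    exact D.nU g g.2 x hx
  have h1 : Nat.card (D.B ⧸ D.U.subgroupOf D.B) = q - 1 := by
    have h2 := Subgroup.card_eq_card_quotient_mul_card_subgroup (D.U.subgroupOf D.B)
    rw [Nat.card_congr (Subgroup.subgroupOfEquivOfLe D.hUB).toEquiv, D.card_U, D.card_B, mul_comm] at h2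
    have h0 : 0 < q ^ 3 := by have := D.q_ge; positivity
    exact (Nat.eq_of_mul_eq_mul_right h0 h2).symm
  obtain ⟨k, hk⟩ := h3
  have h4 : (QuotientGroup.mk (⟨b, hb⟩ : D.B) : D.B ⧸ D.U.subgroupOf D.B) = 1 := by
    rw [← orderOf_eq_one_iff]
    have h5 : orderOf (QuotientGroup.mk (⟨b, hb⟩ : D.B) : D.B ⧸ D.U.subgroupOf D.B) ∣ q - 1 := by
      rw [← h1]; exact orderOf_dvd_natCard _
    have h6 : orderOf (QuotientGroup.mk (⟨b, hb⟩ : D.B) : D.B ⧸ D.U.subgroupOf D.B) ∣ 3 ^ k := by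
      rw [← hk, ← Subgroup.orderOf_mk b hb]
      exact orderOf_map_dvd (QuotientGroup.mk' (D.U.subgroupOf D.B)) (⟨b, hb⟩ : D.B)
    have h7 : Nat.Coprime (3 ^ k) (q - 1) :=
      Nat.Coprime.pow_left _ ((Nat.Prime.coprime_iff_not_dvd Nat.prime_three).mpr D.three_not_dvd_sub)
    exact Nat.Coprime.eq_one_of_dvd (Nat.Coprime.coprime_dvd_left h6 h7) h5
  rw [QuotientGroup.eq_one_iff] at h4
  exact h4

/-- the number of fixed points -/
noncomputable def fixN (g : G) : ℕ := Nat.card {x : G ⧸ D.B // g • x = x}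

theorem fixN_conj (a g : G) : D.fixN (a * g * a⁻¹) = D.fixN g := by
  refine Nat.card_congr ⟨fun x => ⟨a⁻¹ • x.1, ?_⟩, fun x => ⟨a • x.1, ?_⟩, ?_, ?_⟩
  · have := x.2
    rw [mul_smul, mul_smul] at this
    rw [eq_inv_smul_iff]; exact this
  · rw [mul_smul, mul_smul, inv_smul_smul, x.2]
  · intro x; apply Subtype.ext; simp
  · intro x; apply Subtype.ext; simp

theorem card_CU : Nat.card (D.U ⊓ Subgroup.centralizer ({D.i} : Set G) : Subgroup G) = q := by
  haveI : Fact (Nat.Prime 3) := ⟨Nat.prime_three⟩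
  have hc := D.card_cent D.i_ne D.i_sq
  -- upper bound
  have hup : Nat.card (D.U ⊓ Subgroup.centralizer ({D.i} : Set G) : Subgroup G) ∣ q := by
    have h1 : Nat.card (D.U ⊓ Subgroup.centralizer ({D.i} : Set G) : Subgroup G) ∣ q ^ 3 := by
      rw [← D.card_U]; exact Subgroup.card_dvd_of_le inf_le_left
    have h2 : Nat.card (D.U ⊓ Subgroup.centralizer ({D.i} : Set G) : Subgroup G) ∣ q * (q ^ 2 - 1) := by
      rw [← hc]; exact Subgroup.card_dvd_of_le inf_le_right
    refine Nat.Coprime.dvd_of_dvd_mul_right (Nat.Coprime.coprime_dvd_left h1 ?_) h2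
    rw [D.hK]
    apply Nat.Coprime.pow_left
    apply Nat.Coprime.pow_left
    rw [← D.hK, Nat.Prime.coprime_iff_not_dvd Nat.prime_three]
    intro h3
    have h4 : 3 ∣ q ^ 2 := dvd_pow D.dvd_q (by norm_num)
    have h5 : 1 ≤ q ^ 2 := Nat.one_le_pow _ _ (by have := D.q_ge; omega)
    have h6 := Nat.dvd_sub h4 h3
    have : q ^ 2 - (q ^ 2 - 1) = 1 := by omega
    rw [this] at h6
    norm_num at h6
  -- a 3-subgroup of order `q` of the centralizer
  obtain ⟨P0, hP0⟩ : ∃ P0 : Subgroup (Subgroup.centralizer ({D.i} : Set G)), Nat.card P0 = 3 ^ (2 * m + 1) :=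
    Sylow.exists_subgroup_card_pow_prime 3 (by rw [hc, D.hK]; exact dvd_mul_right _ _)
  set P : Subgroup G := P0.map (Subgroup.centralizer ({D.i} : Set G)).subtype with hP
  have hPcard : Nat.card P = q := by
    rw [hP, Nat.card_congr (Subgroup.equivMapOfInjective P0 _ (Subgroup.subtype_injective _)).toEquiv.symm, hP0, D.hK]
  have hP3 : IsPGroup 3 P := IsPGroup.of_card (by rw [hPcard, D.hK])
  have hPC : P ≤ Subgroup.centralizer ({D.i} : Set G) := Subgroup.map_subtype_le _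
  obtain ⟨u, hu, hu1⟩ : ∃ u ∈ P, u ≠ 1 := by
    by_contra hcon
    push Not at hcon
    have : P = ⊥ := by rw [Subgroup.eq_bot_iff_forall]; exact hcon
    rw [this, Subgroup.card_bot] at hPcard
    have := D.q_ge
    omega
  obtain ⟨x, hx⟩ := D.three_fix hP3
  have hix : D.i • x = x := by
    refine D.comm_fix hu1 (isPGroup_of_mem hP3 hu) ?_ (hx u hu)
    exact (Subgroup.mem_centralizer_singleton_iff.mp (hPC hu)).symm
  have hi2 : orderOf D.i = 2 := orderOf_eq_prime (by rw [pow_two]; exact D.i_sq) D.i_ne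
  obtain ⟨y, hyx, hiy⟩ := D.exists_second (g := D.i) (by rw [hi2]; norm_num) hix
  obtain ⟨a, ha1, ha2, ha3⟩ := D.conj_H hyx.symm hix hiy
  have hai : a⁻¹ * D.i * a = D.i := by
    apply D.eq_i ha3
    · intro h
      apply D.i_ne
      have : D.i = a * (a⁻¹ * D.i * a) * a⁻¹ := by group
      rw [this, h]; group
    · have : a⁻¹ * D.i * a * (a⁻¹ * D.i * a) = a⁻¹ * (D.i * D.i) * a := by group
      rw [this, D.i_sq]; group
  -- conjugate
  have hle : P.map (MulAut.conj a⁻¹).toMonoidHom ≤ (D.U ⊓ Subgroup.centralizer ({D.i} : Set G) : Subgroup G) := by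
    rintro _ ⟨v, hv, rfl⟩
    show a⁻¹ * v * a⁻¹⁻¹ ∈ _
    rw [inv_inv]
    constructor
    · apply D.mem_U
      · apply D.smul_o.mp
        rw [mul_smul, mul_smul, ha1, hx v hv, ← ha1, inv_smul_smul]
      · rw [orderOf_conj_inv]
        exact ord_three (isPGroup_of_mem hP3 hv)
    · show _ ∈ Subgroup.centralizer ({D.i} : Set G)
      rw [Subgroup.mem_centralizer_singleton_iff]
      have h1 := Subgroup.mem_centralizer_singleton_iff.mp (hPC hv)
      calc a⁻¹ * v * a * D.i = a⁻¹ * v * a * (a⁻¹ * D.i * a) := by rw [hai]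
        _ = a⁻¹ * (v * D.i) * a := by group
        _ = a⁻¹ * (D.i * v) * a := by rw [h1]
        _ = (a⁻¹ * D.i * a) * (a⁻¹ * v * a) := by group
        _ = _ := by rw [hai]
  have h9 := Subgroup.card_le_of_le hle
  have h10 : Nat.card (P.map (MulAut.conj a⁻¹).toMonoidHom) = q := by
    rw [← hPcard]
    exact Nat.card_congr (Subgroup.equivMapOfInjective P _ (MulAut.conj a⁻¹).injective).toEquiv.symm
  rw [h10] at h9
  exact le_antisymm (Nat.le_of_dvd (by have := D.q_ge; omega) hup) h9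

/-- fixed points of elements of `H` -/
theorem fixN_H {h : G} (hh : h ∈ D.H) :
    D.fixN h = 1 + Nat.card (D.U ⊓ Subgroup.centralizer ({h} : Set G) : Subgroup G) := by
  rw [fixN]
  have : Nat.card {x : G ⧸ D.B // h • x = x} = Nat.card (Unit ⊕ (D.U ⊓ Subgroup.centralizer ({h} : Set G) : Subgroup G)) := by
    let f : (Unit ⊕ (D.U ⊓ Subgroup.centralizer ({h} : Set G) : Subgroup G)) → {x : G ⧸ D.B // h • x = x} :=
      Sum.elim (fun _ => ⟨D.o, (D.stab2.mpr hh).1⟩) (fun u => ⟨(u : G) • D.z,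
        (D.H_fix hh u.2.1).mpr (Subgroup.mem_centralizer_singleton_iff.mp u.2.2)⟩)
    have hne : ∀ u ∈ D.U, u • D.z ≠ D.o := by
      intro u hu he
      have : u⁻¹ • (u • D.z) = u⁻¹ • D.o := by rw [he]
      rw [inv_smul_smul, D.smul_o.mpr (inv_mem (D.hUB hu))] at this
      exact D.o_ne_z this.symm
    refine (Nat.card_congr (Equiv.ofBijective f ⟨?_, ?_⟩)).symm
    · rintro (x | x) (y | y) hxy
      · rfl
      · exact absurd (congrArg Subtype.val hxy).symm (hne _ y.2.1)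
      · exact absurd (congrArg Subtype.val hxy) (hne _ x.2.1)
      · have h1 : (x : G) • D.z = (y : G) • D.z := congrArg Subtype.val hxy
        have h2 : ((y : G)⁻¹ * x) • D.z = D.z := by rw [mul_smul, h1, inv_smul_smul]
        have h3 : (y : G)⁻¹ * x ∈ D.U := mul_mem (inv_mem y.2.1) x.2.1
        have h4 := D.U_inf_H h3 (D.stab2.mp ⟨D.smul_o.mpr (D.hUB h3), h2⟩)
        rw [inv_mul_eq_one] at h4
        rw [Subtype.ext h4.symm]
    · rintro ⟨x, hx⟩
      by_cases hxo : x = D.o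
      · exact ⟨Sum.inl (), Subtype.ext hxo.symm⟩
      · obtain ⟨u, hu, rfl⟩ := D.exists_u hxo
        exact ⟨Sum.inr ⟨u, hu, Subgroup.mem_centralizer_singleton_iff.mpr ((D.H_fix hh hu).mp hx)⟩, rfl⟩
  rw [this, Nat.card_sum, Nat.card_unique]

theorem fixN_i : D.fixN D.i = q + 1 := by rw [D.fixN_H D.i_mem, D.card_CU, add_comm]

theorem fixN_two {h : G} (hh : h ∈ D.H) (h2 : h * h ≠ 1) : D.fixN h = 2 := by
  rw [D.fixN_H hh]
  have : (D.U ⊓ Subgroup.centralizer ({h} : Set G) : Subgroup G) = ⊥ := by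
    rw [Subgroup.eq_bot_iff_forall]
    rintro u ⟨hu, hc⟩
    exact D.fpf hh h2 hu (Subgroup.mem_centralizer_singleton_iff.mp hc)
  rw [this, Subgroup.card_bot]

theorem fixN_one : D.fixN 1 = q ^ 3 + 1 := by
  rw [← D.card_X, fixN]
  exact Nat.card_congr (Equiv.subtypeUnivEquiv (fun x => one_smul G x))

theorem exists_three_part {g : G} (h3 : 3 ∣ orderOf g) : ∃ k, g ^ k ≠ 1 ∧ IsPGroup 3 (Subgroup.zpowers (g ^ k)) := by
  refine ⟨orderOf g / 3, ?_, ?_⟩
  · intro h
    have h1 := orderOf_dvd_of_pow_eq_one h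
    obtain ⟨c, hc⟩ := h3
    have hpos : 0 < orderOf g := orderOf_pos g
    rw [hc, Nat.mul_div_cancel_left _ (by norm_num)] at h1
    have hc0 : 0 < c := by omega
    have := Nat.le_of_dvd hc0 h1
    omega
  · apply isPGroup_zpowers (k := 1)
    rw [pow_one, ← pow_mul, Nat.div_mul_cancel h3, pow_orderOf_eq_one]

/-- the types of elements according to fixed points -/
theorem fixN_cases {g : G} (hg : g ≠ 1) : D.fixN g = 0 ∨ (3 ∣ orderOf g ∧ D.fixN g = 1) ∨
    (g * g ≠ 1 ∧ (∃ a : G, a⁻¹ * g * a ∈ D.H) ∧ D.fixN g = 2) ∨ (g * g = 1 ∧ D.fixN g = q + 1) := by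
  by_cases hfix : ∃ x : G ⧸ D.B, g • x = x
  · obtain ⟨x, hx⟩ := hfix
    by_cases h3 : 3 ∣ orderOf g
    · right; left
      refine ⟨h3, ?_⟩
      obtain ⟨k, hk1, hk2⟩ := exists_three_part h3
      have hkx : ∀ {y : G ⧸ D.B}, g • y = y → g ^ k • y = y := by
        intro y hy
        exact (MulAction.stabilizer G y).pow_mem (by exact hy) k
      haveI : Unique {x : G ⧸ D.B // g • x = x} := ⟨⟨⟨x, hx⟩⟩, fun y => Subtype.ext (D.three_uniq hk1 hk2 (hkx y.2) (hkx hx))⟩
      rw [fixN]; exact Nat.card_unique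
    · obtain ⟨y, hyx, hy⟩ := D.exists_second h3 hx
      obtain ⟨a, -, -, ha⟩ := D.conj_H hyx.symm hx hy
      right; right
      have hga : g = a * (a⁻¹ * g * a) * a⁻¹ := by group
      by_cases h2 : g * g = 1
      · right
        refine ⟨h2, ?_⟩
        have : a⁻¹ * g * a = D.i := by
          apply D.eq_i ha
          · intro h; apply hg; rw [hga, h]; group
          · have : a⁻¹ * g * a * (a⁻¹ * g * a) = a⁻¹ * (g * g) * a := by group
            rw [this, h2]; group
        rw [hga, fixN_conj, this, D.fixN_i]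
      · left
        refine ⟨h2, ⟨a, ha⟩, ?_⟩
        rw [hga, fixN_conj]
        apply D.fixN_two ha
        intro h
        apply h2
        have : g * g = a * (a⁻¹ * g * a * (a⁻¹ * g * a)) * a⁻¹ := by group
        rw [this, h]; group
  · left
    push Not at hfix
    rw [fixN, Nat.card_eq_zero]
    left
    exact ⟨fun x => hfix x.1 x.2⟩

end Cfsg.Agent.Lib.ReeA.RD
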