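import Mathlib
import Cfsg.Agent.Lib.ReeE

/-!
Abstract small Ree groups, part F: numbers of elements with given numbers of fixed points (helper18).
-/

set_option autoImplicit false
set_option linter.unusedSectionVars false

namespace Cfsg.Agent.Lib.ReeA.RD

open Cfsg.Agent.Lib.ReePSL Cfsg.Agent.Lib.ReeA Cfsg.Agent.Lib.H53Ree Cfsg.Agent.Lib.H53PSL2 Cfsg.Agent.Lib.ReeB
open Cfsg.Agent.Lib.ReeD

variable {G : Type*} [Group G] [Finite G] {K : Type*} [Field K] [Fintype K] {m : ℕ} (D : RD G K m)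

local notation "q" => Fintype.card K
local notation "PSL2" => Matrix.ProjectiveSpecialLinearGroup (Fin 2) K

theorem card_stab (x : G ⧸ D.B) : Nat.card {g : G // g • x = x} = Nat.card D.B := by
  obtain ⟨a, rfl⟩ := QuotientGroup.mk_surjective x
  have ha : (QuotientGroup.mk a : G ⧸ D.B) = a • D.o := by
    unfold o
    show _ = (QuotientGroup.mk (a * 1) : G ⧸ D.B)
    rw [mul_one]
  rw [ha]
  refine Nat.card_congr ⟨fun g => ⟨a⁻¹ * g * a, ?_⟩, fun b => ⟨a * b * a⁻¹, ?_⟩, ?_, ?_⟩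
  · apply D.smul_o.mp
    rw [mul_smul, mul_smul, g.2, inv_smul_smul]
  · have := D.smul_o.mpr b.2
    rw [mul_smul, mul_smul, inv_smul_smul, this]
  · intro g; apply Subtype.ext; simp [mul_assoc]
  · intro g; apply Subtype.ext; simp [mul_assoc]

theorem card_stab2 {x y : G ⧸ D.B} (hxy : x ≠ y) : Nat.card {g : G // g • x = x ∧ g • y = y} = Nat.card D.H := by
  obtain ⟨a, rfl, rfl⟩ := D.two_trans hxy
  refine Nat.card_congr ⟨fun g => ⟨a⁻¹ * g * a, ?_⟩, fun b => ⟨a * b * a⁻¹, ?_⟩, ?_, ?_⟩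
  · apply D.stab2.mp
    constructor
    · rw [mul_smul, mul_smul, g.2.1, inv_smul_smul]
    · rw [mul_smul, mul_smul, g.2.2, inv_smul_smul]
  · have := D.stab2.mpr b.2
    constructor
    · rw [mul_smul, mul_smul, inv_smul_smul, this.1]
    · rw [mul_smul, mul_smul, inv_smul_smul, this.2]
  · intro g; apply Subtype.ext; simp [mul_assoc]
  · intro g; apply Subtype.ext; simp [mul_assoc]

theorem sum_one [Fintype G] : ∑ g : G, D.fixN g = Nat.card G := by
  classical
  haveI : Fintype (G ⧸ D.B) := Fintype.ofFinite _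
  have h1 : ∀ g : G, D.fixN g = ∑ x : G ⧸ D.B, if g • x = x then 1 else 0 := by
    intro g
    rw [fixN, Nat.card_eq_fintype_card, Fintype.card_subtype, Finset.card_filter]
  have h2 : ∀ x : G ⧸ D.B, (∑ g : G, if g • x = x then 1 else 0) = Nat.card D.B := by
    intro x
    rw [← D.card_stab x, Nat.card_eq_fintype_card, Fintype.card_subtype, Finset.card_filter]
  simp_rw [h1]
  rw [Finset.sum_comm]
  simp_rw [h2]
  rw [Finset.sum_const, Finset.card_univ, smul_eq_mul, ← Nat.card_eq_fintype_card]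
  exact (Subgroup.card_eq_card_quotient_mul_card_subgroup D.B).symm

theorem sum_two [Fintype G] : ∑ g : G, D.fixN g ^ 2 = 2 * Nat.card G := by
  classical
  haveI : Fintype (G ⧸ D.B) := Fintype.ofFinite _
  have h1 : ∀ g : G, D.fixN g ^ 2 = ∑ x : G ⧸ D.B, ∑ y : G ⧸ D.B, if (g • x = x ∧ g • y = y) then 1 else 0 := by
    intro g
    rw [fixN, Nat.card_eq_fintype_card, Fintype.card_subtype, Finset.card_filter, pow_two, Finset.sum_mul_sum]
    refine Finset.sum_congr rfl fun x _ => Finset.sum_congr rfl fun y _ => ?_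
    by_cases hx : g • x = x <;> by_cases hy : g • y = y <;> simp [hx, hy]
  have h2 : ∀ x y : G ⧸ D.B, (∑ g : G, if (g • x = x ∧ g • y = y) then 1 else 0) =
      if x = y then Nat.card D.B else Nat.card D.H := by
    intro x y
    split_ifs with h
    · subst h
      rw [← D.card_stab x, Nat.card_eq_fintype_card, Fintype.card_subtype, Finset.card_filter]
      simp
    · rw [← D.card_stab2 h, Nat.card_eq_fintype_card, Fintype.card_subtype, Finset.card_filter]
  simp_rw [h1]
  rw [Finset.sum_comm]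
  have h3 : ∀ x : G ⧸ D.B, (∑ g : G, ∑ y : G ⧸ D.B, if (g • x = x ∧ g • y = y) then 1 else 0) =
      2 * Nat.card D.B := by
    intro x
    rw [Finset.sum_comm]
    simp_rw [h2]
    have h4 : ∑ y : G ⧸ D.B, (if x = y then Nat.card D.B else Nat.card D.H) =
        Nat.card D.B + (Nat.card (G ⧸ D.B) - 1) * Nat.card D.H := by
      rw [← Finset.add_sum_erase _ _ (Finset.mem_univ x), if_pos rfl]
      congr 1
      rw [Finset.sum_congr rfl (g := fun _ => Nat.card D.H) (fun y hy => if_neg (Finset.ne_of_mem_erase hy).symm),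
        Finset.sum_const, Finset.card_erase_of_mem (Finset.mem_univ _), Finset.card_univ, smul_eq_mul,
        Nat.card_eq_fintype_card (α := G ⧸ D.B)]
    rw [h4, D.card_X, D.card_B, D.card_H, Nat.add_sub_cancel, two_mul]
  rw [Finset.sum_congr rfl (fun x _ => h3 x), Finset.sum_const, Finset.card_univ, smul_eq_mul,
    ← Nat.card_eq_fintype_card]
  have := Subgroup.card_eq_card_quotient_mul_card_subgroup D.B
  rw [this]; ring

/-- number of involutions -/
theorem card_inv (D : RD G K m) : Nat.card {g : G // g ≠ 1 ∧ g * g = 1} = q ^ 2 * (q ^ 2 - q + 1) := by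
  have h1 : Nat.card {g : G // g ≠ 1 ∧ g * g = 1} * Nat.card (Subgroup.centralizer ({D.i} : Set G)) = Nat.card G := by
    rw [← Nat.card_prod]
    have hch : ∀ g : {g : G // g ≠ 1 ∧ g * g = 1}, ∃ a : G, a * D.i * a⁻¹ = g := fun g => D.inv_conj g.2.1 g.2.2
    choose a ha using hch
    refine Nat.card_congr (Equiv.ofBijective (fun p => a p.1 * p.2) ⟨?_, ?_⟩)
    · rintro ⟨g, c⟩ ⟨g', c'⟩ h
      have h1 : a g * (c : G) = a g' * c' := h
      have hc := Subgroup.mem_centralizer_singleton_iff.mp c.2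
      have hc' := Subgroup.mem_centralizer_singleton_iff.mp c'.2
      have e1 : (g : G) = g' := by
        rw [← ha g, ← ha g']
        have e2 : D.i = c * D.i * (c : G)⁻¹ := by rw [hc, mul_inv_cancel_right]
        have e3 : D.i = c' * D.i * (c' : G)⁻¹ := by rw [hc', mul_inv_cancel_right]
        calc a g * D.i * (a g)⁻¹ = a g * (c * D.i * (c : G)⁻¹) * (a g)⁻¹ := by rw [← e2]
          _ = (a g * c) * D.i * (a g * c)⁻¹ := by group
          _ = (a g' * c') * D.i * (a g' * c')⁻¹ := by rw [h1]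
          _ = a g' * (c' * D.i * (c' : G)⁻¹) * (a g')⁻¹ := by group
          _ = _ := by rw [← e3]
      have e4 : g = g' := Subtype.ext e1
      subst e4
      rw [Subtype.ext (mul_left_cancel h1)]
    · intro x
      have hx1 : x * D.i * x⁻¹ ≠ 1 := by
        intro h
        apply D.i_ne
        have : D.i = x⁻¹ * (x * D.i * x⁻¹) * x := by group
        rw [this, h]; group
      have hx2 : x * D.i * x⁻¹ * (x * D.i * x⁻¹) = 1 := by
        have : x * D.i * x⁻¹ * (x * D.i * x⁻¹) = x * (D.i * D.i) * x⁻¹ := by group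
        rw [this, D.i_sq]; group
      set g : {g : G // g ≠ 1 ∧ g * g = 1} := ⟨_, hx1, hx2⟩ with hg
      refine ⟨(g, ⟨(a g)⁻¹ * x, ?_⟩), ?_⟩
      · rw [Subgroup.mem_centralizer_singleton_iff]
        have h3 : a g * D.i * (a g)⁻¹ = x * D.i * x⁻¹ := ha g
        calc (a g)⁻¹ * x * D.i = (a g)⁻¹ * (x * D.i * x⁻¹) * x := by group
          _ = (a g)⁻¹ * (a g * D.i * (a g)⁻¹) * x := by rw [h3]
          _ = _ := by group
      · show a g * ((a g)⁻¹ * x) = x
        group
  rw [D.card_cent D.i_ne D.i_sq, D.card_G] at h1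
  have hq := D.q_ge
  obtain ⟨k, hk⟩ : ∃ k, q = k + 1 := ⟨q - 1, by omega⟩
  rw [hk] at h1 ⊢
  have e1 : k + 1 - 1 = k := by omega
  have e2 : (k + 1) ^ 2 - 1 = k * (k + 2) := by
    have : (k + 1) ^ 2 = k * (k + 2) + 1 := by ring
    rw [this]; rfl
  have e3 : (k + 1) ^ 2 - (k + 1) + 1 = k ^ 2 + k + 1 := by
    have : (k + 1) ^ 2 = (k ^ 2 + k) + (k + 1) := by ring
    rw [this, Nat.add_sub_cancel]
  rw [e1, e2] at h1
  rw [e3]
  have hk0 : 0 < (k + 1) * (k * (k + 2)) := by
    have : 0 < k := by omega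
    positivity
  apply Nat.eq_of_mul_eq_mul_right hk0
  rw [h1]; ring

/-- The number of elements with no fixed points. -/
theorem card_noFix : 2 * (Nat.card {g : G // D.fixN g = 0} : ℤ) = (q : ℤ) ^ 3 * (q - 1) * (q ^ 3 - 2 * q ^ 2 - 1) := by
  classical
  letI : Fintype G := Fintype.ofFinite G
  have hq := D.q_ge
  have s1 := D.sum_one
  have s2 := D.sum_two
  have hi : ∀ g : G, g ≠ 1 ∧ g * g = 1 → D.fixN g = q + 1 := by
    rintro g ⟨h1, h2⟩
    obtain ⟨a, rfl⟩ := D.inv_conj h1 h2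
    rw [fixN_conj, D.fixN_i]
  -- indicator decomposition
  have hq1 : q + 1 ≠ q ^ 3 + 1 := by
    intro h
    have h2 : q ^ 3 = q * (q * q) := by ring
    have h3 : 27 * 27 ≤ q * q := Nat.mul_le_mul hq hq
    have h4 : q * (27 * 27) ≤ q * (q * q) := Nat.mul_le_mul_left _ h3
    omega
  have key : ∀ (g : G) (φ : ℕ → ℤ), φ (D.fixN g) = φ 0 * (if D.fixN g = 0 then 1 else 0) + φ 1 * (if D.fixN g = 1 then 1 else 0) +
      φ 2 * (if D.fixN g = 2 then 1 else 0) + φ (q + 1) * (if (g ≠ 1 ∧ g * g = 1) then 1 else 0) +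
      φ (q ^ 3 + 1) * (if g = 1 then 1 else 0) := by
    intro g φ
    by_cases hg : g = 1
    · subst hg
      rw [D.fixN_one]
      have h0 : q ^ 3 + 1 ≠ 0 := by omega
      have h1 : q ^ 3 + 1 ≠ 1 := by
        have : 0 < q ^ 3 := by positivity
        omega
      have h2 : q ^ 3 + 1 ≠ 2 := by
        have : 27 ^ 3 ≤ q ^ 3 := Nat.pow_le_pow_left hq 3
        omega
      simp [h0, h1, h2]
    · rcases D.fixN_cases hg with h | ⟨h3, h⟩ | ⟨h2, -, h⟩ | ⟨h2, h⟩
      · have hn : ¬ (g ≠ 1 ∧ g * g = 1) := by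
          intro h'; have := hi g h'; omega
        rw [h]; simp [hn, hg]
        intro h'; exact absurd ⟨hg, h'⟩ hn
      · have hn : ¬ (g ≠ 1 ∧ g * g = 1) := by
          intro h'; have := hi g h'; omega
        rw [h]; simp [hg]
        intro h'; exact absurd ⟨hg, h'⟩ hn
      · rw [h]; simp [hg, h2]
      · have h0 : q + 1 ≠ 0 := by omega
        have h1 : q + 1 ≠ 1 := by omega
        have h1' : q + 1 ≠ 2 := by omega
        rw [h]; simp [hg, h2, h0]
        intro h'; omega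
  have S : ∀ φ : ℕ → ℤ, ∑ g : G, φ (D.fixN g) = φ 0 * Nat.card {g : G // D.fixN g = 0} + φ 1 * Nat.card {g : G // D.fixN g = 1} +
      φ 2 * Nat.card {g : G // D.fixN g = 2} + φ (q + 1) * Nat.card {g : G // g ≠ 1 ∧ g * g = 1} + φ (q ^ 3 + 1) := by
    intro φ
    rw [Finset.sum_congr rfl (fun g _ => key g φ)]
    rw [Finset.sum_add_distrib, Finset.sum_add_distrib, Finset.sum_add_distrib, Finset.sum_add_distrib,
      ← Finset.mul_sum, ← Finset.mul_sum, ← Finset.mul_sum, ← Finset.mul_sum, ← Finset.mul_sum]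
    rw [Finset.sum_boole, Finset.sum_boole, Finset.sum_boole, Finset.sum_boole, Finset.sum_boole]
    have hc : ∀ (P : G → Prop) [DecidablePred P], ((Finset.univ.filter P).card : ℤ) = (Nat.card {g // P g} : ℤ) := by
      intro P _
      rw [Nat.card_eq_fintype_card, Fintype.card_subtype]
    rw [hc, hc, hc, hc, hc]
    have h1 : Nat.card {g : G // g = 1} = 1 := by simp
    rw [h1]; push_cast; ring
  have S0 := S (fun _ => 1)
  have S1 := S (fun n => (n : ℤ))
  have S2 := S (fun n => (n : ℤ) ^ 2)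
  rw [Finset.sum_const, Finset.card_univ, ← Nat.card_eq_fintype_card] at S0
  have e1 : ∑ g : G, ((D.fixN g : ℕ) : ℤ) = Nat.card G := by rw [← s1]; push_cast; rfl
  have e2 : ∑ g : G, ((D.fixN g : ℕ) : ℤ) ^ 2 = 2 * Nat.card G := by
    have : ((∑ g : G, D.fixN g ^ 2 : ℕ) : ℤ) = ((2 * Nat.card G : ℕ) : ℤ) := by rw [s2]
    push_cast at this
    exact this
  rw [e1] at S1
  rw [e2] at S2
  rw [D.card_inv] at S0 S1 S2
  have hG : (Nat.card G : ℤ) = (q : ℤ) ^ 3 * (q - 1) * (q ^ 3 + 1) := by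
    rw [D.card_G]
    push_cast [Nat.cast_sub (show 1 ≤ q by omega)]
    ring
  have hI : ((q ^ 2 * (q ^ 2 - q + 1) : ℕ) : ℤ) = (q : ℤ) ^ 2 * (q ^ 2 - q + 1) := by
    have : q ≤ q ^ 2 := by nlinarith
    push_cast [Nat.cast_sub this]
    ring
  rw [hI] at S0 S1 S2
  rw [hG] at S1 S2
  have S0' : (q : ℤ) ^ 3 * (q - 1) * (q ^ 3 + 1) = Nat.card {g : G // D.fixN g = 0} + Nat.card {g : G // D.fixN g = 1} +
      Nat.card {g : G // D.fixN g = 2} + (q : ℤ) ^ 2 * (q ^ 2 - q + 1) + 1 := by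
    rw [← hG]
    have := S0
    simp only [nsmul_eq_mul, mul_one, one_mul] at this
    exact this
  push_cast at S1 S2
  linear_combination (-2 : ℤ) * S0' + 3 * S1 - S2
end Cfsg.Agent.Lib.ReeA.RD
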