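import Mathlib
import Cfsg.Agent.Lib.ReeF
import Cfsg.Agent.Lib.CoprimeGen
import Cfsg.Agent.Lib.H1PByCyc2

/-!
Abstract small Ree groups, part G: centralizers of elements of prime order dividing `(q+1)/4` (helper18).
-/

set_option autoImplicit false
set_option linter.unusedSectionVars false

namespace Cfsg.Agent.Lib.ReeG

open Cfsg.Agent.Lib.H1PByCyc

/-- groups with a Klein four Sylow `2`-subgroup, abelian involution centralizers, and no element of order `3` -/
theorem klein_cent {Γ : Type*} [Group Γ] [Finite Γ] (T : Subgroup Γ) (hT : ∀ x ∈ T, ∀ y ∈ T, x * y = y * x)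
    {v j : Γ} (hv : v ∈ T) (hj : j ∈ T) (hv1 : v ≠ 1) (hj1 : j ≠ 1) (hvj : v ≠ j) (hvv : v * v = 1) (hjj : j * j = 1)
    (h3 : ¬ 3 ∣ Nat.card Γ) (h8 : ¬ 8 ∣ Nat.card T)
    (hab : ∀ S : Sylow 2 Γ, ∀ x ∈ (S : Subgroup Γ), ∀ y ∈ (S : Subgroup Γ), x * y = y * x)
    (hcv : ∀ c : Γ, c * v = v * c → c ∈ T) (hcj : ∀ c : Γ, c * j = j * c → c ∈ T)
    (hcvj : ∀ c : Γ, c * (v * j) = (v * j) * c → c ∈ T) (c : Γ) : c ∈ T := by
  classical
  haveI : Fact (Nat.Prime 2) := ⟨Nat.prime_two⟩
  have hcom : v * j = j * v := hT v hv j hj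
  set V : Subgroup Γ := fourSub v j hvv hjj hcom with hV
  have hVT : V ≤ T := by
    intro x hx
    rcases mem_fourSub.mp hx with rfl | rfl | rfl | rfl
    · exact one_mem _
    · exact hv
    · exact hj
    · exact mul_mem hv hj
  have hV4 : Nat.card V = 4 := card_fourSub hv1 hj1 hvj
  have hV2 : IsPGroup 2 V := IsPGroup.of_card (n := 2) (by rw [hV4]; norm_num)
  obtain ⟨S, hS⟩ := hV2.exists_le_sylow
  have hvV : v ∈ V := mem_fourSub.mpr (Or.inr (Or.inl rfl))
  have hjV : j ∈ V := mem_fourSub.mpr (Or.inr (Or.inr (Or.inl rfl)))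
  have hST : (S : Subgroup Γ) ≤ T := fun x hx => hcv x (hab S x hx v (hS hvV))
  have hS4 : Nat.card (S : Subgroup Γ) = 4 := by
    obtain ⟨k, hk⟩ := IsPGroup.iff_card.mp S.isPGroup'
    have h1 : Nat.card V ∣ Nat.card (S : Subgroup Γ) := Subgroup.card_dvd_of_le hS
    have h2 : Nat.card (S : Subgroup Γ) ∣ Nat.card T := Subgroup.card_dvd_of_le hST
    have hk2 : 2 ≤ k := by
      by_contra hk2
      have : k ≤ 1 := by omega
      rw [hk, hV4] at h1
      have h3 := Nat.le_of_dvd (by positivity) h1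
      interval_cases k <;> omega
    have hk3 : k < 3 := by
      by_contra hk3
      apply h8
      refine dvd_trans ?_ h2
      rw [hk]
      exact (by norm_num : (8 : ℕ) = 2 ^ 3) ▸ Nat.pow_dvd_pow 2 (by omega)
    have : k = 2 := by omega
    rw [hk, this]; norm_num
  have hSV : V = (S : Subgroup Γ) := Subgroup.eq_of_le_of_card_ge hS (by rw [hS4, hV4])
  have hvj1 : v * j ≠ 1 := by
    intro h
    apply hvj
    rw [eq_comm, ← inv_eq_of_mul_eq_one_left hvv]
    exact (inv_eq_of_mul_eq_one_right h).symm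
  -- N(S) ≤ C(S)
  have hNT : ∀ g : Γ, (∀ x ∈ V, g * x * g⁻¹ ∈ V) → g ∈ T := by
    intro g hg
    have n3 : ¬ 3 ∣ orderOf g := fun h => h3 (h.trans (orderOf_dvd_natCard g))
    have conj_ne : ∀ x : Γ, x ≠ 1 → g * x * g⁻¹ ≠ 1 := by
      intro x hx h
      apply hx
      have : x = g⁻¹ * (g * x * g⁻¹) * g := by group
      rw [this, h]; group
    have conj_inj : ∀ x y : Γ, g * x * g⁻¹ = g * y * g⁻¹ → x = y := fun x y h => mul_left_cancel (mul_right_cancel h)
    have tocomm : ∀ {x : Γ}, g * x * g⁻¹ = x → g * x = x * g := fun h => mul_inv_eq_iff_eq_mul.mp h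
    -- if `g³` commutes with `v`, so does `g`
    have key : g ^ 3 * v = v * g ^ 3 → g ∈ T := by
      intro h
      apply hcv
      have hc : Commute (g ^ 3) v := h
      have hcop : Nat.Coprime 3 (orderOf g) := (Nat.Prime.coprime_iff_not_dvd Nat.prime_three).mpr n3
      obtain ⟨k, hk⟩ := exists_pow_eq_self_of_coprime hcop
      rw [← hk]
      exact (hc.pow_left k).eq
    have hmul : ∀ x y, g * (x * y) * g⁻¹ = (g * x * g⁻¹) * (g * y * g⁻¹) := by intro x y; group
    have hgv := hg v hvV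
    have hgj := hg j hjV
    rcases mem_fourSub.mp hgv with e | e | e | e
    · exact absurd e (conj_ne v hv1)
    · exact hcv g (tocomm e)
    · -- v ↦ j
      rcases mem_fourSub.mp hgj with f | f | f | f
      · exact absurd f (conj_ne j hj1)
      · -- j ↦ v : fixes vj
        apply hcvj
        apply tocomm
        rw [hmul, e, f]; exact hcom.symm
      · exact hcj g (tocomm f)
      · -- j ↦ vj, vj ↦ v
        apply key
        have : g ^ 3 * v * (g ^ 3)⁻¹ = v := by
          have h1 : g ^ 3 * v * (g ^ 3)⁻¹ = g * (g * (g * v * g⁻¹) * g⁻¹) * g⁻¹ := by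
            simp only [pow_succ, pow_zero, one_mul, mul_inv_rev, mul_assoc]
          have h2 : j * (v * j) = v := by rw [← mul_assoc, ← hcom, mul_assoc, hjj, mul_one]
          rw [h1, e, f, hmul v j, e, f, h2]
        exact mul_inv_eq_iff_eq_mul.mp this
    · -- v ↦ vj
      rcases mem_fourSub.mp hgj with f | f | f | f
      · exact absurd f (conj_ne j hj1)
      · -- j ↦ v, v ↦ vj
        apply key
        have : g ^ 3 * v * (g ^ 3)⁻¹ = v := by
          have h1 : g ^ 3 * v * (g ^ 3)⁻¹ = g * (g * (g * v * g⁻¹) * g⁻¹) * g⁻¹ := by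
            simp only [pow_succ, pow_zero, one_mul, mul_inv_rev, mul_assoc]
          have h2 : v * j * v = j := by rw [mul_assoc, ← hcom, ← mul_assoc, hvv, one_mul]
          rw [h1, e, hmul v j, e, f, h2, f]
        exact mul_inv_eq_iff_eq_mul.mp this
      · exact hcj g (tocomm f)
      · exfalso
        exact hvj (conj_inj v j (e.trans f.symm))
  have hNC : Subgroup.normalizer ((S : Subgroup Γ) : Set Γ) ≤ Subgroup.centralizer ((S : Subgroup Γ) : Set Γ) := by
    intro g hg
    have hgT : g ∈ T := by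
      apply hNT
      intro x hx
      rw [hSV] at hx ⊢
      exact (Subgroup.mem_normalizer_iff.mp hg x).mp hx
    rw [Subgroup.mem_centralizer_iff]
    intro x hx
    exact hT x (hST hx) g hgT
  have hcompl := MonoidHom.ker_transferSylow_isComplement' S hNC
  set N := (MonoidHom.transferSylow S hNC).ker with hN
  have hNodd : (Nat.card (S : Subgroup Γ)).Coprime (Nat.card N) := by
    have h1 := hcompl.card_mul
    have h2 : Nat.card N = (S : Subgroup Γ).index := by
      have h3 := (S : Subgroup Γ).card_mul_index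
      rw [← h3, mul_comm] at h1
      exact Nat.eq_of_mul_eq_mul_left Nat.card_pos h1
    rw [h2, hS4]
    have h4 : ¬ 2 ∣ (S : Subgroup Γ).index := S.not_dvd_index
    exact (by norm_num : (4 : ℕ) = 2 ^ 2) ▸ Nat.Coprime.pow_left 2 ((Nat.Prime.coprime_iff_not_dvd Nat.prime_two).mpr h4)
  have hnc : ¬ IsCyclic (S : Subgroup Γ) := by
    intro h
    obtain ⟨g, hg⟩ := IsCyclic.exists_ofOrder_eq_natCard (α := (S : Subgroup Γ))
    rw [hS4] at hg
    have h1 : (g : Γ) ^ 2 = 1 := by
      have : (g : Γ) ∈ V := by rw [hSV]; exact g.2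
      exact sq_fourSub this
    have h2 : orderOf g ∣ 2 := orderOf_dvd_of_pow_eq_one (Subtype.ext h1)
    rw [hg] at h2
    norm_num at h2
  have hgen := Cfsg.Agent.Lib.CoprimeGen.iSup_centralizer_eq (A := (S : Subgroup Γ)) (K := N)
    ⟨⟨fun x y => Subtype.ext (hab S x x.2 y y.2)⟩⟩ hnc (by
      intro g _
      rw [Subgroup.mem_normalizer_iff]
      intro x
      have : N.Normal := inferInstance
      exact ⟨fun hx => this.conj_mem x hx g, fun hx => by
        have := this.conj_mem _ hx g⁻¹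
        have e : g⁻¹ * (g * x * g⁻¹) * g⁻¹⁻¹ = x := by group
        rwa [e] at this⟩) hNodd
  have hNT' : N ≤ T := by
    rw [← hgen]
    refine iSup₂_le fun a ha x hx => ?_
    have hx2 := Subgroup.mem_centralizer_singleton_iff.mp hx.2
    obtain ⟨haS, ha1⟩ := ha
    have haV : a ∈ V := by rw [hSV]; exact haS
    rcases mem_fourSub.mp haV with rfl | rfl | rfl | rfl
    · exact absurd rfl ha1
    · exact hcv x hx2
    · exact hcj x hx2
    · exact hcvj x hx2
  have htop : N ⊔ (S : Subgroup Γ) = ⊤ := hcompl.sup_eq_top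
  have : (⊤ : Subgroup Γ) ≤ T := by rw [← htop]; exact sup_le hNT' hST
  exact this (Subgroup.mem_top c)

end Cfsg.Agent.Lib.ReeG
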