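import Mathlib
import Cfsg.Agent.Lib.ReeG

/-!
Abstract small Ree groups, part H: the tori of order `q + 1` (helper18).
-/

set_option autoImplicit false
set_option linter.unusedSectionVars false

namespace Cfsg.Agent.Lib.ReeA.RD

open Cfsg.Agent.Lib.ReePSL Cfsg.Agent.Lib.ReeA Cfsg.Agent.Lib.H53Ree Cfsg.Agent.Lib.H53PSL2 Cfsg.Agent.Lib.ReeB
open Cfsg.Agent.Lib.ReeD Cfsg.Agent.Lib.ReeG

variable {G : Type*} [Group G] [Finite G] {K : Type*} [Field K] [Fintype K] {m : ℕ} (D : RD G K m)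

local notation "q" => Fintype.card K
local notation "PSL2" => Matrix.ProjectiveSpecialLinearGroup (Fin 2) K

/-- elements of odd order of `C(v)` lie in `L` -/
theorem odd_mem {v : G} {ι : PSL2 →* G} (C : Conf v ι) (hcov : ∀ c, c * v = v * c → ∃ y, c = ι y ∨ c = v * ι y)
    {x : G} (hc : x * v = v * x) (ho : Odd (orderOf x)) : ∃ y, x = ι y := by
  obtain ⟨y, h | h⟩ := hcov x hc
  · exact ⟨y, h⟩
  · exfalso
    have h1 : x ^ orderOf x = 1 := pow_orderOf_eq_one x
    have hcm : Commute v (ι y) := C.comm y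
    nth_rewrite 1 [h] at h1
    rw [hcm.mul_pow, ← map_pow] at h1
    have hv : v ^ orderOf x = v := by
      obtain ⟨k, hk⟩ := ho
      rw [hk, pow_add, pow_mul, pow_two, C.tt, one_pow, one_mul, pow_one]
    rw [hv] at h1
    apply C.nt ((y ^ orderOf x)⁻¹)
    rw [map_inv]
    exact (eq_inv_of_mul_eq_one_left h1).symm

theorem gcd2 (D : RD G K m) : Nat.gcd 2 (q - 1) = 2 := Nat.gcd_eq_left (by have := D.q_mod; omega)

/-- the centralizer in `C(v)` of an element of odd order `> 1` dividing `q + 1` -/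
theorem tor1 (D : RD G K m) {x v : G} (hx1 : x ≠ 1) (hxo : Odd (orderOf x)) (hxq : orderOf x ∣ q + 1)
    (hv1 : v ≠ 1) (hvv : v * v = 1) (hc : x * v = v * x) :
    ∃ (ι : PSL2 →* G) (T : Subgroup PSL2), Conf v ι ∧ IsCyclic T ∧ 2 * Nat.card T = q + 1 ∧ (∃ y ∈ T, ι y = x) ∧
      ∀ c, (c * x = x * c ∧ c * v = v * c) ↔ ∃ t ∈ T, c = ι t ∨ c = v * ι t := by
  haveI : Fact (Nat.Prime 3) := ⟨Nat.prime_three⟩
  haveI := D.charP
  obtain ⟨ι, C, hcov⟩ := D.exists_conf' hv1 hvv
  obtain ⟨y, rfl⟩ := odd_mem C hcov hc hxo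
  have hoy : orderOf (ι y) = orderOf y := orderOf_injective ι C.inj y
  rw [hoy] at hxo hxq
  have hy1 : y ≠ 1 := by rintro rfl; exact hx1 (map_one ι)
  have hyy : y * y ≠ 1 := by
    intro h
    have h2 : orderOf y ∣ 2 := orderOf_dvd_of_pow_eq_one (by rw [pow_two]; exact h)
    rcases (Nat.dvd_prime Nat.prime_two).mp h2 with h3 | h3
    · exact hy1 (orderOf_eq_one_iff.mp h3)
    · rw [h3] at hxo; exact absurd hxo (by decide)
  have h3 : ¬ 3 ∣ orderOf y := by
    intro h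
    have h4 := h.trans hxq
    have := (Nat.dvd_add_right D.dvd_q).mp h4
    norm_num at this
  obtain ⟨T, N, hTN, hT, hyT, hcT, -, hsq, hnorm⟩ := tor 3 (by have := D.q_ge; omega) y hy1 h3
  rw [D.gcd2] at hcT
  have hcT' : 2 * Nat.card T = q + 1 := by
    rcases hcT with h | h
    · exfalso
      have h4 : orderOf y ∣ Nat.card T := Subgroup.orderOf_dvd_natCard T hyT
      have h5 : orderOf y ∣ q - 1 := by rw [← h]; exact h4.mul_left 2
      have h6 : orderOf y ∣ 2 := by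
        have := Nat.dvd_sub hxq h5
        have e : q + 1 - (q - 1) = 2 := by have := D.q_ge; omega
        rwa [e] at this
      rcases (Nat.dvd_prime Nat.prime_two).mp h6 with h7 | h7
      · exact hy1 (orderOf_eq_one_iff.mp h7)
      · rw [h7] at hxo; exact absurd hxo (by decide)
    · exact h
  have hTc : ∀ a ∈ T, ∀ b ∈ T, a * b = b * a := by
    intro a ha b hb
    have := IsCyclic.isMulCommutative (α := T)
    exact congrArg Subtype.val (this.is_comm.comm ⟨a, ha⟩ ⟨b, hb⟩)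
  refine ⟨ι, T, C, hT, hcT', ⟨y, hyT, rfl⟩, fun c => ⟨?_, ?_⟩⟩
  · rintro ⟨h1, h2⟩
    obtain ⟨t, ht⟩ := hcov c h2
    refine ⟨t, ?_, ht⟩
    refine Cfsg.Agent.Lib.ReePSL.cent hTN hsq hyT hyy hnorm ?_
    apply C.inj
    rw [map_mul, map_mul]
    rcases ht with ht | ht
    · rw [← ht]; exact h1
    · have e : ι t = v * c := by rw [ht, ← mul_assoc, C.tt, one_mul]
      rw [e, mul_assoc, h1, ← mul_assoc, C.comm, mul_assoc]
  · rintro ⟨t, ht, rfl | rfl⟩
    · exact ⟨by rw [← map_mul, hTc t ht y hyT, map_mul], (C.comm t).symm⟩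
    · constructor
      · rw [mul_assoc, ← map_mul, hTc t ht y hyT, map_mul, ← mul_assoc, C.comm, mul_assoc]
      · rw [mul_assoc, ← C.comm]

theorem cyc_involution {T : Subgroup PSL2} (hT : IsCyclic T) (h2 : 2 ∣ Nat.card T) : ∃ t ∈ T, t ≠ 1 ∧ t * t = 1 := by
  have : Fact (Nat.Prime 2) := ⟨Nat.prime_two⟩
  obtain ⟨i, hi⟩ := exists_prime_orderOf_dvd_card' 2 h2
  refine ⟨i, i.2, ?_, ?_⟩
  · rintro h
    have : i = 1 := Subtype.ext h
    rw [this, orderOf_one] at hi
    norm_num at hi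
  · have h3 : i ^ orderOf i = 1 := pow_orderOf_eq_one i
    rw [hi] at h3
    have : i * i = 1 := by rw [← pow_two]; exact h3
    exact congrArg Subtype.val this

theorem tor1_card {v : G} {ι : PSL2 →* G} {T : Subgroup PSL2} (C : Conf v ι) {A : Subgroup G}
    (hA : ∀ c, c ∈ A ↔ ∃ t ∈ T, c = ι t ∨ c = v * ι t) : Nat.card A = 2 * Nat.card T := by
  let f : T ⊕ T → A := Sum.elim (fun t => ⟨ι t, (hA _).mpr ⟨t, t.2, Or.inl rfl⟩⟩)
    (fun t => ⟨v * ι t, (hA _).mpr ⟨t, t.2, Or.inr rfl⟩⟩)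
  have hf : Function.Bijective f := by
    constructor
    · rintro (x | x) (y | y) hxy
      · have h1 : ι x = ι y := congrArg Subtype.val hxy
        exact congrArg Sum.inl (Subtype.ext (C.inj h1))
      · exfalso
        have h1 : ι x = v * ι y := congrArg Subtype.val hxy
        apply C.nt ((x : PSL2) * (y : PSL2)⁻¹)
        rw [map_mul, map_inv, h1, mul_inv_cancel_right]
      · exfalso
        have h1 : v * ι x = ι y := congrArg Subtype.val hxy
        apply C.nt ((y : PSL2) * (x : PSL2)⁻¹)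
        rw [map_mul, map_inv, ← h1, mul_inv_cancel_right]
      · have h1 : v * ι x = v * ι y := congrArg Subtype.val hxy
        exact congrArg Sum.inr (Subtype.ext (C.inj (mul_left_cancel h1)))
    · rintro ⟨c, hc⟩
      obtain ⟨t, ht, h | h⟩ := (hA c).mp hc
      · exact ⟨Sum.inl ⟨t, ht⟩, Subtype.ext h.symm⟩
      · exact ⟨Sum.inr ⟨t, ht⟩, Subtype.ext h.symm⟩
  have := Nat.card_congr (Equiv.ofBijective f hf)
  rw [Nat.card_sum, ← two_mul] at this
  exact this.symm

/-- elements without fixed points -/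
theorem no_fix {x : G} (hx1 : x ≠ 1) (h3 : ¬ 3 ∣ orderOf x) (hc : Nat.Coprime (orderOf x) (q - 1)) (y : G ⧸ D.B) :
    x • y ≠ y := by
  intro h
  obtain ⟨z, hz, hz2⟩ := D.exists_second h3 h
  have h1 := D.orderOf_of_two hz hz2 h
  exact hx1 (orderOf_eq_one_iff.mp (Nat.Coprime.eq_one_of_dvd hc h1))

theorem three_free (D : RD G K m) {x : G} (hx1 : x ≠ 1) (h3 : ¬ 3 ∣ orderOf x) (hc : Nat.Coprime (orderOf x) (q - 1)) :
    ¬ 3 ∣ Nat.card (Subgroup.centralizer ({x} : Set G)) := by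
  intro h
  have : Fact (Nat.Prime 3) := ⟨Nat.prime_three⟩
  obtain ⟨u, hu⟩ := exists_prime_orderOf_dvd_card' 3 h
  have hu1 : (u : G) ≠ 1 := by
    intro h
    have : u = 1 := Subtype.ext h
    rw [this, orderOf_one] at hu
    norm_num at hu
  have hu3 : IsPGroup 3 (Subgroup.zpowers (u : G)) := by
    apply isPGroup_zpowers (k := 1)
    rw [pow_one, ← hu]
    exact congrArg Subtype.val (pow_orderOf_eq_one u)
  obtain ⟨y, hy⟩ := D.three_fix hu3
  exact D.no_fix hx1 h3 hc y (D.comm_fix hu1 hu3 (Subgroup.mem_centralizer_singleton_iff.mp u.2).symm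
    (hy u (Subgroup.mem_zpowers _)))

theorem cop_sub (D : RD G K m) {n : ℕ} (ho : Odd n) (hn : n ∣ q + 1) : Nat.Coprime n (q - 1) ∧ ¬ 3 ∣ n := by
  constructor
  · have h1 : Nat.Coprime n 2 := Nat.Coprime.symm ((Nat.coprime_two_left).mpr ho)
    have h2 : Nat.gcd n (q - 1) ∣ 2 := by
      have := Nat.dvd_sub ((Nat.gcd_dvd_left n (q - 1)).trans hn) (Nat.gcd_dvd_right n (q - 1))
      have e : q + 1 - (q - 1) = 2 := by have := D.q_ge; omega
      rwa [e] at this
    have h3 : Nat.gcd n (q - 1) ∣ Nat.gcd n 2 := Nat.dvd_gcd (Nat.gcd_dvd_left _ _) h2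
    have h4 : Nat.gcd n 2 = 1 := h1
    rw [h4] at h3
    exact Nat.dvd_one.mp h3
  · intro h
    have h4 := h.trans hn
    have := (Nat.dvd_add_right D.dvd_q).mp h4
    norm_num at this

/-- the centralizer of `x` is contained in the centralizer of `v` -/
theorem cent_le (D : RD G K m) {x v : G} (hx1 : x ≠ 1) (hxo : Odd (orderOf x)) (hxq : orderOf x ∣ q + 1)
    (hv1 : v ≠ 1) (hvv : v * v = 1) (hc : x * v = v * x) {c : G} (hcx : c * x = x * c) : c * v = v * c := by
  obtain ⟨ι, T, C, hT, hcT, ⟨y, hyT, hyx⟩, hiff⟩ := D.tor1 hx1 hxo hxq hv1 hvv hc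
  obtain ⟨hcop, hn3⟩ := D.cop_sub hxo hxq
  have h2T : 2 ∣ Nat.card T := by have := D.q_mod; omega
  obtain ⟨t, htT, ht1, htt⟩ := cyc_involution hT h2T
  set j := ι t with hj
  have hjj : j * j = 1 := by rw [hj, ← map_mul, htt, map_one]
  have hj1 : j ≠ 1 := by rw [hj]; intro h; exact ht1 (C.inj (by rw [h, map_one]))
  have hvj : v ≠ j := fun h => C.nt t h.symm
  have hTc : ∀ a ∈ T, ∀ b ∈ T, a * b = b * a := by
    intro a ha b hb
    have := IsCyclic.isMulCommutative (α := T)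
    exact congrArg Subtype.val (this.is_comm.comm ⟨a, ha⟩ ⟨b, hb⟩)
  set Γ := Subgroup.centralizer ({x} : Set G) with hΓ
  have hmemΓ : ∀ {c : G}, c ∈ Γ ↔ c * x = x * c := Subgroup.mem_centralizer_singleton_iff
  -- the torus as a subgroup of `C(x)`
  have card_of : ∀ w : G, w ≠ 1 → w * w = 1 → x * w = w * x →
      Nat.card (Γ ⊓ Subgroup.centralizer ({w} : Set G) : Subgroup G) = q + 1 := by
    intro w hw1 hww hxw
    obtain ⟨ι', T', C', hT', hcT', -, hiff'⟩ := D.tor1 hx1 hxo hxq hw1 hww hxw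
    rw [← hcT']
    apply tor1_card C'
    intro c
    rw [← hiff', Subgroup.mem_inf, Subgroup.mem_centralizer_singleton_iff, Subgroup.mem_centralizer_singleton_iff]
  set A : Subgroup G := Γ ⊓ Subgroup.centralizer ({v} : Set G) with hA
  have hAmem : ∀ c, c ∈ A ↔ ∃ t ∈ T, c = ι t ∨ c = v * ι t := by
    intro c
    rw [← hiff, hA, Subgroup.mem_inf, Subgroup.mem_centralizer_singleton_iff, Subgroup.mem_centralizer_singleton_iff]
  have hAc : ∀ a ∈ A, ∀ b ∈ A, a * b = b * a := by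
    intro a ha b hb
    obtain ⟨s, hs, ha'⟩ := (hAmem a).mp ha
    obtain ⟨r, hr, hb'⟩ := (hAmem b).mp hb
    have h1 : Commute (ι s) (ι r) := by
      show ι s * ι r = ι r * ι s
      rw [← map_mul, hTc s hs r hr, map_mul]
    have h2 : Commute v (ι s) := C.comm s
    have h3 : Commute v (ι r) := C.comm r
    rcases ha' with rfl | rfl <;> rcases hb' with rfl | rfl
    · exact h1.eq
    · exact (h2.symm.mul_right h1).eq
    · exact (h3.mul_left h1).eq
    · exact (((Commute.refl v).mul_left h2.symm).mul_right (h3.mul_left h1)).eq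
  have hvA : v ∈ A := (hAmem v).mpr ⟨1, one_mem _, Or.inr (by rw [map_one, mul_one])⟩
  have hjA : j ∈ A := (hAmem j).mpr ⟨t, htT, Or.inl rfl⟩
  have hvx : v ∈ Γ := hmemΓ.mpr hc.symm
  have hjx : j ∈ Γ := (Subgroup.mem_inf.mp hjA).1
  have hcardA : Nat.card A = q + 1 := card_of v hv1 hvv hc
  have heq : ∀ w ∈ A, w ≠ 1 → w * w = 1 → ∀ c : G, c ∈ Γ → c * w = w * c → c ∈ A := by
    intro w hwA hw1 hww c hcΓ hcw
    have hwx : x * w = w * x := (hmemΓ.mp (Subgroup.mem_inf.mp hwA).1).symm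
    have h1 := card_of w hw1 hww hwx
    have hle : A ≤ (Γ ⊓ Subgroup.centralizer ({w} : Set G) : Subgroup G) := by
      intro a ha
      exact ⟨(Subgroup.mem_inf.mp ha).1, Subgroup.mem_centralizer_singleton_iff.mpr (hAc a ha w hwA)⟩
    have h2 := Subgroup.eq_of_le_of_card_ge hle (by rw [h1, hcardA])
    rw [h2]
    exact ⟨hcΓ, Subgroup.mem_centralizer_singleton_iff.mpr hcw⟩
  have hvj1 : v * j ≠ 1 := by
    intro h
    apply hvj
    rw [eq_comm, ← inv_eq_of_mul_eq_one_left hvv]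
    exact (inv_eq_of_mul_eq_one_right h).symm
  have hvjvj : v * j * (v * j) = 1 := by
    have : v * j = j * v := C.comm t
    rw [mul_assoc, ← mul_assoc j, ← this, mul_assoc, hjj, mul_one, hvv]
  -- apply the abstract lemma in `Γ`
  have hmain := klein_cent (Γ := Γ) (A.subgroupOf Γ)
    (fun a ha b hb => Subtype.ext (hAc a ha b hb)) (v := ⟨v, hvx⟩) (j := ⟨j, hjx⟩) hvA hjA
    (fun h => hv1 (congrArg Subtype.val h)) (fun h => hj1 (congrArg Subtype.val h))
    (fun h => hvj (congrArg Subtype.val h)) (Subtype.ext hvv) (Subtype.ext hjj)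
    (D.three_free hx1 hn3 hcop)
    (by
      rw [Nat.card_congr (Subgroup.subgroupOfEquivOfLe (show A ≤ Γ from inf_le_left)).toEquiv, hcardA]
      have := D.q_mod
      omega)
    (by
      intro S a ha b hb
      have : Fact (Nat.Prime 2) := ⟨Nat.prime_two⟩
      obtain ⟨S', hS'⟩ := (S.isPGroup'.map Γ.subtype).exists_le_sylow
      exact Subtype.ext (D.syl_comm S' (hS' ⟨a, ha, rfl⟩) (hS' ⟨b, hb, rfl⟩)))
    (fun c hc => heq v hvA hv1 hvv c c.2 (congrArg Subtype.val hc))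
    (fun c hc => heq j hjA hj1 hjj c c.2 (congrArg Subtype.val hc))
    (fun c hc => heq (v * j) (mul_mem hvA hjA) hvj1 hvjvj c c.2 (congrArg Subtype.val hc))
    ⟨c, hmemΓ.mpr hcx⟩
  have h5 : c ∈ A := hmain
  exact Subgroup.mem_centralizer_singleton_iff.mp (Subgroup.mem_inf.mp h5).2

/-- an element of odd prime order dividing `q + 1` commutes with an involution -/
theorem exists_inv (D : RD G K m) {x : G} {p : ℕ} (hp : p.Prime) (hp2 : p ≠ 2) (hx : orderOf x = p) (hpq : p ∣ q + 1) :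
    ∃ v : G, v ≠ 1 ∧ v * v = 1 ∧ x * v = v * x := by
  haveI : Fact p.Prime := ⟨hp⟩
  have hodd : Odd p := hp.odd_of_ne_two hp2
  obtain ⟨hcop, hn3⟩ := D.cop_sub hodd hpq
  have hidx : ¬ p ∣ (Subgroup.centralizer ({D.i} : Set G)).index := by
    have h1 := (Subgroup.centralizer ({D.i} : Set G)).card_mul_index
    rw [D.card_cent D.i_ne D.i_sq, D.card_G] at h1
    have h2 : (Subgroup.centralizer ({D.i} : Set G)).index = q ^ 2 * (q ^ 2 - q + 1) := by
      have h3 := D.card_inv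
      have h4 : 0 < q * (q ^ 2 - 1) := by
        have h5 := D.q_ge
        have : 27 ^ 2 ≤ q ^ 2 := Nat.pow_le_pow_left h5 2
        have : 0 < q ^ 2 - 1 := by omega
        positivity
      apply Nat.eq_of_mul_eq_mul_left h4
      rw [h1]
      have hq := D.q_ge
      obtain ⟨k, hk⟩ : ∃ k, q = k + 1 := ⟨q - 1, by omega⟩
      rw [hk]
      have e1 : k + 1 - 1 = k := by omega
      have e2 : (k + 1) ^ 2 - 1 = k * (k + 2) := by
        have : (k + 1) ^ 2 = k * (k + 2) + 1 := by ring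
        rw [this]; rfl
      have e3 : (k + 1) ^ 2 - (k + 1) + 1 = k ^ 2 + k + 1 := by
        have : (k + 1) ^ 2 = (k ^ 2 + k) + (k + 1) := by ring
        rw [this, Nat.add_sub_cancel]
      rw [e1, e2, e3]; ring
    rw [h2]
    intro hdv
    have hpq' : ¬ p ∣ q := by
      intro h
      have := (Nat.dvd_add_right h).mp hpq
      exact hp.one_lt.ne' (Nat.dvd_one.mp this)
    rcases hp.dvd_mul.mp hdv with h | h
    · exact hpq' (hp.dvd_of_dvd_pow h)
    · apply hn3
      -- `q² - q + 1 ≡ 3`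
      have h5 : q ^ 2 - q + 1 + 3 * q = (q + 1) ^ 2 := by
        have : q ≤ q ^ 2 := by have := D.q_ge; nlinarith
        zify [this]; ring
      have h6 : p ∣ (q + 1) ^ 2 := dvd_pow hpq (by norm_num)
      rw [← h5] at h6
      have h7 := (Nat.dvd_add_right h).mp h6
      rcases hp.dvd_mul.mp h7 with h8 | h8
      · rw [(Nat.prime_dvd_prime_iff_eq hp Nat.prime_three).mp h8]
      · exact absurd h8 hpq'
  have hx' : IsPGroup p (Subgroup.zpowers x) := IsPGroup.of_card (n := 1) (by rw [Nat.card_zpowers, hx, pow_one])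
  obtain ⟨g, hg⟩ := conj_into _ hidx hx'
  have h1 := Subgroup.mem_centralizer_singleton_iff.mp (hg x (Subgroup.mem_zpowers x))
  refine ⟨g⁻¹ * D.i * g, ?_, ?_, ?_⟩
  · intro h
    apply D.i_ne
    have : D.i = g * (g⁻¹ * D.i * g) * g⁻¹ := by group
    rw [this, h]; group
  · have : g⁻¹ * D.i * g * (g⁻¹ * D.i * g) = g⁻¹ * (D.i * D.i) * g := by group
    rw [this, D.i_sq]; group
  · calc x * (g⁻¹ * D.i * g) = g⁻¹ * (g * x * g⁻¹ * D.i) * g := by group
      _ = g⁻¹ * (D.i * (g * x * g⁻¹)) * g := by rw [h1]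
      _ = _ := by group

end Cfsg.Agent.Lib.ReeA.RD
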