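import Mathlib
import Cfsg.Agent.Lib.ReeH

/-!
Abstract small Ree groups, part I: structure and normalizers of the tori of order `q + 1` (helper18).
-/

set_option autoImplicit false
set_option linter.unusedSectionVars false

namespace Cfsg.Agent.Lib.ReeA.RD

open Cfsg.Agent.Lib.ReePSL Cfsg.Agent.Lib.ReeA Cfsg.Agent.Lib.H53Ree Cfsg.Agent.Lib.H53PSL2 Cfsg.Agent.Lib.ReeB
open Cfsg.Agent.Lib.ReeD Cfsg.Agent.Lib.ReeG

variable {G : Type*} [Group G] [Finite G] {K : Type*} [Field K] [Fintype K] {m : ℕ} (D : RD G K m)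

local notation "q" => Fintype.card K
local notation "PSL2" => Matrix.ProjectiveSpecialLinearGroup (Fin 2) K

/-- a four-group containing `w` is not acted on by a transposition fixing `w` -/
theorem no_swap (D : RD G K m) {w u n : G} (hw1 : w ≠ 1) (hww : w * w = 1) (hu : u * w = w * u) (hn : n * w = w * n) :
    n * u * n⁻¹ ≠ w * u := by
  intro h
  obtain ⟨ι, C, hcov⟩ := D.exists_conf' hw1 hww
  obtain ⟨y, hy⟩ := hcov u hu
  obtain ⟨z, hz⟩ := hcov n hn
  -- `n u n⁻¹` in terms of `u`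
  have h1 : n * u * n⁻¹ = ι (z * y * z⁻¹) ∧ u = ι y ∨ n * u * n⁻¹ = w * ι (z * y * z⁻¹) ∧ u = w * ι y := by
    have hwn : n * w * n⁻¹ = w := by rw [hn, mul_inv_cancel_right]
    have hny : n * ι y * n⁻¹ = ι (z * y * z⁻¹) := by
      rcases hz with hz | hz
      · rw [hz, map_mul, map_mul, map_inv]
      · have h5 : Commute w (ι (z * y * z⁻¹)) := C.comm _
        calc n * ι y * n⁻¹ = w * (ι z * ι y * (ι z)⁻¹) * w⁻¹ := by rw [hz]; group
          _ = w * ι (z * y * z⁻¹) * w⁻¹ := by rw [map_mul, map_mul, map_inv]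
          _ = _ := by rw [h5.eq, mul_inv_cancel_right]
    rcases hy with hy | hy
    · left; exact ⟨by rw [hy, hny], hy⟩
    · right
      refine ⟨?_, hy⟩
      calc n * u * n⁻¹ = (n * w * n⁻¹) * (n * ι y * n⁻¹) := by rw [hy]; group
        _ = _ := by rw [hwn, hny]
  rcases h1 with ⟨h1, h2⟩ | ⟨h1, h2⟩
  · rw [h1, h2] at h
    apply C.nt (z * y * z⁻¹ * y⁻¹)
    rw [map_mul ι _ y⁻¹, map_inv ι y, h, mul_inv_cancel_right]
  · rw [h1, h2] at h
    have h3 : ι (z * y * z⁻¹) = w * ι y := mul_left_cancel h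
    apply C.nt (z * y * z⁻¹ * y⁻¹)
    rw [map_mul ι _ y⁻¹, map_inv ι y, h3, mul_inv_cancel_right]

/-- structure of the centralizer of an element of odd order `> 1` dividing `q + 1` -/
theorem E_struct (D : RD G K m) {x : G} (hx1 : x ≠ 1) (hxo : Odd (orderOf x)) (hxq : orderOf x ∣ q + 1) :
    ∃ (v : G) (ι : PSL2 →* G) (T : Subgroup PSL2), Conf v ι ∧ IsCyclic T ∧ 2 * Nat.card T = q + 1 ∧ (∃ y ∈ T, ι y = x) ∧
      ∀ c, c * x = x * c ↔ ∃ t ∈ T, c = ι t ∨ c = v * ι t := by
  obtain ⟨p, hp, hpx⟩ := Nat.exists_prime_and_dvd (show orderOf x ≠ 1 from fun h => hx1 (orderOf_eq_one_iff.mp h))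
  have hp2 : p ≠ 2 := by
    rintro rfl
    exact (Nat.not_even_iff_odd.mpr hxo) (even_iff_two_dvd.mpr hpx)
  have hpos : 0 < orderOf x := orderOf_pos x
  have hox : orderOf (x ^ (orderOf x / p)) = p := orderOf_pow_orderOf_div hpos.ne' hpx
  obtain ⟨v, hv1, hvv, hc⟩ := D.exists_inv hp hp2 hox (hpx.trans hxq)
  have hx' : x ^ (orderOf x / p) ≠ 1 := by
    intro h
    rw [h, orderOf_one] at hox
    exact hp.one_lt.ne hox
  have hcx : x * v = v * x := by
    refine D.cent_le hx' (by rw [hox]; exact hp.odd_of_ne_two hp2) (by rw [hox]; exact hpx.trans hxq) hv1 hvv hc ?_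
    exact ((Commute.refl x).pow_right _).eq
  obtain ⟨ι, T, C, hT, hcT, hy, hiff⟩ := D.tor1 hx1 hxo hxq hv1 hvv hcx
  refine ⟨v, ι, T, C, hT, hcT, hy, fun c => ?_⟩
  rw [← hiff]
  exact ⟨fun h => ⟨h, D.cent_le hx1 hxo hxq hv1 hvv hcx h⟩, fun h => h.1⟩

/-- the set of elements of odd order `> 1` dividing `q + 1` -/
def IsE (_D : RD G K m) (x : G) : Prop := x ≠ 1 ∧ Odd (orderOf x) ∧ orderOf x ∣ q + 1

theorem E_comm {x a b : G} (hx : D.IsE x) (ha : a * x = x * a) (hb : b * x = x * b) : a * b = b * a := by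
  obtain ⟨v, ι, T, C, hT, hcT, hy, hiff⟩ := D.E_struct hx.1 hx.2.1 hx.2.2
  have hTc : ∀ a ∈ T, ∀ b ∈ T, a * b = b * a := by
    intro a ha b hb
    have := IsCyclic.isMulCommutative (α := T)
    exact congrArg Subtype.val (this.is_comm.comm ⟨a, ha⟩ ⟨b, hb⟩)
  obtain ⟨s, hs, ha'⟩ := (hiff a).mp ha
  obtain ⟨r, hr, hb'⟩ := (hiff b).mp hb
  have h1 : Commute (ι s) (ι r) := by
    show ι s * ι r = ι r * ι s
    rw [← map_mul, hTc s hs r hr, map_mul]
  have h2 : Commute v (ι s) := C.comm s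
  have h3 : Commute v (ι r) := C.comm r
  rcases ha' with rfl | rfl <;> rcases hb' with rfl | rfl
  · exact h1.eq
  · exact (h2.symm.mul_right h1).eq
  · exact (h3.mul_left h1).eq
  · exact (((Commute.refl v).mul_left h2.symm).mul_right (h3.mul_left h1)).eq

theorem E_card {x : G} (hx : D.IsE x) : Nat.card (Subgroup.centralizer ({x} : Set G)) = q + 1 := by
  obtain ⟨v, ι, T, C, hT, hcT, hy, hiff⟩ := D.E_struct hx.1 hx.2.1 hx.2.2
  rw [← hcT]
  apply tor1_card C
  intro c
  rw [← hiff, Subgroup.mem_centralizer_singleton_iff]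

/-- all elements of odd order of the torus have the same centralizer -/
theorem E_cent {x y : G} (hx : D.IsE x) (hy : y * x = x * y) (hy1 : y ≠ 1) (hyo : Odd (orderOf y)) :
    D.IsE y ∧ Subgroup.centralizer ({y} : Set G) = Subgroup.centralizer ({x} : Set G) := by
  have hyE : D.IsE y := by
    refine ⟨hy1, hyo, ?_⟩
    rw [← D.E_card hx]
    exact Subgroup.orderOf_dvd_natCard _ (Subgroup.mem_centralizer_singleton_iff.mpr hy)
  refine ⟨hyE, (Subgroup.eq_of_le_of_card_ge ?_ (by rw [D.E_card hx, D.E_card hyE])).symm⟩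
  intro c hc
  rw [Subgroup.mem_centralizer_singleton_iff] at hc ⊢
  exact D.E_comm hx hc hy

/-- the order of the centralizer of the four-group, abstractly: two commuting involutions in `C(v)` -/
theorem card_cent_four (D : RD G K m) {v j : G} (hv1 : v ≠ 1) (hvv : v * v = 1) (hj1 : j ≠ 1) (hjj : j * j = 1) (hvj : v ≠ j)
    (hc : v * j = j * v) :
    Nat.card (Subgroup.centralizer ({v} : Set G) ⊓ Subgroup.centralizer ({j} : Set G) : Subgroup G) = 2 * (q + 1) := by
  haveI : Fact (Nat.Prime 3) := ⟨Nat.prime_three⟩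
  haveI := D.charP
  obtain ⟨ι, C, hcov⟩ := D.exists_conf' hv1 hvv
  -- an element of `L` generating the same group mod `v`
  obtain ⟨y, hy⟩ := hcov j hc.symm
  have hyy : y * y = 1 := by
    apply C.inj
    rw [map_mul, map_one]
    rcases hy with hy | hy
    · rw [← hy, hjj]
    · have e : ι y = v * j := by rw [hy, ← mul_assoc, C.tt, one_mul]
      rw [e, mul_assoc, ← mul_assoc j, ← hc, mul_assoc, hjj, mul_one, hvv]
  have hy1 : y ≠ 1 := by
    rintro rfl
    rcases hy with hy | hy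
    · rw [map_one] at hy; exact hj1 hy
    · rw [map_one, mul_one] at hy; exact hvj hy.symm
  have hoy : orderOf y = 2 := orderOf_eq_prime (by rw [pow_two]; exact hyy) hy1
  obtain ⟨T, N, hTN, hT, hyT, hcT, hcN, hsq, hnorm⟩ := tor 3 (by have := D.q_ge; omega) y hy1 (by rw [hoy]; norm_num)
  rw [D.gcd2] at hcT
  have h2T : 2 ∣ Nat.card T := by
    have h := Subgroup.orderOf_dvd_natCard T hyT
    rwa [hoy] at h
  have hcT' : 2 * Nat.card T = q + 1 := by
    have := D.q_mod
    rcases hcT with h | h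
    · omega
    · exact h
  have hTc : ∀ a ∈ T, ∀ b ∈ T, a * b = b * a := by
    intro a ha b hb
    have := IsCyclic.isMulCommutative (α := T)
    exact congrArg Subtype.val (this.is_comm.comm ⟨a, ha⟩ ⟨b, hb⟩)
  have hN : ∀ z : PSL2, z ∈ N ↔ z * y = y * z := by
    intro z
    constructor
    · intro hz
      by_cases hzT : z ∈ T
      · exact hTc z hzT y hyT
      · have := Cfsg.Agent.Lib.ReePSL.inverts hTN hsq hz hzT hyT
        have e : y⁻¹ = y := inv_eq_of_mul_eq_one_left hyy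
        rw [e] at this
        exact mul_inv_eq_iff_eq_mul.mp this
    · intro hz
      apply hnorm
      rw [hz, mul_inv_cancel_right]
      exact Subgroup.mem_zpowers y
  have hcard := tor1_card (T := N) C (A := Subgroup.centralizer ({v} : Set G) ⊓ Subgroup.centralizer ({j} : Set G)) (by
    intro c
    rw [Subgroup.mem_inf, Subgroup.mem_centralizer_singleton_iff, Subgroup.mem_centralizer_singleton_iff]
    have hcv : ∀ t : PSL2, (ι t * j = j * ι t ↔ t * y = y * t) := by
      intro t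
      have hvt : Commute v (ι t) := C.comm t
      rcases hy with hy | hy
      · rw [hy, ← map_mul, ← map_mul]
        exact ⟨fun h => C.inj h, fun h => by rw [h]⟩
      · rw [hy, ← mul_assoc, ← hvt.eq, mul_assoc, mul_assoc, ← map_mul, ← map_mul]
        exact ⟨fun h => C.inj (mul_left_cancel h), fun h => by rw [h]⟩
    constructor
    · rintro ⟨h1, h2⟩
      obtain ⟨t, ht⟩ := hcov c h1
      refine ⟨t, ?_, ht⟩
      rw [hN, ← hcv]
      rcases ht with ht | ht
      · rw [← ht]; exact h2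
      · have e : ι t = v * c := by rw [ht, ← mul_assoc, C.tt, one_mul]
        rw [e, mul_assoc, h2, ← mul_assoc, hc, mul_assoc]
    · rintro ⟨t, ht, rfl | rfl⟩
      · exact ⟨(C.comm t).symm, (hcv t).mpr ((hN t).mp ht)⟩
      · have h1 := (hcv t).mpr ((hN t).mp ht)
        refine ⟨by rw [mul_assoc, ← C.comm], ?_⟩
        rw [mul_assoc, h1, ← mul_assoc, hc, mul_assoc])
  rw [hcard, hcN]; omega

/-- The four-group of the torus `C(x)`. -/
theorem E_four {x : G} (hx : D.IsE x) : ∃ v j : G, v ≠ 1 ∧ j ≠ 1 ∧ v ≠ j ∧ v * v = 1 ∧ j * j = 1 ∧ v * j = j * v ∧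
    v * x = x * v ∧ j * x = x * j ∧ ∀ c : G, c * x = x * c → c * c = 1 → c = 1 ∨ c = v ∨ c = j ∨ c = v * j := by
  obtain ⟨v, ι, T, C, hT, hcT, hy, hiff⟩ := D.E_struct hx.1 hx.2.1 hx.2.2
  have h2T : 2 ∣ Nat.card T := by have := D.q_mod; omega
  obtain ⟨t, htT, ht1, htt⟩ := cyc_involution hT h2T
  have huniq : ∀ s ∈ T, s * s = 1 → s = 1 ∨ s = t := by
    intro s hs hss
    by_cases hs1 : s = 1
    · exact Or.inl hs1
    · right
      have hc : Nat.card (Subgroup.zpowers (⟨s, hs⟩ : T)) = Nat.card (Subgroup.zpowers (⟨t, htT⟩ : T)) := by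
        rw [Nat.card_zpowers, Nat.card_zpowers, Subgroup.orderOf_mk, Subgroup.orderOf_mk]
        rw [orderOf_eq_prime (p := 2) (by rw [pow_two]; exact hss) hs1, orderOf_eq_prime (p := 2) (by rw [pow_two]; exact htt) ht1]
      haveI := hT
      have he := Cfsg.Agent.Lib.TransferApps.cyclic_subgroup_eq_of_card hc
      have h4 : (⟨s, hs⟩ : T) ∈ Subgroup.zpowers (⟨t, htT⟩ : T) := by rw [← he]; exact Subgroup.mem_zpowers _
      obtain ⟨k, hk⟩ := h4
      have hk' : t ^ k = s := congrArg Subtype.val hk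
      rcases Int.even_or_odd k with ⟨l, rfl⟩ | ⟨l, rfl⟩
      · exfalso
        apply hs1
        rw [← two_mul, zpow_mul] at hk'
        have : t ^ (2 : ℤ) = 1 := by rw [zpow_ofNat, pow_two]; exact htt
        rw [this, one_zpow] at hk'
        exact hk'.symm
      · rw [zpow_add, zpow_mul] at hk'
        have : t ^ (2 : ℤ) = 1 := by rw [zpow_ofNat, pow_two]; exact htt
        rw [this, one_zpow, one_mul, zpow_one] at hk'
        exact hk'.symm
  refine ⟨v, ι t, C.t1, ?_, ?_, C.tt, ?_, C.comm t, ?_, ?_, ?_⟩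
  · intro h; exact ht1 (C.inj (by rw [h, map_one]))
  · intro h; exact C.nt t h.symm
  · rw [← map_mul, htt, map_one]
  · exact (hiff v).mpr ⟨1, one_mem _, Or.inr (by rw [map_one, mul_one])⟩
  · exact (hiff _).mpr ⟨t, htT, Or.inl rfl⟩
  · intro c hc hcc
    obtain ⟨s, hs, hcs⟩ := (hiff c).mp hc
    have hss : s * s = 1 := by
      apply C.inj
      rw [map_mul, map_one]
      rcases hcs with h | h
      · rw [← h, hcc]
      · have e : ι s = v * c := by rw [h, ← mul_assoc, C.tt, one_mul]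
        have hvc : c * v = v * c := by rw [h, mul_assoc, ← C.comm]
        rw [e, mul_assoc, ← mul_assoc c, hvc, mul_assoc, hcc, mul_one, C.tt]
    rcases huniq s hs hss with h | h
    · rw [h] at hcs
      rcases hcs with h | h
      · left; rw [h, map_one]
      · right; left; rw [h, map_one, mul_one]
    · rw [h] at hcs
      rcases hcs with h | h
      · right; right; left; exact h
      · right; right; right; exact h

/-- squares in the torus have odd order -/
theorem E_sq_odd {x : G} (hx : D.IsE x) {c : G} (hc : c * x = x * c) : Odd (orderOf (c * c)) := by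
  obtain ⟨v, ι, T, C, hT, hcT, hy, hiff⟩ := D.E_struct hx.1 hx.2.1 hx.2.2
  obtain ⟨s, hs, hcs⟩ := (hiff c).mp hc
  have e : c * c = ι (s * s) := by
    rw [map_mul]
    rcases hcs with h | h
    · rw [h]
    · rw [h, mul_assoc, ← mul_assoc (ι s), ← C.comm, mul_assoc, ← mul_assoc v v, C.tt, one_mul]
  rw [e, orderOf_injective ι C.inj]
  have h1 : (s * s) ^ ((q + 1) / 4) = 1 := by
    rw [← pow_two, ← pow_mul]
    have : 2 * ((q + 1) / 4) = Nat.card T := by have := D.q_mod; omega
    rw [this]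
    exact orderOf_dvd_iff_pow_eq_one.mp (Subgroup.orderOf_dvd_natCard T hs)
  have h2 := orderOf_dvd_of_pow_eq_one h1
  have h3 : Odd ((q + 1) / 4) := by rw [Nat.odd_iff]; have := D.q_mod; omega
  exact Odd.of_dvd_nat h3 h2

end Cfsg.Agent.Lib.ReeA.RD
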