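import Mathlib
import Cfsg.Agent.Lib.ReeD

/-!
Generic "controlled tori": a cyclic subgroup `Y` of an abelian subgroup `A` such that `A` is the centralizer of every
non-identity element of `Y` (helper18).
-/

set_option autoImplicit false
set_option linter.unusedSectionVars false

namespace Cfsg.Agent.Lib.ReeT

open Cfsg.Agent.Lib.ReeD

/-- controlled tori -/
structure Torus {G : Type*} [Group G] (Y A : Subgroup G) (w : ℕ) : Prop where
  cyc : IsCyclic Y
  le : Y ≤ A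
  comm : ∀ a ∈ A, ∀ b ∈ A, a * b = b * a
  cent : ∀ y ∈ Y, y ≠ 1 → ∀ c : G, c * y = y * c → c ∈ A
  mem : ∀ a ∈ A, a ^ Nat.card Y = 1 → a ∈ Y
  conj : ∀ p : ℕ, p.Prime → p ∣ Nat.card Y → ∀ x : G, orderOf x = p → ∃ g : G, g * x * g⁻¹ ∈ Y
  norm : Nat.card (Subgroup.normalizer (A : Set G)) = w

namespace Torus

variable {G : Type*} [Group G] [Finite G] {Y A : Subgroup G} {w : ℕ} (t : Torus Y A w)

include t

/-- subgroups of `Y` are determined by their orders -/
theorem eq_of_card {Y₀ Y₁ : Subgroup G} (h0 : Y₀ ≤ Y) (h1 : Y₁ ≤ Y) (h : Nat.card Y₀ = Nat.card Y₁) : Y₀ = Y₁ := by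
  haveI := t.cyc
  have h2 : Y₀.subgroupOf Y = Y₁.subgroupOf Y := by
    apply Cfsg.Agent.Lib.TransferApps.cyclic_subgroup_eq_of_card
    rw [Nat.card_congr (Subgroup.subgroupOfEquivOfLe h0).toEquiv, Nat.card_congr (Subgroup.subgroupOfEquivOfLe h1).toEquiv, h]
  have h3 := congrArg (Subgroup.map Y.subtype) h2
  rwa [Subgroup.subgroupOf_map_subtype, Subgroup.subgroupOf_map_subtype, inf_eq_left.mpr h0, inf_eq_left.mpr h1] at h3

theorem pow_card {y : G} (hy : y ∈ Y) : y ^ Nat.card Y = 1 :=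
  orderOf_dvd_iff_pow_eq_one.mp (Subgroup.orderOf_dvd_natCard Y hy)

theorem norm_eq {Y₀ : Subgroup G} (h0 : Y₀ ≤ Y) (hne : Y₀ ≠ ⊥) :
    Subgroup.normalizer (Y₀ : Set G) = Subgroup.normalizer (A : Set G) := by
  apply le_antisymm
  · exact norm_of_cent t.comm t.le t.cent h0 hne
  · intro n hn
    apply mem_normalizer_of_le
    intro s hs
    have h1 : Y₀.map (MulAut.conj n).toMonoidHom ≤ Y := by
      rintro _ ⟨y, hy, rfl⟩
      show n * y * n⁻¹ ∈ Y
      apply t.mem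
      · exact (Subgroup.mem_normalizer_iff.mp hn y).mp (t.le (h0 hy))
      · have : (n * y * n⁻¹) ^ Nat.card Y = n * y ^ Nat.card Y * n⁻¹ := conj_pow
        rw [this, t.pow_card (h0 hy)]; group
    have h2 : Y₀.map (MulAut.conj n).toMonoidHom = Y₀ := by
      apply t.eq_of_card h1 h0
      exact Nat.card_congr (Subgroup.equivMapOfInjective Y₀ _ (MulAut.conj n).injective).toEquiv.symm
    rw [← h2]
    exact ⟨s, hs, rfl⟩

theorem conj_mem {x : G} (hx1 : x ≠ 1) (hx : orderOf x ∣ Nat.card Y) : ∃ g : G, g * x * g⁻¹ ∈ Y := by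
  obtain ⟨p, hp, hpx⟩ := Nat.exists_prime_and_dvd (show orderOf x ≠ 1 from fun h => hx1 (orderOf_eq_one_iff.mp h))
  have hpos : 0 < orderOf x := orderOf_pos x
  have hox : orderOf (x ^ (orderOf x / p)) = p := orderOf_pow_orderOf_div hpos.ne' hpx
  obtain ⟨g, hg⟩ := t.conj p hp (hpx.trans hx) _ hox
  refine ⟨g, t.mem _ ?_ ?_⟩
  · refine t.cent _ hg ?_ _ ?_
    · intro h
      have : x ^ (orderOf x / p) = g⁻¹ * (g * x ^ (orderOf x / p) * g⁻¹) * g := by group
      rw [h, mul_one, inv_mul_cancel] at this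
      rw [this, orderOf_one] at hox
      exact hp.one_lt.ne hox
    · have : x * x ^ (orderOf x / p) = x ^ (orderOf x / p) * x := ((Commute.refl x).pow_right _).eq
      calc g * x * g⁻¹ * (g * x ^ (orderOf x / p) * g⁻¹) = g * (x * x ^ (orderOf x / p)) * g⁻¹ := by group
        _ = g * (x ^ (orderOf x / p) * x) * g⁻¹ := by rw [this]
        _ = _ := by group
  · have : (g * x * g⁻¹) ^ Nat.card Y = g * x ^ Nat.card Y * g⁻¹ := conj_pow
    rw [this, orderOf_dvd_iff_pow_eq_one.mp hx]; group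

/-- abelian subgroups of order dividing `|Y|` are conjugate into `Y` -/
theorem conj_sub {B : Subgroup G} (hB : ∀ a ∈ B, ∀ b ∈ B, a * b = b * a) (hcard : Nat.card B ∣ Nat.card Y) :
    ∃ g : G, B.map (MulAut.conj g).toMonoidHom ≤ Y := by
  by_cases hb : B = ⊥
  · refine ⟨1, ?_⟩
    rw [hb, Subgroup.map_bot]; exact bot_le
  · obtain ⟨⟨x, hx⟩, hx1'⟩ := (Subgroup.ne_bot_iff_exists_ne_one).mp hb
    have hx1 : x ≠ 1 := fun h => hx1' (Subtype.ext h)
    obtain ⟨g, hg⟩ := t.conj_mem hx1 ((Subgroup.orderOf_dvd_natCard B hx).trans hcard)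
    refine ⟨g, ?_⟩
    rintro _ ⟨b, hb, rfl⟩
    show g * b * g⁻¹ ∈ Y
    apply t.mem
    · refine t.cent _ hg (fun h => hx1 (by
        have : x = g⁻¹ * (g * x * g⁻¹) * g := by group
        rw [this, h]; group)) _ ?_
      calc g * b * g⁻¹ * (g * x * g⁻¹) = g * (b * x) * g⁻¹ := by group
        _ = g * (x * b) * g⁻¹ := by rw [hB b hb x hx]
        _ = _ := by group
    · have : (g * b * g⁻¹) ^ Nat.card Y = g * b ^ Nat.card Y * g⁻¹ := conj_pow
      rw [this, orderOf_dvd_iff_pow_eq_one.mp ((Subgroup.orderOf_dvd_natCard B hb).trans hcard)]; group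

theorem conj_sub_eq {B C : Subgroup G} (hB : ∀ a ∈ B, ∀ b ∈ B, a * b = b * a) (hC : ∀ a ∈ C, ∀ b ∈ C, a * b = b * a)
    (hBC : Nat.card B = Nat.card C) (hcard : Nat.card B ∣ Nat.card Y) :
    ∃ g : G, C = B.map (MulAut.conj g).toMonoidHom := by
  obtain ⟨g, hg⟩ := t.conj_sub hB hcard
  obtain ⟨h, hh⟩ := t.conj_sub hC (hBC ▸ hcard)
  have h1 : C.map (MulAut.conj h).toMonoidHom = B.map (MulAut.conj g).toMonoidHom := by
    apply t.eq_of_card hh hg
    rw [Nat.card_congr (Subgroup.equivMapOfInjective C _ (MulAut.conj h).injective).toEquiv.symm,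
      Nat.card_congr (Subgroup.equivMapOfInjective B _ (MulAut.conj g).injective).toEquiv.symm, hBC]
  refine ⟨h⁻¹ * g, ?_⟩
  ext c
  constructor
  · intro hc
    have h2 : h * c * h⁻¹ ∈ C.map (MulAut.conj h).toMonoidHom := ⟨c, hc, rfl⟩
    rw [h1] at h2
    obtain ⟨b, hb, hb2⟩ := h2
    have hb3 : g * b * g⁻¹ = h * c * h⁻¹ := hb2
    refine ⟨b, hb, ?_⟩
    show h⁻¹ * g * b * (h⁻¹ * g)⁻¹ = c
    calc h⁻¹ * g * b * (h⁻¹ * g)⁻¹ = h⁻¹ * (g * b * g⁻¹) * h := by group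
      _ = h⁻¹ * (h * c * h⁻¹) * h := by rw [hb3]
      _ = c := by group
  · rintro ⟨b, hb, rfl⟩
    show h⁻¹ * g * b * (h⁻¹ * g)⁻¹ ∈ C
    have h2 : g * b * g⁻¹ ∈ B.map (MulAut.conj g).toMonoidHom := ⟨b, hb, rfl⟩
    rw [← h1] at h2
    obtain ⟨c, hc, hc2⟩ := h2
    have hc3 : h * c * h⁻¹ = g * b * g⁻¹ := hc2
    have : h⁻¹ * g * b * (h⁻¹ * g)⁻¹ = c := by
      calc h⁻¹ * g * b * (h⁻¹ * g)⁻¹ = h⁻¹ * (g * b * g⁻¹) * h := by group
        _ = h⁻¹ * (h * c * h⁻¹) * h := by rw [hc3]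
        _ = c := by group
    rw [this]; exact hc

/-- counting elements of order `i` -/
theorem count {i : ℕ} (hi : 1 < i) (hiY : i ∣ Nat.card Y) :
    Nat.card {g : G // orderOf g = i} * w = Nat.card G * Nat.totient i := by
  have hcond : ∀ z ∈ A, orderOf z = i → z ∈ Y := by
    intro z hz hzi
    apply t.mem z hz
    exact orderOf_dvd_iff_pow_eq_one.mp (hzi ▸ hiY)
  have h1 := card_conj A t.comm (fun g => orderOf g = i) (by
      intro g x hx
      have := (MulAut.conj g).orderOf_eq x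
      rw [MulAut.conj_apply] at this
      rw [this]; exact hx) (by
      intro x hx
      obtain ⟨g, hg⟩ := t.conj_mem (x := x) (by rintro rfl; rw [orderOf_one] at hx; omega) (hx ▸ hiY)
      exact ⟨g, t.le hg⟩) (by
      intro x hxA hx c hc
      exact t.cent x (hcond x hxA hx) (by rintro rfl; rw [orderOf_one] at hx; omega) c hc)
  rw [t.norm] at h1
  rw [h1]
  congr 1
  haveI := t.cyc
  classical
  haveI : Fintype Y := Fintype.ofFinite Y
  have h2 : Nat.card {x : A // orderOf (x : G) = i} = Nat.card {y : Y // orderOf y = i} := by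
    refine Nat.card_congr ⟨fun x => ⟨⟨x.1, hcond x.1 x.1.2 x.2⟩, ?_⟩, fun y => ⟨⟨y.1, t.le y.1.2⟩, ?_⟩, ?_, ?_⟩
    · rw [Subgroup.orderOf_mk]; exact x.2
    · exact (Subgroup.orderOf_coe y.1).trans y.2
    · intro x; rfl
    · intro x; rfl
  rw [h2, Nat.card_eq_fintype_card, Fintype.card_subtype]
  exact IsCyclic.card_orderOf_eq_totient (by rwa [Nat.card_eq_fintype_card] at hiY)

end Torus

end Cfsg.Agent.Lib.ReeT
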