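import Mathlib
import Cfsg.Agent.Lib.ReeI
import Cfsg.Agent.Lib.ReeT

/-!
Abstract small Ree groups, part J: the tori `H` and `C(x)`, `|x|` odd dividing `q + 1` (helper18).
-/

set_option autoImplicit false
set_option linter.unusedSectionVars false

namespace Cfsg.Agent.Lib.ReeA.RD

open Cfsg.Agent.Lib.ReePSL Cfsg.Agent.Lib.ReeA Cfsg.Agent.Lib.H53Ree Cfsg.Agent.Lib.H53PSL2 Cfsg.Agent.Lib.ReeB
open Cfsg.Agent.Lib.ReeD Cfsg.Agent.Lib.ReeG Cfsg.Agent.Lib.ReeT

variable {G : Type*} [Group G] [Finite G] {K : Type*} [Field K] [Fintype K] {m : ℕ} (D : RD G K m)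

local notation "q" => Fintype.card K
local notation "PSL2" => Matrix.ProjectiveSpecialLinearGroup (Fin 2) K

/-- conjugate Sylow subgroups: fusion of `v` to `j` in the normalizer of the torus -/
theorem E_fuse {x : G} (hx : D.IsE x) {v j : G} (hv1 : v ≠ 1) (hj1 : j ≠ 1) (hvv : v * v = 1) (hjj : j * j = 1)
    (hvx : v * x = x * v) (hjx : j * x = x * j) :
    ∃ n ∈ Subgroup.normalizer (Subgroup.centralizer ({x} : Set G) : Set G), n * v * n⁻¹ = j := by
  obtain ⟨p, hp, hpx⟩ := Nat.exists_prime_and_dvd (show orderOf x ≠ 1 from fun h => hx.1 (orderOf_eq_one_iff.mp h))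
  haveI : Fact p.Prime := ⟨hp⟩
  have hp2 : p ≠ 2 := by
    rintro rfl
    exact (Nat.not_even_iff_odd.mpr hx.2.1) (even_iff_two_dvd.mpr hpx)
  set A := Subgroup.centralizer ({x} : Set G) with hA
  have hcA : Nat.card A = q + 1 := D.E_card hx
  have hpq : p ∣ q + 1 := hpx.trans hx.2.2
  have hidx : ¬ p ∣ A.index := by
    have h1 := A.card_mul_index
    rw [hcA, D.card_G] at h1
    have hq := D.q_ge
    have h2 : q ^ 3 * (q - 1) * (q ^ 3 + 1) = (q + 1) * (q ^ 3 * (q - 1) * (q ^ 2 - q + 1)) := by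
      have : q ≤ q ^ 2 := by nlinarith
      have h1 : 1 ≤ q := by omega
      zify [this, h1]; ring
    rw [h2] at h1
    have h3 := Nat.eq_of_mul_eq_mul_left (by omega) h1
    rw [h3]
    obtain ⟨hcop, hn3⟩ := D.cop_sub (hp.odd_of_ne_two hp2) hpq
    have hpq' : ¬ p ∣ q := by
      intro h
      have := (Nat.dvd_add_right h).mp hpq
      exact hp.one_lt.ne' (Nat.dvd_one.mp this)
    intro hdv
    rcases hp.dvd_mul.mp hdv with h | h
    · rcases hp.dvd_mul.mp h with h | h
      · exact hpq' (hp.dvd_of_dvd_pow h)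
      · exact ((Nat.Prime.coprime_iff_not_dvd hp).mp hcop) h
    · apply hn3
      have h5 : q ^ 2 - q + 1 + 3 * q = (q + 1) ^ 2 := by
        have : q ≤ q ^ 2 := by nlinarith
        zify [this]; ring
      have h6 : p ∣ (q + 1) ^ 2 := dvd_pow hpq (by norm_num)
      rw [← h5] at h6
      have h7 := (Nat.dvd_add_right h).mp h6
      rcases hp.dvd_mul.mp h7 with h8 | h8
      · rw [(Nat.prime_dvd_prime_iff_eq hp Nat.prime_three).mp h8]
      · exact absurd h8 hpq'
  obtain ⟨PA⟩ : Nonempty (Sylow p A) := inferInstance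
  have h1 : IsPGroup p ((PA : Subgroup A).map A.subtype) := PA.isPGroup'.map _
  have h2 : ¬ p ∣ ((PA : Subgroup A).map A.subtype).index := by
    rw [Subgroup.index_map_subtype]
    exact Nat.Prime.not_dvd_mul Fact.out PA.not_dvd_index hidx
  set P : Sylow p G := h1.toSylow h2 with hP
  have hPA : (P : Subgroup G) ≤ A := by
    intro y hy
    obtain ⟨z, -, hz⟩ := hy
    rw [← hz]; exact z.2
  have hmemA : ∀ {c : G}, c ∈ A ↔ c * x = x * c := Subgroup.mem_centralizer_singleton_iff
  -- a non-trivial element of `P`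
  have hPne : (P : Subgroup G) ≠ ⊥ := by
    intro h
    have h3 : p ∣ Nat.card G := hpx.trans (orderOf_dvd_natCard x)
    have h4 := P.card_eq_multiplicity
    rw [h, Subgroup.card_bot] at h4
    have h5 : 0 < (Nat.card G).factorization p := hp.factorization_pos_of_dvd Nat.card_pos.ne' h3
    have h6 := Nat.one_lt_pow h5.ne' hp.one_lt
    omega
  obtain ⟨g, hg1⟩ := D.inv_conj hv1 hvv
  obtain ⟨g', hg2⟩ := D.inv_conj hj1 hjj
  set k := g' * g⁻¹ with hk
  have hkv : k * v * k⁻¹ = j := by
    rw [hk, ← hg1, ← hg2]; group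
  -- both `P` and `kPk⁻¹` centralize `j`
  have hP1 : (P : Subgroup G) ≤ Subgroup.centralizer ({j} : Set G) := by
    intro y hy
    rw [Subgroup.mem_centralizer_singleton_iff]
    exact D.E_comm hx (hmemA.mp (hPA hy)) hjx
  have hP2 : ((k • P : Sylow p G) : Subgroup G) ≤ Subgroup.centralizer ({j} : Set G) := by
    intro y hy
    rw [Lib.H32Basic.mem_sylow_smul_iff] at hy
    rw [Subgroup.mem_centralizer_singleton_iff]
    have h3 := D.E_comm hx (hmemA.mp (hPA hy)) hvx
    calc y * j = k * ((k⁻¹ * y * k) * v) * k⁻¹ := by rw [← hkv]; group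
      _ = k * (v * (k⁻¹ * y * k)) * k⁻¹ := by rw [h3]
      _ = (k * v * k⁻¹) * y := by group
      _ = _ := by rw [hkv]
  obtain ⟨c, hc⟩ := MulAction.exists_smul_eq (Subgroup.centralizer ({j} : Set G)) ((k • P).subtype hP2) (P.subtype hP1)
  have hc' : (c : G) * j = j * c := Subgroup.mem_centralizer_singleton_iff.mp c.2
  have hck : ∀ y ∈ (P : Subgroup G), (c * k : G) * y * (c * k : G)⁻¹ ∈ (P : Subgroup G) := by
    intro y hy
    have h3 : k * y * k⁻¹ ∈ ((k • P : Sylow p G) : Subgroup G) := by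
      rw [Lib.H32Basic.mem_sylow_smul_iff]
      have : k⁻¹ * (k * y * k⁻¹) * k = y := by group
      rw [this]; exact hy
    have h4 : c * (⟨k * y * k⁻¹, hP2 h3⟩ : Subgroup.centralizer ({j} : Set G)) * c⁻¹ ∈
        ((c • (k • P).subtype hP2 : Sylow p _) : Subgroup (Subgroup.centralizer ({j} : Set G))) := by
      rw [Lib.H32Basic.mem_sylow_smul_iff]
      have : c⁻¹ * (c * (⟨k * y * k⁻¹, hP2 h3⟩ : Subgroup.centralizer ({j} : Set G)) * c⁻¹) * c =
        ⟨k * y * k⁻¹, hP2 h3⟩ := by group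
      rw [this]; exact h3
    rw [hc] at h4
    have h5 : (c : G) * (k * y * k⁻¹) * (c : G)⁻¹ ∈ (P : Subgroup G) := h4
    have : (c * k : G) * y * (c * k : G)⁻¹ = (c : G) * (k * y * k⁻¹) * (c : G)⁻¹ := by group
    rw [this]; exact h5
  refine ⟨c * k, ?_, ?_⟩
  · have hn : (c * k : G) ∈ Subgroup.normalizer ((P : Subgroup G) : Set G) := mem_normalizer_of_le hck
    refine norm_of_cent (T := A) (A := (P : Subgroup G)) (fun a ha b hb => D.E_comm hx (hmemA.mp ha) (hmemA.mp hb))
      hPA ?_ le_rfl hPne hn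
    intro y hy hy1 c hcy
    have hyo : Odd (orderOf y) := by
      obtain ⟨l, hl⟩ := P.isPGroup' ⟨y, hy⟩
      have hl' : y ^ p ^ l = 1 := congrArg Subtype.val hl
      exact Odd.of_dvd_nat ((hp.odd_of_ne_two hp2).pow) (orderOf_dvd_of_pow_eq_one hl')
    have h6 := (D.E_cent hx (hmemA.mp (hPA hy)) hy1 hyo).2
    rw [hA, ← h6]
    exact Subgroup.mem_centralizer_singleton_iff.mpr hcy
  · have : (c * k : G) * v * (c * k : G)⁻¹ = c * (k * v * k⁻¹) * (c : G)⁻¹ := by group
    rw [this, hkv, hc', mul_inv_cancel_right]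

/-- the normalizer of the torus has order `6 (q + 1)` -/
theorem E_card_norm {x : G} (hx : D.IsE x) :
    Nat.card (Subgroup.normalizer (Subgroup.centralizer ({x} : Set G) : Set G)) = 6 * (q + 1) := by
  classical
  obtain ⟨v, j, hv1, hj1, hvj, hvv, hjj, hcom, hvx, hjx, hfour⟩ := D.E_four hx
  set A := Subgroup.centralizer ({x} : Set G) with hA
  set N := Subgroup.normalizer (A : Set G) with hN
  have hmemA : ∀ {c : G}, c ∈ A ↔ c * x = x * c := Subgroup.mem_centralizer_singleton_iff
  have hNconj : ∀ n ∈ N, ∀ a ∈ A, n * a * n⁻¹ ∈ A := fun n hn a ha => (Subgroup.mem_normalizer_iff.mp hn a).mp ha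
  have hvj1 : v * j ≠ 1 := by
    intro h
    apply hvj
    rw [eq_comm, ← inv_eq_of_mul_eq_one_left hvv]
    exact (inv_eq_of_mul_eq_one_right h).symm
  have hvA : v ∈ A := hmemA.mpr hvx
  have hjA : j ∈ A := hmemA.mpr hjx
  -- images of involutions
  have himg : ∀ n ∈ N, ∀ u ∈ A, u ≠ 1 → u * u = 1 → n * u * n⁻¹ = v ∨ n * u * n⁻¹ = j ∨ n * u * n⁻¹ = v * j := by
    intro n hn u hu hu1 huu
    have h1 := hNconj n hn u hu
    have h2 : n * u * n⁻¹ * (n * u * n⁻¹) = 1 := by
      have : n * u * n⁻¹ * (n * u * n⁻¹) = n * (u * u) * n⁻¹ := by group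
      rw [this, huu]; group
    rcases hfour _ (hmemA.mp h1) h2 with h | h | h | h
    · exfalso; apply hu1
      have : u = n⁻¹ * (n * u * n⁻¹) * n := by group
      rw [this, h]; group
    · exact Or.inl h
    · exact Or.inr (Or.inl h)
    · exact Or.inr (Or.inr h)
  obtain ⟨n, hn, hnv⟩ := D.E_fuse hx hv1 hj1 hvv hjj hvx hjx
  have hcard := Lib.InvAct.card_conj_orbit N v
  -- orbit
  have horb : {w : G | ∃ k ∈ N, k * v * k⁻¹ = w} = {v, j, v * j} := by
    ext w
    constructor
    · rintro ⟨k, hk, rfl⟩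
      rcases himg k hk v hvA hv1 hvv with h | h | h
      · rw [h]; simp
      · rw [h]; simp
      · rw [h]; simp
    · rintro (rfl | rfl | rfl)
      · exact ⟨1, one_mem _, by group⟩
      · exact ⟨n, hn, hnv⟩
      · rcases himg n hn j hjA hj1 hjj with h | h | h
        · exfalso
          -- n swaps v and j
          have h1 : n * (v * j) = (v * j) * n := by
            have : n * (v * j) * n⁻¹ = v * j := by
              calc n * (v * j) * n⁻¹ = (n * v * n⁻¹) * (n * j * n⁻¹) := by group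
                _ = v * j := by rw [hnv, h, hcom]
            exact mul_inv_eq_iff_eq_mul.mp this
          have hvjvj : v * j * (v * j) = 1 := by
            rw [mul_assoc, ← mul_assoc j, ← hcom, mul_assoc, hjj, mul_one, hvv]
          refine D.no_swap (w := v * j) (u := v) (n := n) hvj1 hvjvj ?_ h1 ?_
          · rw [← mul_assoc, hvv, one_mul, hcom, mul_assoc, hvv, mul_one]
          · rw [hnv, hcom, mul_assoc, hvv, mul_one]
        · exfalso
          have h2 : n * v * n⁻¹ = n * j * n⁻¹ := by rw [hnv, h]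
          exact hvj (mul_left_cancel (mul_right_cancel h2))
        · refine ⟨n * n, mul_mem hn hn, ?_⟩
          calc n * n * v * (n * n)⁻¹ = n * (n * v * n⁻¹) * n⁻¹ := by group
            _ = _ := by rw [hnv, h]
  have hstab : N ⊓ Subgroup.centralizer ({v} : Set G) = Subgroup.centralizer ({v} : Set G) ⊓ Subgroup.centralizer ({j} : Set G) := by
    apply le_antisymm
    · rintro k ⟨hk, hkv⟩
      refine ⟨hkv, ?_⟩
      have hkv' := Subgroup.mem_centralizer_singleton_iff.mp hkv
      show k ∈ Subgroup.centralizer ({j} : Set G)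
      rw [Subgroup.mem_centralizer_singleton_iff]
      apply mul_inv_eq_iff_eq_mul.mp
      rcases himg k hk j hjA hj1 hjj with h | h | h
      · exfalso
        have h2 : k * v * k⁻¹ = k * j * k⁻¹ := by rw [h, hkv', mul_inv_cancel_right]
        exact hvj (mul_left_cancel (mul_right_cancel h2))
      · exact h
      · exact absurd h (D.no_swap hv1 hvv hcom.symm hkv')
    · have hAle : A ≤ Subgroup.centralizer ({v} : Set G) ⊓ Subgroup.centralizer ({j} : Set G) := by
        intro a ha
        exact ⟨Subgroup.mem_centralizer_singleton_iff.mpr (D.E_comm hx (hmemA.mp ha) hvx),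
          Subgroup.mem_centralizer_singleton_iff.mpr (D.E_comm hx (hmemA.mp ha) hjx)⟩
      set CV := (Subgroup.centralizer ({v} : Set G) ⊓ Subgroup.centralizer ({j} : Set G) : Subgroup G) with hCV
      have hidx : (A.subgroupOf CV).index = 2 := by
        have h3 := (A.subgroupOf CV).card_mul_index
        rw [Nat.card_congr (Subgroup.subgroupOfEquivOfLe hAle).toEquiv, D.E_card hx,
          D.card_cent_four hv1 hvv hj1 hjj hvj hcom] at h3
        have := D.q_ge
        nlinarith
      have hnorm : (A.subgroupOf CV).Normal := Subgroup.normal_of_index_eq_two hidx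
      intro k hk
      refine ⟨?_, hk.1⟩
      apply mem_normalizer_of_le
      intro a ha
      have := hnorm.conj_mem ⟨a, hAle ha⟩ ha ⟨k, hk⟩
      exact this
  rw [horb, hstab, D.card_cent_four hv1 hvv hj1 hjj hvj hcom] at hcard
  have h3 : ({v, j, v * j} : Set G).ncard = 3 := by
    rw [Set.ncard_eq_three]
    refine ⟨v, j, v * j, hvj, ?_, ?_, rfl⟩
    · intro h; apply hj1; exact (mul_eq_left.mp h.symm)
    · intro h; apply hv1; exact (mul_eq_right.mp h.symm)
  rw [h3] at hcard
  rw [hcard]; ring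

/-- the odd part of the torus of order `q + 1` -/
theorem E_torus {x : G} (hx : D.IsE x) : ∃ Y : Subgroup G, Nat.card Y = (q + 1) / 4 ∧ x ∈ Y ∧
    Torus Y (Subgroup.centralizer ({x} : Set G)) (6 * (q + 1)) := by
  obtain ⟨v, ι, T, C, hT, hcT, ⟨y, hyT, hyx⟩, hiff⟩ := D.E_struct hx.1 hx.2.1 hx.2.2
  haveI := hT
  obtain ⟨⟨t, htT⟩, ht⟩ := IsCyclic.exists_ofOrder_eq_natCard (α := T)
  have hot : orderOf t = Nat.card T := by rw [← ht, Subgroup.orderOf_mk]
  have hq := D.q_mod
  have hk4 : Nat.card T = 2 * ((q + 1) / 4) := by omega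
  have hkodd : Odd ((q + 1) / 4) := by rw [Nat.odd_iff]; omega
  have hoy : orderOf (ι (t * t)) = (q + 1) / 4 := by
    rw [orderOf_injective ι C.inj, ← pow_two, orderOf_pow, hot, hk4]
    have hg : Nat.gcd (2 * ((q + 1) / 4)) 2 = 2 := Nat.gcd_eq_right (dvd_mul_right _ _)
    rw [hg]; omega
  have hYcard : Nat.card (Subgroup.zpowers (ι (t * t))) = (q + 1) / 4 := by rw [Nat.card_zpowers, hoy]
  have hmemA : ∀ {c : G}, c ∈ Subgroup.centralizer ({x} : Set G) ↔ c * x = x * c := Subgroup.mem_centralizer_singleton_iff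
  -- odd elements of the torus are in `Y`
  have hmem : ∀ c ∈ Subgroup.centralizer ({x} : Set G), Odd (orderOf c) → c ∈ Subgroup.zpowers (ι (t * t)) := by
    intro c hc hco
    obtain ⟨s, hs, hcs⟩ := (hiff c).mp (hmemA.mp hc)
    have e : c * c = ι (s * s) := by
      rw [map_mul]
      rcases hcs with h | h
      · rw [h]
      · rw [h, mul_assoc, ← mul_assoc (ι s), ← C.comm, mul_assoc, ← mul_assoc v v, C.tt, one_mul]
    have h1 : c * c ∈ Subgroup.zpowers (ι (t * t)) := by
      obtain ⟨e1, he1⟩ : (⟨s, hs⟩ : T) ∈ Subgroup.zpowers (⟨t, htT⟩ : T) := by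
        have : Subgroup.zpowers (⟨t, htT⟩ : T) = ⊤ := by
          apply Subgroup.eq_top_of_card_eq
          rw [Nat.card_zpowers, ht]
        rw [this]; trivial
      have he2 : t ^ e1 = s := congrArg Subtype.val he1
      refine ⟨e1, ?_⟩
      show ι (t * t) ^ e1 = c * c
      rw [e, ← map_zpow, ← he2, (Commute.refl t).mul_zpow]
    obtain ⟨k, hk⟩ := hco
    have h2 : c = (c * c) ^ (k + 1) := by
      rw [← pow_two, ← pow_mul]
      have : 2 * (k + 1) = orderOf c + 1 := by omega
      rw [this, pow_succ, pow_orderOf_eq_one, one_mul]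
    rw [h2]
    exact Subgroup.pow_mem _ h1 _
  have hYA : Subgroup.zpowers (ι (t * t)) ≤ Subgroup.centralizer ({x} : Set G) := by
    rw [Subgroup.zpowers_le, hmemA]
    exact (hiff _).mpr ⟨t * t, mul_mem htT htT, Or.inl rfl⟩
  have hYodd : ∀ c ∈ Subgroup.zpowers (ι (t * t)), Odd (orderOf c) := by
    intro c hc
    have h1 := Subgroup.orderOf_dvd_natCard _ hc
    rw [hYcard] at h1
    exact Odd.of_dvd_nat hkodd h1
  have hdiv : (q + 1) / 4 ∣ q + 1 := Nat.div_dvd_of_dvd (by omega)
  refine ⟨Subgroup.zpowers (ι (t * t)), hYcard, hmem x (hmemA.mpr rfl) hx.2.1, ?_⟩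
  refine
    { cyc := inferInstance
      le := hYA
      comm := fun a ha b hb => D.E_comm hx (hmemA.mp ha) (hmemA.mp hb)
      cent := ?_
      mem := ?_
      conj := ?_
      norm := D.E_card_norm hx }
  · intro y hy hy1 c hc
    have := (D.E_cent hx (hmemA.mp (hYA hy)) hy1 (hYodd y hy)).2
    rw [← this]
    exact Subgroup.mem_centralizer_singleton_iff.mpr hc
  · intro a ha h1
    apply hmem a ha
    rw [hYcard] at h1
    exact Odd.of_dvd_nat hkodd (orderOf_dvd_of_pow_eq_one h1)
  · intro p hp hpY z hz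
    rw [hYcard] at hpY
    haveI : Fact p.Prime := ⟨hp⟩
    have hpodd : Odd p := Odd.of_dvd_nat hkodd hpY
    have hpq : p ∣ q + 1 := hpY.trans hdiv
    have hzE : D.IsE z := ⟨by rintro rfl; rw [orderOf_one] at hz; exact hp.one_lt.ne hz, by rw [hz]; exact hpodd,
      by rw [hz]; exact hpq⟩
    have hidx : ¬ p ∣ (Subgroup.centralizer ({x} : Set G)).index := by
      have h1 := (Subgroup.centralizer ({x} : Set G)).card_mul_index
      rw [D.E_card hx, D.card_G] at h1
      have hq := D.q_ge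
      have h2 : q ^ 3 * (q - 1) * (q ^ 3 + 1) = (q + 1) * (q ^ 3 * (q - 1) * (q ^ 2 - q + 1)) := by
        have : q ≤ q ^ 2 := by nlinarith
        have h1 : 1 ≤ q := by omega
        zify [this, h1]; ring
      rw [h2] at h1
      have h3 := Nat.eq_of_mul_eq_mul_left (by omega) h1
      rw [h3]
      obtain ⟨hcop, hn3⟩ := D.cop_sub hpodd hpq
      have hpq' : ¬ p ∣ q := by
        intro h
        have := (Nat.dvd_add_right h).mp hpq
        exact hp.one_lt.ne' (Nat.dvd_one.mp this)
      intro hdv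
      rcases hp.dvd_mul.mp hdv with h | h
      · rcases hp.dvd_mul.mp h with h | h
        · exact hpq' (hp.dvd_of_dvd_pow h)
        · exact ((Nat.Prime.coprime_iff_not_dvd hp).mp hcop) h
      · apply hn3
        have h5 : q ^ 2 - q + 1 + 3 * q = (q + 1) ^ 2 := by
          have : q ≤ q ^ 2 := by nlinarith
          zify [this]; ring
        have h6 : p ∣ (q + 1) ^ 2 := dvd_pow hpq (by norm_num)
        rw [← h5] at h6
        have h7 := (Nat.dvd_add_right h).mp h6
        rcases hp.dvd_mul.mp h7 with h8 | h8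
        · rw [(Nat.prime_dvd_prime_iff_eq hp Nat.prime_three).mp h8]
        · exact absurd h8 hpq'
    have hzp : IsPGroup p (Subgroup.zpowers z) := IsPGroup.of_card (n := 1) (by rw [Nat.card_zpowers, hz, pow_one])
    obtain ⟨g, hg⟩ := conj_into _ hidx hzp
    refine ⟨g, hmem _ (hg z (Subgroup.mem_zpowers z)) ?_⟩
    have := (MulAut.conj g).orderOf_eq z
    rw [MulAut.conj_apply] at this
    rw [this, hz]; exact hpodd

end Cfsg.Agent.Lib.ReeA.RD
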