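import Mathlib
import Cfsg.Agent.Lib.ReeJ
import Cfsg.Agent.Lib.PSL2Orders

/-!
Abstract small Ree groups, part K: the torus `H`, elements without fixed points (helper18).
-/

set_option autoImplicit false
set_option linter.unusedSectionVars false

namespace Cfsg.Agent.Lib.ReeA.RD

open Cfsg.Agent.Lib.ReePSL Cfsg.Agent.Lib.ReeA Cfsg.Agent.Lib.H53Ree Cfsg.Agent.Lib.H53PSL2 Cfsg.Agent.Lib.ReeB
open Cfsg.Agent.Lib.ReeD Cfsg.Agent.Lib.ReeG Cfsg.Agent.Lib.ReeT

variable {G : Type*} [Group G] [Finite G] {K : Type*} [Field K] [Fintype K] {m : ℕ} (D : RD G K m)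

local notation "q" => Fintype.card K
local notation "PSL2" => Matrix.ProjectiveSpecialLinearGroup (Fin 2) K

theorem sq_ne_of_odd {y : G} (hy1 : y ≠ 1) (hyo : Odd (orderOf y)) : y * y ≠ 1 := by
  intro h
  have h2 : orderOf y ∣ 2 := orderOf_dvd_of_pow_eq_one (by rw [pow_two]; exact h)
  rcases (Nat.dvd_prime Nat.prime_two).mp h2 with h3 | h3
  · exact hy1 (orderOf_eq_one_iff.mp h3)
  · rw [h3] at hyo; exact absurd hyo (by decide)

/-- the torus `H` with its odd part -/
theorem H_torus : ∃ Y : Subgroup G, Nat.card Y = (q - 1) / 2 ∧ Torus Y D.H (2 * (q - 1)) := by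
  haveI := D.cyc
  obtain ⟨⟨t, htH⟩, ht⟩ := IsCyclic.exists_ofOrder_eq_natCard (α := D.H)
  have hot : orderOf t = q - 1 := by rw [← D.card_H, ← ht, Subgroup.orderOf_mk]
  have hq := D.q_mod
  have hq27 := D.q_ge
  have hkodd : Odd ((q - 1) / 2) := by rw [Nat.odd_iff]; omega
  have hk : 2 * ((q - 1) / 2) = q - 1 := by omega
  have hoy : orderOf (t * t) = (q - 1) / 2 := by
    rw [← pow_two, orderOf_pow, hot, ← hk]
    have hg : Nat.gcd (2 * ((q - 1) / 2)) 2 = 2 := Nat.gcd_eq_right (dvd_mul_right _ _)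
    rw [hg]
  have hYcard : Nat.card (Subgroup.zpowers (t * t)) = (q - 1) / 2 := by rw [Nat.card_zpowers, hoy]
  have hYA : Subgroup.zpowers (t * t) ≤ D.H := by rw [Subgroup.zpowers_le]; exact mul_mem htH htH
  have hmem : ∀ c ∈ D.H, Odd (orderOf c) → c ∈ Subgroup.zpowers (t * t) := by
    intro c hc hco
    have h1 : c * c ∈ Subgroup.zpowers (t * t) := by
      obtain ⟨e1, he1⟩ : (⟨c, hc⟩ : D.H) ∈ Subgroup.zpowers (⟨t, htH⟩ : D.H) := by
        have : Subgroup.zpowers (⟨t, htH⟩ : D.H) = ⊤ := by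
          apply Subgroup.eq_top_of_card_eq
          rw [Nat.card_zpowers, ht]
        rw [this]; trivial
      have he2 : t ^ e1 = c := congrArg Subtype.val he1
      refine ⟨e1, ?_⟩
      show (t * t) ^ e1 = c * c
      rw [← he2, (Commute.refl t).mul_zpow]
    obtain ⟨k, hk⟩ := hco
    have h2 : c = (c * c) ^ (k + 1) := by
      rw [← pow_two, ← pow_mul]
      have : 2 * (k + 1) = orderOf c + 1 := by omega
      rw [this, pow_succ, pow_orderOf_eq_one, one_mul]
    rw [h2]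
    exact Subgroup.pow_mem _ h1 _
  have hYodd : ∀ c ∈ Subgroup.zpowers (t * t), Odd (orderOf c) := by
    intro c hc
    have h1 := Subgroup.orderOf_dvd_natCard _ hc
    rw [hYcard] at h1
    exact Odd.of_dvd_nat hkodd h1
  refine ⟨Subgroup.zpowers (t * t), hYcard, ?_⟩
  refine
    { cyc := inferInstance
      le := hYA
      comm := fun a ha b hb => D.H_comm ha hb
      cent := fun y hy hy1 c hc => D.cent_H (hYA hy) (sq_ne_of_odd hy1 (hYodd y hy)) hc
      mem := ?_
      conj := ?_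
      norm := D.card_norm_H }
  · intro a ha h1
    apply hmem a ha
    rw [hYcard] at h1
    exact Odd.of_dvd_nat hkodd (orderOf_dvd_of_pow_eq_one h1)
  · intro p hp hpY z hz
    rw [hYcard] at hpY
    haveI : Fact p.Prime := ⟨hp⟩
    have hpodd : Odd p := Odd.of_dvd_nat hkodd hpY
    have hpq : p ∣ q - 1 := hpY.trans (Nat.div_dvd_of_dvd (by omega))
    have hidx : ¬ p ∣ D.H.index := by
      have h1 := D.H.card_mul_index
      rw [D.card_H, D.card_G] at h1
      have h2 : q ^ 3 * (q - 1) * (q ^ 3 + 1) = (q - 1) * (q ^ 3 * (q ^ 3 + 1)) := by ring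
      rw [h2] at h1
      rw [Nat.eq_of_mul_eq_mul_left (by omega) h1]
      have hp1 : (q : ℤ) ≡ 1 [ZMOD p] := by
        have : (p : ℤ) ∣ (q : ℤ) - 1 := by
          have := Int.natCast_dvd_natCast.mpr hpq
          rwa [Nat.cast_sub (by omega), Nat.cast_one] at this
        exact (Int.modEq_iff_dvd.mpr this).symm
      intro hdv
      have h3 : (p : ℤ) ∣ (q : ℤ) ^ 3 * ((q : ℤ) ^ 3 + 1) := by exact_mod_cast Int.natCast_dvd_natCast.mpr hdv
      have h4 : (q : ℤ) ^ 3 * ((q : ℤ) ^ 3 + 1) ≡ 1 ^ 3 * (1 ^ 3 + 1) [ZMOD p] :=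
        (hp1.pow 3).mul ((hp1.pow 3).add_right 1)
      have h5 : (p : ℤ) ∣ 1 ^ 3 * (1 ^ 3 + 1) := h4.dvd_iff.mp h3
      norm_num at h5
      have h6 : p ∣ 2 := by exact_mod_cast h5
      rcases (Nat.dvd_prime Nat.prime_two).mp h6 with h7 | h7
      · exact hp.one_lt.ne' h7
      · rw [h7] at hpodd; exact absurd hpodd (by decide)
    have hzp : IsPGroup p (Subgroup.zpowers z) := IsPGroup.of_card (n := 1) (by rw [Nat.card_zpowers, hz, pow_one])
    obtain ⟨g, hg⟩ := conj_into _ hidx hzp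
    refine ⟨g, hmem _ (hg z (Subgroup.mem_zpowers z)) ?_⟩
    have := (MulAut.conj g).orderOf_eq z
    rw [MulAut.conj_apply] at this
    rw [this, hz]; exact hpodd

/-- elements of order `> 2` dividing `q - 1` are conjugate into `H` -/
theorem conj_H_of_order {g : G} (h2 : g * g ≠ 1) (hg : orderOf g ∣ q - 1) : ∃ a : G, a * g * a⁻¹ ∈ D.H := by
  obtain ⟨Y, hY, t⟩ := D.H_torus
  have hq := D.q_mod
  have ho : orderOf (g * g) ∣ Nat.card Y := by
    rw [hY]
    apply orderOf_dvd_of_pow_eq_one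
    rw [← pow_two, ← pow_mul]
    have : 2 * ((q - 1) / 2) = q - 1 := by omega
    rw [this]; exact orderOf_dvd_iff_pow_eq_one.mp hg
  obtain ⟨a, ha⟩ := t.conj_mem h2 ho
  refine ⟨a, t.cent _ ha (fun h => h2 ?_) _ ?_⟩
  · have : g * g = a⁻¹ * (a * (g * g) * a⁻¹) * a := by group
    rw [this, h]; group
  · group

theorem exists_E : ∃ x, D.IsE x := by
  have hq := D.q_mod
  have hq27 := D.q_ge
  obtain ⟨p, hp, hpx⟩ := Nat.exists_prime_and_dvd (show (q + 1) / 4 ≠ 1 by omega)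
  haveI : Fact p.Prime := ⟨hp⟩
  have hkodd : Odd ((q + 1) / 4) := by rw [Nat.odd_iff]; omega
  have hpq : p ∣ q + 1 := hpx.trans (Nat.div_dvd_of_dvd (by omega))
  have hpG : p ∣ Nat.card G := by
    rw [D.card_G]
    have h1 : q + 1 ∣ q ^ 3 + 1 := ⟨q ^ 2 - q + 1, by
      have : q ≤ q ^ 2 := by nlinarith
      zify [this]; ring⟩
    exact (hpq.trans h1).mul_left _
  obtain ⟨x, hx⟩ := exists_prime_orderOf_dvd_card' p hpG
  refine ⟨x, ?_, ?_, ?_⟩
  · rintro rfl; rw [orderOf_one] at hx; exact hp.one_lt.ne hx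
  · rw [hx]; exact Odd.of_dvd_nat hkodd hpx
  · rw [hx]; exact hpq

/-- elements of order `> 2` of the tori of order `q + 1` -/
def IsP (g : G) : Prop := ∃ x, D.IsE x ∧ g * x = x * g ∧ g * g ≠ 1

theorem IsE_card {x : G} (hx : D.IsE x) : orderOf x ∣ (q + 1) / 4 := by
  have h1 : Nat.Coprime (orderOf x) 4 := by
    rw [show (4 : ℕ) = 2 ^ 2 by norm_num]
    exact Nat.Coprime.pow_right 2 (Nat.Coprime.symm ((Nat.coprime_two_left).mpr hx.2.1))
  have h2 : 4 * ((q + 1) / 4) = q + 1 := by have := D.q_mod; omega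
  have h3 := hx.2.2
  rw [← h2] at h3
  exact Nat.Coprime.dvd_of_dvd_mul_left h1 h3

theorem IsE_conj {x : G} (a : G) (hx : D.IsE x) : D.IsE (a * x * a⁻¹) := by
  have h := (MulAut.conj a).orderOf_eq x
  rw [MulAut.conj_apply] at h
  refine ⟨?_, by rw [h]; exact hx.2.1, by rw [h]; exact hx.2.2⟩
  intro h1
  rw [h1, orderOf_one] at h
  exact hx.1 (orderOf_eq_one_iff.mp h.symm)

theorem IsP_sq {g : G} (hg : D.IsP g) : D.IsE (g * g) := by
  obtain ⟨x, hx, hgx, h2⟩ := hg
  have hc : (g * g) * x = x * (g * g) := by rw [mul_assoc, hgx, ← mul_assoc, hgx, mul_assoc]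
  exact (D.E_cent hx hc h2 (D.E_sq_odd hx hgx)).1

theorem card_P : Nat.card {g : G // D.IsP g} * (6 * (q + 1)) = Nat.card G * (q - 3) := by
  classical
  obtain ⟨x, hx⟩ := D.exists_E
  obtain ⟨Y, hY, hxY, t⟩ := D.E_torus hx
  have hmemA : ∀ {c : G}, c ∈ Subgroup.centralizer ({x} : Set G) ↔ c * x = x * c := Subgroup.mem_centralizer_singleton_iff
  have h1 := card_conj (Subgroup.centralizer ({x} : Set G)) t.comm D.IsP (by
      rintro a g ⟨y, hy, hgy, h2⟩
      refine ⟨a * y * a⁻¹, D.IsE_conj a hy, ?_, ?_⟩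
      · calc a * g * a⁻¹ * (a * y * a⁻¹) = a * (g * y) * a⁻¹ := by group
          _ = a * (y * g) * a⁻¹ := by rw [hgy]
          _ = _ := by group
      · intro h
        apply h2
        have : g * g = a⁻¹ * (a * g * a⁻¹ * (a * g * a⁻¹)) * a := by group
        rw [this, h]; group) (by
      rintro g ⟨y, hy, hgy, h2⟩
      obtain ⟨a, ha⟩ := t.conj_mem hy.1 (by rw [hY]; exact D.IsE_card hy)
      refine ⟨a, t.cent _ ha (D.IsE_conj a hy).1 _ ?_⟩
      calc a * g * a⁻¹ * (a * y * a⁻¹) = a * (g * y) * a⁻¹ := by group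
        _ = a * (y * g) * a⁻¹ := by rw [hgy]
        _ = _ := by group) (by
      intro z hz hPz c hc
      have h5 : (z * z) * x = x * (z * z) := by
        have := hmemA.mp hz
        rw [mul_assoc, this, ← mul_assoc, this, mul_assoc]
      obtain ⟨-, h6⟩ := D.E_cent hx h5 (D.IsP_sq hPz).1 (D.IsP_sq hPz).2.1
      rw [← h6, Subgroup.mem_centralizer_singleton_iff, ← mul_assoc, hc, mul_assoc, hc, ← mul_assoc])
  rw [t.norm] at h1
  rw [h1]
  congr 1
  -- elements of the torus with non-trivial square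
  obtain ⟨v, j, hv1, hj1, hvj, hvv, hjj, hcom, hvx, hjx, hfour⟩ := D.E_four hx
  have hiff : ∀ z : Subgroup.centralizer ({x} : Set G), D.IsP (z : G) ↔ ¬ ((z : G) * z = 1) := by
    intro z
    constructor
    · rintro ⟨_, _, _, h⟩; exact h
    · intro h; exact ⟨x, hx, hmemA.mp z.2, h⟩
  haveI : Fintype (Subgroup.centralizer ({x} : Set G)) := Fintype.ofFinite _
  have h2 : Nat.card {z : Subgroup.centralizer ({x} : Set G) // D.IsP (z : G)} =
      Nat.card {z : Subgroup.centralizer ({x} : Set G) // ¬ ((z : G) * z = 1)} :=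
    Nat.card_congr (Equiv.subtypeEquivRight hiff)
  rw [h2, Nat.card_eq_fintype_card, Fintype.card_subtype_compl, ← Nat.card_eq_fintype_card, ← Nat.card_eq_fintype_card,
    D.E_card hx]
  have h3 : Nat.card {z : Subgroup.centralizer ({x} : Set G) // (z : G) * z = 1} = 4 := by
    have e : {z : Subgroup.centralizer ({x} : Set G) // (z : G) * z = 1} ≃ ({1, v, j, v * j} : Set G) := by
      refine ⟨fun z => ⟨z.1, hfour _ (hmemA.mp z.1.2) z.2⟩, fun z => ⟨⟨z.1, ?_⟩, ?_⟩, fun z => rfl, fun z => rfl⟩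
      · obtain ⟨z, rfl | rfl | rfl | rfl⟩ := z
        · exact one_mem _
        · exact hmemA.mpr hvx
        · exact hmemA.mpr hjx
        · exact mul_mem (hmemA.mpr hvx) (hmemA.mpr hjx)
      · obtain ⟨z, rfl | rfl | rfl | rfl⟩ := z
        · exact one_mul 1
        · exact hvv
        · exact hjj
        · show v * j * (v * j) = 1
          rw [mul_assoc, ← mul_assoc j, ← hcom, mul_assoc, hjj, mul_one, hvv]
    rw [Nat.card_congr e, Nat.card_coe_set_eq]
    have := Cfsg.Agent.Lib.H1PByCyc.card_fourSub (ha := hvv) (hb := hjj) (hab := hcom) hv1 hj1 hvj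
    rw [← this]; rfl
  rw [h3]
  have := D.q_ge
  omega

end Cfsg.Agent.Lib.ReeA.RD
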