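import Mathlib
import Cfsg.Agent.Lib.ReeK

/-!
Abstract small Ree groups, part L: elements without fixed points (helper18).
-/

set_option autoImplicit false
set_option linter.unusedSectionVars false

namespace Cfsg.Agent.Lib.ReeA.RD

open Cfsg.Agent.Lib.ReePSL Cfsg.Agent.Lib.ReeA Cfsg.Agent.Lib.H53Ree Cfsg.Agent.Lib.H53PSL2 Cfsg.Agent.Lib.ReeB
open Cfsg.Agent.Lib.ReeD Cfsg.Agent.Lib.ReeG Cfsg.Agent.Lib.ReeT

variable {G : Type*} [Group G] [Finite G] {K : Type*} [Field K] [Fintype K] {m : ℕ} (D : RD G K m)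

local notation "q" => Fintype.card K
local notation "PSL2" => Matrix.ProjectiveSpecialLinearGroup (Fin 2) K

/-- the remaining elements -/
def IsQ (_D : RD G K m) (g : G) : Prop := g ≠ 1 ∧ orderOf g ∣ q ^ 2 - q + 1

theorem qq (D : RD G K m) : q ≤ q ^ 2 := by have := D.q_ge; nlinarith

theorem cop_prime (D : RD G K m) {p : ℕ} (hp : p.Prime) (h : p ∣ q ^ 2 - q + 1) :
    ¬ p ∣ q ∧ ¬ p ∣ q - 1 ∧ ¬ p ∣ q + 1 ∧ p ≠ 3 ∧ p ≠ 2 := by
  have hq := D.q_ge
  have hqq := D.qq
  have h1 : (p : ℤ) ∣ (q : ℤ) ^ 2 - q + 1 := by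
    have := Int.natCast_dvd_natCast.mpr h
    push_cast [Nat.cast_sub hqq] at this
    exact this
  have key : ∀ (r : ℤ) (c : ℤ), (p : ℤ) ∣ r → (q : ℤ) ^ 2 - q + 1 - c ∈ Ideal.span {r} → (p : ℤ) ∣ c := by
    intro r c hr hc
    rw [Ideal.mem_span_singleton] at hc
    have := (h1.sub (hr.trans hc))
    simpa using this
  have hne1 : ¬ (p : ℤ) ∣ 1 := by
    intro h; have : p ∣ 1 := by exact_mod_cast h
    exact hp.one_lt.ne' (Nat.dvd_one.mp this)
  have hpq : ¬ p ∣ q := by
    intro h2
    apply hne1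
    refine key q 1 (Int.natCast_dvd_natCast.mpr h2) ?_
    rw [Ideal.mem_span_singleton]
    exact ⟨(q : ℤ) - 1, by ring⟩
  refine ⟨hpq, ?_, ?_, ?_, ?_⟩
  · intro h2
    apply hne1
    refine key (q - 1) 1 ?_ ?_
    · have := Int.natCast_dvd_natCast.mpr h2
      rwa [Nat.cast_sub (by omega), Nat.cast_one] at this
    · rw [Ideal.mem_span_singleton]
      exact ⟨(q : ℤ), by ring⟩
  · intro h2
    have h3 : (p : ℤ) ∣ 3 := by
      refine key (q + 1) 3 ?_ ?_
      · exact_mod_cast Int.natCast_dvd_natCast.mpr h2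
      · rw [Ideal.mem_span_singleton]
        exact ⟨(q : ℤ) - 2, by ring⟩
    have h4 : p ∣ 3 := by exact_mod_cast h3
    have h5 := (Nat.prime_dvd_prime_iff_eq hp Nat.prime_three).mp h4
    rw [h5] at hpq
    exact hpq D.dvd_q
  · rintro rfl
    exact hpq D.dvd_q
  · rintro rfl
    have : q ^ 2 % 2 = 1 := by
      rw [Nat.pow_mod]
      have : q % 2 = 1 := by have := D.q_mod; omega
      rw [this]
    have := D.q_mod
    omega

theorem card_G' (D : RD G K m) : Nat.card G = q ^ 3 * ((q - 1) * (q + 1)) * (q ^ 2 - q + 1) := by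
  rw [D.card_G]
  have h1 := D.qq
  have h2 : 1 ≤ q := by have := D.q_ge; omega
  zify [h1, h2]; ring

/-- elements of 3'-order without fixed points -/
theorem fixN_zero_iff {g : G} : D.fixN g = 0 ↔ (D.IsP g ∨ D.IsQ g) := by
  have hq := D.q_ge
  have hqm := D.q_mod
  have hfix : D.fixN g = 0 ↔ ∀ x : G ⧸ D.B, g • x ≠ x := by
    rw [fixN, Nat.card_eq_zero]
    constructor
    · rintro (h | h) x hx
      · exact h.false ⟨x, hx⟩
      · exact h.not_finite inferInstance
    · intro h
      left; exact ⟨fun x => h x.1 x.2⟩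
  rw [hfix]
  constructor
  · intro hno
    have hg1 : g ≠ 1 := by rintro rfl; exact hno D.o (one_smul _ _)
    have h3 : ¬ 3 ∣ orderOf g := by
      intro h3
      obtain ⟨k, hk1, hk2⟩ := exists_three_part h3
      obtain ⟨x, hx⟩ := D.three_fix hk2
      exact hno x (D.comm_fix hk1 hk2 ((Commute.refl g).pow_right k).eq (hx _ (Subgroup.mem_zpowers _)))
    have hgo : 0 < orderOf g := orderOf_pos g
    have hpw : ∀ p : ℕ, p.Prime → p ∣ orderOf g → orderOf (g ^ (orderOf g / p)) = p := fun p hp hpg =>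
      orderOf_pow_orderOf_div hgo.ne' hpg
    -- no odd prime divisor of `q - 1`
    have hodd1 : ∀ p : ℕ, p.Prime → p ≠ 2 → p ∣ orderOf g → ¬ p ∣ q - 1 := by
      intro p hp hp2 hpg hpq
      have ho := hpw p hp hpg
      set z := g ^ (orderOf g / p) with hz
      have hz2 : z * z ≠ 1 := sq_ne_of_odd (by rintro h; rw [h, orderOf_one] at ho; exact hp.one_lt.ne ho)
        (by rw [ho]; exact hp.odd_of_ne_two hp2)
      obtain ⟨a, ha⟩ := D.conj_H_of_order hz2 (by rw [ho]; exact hpq)
      have h5 : a * g * a⁻¹ ∈ D.H := by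
        apply D.cent_H ha
        · intro h; apply hz2
          have : z * z = a⁻¹ * (a * z * a⁻¹ * (a * z * a⁻¹)) * a := by group
          rw [this, h]; group
        · have : g * z = z * g := ((Commute.refl g).pow_right _).eq
          calc a * g * a⁻¹ * (a * z * a⁻¹) = a * (g * z) * a⁻¹ := by group
            _ = a * (z * g) * a⁻¹ := by rw [this]
            _ = _ := by group
      apply hno (a⁻¹ • D.o)
      have h6 := (D.stab2.mpr h5).1
      have : g • a⁻¹ • D.o = a⁻¹ • ((a * g * a⁻¹) • D.o) := by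
        rw [← mul_smul, ← mul_smul]; congr 1; group
      rw [this, h6]
    have hg2 : g * g ≠ 1 := by
      intro h2
      obtain ⟨a, ha⟩ := D.inv_conj hg1 h2
      apply hno (a • D.o)
      have : g • a • D.o = a • (D.i • D.o) := by
        rw [← ha, ← mul_smul, ← mul_smul]; congr 1; group
      rw [this, (D.stab2.mpr D.i_mem).1]
    by_cases h2 : 2 ∣ orderOf g
    · left
      -- even order
      have ht := hpw 2 Nat.prime_two h2
      set t := g ^ (orderOf g / 2) with htd
      have htt : t * t = 1 := by rw [← pow_two, ← ht]; exact pow_orderOf_eq_one t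
      have ht1 : t ≠ 1 := by intro h; rw [h, orderOf_one] at ht; norm_num at ht
      have hgt : g * t = t * g := ((Commute.refl g).pow_right _).eq
      obtain ⟨ι, C, hcov⟩ := D.exists_conf' ht1 htt
      obtain ⟨y, hy⟩ := hcov g hgt
      haveI : Fact (Nat.Prime 3) := ⟨Nat.prime_three⟩
      haveI := D.charP
      have hpow : ∀ n, Even n → y ^ n = 1 → g ^ n = 1 := by
        intro n hn hyn
        have hcm : Commute t (ι y) := C.comm y
        rcases hy with h | h
        · rw [h, ← map_pow, hyn, map_one]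
        · rw [h, hcm.mul_pow, ← map_pow, hyn, map_one, mul_one]
          obtain ⟨k, hk⟩ := hn
          rw [hk, ← two_mul, pow_mul, pow_two, htt, one_pow]
      rcases Cfsg.Agent.Lib.PSL2Orders.pow_cases (p := 3) y with h | h | h
      · exfalso
        have h6 := hpow 6 (by decide) (by rw [show 6 = 3 * 2 by norm_num, pow_mul, h, one_pow])
        have h7 := orderOf_dvd_of_pow_eq_one h6
        have h8 : orderOf g ∣ 2 := by
          have : Nat.Coprime (orderOf g) 3 := ((Nat.Prime.coprime_iff_not_dvd Nat.prime_three).mpr h3).symm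
          exact Nat.Coprime.dvd_of_dvd_mul_right this (by rwa [show 6 = 2 * 3 by norm_num] at h7)
        apply hg2
        rw [← pow_two]; exact orderOf_dvd_iff_pow_eq_one.mp h8
      · exfalso
        rw [D.gcd2] at h
        have h6 := hpow (q - 1) (by rw [Nat.even_iff]; omega) (by
          have : q - 1 = (q - 1) / 2 * 2 := by omega
          rw [this, pow_mul, h, one_pow])
        have h7 := orderOf_dvd_of_pow_eq_one h6
        obtain ⟨a, ha⟩ := D.conj_H_of_order hg2 h7
        apply hno (a⁻¹ • D.o)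
        have h8 := (D.stab2.mpr ha).1
        have : g • a⁻¹ • D.o = a⁻¹ • ((a * g * a⁻¹) • D.o) := by
          rw [← mul_smul, ← mul_smul]; congr 1; group
        rw [this, h8]
      · rw [D.gcd2] at h
        have hgg : (g * g) ^ ((q + 1) / 4) = 1 := by
          rw [← pow_two, ← pow_mul]
          apply hpow _ ⟨(q + 1) / 4, by ring⟩
          have : 2 * ((q + 1) / 4) = (q + 1) / 2 := by omega
          rw [this]; exact h
        have h6 := orderOf_dvd_of_pow_eq_one hgg
        have hkodd : Odd ((q + 1) / 4) := by rw [Nat.odd_iff]; omega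
        refine ⟨g * g, ⟨hg2, Odd.of_dvd_nat hkodd h6, h6.trans (Nat.div_dvd_of_dvd (by omega))⟩, ?_, hg2⟩
        group
    · have hgodd : Odd (orderOf g) := by rw [← Nat.not_even_iff_odd, even_iff_two_dvd]; exact h2
      by_cases hex : ∃ p : ℕ, p.Prime ∧ p ∣ orderOf g ∧ p ∣ q + 1
      · left
        obtain ⟨p, hp, hpg, hpq⟩ := hex
        have ho := hpw p hp hpg
        refine ⟨g ^ (orderOf g / p), ⟨?_, ?_, ?_⟩, ((Commute.refl g).pow_right _).eq, sq_ne_of_odd hg1 hgodd⟩
        · intro h; rw [h, orderOf_one] at ho; exact hp.one_lt.ne ho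
        · rw [ho]; exact Odd.of_dvd_nat hgodd hpg
        · rw [ho]; exact hpq
      · right
        refine ⟨hg1, ?_⟩
        push Not at hex
        have h5 : orderOf g ∣ q ^ 3 * ((q - 1) * (q + 1)) * (q ^ 2 - q + 1) := by
          rw [← D.card_G']; exact orderOf_dvd_natCard g
        refine Nat.Coprime.dvd_of_dvd_mul_left ?_ h5
        rw [Nat.coprime_iff_gcd_eq_one]
        by_contra hne
        obtain ⟨p, hp, hpd⟩ := Nat.exists_prime_and_dvd hne
        have h6 := hpd.trans (Nat.gcd_dvd_left _ _)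
        have h7 := hpd.trans (Nat.gcd_dvd_right _ _)
        have hp2 : p ≠ 2 := by rintro rfl; exact h2 h6
        rcases hp.dvd_mul.mp h7 with h8 | h8
        · have h9 := hp.dvd_of_dvd_pow h8
          rw [D.hK] at h9
          have := (Nat.prime_dvd_prime_iff_eq hp Nat.prime_three).mp (hp.dvd_of_dvd_pow h9)
          rw [this] at h6
          exact h3 h6
        · rcases hp.dvd_mul.mp h8 with h9 | h9
          · exact hodd1 p hp hp2 h6 h9
          · exact hex p hp h6 h9
  · rintro (hP | hQ) x hx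
    · have hE := D.IsP_sq hP
      obtain ⟨hc, h3⟩ := D.cop_sub hE.2.1 hE.2.2
      exact D.no_fix hE.1 h3 hc x (by rw [mul_smul, hx, hx])
    · have h3 : ¬ 3 ∣ orderOf g := by
        intro h
        exact (D.cop_prime Nat.prime_three (h.trans hQ.2)).2.2.2.1 rfl
      have hc : Nat.Coprime (orderOf g) (q - 1) := by
        rw [Nat.coprime_iff_gcd_eq_one]
        by_contra hne
        obtain ⟨p, hp, hpd⟩ := Nat.exists_prime_and_dvd hne
        exact (D.cop_prime hp ((hpd.trans (Nat.gcd_dvd_left _ _)).trans hQ.2)).2.1 (hpd.trans (Nat.gcd_dvd_right _ _))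
      exact D.no_fix hQ.1 h3 hc x hx

theorem not_P_Q {g : G} (hP : D.IsP g) (hQ : D.IsQ g) : False := by
  have hE := D.IsP_sq hP
  obtain ⟨p, hp, hpx⟩ := Nat.exists_prime_and_dvd (show orderOf (g * g) ≠ 1 from fun h => hE.1 (orderOf_eq_one_iff.mp h))
  have h1 : orderOf (g * g) ∣ orderOf g := by rw [← pow_two]; exact orderOf_pow_dvd 2
  exact (D.cop_prime hp ((hpx.trans h1).trans hQ.2)).2.2.1 (hpx.trans hE.2.2)

/-- the number of elements of type `Q` -/
theorem card_Q : 3 * (Nat.card {g : G // D.IsQ g} : ℤ) = (q : ℤ) ^ 4 * (q - 1) * (q - 2) * (q + 1) := by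
  classical
  have h0 := D.card_noFix
  have hq := D.q_ge
  have h1 : Nat.card {g : G // D.fixN g = 0} = Nat.card {g : G // D.IsP g} + Nat.card {g : G // D.IsQ g} := by
    have e : {g : G // D.fixN g = 0} ≃ {g : G // D.IsP g} ⊕ {g : G // D.IsQ g} :=
      (Equiv.subtypeEquivRight (fun g => D.fixN_zero_iff)).trans
        (subtypeOrEquiv _ _ (by
          rw [Pi.disjoint_iff]
          intro g
          rw [Prop.disjoint_iff]
          rintro ⟨h1, h2⟩
          exact D.not_P_Q h1 h2))
    rw [Nat.card_congr e, Nat.card_sum]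
  have h2 := D.card_P
  have h3 : (Nat.card {g : G // D.IsP g} : ℤ) * (6 * ((q : ℤ) + 1)) = (q : ℤ) ^ 3 * (q - 1) * (q ^ 3 + 1) * (q - 3) := by
    have h4 : ((Nat.card {g : G // D.IsP g} * (6 * (q + 1)) : ℕ) : ℤ) = ((Nat.card G * (q - 3) : ℕ) : ℤ) := by rw [h2]
    rw [D.card_G] at h4
    push_cast [Nat.cast_sub (show 1 ≤ q by omega), Nat.cast_sub (show 3 ≤ q by omega)] at h4
    linear_combination h4
  have h5 : 6 * (Nat.card {g : G // D.IsP g} : ℤ) = (q : ℤ) ^ 3 * (q - 1) * (q ^ 2 - q + 1) * (q - 3) := by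
    have hq1 : (q : ℤ) + 1 ≠ 0 := by positivity
    apply mul_right_cancel₀ hq1
    linear_combination h3
  rw [h1] at h0
  push_cast at h0
  have h6 : 6 * (Nat.card {g : G // D.IsQ g} : ℤ) = 2 * ((q : ℤ) ^ 4 * (q - 1) * (q - 2) * (q + 1)) := by
    linear_combination 3 * h0 - h5
  linarith

end Cfsg.Agent.Lib.ReeA.RD
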