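import Mathlib

/-!
Elements of prime order `p | q² - q + 1`, `p ≠ 3`, in `GL₇(q)`: centralizers and normalizers (helper18).
-/

set_option autoImplicit false

namespace Cfsg.Agent.Lib.ReeRep

open Matrix Polynomial

variable {K : Type*} [Field K] [Fintype K]

local notation "q" => Fintype.card K
local notation "Ω" => AlgebraicClosure K
local notation "M7" => Matrix (Fin 7) (Fin 7) K

/-- scalar extension -/
noncomputable def up (A : M7) : Matrix (Fin 7) (Fin 7) Ω := A.map (algebraMap K Ω)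

theorem up_mul (A B : M7) : up (A * B) = up A * up B := Matrix.map_mul
theorem up_one : up (1 : M7) = 1 := by
  rw [up, Matrix.map_one _ (map_zero _) (map_one _)]
theorem up_pow (A : M7) (n : ℕ) : up (A ^ n) = up A ^ n := by
  induction n with
  | zero => rw [pow_zero, pow_zero, up_one]
  | succ k ih => rw [pow_succ, pow_succ, up_mul, ih]
theorem up_inj {A B : M7} (h : up A = up B) : A = B := by
  ext i j
  have := congrFun (congrFun h i) j
  exact (algebraMap K Ω).injective this

theorem eig_fr {A : M7} {v : Fin 7 → Ω} {μ : Ω} (h : up A *ᵥ v = μ • v) (i : ℕ) :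
    up A *ᵥ (fun k => v k ^ q ^ i) = μ ^ q ^ i • (fun k => v k ^ q ^ i) := by
  induction i with
  | zero => simpa using h
  | succ n ih =>
    ext k
    have h1 := congrFun ih k
    have h2 := congrArg (FiniteField.frobeniusAlgHom K Ω) h1
    rw [Matrix.mulVec, dotProduct, map_sum] at h2
    rw [Matrix.mulVec, dotProduct]
    have h3 : ∀ a : Ω, FiniteField.frobeniusAlgHom K Ω a = a ^ q := fun a => rfl
    simp only [map_mul, Pi.smul_apply, smul_eq_mul] at h2 ⊢
    have h4 : ∀ j, FiniteField.frobeniusAlgHom K Ω (up A k j) = up A k j := by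
      intro j
      show FiniteField.frobeniusAlgHom K Ω (algebraMap K Ω (A k j)) = algebraMap K Ω (A k j)
      exact (FiniteField.frobeniusAlgHom K Ω).commutes _
    simp only [h4] at h2
    simp only [h3] at h2
    rw [pow_succ, pow_mul, pow_mul]
    rw [← h2]
    exact Finset.sum_congr rfl fun j _ => by rw [pow_mul]

section arith

variable {p : ℕ} [Fact p.Prime]

theorem ord_six (hM : p ∣ q ^ 2 - q + 1) (h3 : p ≠ 3) (h2 : p ≠ 2) : orderOf (q : ZMod p) = 6 := by
  have hq : 1 < q := Fintype.one_lt_card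
  have hqq : q ≤ q ^ 2 := by nlinarith
  have h1 : (q : ZMod p) ^ 2 - q + 1 = 0 := by
    have := (ZMod.natCast_eq_zero_iff (q ^ 2 - q + 1) p).mpr hM
    push_cast [Nat.cast_sub hqq] at this
    exact this
  have hcube : (q : ZMod p) ^ 3 = -1 := by linear_combination ((q : ZMod p) + 1) * h1
  have hne2 : (2 : ZMod p) ≠ 0 := by
    intro h
    have : ((2 : ℕ) : ZMod p) = 0 := by exact_mod_cast h
    rw [ZMod.natCast_eq_zero_iff] at this
    exact h2 ((Nat.prime_dvd_prime_iff_eq Fact.out Nat.prime_two).mp this)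
  have hne3 : (3 : ZMod p) ≠ 0 := by
    intro h
    have : ((3 : ℕ) : ZMod p) = 0 := by exact_mod_cast h
    rw [ZMod.natCast_eq_zero_iff] at this
    exact h3 ((Nat.prime_dvd_prime_iff_eq Fact.out Nat.prime_three).mp this)
  apply orderOf_eq_of_pow_and_pow_div_prime (by norm_num)
  · have : (q : ZMod p) ^ 6 = ((q : ZMod p) ^ 3) ^ 2 := by ring
    rw [this, hcube]; ring
  · intro r hr hr6
    have : r = 2 ∨ r = 3 := by
      have h6 : r ∣ 2 * 3 := hr6
      rcases hr.dvd_mul.mp h6 with h | h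
      · left; exact (Nat.prime_dvd_prime_iff_eq hr Nat.prime_two).mp h
      · right; exact (Nat.prime_dvd_prime_iff_eq hr Nat.prime_three).mp h
    rcases this with rfl | rfl
    · norm_num
      rw [hcube]
      intro h
      apply hne2
      linear_combination -h
    · show (q : ZMod p) ^ 2 ≠ 1
      intro h
      -- `q² = 1` gives `q = 2`, `3 = 0`
      have e1 : (q : ZMod p) = 2 := by linear_combination h - h1
      rw [e1] at h
      apply hne3
      linear_combination h

theorem pow_eq_iff {l : Ω} (hlp : l ^ p = 1) (hl1 : l ≠ 1) (a b : ℕ) : l ^ a = l ^ b ↔ (a : ZMod p) = b := by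
  have hp : p.Prime := Fact.out
  have hl0 : l ≠ 0 := by
    rintro rfl
    rw [zero_pow hp.ne_zero] at hlp
    exact zero_ne_one hlp
  obtain ⟨u, hu⟩ : ∃ u : (Ω)ˣ, (u : Ω) = l := ⟨Units.mk0 l hl0, rfl⟩
  have ho : orderOf u = p := by
    apply orderOf_eq_prime
    · apply Units.ext; rw [Units.val_pow_eq_pow_val, hu, hlp, Units.val_one]
    · rintro rfl; exact hl1 hu.symm
  rw [ZMod.natCast_eq_natCast_iff, ← ho, ← pow_eq_pow_iff_modEq, ← hu, ← Units.val_pow_eq_pow_val,
    ← Units.val_pow_eq_pow_val, Units.val_inj]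

theorem pow_inj (hM : p ∣ q ^ 2 - q + 1) (h3 : p ≠ 3) (h2 : p ≠ 2) {l : Ω} (hlp : l ^ p = 1) (hl1 : l ≠ 1) :
    Function.Injective (fun i : Fin 6 => l ^ q ^ (i : ℕ)) := by
  intro i j hij
  have h4 := (pow_eq_iff hlp hl1 _ _).mp hij
  push_cast at h4
  have h5 := pow_injOn_Iio_orderOf (x := (q : ZMod p)) (x₁ := (i : ℕ)) (x₂ := (j : ℕ))
    (by rw [ord_six hM h3 h2]; exact i.2) (by rw [ord_six hM h3 h2]; exact j.2) h4
  exact Fin.ext h5

/-- the minimal polynomial has degree at least 6 -/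
theorem six_le_natDegree (hM : p ∣ q ^ 2 - q + 1) (h3 : p ≠ 3) (h2 : p ≠ 2) {l : Ω} (hlp : l ^ p = 1) (hl1 : l ≠ 1) :
    6 ≤ (minpoly K l).natDegree := by
  have hint : IsIntegral K l := Algebra.IsIntegral.isIntegral l
  haveI : FiniteDimensional K (IntermediateField.adjoin K {l}) := IntermediateField.adjoin.finiteDimensional hint
  haveI : Finite (IntermediateField.adjoin K {l}) := Module.finite_of_finite K
  letI : Fintype (IntermediateField.adjoin K {l}) := Fintype.ofFinite _
  have hcard : Fintype.card (IntermediateField.adjoin K {l}) = q ^ (minpoly K l).natDegree := by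
    rw [← IntermediateField.adjoin.finrank hint]
    exact Module.card_eq_pow_finrank
  have h4 := FiniteField.pow_card (IntermediateField.AdjoinSimple.gen K l)
  rw [hcard] at h4
  have h5 : l ^ q ^ (minpoly K l).natDegree = l ^ q ^ 0 := by
    have := congrArg (algebraMap (IntermediateField.adjoin K {l}) Ω) h4
    rw [map_pow, IntermediateField.AdjoinSimple.algebraMap_gen] at this
    rw [this, pow_zero, pow_one]
  have h6 := (pow_eq_iff hlp hl1 _ _).mp h5
  push_cast at h6
  rw [pow_zero] at h6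
  have h7 := orderOf_dvd_of_pow_eq_one h6
  rw [ord_six hM h3 h2] at h7
  exact Nat.le_of_dvd (minpoly.natDegree_pos hint) h7

end arith

/-- the linear map of a matrix over the algebraic closure -/
noncomputable abbrev L (A : M7) : Module.End Ω (Fin 7 → Ω) := Matrix.toLin' (up A)

theorem eig_of {A : M7} {v : Fin 7 → Ω} {μ : Ω} (h : up A *ᵥ v = μ • v) (hv : v ≠ 0) :
    (L A).HasEigenvector μ v := by
  refine ⟨?_, hv⟩
  rw [Module.End.mem_eigenspace_iff, Matrix.toLin'_apply]
  exact h

/-- the eigenspace of a non-trivial `p`-th root of unity is one-dimensional -/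
theorem finrank_eig {p : ℕ} [Fact p.Prime] (hM : p ∣ q ^ 2 - q + 1) (h3 : p ≠ 3) (h2 : p ≠ 2) {l : Ω} (hlp : l ^ p = 1) (hl1 : l ≠ 1)
    (A : M7) : Module.finrank Ω ((L A).eigenspace l) ≤ 1 := by
  by_cases hev : (L A).HasEigenvalue l
  swap
  · have : (L A).eigenspace l = ⊥ := by
      rw [Module.End.hasEigenvalue_iff, not_not] at hev; exact hev
    rw [this]; simp
  have h4 := LinearMap.finrank_genEigenspace_le (L A) l 1
  refine h4.trans ?_
  have hch : (L A).charpoly = (A.charpoly).map (algebraMap K Ω) := by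
    have h0 : LinearMap.toMatrix (Pi.basisFun Ω (Fin 7)) (Pi.basisFun Ω (Fin 7)) (L A) = up A := by
      rw [LinearMap.toMatrix_eq_toMatrix', LinearMap.toMatrix'_toLin']
    rw [← Matrix.charpoly_map, ← LinearMap.charpoly_toMatrix (L A) (Pi.basisFun Ω (Fin 7)), h0]
    rfl
  rw [hch]
  have hroot : aeval l A.charpoly = 0 := by
    have h6 := Module.End.hasEigenvalue_iff_isRoot_charpoly (L A) l |>.mp hev
    rw [hch, IsRoot, eval_map_algebraMap] at h6
    exact h6
  have hint : IsIntegral K l := Algebra.IsIntegral.isIntegral l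
  obtain ⟨g, hg⟩ := minpoly.dvd K l hroot
  have hχ0 : A.charpoly ≠ 0 := (Matrix.charpoly_monic A).ne_zero
  have hf0 : minpoly K l ≠ 0 := minpoly.ne_zero hint
  have hg0 : g ≠ 0 := by rintro rfl; rw [mul_zero] at hg; exact hχ0 hg
  rw [hg, Polynomial.map_mul, rootMultiplicity_mul (by
    rw [← Polynomial.map_mul, ← hg]; exact Polynomial.map_ne_zero hχ0)]
  have h7 : rootMultiplicity l ((minpoly K l).map (algebraMap K Ω)) ≤ 1 := by
    apply rootMultiplicity_le_one_of_separable
    exact Separable.map (Algebra.IsSeparable.isSeparable K l)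
  have h8 : rootMultiplicity l (g.map (algebraMap K Ω)) = 0 := by
    by_contra hne
    have h9 : IsRoot (g.map (algebraMap K Ω)) l := (rootMultiplicity_pos (Polynomial.map_ne_zero hg0)).mp (Nat.pos_of_ne_zero hne)
    rw [IsRoot, eval_map_algebraMap] at h9
    obtain ⟨g', hg'⟩ := minpoly.dvd K l h9
    have h10 := six_le_natDegree hM h3 h2 hlp hl1
    have h11 : A.charpoly.natDegree = 7 := by rw [Matrix.charpoly_natDegree_eq_dim]; rfl
    have hg'0 : g' ≠ 0 := by rintro rfl; rw [mul_zero] at hg'; exact hg0 hg'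
    rw [hg, natDegree_mul hf0 hg0, hg', natDegree_mul hf0 hg'0] at h11
    omega
  omega

/-- a non-identity matrix of order `p` has an eigenvector with eigenvalue a non-trivial `p`-th root of unity -/
theorem exists_eig {p : ℕ} [Fact p.Prime] (hpK : (p : K) ≠ 0) {A : M7} (hA : A ^ p = 1) (hA1 : A ≠ 1) :
    ∃ (l : Ω) (w : Fin 7 → Ω), l ^ p = 1 ∧ l ≠ 1 ∧ w ≠ 0 ∧ up A *ᵥ w = l • w := by
  have hB : up A - 1 ≠ 0 := by
    intro h
    rw [sub_eq_zero, ← up_one] at h
    exact hA1 (up_inj h)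
  set f : Module.End Ω (Fin 7 → Ω) := L A with hf
  set W : Submodule Ω (Fin 7 → Ω) := LinearMap.range (f - 1) with hW
  have hWne : W ≠ ⊥ := by
    intro h
    rw [hW, LinearMap.range_eq_bot] at h
    apply hB
    ext i j
    have := congrFun (LinearMap.congr_fun h (Pi.single j 1)) i
    have e1 : (f - 1) (Pi.single j 1) = (up A - 1) *ᵥ (Pi.single j 1) := by
      rw [LinearMap.sub_apply, Module.End.one_apply, hf, Matrix.toLin'_apply, Matrix.sub_mulVec, Matrix.one_mulVec]
    rw [e1, Matrix.mulVec_single_one] at this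
    exact this
  have hinv : ∀ x ∈ W, f x ∈ W := by
    rintro _ ⟨u, rfl⟩
    refine ⟨f u, ?_⟩
    simp [LinearMap.sub_apply]
  haveI : Nontrivial W := Submodule.nontrivial_iff_ne_bot.mpr hWne
  obtain ⟨μ, hμ⟩ := Module.End.exists_eigenvalue (f.restrict hinv)
  obtain ⟨⟨w, hwW⟩, hw1, hw2⟩ := hμ.exists_hasEigenvector
  rw [Module.End.mem_eigenspace_iff] at hw1
  have hw0 : w ≠ 0 := fun h => hw2 (Subtype.ext h)
  have hfw : f w = μ • w := congrArg Subtype.val hw1
  have hAw : up A *ᵥ w = μ • w := by rw [← Matrix.toLin'_apply]; exact hfw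
  have hpow : ∀ n : ℕ, (up A ^ n) *ᵥ w = μ ^ n • w := by
    intro n
    induction n with
    | zero => simp
    | succ k ih => rw [pow_succ', ← Matrix.mulVec_mulVec, ih, Matrix.mulVec_smul, hAw, smul_smul, pow_succ]
  have hμp : μ ^ p = 1 := by
    have h1 := hpow p
    rw [← up_pow, hA, up_one, Matrix.one_mulVec] at h1
    have h2 : (μ ^ p - 1) • w = 0 := by rw [sub_smul, ← h1, one_smul, sub_self]
    rcases smul_eq_zero.mp h2 with h | h
    · exact sub_eq_zero.mp h
    · exact absurd h hw0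
  refine ⟨μ, w, hμp, ?_, hw0, hAw⟩
  rintro rfl
  obtain ⟨u, hu⟩ := hwW
  have hAu : up A *ᵥ u = u + w := by
    have : f u - u = w := hu
    rw [← this]
    show f u = u + (f u - u)
    abel
  rw [one_smul] at hAw
  have h3 : ∀ n : ℕ, (up A ^ n) *ᵥ u = u + (n : Ω) • w := by
    intro n
    induction n with
    | zero => simp
    | succ k ih =>
      rw [pow_succ', ← Matrix.mulVec_mulVec, ih, Matrix.mulVec_add, Matrix.mulVec_smul, hAw, hAu]
      push_cast
      rw [add_smul, one_smul]; abel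
  have h4 := h3 p
  rw [← up_pow, hA, up_one, Matrix.one_mulVec] at h4
  have h5 : (p : Ω) • w = 0 := by
    have := h4.symm
    rwa [add_eq_left] at this
  rcases smul_eq_zero.mp h5 with h | h
  · apply hpK
    apply (algebraMap K Ω).injective
    rw [map_natCast, h, map_zero]
  · exact hw0 h

/-- matrices commuting with `A` act on the eigenvector by scalars -/
theorem exists_scalar {p : ℕ} [Fact p.Prime] (hM : p ∣ q ^ 2 - q + 1) (h3 : p ≠ 3) (h2 : p ≠ 2) {l : Ω} (hlp : l ^ p = 1)
    (hl1 : l ≠ 1) {A : M7} {w : Fin 7 → Ω} (hw0 : w ≠ 0) (hw : up A *ᵥ w = l • w) {c : M7} (hc : c * A = A * c) :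
    ∃ χ : Ω, up c *ᵥ w = χ • w := by
  have hwE : w ∈ (L A).eigenspace l := (eig_of hw hw0).1
  have hcE : up c *ᵥ w ∈ (L A).eigenspace l := by
    rw [Module.End.mem_eigenspace_iff, Matrix.toLin'_apply, Matrix.mulVec_mulVec, ← up_mul, ← hc, up_mul,
      ← Matrix.mulVec_mulVec, hw, Matrix.mulVec_smul]
  have hfr := finrank_eig hM h3 h2 hlp hl1 A
  have hpos : 0 < Module.finrank Ω ((L A).eigenspace l) := by
    haveI : Nontrivial ((L A).eigenspace l) := ⟨⟨⟨w, hwE⟩, 0, fun h => hw0 (congrArg Subtype.val h)⟩⟩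
    exact Module.finrank_pos
  have h1 : Module.finrank Ω ((L A).eigenspace l) = 1 := by omega
  obtain ⟨χ, hχ⟩ := exists_smul_eq_of_finrank_eq_one h1 (x := ⟨w, hwE⟩) (fun h => hw0 (congrArg Subtype.val h)) ⟨_, hcE⟩
  exact ⟨χ, (congrArg Subtype.val hχ).symm⟩

/-- a matrix commuting with `A` fixing the eigenvector has order dividing `3 (q - 1)` -/
theorem pow_eq_one {p : ℕ} [Fact p.Prime] (hM : p ∣ q ^ 2 - q + 1) (h3 : p ≠ 3) (h2 : p ≠ 2) {l : Ω} (hlp : l ^ p = 1)
    (hl1 : l ≠ 1) {A : M7} {w : Fin 7 → Ω} (hw0 : w ≠ 0) (hw : up A *ᵥ w = l • w) {c : M7} (hcinv : IsUnit c)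
    (hcw : up c *ᵥ w = w) {r : ℕ} (hr : (r : K) = 0) : c ^ (r * (q - 1)) = 1 := by
  set N : M7 := c - 1 with hN
  have hcN : c = 1 + N := by rw [hN]; abel
  -- the six conjugate eigenvectors
  set v : Fin 6 → Fin 7 → Ω := fun i k => w k ^ q ^ (i : ℕ) with hv
  have hv0 : ∀ i, v i ≠ 0 := by
    intro i h
    apply hw0
    ext k
    have := congrFun h k
    exact pow_eq_zero_iff (pow_ne_zero _ Fintype.card_ne_zero) |>.mp this
  have hLI : LinearIndependent Ω v :=
    Module.End.eigenvectors_linearIndependent' (L A) (fun i : Fin 6 => l ^ q ^ (i : ℕ)) (pow_inj hM h3 h2 hlp hl1) v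
      (fun i => eig_of (eig_fr hw i) (hv0 i))
  have hcv : ∀ i, up c *ᵥ v i = v i := by
    intro i
    have := eig_fr (A := c) (v := w) (μ := 1) (by rw [one_smul]; exact hcw) i
    rw [one_pow, one_smul] at this
    exact this
  have hker : ∀ i, v i ∈ LinearMap.ker (L N) := by
    intro i
    rw [LinearMap.mem_ker, Matrix.toLin'_apply]
    have e : up N = up c - 1 := by
      rw [hN, up, Matrix.map_sub _ (fun a b => map_sub _ a b)]
      congr 1
      exact up_one
    rw [e, Matrix.sub_mulVec, hcv, Matrix.one_mulVec, sub_self]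
  have hk6 : 6 ≤ Module.finrank Ω (LinearMap.ker (L N)) := by
    have h1 : LinearIndependent Ω (fun i => (⟨v i, hker i⟩ : LinearMap.ker (L N))) := by
      apply LinearIndependent.of_comp (LinearMap.ker (L N)).subtype
      exact hLI
    simpa using h1.fintype_card_le_finrank
  have hr1 : Module.finrank Ω (LinearMap.range (L N)) ≤ 1 := by
    have := LinearMap.finrank_range_add_finrank_ker (L N)
    rw [Module.finrank_fin_fun] at this
    omega
  -- `N² = s N`
  obtain ⟨s, hs⟩ : ∃ s : Ω, ∀ x : Fin 7 → Ω, L N (L N x) = s • L N x := by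
    obtain ⟨⟨u, hu⟩, hu2⟩ := finrank_le_one_iff.mp hr1
    have key : ∀ x : Fin 7 → Ω, ∃ a : Ω, L N x = a • u := by
      intro x
      obtain ⟨a, ha⟩ := hu2 ⟨L N x, LinearMap.mem_range_self _ x⟩
      exact ⟨a, (congrArg Subtype.val ha).symm⟩
    obtain ⟨s, hs⟩ := key u
    refine ⟨s, fun x => ?_⟩
    obtain ⟨a, ha⟩ := key x
    rw [ha, map_smul, hs, smul_smul, smul_smul, mul_comm]
  have hNN : up N * up N = s • up N := by
    apply Matrix.toLin'.injective
    apply LinearMap.ext
    intro x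
    rw [Matrix.toLin'_mul, LinearMap.comp_apply, map_smul, LinearMap.smul_apply]
    exact hs x
  by_cases hN0 : N = 0
  · rw [hcN, hN0, add_zero, one_pow]
  obtain ⟨i, j, hij⟩ : ∃ i j, N i j ≠ 0 := by
    by_contra hcon
    push Not at hcon
    exact hN0 (by ext i j; exact hcon i j)
  set s0 : K := (N * N) i j / N i j with hs0
  have hss : s = algebraMap K Ω s0 := by
    have h1 := congrFun (congrFun hNN i) j
    rw [← up_mul] at h1
    have h4 : algebraMap K Ω ((N * N) i j) = s * algebraMap K Ω (N i j) := h1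
    have h5 : algebraMap K Ω (N i j) ≠ 0 := by
      intro h
      exact hij ((algebraMap K Ω).injective (by rw [h, map_zero]))
    rw [hs0, map_div₀, h4, mul_div_cancel_right₀ _ h5]
  have hNN0 : N * N = s0 • N := by
    apply up_inj
    rw [up_mul, hNN, hss]
    ext i j
    show algebraMap K Ω s0 * algebraMap K Ω (N i j) = algebraMap K Ω (s0 * N i j)
    rw [map_mul]
  -- powers
  have hpow : ∀ n : ℕ, ∃ a : K, c ^ n = 1 + a • N ∧ s0 * a = (1 + s0) ^ n - 1 ∧ (s0 = 0 → a = n) := by
    intro n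
    induction n with
    | zero => exact ⟨0, by simp, by simp, by simp⟩
    | succ k ih =>
      obtain ⟨a, h1, h4, h5⟩ := ih
      refine ⟨a * (1 + s0) + 1, ?_, ?_, ?_⟩
      · rw [pow_succ, h1, hcN, mul_add, mul_one, add_mul, one_mul, Matrix.smul_mul, hNN0]
        rw [add_smul, one_smul, mul_add, mul_one, add_smul, mul_smul]
        abel
      · rw [pow_succ]; linear_combination (1 + s0) * h4
      · intro h
        rw [h5 h, h]; push_cast; ring
  by_cases hs00 : s0 = 0
  · obtain ⟨a, h1, -, h5⟩ := hpow (r * (q - 1))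
    rw [h1, h5 hs00]
    push_cast
    rw [hr, zero_mul, zero_smul, add_zero]
  · obtain ⟨a, h1, h4, -⟩ := hpow (q - 1)
    have hne : 1 + s0 ≠ 0 := by
      intro h
      apply hN0
      have h5 : c * N = 0 := by
        rw [hcN, add_mul, one_mul, hNN0]
        have : N + s0 • N = (1 + s0) • N := by rw [add_smul, one_smul]
        rw [this, h, zero_smul]
      exact hcinv.mul_right_eq_zero.mp h5
    rw [FiniteField.pow_card_sub_one_eq_one _ hne, sub_self] at h4
    have ha : a = 0 := (mul_eq_zero.mp h4).resolve_left hs00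
    rw [ha, zero_smul, add_zero] at h1
    rw [mul_comm, pow_mul, h1, one_pow]

/-- normalizing matrices act on `⟨A⟩` through a group of order dividing 6 -/
theorem pow_six {p : ℕ} [Fact p.Prime] (hM : p ∣ q ^ 2 - q + 1) (h3 : p ≠ 3) (h2 : p ≠ 2) {l : Ω} (hlp : l ^ p = 1)
    (hl1 : l ≠ 1) {A : M7} {w : Fin 7 → Ω} (hw0 : w ≠ 0) (hw : up A *ᵥ w = l • w) (hAp : A ^ p = 1) {n : M7} (hn : IsUnit n) {k : ℕ}
    (hk : n * A = A ^ k * n) (hkp : (k : ZMod p) ≠ 0) : (k : ZMod p) ^ 6 = 1 := by
  have hp : p.Prime := Fact.out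
  -- `j` inverse to `k`
  set j : ℕ := ((k : ZMod p)⁻¹).val with hj
  have hjk : (k : ZMod p) * (j : ZMod p) = 1 := by
    rw [hj, ZMod.natCast_zmod_val, mul_inv_cancel₀ hkp]
  have hj0 : (j : ZMod p) ≠ 0 := right_ne_zero_of_mul_eq_one hjk
  set u := up n *ᵥ w with hu
  have hu0 : u ≠ 0 := by
    intro h
    obtain ⟨n', hn'⟩ := hn.exists_left_inv
    apply hw0
    have : up n' *ᵥ (up n *ᵥ w) = w := by rw [Matrix.mulVec_mulVec, ← up_mul, hn', up_one, Matrix.one_mulVec]
    rw [← this, ← hu, h, Matrix.mulVec_zero]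
  have hAk : up (A ^ k) *ᵥ u = l • u := by
    rw [hu, Matrix.mulVec_mulVec, ← up_mul, ← hk, up_mul, ← Matrix.mulVec_mulVec, hw, Matrix.mulVec_smul]
  have hpow : ∀ r : ℕ, (up (A ^ k) ^ r) *ᵥ u = l ^ r • u := by
    intro r
    induction r with
    | zero => simp
    | succ k ih => rw [pow_succ', ← Matrix.mulVec_mulVec, ih, Matrix.mulVec_smul, hAk, smul_smul, pow_succ]
  have hAj : up A *ᵥ u = l ^ j • u := by
    have h4 := hpow j
    rw [← up_pow, ← pow_mul] at h4
    have h5 : A ^ (k * j) = A := by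
      have h6 : k * j ≡ 1 [MOD p] := by
        rw [← ZMod.natCast_eq_natCast_iff]; push_cast; rw [hjk]
      have h7 : A ^ (k * j) = A ^ 1 := by
        have e1 : ∀ m : ℕ, A ^ m = A ^ (m % p) := by
          intro m
          conv_lhs => rw [← Nat.div_add_mod m p, pow_add, pow_mul, hAp, one_pow, one_mul]
        rw [e1 (k * j), e1 1, h6]
      rw [h7, pow_one]
    rw [h5] at h4
    exact h4
  have hlj1 : l ^ j ≠ 1 := by
    intro h
    have h4 : l ^ j = l ^ 0 := by rw [h, pow_zero]
    have h5 := (pow_eq_iff hlp hl1 _ _).mp h4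
    push_cast at h5
    exact hj0 h5
  have hljp : (l ^ j) ^ p = 1 := by rw [← pow_mul, mul_comm, pow_mul, hlp, one_pow]
  -- if `l ^ j` is not conjugate to `l` we get 12 eigenvalues
  have hex : ∃ i i' : Fin 6, l ^ q ^ (i : ℕ) = (l ^ j) ^ q ^ (i' : ℕ) := by
    by_contra hcon
    push Not at hcon
    set μ : Fin 6 ⊕ Fin 6 → Ω := Sum.elim (fun i => l ^ q ^ (i : ℕ)) (fun i => (l ^ j) ^ q ^ (i : ℕ)) with hμ
    have hμinj : Function.Injective μ := by
      rintro (a | a) (b | b) hab
      · exact congrArg _ (pow_inj hM h3 h2 hlp hl1 hab)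
      · exact absurd hab (hcon a b)
      · exact absurd hab.symm (hcon b a)
      · exact congrArg _ (pow_inj hM h3 h2 hljp hlj1 hab)
    set v : Fin 6 ⊕ Fin 6 → Fin 7 → Ω := Sum.elim (fun i k => w k ^ q ^ (i : ℕ)) (fun i k => u k ^ q ^ (i : ℕ)) with hv
    have hne : ∀ (x : Fin 7 → Ω), x ≠ 0 → ∀ i : ℕ, (fun k => x k ^ q ^ i) ≠ 0 := by
      intro x hx i h
      apply hx
      ext k
      have := congrFun h k
      exact pow_eq_zero_iff (pow_ne_zero _ Fintype.card_ne_zero) |>.mp this
    have hLI : LinearIndependent Ω v :=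
      Module.End.eigenvectors_linearIndependent' (L A) μ hμinj v (by
        rintro (a | a)
        · exact eig_of (eig_fr hw a) (hne w hw0 a)
        · exact eig_of (eig_fr hAj a) (hne u hu0 a))
    have := hLI.fintype_card_le_finrank
    rw [Module.finrank_fin_fun] at this
    simp at this
  obtain ⟨i, i', hii⟩ := hex
  rw [← pow_mul] at hii
  have h4 := (pow_eq_iff hlp hl1 _ _).mp hii
  push_cast at h4
  have h5 : (q : ZMod p) ^ 6 = 1 := by rw [← ord_six hM h3 h2]; exact pow_orderOf_eq_one _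
  have h6 : (j : ZMod p) ^ 6 = 1 := by
    have h7 : ((q : ZMod p) ^ (i : ℕ)) ^ 6 = ((j : ZMod p) * (q : ZMod p) ^ (i' : ℕ)) ^ 6 := by rw [h4]
    rw [mul_pow, ← pow_mul, ← pow_mul, mul_comm (i : ℕ) 6, mul_comm (i' : ℕ) 6, pow_mul, pow_mul, h5, one_pow, one_pow,
      mul_one] at h7
    exact h7.symm
  have h8 : ((k : ZMod p) * (j : ZMod p)) ^ 6 = 1 := by rw [hjk, one_pow]
  rw [mul_pow, h6, mul_one] at h8
  exact h8

end Cfsg.Agent.Lib.ReeRep
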