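import Mathlib
import Cfsg.Agent.Lib.ReeL
import Cfsg.Agent.Lib.ReeRep7

/-!
Abstract small Ree groups, part M: elements of order dividing `q² - q + 1` (helper18).
-/

set_option autoImplicit false
set_option linter.unusedSectionVars false

namespace Cfsg.Agent.Lib.ReeA.RD

open Cfsg.Agent.Lib.ReePSL Cfsg.Agent.Lib.ReeA Cfsg.Agent.Lib.H53Ree Cfsg.Agent.Lib.H53PSL2 Cfsg.Agent.Lib.ReeB
open Cfsg.Agent.Lib.ReeD Cfsg.Agent.Lib.ReeG Cfsg.Agent.Lib.ReeT

variable {G : Type*} [Group G] [Finite G] {K : Type*} [Field K] [Fintype K] {m : ℕ} (D : RD G K m)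

local notation "q" => Fintype.card K
local notation "PSL2" => Matrix.ProjectiveSpecialLinearGroup (Fin 2) K
local notation "M7" => Matrix (Fin 7) (Fin 7) K

/-- elements commuting with a `Q`-element of prime order have no bad prime divisors of the order -/
theorem Q_comm_prime (D : RD G K m) {x : G} {p : ℕ} (hp : p.Prime) (hx : orderOf x = p) (hpM : p ∣ q ^ 2 - q + 1) {c : G} {r : ℕ}
    (hr : r.Prime) (hc : orderOf c = r) (hcx : c * x = x * c) : r ∣ q ^ 2 - q + 1 := by
  obtain ⟨hpq, hpq1, hpq2, hp3, hp2⟩ := D.cop_prime hp hpM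
  have hx1 : x ≠ 1 := by rintro rfl; rw [orderOf_one] at hx; exact hp.one_lt.ne hx
  have hc1 : c ≠ 1 := by rintro rfl; rw [orderOf_one] at hc; exact hr.one_lt.ne hc
  have hxG : p ∣ q ^ 2 - q + 1 := hpM
  have hrG : r ∣ q ^ 3 * ((q - 1) * (q + 1)) * (q ^ 2 - q + 1) := by
    rw [← D.card_G', ← hc]; exact orderOf_dvd_natCard c
  rcases hr.dvd_mul.mp hrG with h1 | h1
  swap
  · exact h1
  exfalso
  have hno : ∀ y : G ⧸ D.B, x • y ≠ y := by
    have h0 := D.fixN_zero_iff.mpr (Or.inr (⟨hx1, hx ▸ hpM⟩ : D.IsQ x))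
    intro y hy
    rw [fixN, Nat.card_eq_zero] at h0
    rcases h0 with h | h
    · exact h.false ⟨y, hy⟩
    · exact h.not_finite inferInstance
  rcases hr.dvd_mul.mp h1 with h2 | h2
  · -- `r = 3`
    have h3 := hr.dvd_of_dvd_pow h2
    rw [D.hK] at h3
    have hr3 := (Nat.prime_dvd_prime_iff_eq hr Nat.prime_three).mp (hr.dvd_of_dvd_pow h3)
    rw [hr3] at hc
    have hP : IsPGroup 3 (Subgroup.zpowers c) := by
      apply IsPGroup.of_card (n := 1)
      rw [Nat.card_zpowers, hc, pow_one]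
    obtain ⟨y, hy⟩ := D.three_fix hP
    exact hno y (D.comm_fix hc1 hP hcx.symm (hy c (Subgroup.mem_zpowers c)))
  · by_cases hr2 : r = 2
    · rw [hr2] at hc
      have hcc : c * c = 1 := by rw [← pow_two, ← hc]; exact pow_orderOf_eq_one c
      have h4 := D.card_cent hc1 hcc
      have h5 : orderOf x ∣ Nat.card (Subgroup.centralizer ({c} : Set G)) := by
        have h6 : x ∈ Subgroup.centralizer ({c} : Set G) := by
          rw [Subgroup.mem_centralizer_iff]
          rintro _ rfl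
          exact hcx
        exact Subgroup.orderOf_dvd_natCard _ h6
      rw [h4, hx] at h5
      have hq := D.q_ge
      have h7 : q ^ 2 - 1 = (q - 1) * (q + 1) := by
        have : 1 ≤ q := by omega
        have h8 : 1 ≤ q ^ 2 := Nat.one_le_pow _ _ (by omega)
        zify [this, h8]; ring
      rw [h7] at h5
      rcases hp.dvd_mul.mp h5 with h8 | h8
      · exact hpq h8
      · rcases hp.dvd_mul.mp h8 with h9 | h9
        · exact hpq1 h9
        · exact hpq2 h9
    · rcases hr.dvd_mul.mp h2 with h3 | h3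
      · have hcc : c * c ≠ 1 := sq_ne_of_odd hc1 (by rw [hc]; exact hr.odd_of_ne_two hr2)
        obtain ⟨a, ha⟩ := D.conj_H_of_order hcc (by rw [hc]; exact h3)
        have h5 : a * x * a⁻¹ ∈ D.H := by
          apply D.cent_H ha
          · intro h; apply hcc
            have : c * c = a⁻¹ * (a * c * a⁻¹ * (a * c * a⁻¹)) * a := by group
            rw [this, h]; group
          · calc a * x * a⁻¹ * (a * c * a⁻¹) = a * (x * c) * a⁻¹ := by group
              _ = a * (c * x) * a⁻¹ := by rw [hcx]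
              _ = _ := by group
        apply hpq1
        have h6 := D.orderOf_H h5
        have h7 := (MulAut.conj a).orderOf_eq x
        rw [MulAut.conj_apply] at h7
        rw [h7, hx] at h6
        exact h6
      · have hE : D.IsE c := ⟨hc1, by rw [hc]; exact hr.odd_of_ne_two hr2, by rw [hc]; exact h3⟩
        have h4 := D.E_card hE
        apply hpq2
        rw [← h4, ← hx]
        apply Subgroup.orderOf_dvd_natCard
        rw [Subgroup.mem_centralizer_iff]
        rintro _ rfl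
        exact hcx

theorem Q_comm (D : RD G K m) {x : G} {p : ℕ} (hp : p.Prime) (hx : orderOf x = p) (hpM : p ∣ q ^ 2 - q + 1) {c : G}
    (hcx : c * x = x * c) : orderOf c ∣ q ^ 2 - q + 1 := by
  have hco : 0 < orderOf c := orderOf_pos c
  have h5 : orderOf c ∣ q ^ 3 * ((q - 1) * (q + 1)) * (q ^ 2 - q + 1) := by
    rw [← D.card_G']; exact orderOf_dvd_natCard c
  refine Nat.Coprime.dvd_of_dvd_mul_left ?_ h5
  rw [Nat.coprime_iff_gcd_eq_one]
  by_contra hne
  obtain ⟨r, hr, hrd⟩ := Nat.exists_prime_and_dvd hne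
  have h6 := hrd.trans (Nat.gcd_dvd_left _ _)
  have h7 := hrd.trans (Nat.gcd_dvd_right _ _)
  have ho : orderOf (c ^ (orderOf c / r)) = r := orderOf_pow_orderOf_div hco.ne' h6
  have h8 := D.Q_comm_prime hp hx hpM hr ho (by
    exact ((show Commute c x from hcx).pow_left _).eq)
  obtain ⟨a1, a2, a3, a4, a5⟩ := D.cop_prime hr h8
  rcases hr.dvd_mul.mp h7 with h9 | h9
  · exact a1 (hr.dvd_of_dvd_pow h9)
  · rcases hr.dvd_mul.mp h9 with h9 | h9
    · exact a2 h9
    · exact a3 h9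

section rep

variable (ρ : G →* Matrix (Fin 7) (Fin 7) K) (hρ : Function.Injective ρ)

theorem pcast (D : RD G K m) {p : ℕ} (hp : p.Prime) (hpM : p ∣ q ^ 2 - q + 1) : (p : K) ≠ 0 := by
  haveI := D.charP
  intro h
  have h1 : 3 ∣ p := (CharP.cast_eq_zero_iff K 3 p).mp h
  exact (D.cop_prime hp hpM).2.2.2.1 ((Nat.prime_dvd_prime_iff_eq Nat.prime_three hp).mp h1).symm

include D hρ

theorem Q_eig {x : G} {p : ℕ} (hp : p.Prime) (hx : orderOf x = p) (hpM : p ∣ q ^ 2 - q + 1) :
    ∃ (l : AlgebraicClosure K) (w : Fin 7 → AlgebraicClosure K), l ^ p = 1 ∧ l ≠ 1 ∧ w ≠ 0 ∧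
      (Cfsg.Agent.Lib.ReeRep.up (ρ x)).mulVec w = l • w := by
  haveI : Fact p.Prime := ⟨hp⟩
  apply Cfsg.Agent.Lib.ReeRep.exists_eig (D.pcast hp hpM)
  · rw [← map_pow, ← hx, pow_orderOf_eq_one, map_one]
  · intro h
    have : x = 1 := hρ (by rw [h, map_one])
    rw [this, orderOf_one] at hx
    exact hp.one_lt.ne hx

theorem Q_cyclic {x : G} {p : ℕ} (hp : p.Prime) (hx : orderOf x = p) (hpM : p ∣ q ^ 2 - q + 1) :
    IsCyclic (Subgroup.centralizer ({x} : Set G)) := by
  haveI : Fact p.Prime := ⟨hp⟩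
  obtain ⟨hpq, hpq1, hpq2, hp3, hp2⟩ := D.cop_prime hp hpM
  obtain ⟨l, w, hlp, hl1, hw0, hw⟩ := D.Q_eig ρ hρ hp hx hpM
  have hcomm : ∀ c : Subgroup.centralizer ({x} : Set G), (c : G) * x = x * c := by
    intro c
    exact (Subgroup.mem_centralizer_iff.mp c.2 x rfl).symm
  have hex : ∀ c : Subgroup.centralizer ({x} : Set G), ∃ χ : AlgebraicClosure K,
      (Cfsg.Agent.Lib.ReeRep.up (ρ c)).mulVec w = χ • w := by
    intro c
    apply Cfsg.Agent.Lib.ReeRep.exists_scalar hpM hp3 hp2 hlp hl1 hw0 hw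
    rw [← map_mul, ← map_mul, hcomm c]
  choose χ hχ using hex
  have huniq : ∀ a b : AlgebraicClosure K, a • w = b • w → a = b := by
    intro a b hab
    exact smul_left_injective _ hw0 hab
  have hmul : ∀ c d, χ (c * d) = χ c * χ d := by
    intro c d
    apply huniq
    rw [← hχ (c * d)]
    show (Cfsg.Agent.Lib.ReeRep.up (ρ ((c : G) * d))).mulVec w = _
    rw [map_mul, Cfsg.Agent.Lib.ReeRep.up_mul, ← Matrix.mulVec_mulVec, hχ d, Matrix.mulVec_smul, hχ c, smul_smul, mul_comm]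
  have hone : χ 1 = 1 := by
    apply huniq
    rw [← hχ 1]
    show (Cfsg.Agent.Lib.ReeRep.up (ρ 1)).mulVec w = _
    rw [map_one, Cfsg.Agent.Lib.ReeRep.up_one, Matrix.one_mulVec, one_smul]
  set f : Subgroup.centralizer ({x} : Set G) →* AlgebraicClosure K :=
    { toFun := χ, map_one' := hone, map_mul' := hmul } with hf
  apply isCyclic_of_subgroup_isDomain f
  have hker : ∀ c, f c = 1 → c = 1 := by
    intro c hc
    have hc' : χ c = 1 := hc
    have h1 := hχ c
    rw [hc', one_smul] at h1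
    have hunit : IsUnit (ρ (c : G)) := by
      refine ⟨⟨ρ (c : G), ρ ((c : G)⁻¹), ?_, ?_⟩, rfl⟩
      · rw [← map_mul, mul_inv_cancel, map_one]
      · rw [← map_mul, inv_mul_cancel, map_one]
    haveI := D.charP
    have h2 := Cfsg.Agent.Lib.ReeRep.pow_eq_one hpM hp3 hp2 hlp hl1 hw0 hw hunit h1 (r := 3)
      ((CharP.cast_eq_zero_iff K 3 3).mpr dvd_rfl)
    rw [← map_pow] at h2
    have h3 : (c : G) ^ (3 * (q - 1)) = 1 := hρ (by rw [h2, map_one])
    have h4 := orderOf_dvd_of_pow_eq_one h3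
    have h5 := D.Q_comm hp hx hpM (hcomm c)
    have h6 : orderOf (c : G) = 1 := by
      by_contra hne
      obtain ⟨r, hr, hrd⟩ := Nat.exists_prime_and_dvd hne
      obtain ⟨a1, a2, a3, a4, a5⟩ := D.cop_prime hr (hrd.trans h5)
      rcases hr.dvd_mul.mp (hrd.trans h4) with h9 | h9
      · exact a4 ((Nat.prime_dvd_prime_iff_eq hr Nat.prime_three).mp h9)
      · exact a2 h9
    exact Subtype.ext (orderOf_eq_one_iff.mp h6)
  intro a b hab
  have h1 : f (a * b⁻¹) = 1 := by
    have h2 : f b * f b⁻¹ = 1 := by rw [← map_mul, mul_inv_cancel, map_one]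
    rw [map_mul, hab, h2]
  have h2 := hker _ h1
  rwa [mul_inv_eq_one] at h2

/-- the index of the centralizer in the normalizer of a subgroup of order `p` divides 6 -/
theorem Q_norm {x : G} {p : ℕ} (hp : p.Prime) (hx : orderOf x = p) (hpM : p ∣ q ^ 2 - q + 1) :
    ∃ w : ℕ, w ∣ 6 ∧ Nat.card (Subgroup.normalizer (Subgroup.zpowers x : Set G)) =
      w * Nat.card (Subgroup.centralizer ({x} : Set G)) := by
  classical
  haveI : Fact p.Prime := ⟨hp⟩
  obtain ⟨hpq, hpq1, hpq2, hp3, hp2⟩ := D.cop_prime hp hpM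
  obtain ⟨l, v, hlp, hl1, hv0, hv⟩ := D.Q_eig ρ hρ hp hx hpM
  have hx1 : x ≠ 1 := by rintro rfl; rw [orderOf_one] at hx; exact hp.one_lt.ne hx
  set N := Subgroup.normalizer (Subgroup.zpowers x : Set G) with hN
  -- exponents
  have hex : ∀ n : N, ∃ k : ZMod p, (n : G) * x * (n : G)⁻¹ = x ^ k.val := by
    intro n
    have h1 := (Subgroup.mem_normalizer_iff.mp n.2 x).mp (Subgroup.mem_zpowers x)
    obtain ⟨k, hk⟩ := (mem_powers_iff_mem_zpowers.mpr h1)
    refine ⟨(k : ZMod p), ?_⟩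
    rw [← hk, ZMod.val_natCast]
    show x ^ k = _
    rw [← hx, pow_mod_orderOf]
  choose κ hκ using hex
  have hinj : ∀ a b : ZMod p, x ^ a.val = x ^ b.val → a = b := by
    intro a b hab
    have h1 := pow_inj_mod.mp hab
    rw [hx, Nat.mod_eq_of_lt (ZMod.val_lt a), Nat.mod_eq_of_lt (ZMod.val_lt b)] at h1
    exact ZMod.val_injective p h1
  have hpowval : ∀ (a b : ZMod p), x ^ (a.val * b.val) = x ^ (a * b).val := by
    intro a b
    rw [pow_inj_mod, hx, ZMod.val_mul, Nat.mod_mod]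
  have hmul : ∀ a b : N, κ (a * b) = κ a * κ b := by
    intro a b
    apply hinj
    rw [← hκ, ← hpowval]
    have h1 : ((a * b : N) : G) * x * ((a * b : N) : G)⁻¹ = (a : G) * ((b : G) * x * (b : G)⁻¹) * (a : G)⁻¹ := by
      show ((a : G) * b) * x * ((a : G) * b)⁻¹ = _
      group
    rw [h1, hκ b]
    have h2 : (a : G) * x ^ (κ b).val * (a : G)⁻¹ = ((a : G) * x * (a : G)⁻¹) ^ (κ b).val := conj_pow.symm
    rw [h2, hκ a, ← pow_mul]
  have hone : κ 1 = 1 := by
    apply hinj
    rw [← hκ]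
    haveI : Fact (1 < p) := ⟨hp.one_lt⟩
    rw [ZMod.val_one]
    show (1 : G) * x * (1 : G)⁻¹ = x ^ 1
    group
  set f : N →* ZMod p := { toFun := κ, map_one' := hone, map_mul' := hmul } with hf
  have hf0 : ∀ n, f n ≠ 0 := by
    intro n h
    have h1 : f n * f n⁻¹ = 1 := by rw [← map_mul, mul_inv_cancel, map_one]
    rw [h, zero_mul] at h1
    exact zero_ne_one h1
  have h6 : ∀ n, f n ^ 6 = 1 := by
    intro n
    have hunit : IsUnit (ρ (n : G)) := by
      refine ⟨⟨ρ (n : G), ρ ((n : G)⁻¹), ?_, ?_⟩, rfl⟩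
      · rw [← map_mul, mul_inv_cancel, map_one]
      · rw [← map_mul, inv_mul_cancel, map_one]
    have h1 := Cfsg.Agent.Lib.ReeRep.pow_six hpM hp3 hp2 hlp hl1 hv0 hv
      (by rw [← map_pow, ← hx, pow_orderOf_eq_one, map_one]) hunit (k := (κ n).val) (by
        rw [← map_pow, ← map_mul, ← map_mul]
        congr 1
        rw [← hκ n]; group) (by
        rw [ZMod.natCast_zmod_val]; exact hf0 n)
    rw [ZMod.natCast_zmod_val] at h1
    exact h1
  -- the range of the unit valued hom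
  set F : N →* (ZMod p)ˣ := f.toHomUnits with hF
  have hFv : ∀ n, ((F n : (ZMod p)ˣ) : ZMod p) = f n := fun n => rfl
  have hker : Nat.card F.ker = Nat.card (Subgroup.centralizer ({x} : Set G)) := by
    refine Nat.card_congr ⟨fun n => ⟨(n : N), ?_⟩, fun c => ⟨⟨c, ?_⟩, ?_⟩, fun _ => rfl, fun _ => rfl⟩
    · have h1 : F (n : N) = 1 := n.2
      have h2 : f (n : N) = 1 := by rw [← hFv, h1]; rfl
      rw [Subgroup.mem_centralizer_iff]
      rintro _ rfl
      have h3 := hκ (n : N)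
      have h4 : κ (n : N) = 1 := h2
      haveI : Fact (1 < p) := ⟨hp.one_lt⟩
      rw [h4, ZMod.val_one, pow_one] at h3
      rw [eq_comm, ← mul_inv_eq_iff_eq_mul]
      exact h3
    · rw [hN]
      apply mem_normalizer_of_le
      rintro s ⟨k, rfl⟩
      have h1 : (c : G) * x = x * c := (Subgroup.mem_centralizer_iff.mp c.2 x rfl).symm
      have h2 : (c : G) * x ^ k = x ^ k * c := ((show Commute (c : G) x from h1).zpow_right k).eq
      show (c : G) * x ^ k * (c : G)⁻¹ ∈ _
      rw [h2, mul_inv_cancel_right]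
      exact Subgroup.zpow_mem_zpowers x k
    · have h1 : (c : G) * x = x * c := (Subgroup.mem_centralizer_iff.mp c.2 x rfl).symm
      rw [MonoidHom.mem_ker]
      apply Units.ext
      rw [hFv]
      apply hinj
      show x ^ (κ _).val = _
      rw [← hκ]
      haveI : Fact (1 < p) := ⟨hp.one_lt⟩
      rw [Units.val_one, ZMod.val_one, pow_one]
      show (c : G) * x * (c : G)⁻¹ = x
      rw [h1, mul_inv_cancel_right]
  have hcyc : IsCyclic F.range := inferInstance
  have hdvd : Nat.card F.range ∣ 6 := by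
    obtain ⟨g, hg⟩ := IsCyclic.exists_ofOrder_eq_natCard (α := F.range)
    rw [← hg]
    apply orderOf_dvd_of_pow_eq_one
    obtain ⟨n, hn⟩ := g.2
    apply Subtype.ext
    rw [Subgroup.coe_pow, ← hn]
    apply Units.ext
    rw [Units.val_pow_eq_pow_val, hFv, h6]; rfl
  refine ⟨Nat.card F.range, hdvd, ?_⟩
  rw [← hker, ← Subgroup.card_mul_index F.ker, Subgroup.index_ker, mul_comm]

end rep

end Cfsg.Agent.Lib.ReeA.RD
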