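import Mathlib
import Cfsg.Agent.Lib.ReeM

/-!
Abstract small Ree groups, part N: the two classes of tori of order `q ± r + 1` (helper18).
-/

set_option autoImplicit false
set_option linter.unusedSectionVars false

namespace Cfsg.Agent.Lib.ReeA.RD

open Cfsg.Agent.Lib.ReePSL Cfsg.Agent.Lib.ReeA Cfsg.Agent.Lib.H53Ree Cfsg.Agent.Lib.H53PSL2 Cfsg.Agent.Lib.ReeB
open Cfsg.Agent.Lib.ReeD Cfsg.Agent.Lib.ReeG Cfsg.Agent.Lib.ReeT

variable {G : Type*} [Group G] [Finite G] {K : Type*} [Field K] [Fintype K] {m : ℕ} (D : RD G K m)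

local notation "q" => Fintype.card K

variable (ρ : G →* Matrix (Fin 7) (Fin 7) K) (hρ : Function.Injective ρ)

include D hρ

/-- centralizers of `Q`-elements of prime order are commutative -/
theorem Q_abel {x : G} {p : ℕ} (hp : p.Prime) (hx : orderOf x = p) (hpM : p ∣ q ^ 2 - q + 1) {a b : G}
    (ha : a * x = x * a) (hb : b * x = x * b) : a * b = b * a := by
  have hcyc := D.Q_cyclic ρ hρ hp hx hpM
  letI := hcyc.commGroup
  have hmem : ∀ {c : G}, c * x = x * c → c ∈ Subgroup.centralizer ({x} : Set G) := by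
    intro c hc
    rw [Subgroup.mem_centralizer_iff]
    rintro _ rfl
    exact hc.symm
  have := mul_comm (⟨a, hmem ha⟩ : Subgroup.centralizer ({x} : Set G)) ⟨b, hmem hb⟩
  exact congrArg Subtype.val this

theorem Q_sylow {p : ℕ} [Fact p.Prime] (hpM : p ∣ q ^ 2 - q + 1) (P : Sylow p G) :
    ∃ z ∈ (P : Subgroup G), orderOf z = p ∧ ∀ c ∈ (P : Subgroup G), c * z = z * c := by
  have hp : p.Prime := Fact.out
  have hpG : p ∣ Nat.card G := by rw [D.card_G']; exact hpM.mul_left _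
  have hne : Nontrivial (P : Subgroup G) := by
    rw [Subgroup.nontrivial_iff_ne_bot]
    exact P.ne_bot_of_dvd_card hpG
  haveI : Nontrivial (Subgroup.center (P : Subgroup G)) := P.2.center_nontrivial
  have h1 : p ∣ Nat.card (Subgroup.center (P : Subgroup G)) := by
    have h2 := (P.2.to_subgroup (Subgroup.center (P : Subgroup G)))
    obtain ⟨k, hk⟩ := h2.exists_card_eq
    rw [hk]
    refine dvd_pow_self p ?_
    rintro rfl
    rw [pow_zero] at hk
    exact (Finite.one_lt_card (α := Subgroup.center (P : Subgroup G))).ne' hk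
  obtain ⟨z, hz⟩ := exists_prime_orderOf_dvd_card' p h1
  refine ⟨((z : (P : Subgroup G)) : G), (z : (P : Subgroup G)).2, ?_, ?_⟩
  · rw [Subgroup.orderOf_coe, Subgroup.orderOf_coe]; exact hz
  · intro c hc
    have := Subgroup.mem_center_iff.mp z.2 ⟨c, hc⟩
    exact congrArg Subtype.val this

/-- a Sylow `p`-subgroup centralizes its elements of order `p` -/
theorem sylow_le {p : ℕ} [Fact p.Prime] (hpM : p ∣ q ^ 2 - q + 1) (P : Sylow p G) {y : G}
    (hy : y ∈ (P : Subgroup G)) {c : G} (hc : c ∈ (P : Subgroup G)) : c * y = y * c := by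
  obtain ⟨z, hz, hzo, hzc⟩ := D.Q_sylow ρ hρ hpM P
  exact D.Q_abel ρ hρ Fact.out hzo hpM (hzc c hc) (hzc y hy)

theorem Q_class {p : ℕ} (hp : p.Prime) (hpM : p ∣ q ^ 2 - q + 1) :
    ∃ (A : Subgroup G) (w : ℕ), w ∣ 6 ∧ p ∣ Nat.card A ∧ Nat.card A ∣ q ^ 2 - q + 1 ∧
      Nat.Coprime (Nat.card A) ((q ^ 2 - q + 1) / Nat.card A) ∧ Torus A A (w * Nat.card A) := by
  haveI : Fact p.Prime := ⟨hp⟩
  obtain ⟨P⟩ : Nonempty (Sylow p G) := inferInstance
  obtain ⟨z, hz, hzo, hzc⟩ := D.Q_sylow ρ hρ hpM P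
  set A := Subgroup.centralizer ({z} : Set G) with hA
  have hmem : ∀ {c : G}, c ∈ A ↔ c * z = z * c := by
    intro c
    rw [hA, Subgroup.mem_centralizer_iff]
    constructor
    · intro h; exact (h z rfl).symm
    · rintro h _ rfl; exact h.symm
  have hcyc : IsCyclic A := D.Q_cyclic ρ hρ hp hzo hpM
  have hcomm : ∀ a ∈ A, ∀ b ∈ A, a * b = b * a := fun a ha b hb =>
    D.Q_abel ρ hρ hp hzo hpM (hmem.mp ha) (hmem.mp hb)
  have hAM : Nat.card A ∣ q ^ 2 - q + 1 := by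
    obtain ⟨g, hg⟩ := IsCyclic.exists_ofOrder_eq_natCard (α := A)
    rw [← hg, ← Subgroup.orderOf_coe]
    exact D.Q_comm hp hzo hpM (hmem.mp g.2)
  have hprime : ∀ {r : ℕ}, r.Prime → r ∣ Nat.card A → r ∣ q ^ 2 - q + 1 := fun hr h => h.trans hAM
  -- centralizers of elements
  have hcent : ∀ y ∈ A, y ≠ 1 → ∀ c : G, c * y = y * c → c ∈ A := by
    intro y hy hy1 c hc
    obtain ⟨r, hr, hry⟩ := Nat.exists_prime_and_dvd (show orderOf y ≠ 1 from fun h => hy1 (orderOf_eq_one_iff.mp h))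
    have ho : orderOf (y ^ (orderOf y / r)) = r := orderOf_pow_orderOf_div (orderOf_pos y).ne' hry
    have hrM : r ∣ q ^ 2 - q + 1 := (hry.trans (Subgroup.orderOf_dvd_natCard A hy)).trans hAM
    rw [hmem]
    exact D.Q_abel ρ hρ hr ho hrM ((show Commute c y from hc).pow_right _).eq
      ((show Commute z y from (hmem.mp hy).symm).pow_right _).eq
  -- Sylow subgroups
  have hsyl : ∀ r : ℕ, ∀ hr : r.Prime, r ∣ Nat.card A → ∃ Q : Sylow r G, (Q : Subgroup G) ≤ A := by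
    intro r hr hrA
    haveI : Fact r.Prime := ⟨hr⟩
    obtain ⟨y, hy⟩ := exists_prime_orderOf_dvd_card' r hrA
    have hyo : orderOf (y : G) = r := by rw [Subgroup.orderOf_coe]; exact hy
    have hP : IsPGroup r (Subgroup.zpowers (y : G)) := by
      apply IsPGroup.of_card (n := 1)
      rw [Nat.card_zpowers, hyo, pow_one]
    obtain ⟨Q, hQ⟩ := hP.exists_le_sylow
    refine ⟨Q, ?_⟩
    intro c hc
    refine hcent y y.2 ?_ c ?_
    · intro h; rw [h, orderOf_one] at hyo; exact hr.one_lt.ne hyo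
    · exact D.sylow_le ρ hρ (hprime hr hrA) Q (hQ (Subgroup.mem_zpowers _)) hc
  have hconj : ∀ r : ℕ, r.Prime → r ∣ Nat.card A → ∀ x : G, orderOf x = r → ∃ g : G, g * x * g⁻¹ ∈ A := by
    intro r hr hrA x hx
    haveI : Fact r.Prime := ⟨hr⟩
    obtain ⟨Q, hQ⟩ := hsyl r hr hrA
    have hP : IsPGroup r (Subgroup.zpowers x) := by
      apply IsPGroup.of_card (n := 1)
      rw [Nat.card_zpowers, hx, pow_one]
    obtain ⟨g, hg⟩ := Cfsg.Agent.Lib.ReeB.conj_into (Q : Subgroup G) Q.not_dvd_index hP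
    exact ⟨g, hQ (hg x (Subgroup.mem_zpowers x))⟩
  have hpA : p ∣ Nat.card A := by
    rw [← hzo]; exact Subgroup.orderOf_dvd_natCard A (hmem.mpr rfl)
  have hT0 : Torus A A (Nat.card (Subgroup.normalizer (A : Set G))) :=
    { cyc := hcyc
      le := le_rfl
      comm := hcomm
      cent := hcent
      mem := fun a ha _ => ha
      conj := hconj
      norm := rfl }
  obtain ⟨w, hw, hwc⟩ := D.Q_norm ρ hρ hp hzo hpM
  have hzA : Subgroup.zpowers z ≤ A := by rw [Subgroup.zpowers_le]; exact hmem.mpr rfl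
  have hz1 : Subgroup.zpowers z ≠ ⊥ := by
    intro h
    rw [Subgroup.zpowers_eq_bot] at h
    rw [h, orderOf_one] at hzo; exact hp.one_lt.ne hzo
  rw [hT0.norm_eq hzA hz1] at hwc
  refine ⟨A, w, hw, hpA, hAM, ?_, { hT0 with norm := hwc }⟩
  rw [Nat.coprime_iff_gcd_eq_one]
  by_contra hne
  obtain ⟨r, hr, hrd⟩ := Nat.exists_prime_and_dvd hne
  have h6 := hrd.trans (Nat.gcd_dvd_left _ _)
  have h7 := hrd.trans (Nat.gcd_dvd_right _ _)
  haveI : Fact r.Prime := ⟨hr⟩
  obtain ⟨Q, hQ⟩ := hsyl r hr h6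
  apply Q.not_dvd_index
  refine dvd_trans ?_ (Subgroup.index_dvd_of_le hQ)
  refine h7.trans ?_
  have h8 : Nat.card A * ((q ^ 2 - q + 1) / Nat.card A) ∣ Nat.card A * A.index := by
    rw [Nat.mul_div_cancel' hAM, Subgroup.card_mul_index, D.card_G']
    exact dvd_mul_left _ _
  exact Nat.dvd_of_mul_dvd_mul_left Nat.card_pos h8

omit [Finite G] D hρ in
/-- the union of the conjugates of `A`, without 1 -/
def Cls (A : Subgroup G) (g : G) : Prop := g ≠ 1 ∧ ∃ h : G, h * g * h⁻¹ ∈ A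

omit D hρ in
theorem cls_card {A : Subgroup G} {w : ℕ} (t : Torus A A w) :
    Nat.card {g : G // Cls A g} * w = Nat.card G * (Nat.card A - 1) := by
  have h1 := card_conj A t.comm (fun g => Cls A g) (by
      rintro g x ⟨hx1, h, hh⟩
      refine ⟨?_, h * g⁻¹, ?_⟩
      · intro h1; apply hx1
        have : x = g⁻¹ * (g * x * g⁻¹) * g := by group
        rw [this, h1]; group
      · have : h * g⁻¹ * (g * x * g⁻¹) * (h * g⁻¹)⁻¹ = h * x * h⁻¹ := by group
        rw [this]; exact hh) (by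
      rintro x ⟨hx1, h⟩; exact h) (by
      rintro x hxA ⟨hx1, h⟩ c hc
      exact t.cent x hxA hx1 c hc)
  rw [t.norm] at h1
  rw [h1]
  congr 1
  classical
  haveI : Fintype A := Fintype.ofFinite A
  have h2 : Nat.card {x : A // Cls A (x : G)} = Nat.card {x : A // x ≠ 1} := by
    apply Nat.card_congr
    apply Equiv.subtypeEquivRight
    intro x
    constructor
    · rintro ⟨h, -⟩ h'; exact h (by rw [h']; rfl)
    · intro h
      refine ⟨fun h' => h (Subtype.ext h'), 1, ?_⟩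
      simp
  rw [h2, Nat.card_eq_fintype_card, Nat.card_eq_fintype_card]
  simp

omit hρ in
theorem cls_Q {A : Subgroup G} (hAM : Nat.card A ∣ q ^ 2 - q + 1) {g : G} (hg : Cls A g) : D.IsQ g := by
  obtain ⟨hg1, h, hh⟩ := hg
  refine ⟨hg1, ?_⟩
  have h1 := (MulAut.conj h).orderOf_eq g
  rw [MulAut.conj_apply] at h1
  rw [← h1]
  exact (Subgroup.orderOf_dvd_natCard A hh).trans hAM

omit D hρ in
theorem cls_dvd {A : Subgroup G} {g : G} (hg : Cls A g) : orderOf g ∣ Nat.card A := by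
  obtain ⟨hg1, h, hh⟩ := hg
  have h1 := (MulAut.conj h).orderOf_eq g
  rw [MulAut.conj_apply] at h1
  rw [← h1]
  exact (Subgroup.orderOf_dvd_natCard A hh)

omit D hρ in
theorem cls_of {A : Subgroup G} {w : ℕ} (t : Torus A A w) {g : G} {r : ℕ} (hr : r.Prime) (hrg : r ∣ orderOf g)
    (hrA : r ∣ Nat.card A) : Cls A g := by
  have hg1 : g ≠ 1 := by rintro rfl; rw [orderOf_one] at hrg; exact hr.one_lt.ne' (Nat.dvd_one.mp hrg)
  have ho : orderOf (g ^ (orderOf g / r)) = r := orderOf_pow_orderOf_div (orderOf_pos g).ne' hrg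
  obtain ⟨h, hh⟩ := t.conj r hr hrA _ ho
  refine ⟨hg1, h, t.cent _ hh ?_ _ ?_⟩
  · intro h1
    have h2 := (MulAut.conj h).orderOf_eq (g ^ (orderOf g / r))
    rw [MulAut.conj_apply, h1, orderOf_one, ho] at h2
    exact hr.one_lt.ne h2
  · have : g * g ^ (orderOf g / r) = g ^ (orderOf g / r) * g := ((Commute.refl g).pow_right _).eq
    calc h * g * h⁻¹ * (h * g ^ (orderOf g / r) * h⁻¹) = h * (g * g ^ (orderOf g / r)) * h⁻¹ := by group
      _ = h * (g ^ (orderOf g / r) * g) * h⁻¹ := by rw [this]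
      _ = _ := by group

omit hρ in
theorem seven_le {p : ℕ} (hp : p.Prime) (hpM : p ∣ q ^ 2 - q + 1) : 7 ≤ p := by
  obtain ⟨a1, a2, a3, a4, a5⟩ := D.cop_prime hp hpM
  have h5 : p ≠ 5 := by
    rintro rfl
    have hqq := D.qq
    have h1 : (5 : ℤ) ∣ (q : ℤ) ^ 2 - q + 1 := by
      have := Int.natCast_dvd_natCast.mpr hpM
      push_cast [Nat.cast_sub hqq] at this
      exact this
    have h2 := Int.emod_emod_of_dvd (q : ℤ) (dvd_refl (5 : ℤ))
    have h3 : ((q : ℤ) ^ 2 - q + 1) % 5 = 0 := Int.emod_eq_zero_of_dvd h1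
    have h4 : (q : ℤ) % 5 = 0 ∨ (q : ℤ) % 5 = 1 ∨ (q : ℤ) % 5 = 2 ∨ (q : ℤ) % 5 = 3 ∨ (q : ℤ) % 5 = 4 := by omega
    have h6 : ((q : ℤ) ^ 2 - q + 1) % 5 = (((q : ℤ) % 5) ^ 2 - (q : ℤ) % 5 + 1) % 5 := by
      simp [Int.add_emod, Int.sub_emod, pow_two, Int.mul_emod]
    rw [h6] at h3
    rcases h4 with h | h | h | h | h <;> rw [h] at h3 <;> norm_num at h3
  by_contra hlt
  push Not at hlt
  have h2 := hp.two_le
  interval_cases p <;> first | omega | (exact absurd hp (by norm_num))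

end Cfsg.Agent.Lib.ReeA.RD
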