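import Mathlib
import Cfsg.Agent.Lib.ReeN

/-!
Abstract small Ree groups, part O: the two classes of tori of order `q ± r + 1` (helper18).
-/

set_option autoImplicit false
set_option linter.unusedSectionVars false

namespace Cfsg.Agent.Lib.ReeA.RD

open Cfsg.Agent.Lib.ReePSL Cfsg.Agent.Lib.ReeA Cfsg.Agent.Lib.H53Ree Cfsg.Agent.Lib.H53PSL2 Cfsg.Agent.Lib.ReeB
open Cfsg.Agent.Lib.ReeD Cfsg.Agent.Lib.ReeG Cfsg.Agent.Lib.ReeT

variable {G : Type*} [Group G] [Finite G] {K : Type*} [Field K] [Fintype K] {m : ℕ} (D : RD G K m)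

local notation "q" => Fintype.card K

variable (ρ : G →* Matrix (Fin 7) (Fin 7) K) (hρ : Function.Injective ρ)

/-- arithmetic of the classes -/
theorem cls_arith (D : RD G K m) {A : Subgroup G} {w : ℕ} (t : Torus A A (w * Nat.card A)) {b : ℕ}
    (hb : Nat.card A * b = q ^ 2 - q + 1) :
    (Nat.card {g : G // Cls A g} : ℤ) * w = (q : ℤ) ^ 3 * ((q - 1) * (q + 1)) * ((q : ℤ) ^ 2 - q + 1 - b) := by
  have h1 := cls_card t
  rw [D.card_G', ← hb] at h1
  have ha : 0 < Nat.card A := Nat.card_pos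
  have hq := D.q_ge
  have hqq := D.qq
  have hb' : (Nat.card A : ℤ) * b = (q : ℤ) ^ 2 - q + 1 := by
    have := congrArg (Nat.cast (R := ℤ)) hb
    push_cast [Nat.cast_sub hqq] at this
    exact this
  have h2 : ((Nat.card {g : G // Cls A g} * (w * Nat.card A) : ℕ) : ℤ) =
      ((q ^ 3 * ((q - 1) * (q + 1)) * (Nat.card A * b) * (Nat.card A - 1) : ℕ) : ℤ) := by rw [h1]
  push_cast [Nat.cast_sub (show 1 ≤ q by omega), Nat.cast_sub (show 1 ≤ Nat.card A from ha)] at h2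
  have ha' : (Nat.card A : ℤ) ≠ 0 := by exact_mod_cast ha.ne'
  apply mul_right_cancel₀ ha'
  rw [← hb']
  linear_combination h2

include D hρ

set_option maxHeartbeats 2000000 in
/-- the two classes of tori of order `q ± r + 1` -/
theorem Q_tori : ∃ A₁ A₂ : Subgroup G,
    Nat.card A₁ = 3 ^ (2 * m + 1) - 3 ^ (m + 1) + 1 ∧ Nat.card A₂ = 3 ^ (2 * m + 1) + 3 ^ (m + 1) + 1 ∧
      Torus A₁ A₁ (6 * Nat.card A₁) ∧ Torus A₂ A₂ (6 * Nat.card A₂) := by
  have hq := D.q_ge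
  have hqq := D.qq
  set T : ℤ := (q : ℤ) ^ 3 * ((q - 1) * (q + 1)) with hT
  set M : ℕ := q ^ 2 - q + 1 with hM
  have hMz : (M : ℤ) = (q : ℤ) ^ 2 - q + 1 := by rw [hM]; push_cast [Nat.cast_sub hqq]; ring
  have hq27 : (27 : ℤ) ≤ (q : ℤ) := by exact_mod_cast hq
  have hTpos : 0 < T := by
    rw [hT]
    have : (0 : ℤ) < (q : ℤ) := by linarith
    have h1 : (0 : ℤ) < (q : ℤ) - 1 := by linarith
    positivity
  have hQ : 3 * (Nat.card {g : G // D.IsQ g} : ℤ) = T * (M - q - 1) := by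
    rw [D.card_Q, hT, hMz]; ring
  have hMpos : (0 : ℤ) < M := by rw [hMz]; nlinarith
  -- lower bounds
  have low : ∀ (A : Subgroup G) (w p : ℕ), p.Prime → w ∣ 6 → p ∣ Nat.card A → Nat.card A ∣ M →
      Torus A A (w * Nat.card A) → T * M ≤ 7 * (Nat.card {g : G // Cls A g} : ℤ) ∧
        (w ≠ 6 → 2 * (T * M) ≤ 7 * (Nat.card {g : G // Cls A g} : ℤ)) ∧ 0 < w := by
    intro A w p hp hw hpA hAM t
    obtain ⟨b, hb⟩ := hAM
    have h1 := D.cls_arith t hb.symm
    rw [← hT, ← hMz] at h1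
    have h7 : 7 ≤ Nat.card A := (D.seven_le hp (hpA.trans ⟨b, hb⟩)).trans (Nat.le_of_dvd Nat.card_pos hpA)
    have hbz : (Nat.card A : ℤ) * b = M := by exact_mod_cast hb.symm
    have h8 : 7 * (b : ℤ) ≤ M := by
      rw [← hbz]
      have : (7 : ℤ) ≤ (Nat.card A : ℤ) := by exact_mod_cast h7
      nlinarith
    have h9 : 6 * (T * M) ≤ 7 * (T * (M - b)) := by nlinarith
    rw [← h1] at h9
    have hwle : w ≤ 6 := Nat.le_of_dvd (by norm_num) hw
    set X : ℤ := (Nat.card {g : G // Cls A g} : ℤ) with hX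
    have hX0 : 0 ≤ X := by rw [hX]; positivity
    interval_cases w
    · exact absurd hw (by norm_num)
    · push_cast at h9
      refine ⟨?_, fun _ => ?_, by norm_num⟩ <;> nlinarith
    · push_cast at h9
      refine ⟨?_, fun _ => ?_, by norm_num⟩ <;> nlinarith
    · push_cast at h9
      refine ⟨?_, fun _ => ?_, by norm_num⟩ <;> nlinarith
    · exact absurd hw (by norm_num)
    · exact absurd hw (by norm_num)
    · push_cast at h9
      refine ⟨?_, fun h => absurd rfl h, by norm_num⟩; nlinarith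
  -- first class
  have hM1 : M ≠ 1 := by
    intro h; rw [h] at hMz; push_cast at hMz; nlinarith
  obtain ⟨p₁, hp₁, hpM₁⟩ := Nat.exists_prime_and_dvd hM1
  obtain ⟨A₁, w₁, hw₁, hpA₁, hAM₁, hco₁, t₁⟩ := D.Q_class ρ hρ hp₁ hpM₁
  obtain ⟨b₁, hb₁⟩ := hAM₁
  rw [← hM] at hb₁ hco₁
  have hA₁pos : 0 < Nat.card A₁ := Nat.card_pos
  have hb₁' : M / Nat.card A₁ = b₁ := by rw [hb₁, Nat.mul_div_cancel_left _ hA₁pos]
  rw [hb₁'] at hco₁
  have key₁ := D.cls_arith t₁ hb₁.symm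
  rw [← hT, ← hMz] at key₁
  obtain ⟨low₁, low₁', hw₁0⟩ := low A₁ w₁ p₁ hp₁ hw₁ hpA₁ ⟨b₁, hb₁⟩ t₁
  have hb₁1 : b₁ ≠ 1 := by
    intro h
    rw [h, mul_one] at hb₁
    have hall : Nat.card {g : G // Cls A₁ g} = Nat.card {g : G // D.IsQ g} := by
      apply Nat.card_congr
      apply Equiv.subtypeEquivRight
      intro g
      constructor
      · exact fun hg => D.cls_Q (by rw [← hb₁]) hg
      · intro hg
        obtain ⟨r, hr, hrg⟩ := Nat.exists_prime_and_dvd (show orderOf g ≠ 1 from fun h => hg.1 (orderOf_eq_one_iff.mp h))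
        exact cls_of t₁ hr hrg (by rw [← hb₁]; exact hrg.trans hg.2)
    rw [hall, h] at key₁
    have h1 : T * ((M - q - 1) * w₁) = T * (3 * (M - 1)) := by
      have : 3 * ((Nat.card {g : G // D.IsQ g} : ℤ) * w₁) = 3 * (T * ((M : ℤ) - (1 : ℕ))) := by rw [key₁]
      push_cast at this
      linear_combination this - (w₁ : ℤ) * hQ
    have h2 := mul_left_cancel₀ hTpos.ne' h1
    rw [hMz] at h2
    have hwle : w₁ ≤ 6 := Nat.le_of_dvd (by norm_num) hw₁
    have h3 : ((q : ℤ) - 2) * w₁ = 3 * (q - 1) := by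
      have hq0 : (q : ℤ) ≠ 0 := by linarith
      apply mul_left_cancel₀ hq0
      linear_combination h2
    interval_cases w₁ <;> push_cast at h3 <;> linarith
  -- second class
  obtain ⟨p₂, hp₂, hpb₂⟩ := Nat.exists_prime_and_dvd hb₁1
  have hpM₂ : p₂ ∣ M := hpb₂.trans ⟨Nat.card A₁, by rw [hb₁, mul_comm]⟩
  obtain ⟨A₂, w₂, hw₂, hpA₂, hAM₂, hco₂, t₂⟩ := D.Q_class ρ hρ hp₂ hpM₂
  obtain ⟨b₂, hb₂⟩ := hAM₂
  rw [← hM] at hb₂ hco₂
  have hA₂pos : 0 < Nat.card A₂ := Nat.card_pos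
  have hb₂' : M / Nat.card A₂ = b₂ := by rw [hb₂, Nat.mul_div_cancel_left _ hA₂pos]
  rw [hb₂'] at hco₂
  have key₂ := D.cls_arith t₂ hb₂.symm
  rw [← hT, ← hMz] at key₂
  obtain ⟨low₂, low₂', hw₂0⟩ := low A₂ w₂ p₂ hp₂ hw₂ hpA₂ ⟨b₂, hb₂⟩ t₂
  have hcop : Nat.Coprime (Nat.card A₁) (Nat.card A₂) := by
    -- a common prime would put `p₂` in `A₁`
    rw [Nat.coprime_iff_gcd_eq_one]
    by_contra hne
    obtain ⟨r, hr, hrd⟩ := Nat.exists_prime_and_dvd hne
    have h6 := hrd.trans (Nat.gcd_dvd_left _ _)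
    have h7 := hrd.trans (Nat.gcd_dvd_right _ _)
    haveI : Fact r.Prime := ⟨hr⟩
    obtain ⟨y, hy⟩ := exists_prime_orderOf_dvd_card' r h7
    have hyo : orderOf (y : G) = r := by rw [Subgroup.orderOf_coe]; exact hy
    obtain ⟨g, hg⟩ := t₁.conj r hr h6 _ hyo
    have hsub : A₂.map (MulAut.conj g).toMonoidHom ≤ A₁ := by
      rintro _ ⟨a, ha, rfl⟩
      show g * a * g⁻¹ ∈ A₁
      refine t₁.cent _ hg ?_ _ ?_
      · intro h1
        have h2 := (MulAut.conj g).orderOf_eq (y : G)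
        rw [MulAut.conj_apply, h1, orderOf_one, hyo] at h2
        exact hr.one_lt.ne h2
      · have : a * y = y * a := t₂.comm a ha y y.2
        calc g * a * g⁻¹ * (g * (y : G) * g⁻¹) = g * (a * y) * g⁻¹ := by group
          _ = g * (y * a) * g⁻¹ := by rw [this]
          _ = _ := by group
    have h8 : Nat.card A₂ ∣ Nat.card A₁ := by
      have := Subgroup.card_dvd_of_le hsub
      rwa [Nat.card_congr (Subgroup.equivMapOfInjective A₂ _ (MulAut.conj g).injective).toEquiv.symm] at this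
    have h9 : p₂ ∣ Nat.gcd (Nat.card A₁) b₁ := Nat.dvd_gcd (hpA₂.trans h8) hpb₂
    rw [Nat.coprime_iff_gcd_eq_one.mp hco₁] at h9
    exact hp₂.one_lt.ne' (Nat.dvd_one.mp h9)
  -- product of the orders
  obtain ⟨c, hc⟩ : Nat.card A₁ * Nat.card A₂ ∣ M := hcop.mul_dvd_of_dvd_of_dvd ⟨b₁, hb₁⟩ ⟨b₂, hb₂⟩
  -- disjointness of classes
  have disj : ∀ (A B : Subgroup G), Nat.Coprime (Nat.card A) (Nat.card B) → ∀ g, Cls A g → Cls B g → False := by
    intro A B hAB g hA hB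
    have h1 := Nat.dvd_gcd (cls_dvd hA) (cls_dvd hB)
    rw [Nat.coprime_iff_gcd_eq_one.mp hAB] at h1
    exact hA.1 (orderOf_eq_one_iff.mp (Nat.dvd_one.mp h1))
  have card_or : ∀ (P Q : G → Prop), (∀ g, P g → Q g → False) →
      Nat.card {g : G // P g ∨ Q g} = Nat.card {g : G // P g} + Nat.card {g : G // Q g} := by
    classical
    intro P Q h
    rw [Nat.card_congr (subtypeOrEquiv P Q (by
      rw [Pi.disjoint_iff]
      intro g
      rw [Prop.disjoint_iff]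
      rintro ⟨h1, h2⟩
      exact h g h1 h2)), Nat.card_sum]
  have card_mono : ∀ (P Q : G → Prop), (∀ g, P g → Q g) → Nat.card {g : G // P g} ≤ Nat.card {g : G // Q g} := by
    intro P Q h
    exact Nat.card_le_card_of_injective (fun g => (⟨g.1, h g.1 g.2⟩ : {g : G // Q g}))
      (fun a b hab => Subtype.ext (congrArg (fun x => x.1) hab))
  have hsum2 : Nat.card {g : G // Cls A₁ g} + Nat.card {g : G // Cls A₂ g} ≤ Nat.card {g : G // D.IsQ g} := by
    rw [← card_or _ _ (disj A₁ A₂ hcop)]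
    apply card_mono
    rintro g (h | h)
    · exact D.cls_Q ⟨b₁, hb₁⟩ h
    · exact D.cls_Q ⟨b₂, hb₂⟩ h
  have hsum2z : (Nat.card {g : G // Cls A₁ g} : ℤ) + Nat.card {g : G // Cls A₂ g} ≤ Nat.card {g : G // D.IsQ g} := by
    exact_mod_cast hsum2
  have hTM : 0 < T * M := mul_pos hTpos hMpos
  have hQlt : 3 * (Nat.card {g : G // D.IsQ g} : ℤ) < T * M := by
    rw [hQ]; nlinarith
  have hw₁6 : w₁ = 6 := by
    by_contra h
    have := low₁' h
    linarith
  have hw₂6 : w₂ = 6 := by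
    by_contra h
    have := low₂' h
    linarith
  have hc1 : c = 1 := by
    by_contra hne
    obtain ⟨p₃, hp₃, hpc₃⟩ := Nat.exists_prime_and_dvd hne
    have hpM₃ : p₃ ∣ M := hpc₃.trans ⟨_, by rw [hc, mul_comm]⟩
    obtain ⟨A₃, w₃, hw₃, hpA₃, hAM₃, hco₃, t₃⟩ := D.Q_class ρ hρ hp₃ hpM₃
    obtain ⟨low₃, -, -⟩ := low A₃ w₃ p₃ hp₃ hw₃ hpA₃ hAM₃ t₃
    -- coprimality: general lemma
    have gen : ∀ (A : Subgroup G) (w b : ℕ), Torus A A (w * Nat.card A) → Nat.Coprime (Nat.card A) b → p₃ ∣ b →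
        Nat.Coprime (Nat.card A) (Nat.card A₃) := by
      intro A w b t hAb hpb
      rw [Nat.coprime_iff_gcd_eq_one]
      by_contra hne
      obtain ⟨r, hr, hrd⟩ := Nat.exists_prime_and_dvd hne
      have h6 := hrd.trans (Nat.gcd_dvd_left _ _)
      have h7 := hrd.trans (Nat.gcd_dvd_right _ _)
      haveI : Fact r.Prime := ⟨hr⟩
      obtain ⟨y, hy⟩ := exists_prime_orderOf_dvd_card' r h7
      have hyo : orderOf (y : G) = r := by rw [Subgroup.orderOf_coe]; exact hy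
      obtain ⟨g, hg⟩ := t.conj r hr h6 _ hyo
      have hsub : A₃.map (MulAut.conj g).toMonoidHom ≤ A := by
        rintro _ ⟨a, ha, rfl⟩
        show g * a * g⁻¹ ∈ A
        refine t.cent _ hg ?_ _ ?_
        · intro h1
          have h2 := (MulAut.conj g).orderOf_eq (y : G)
          rw [MulAut.conj_apply, h1, orderOf_one, hyo] at h2
          exact hr.one_lt.ne h2
        · have : a * y = y * a := t₃.comm a ha y y.2
          calc g * a * g⁻¹ * (g * (y : G) * g⁻¹) = g * (a * y) * g⁻¹ := by group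
            _ = g * (y * a) * g⁻¹ := by rw [this]
            _ = _ := by group
      have h8 : Nat.card A₃ ∣ Nat.card A := by
        have := Subgroup.card_dvd_of_le hsub
        rwa [Nat.card_congr (Subgroup.equivMapOfInjective A₃ _ (MulAut.conj g).injective).toEquiv.symm] at this
      have h9 : p₃ ∣ Nat.gcd (Nat.card A) b := Nat.dvd_gcd (hpA₃.trans h8) hpb
      rw [Nat.coprime_iff_gcd_eq_one.mp hAb] at h9
      exact hp₃.one_lt.ne' (Nat.dvd_one.mp h9)
    have hb₁c : b₁ = Nat.card A₂ * c := by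
      have : Nat.card A₁ * b₁ = Nat.card A₁ * (Nat.card A₂ * c) := by rw [← hb₁, hc]; ring
      exact Nat.eq_of_mul_eq_mul_left hA₁pos this
    have hb₂c : b₂ = Nat.card A₁ * c := by
      have : Nat.card A₂ * b₂ = Nat.card A₂ * (Nat.card A₁ * c) := by rw [← hb₂, hc]; ring
      exact Nat.eq_of_mul_eq_mul_left hA₂pos this
    have hc13 := gen A₁ w₁ b₁ t₁ hco₁ (by rw [hb₁c]; exact hpc₃.mul_left _)
    have hc23 := gen A₂ w₂ b₂ t₂ hco₂ (by rw [hb₂c]; exact hpc₃.mul_left _)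
    have hsum3 : Nat.card {g : G // Cls A₁ g} + Nat.card {g : G // Cls A₂ g} + Nat.card {g : G // Cls A₃ g} ≤
        Nat.card {g : G // D.IsQ g} := by
      rw [← card_or _ _ (disj A₁ A₂ hcop), ← card_or]
      · apply card_mono
        rintro g ((h | h) | h)
        · exact D.cls_Q ⟨b₁, hb₁⟩ h
        · exact D.cls_Q ⟨b₂, hb₂⟩ h
        · exact D.cls_Q hAM₃ h
      · rintro g (h | h) h3
        · exact disj _ _ hc13 g h h3
        · exact disj _ _ hc23 g h h3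
    have hsum3z : (Nat.card {g : G // Cls A₁ g} : ℤ) + Nat.card {g : G // Cls A₂ g} + Nat.card {g : G // Cls A₃ g} ≤
        Nat.card {g : G // D.IsQ g} := by exact_mod_cast hsum3
    linarith
  rw [hc1, mul_one] at hc
  have hb₁c : b₁ = Nat.card A₂ := by
    have : Nat.card A₁ * b₁ = Nat.card A₁ * Nat.card A₂ := by rw [← hb₁, hc]
    exact Nat.eq_of_mul_eq_mul_left hA₁pos this
  have hb₂c : b₂ = Nat.card A₁ := by
    have : Nat.card A₂ * b₂ = Nat.card A₂ * Nat.card A₁ := by rw [← hb₂, hc]; ring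
    exact Nat.eq_of_mul_eq_mul_left hA₂pos this
  have hall : Nat.card {g : G // Cls A₁ g} + Nat.card {g : G // Cls A₂ g} = Nat.card {g : G // D.IsQ g} := by
    rw [← card_or _ _ (disj A₁ A₂ hcop)]
    apply Nat.card_congr
    apply Equiv.subtypeEquivRight
    intro g
    constructor
    · rintro (h | h)
      · exact D.cls_Q ⟨b₁, hb₁⟩ h
      · exact D.cls_Q ⟨b₂, hb₂⟩ h
    · intro hg
      obtain ⟨r, hr, hrg⟩ := Nat.exists_prime_and_dvd (show orderOf g ≠ 1 from fun h => hg.1 (orderOf_eq_one_iff.mp h))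
      have hrM : r ∣ Nat.card A₁ * Nat.card A₂ := by rw [← hc]; exact hrg.trans hg.2
      rcases hr.dvd_mul.mp hrM with h | h
      · exact Or.inl (cls_of t₁ hr hrg h)
      · exact Or.inr (cls_of t₂ hr hrg h)
  have hallz : (Nat.card {g : G // Cls A₁ g} : ℤ) + Nat.card {g : G // Cls A₂ g} = Nat.card {g : G // D.IsQ g} := by
    exact_mod_cast hall
  rw [hw₁6, hb₁c] at key₁
  rw [hw₂6, hb₂c] at key₂
  push_cast at key₁ key₂
  have hs : (Nat.card A₁ : ℤ) + Nat.card A₂ = 2 * (q + 1) := by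
    apply mul_left_cancel₀ hTpos.ne'
    linear_combination key₁ + key₂ - 6 * hallz - 2 * hQ
  have hcz : (M : ℤ) = Nat.card A₁ * Nat.card A₂ := by exact_mod_cast hc
  rw [hMz] at hcz
  -- squares
  have hr : ((3 : ℤ) ^ (m + 1)) ^ 2 = 3 * q := by
    rw [D.hK]; push_cast; ring
  have hsq : ((Nat.card A₁ : ℤ) - (q + 1) - 3 ^ (m + 1)) * ((Nat.card A₁ : ℤ) - (q + 1) + 3 ^ (m + 1)) = 0 := by
    have h2 : (Nat.card A₂ : ℤ) = 2 * (q + 1) - Nat.card A₁ := by linear_combination hs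
    rw [h2] at hcz
    linear_combination hcz - hr
  have hqK : (q : ℤ) = 3 ^ (2 * m + 1) := by rw [D.hK]; push_cast; ring
  have hle : 3 ^ (m + 1) ≤ 3 ^ (2 * m + 1) := Nat.pow_le_pow_right (by norm_num) (by omega)
  have e1 : ∀ n : ℕ, (n : ℤ) = (q : ℤ) + 1 + 3 ^ (m + 1) → n = 3 ^ (2 * m + 1) + 3 ^ (m + 1) + 1 := by
    intro n hn
    rw [hqK] at hn
    zify; linarith
  have e2 : ∀ n : ℕ, (n : ℤ) = (q : ℤ) + 1 - 3 ^ (m + 1) → n = 3 ^ (2 * m + 1) - 3 ^ (m + 1) + 1 := by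
    intro n hn
    rw [hqK] at hn
    zify [hle]; linarith
  rw [hw₁6] at t₁
  rw [hw₂6] at t₂
  rcases mul_eq_zero.mp hsq with h | h
  · refine ⟨A₂, A₁, e2 _ ?_, e1 _ ?_, t₂, t₁⟩
    · linarith
    · linarith
  · refine ⟨A₁, A₂, e2 _ ?_, e1 _ ?_, t₁, t₂⟩
    · linarith
    · linarith

end Cfsg.Agent.Lib.ReeA.RD
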