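import Mathlib
import Cfsg.Agent.Lib.G2Three3
import Cfsg.Agent.Lib.TwG2End

/-!
The 7-dimensional representation of the small Ree groups (helper18).
-/

set_option autoImplicit false

namespace Cfsg.Agent.Lib.ReeP

open Cfsg.Lie Cfsg.Agent.Lib.ChevX Cfsg.Agent.Lib.ChevGood Cfsg.Agent.Lib.ChevRel Cfsg.Agent.Lib.ChevAuto
open Cfsg.Agent.Lib.G2Three Cfsg.Agent.Lib
open scoped MatrixGroups Matrix

/-- all coefficients of the entry of `x_r(t)` are divisible by 3 -/
def okz (D : ChevalleyDatum) (r : ℕ) (row col : D.Idx) : Bool :=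
  match col with
  | Sum.inl i => (match row with
     | Sum.inl i' => decide (i' ≠ i)
     | Sum.inr u => if u.val = r then decide (((D.cartanSR.getD i.val #[]).getD r 0) % 3 = 0) else true)
  | Sum.inr s =>
     if s.val = r then (match row with | Sum.inr u => decide (u.val ≠ r) | Sum.inl _ => true)
     else if s.val = D.negIdx.getD r 0 then
       (match row with
        | Sum.inl i => decide (((D.coroot.getD r #[]).getD i.val 0) % 3 = 0)
        | Sum.inr u => decide (u ≠ s) && decide (u.val ≠ r))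
     else (match row with
        | Sum.inl _ => true
        | Sum.inr u => decide (u ≠ s) && ((D.chainCoeff r s.val u.val).all fun km => decide (km.2 % 3 = 0)))

theorem c3 {F : Type*} [Field F] (h3 : (3 : F) = 0) {z : ℤ} (h : z % 3 = 0) : (z : F) = 0 := by
  obtain ⟨k, rfl⟩ := Int.dvd_of_emod_eq_zero h
  push_cast
  rw [h3, zero_mul]

theorem xMat_ok (D : ChevalleyDatum) {F : Type*} [Field F] (h3 : (3 : F) = 0) (r : Fin D.nroots) (t : F) (row col : D.Idx)
    (h : okz D r row col = true) : D.xMat F r t row col = 0 := by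
  unfold ChevalleyDatum.xMat
  unfold okz at h
  simp only [Matrix.of_apply]
  rcases col with i | s
  · rcases row with i' | u
    · simp only [decide_eq_true_eq] at h
      simp only
      rw [if_neg h]
    · simp only at h ⊢
      split_ifs with hu
      · rw [if_pos (congrArg Fin.val hu), decide_eq_true_eq] at h
        rw [c3 h3 h]; ring
      · rfl
  · simp only [Fin.ext_iff] at h ⊢
    split_ifs at h ⊢ with h1 h2
    · rcases row with i' | u
      · rfl
      · simp only [decide_eq_true_eq] at h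
        simp only
        rw [if_neg h]
    · rcases row with i' | u
      · simp only [decide_eq_true_eq] at h
        simp only
        rw [c3 h3 h, zero_mul]
      · simp only [Bool.and_eq_true, decide_eq_true_eq] at h
        simp only
        rw [if_neg (fun h' => h.1 (Fin.ext h')), if_neg h.2]
    · rcases row with i' | u
      · rfl
      · simp only [Bool.and_eq_true, decide_eq_true_eq, List.all_eq_true] at h
        simp only
        rw [if_neg (fun h' => h.1 (Fin.ext h')), zero_add]
        apply List.sum_eq_zero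
        intro y hy
        rw [List.mem_map] at hy
        obtain ⟨km, hkm, rfl⟩ := hy
        rw [c3 h3 (h.2 km hkm), zero_mul]

theorem chk : ∀ r : Fin 12, ∀ i j : Fin 7, okz chevG2 r (idc i) (idx j) = true := by decide +kernel

theorem xMat_zero {F : Type*} [Field F] (h3 : (3 : F) = 0) (r : Fin chevG2.nroots) (t : F) (i j : Fin 7) :
    chevG2.xMat F r t (idc i) (idx j) = 0 := xMat_ok chevG2 h3 r t _ _ (chk r i j)

/-- the matrices preserving the ideal -/
def MS (F : Type*) [Field F] : Submonoid (GL chevG2.Idx F) where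
  carrier := {g | ∀ i j, (g : Matrix chevG2.Idx chevG2.Idx F) (idc i) (idx j) = 0}
  one_mem' := by
    intro i j
    rw [Units.val_one, Matrix.one_apply, if_neg (idx_ne_idc i j)]
  mul_mem' := by
    intro g h hg hh
    show ∀ i j, ((g * h : GL chevG2.Idx F) : Matrix chevG2.Idx chevG2.Idx F) (idc i) (idx j) = 0
    rw [Units.val_mul]; exact zero_mul' hg hh

theorem mem_MS {F : Type*} [Field F] [Finite F] (h3 : (3 : F) = 0) {g : GL chevG2.Idx F} (hg : g ∈ chevG2.group F) :
    g ∈ MS F := by
  induction hg using Subgroup.closure_induction with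
  | mem x hx =>
    obtain ⟨r, t, h⟩ := hx
    intro i j
    rw [h]; exact xMat_zero h3 r t i j
  | one => exact one_mem _
  | mul x y _ _ hx hy => exact mul_mem hx hy
  | inv x _ hx =>
    haveI : Finite (GL chevG2.Idx F) := inferInstance
    have h1 : x⁻¹ = x ^ (orderOf x - 1) := by
      have h2 : x ^ (orderOf x - 1) * x = 1 := by
        rw [← pow_succ]
        have := orderOf_pos x
        rw [Nat.sub_add_cancel this, pow_orderOf_eq_one]
      exact (eq_inv_of_mul_eq_one_left h2).symm
    rw [h1]; exact pow_mem hx _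

variable {K : Type*} [Field K] [Fintype K] {m : ℕ} (hK : Fintype.card K = 3 ^ (2 * m + 1))

include hK in
theorem three_eq : (3 : K) = 0 := by
  have h1 := FiniteField.cast_card_eq_zero K
  rw [hK] at h1
  push_cast at h1
  exact pow_eq_zero_iff (by omega) |>.mp h1

/-- generators lie in the Chevalley group -/
theorem tw_le : twistedG2 K (3 ^ m) ≤ chevG2.group K := by
  rw [twistedG2, ChevalleyDatum.genSubgroup, Subgroup.closure_le]
  rintro g ⟨w, -, hg⟩
  have key : ∀ w : List (ℕ × K), ∃ h ∈ chevG2.group K, (h : Matrix chevG2.Idx chevG2.Idx K) = chevG2.wordMat K w := by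
    intro w
    induction w with
    | nil => exact ⟨1, one_mem _, by simp [ChevalleyDatum.wordMat]⟩
    | cons p w ih =>
      obtain ⟨h, hh, he⟩ := ih
      refine ⟨xg chevG2 K p.1 p.2 * h, mul_mem (xg_mem TwG2.G _ _) hh, ?_⟩
      rw [Units.val_mul, coe_xg TwG2.G, he]
      simp [ChevalleyDatum.wordMat]
  obtain ⟨h, hh, he⟩ := key w
  have : g = h := Units.ext (hg.trans he.symm)
  rw [this]; exact hh

/-- the representation -/
def rho : twistedG2 K (3 ^ m) →* Matrix (Fin 7) (Fin 7) K where
  toFun g := ρ0 (g : GL chevG2.Idx K).1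
  map_one' := by
    show ρ0 ((1 : GL chevG2.Idx K) : Matrix chevG2.Idx chevG2.Idx K) = 1
    rw [Units.val_one, ρ0_one]
  map_mul' g h := by
    show ρ0 (((g : GL chevG2.Idx K) * (h : GL chevG2.Idx K) : GL chevG2.Idx K) : Matrix chevG2.Idx chevG2.Idx K) = _
    rw [Units.val_mul, ρ0_mul (mem_MS (three_eq hK) (tw_le h.2))]

theorem chk_ne : (∑ k : chevG2.Idx, zM chevG2 9 (idx 6) k * zM chevG2 11 k (idx 1)) = -1 := by decide +kernel

theorem rho_ne : rho hK ⟨TwG2.UU (3 ^ m) 0 0 1, TwG2.mem_UU _ _ _ _⟩ ≠ 1 := by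
  intro h
  have h1 : (TwG2.UU (3 ^ m) (0 : K) 0 1) = xg chevG2 K 9 1 * xg chevG2 K 11 1 := by
    rw [TwG2.UU_eq]
    have e1 : (0 : K) ^ 3 ^ m = 0 := zero_pow (by positivity)
    have e2 : (0 : K) ^ (3 ^ m + 1) = 0 := zero_pow (Nat.succ_ne_zero _)
    have e3 : (0 : K) ^ (2 * 3 ^ m + 1) = 0 := zero_pow (Nat.succ_ne_zero _)
    have e4 : (1 : K) ^ 3 ^ m = 1 := one_pow _
    rw [e1, e2, e3, e4, zero_add, zero_add, xg_zero TwG2.G, xg_zero TwG2.G, xg_zero TwG2.G, xg_zero TwG2.G]
    simp
  have h2 := congrFun (congrFun h 6) 1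
  have h3 : (rho hK ⟨TwG2.UU (3 ^ m) 0 0 1, TwG2.mem_UU _ _ _ _⟩) 6 1 =
      ((TwG2.UU (3 ^ m) (0 : K) 0 1 : GL chevG2.Idx K) : Matrix chevG2.Idx chevG2.Idx K) (idx 6) (idx 1) := rfl
  rw [h3, h1, Units.val_mul, Matrix.mul_apply, coe_xg TwG2.G, coe_xg TwG2.G] at h2
  have h9 : (9 : ℕ) < chevG2.nroots := by decide
  have h11 : (11 : ℕ) < chevG2.nroots := by decide
  have hx : ∀ (r : ℕ) (hr : r < chevG2.nroots) (i j : chevG2.Idx), chevG2.x K r 1 i j = ((zM chevG2 r i j : ℤ) : K) := by
    intro r hr i j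
    rw [ChevalleyDatum.x, dif_pos hr, xMat_one]
  simp only [hx 9 h9, hx 11 h11] at h2
  have h4 : ((∑ k : chevG2.Idx, zM chevG2 9 (idx 6) k * zM chevG2 11 k (idx 1) : ℤ) : K) = 0 := by
    push_cast
    rw [h2, Matrix.one_apply, if_neg (by decide)]
  rw [chk_ne] at h4
  push_cast at h4
  exact one_ne_zero (neg_eq_zero.mp h4)

theorem rho_inj (hm : 1 ≤ m) : Function.Injective (rho hK) := by
  haveI := (TwG2.simple hK hm).1
  have h1 : ∀ g h, rho hK g = rho hK h → rho hK (g * h⁻¹) = 1 := by
    intro g h e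
    have h2 : rho hK h * rho hK h⁻¹ = 1 := by rw [← map_mul, mul_inv_cancel, map_one]
    rw [map_mul, e, h2]
  set N : Subgroup (twistedG2 K (3 ^ m)) :=
    { carrier := {g | rho hK g = 1}
      one_mem' := map_one _
      mul_mem' := by
        intro a b ha hb
        show rho hK (a * b) = 1
        rw [map_mul, show rho hK a = 1 from ha, show rho hK b = 1 from hb, one_mul]
      inv_mem' := by
        intro a ha
        have h2 : rho hK a * rho hK a⁻¹ = 1 := by rw [← map_mul, mul_inv_cancel, map_one]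
        rw [show rho hK a = 1 from ha, one_mul] at h2
        exact h2 } with hN
  have hnorm : N.Normal := by
    refine ⟨fun a ha g => ?_⟩
    show rho hK (g * a * g⁻¹) = 1
    have h2 : rho hK g * rho hK g⁻¹ = 1 := by rw [← map_mul, mul_inv_cancel, map_one]
    rw [map_mul, map_mul, show rho hK a = 1 from ha, mul_one, h2]
  rcases hnorm.eq_bot_or_eq_top with h | h
  · intro a b hab
    have h2 : a * b⁻¹ ∈ N := h1 a b hab
    rw [h, Subgroup.mem_bot] at h2
    exact mul_inv_eq_one.mp h2
  · exfalso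
    have h2 : (⟨TwG2.UU (3 ^ m) 0 0 1, TwG2.mem_UU _ _ _ _⟩ : twistedG2 K (3 ^ m)) ∈ N := by rw [h]; trivial
    exact rho_ne hK h2

end Cfsg.Agent.Lib.ReeP
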