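import Cfsg.Agent.Lib.TwG2Inv2
set_option autoImplicit false
set_option linter.unusedSectionVars false
set_option linter.unusedVariables false
set_option linter.unusedSimpArgs false

/-!
The groups 2G2(q): the centralizer of an involution and the Sylow 2-subgroups.
-/

namespace Cfsg.Agent.Lib.TwG2
open Cfsg.Lie Cfsg.Agent.Lib.ChevX Cfsg.Agent.Lib.ChevGood Cfsg.Agent.Lib.ChevRel Cfsg.Agent.Lib.ChevNPerm
  Cfsg.Agent.Lib.ChevClosed Cfsg.Agent.Lib.ChevBruhat Cfsg.Agent.Lib.TwFix Cfsg.Agent.Lib.TwFix.TwRk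
  Cfsg.Agent.Lib.TwTab Cfsg.Agent.Lib.TwField Cfsg.Agent.Lib.TwSpec Cfsg.Agent.Lib.TwModp
open scoped MatrixGroups Matrix commutatorElement

universe u
variable {K : Type u} [Field K]

/-- a homomorphism from the group of order 2 -/
def two {Γ : Type*} [Group Γ] (a : Γ) (ha : a * a = 1) : Multiplicative (ZMod 2) →* Γ where
  toFun z := if z = 1 then 1 else a
  map_one' := if_pos rfl
  map_mul' := by
    have h : ∀ x y : Multiplicative (ZMod 2), (x = 1 ∧ x * y = y) ∨ (x ≠ 1 ∧ y = 1 ∧ x * y = x) ∨ (x ≠ 1 ∧ y ≠ 1 ∧ x * y = 1) := by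
      decide
    intro x y
    rcases h x y with ⟨h1, h2⟩ | ⟨h1, h2, h3⟩ | ⟨h1, h2, h3⟩
    · rw [h2, if_pos h1, one_mul]
    · rw [h3, if_neg h1, if_pos h2, mul_one]
    · rw [h3, if_pos rfl, if_neg h1, if_neg h2, ha]

theorem z2_sq : ∀ z : Multiplicative (ZMod 2), z * z = 1 := by decide

theorem two_apply {Γ : Type*} [Group Γ] (a : Γ) (ha : a * a = 1) (z : Multiplicative (ZMod 2)) :
    two a ha z = if z = 1 then 1 else a := rfl

section
variable [Fintype K] {m : ℕ} (hK : Fintype.card K = 3 ^ (2 * m + 1))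
include hK

/-- the involution -/
noncomputable def aG : ↥(twistedG2 K (3 ^ m)) := ⟨th (3 ^ m) (-1 : K), th_mem hK (neg_ne_zero.mpr one_ne_zero)⟩

theorem aG_sq : aG hK * aG hK = 1 := by
  apply Subtype.ext
  show th (3 ^ m) (-1 : K) * th (3 ^ m) (-1 : K) = 1
  rw [th_mul (T hK) _ (neg_ne_zero.mpr one_ne_zero) (neg_ne_zero.mpr one_ne_zero)]
  have : (-1 : K) * -1 = 1 := by norm_num
  rw [this, th_one hK]

noncomputable def phiG : SL(2, K) →* ↥(twistedG2 K (3 ^ m)) := (phi hK).codRestrict _ (phi_mem hK)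

/-- the homomorphism from `PSL(2,K)` -/
noncomputable def phiP : Matrix.ProjectiveSpecialLinearGroup (Fin 2) K →* ↥(twistedG2 K (3 ^ m)) :=
  QuotientGroup.lift _ (phiG hK) (by
    intro x hx
    apply Subtype.ext
    rcases (SL2Basic.mem_center_iff' x).mp hx with rfl | rfl
    · show phi hK 1 = 1
      exact map_one _
    · exact phi_neg_one hK)

theorem phiP_mk (x : SL(2, K)) : phiP hK (QuotientGroup.mk x) = phiG hK x := rfl

/-- the homomorphism onto the centralizer -/
noncomputable def psi : Multiplicative (ZMod 2) × Matrix.ProjectiveSpecialLinearGroup (Fin 2) K →* ↥(twistedG2 K (3 ^ m)) :=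
  (two (aG hK) (aG_sq hK)).noncommCoprod (phiP hK) (by
    intro z x
    obtain ⟨x, rfl⟩ := QuotientGroup.mk_surjective x
    rw [two_apply]
    split_ifs
    · exact Commute.one_left _
    · exact Subtype.ext (a_phi hK x).eq)

theorem psi_apply (z : Multiplicative (ZMod 2)) (x : SL(2, K)) :
    (psi hK (z, QuotientGroup.mk x) : GL chevG2.Idx K) = th (3 ^ m) (if z = 1 then (1 : K) else -1) * phi hK x := by
  show (((two (aG hK) (aG_sq hK)) z * phiP hK (QuotientGroup.mk x) : ↥(twistedG2 K (3 ^ m))) : GL chevG2.Idx K) = _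
  rw [two_apply, phiP_mk]
  split_ifs
  · rw [one_mul, th_one hK, one_mul]; rfl
  · rfl

theorem psi_inj : Function.Injective (psi hK) := by
  rw [injective_iff_map_eq_one]
  rintro ⟨z, x⟩ h
  obtain ⟨x, rfl⟩ := QuotientGroup.mk_surjective x
  have h1 := congrArg Subtype.val h
  rw [psi_apply] at h1
  obtain ⟨h2, h3⟩ := ker_form hK (by split_ifs <;> simp) h1
  have hz : z = 1 := by
    by_contra hz
    rw [if_neg hz] at h2
    apply neg_one_nonsq hK
    rw [h2]; exact ⟨1, by norm_num⟩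
  rw [hz]
  have h4 : (QuotientGroup.mk x : Matrix.ProjectiveSpecialLinearGroup (Fin 2) K) = 1 :=
    (Cfsg.Agent.Lib.MobCount.psl_mk_eq_one x).mpr h3
  rw [h4]; rfl

theorem psi_range : (psi hK).range = Subgroup.centralizer {aG hK} := by
  ext g
  rw [Subgroup.mem_centralizer_singleton_iff]
  constructor
  · rintro ⟨⟨z, x⟩, rfl⟩
    obtain ⟨x, rfl⟩ := QuotientGroup.mk_surjective x
    apply Subtype.ext
    show (psi hK (z, QuotientGroup.mk x) : GL chevG2.Idx K) * th (3 ^ m) (-1 : K) =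
      th (3 ^ m) (-1 : K) * (psi hK (z, QuotientGroup.mk x) : GL chevG2.Idx K)
    rw [psi_apply]
    have h0 : (if z = 1 then (1 : K) else -1) ≠ 0 := by split_ifs <;> simp
    exact ((a_th hK h0).mul_right (a_phi hK x)).eq.symm
  · intro h
    have hc : Commute (th (3 ^ m) (-1 : K)) (g : GL chevG2.Idx K) := (congrArg Subtype.val h).symm
    obtain ⟨γ, hγ | hγ⟩ := cen_eq hK g.2 hc
    · refine ⟨(1, QuotientGroup.mk γ), Subtype.ext ?_⟩
      rw [psi_apply, if_pos rfl, th_one hK, one_mul, hγ]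
    · refine ⟨(Multiplicative.ofAdd 1, QuotientGroup.mk γ), Subtype.ext ?_⟩
      rw [psi_apply, if_neg (by decide), hγ]

/-- an involution of the torus is `h(-1)` -/
theorem eq_aG (a : ↥(twistedG2 K (3 ^ m))) (haH : (a : GL chevG2.Idx K) ∈ chevG2.diagonalSubgroup K) (ha1 : a ≠ 1)
    (ha2 : a * a = 1) : a = aG hK := by
  obtain ⟨s, hs, h⟩ := exists_th hK (g := a) ⟨haH, (all hK).le a.2⟩
  have h1 : th (3 ^ m) (s * s) = th (3 ^ m) (1 : K) := by
    rw [← th_mul (T hK) _ hs hs, th_one hK, ← h]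
    exact congrArg Subtype.val ha2
  have h2 := th_inj hK (mul_ne_zero hs hs) one_ne_zero h1
  rcases mul_eq_zero.mp (show (s - 1) * (s + 1) = 0 by linear_combination h2) with h3 | h3
  · exfalso
    apply ha1
    apply Subtype.ext
    rw [h, sub_eq_zero.mp h3, th_one hK]; rfl
  · apply Subtype.ext
    rw [h, eq_neg_of_add_eq_zero_left h3]; rfl

theorem cen_iso (a : ↥(twistedG2 K (3 ^ m))) (haH : (a : GL chevG2.Idx K) ∈ chevG2.diagonalSubgroup K) (ha1 : a ≠ 1)
    (ha2 : a * a = 1) : Nonempty (↥(Subgroup.centralizer {a}) ≃*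
      Multiplicative (ZMod 2) × Matrix.ProjectiveSpecialLinearGroup (Fin 2) K) := by
  rw [eq_aG hK a haH ha1 ha2]
  exact ⟨((MonoidHom.ofInjective (psi_inj hK)).trans (MulEquiv.subgroupCongr (psi_range hK))).symm⟩

/-! ### the Sylow 2-subgroups -/

theorem card_mod : Nat.card ↥(twistedG2 K (3 ^ m)) % 16 = 8 := by
  rw [card_Γ hK]
  have h1 : 3 ^ (2 * m + 1) % 16 = 3 ∨ 3 ^ (2 * m + 1) % 16 = 11 := by
    induction m with
    | zero => left; norm_num
    | succ n ih =>
      have h2 : 3 ^ (2 * (n + 1) + 1) = 9 * 3 ^ (2 * n + 1) := by ring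
      rw [h2]
      have h3 : 3 ^ (2 * n + 1) % 16 = 3 ∨ 3 ^ (2 * n + 1) % 16 = 11 := by
        clear * -
        induction n with
        | zero => left; norm_num
        | succ n ih =>
          have h2 : 3 ^ (2 * (n + 1) + 1) = 9 * 3 ^ (2 * n + 1) := by ring
          rw [h2]; omega
      omega
  have h0 : 0 < 3 ^ (2 * m + 1) := by positivity
  generalize 3 ^ (2 * m + 1) = q at h1 h0
  obtain ⟨r, rfl⟩ : ∃ r, q = r + 1 := ⟨q - 1, by omega⟩
  rw [Nat.add_sub_cancel]
  have h2 : r % 16 = 2 ∨ r % 16 = 10 := by omega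
  have key : (r + 1) ^ 3 * r * ((r + 1) ^ 3 + 1) % 16 =
      (((r % 16) + 1) ^ 3 * (r % 16) * (((r % 16) + 1) ^ 3 + 1)) % 16 := by
    have e1 : (r + 1) % 16 = ((r % 16) + 1) % 16 := by omega
    have e2 : r % 16 = (r % 16) % 16 := by omega
    exact Nat.ModEq.mul (Nat.ModEq.mul (Nat.ModEq.pow 3 e1) e2) (Nat.ModEq.add_right 1 (Nat.ModEq.pow 3 e1))
  rw [key]
  rcases h2 with h2 | h2 <;> rw [h2] <;> norm_num

theorem sylow_card (S : Sylow 2 ↥(twistedG2 K (3 ^ m))) : Nat.card S = 8 := by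
  have : Fact (Nat.Prime 2) := ⟨Nat.prime_two⟩
  rw [S.card_eq_multiplicity]
  have h := card_mod hK
  have hne : Nat.card ↥(twistedG2 K (3 ^ m)) ≠ 0 := Nat.card_pos.ne'
  have h8 : 2 ^ 3 ∣ Nat.card ↥(twistedG2 K (3 ^ m)) := by norm_num; omega
  have h16 : ¬ 2 ^ 4 ∣ Nat.card ↥(twistedG2 K (3 ^ m)) := by norm_num; omega
  have h1 : 3 ≤ (Nat.card ↥(twistedG2 K (3 ^ m))).factorization 2 :=
    (Nat.prime_two.pow_dvd_iff_le_factorization hne).mp h8
  have h2 : ¬ 4 ≤ (Nat.card ↥(twistedG2 K (3 ^ m))).factorization 2 :=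
    fun h => h16 ((Nat.prime_two.pow_dvd_iff_le_factorization hne).mpr h)
  have h3 : (Nat.card ↥(twistedG2 K (3 ^ m))).factorization 2 = 3 := by omega
  rw [h3]; norm_num

/-- two elements of `SL(2,K)` -/
def sI (K : Type u) [Field K] : SL(2, K) := ⟨!![0, 1; -1, 0], by simp [Matrix.det_fin_two]⟩

def sJ : SL(2, K) := ⟨!![1, 1; 1, -1], by
  have := char3 hK
  rw [Matrix.det_fin_two]
  simp
  have h3 : (3 : K) = 0 := CharP.cast_eq_zero K 3
  linear_combination -h3⟩

theorem three : (3 : K) = 0 := by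
  have := char3 hK
  exact CharP.cast_eq_zero K 3

theorem sI_sq : sI K * sI K = -1 := by
  apply Subtype.ext
  rw [Matrix.SpecialLinearGroup.coe_mul]
  ext i j
  fin_cases i <;> fin_cases j <;> simp [sI, Matrix.mul_apply, Fin.sum_univ_two]

theorem sJ_sq : sJ hK * sJ hK = -1 := by
  have h3 := three hK
  apply Subtype.ext
  rw [Matrix.SpecialLinearGroup.coe_mul]
  ext i j
  fin_cases i <;> fin_cases j <;> simp [sJ, Matrix.mul_apply, Fin.sum_univ_two]
  · linear_combination h3
  · linear_combination h3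

theorem sIJ : sI K * sJ hK = (-1) * (sJ hK * sI K) := by
  have h3 := three hK
  apply Subtype.ext
  rw [Matrix.SpecialLinearGroup.coe_mul, Matrix.SpecialLinearGroup.coe_mul, Matrix.SpecialLinearGroup.coe_mul]
  ext i j
  fin_cases i <;> fin_cases j <;> simp [sI, sJ, Matrix.mul_apply, Fin.sum_univ_two]

theorem coe_IJ : ((sI K * sJ hK : SL(2, K)) : Matrix (Fin 2) (Fin 2) K) 0 1 = -1 := by
  rw [Matrix.SpecialLinearGroup.coe_mul]
  simp [sI, sJ, Matrix.mul_apply, Fin.sum_univ_two]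

/-- the images in the group -/
theorem iG_sq : phiG hK (sI K) * phiG hK (sI K) = 1 := by
  rw [← map_mul, sI_sq hK]
  exact Subtype.ext (phi_neg_one hK)

theorem jG_sq : phiG hK (sJ hK) * phiG hK (sJ hK) = 1 := by
  rw [← map_mul, sJ_sq hK]
  exact Subtype.ext (phi_neg_one hK)

theorem ijG : Commute (phiG hK (sI K)) (phiG hK (sJ hK)) := by
  show _ * _ = _ * _
  rw [← map_mul, sIJ hK, map_mul, map_mul]
  have : phiG hK (-1) = 1 := Subtype.ext (phi_neg_one hK)
  rw [this, one_mul]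

theorem aphiG (x : SL(2, K)) : Commute (aG hK) (phiG hK x) := Subtype.ext (a_phi hK x).eq

/-- the elementary abelian subgroup of order 8 -/
noncomputable def el8 : Multiplicative (ZMod 2) × Multiplicative (ZMod 2) × Multiplicative (ZMod 2) →*
    ↥(twistedG2 K (3 ^ m)) :=
  (two (aG hK) (aG_sq hK)).noncommCoprod
    ((two (phiG hK (sI K)) (iG_sq hK)).noncommCoprod (two (phiG hK (sJ hK)) (jG_sq hK)) (by
      intro x y
      rw [two_apply, two_apply]
      split_ifs
      · exact Commute.one_left _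
      · exact Commute.one_left _
      · exact Commute.one_right _
      · exact ijG hK)) (by
    rintro x ⟨y, z⟩
    show Commute (two (aG hK) (aG_sq hK) x) (two (phiG hK (sI K)) (iG_sq hK) y * two (phiG hK (sJ hK)) (jG_sq hK) z)
    have h1 : ∀ (b : ↥(twistedG2 K (3 ^ m))) (hb : b * b = 1) (y : Multiplicative (ZMod 2)), Commute (aG hK) b →
        Commute (two (aG hK) (aG_sq hK) x) (two b hb y) := by
      intro b hb y h
      rw [two_apply, two_apply]
      split_ifs
      · exact Commute.one_left _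
      · exact Commute.one_left _
      · exact Commute.one_right _
      · exact h
    exact (h1 _ _ y (aphiG hK _)).mul_right (h1 _ _ z (aphiG hK _)))

theorem el8_apply (x y z : Multiplicative (ZMod 2)) : el8 hK (x, y, z) =
    two (aG hK) (aG_sq hK) x * (two (phiG hK (sI K)) (iG_sq hK) y * two (phiG hK (sJ hK)) (jG_sq hK) z) := rfl

theorem el8_inj : Function.Injective (el8 hK) := by
  rw [injective_iff_map_eq_one]
  rintro ⟨x, y, z⟩ h
  rw [el8_apply] at h
  -- the element of `SL`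
  let γ : SL(2, K) := (if y = 1 then 1 else sI K) * (if z = 1 then 1 else sJ hK)
  have h1 : psi hK (x, QuotientGroup.mk γ) = 1 := by
    rw [← h]
    show two (aG hK) (aG_sq hK) x * phiP hK (QuotientGroup.mk γ) = _
    rw [phiP_mk, map_mul, two_apply (phiG hK (sI K)), two_apply (phiG hK (sJ hK))]
    congr 2
    · split_ifs
      · exact map_one _
      · rfl
    · split_ifs
      · exact map_one _
      · rfl
  have h2 := psi_inj hK (h1.trans (map_one _).symm)
  rw [Prod.mk_eq_one] at h2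
  obtain ⟨hx, hγ⟩ := h2
  have hγ' := (Cfsg.Agent.Lib.MobCount.psl_mk_eq_one γ).mp hγ
  have h2 := two_ne hK
  have hy : y = 1 := by
    by_contra hy
    have e : γ = sI K * (if z = 1 then 1 else sJ hK) := by
      show (if y = 1 then 1 else sI K) * _ = _
      rw [if_neg hy]
    by_cases hz : z = 1
    · rw [if_pos hz, mul_one] at e
      rw [e] at hγ'
      rcases hγ' with h | h
      · have := congrArg (fun A : SL(2, K) => (A : Matrix (Fin 2) (Fin 2) K) 0 0) h
        simp [sI] at this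
      · have := congrArg (fun A : SL(2, K) => (A : Matrix (Fin 2) (Fin 2) K) 0 0) h
        simp [sI] at this
    · rw [if_neg hz] at e
      rw [e] at hγ'
      rcases hγ' with h | h
      · have := congrArg (fun A : SL(2, K) => (A : Matrix (Fin 2) (Fin 2) K) 0 1) h
        simp only [coe_IJ] at this
        simp at this
      · have := congrArg (fun A : SL(2, K) => (A : Matrix (Fin 2) (Fin 2) K) 0 1) h
        simp only [coe_IJ] at this
        simp at this
  have hz : z = 1 := by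
    by_contra hz
    have e : γ = sJ hK := by
      show (if y = 1 then 1 else sI K) * (if z = 1 then 1 else sJ hK) = _
      rw [if_pos hy, if_neg hz, one_mul]
    rw [e] at hγ'
    rcases hγ' with h | h
    · have := congrArg (fun A : SL(2, K) => (A : Matrix (Fin 2) (Fin 2) K) 0 1) h
      simp [sJ] at this
    · have := congrArg (fun A : SL(2, K) => (A : Matrix (Fin 2) (Fin 2) K) 0 1) h
      simp [sJ] at this
  rw [hx, hy, hz]; rfl

theorem sylow2 (S : Sylow 2 ↥(twistedG2 K (3 ^ m))) : Nat.card S = 8 ∧ ∀ x ∈ S, x * x = 1 := by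
  have : Fact (Nat.Prime 2) := ⟨Nat.prime_two⟩
  refine ⟨sylow_card hK S, ?_⟩
  have hE : Nat.card ↥(el8 hK).range = 2 ^ 3 := by
    rw [← Nat.card_congr (MonoidHom.ofInjective (el8_inj hK)).toEquiv, Nat.card_prod, Nat.card_prod,
      Nat.card_congr (Multiplicative.toAdd (α := ZMod 2)), Nat.card_zmod]
    norm_num
  obtain ⟨P, hP⟩ := (IsPGroup.of_card hE).exists_le_sylow
  have hPE : (el8 hK).range = (P : Subgroup ↥(twistedG2 K (3 ^ m))) := by
    apply Subgroup.eq_of_le_of_card_ge hP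
    have := sylow_card hK P
    rw [hE]
    exact this.le
  obtain ⟨g, hg⟩ := MulAction.exists_smul_eq ↥(twistedG2 K (3 ^ m)) P S
  intro x hx
  rw [← hg] at hx
  have hx' : x ∈ ((g • P : Sylow 2 ↥(twistedG2 K (3 ^ m))) : Subgroup ↥(twistedG2 K (3 ^ m))) := hx
  rw [Sylow.coe_subgroup_smul, Subgroup.mem_smul_pointwise_iff_exists] at hx'
  obtain ⟨y, hy, rfl⟩ := hx'
  rw [← hPE] at hy
  obtain ⟨z, rfl⟩ := hy
  have hz : z * z = 1 := by
    obtain ⟨z1, z2, z3⟩ := z
    rw [Prod.mk_mul_mk, Prod.mk_mul_mk, z2_sq, z2_sq, z2_sq]; rfl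
  rw [← smul_mul', ← map_mul, hz, map_one, smul_one]

end

end Cfsg.Agent.Lib.TwG2
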