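import Cfsg.Agent.Lib.TwG2End
set_option autoImplicit false
set_option linter.unusedSectionVars false
set_option linter.unusedVariables false
set_option linter.unusedSimpArgs false

/-!
The groups 2G2(q): elements of odd order of the torus.
-/

namespace Cfsg.Agent.Lib.TwG2
open Cfsg.Lie Cfsg.Agent.Lib.ChevX Cfsg.Agent.Lib.ChevGood Cfsg.Agent.Lib.ChevRel Cfsg.Agent.Lib.ChevNPerm
  Cfsg.Agent.Lib.ChevClosed Cfsg.Agent.Lib.ChevBruhat Cfsg.Agent.Lib.TwFix Cfsg.Agent.Lib.TwFix.TwRk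
  Cfsg.Agent.Lib.TwTab Cfsg.Agent.Lib.TwField Cfsg.Agent.Lib.TwSpec Cfsg.Agent.Lib.TwModp
open scoped MatrixGroups Matrix commutatorElement

universe u
variable {K : Type u} [Field K]

section
variable [Fintype K] {m : ℕ} (hK : Fintype.card K = 3 ^ (2 * m + 1))
include hK

theorem half : ∃ k, Odd k ∧ 3 ^ (2 * m + 1) - 1 = 2 * k := by
  have h : 3 ^ (2 * m + 1) % 4 = 3 := by
    rw [pow_succ, pow_mul, Nat.mul_mod, Nat.pow_mod]; norm_num
  refine ⟨(3 ^ (2 * m + 1) - 1) / 2, ?_, by omega⟩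
  rw [Nat.odd_iff]; omega

theorem odd_order_iff {k : ℕ} (hk : Odd k) (h : 3 ^ (2 * m + 1) - 1 = 2 * k) (t : Kˣ) : Odd (orderOf t) ↔ t ^ k = 1 := by
  have hc : orderOf t ∣ 2 * k := by
    rw [← h]
    have := orderOf_dvd_natCard t
    rwa [Nat.card_units, Nat.card_eq_fintype_card, hK] at this
  constructor
  · intro ho
    exact orderOf_dvd_iff_pow_eq_one.mp ((Nat.Coprime.dvd_mul_left (Nat.Coprime.symm (Nat.coprime_two_left.mpr ho))).mp hc)
  · intro ho
    exact hk.of_dvd_nat (orderOf_dvd_of_pow_eq_one ho)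

theorem card_odd : 2 * Nat.card {h : ↥(chevG2.diagonalSubgroup K ⊓ twistedG2 K (3 ^ m)) // Odd (orderOf h)} =
    3 ^ (2 * m + 1) - 1 := by
  obtain ⟨k, hk, h⟩ := half hK
  rw [h]
  congr 1
  have e1 : Nat.card {h : ↥(chevG2.diagonalSubgroup K ⊓ twistedG2 K (3 ^ m)) // Odd (orderOf h)} =
      Nat.card (powMonoidHom k : Kˣ →* Kˣ).ker := by
    refine Nat.card_congr (Equiv.subtypeEquiv (thE hK).symm.toEquiv fun g => ?_)
    have h1 : orderOf g = orderOf ((thE hK).symm g) := ((thE hK).symm.orderOf_eq g).symm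
    rw [h1, odd_order_iff hK hk h]
    rfl
  rw [e1, IsCyclic.card_powMonoidHom_ker, Nat.card_units, Nat.card_eq_fintype_card, hK, h]
  exact Nat.gcd_eq_right ⟨2, by ring⟩

theorem UU_zero : UU (3 ^ m) (0 : K) 0 0 = 1 := by
  rw [UU_eq]
  have z : (0 : K) ^ 3 ^ m = 0 := zero_pow (by positivity)
  have z1 : (0 : K) ^ (3 ^ m + 1) = 0 := zero_pow (by positivity)
  have z2 : (0 : K) ^ (2 * 3 ^ m + 1) = 0 := zero_pow (by positivity)
  rw [z, z1, z2]
  simp [xg_zero G]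

theorem cen_odd {h : GL chevG2.Idx K} (hh : h ∈ chevG2.diagonalSubgroup K ⊓ twistedG2 K (3 ^ m)) (h1 : h ≠ 1)
    (ho : Odd (orderOf h)) : (chevG2.posUnipotent K ⊓ twistedG2 K (3 ^ m)) ⊓ Subgroup.centralizer {h} = ⊥ := by
  obtain ⟨t, ht⟩ := (thE hK).surjective ⟨h, hh⟩
  have ht' : th (3 ^ m) (t : K) = h := congrArg Subtype.val ht
  obtain ⟨k, hk, hk2⟩ := half hK
  have ho1 : orderOf h = orderOf t := by
    have h3 : orderOf (thE hK t) = orderOf t := (thE hK).orderOf_eq t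
    rw [← h3, ht]
    exact Subgroup.orderOf_coe (⟨h, hh⟩ : ↥(chevG2.diagonalSubgroup K ⊓ twistedG2 K (3 ^ m)))
  rw [ho1] at ho
  have ht1 : t ≠ 1 := by
    rintro rfl
    apply h1
    rw [map_one] at ht
    exact (congrArg Subtype.val ht).symm
  have t1 : (t : K) ≠ 1 := fun h => ht1 (Units.ext h)
  have t2 : (t : K) ^ 2 ≠ 1 := by
    intro h
    have h2 : t ^ 2 = 1 := Units.ext (by simpa using h)
    have h3 := orderOf_dvd_of_pow_eq_one h2
    have h4 : orderOf t = 1 := by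
      rcases (Nat.dvd_prime Nat.prime_two).mp h3 with h | h
      · exact h
      · rw [h] at ho; exact absurd ho (by decide)
    exact ht1 (orderOf_eq_one_iff.mp h4)
  rw [eq_bot_iff]
  intro g hg
  obtain ⟨t0, u, v, rfl⟩ := (mem_U_iff hK).mp hg.1
  have hc := Subgroup.mem_centralizer_singleton_iff.mp hg.2
  rw [Subgroup.mem_bot]
  have h5 : th (3 ^ m) (t : K) * UU (3 ^ m) t0 u v * (th (3 ^ m) (t : K))⁻¹ = UU (3 ^ m) t0 u v := by
    rw [ht', ← hc]; group
  rw [th_UU hK t.ne_zero] at h5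
  obtain ⟨e1, e2, e3⟩ := UU_inj hK h5
  have tn : (t : K) ≠ 0 := t.ne_zero
  have hs : (t : K) ^ 3 ^ m ≠ 0 := pow_ne_zero _ tn
  have hTt := hT hK (t : K)
  have z3 : v = 0 := by
    have : ((t : K) - 1) * v = 0 := by linear_combination e3
    exact (mul_eq_zero.mp this).resolve_left (sub_ne_zero.mpr t1)
  have z2 : u = 0 := by
    by_contra hu
    have h6 : ((t : K) ^ 3 ^ m) ^ 3 = t := by
      have h7 : ((t : K) ^ 3 ^ m) ^ 3 * (t : K)⁻¹ = 1 := mul_right_cancel₀ hu (by rw [e2, one_mul])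
      field_simp at h7
      exact h7
    rw [h6] at hTt
    rw [hTt] at h6
    apply t2
    have h8 : (t : K) * (t : K) ^ 2 = (t : K) * 1 := by linear_combination h6
    exact mul_left_cancel₀ tn h8
  have z1 : t0 = 0 := by
    by_contra hu
    have h6 : ((t : K) ^ 3 ^ m) ^ 3 = (t : K) ^ 2 := by
      have h7 : (((t : K) ^ 3 ^ m) ^ 3)⁻¹ * (t : K) ^ 2 = 1 := mul_right_cancel₀ hu (by rw [e1, one_mul])
      field_simp at h7
      exact h7.symm
    rw [h6] at hTt
    have h8 : ((t : K) ^ 3 ^ m) ^ 2 = t := by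
      rw [← pow_mul, mul_comm, pow_mul]; exact hTt
    have h9 : (t : K) * (t : K) ^ 3 ^ m = (t : K) * t := by
      linear_combination h6 - h8 * ((t : K) ^ 3 ^ m)
    have h10 := mul_left_cancel₀ tn h9
    rw [h10] at h8
    apply t1
    have h11 : (t : K) * t = t * 1 := by linear_combination h8
    exact mul_left_cancel₀ tn h11
  rw [z1, z2, z3, UU_zero hK]

end

end Cfsg.Agent.Lib.TwG2
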