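import Mathlib
import Cfsg.Agent.Lib.ReeO
import Cfsg.Agent.Lib.ReeP
import Cfsg.Agent.Lib.TwG2Inv3
import Cfsg.Agent.Lib.TwG2Tor

/-!
The small Ree groups satisfy the abstract data (helper18).
-/

set_option autoImplicit false
set_option linter.unusedSectionVars false

namespace Cfsg.Agent.Lib.ReeQ

open Cfsg.Lie Cfsg.Agent.Lib Cfsg.Agent.Lib.TwG2 Cfsg.Agent.Lib.ChevNPerm Cfsg.Agent.Lib.ChevBruhat
open Cfsg.Agent.Lib.ReeA

variable {K : Type*} [Field K] [Fintype K] {m : ℕ} (hK : Fintype.card K = 3 ^ (2 * m + 1))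

local notation "R" => twistedG2 K (3 ^ m)

theorem card_subgroupOf {Γ : Type*} [Group Γ] (A R' : Subgroup Γ) :
    Nat.card ((A ⊓ R').subgroupOf R') = Nat.card (A ⊓ R' : Subgroup Γ) :=
  Nat.card_congr (Subgroup.subgroupOfEquivOfLe inf_le_right).toEquiv

theorem mem_sub {Γ : Type*} [Group Γ] (A R' : Subgroup Γ) (x : R') :
    x ∈ (A ⊓ R').subgroupOf R' ↔ (x : Γ) ∈ A := by
  rw [Subgroup.mem_subgroupOf]
  exact ⟨fun h => h.1, fun h => ⟨h, x.2⟩⟩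

include hK

theorem exists_th' {h : GL chevG2.Idx K} (hh : h ∈ chevG2.diagonalSubgroup K ⊓ R) :
    ∃ s : K, s ≠ 0 ∧ h = th (3 ^ m) s := by
  obtain ⟨t, ht⟩ := (thE hK).surjective ⟨h, hh⟩
  refine ⟨t, t.ne_zero, ?_⟩
  rw [← thE_apply hK, ht]

theorem borel_form {g : GL chevG2.Idx K} (hg : g ∈ chevG2.borelSubgroup K ⊓ R) :
    ∃ t u v s : K, s ≠ 0 ∧ g = UU (3 ^ m) t u v * th (3 ^ m) s := by
  obtain ⟨u, hu, h, hh, rfl⟩ := (all hK).mem_B hg
  obtain ⟨t, u, v, rfl⟩ := (mem_U_iff hK).mp hu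
  obtain ⟨s, hs, rfl⟩ := exists_th' hK hh
  exact ⟨t, u, v, s, hs, rfl⟩

omit hK in
theorem nJ_diag {h : GL chevG2.Idx K} (hh : h ∈ chevG2.diagonalSubgroup K) :
    nJ K * h * (nJ K)⁻¹ ∈ chevG2.diagonalSubgroup K := mono_conj_diag G mono_nJ hh

theorem nJ_not_B : nJ K ∉ chevG2.borelSubgroup K := fun h =>
  nJ_not_H hK (Cfsg.Agent.Lib.TwFix.TwGrp.borel_inf_monomial (T hK) h (nJ_memN hK).1)

theorem th_mem_R {s : K} (hs : s ≠ 0) : th (3 ^ m) s ∈ R := th_mem hK hs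

theorem inter' {b b' : GL chevG2.Idx K} (hb : b ∈ chevG2.borelSubgroup K ⊓ R) (hb' : b' ∈ chevG2.borelSubgroup K ⊓ R)
    (h : b * nJ K = nJ K * b') : b ∈ chevG2.diagonalSubgroup K := by
  obtain ⟨t, u, v, s, hs, rfl⟩ := borel_form hK hb
  obtain ⟨t', u', v', s', hs', rfl⟩ := borel_form hK hb'
  -- move the torus elements
  have h1 : nJ K * (nJ K * th (3 ^ m) s * (nJ K)⁻¹) * (nJ K)⁻¹ ∈ chevG2.diagonalSubgroup K :=
    nJ_diag (nJ_diag (th_memH hK hs))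
  have h2 : (nJ K)⁻¹ * th (3 ^ m) s * nJ K ∈ chevG2.diagonalSubgroup K := by
    have h3 : Cfsg.Agent.Lib.ChevNPerm.Mono G (nJ K)⁻¹ wJ⁻¹ := mono_inv G mono_nJ
    have := mono_conj_diag G h3 (th_memH hK hs)
    rwa [inv_inv] at this
  have h2R : (nJ K)⁻¹ * th (3 ^ m) s * nJ K ∈ R := mul_mem (mul_mem (inv_mem (nJ_memN hK).2) (th_mem_R hK hs)) (nJ_memN hK).2
  obtain ⟨s'', hs'', he⟩ := exists_th' hK ⟨h2, h2R⟩
  have h3 : (th (3 ^ m) s')⁻¹ * UU (3 ^ m) t' u' v' * th (3 ^ m) s' ∈ chevG2.posUnipotent K ⊓ R := by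
    have h4 := th_UU hK (inv_ne_zero hs') t' u' v'
    rw [← th_inv hK hs', inv_inv] at h4
    rw [h4]
    exact ⟨UU_memU _ _ _ _, mem_UU _ _ _ _⟩
  obtain ⟨a, b, c, habc⟩ := (mem_U_iff hK).mp h3
  have hUU0 : UU (3 ^ m) (0 : K) 0 0 = 1 := UU_zero hK
  have h5 : UU (3 ^ m) t u v * (nJ K * th (3 ^ m) s'') * UU (3 ^ m) (0 : K) 0 0 =
      UU (3 ^ m) (0 : K) 0 0 * (nJ K * th (3 ^ m) s') * UU (3 ^ m) a b c := by
    rw [hUU0, ← habc, ← he, one_mul, mul_one]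
    calc UU (3 ^ m) t u v * (nJ K * ((nJ K)⁻¹ * th (3 ^ m) s * nJ K)) = UU (3 ^ m) t u v * th (3 ^ m) s * nJ K := by group
      _ = nJ K * (UU (3 ^ m) t' u' v' * th (3 ^ m) s') := h
      _ = _ := by group
  obtain ⟨e1, e2, e3, -⟩ := unique2 hK hs'' hs' h5
  rw [e1, e2, e3, hUU0, one_mul]
  exact th_memH hK hs

theorem card_Borel : Nat.card (chevG2.borelSubgroup K ⊓ R : Subgroup (GL chevG2.Idx K)) =
    (3 ^ (2 * m + 1)) ^ 3 * (3 ^ (2 * m + 1) - 1) := by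
  have e : (chevG2.posUnipotent K ⊓ R : Subgroup (GL chevG2.Idx K)) × (chevG2.diagonalSubgroup K ⊓ R : Subgroup (GL chevG2.Idx K)) ≃
      (chevG2.borelSubgroup K ⊓ R : Subgroup (GL chevG2.Idx K)) := by
    refine Equiv.ofBijective (fun p => ⟨p.1 * p.2, ⟨mul_mem (borel_U G p.1.2.1) (borel_H G p.2.2.1),
      mul_mem p.1.2.2 p.2.2.2⟩⟩) ⟨?_, ?_⟩
    · rintro ⟨u, h⟩ ⟨u', h'⟩ hp
      have h1 : (u : GL chevG2.Idx K) * h = u' * h' := congrArg Subtype.val hp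
      obtain ⟨t, v, w, hu⟩ := (mem_U_iff hK).mp u.2
      obtain ⟨t', v', w', hu'⟩ := (mem_U_iff hK).mp u'.2
      obtain ⟨s, hs, hh⟩ := exists_th' hK h.2
      obtain ⟨s', hs', hh'⟩ := exists_th' hK h'.2
      rw [hu, hu', hh, hh'] at h1
      obtain ⟨e1, e2, e3, e4⟩ := unique1 hK hs hs' h1
      refine Prod.ext (Subtype.ext ?_) (Subtype.ext ?_)
      · show (u : GL chevG2.Idx K) = u'
        rw [hu, hu', e1, e2, e3]
      · show (h : GL chevG2.Idx K) = h'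
        rw [hh, hh', e4]
    · rintro ⟨b, hb⟩
      obtain ⟨u, hu, h, hh, rfl⟩ := (all hK).mem_B hb
      exact ⟨(⟨u, hu⟩, ⟨h, hh⟩), rfl⟩
  rw [← Nat.card_congr e, Nat.card_prod, card_U hK, card_H hK]

omit hK in
theorem borel_norm_U {b u : GL chevG2.Idx K} (hb : b ∈ chevG2.borelSubgroup K) (hu : u ∈ chevG2.posUnipotent K) :
    b * u * b⁻¹ ∈ chevG2.posUnipotent K := by
  have h := ChevH.U_normal_B G (F := K)
  have h1 := h.conj_mem ⟨u, borel_U G hu⟩ (by rw [Subgroup.mem_subgroupOf]; exact hu) ⟨b, hb⟩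
  rw [Subgroup.mem_subgroupOf] at h1
  exact h1

/-- the small Ree groups -/
noncomputable def rd (hm : 1 ≤ m) : RD R K m where
  hm := hm
  hK := hK
  B := (chevG2.borelSubgroup K ⊓ R).subgroupOf R
  U := (chevG2.posUnipotent K ⊓ R).subgroupOf R
  H := (chevG2.diagonalSubgroup K ⊓ R).subgroupOf R
  n := ⟨nJ K, (nJ_memN hK).2⟩
  card_G := by rw [card_Γ hK, hK]
  card_B := by rw [card_subgroupOf, card_Borel hK, hK]
  card_U := by rw [card_subgroupOf, card_U hK, hK]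
  card_H := by rw [card_subgroupOf, card_H hK, hK]
  hUB := by
    intro x hx
    rw [mem_sub] at hx ⊢
    exact borel_U G hx
  hHB := by
    intro x hx
    rw [mem_sub] at hx ⊢
    exact borel_H G hx
  nU := by
    intro b hb u hu
    rw [mem_sub] at hb hu ⊢
    exact borel_norm_U hb hu
  cyc := by
    haveI := cyclic_H hK
    exact isCyclic_of_surjective (Subgroup.subgroupOfEquivOfLe (inf_le_right : chevG2.diagonalSubgroup K ⊓ R ≤ R)).symm
      (MulEquiv.surjective _)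
  nH := by
    intro h hh
    rw [mem_sub] at hh ⊢
    exact nJ_diag hh
  nB := by
    rw [mem_sub]
    exact nJ_not_B hK
  inter := by
    intro b hb hb'
    rw [mem_sub] at hb hb' ⊢
    have hR : (nJ K)⁻¹ * b * nJ K ∈ R := mul_mem (mul_mem (inv_mem (nJ_memN hK).2) b.2) (nJ_memN hK).2
    refine inter' hK (b' := (nJ K)⁻¹ * b * nJ K) ⟨hb, b.2⟩ ⟨hb', hR⟩ ?_
    group
  odd := by
    intro h hh h1 ho u hu hc
    rw [mem_sub] at hh hu
    have h2 := cen_odd hK (h := (h : GL chevG2.Idx K)) ⟨hh, h.2⟩ (fun h' => h1 (Subtype.ext h'))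
      (by rw [Subgroup.orderOf_coe]; exact ho)
    have h4 : (u : GL chevG2.Idx K) ∈ Subgroup.centralizer {(h : GL chevG2.Idx K)} := by
      rw [Subgroup.mem_centralizer_iff]
      rintro _ rfl
      exact (congrArg Subtype.val hc).symm
    have h3 : (u : GL chevG2.Idx K) ∈ (chevG2.posUnipotent K ⊓ R) ⊓ Subgroup.centralizer {(h : GL chevG2.Idx K)} :=
      ⟨⟨hu, u.2⟩, h4⟩
    rw [h2, Subgroup.mem_bot] at h3
    exact Subtype.ext h3
  cent := by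
    intro a ha h1 h2
    rw [mem_sub] at ha
    exact cen_iso hK a ha h1 h2
  syl := fun S => sylow2 hK S
  simple := (TwG2.simple hK hm).1
  ncomm := (TwG2.simple hK hm).2

end Cfsg.Agent.Lib.ReeQ
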