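import Mathlib
import Cfsg.Agent.Lib.ReeQ

/-!
Cubes in the Sylow 3-subgroup of the small Ree groups (helper18).
-/

set_option autoImplicit false
set_option linter.unusedSectionVars false

namespace Cfsg.Agent.Lib.ReeU

open Cfsg.Lie Cfsg.Agent.Lib Cfsg.Agent.Lib.TwG2 Cfsg.Agent.Lib.ChevNPerm Cfsg.Agent.Lib.ChevBruhat Cfsg.Agent.Lib.ChevRel
open Cfsg.Agent.Lib.ReeA

variable {K : Type*} [Field K] [CharP K 3]

/-- products over the four higher roots -/
noncomputable def Vv (c d e f : K) : GL chevG2.Idx K :=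
  xg chevG2 K 8 c * xg chevG2 K 9 d * xg chevG2 K 10 e * xg chevG2 K 11 f

theorem commG {r s : ℕ} (hr : r < chevG2.nroots) (hs : s < chevG2.nroots) (h : s ≠ r) (hn : s ≠ chevG2.neg r)
    (hc : ((chevG2.commTerms r s).all fun c => c.2.1 % 3 == 0) = true) (a b : K) :
    xg chevG2 K s b * xg chevG2 K r a = xg chevG2 K r a * xg chevG2 K s b := by
  have h1 : Commute (xg chevG2 K r a) (xg chevG2 K s b) := by
    refine Cfsg.Agent.Lib.TwSpec.xg_commute_p G hr hs h hn (fun c hc' => ?_) a b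
    rw [List.all_eq_true] at hc
    exact TwG2.c3 (by simpa using hc c hc')
  exact h1.eq.symm

theorem c97 (a b : K) : xg chevG2 K 9 b * xg chevG2 K 7 a = xg chevG2 K 7 a * xg chevG2 K 9 b :=
  commG (by decide) (by decide) (by decide) (by decide) (by decide +kernel) a b
theorem c107 (a b : K) : xg chevG2 K 10 b * xg chevG2 K 7 a = xg chevG2 K 7 a * xg chevG2 K 10 b :=
  commG (by decide) (by decide) (by decide) (by decide) (by decide +kernel) a b
theorem c117 (a b : K) : xg chevG2 K 11 b * xg chevG2 K 7 a = xg chevG2 K 7 a * xg chevG2 K 11 b :=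
  commG (by decide) (by decide) (by decide) (by decide) (by decide +kernel) a b
theorem c86 (a b : K) : xg chevG2 K 8 b * xg chevG2 K 6 a = xg chevG2 K 6 a * xg chevG2 K 8 b :=
  commG (by decide) (by decide) (by decide) (by decide) (by decide +kernel) a b
theorem c96 (a b : K) : xg chevG2 K 9 b * xg chevG2 K 6 a = xg chevG2 K 6 a * xg chevG2 K 9 b :=
  commG (by decide) (by decide) (by decide) (by decide) (by decide +kernel) a b
theorem c116 (a b : K) : xg chevG2 K 11 b * xg chevG2 K 6 a = xg chevG2 K 6 a * xg chevG2 K 11 b :=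
  commG (by decide) (by decide) (by decide) (by decide) (by decide +kernel) a b

theorem c87 (a b : K) : xg chevG2 K 8 b * xg chevG2 K 7 a = xg chevG2 K 7 a * xg chevG2 K 8 b * xg chevG2 K 9 (2 * a * b) := by
  rw [xg_comm G (by decide) (by decide) (by decide) (by decide) a b]
  congr 1
  have hc : chevG2.commTerms 7 8 = [(9, -2, 1, 1), (10, -3, 2, 1), (11, 3, 1, 2)] := by decide +kernel
  unfold ChevalleyDatum.commWord
  rw [hc]
  have h3 : (3 : K) = 0 := by exact_mod_cast CharP.cast_eq_zero K 3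
  simp only [List.map_cons, List.map_nil, wg, List.prod_cons, List.prod_nil, mul_one, mul_assoc, pow_one]
  push_cast
  rw [h3]
  simp only [neg_zero, zero_mul]
  rw [xg_zero G, xg_zero G, mul_one, mul_one]
  congr 1; ring

theorem c106 (a b : K) : xg chevG2 K 10 b * xg chevG2 K 6 a = xg chevG2 K 6 a * xg chevG2 K 10 b * xg chevG2 K 11 (-(a * b)) := by
  rw [xg_comm G (by decide) (by decide) (by decide) (by decide) a b]
  congr 1
  have hc : chevG2.commTerms 6 10 = [(11, 1, 1, 1)] := by decide +kernel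
  unfold ChevalleyDatum.commWord
  rw [hc]
  simp only [List.map_cons, List.map_nil, wg, List.prod_cons, List.prod_nil, mul_one, mul_assoc, pow_one]
  congr 1
  push_cast; ring

theorem V_mul (c d e f c' d' e' f' : K) : Vv c d e f * Vv c' d' e' f' = Vv (c + c') (d + d') (e + e') (f + f') := by
  have k1 : ∀ a b : K, xg chevG2 K 11 a * xg chevG2 K 8 b = xg chevG2 K 8 b * xg chevG2 K 11 a :=
    fun a b => (cmU (by decide) (by decide) a b).eq
  have k2 : ∀ a b : K, xg chevG2 K 10 a * xg chevG2 K 8 b = xg chevG2 K 8 b * xg chevG2 K 10 a :=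
    fun a b => (cmU (by decide) (by decide) a b).eq
  have k3 : ∀ a b : K, xg chevG2 K 9 a * xg chevG2 K 8 b = xg chevG2 K 8 b * xg chevG2 K 9 a :=
    fun a b => (cmU (by decide) (by decide) a b).eq
  have k4 : ∀ a b : K, xg chevG2 K 11 a * xg chevG2 K 9 b = xg chevG2 K 9 b * xg chevG2 K 11 a :=
    fun a b => (cmU (by decide) (by decide) a b).eq
  have k5 : ∀ a b : K, xg chevG2 K 10 a * xg chevG2 K 9 b = xg chevG2 K 9 b * xg chevG2 K 10 a :=
    fun a b => (cmU (by decide) (by decide) a b).eq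
  have k6 : ∀ a b : K, xg chevG2 K 11 a * xg chevG2 K 10 b = xg chevG2 K 10 b * xg chevG2 K 11 a :=
    fun a b => (cmU (by decide) (by decide) a b).eq
  unfold Vv
  rw [← xg_add G, ← xg_add G, ← xg_add G, ← xg_add G]
  calc xg chevG2 K 8 c * xg chevG2 K 9 d * xg chevG2 K 10 e * xg chevG2 K 11 f *
        (xg chevG2 K 8 c' * xg chevG2 K 9 d' * xg chevG2 K 10 e' * xg chevG2 K 11 f')
      = xg chevG2 K 8 c * xg chevG2 K 9 d * xg chevG2 K 10 e * (xg chevG2 K 11 f * xg chevG2 K 8 c') *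
        xg chevG2 K 9 d' * xg chevG2 K 10 e' * xg chevG2 K 11 f' := by group
    _ = xg chevG2 K 8 c * xg chevG2 K 9 d * (xg chevG2 K 10 e * xg chevG2 K 8 c') * (xg chevG2 K 11 f *
        xg chevG2 K 9 d') * xg chevG2 K 10 e' * xg chevG2 K 11 f' := by rw [k1]; group
    _ = xg chevG2 K 8 c * (xg chevG2 K 9 d * xg chevG2 K 8 c') * (xg chevG2 K 10 e * xg chevG2 K 9 d') * (xg chevG2 K 11 f *
        xg chevG2 K 10 e') * xg chevG2 K 11 f' := by rw [k2, k4]; group
    _ = _ := by rw [k3, k5, k6]; group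

theorem V_7 (c d e f a : K) : Vv c d e f * xg chevG2 K 7 a = xg chevG2 K 7 a * Vv c (d + 2 * a * c) e f := by
  have k3 : ∀ a b : K, xg chevG2 K 9 a * xg chevG2 K 9 b = xg chevG2 K 9 b * xg chevG2 K 9 a :=
    fun a b => (cmU (by decide) (by decide) a b).eq
  unfold Vv
  calc xg chevG2 K 8 c * xg chevG2 K 9 d * xg chevG2 K 10 e * xg chevG2 K 11 f * xg chevG2 K 7 a
      = xg chevG2 K 8 c * xg chevG2 K 9 d * xg chevG2 K 10 e * (xg chevG2 K 11 f * xg chevG2 K 7 a) := by group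
    _ = xg chevG2 K 8 c * xg chevG2 K 9 d * (xg chevG2 K 10 e * xg chevG2 K 7 a) * xg chevG2 K 11 f := by
        rw [c117]; group
    _ = xg chevG2 K 8 c * (xg chevG2 K 9 d * xg chevG2 K 7 a) * xg chevG2 K 10 e * xg chevG2 K 11 f := by
        rw [c107]; group
    _ = (xg chevG2 K 8 c * xg chevG2 K 7 a) * xg chevG2 K 9 d * xg chevG2 K 10 e * xg chevG2 K 11 f := by
        rw [c97]; group
    _ = xg chevG2 K 7 a * (xg chevG2 K 8 c * (xg chevG2 K 9 (2 * a * c) * xg chevG2 K 9 d) * xg chevG2 K 10 e * xg chevG2 K 11 f) := by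
        rw [c87]; group
    _ = _ := by rw [k3, xg_add G]

theorem V_6 (c d e f b : K) : Vv c d e f * xg chevG2 K 6 b = xg chevG2 K 6 b * Vv c d e (f - b * e) := by
  unfold Vv
  calc xg chevG2 K 8 c * xg chevG2 K 9 d * xg chevG2 K 10 e * xg chevG2 K 11 f * xg chevG2 K 6 b
      = xg chevG2 K 8 c * xg chevG2 K 9 d * xg chevG2 K 10 e * (xg chevG2 K 11 f * xg chevG2 K 6 b) := by group
    _ = xg chevG2 K 8 c * xg chevG2 K 9 d * (xg chevG2 K 10 e * xg chevG2 K 6 b) * xg chevG2 K 11 f := by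
        rw [c116]; group
    _ = xg chevG2 K 8 c * (xg chevG2 K 9 d * xg chevG2 K 6 b) * xg chevG2 K 10 e * (xg chevG2 K 11 (-(b * e)) * xg chevG2 K 11 f) := by
        rw [c106]; group
    _ = (xg chevG2 K 8 c * xg chevG2 K 6 b) * xg chevG2 K 9 d * xg chevG2 K 10 e * (xg chevG2 K 11 (-(b * e)) * xg chevG2 K 11 f) := by
        rw [c96]; group
    _ = xg chevG2 K 6 b * (xg chevG2 K 8 c * xg chevG2 K 9 d * xg chevG2 K 10 e * (xg chevG2 K 11 (-(b * e)) * xg chevG2 K 11 f)) := by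
        rw [c86]; group
    _ = _ := by rw [xg_add G]; congr 3; ring

theorem c67 (a b : K) : xg chevG2 K 6 b * xg chevG2 K 7 a = xg chevG2 K 7 a * xg chevG2 K 6 b *
    Vv (a * b) (a ^ 2 * b) (-(a ^ 3 * b)) (-(a ^ 3 * b ^ 2)) := comm76 a b

/-- the cube of a general element of `U` -/
theorem cube (a b c d e f : K) : (xg chevG2 K 7 a * xg chevG2 K 6 b * Vv c d e f) ^ 3 =
    Vv 0 (-(a ^ 2 * b)) 0 (-(a ^ 3 * b ^ 2)) := by
  have h3 : (3 : K) = 0 := by exact_mod_cast CharP.cast_eq_zero K 3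
  -- the square
  have hsq : (xg chevG2 K 7 a * xg chevG2 K 6 b * Vv c d e f) * (xg chevG2 K 7 a * xg chevG2 K 6 b * Vv c d e f) =
      xg chevG2 K 7 (a + a) * xg chevG2 K 6 (b + b) * Vv (a * b + 2 * c) (a ^ 2 * b + 2 * d + 2 * a * c)
        (-(a ^ 3 * b) + 2 * e) (2 * f - b * e) := by
    calc (xg chevG2 K 7 a * xg chevG2 K 6 b * Vv c d e f) * (xg chevG2 K 7 a * xg chevG2 K 6 b * Vv c d e f)
        = xg chevG2 K 7 a * xg chevG2 K 6 b * (Vv c d e f * xg chevG2 K 7 a) * xg chevG2 K 6 b * Vv c d e f := by group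
      _ = xg chevG2 K 7 a * (xg chevG2 K 6 b * xg chevG2 K 7 a) * (Vv c (d + 2 * a * c) e f * xg chevG2 K 6 b) * Vv c d e f := by
          rw [V_7]; group
      _ = xg chevG2 K 7 a * xg chevG2 K 7 a * xg chevG2 K 6 b * (Vv (a * b) (a ^ 2 * b) (-(a ^ 3 * b)) (-(a ^ 3 * b ^ 2)) * xg chevG2 K 6 b) *
          (Vv c (d + 2 * a * c) e (f - b * e) * Vv c d e f) := by
          rw [V_6 c, c67]; group
      _ = (xg chevG2 K 7 a * xg chevG2 K 7 a) * (xg chevG2 K 6 b * xg chevG2 K 6 b) *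
          (Vv (a * b) (a ^ 2 * b) (-(a ^ 3 * b)) (-(a ^ 3 * b ^ 2) - b * (-(a ^ 3 * b))) *
          (Vv c (d + 2 * a * c) e (f - b * e) * Vv c d e f)) := by
          rw [V_6]; group
      _ = _ := by
          rw [V_mul, V_mul, xg_add G, xg_add G]
          congr 2 <;> ring
  have hc2 : xg chevG2 K 6 (b + b) * xg chevG2 K 7 a = xg chevG2 K 7 a * xg chevG2 K 6 (b + b) *
      Vv (a * (b + b)) (a ^ 2 * (b + b)) (-(a ^ 3 * (b + b))) (-(a ^ 3 * (b + b) ^ 2)) := c67 a (b + b)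
  rw [pow_succ, pow_two, hsq]
  set X8 := a * b + 2 * c with hX8
  set X9 := a ^ 2 * b + 2 * d + 2 * a * c with hX9
  set X10 := -(a ^ 3 * b) + 2 * e with hX10
  set X11 := 2 * f - b * e with hX11
  have h7 : xg chevG2 K 7 (a + a) * xg chevG2 K 7 a = 1 := by
    rw [xg_add G, show a + a + a = 3 * a by ring, h3, zero_mul, xg_zero G]
  have h6 : xg chevG2 K 6 (b + b) * xg chevG2 K 6 b = 1 := by
    rw [xg_add G, show b + b + b = 3 * b by ring, h3, zero_mul, xg_zero G]
  calc xg chevG2 K 7 (a + a) * xg chevG2 K 6 (b + b) * Vv X8 X9 X10 X11 * (xg chevG2 K 7 a * xg chevG2 K 6 b * Vv c d e f)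
      = xg chevG2 K 7 (a + a) * xg chevG2 K 6 (b + b) * (Vv X8 X9 X10 X11 * xg chevG2 K 7 a) * xg chevG2 K 6 b * Vv c d e f := by
        group
    _ = xg chevG2 K 7 (a + a) * (xg chevG2 K 6 (b + b) * xg chevG2 K 7 a) * (Vv X8 (X9 + 2 * a * X8) X10 X11 * xg chevG2 K 6 b) *
        Vv c d e f := by rw [V_7]; group
    _ = (xg chevG2 K 7 (a + a) * xg chevG2 K 7 a) * xg chevG2 K 6 (b + b) *
        (Vv (a * (b + b)) (a ^ 2 * (b + b)) (-(a ^ 3 * (b + b))) (-(a ^ 3 * (b + b) ^ 2)) * xg chevG2 K 6 b) *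
        (Vv X8 (X9 + 2 * a * X8) X10 (X11 - b * X10) * Vv c d e f) := by rw [V_6 X8, hc2]; group
    _ = (xg chevG2 K 6 (b + b) * xg chevG2 K 6 b) *
        (Vv (a * (b + b)) (a ^ 2 * (b + b)) (-(a ^ 3 * (b + b))) (-(a ^ 3 * (b + b) ^ 2) - b * (-(a ^ 3 * (b + b)))) *
        (Vv X8 (X9 + 2 * a * X8) X10 (X11 - b * X10) * Vv c d e f)) := by rw [h7, V_6]; group
    _ = Vv (a * (b + b)) (a ^ 2 * (b + b)) (-(a ^ 3 * (b + b))) (-(a ^ 3 * (b + b) ^ 2) - b * (-(a ^ 3 * (b + b)))) *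
        (Vv X8 (X9 + 2 * a * X8) X10 (X11 - b * X10) * Vv c d e f) := by rw [h6, one_mul]
    _ = _ := by
        rw [V_mul, V_mul]
        congr 1
        · rw [hX8]; linear_combination (a * b + c) * h3
        · rw [hX8, hX9]; linear_combination (2 * a ^ 2 * b + d + 2 * a * c) * h3
        · rw [hX10]; linear_combination (-(a ^ 3 * b) + e) * h3
        · rw [hX10, hX11]; linear_combination (f - b * e) * h3

end Cfsg.Agent.Lib.ReeU
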