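import Mathlib
import Cfsg.Agent.Lib.ReeU

/-!
Orders of elements in the Sylow 3-subgroup of the small Ree groups (helper18).
-/

set_option autoImplicit false
set_option linter.unusedSectionVars false

namespace Cfsg.Agent.Lib.ReeV

open Cfsg.Lie Cfsg.Agent.Lib Cfsg.Agent.Lib.TwG2 Cfsg.Agent.Lib.ReeU Cfsg.Agent.Lib.ChevRel

variable {K : Type*} [Field K] [Fintype K] {m : ℕ} (hK : Fintype.card K = 3 ^ (2 * m + 1))

include hK

theorem UU_cube (t u v : K) : UU (3 ^ m) t u v ^ 3 = UU (3 ^ m) 0 0 (-((t ^ 3 ^ m) ^ 3 * t ^ 2)) := by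
  haveI := char3 hK
  have h1 : UU (3 ^ m) t u v = xg chevG2 K 7 (t ^ 3 ^ m) * xg chevG2 K 6 t *
      Vv (t ^ (3 ^ m + 1) + u ^ 3 ^ m) (t ^ (2 * 3 ^ m + 1) + v ^ 3 ^ m) u v := UU_eq _ t u v
  rw [h1, cube, UU_eq]
  have e0 : (0 : K) ^ 3 ^ m = 0 := zero_pow (pow_ne_zero _ (by norm_num))
  have e1 : (0 : K) ^ (3 ^ m + 1) = 0 := zero_pow (Nat.succ_ne_zero _)
  have e2 : (0 : K) ^ (2 * 3 ^ m + 1) = 0 := zero_pow (Nat.succ_ne_zero _)
  rw [e0, e1, e2, xg_zero G, xg_zero G, one_mul, one_mul, zero_add, zero_add]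
  unfold Vv
  have hodd : (-((t ^ 3 ^ m) ^ 3 * t ^ 2)) ^ 3 ^ m = -((t ^ 3 ^ m) ^ 2 * t) := by
    have h3 : Odd (3 ^ m) := Odd.pow (by decide)
    rw [h3.neg_pow, mul_pow, hT hK, ← pow_mul, ← pow_mul, mul_comm 2 (3 ^ m)]
    ring
  rw [hodd]

theorem UU_zero_eq {t u v : K} : UU (3 ^ m) t u v = 1 ↔ t = 0 ∧ u = 0 ∧ v = 0 := by
  rw [← UU_zero hK]
  constructor
  · intro h
    exact UU_inj hK h
  · rintro ⟨rfl, rfl, rfl⟩; rfl

theorem cube_eq_one {t u v : K} : UU (3 ^ m) t u v ^ 3 = 1 ↔ t = 0 := by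
  rw [UU_cube hK, UU_zero_eq hK]
  constructor
  · rintro ⟨-, -, h⟩
    rw [neg_eq_zero, mul_eq_zero] at h
    rcases h with h | h
    · exact pow_eq_zero_iff (pow_ne_zero _ (by norm_num)) |>.mp (pow_eq_zero_iff (by norm_num) |>.mp h)
    · exact pow_eq_zero_iff (by norm_num) |>.mp h
  · rintro rfl
    refine ⟨rfl, rfl, ?_⟩
    ring

theorem nine (t u v : K) : UU (3 ^ m) t u v ^ 9 = 1 := by
  rw [show 9 = 3 * 3 by norm_num, pow_mul, UU_cube hK, cube_eq_one hK]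

theorem orderOf_three {t u v : K} : orderOf (UU (3 ^ m) t u v) = 3 ↔ t = 0 ∧ (u ≠ 0 ∨ v ≠ 0) := by
  haveI : Fact (Nat.Prime 3) := ⟨Nat.prime_three⟩
  constructor
  · intro h
    have h1 := orderOf_dvd_iff_pow_eq_one.mp (dvd_of_eq h)
    have h2 := (cube_eq_one hK).mp h1
    refine ⟨h2, ?_⟩
    by_contra hne
    push Not at hne
    rw [(UU_zero_eq hK).mpr ⟨h2, hne.1, hne.2⟩, orderOf_one] at h
    norm_num at h
  · rintro ⟨h1, h2⟩
    apply orderOf_eq_prime ((cube_eq_one hK).mpr h1)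
    intro h
    obtain ⟨-, h3, h4⟩ := (UU_zero_eq hK).mp h
    rcases h2 with h | h
    · exact h h3
    · exact h h4

/-- S1154 -/
theorem card_three : Nat.card {u : ↥(chevG2.posUnipotent K ⊓ twistedG2 K (3 ^ m)) // orderOf u = 3} =
    (3 ^ (2 * m + 1)) ^ 2 - 1 := by
  classical
  have e : {p : K × K // p ≠ 0} ≃ {u : ↥(chevG2.posUnipotent K ⊓ twistedG2 K (3 ^ m)) // orderOf u = 3} := by
    refine Equiv.ofBijective (fun p => ⟨UF m (0, p.1.1, p.1.2), ?_⟩) ⟨?_, ?_⟩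
    · rw [← Subgroup.orderOf_coe]
      show orderOf (UU (3 ^ m) 0 p.1.1 p.1.2) = 3
      rw [orderOf_three hK]
      refine ⟨rfl, ?_⟩
      by_contra hne
      push Not at hne
      exact p.2 (Prod.ext hne.1 hne.2)
    · rintro ⟨p, hp⟩ ⟨p', hp'⟩ h
      have h1 := congrArg Subtype.val h
      have h2 := (UF_bij hK).1 h1
      apply Subtype.ext
      simp only [Prod.mk.injEq] at h2
      exact Prod.ext h2.2.1 h2.2.2
    · rintro ⟨u, hu⟩
      obtain ⟨⟨t, a, b⟩, hp⟩ := (UF_bij hK).2 u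
      rw [← hp, ← Subgroup.orderOf_coe] at hu
      obtain ⟨ht, hab⟩ := (orderOf_three hK).mp (show orderOf (UU (3 ^ m) t a b) = 3 from hu)
      refine ⟨⟨(a, b), ?_⟩, ?_⟩
      · intro h
        rw [Prod.mk_eq_zero] at h
        rcases hab with h' | h'
        · exact h' h.1
        · exact h' h.2
      · apply Subtype.ext
        show UF m (0, a, b) = u
        rw [← hp, ht]
  rw [← Nat.card_congr e, Nat.card_eq_fintype_card]
  have h1 : Fintype.card {p : K × K // p ≠ 0} = Fintype.card (K × K) - 1 := by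
    rw [Fintype.card_subtype_compl, Fintype.card_subtype_eq]
  rw [h1, Fintype.card_prod, hK, pow_two]

end Cfsg.Agent.Lib.ReeV
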