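import Mathlib
import Cfsg.Agent.Lib.ReeT

/-!
Controlled tori: conjugates, centralizers, Sylow subgroups (helper18).
-/

set_option autoImplicit false
set_option linter.unusedSectionVars false

namespace Cfsg.Agent.Lib.ReeT.Torus

open Cfsg.Agent.Lib.ReeD Cfsg.Agent.Lib.ReeT

variable {G : Type*} [Group G] [Finite G] {Y A : Subgroup G} {w : ℕ} (t : Torus Y A w)

include t

theorem cent_eq {Y₀ : Subgroup G} (h0 : Y₀ ≤ Y) (hne : Y₀ ≠ ⊥) : Subgroup.centralizer (Y₀ : Set G) = A := by
  apply le_antisymm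
  · obtain ⟨⟨x, hx⟩, hx1'⟩ := (Subgroup.ne_bot_iff_exists_ne_one).mp hne
    have hx1 : x ≠ 1 := fun h => hx1' (Subtype.ext h)
    intro c hc
    exact t.cent x (h0 hx) hx1 c ((Subgroup.mem_centralizer_iff.mp hc) x hx).symm
  · intro a ha
    rw [Subgroup.mem_centralizer_iff]
    intro y hy
    exact t.comm y (t.le (h0 hy)) a ha

/-- conjugates of controlled tori -/
theorem map (g : G) : Torus (Y.map (MulAut.conj g).toMonoidHom) (A.map (MulAut.conj g).toMonoidHom) w := by
  have hinj := (MulAut.conj g).injective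
  have hcardY : Nat.card (Y.map (MulAut.conj g).toMonoidHom) = Nat.card Y :=
    Nat.card_congr (Subgroup.equivMapOfInjective Y _ hinj).toEquiv.symm
  have hmem : ∀ (B : Subgroup G) (x : G), x ∈ B.map (MulAut.conj g).toMonoidHom ↔ g⁻¹ * x * g ∈ B := by
    intro B x
    constructor
    · rintro ⟨b, hb, rfl⟩
      show g⁻¹ * (g * b * g⁻¹) * g ∈ B
      have : g⁻¹ * (g * b * g⁻¹) * g = b := by group
      rw [this]; exact hb
    · intro h
      refine ⟨_, h, ?_⟩
      show g * (g⁻¹ * x * g) * g⁻¹ = x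
      group
  refine
    { cyc := ?_
      le := Subgroup.map_mono t.le
      comm := ?_
      cent := ?_
      mem := ?_
      conj := ?_
      norm := ?_ }
  · haveI := t.cyc
    exact isCyclic_of_surjective (Subgroup.equivMapOfInjective Y _ hinj) (MulEquiv.surjective _)
  · rintro _ ⟨a, ha, rfl⟩ _ ⟨b, hb, rfl⟩
    rw [← map_mul, t.comm a ha b hb, map_mul]
  · rintro _ ⟨y, hy, rfl⟩ hy1 c hc
    rw [hmem]
    have hc' : c * (g * y * g⁻¹) = (g * y * g⁻¹) * c := hc
    refine t.cent y hy (fun h => hy1 (by rw [h, map_one])) _ ?_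
    calc g⁻¹ * c * g * y = g⁻¹ * (c * (g * y * g⁻¹)) * g := by group
      _ = g⁻¹ * ((g * y * g⁻¹) * c) * g := by rw [hc']
      _ = _ := by group
  · intro a ha h1
    rw [hmem] at ha ⊢
    rw [hcardY] at h1
    apply t.mem _ ha
    have : (g⁻¹ * a * g) ^ Nat.card Y = g⁻¹ * a ^ Nat.card Y * g := by
      have h2 := conj_pow (a := g⁻¹) (b := a) (i := Nat.card Y)
      rw [inv_inv] at h2
      exact h2
    rw [this, h1]; group
  · intro p hp hpY x hx
    rw [hcardY] at hpY
    obtain ⟨h, hh⟩ := t.conj p hp hpY x hx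
    refine ⟨g * h, ?_⟩
    rw [hmem]
    have : g⁻¹ * (g * h * x * (g * h)⁻¹) * g = h * x * h⁻¹ := by group
    rw [this]; exact hh
  · rw [← t.norm]
    have e : Subgroup.normalizer ((A.map (MulAut.conj g).toMonoidHom : Subgroup G) : Set G) =
        (Subgroup.normalizer (A : Set G)).map (MulAut.conj g).toMonoidHom := by
      ext n
      rw [hmem, Subgroup.mem_normalizer_iff, Subgroup.mem_normalizer_iff]
      constructor
      · intro h a
        have h1 := h (g * a * g⁻¹)
        rw [hmem, hmem] at h1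
        have e1 : g⁻¹ * (g * a * g⁻¹) * g = a := by group
        have e2 : g⁻¹ * (n * (g * a * g⁻¹) * n⁻¹) * g = g⁻¹ * n * g * a * (g⁻¹ * n * g)⁻¹ := by group
        rw [e1, e2] at h1
        exact h1
      · intro h x
        rw [hmem, hmem]
        have h1 := h (g⁻¹ * x * g)
        have e2 : g⁻¹ * n * g * (g⁻¹ * x * g) * (g⁻¹ * n * g)⁻¹ = g⁻¹ * (n * x * n⁻¹) * g := by group
        rw [e2] at h1
        exact h1
    rw [e]
    exact Nat.card_congr (Subgroup.equivMapOfInjective _ _ hinj).toEquiv.symm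

/-- Sylow subgroups for primes dividing `|Y|` are conjugate into `Y` -/
theorem sylow_conj {p : ℕ} [Fact p.Prime] (hpY : p ∣ Nat.card Y) {c : ℕ} (hc : Nat.card A = Nat.card Y * c) (hpc : ¬ p ∣ c)
    {P : Subgroup G} (hP : IsPGroup p P) (hP1 : P ≠ ⊥) :
    ∃ g : G, P.map (MulAut.conj g).toMonoidHom ≤ Y := by
  have hp : p.Prime := Fact.out
  haveI : Nontrivial P := P.nontrivial_iff_ne_bot.mpr hP1
  haveI : Nontrivial (Subgroup.center P) := hP.center_nontrivial
  have h1 : p ∣ Nat.card (Subgroup.center P) := by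
    obtain ⟨k, hk⟩ := (hP.to_subgroup (Subgroup.center P)).exists_card_eq
    rw [hk]
    refine dvd_pow_self p ?_
    rintro rfl
    rw [pow_zero] at hk
    exact (Finite.one_lt_card (α := Subgroup.center P)).ne' hk
  obtain ⟨z, hz⟩ := exists_prime_orderOf_dvd_card' p h1
  have hzo : orderOf ((z : P) : G) = p := by rw [Subgroup.orderOf_coe, Subgroup.orderOf_coe]; exact hz
  obtain ⟨g, hg⟩ := t.conj p hp hpY _ hzo
  refine ⟨g, ?_⟩
  rintro _ ⟨a, ha, rfl⟩
  show g * a * g⁻¹ ∈ Y
  have haz : a * ((z : P) : G) = ((z : P) : G) * a := by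
    have := Subgroup.mem_center_iff.mp z.2 ⟨a, ha⟩
    exact congrArg Subtype.val this
  have h2 : g * a * g⁻¹ ∈ A := by
    refine t.cent _ hg ?_ _ ?_
    · intro h3
      have h4 := (MulAut.conj g).orderOf_eq ((z : P) : G)
      rw [MulAut.conj_apply, h3, orderOf_one, hzo] at h4
      exact hp.one_lt.ne h4
    · calc g * a * g⁻¹ * (g * ((z : P) : G) * g⁻¹) = g * (a * z) * g⁻¹ := by group
        _ = g * (z * a) * g⁻¹ := by rw [haz]
        _ = _ := by group
  apply t.mem _ h2
  have h3 : orderOf (g * a * g⁻¹) ∣ Nat.card Y * c := by rw [← hc]; exact Subgroup.orderOf_dvd_natCard A h2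
  obtain ⟨k, hk⟩ := (IsPGroup.iff_orderOf.mp hP) ⟨a, ha⟩
  have h4 : orderOf (g * a * g⁻¹) = p ^ k := by
    have h4 := (MulAut.conj g).orderOf_eq a
    rw [MulAut.conj_apply] at h4
    rw [h4, ← hk, Subgroup.orderOf_mk]
  rw [h4] at h3
  have h5 : Nat.Coprime (p ^ k) c := Nat.Coprime.pow_left k ((Nat.Prime.coprime_iff_not_dvd hp).mpr hpc)
  rw [← orderOf_dvd_iff_pow_eq_one, h4]
  exact h5.dvd_of_dvd_mul_right h3

theorem sylow_cyclic {p : ℕ} [Fact p.Prime] (hpY : p ∣ Nat.card Y) {c : ℕ} (hc : Nat.card A = Nat.card Y * c)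
    (hpc : ¬ p ∣ c) {P : Subgroup G} (hP : IsPGroup p P) : IsCyclic P := by
  by_cases hP1 : P = ⊥
  · rw [hP1]; exact isCyclic_of_subsingleton
  · obtain ⟨g, hg⟩ := t.sylow_conj hpY hc hpc hP hP1
    haveI := t.cyc
    have h1 : IsCyclic (P.map (MulAut.conj g).toMonoidHom) :=
      isCyclic_of_injective (Subgroup.inclusion hg) (Subgroup.inclusion_injective hg)
    exact isCyclic_of_surjective (Subgroup.equivMapOfInjective P (MulAut.conj g).toMonoidHom (MulAut.conj g).injective).symm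
      (MulEquiv.surjective _)

end Cfsg.Agent.Lib.ReeT.Torus
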