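import Mathlib
import Cfsg.Agent.Lib.ReeO
import Cfsg.Agent.Lib.ReeT2

/-!
Abstract small Ree groups, part R: the four classes of tori, Sylow subgroups (helper18).
-/

set_option autoImplicit false
set_option linter.unusedSectionVars false

namespace Cfsg.Agent.Lib.ReeA.RD

open Cfsg.Agent.Lib.ReePSL Cfsg.Agent.Lib.ReeA Cfsg.Agent.Lib.H53Ree Cfsg.Agent.Lib.H53PSL2 Cfsg.Agent.Lib.ReeB
open Cfsg.Agent.Lib.ReeD Cfsg.Agent.Lib.ReeG Cfsg.Agent.Lib.ReeT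

variable {G : Type*} [Group G] [Finite G] {K : Type*} [Field K] [Fintype K] {m : ℕ} (D : RD G K m)

local notation "q" => Fintype.card K

/-- the tori of the small Ree groups -/
structure Tor (m : ℕ) (Y A : Subgroup G) (w c : ℕ) : Prop where
  tor : Torus Y A w
  card : Nat.card A = Nat.card Y * c
  cop : ∀ p : ℕ, p.Prime → p ∣ Nat.card Y → ¬ p ∣ c
  val : (Nat.card Y = (3 ^ (2 * m + 1) - 1) / 2 ∧ w = 2 * (3 ^ (2 * m + 1) - 1) ∧ c = 2 ∧ IsCyclic A) ∨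
    (Nat.card Y = (3 ^ (2 * m + 1) + 1) / 4 ∧ w = 6 * (3 ^ (2 * m + 1) + 1) ∧ c = 4 ∧ (∀ x ∈ A, Odd (orderOf (x * x)))) ∨
    (Nat.card Y = 3 ^ (2 * m + 1) - 3 ^ (m + 1) + 1 ∧ w = 6 * (3 ^ (2 * m + 1) - 3 ^ (m + 1) + 1) ∧ c = 1) ∨
    (Nat.card Y = 3 ^ (2 * m + 1) + 3 ^ (m + 1) + 1 ∧ w = 6 * (3 ^ (2 * m + 1) + 3 ^ (m + 1) + 1) ∧ c = 1)

theorem tor_H : ∃ Y A : Subgroup G, Tor m Y A (2 * (3 ^ (2 * m + 1) - 1)) 2 ∧ Nat.card Y = (3 ^ (2 * m + 1) - 1) / 2 ∧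
    A = D.H := by
  obtain ⟨Y, hY, t⟩ := D.H_torus
  have hK := D.hK
  have hq := D.q_mod
  rw [hK] at hY t hq
  have hodd : Odd ((3 ^ (2 * m + 1) - 1) / 2) := by rw [Nat.odd_iff]; omega
  refine ⟨Y, D.H, ⟨t, ?_, ?_, Or.inl ⟨hY, rfl, rfl, D.cyc⟩⟩, hY, rfl⟩
  · rw [D.card_H, hY, hK]; omega
  · intro p hp hpY h2
    rw [hY] at hpY
    have hp2 : p = 2 := (Nat.prime_dvd_prime_iff_eq hp Nat.prime_two).mp h2
    rw [hp2] at hpY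
    rw [Nat.odd_iff] at hodd
    omega

theorem tor_E {x : G} (hx : D.IsE x) : ∃ Y A : Subgroup G, Tor m Y A (6 * (3 ^ (2 * m + 1) + 1)) 4 ∧
    Nat.card Y = (3 ^ (2 * m + 1) + 1) / 4 ∧ A = Subgroup.centralizer ({x} : Set G) ∧ x ∈ Y := by
  obtain ⟨Y, hY, hxY, t⟩ := D.E_torus hx
  have hK := D.hK
  have hq := D.q_mod
  have hc := D.E_card hx
  rw [hK] at hY t hq hc
  have hodd : Odd ((3 ^ (2 * m + 1) + 1) / 4) := by rw [Nat.odd_iff]; omega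
  refine ⟨Y, Subgroup.centralizer ({x} : Set G), ⟨t, ?_, ?_, Or.inr (Or.inl ⟨hY, rfl, rfl, ?_⟩)⟩, hY, rfl, hxY⟩
  · rw [hc, hY]; omega
  · intro p hp hpY h2
    rw [hY] at hpY
    have hp2 : p = 2 := (Nat.prime_dvd_prime_iff_eq hp Nat.prime_two).mp (hp.dvd_of_dvd_pow (show p ∣ 2 ^ 2 from h2))
    rw [hp2] at hpY
    rw [Nat.odd_iff] at hodd
    omega
  · intro c hc
    exact D.E_sq_odd hx (Subgroup.mem_centralizer_iff.mp hc x rfl).symm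

variable (ρ : G →* Matrix (Fin 7) (Fin 7) K) (hρ : Function.Injective ρ)

include D hρ

theorem tor_Q : ∃ A₁ A₂ : Subgroup G, Tor m A₁ A₁ (6 * (3 ^ (2 * m + 1) - 3 ^ (m + 1) + 1)) 1 ∧
    Tor m A₂ A₂ (6 * (3 ^ (2 * m + 1) + 3 ^ (m + 1) + 1)) 1 ∧
    Nat.card A₁ = 3 ^ (2 * m + 1) - 3 ^ (m + 1) + 1 ∧ Nat.card A₂ = 3 ^ (2 * m + 1) + 3 ^ (m + 1) + 1 := by
  obtain ⟨A₁, A₂, h1, h2, t1, t2⟩ := D.Q_tori ρ hρ
  have hone : ∀ p : ℕ, p.Prime → ∀ n : ℕ, p ∣ n → ¬ p ∣ 1 := by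
    intro p hp n _ h
    exact hp.one_lt.ne' (Nat.dvd_one.mp h)
  refine ⟨A₁, A₂, ⟨?_, by rw [mul_one], fun p hp _ => hone p hp 0 (dvd_zero p), Or.inr (Or.inr (Or.inl ⟨h1, rfl, rfl⟩))⟩,
    ⟨?_, by rw [mul_one], fun p hp _ => hone p hp 0 (dvd_zero p), Or.inr (Or.inr (Or.inr ⟨h2, rfl, rfl⟩))⟩, h1, h2⟩
  · rw [h1] at t1; exact t1
  · rw [h2] at t2; exact t2

/-- the product of the two last torus orders -/
theorem prod_Q : (3 ^ (2 * m + 1) - 3 ^ (m + 1) + 1) * (3 ^ (2 * m + 1) + 3 ^ (m + 1) + 1) =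
    (3 ^ (2 * m + 1)) ^ 2 - 3 ^ (2 * m + 1) + 1 := by
  have hle : 3 ^ (m + 1) ≤ 3 ^ (2 * m + 1) := Nat.pow_le_pow_right (by norm_num) (by omega)
  have hle2 : 3 ^ (2 * m + 1) ≤ (3 ^ (2 * m + 1)) ^ 2 := by
    rw [pow_two]; exact Nat.le_mul_self _
  zify [hle, hle2]
  have h3 : ((3 : ℤ) ^ (m + 1)) ^ 2 = 3 * 3 ^ (2 * m + 1) := by ring
  linear_combination (-1) * h3

/-- every prime `p > 3` dividing the group order divides the order of a torus -/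
theorem exists_tor {p : ℕ} (hp : p.Prime) (h2 : p ≠ 2) (h3 : p ≠ 3) (hpG : p ∣ Nat.card G) :
    ∃ (Y A : Subgroup G) (w c : ℕ), Tor m Y A w c ∧ p ∣ Nat.card Y := by
  have hK := D.hK
  have hq := D.q_mod
  rw [D.card_G', hK] at hpG
  rw [hK] at hq
  rcases hp.dvd_mul.mp hpG with h | h
  · rcases hp.dvd_mul.mp h with h | h
    · exfalso
      exact h3 ((Nat.prime_dvd_prime_iff_eq hp Nat.prime_three).mp (hp.dvd_of_dvd_pow (hp.dvd_of_dvd_pow h)))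
    · rcases hp.dvd_mul.mp h with h | h
      · obtain ⟨Y, A, t, hY, -⟩ := D.tor_H
        refine ⟨Y, A, _, _, t, ?_⟩
        rw [hY]
        have h4 : 3 ^ (2 * m + 1) - 1 = 2 * ((3 ^ (2 * m + 1) - 1) / 2) := by omega
        rw [h4] at h
        rcases hp.dvd_mul.mp h with h | h
        · exact absurd ((Nat.prime_dvd_prime_iff_eq hp Nat.prime_two).mp h) h2
        · exact h
      · obtain ⟨x, hx⟩ := D.exists_E
        obtain ⟨Y, A, t, hY, -⟩ := D.tor_E hx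
        refine ⟨Y, A, _, _, t, ?_⟩
        rw [hY]
        have h4 : 3 ^ (2 * m + 1) + 1 = 2 ^ 2 * ((3 ^ (2 * m + 1) + 1) / 4) := by omega
        rw [h4] at h
        rcases hp.dvd_mul.mp h with h | h
        · exact absurd ((Nat.prime_dvd_prime_iff_eq hp Nat.prime_two).mp (hp.dvd_of_dvd_pow h)) h2
        · exact h
  · obtain ⟨A₁, A₂, t₁, t₂, h1, h2'⟩ := D.tor_Q ρ hρ
    rw [← D.prod_Q ρ hρ] at h
    rcases hp.dvd_mul.mp h with h | h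
    · exact ⟨A₁, A₁, _, _, t₁, by rw [h1]; exact h⟩
    · exact ⟨A₂, A₂, _, _, t₂, by rw [h2']; exact h⟩

/-- S1156 -/
theorem sylow_cyclic {p : ℕ} [Fact p.Prime] (hp : 3 < p) (P : Sylow p G) : IsCyclic (P : Subgroup G) := by
  by_cases h : p ∣ Nat.card G
  · obtain ⟨Y, A, w, c, t, hpY⟩ := D.exists_tor ρ hρ (Fact.out : p.Prime) (by omega) (by omega) h
    exact t.tor.sylow_cyclic hpY t.card (t.cop p Fact.out hpY) P.2
  · have h1 : Nat.card (P : Subgroup G) = 1 := by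
      obtain ⟨k, hk⟩ := P.2.exists_card_eq
      rw [hk]
      rcases Nat.eq_zero_or_pos k with h2 | h2
      · rw [h2, pow_zero]
      · exfalso; apply h
        have h3 := Subgroup.card_subgroup_dvd_card (P : Subgroup G)
        rw [hk] at h3
        exact (dvd_pow_self p h2.ne').trans h3
    haveI : Subsingleton (P : Subgroup G) := (Nat.card_eq_one_iff_unique.mp h1).1
    exact isCyclic_of_subsingleton

/-- S1158 -/
theorem tor_all : ∀ kn ∈ ({((3 ^ (2 * m + 1) - 1) / 2, 2 * (3 ^ (2 * m + 1) - 1)), ((3 ^ (2 * m + 1) + 1) / 4, 6 * (3 ^ (2 * m + 1) + 1)),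
        (3 ^ (2 * m + 1) - 3 ^ (m + 1) + 1, 6 * (3 ^ (2 * m + 1) - 3 ^ (m + 1) + 1)),
        (3 ^ (2 * m + 1) + 3 ^ (m + 1) + 1, 6 * (3 ^ (2 * m + 1) + 3 ^ (m + 1) + 1))} : Set (ℕ × ℕ)),
      ∃ (Y A : Subgroup G) (c : ℕ), Tor m Y A kn.2 c ∧ Nat.card Y = kn.1 := by
  rintro kn (rfl | rfl | rfl | rfl)
  · obtain ⟨Y, A, t, hY, -⟩ := D.tor_H
    exact ⟨Y, A, _, t, hY⟩
  · obtain ⟨x, hx⟩ := D.exists_E
    obtain ⟨Y, A, t, hY, -⟩ := D.tor_E hx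
    exact ⟨Y, A, _, t, hY⟩
  · obtain ⟨A₁, A₂, t₁, t₂, h1, h2⟩ := D.tor_Q ρ hρ
    exact ⟨A₁, A₁, _, t₁, h1⟩
  · obtain ⟨A₁, A₂, t₁, t₂, h1, h2⟩ := D.tor_Q ρ hρ
    exact ⟨A₂, A₂, _, t₂, h2⟩

end Cfsg.Agent.Lib.ReeA.RD
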