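import Mathlib
import Cfsg.Agent.Lib.ReeR

/-!
Abstract small Ree groups, part S: Sylow 3-subgroups (helper18).
-/

set_option autoImplicit false
set_option linter.unusedSectionVars false

namespace Cfsg.Agent.Lib.ReeA.RD

open Cfsg.Agent.Lib.ReePSL Cfsg.Agent.Lib.ReeA Cfsg.Agent.Lib.H53Ree Cfsg.Agent.Lib.H53PSL2 Cfsg.Agent.Lib.ReeB
open Cfsg.Agent.Lib.ReeD Cfsg.Agent.Lib.ReeG Cfsg.Agent.Lib.ReeT

variable {G : Type*} [Group G] [Finite G] {K : Type*} [Field K] [Fintype K] {m : ℕ} (D : RD G K m)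

local notation "q" => Fintype.card K

theorem U_pgroup : IsPGroup 3 D.U := by
  apply IsPGroup.of_card (n := (2 * m + 1) * 3)
  rw [D.card_U, D.hK, ← pow_mul]

/-- a Sylow 3-subgroup fixing `a • o` is the conjugate `a U a⁻¹` -/
theorem sylow_eq (P : Sylow 3 G) {a : G} (ha : ∀ g ∈ (P : Subgroup G), g • (a • D.o) = a • D.o) :
    (P : Subgroup G) = D.U.map (MulAut.conj a).toMonoidHom := by
  have h1 : (P : Subgroup G) ≤ D.U.map (MulAut.conj a).toMonoidHom := by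
    intro g hg
    refine ⟨a⁻¹ * g * a, ?_, ?_⟩
    · apply D.mem_U
      · rw [← D.smul_o, mul_smul, mul_smul, ha g hg, inv_smul_smul]
      · rw [orderOf_conj_inv]
        obtain ⟨k, hk⟩ := (IsPGroup.iff_orderOf.mp P.2) ⟨g, hg⟩
        exact ⟨k, by rw [← hk, Subgroup.orderOf_mk]⟩
    · show a * (a⁻¹ * g * a) * a⁻¹ = g
      group
  have h2 : IsPGroup 3 (D.U.map (MulAut.conj a).toMonoidHom) := D.U_pgroup.map _
  exact (P.is_maximal' h2 h1).symm

theorem exists_point (D : RD G K m) (P : Sylow 3 G) : ∃ a : G, ∀ g ∈ (P : Subgroup G), g • (a • D.o) = a • D.o := by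
  obtain ⟨x, hx⟩ := D.three_fix P.2
  obtain ⟨a, rfl⟩ := QuotientGroup.mk_surjective x
  refine ⟨a, ?_⟩
  have : (QuotientGroup.mk a : G ⧸ D.B) = a • D.o := by
    show _ = a • (QuotientGroup.mk 1 : G ⧸ D.B)
    rw [MulAction.Quotient.smul_mk, smul_eq_mul, mul_one]
  rw [← this]; exact hx

/-- S1155 -/
theorem sylow_TI (D : RD G K m) (P Q : Sylow 3 G) (hPQ : P ≠ Q) : (P : Subgroup G) ⊓ (Q : Subgroup G) = ⊥ := by
  rw [Subgroup.eq_bot_iff_forall]
  rintro g ⟨hP, hQ⟩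
  by_contra hg1
  apply hPQ
  obtain ⟨a, ha⟩ := D.exists_point P
  obtain ⟨b, hb⟩ := D.exists_point Q
  have h1 := D.three_uniq hg1 (isPGroup_of_mem P.2 hP) (ha g hP) (hb g hQ)
  apply Sylow.ext
  rw [D.sylow_eq P ha, D.sylow_eq Q (a := a) (by rw [h1]; exact hb)]

end Cfsg.Agent.Lib.ReeA.RD
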