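import Mathlib
import Cfsg.Agent.Lib.ReeS

/-!
Abstract small Ree groups, part W: elements with exactly one fixed point, element orders (helper18).
-/

set_option autoImplicit false
set_option linter.unusedSectionVars false

namespace Cfsg.Agent.Lib.ReeA.RD

open Cfsg.Agent.Lib.ReePSL Cfsg.Agent.Lib.ReeA Cfsg.Agent.Lib.H53Ree Cfsg.Agent.Lib.H53PSL2 Cfsg.Agent.Lib.ReeB
open Cfsg.Agent.Lib.ReeD Cfsg.Agent.Lib.ReeG Cfsg.Agent.Lib.ReeT

variable {G : Type*} [Group G] [Finite G] {K : Type*} [Field K] [Fintype K] {m : ℕ} (D : RD G K m)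

local notation "q" => Fintype.card K
local notation "PSL2" => Matrix.ProjectiveSpecialLinearGroup (Fin 2) K

/-- The number of elements with exactly one fixed point. -/
theorem card_oneFix : (Nat.card {g : G // D.fixN g = 1} : ℤ) = ((q : ℤ) ^ 3 + 1) * (2 * q ^ 3 - q ^ 2 - 1) := by
  classical
  letI : Fintype G := Fintype.ofFinite G
  have hq := D.q_ge
  have s1 := D.sum_one
  have s2 := D.sum_two
  have hi : ∀ g : G, g ≠ 1 ∧ g * g = 1 → D.fixN g = q + 1 := by
    rintro g ⟨h1, h2⟩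
    obtain ⟨a, rfl⟩ := D.inv_conj h1 h2
    rw [fixN_conj, D.fixN_i]
  -- indicator decomposition
  have hq1 : q + 1 ≠ q ^ 3 + 1 := by
    intro h
    have h2 : q ^ 3 = q * (q * q) := by ring
    have h3 : 27 * 27 ≤ q * q := Nat.mul_le_mul hq hq
    have h4 : q * (27 * 27) ≤ q * (q * q) := Nat.mul_le_mul_left _ h3
    omega
  have key : ∀ (g : G) (φ : ℕ → ℤ), φ (D.fixN g) = φ 0 * (if D.fixN g = 0 then 1 else 0) + φ 1 * (if D.fixN g = 1 then 1 else 0) +
      φ 2 * (if D.fixN g = 2 then 1 else 0) + φ (q + 1) * (if (g ≠ 1 ∧ g * g = 1) then 1 else 0) +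
      φ (q ^ 3 + 1) * (if g = 1 then 1 else 0) := by
    intro g φ
    by_cases hg : g = 1
    · subst hg
      rw [D.fixN_one]
      have h0 : q ^ 3 + 1 ≠ 0 := by omega
      have h1 : q ^ 3 + 1 ≠ 1 := by
        have : 0 < q ^ 3 := by positivity
        omega
      have h2 : q ^ 3 + 1 ≠ 2 := by
        have : 27 ^ 3 ≤ q ^ 3 := Nat.pow_le_pow_left hq 3
        omega
      simp [h0, h1, h2]
    · rcases D.fixN_cases hg with h | ⟨h3, h⟩ | ⟨h2, -, h⟩ | ⟨h2, h⟩
      · have hn : ¬ (g ≠ 1 ∧ g * g = 1) := by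
          intro h'; have := hi g h'; omega
        rw [h]; simp [hn, hg]
        intro h'; exact absurd ⟨hg, h'⟩ hn
      · have hn : ¬ (g ≠ 1 ∧ g * g = 1) := by
          intro h'; have := hi g h'; omega
        rw [h]; simp [hg]
        intro h'; exact absurd ⟨hg, h'⟩ hn
      · rw [h]; simp [hg, h2]
      · have h0 : q + 1 ≠ 0 := by omega
        have h1 : q + 1 ≠ 1 := by omega
        have h1' : q + 1 ≠ 2 := by omega
        rw [h]; simp [hg, h2, h0]
        intro h'; omega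
  have S : ∀ φ : ℕ → ℤ, ∑ g : G, φ (D.fixN g) = φ 0 * Nat.card {g : G // D.fixN g = 0} + φ 1 * Nat.card {g : G // D.fixN g = 1} +
      φ 2 * Nat.card {g : G // D.fixN g = 2} + φ (q + 1) * Nat.card {g : G // g ≠ 1 ∧ g * g = 1} + φ (q ^ 3 + 1) := by
    intro φ
    rw [Finset.sum_congr rfl (fun g _ => key g φ)]
    rw [Finset.sum_add_distrib, Finset.sum_add_distrib, Finset.sum_add_distrib, Finset.sum_add_distrib,
      ← Finset.mul_sum, ← Finset.mul_sum, ← Finset.mul_sum, ← Finset.mul_sum, ← Finset.mul_sum]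
    rw [Finset.sum_boole, Finset.sum_boole, Finset.sum_boole, Finset.sum_boole, Finset.sum_boole]
    have hc : ∀ (P : G → Prop) [DecidablePred P], ((Finset.univ.filter P).card : ℤ) = (Nat.card {g // P g} : ℤ) := by
      intro P _
      rw [Nat.card_eq_fintype_card, Fintype.card_subtype]
    rw [hc, hc, hc, hc, hc]
    have h1 : Nat.card {g : G // g = 1} = 1 := by simp
    rw [h1]; push_cast; ring
  have S0 := S (fun _ => 1)
  have S1 := S (fun n => (n : ℤ))
  have S2 := S (fun n => (n : ℤ) ^ 2)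
  rw [Finset.sum_const, Finset.card_univ, ← Nat.card_eq_fintype_card] at S0
  have e1 : ∑ g : G, ((D.fixN g : ℕ) : ℤ) = Nat.card G := by rw [← s1]; push_cast; rfl
  have e2 : ∑ g : G, ((D.fixN g : ℕ) : ℤ) ^ 2 = 2 * Nat.card G := by
    have : ((∑ g : G, D.fixN g ^ 2 : ℕ) : ℤ) = ((2 * Nat.card G : ℕ) : ℤ) := by rw [s2]
    push_cast at this
    exact this
  rw [e1] at S1
  rw [e2] at S2
  rw [D.card_inv] at S0 S1 S2
  have hG : (Nat.card G : ℤ) = (q : ℤ) ^ 3 * (q - 1) * (q ^ 3 + 1) := by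
    rw [D.card_G]
    push_cast [Nat.cast_sub (show 1 ≤ q by omega)]
    ring
  have hI : ((q ^ 2 * (q ^ 2 - q + 1) : ℕ) : ℤ) = (q : ℤ) ^ 2 * (q ^ 2 - q + 1) := by
    have : q ≤ q ^ 2 := by nlinarith
    push_cast [Nat.cast_sub this]
    ring
  rw [hI] at S0 S1 S2
  rw [hG] at S1 S2
  have S0' : (q : ℤ) ^ 3 * (q - 1) * (q ^ 3 + 1) = Nat.card {g : G // D.fixN g = 0} + Nat.card {g : G // D.fixN g = 1} +
      Nat.card {g : G // D.fixN g = 2} + (q : ℤ) ^ 2 * (q ^ 2 - q + 1) + 1 := by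
    rw [← hG]
    have := S0
    simp only [nsmul_eq_mul, mul_one, one_mul] at this
    exact this
  push_cast at S1 S2
  linear_combination S2 - 2 * S1


/-- 3-elements in involution centralizers have order dividing 3 -/
theorem three_cent (D : RD G K m) {t u : G} (ht1 : t ≠ 1) (htt : t * t = 1) (hu : ∃ k, orderOf u = 3 ^ k)
    (hc : u * t = t * u) : u ^ 3 = 1 := by
  obtain ⟨ι, C, hcov⟩ := D.exists_conf' ht1 htt
  obtain ⟨k, hk⟩ := hu
  obtain ⟨y, hy⟩ := odd_mem C hcov hc (by rw [hk]; exact Odd.pow (by decide))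
  haveI : Fact (Nat.Prime 3) := ⟨Nat.prime_three⟩
  haveI := D.charP
  have hq := D.q_mod
  have hq27 := D.q_ge
  have ho : orderOf y = 3 ^ k := by rw [← hk, hy, orderOf_injective ι C.inj]
  have h3q : ¬ 3 ∣ (q - 1) / 2 := by
    intro h
    apply D.three_not_dvd_sub
    have : (q - 1) / 2 ∣ q - 1 := Nat.div_dvd_of_dvd (by omega)
    exact h.trans this
  have h3q' : ¬ 3 ∣ (q + 1) / 2 := by
    intro h
    have h1 : (q + 1) / 2 ∣ q + 1 := Nat.div_dvd_of_dvd (by omega)
    have h2 := h.trans h1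
    have h3 := D.dvd_q
    omega
  have gen : ∀ n : ℕ, ¬ 3 ∣ n → y ^ n = 1 → u ^ 3 = 1 := by
    intro n hn h1
    have h2 := orderOf_dvd_of_pow_eq_one h1
    rw [ho] at h2
    have h3 : k = 0 := by
      by_contra hk0
      exact hn ((dvd_pow_self 3 hk0).trans h2)
    rw [h3, pow_zero, orderOf_eq_one_iff] at ho
    rw [hy, ho, map_one, one_pow]
  rcases Cfsg.Agent.Lib.PSL2Orders.pow_cases (p := 3) y with h | h | h
  · rw [hy, ← map_pow, h, map_one]
  · rw [D.gcd2] at h
    exact gen _ h3q h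
  · rw [D.gcd2] at h
    exact gen _ h3q' h

theorem pgroup_iff {u : G} : IsPGroup 3 (Subgroup.zpowers u) ↔ ∃ k, orderOf u = 3 ^ k := by
  haveI : Fact (Nat.Prime 3) := ⟨Nat.prime_three⟩
  rw [IsPGroup.iff_card, Nat.card_zpowers]

/-- elements of order divisible by 3 -/
theorem order_three (h9 : ∀ u ∈ D.U, u ^ 9 = 1) {g : G} (h3 : 3 ∣ orderOf g) :
    orderOf g = 3 ∨ orderOf g = 6 ∨ orderOf g = 9 := by
  have hg0 : orderOf g ≠ 0 := (orderOf_pos g).ne'
  obtain ⟨a, n, hn, hgo⟩ := Nat.exists_eq_pow_mul_and_not_dvd hg0 3 (by norm_num)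
  have ha : a ≠ 0 := by
    rintro rfl
    rw [pow_zero, one_mul] at hgo
    exact hn (hgo ▸ h3)
  have hn0 : n ≠ 0 := by rintro rfl; exact hn (dvd_zero 3)
  have hu : orderOf (g ^ n) = 3 ^ a := by
    rw [orderOf_pow_of_dvd hn0 (by rw [hgo]; exact dvd_mul_left _ _), hgo, Nat.mul_div_cancel _ (Nat.pos_of_ne_zero hn0)]
  have hs : orderOf (g ^ 3 ^ a) = n := by
    rw [orderOf_pow_of_dvd (by positivity) (by rw [hgo]; exact dvd_mul_right _ _), hgo, Nat.mul_div_cancel_left _ (by positivity)]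
  set u := g ^ n with hud
  set s := g ^ 3 ^ a with hsd
  have hu1 : u ≠ 1 := by
    intro h
    rw [h, orderOf_one] at hu
    have : 3 ^ 1 ≤ 3 ^ a := Nat.pow_le_pow_right (by norm_num) (by omega)
    omega
  have hP : IsPGroup 3 (Subgroup.zpowers u) := pgroup_iff.mpr ⟨a, hu⟩
  have hcus : u * s = s * u := by rw [hud, hsd, ← pow_add, ← pow_add, add_comm]
  have hgu : g * u = u * g := ((Commute.refl g).pow_right n).eq
  obtain ⟨x, hx⟩ := D.three_fix hP
  have hux : u • x = x := hx u (Subgroup.mem_zpowers u)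
  have hsx : s • x = x := D.comm_fix hu1 hP hcus.symm hux
  have hmemU : ∀ b : G, b • D.o = x → b⁻¹ * u * b ∈ D.U := by
    intro b hb
    apply D.mem_U
    · rw [← D.smul_o, mul_smul, mul_smul, hb, hux, ← hb, inv_smul_smul]
    · rw [orderOf_conj_inv]; exact ⟨a, hu⟩
  have hu9 : u ^ 9 = 1 := by
    obtain ⟨b, rfl⟩ := QuotientGroup.mk_surjective x
    have hb : b • D.o = (QuotientGroup.mk b : G ⧸ D.B) := by
      show b • (QuotientGroup.mk 1 : G ⧸ D.B) = _
      rw [MulAction.Quotient.smul_mk, smul_eq_mul, mul_one]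
    have h1 := h9 _ (hmemU b hb)
    have h2 : (b⁻¹ * u * b) ^ 9 = b⁻¹ * u ^ 9 * b := by
      have h3 := conj_pow (a := b⁻¹) (b := u) (i := 9)
      rw [inv_inv] at h3
      exact h3
    rw [h2] at h1
    have : u ^ 9 = b * (b⁻¹ * u ^ 9 * b) * b⁻¹ := by group
    rw [this, h1]; group
  have ha2 : 3 ^ a ∣ 3 ^ 2 := by rw [← hu]; exact orderOf_dvd_of_pow_eq_one hu9
  have ha2' : a ≤ 2 := (Nat.pow_dvd_pow_iff_le_right (by norm_num)).mp ha2
  have hss : s * s = 1 := by
    by_contra hne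
    obtain ⟨y, hyx, hy⟩ := D.exists_second (g := s) (by rw [hs]; exact hn) hsx
    obtain ⟨b, hb1, hb2, hbH⟩ := D.conj_H hyx.symm hsx hy
    have h1 := hmemU b hb1
    apply hu1
    have h2 : b⁻¹ * u * b = 1 := by
      refine D.fpf hbH ?_ h1 ?_
      · intro h; apply hne
        have : s * s = b * (b⁻¹ * s * b * (b⁻¹ * s * b)) * b⁻¹ := by group
        rw [this, h]; group
      · calc b⁻¹ * u * b * (b⁻¹ * s * b) = b⁻¹ * (u * s) * b := by group
          _ = b⁻¹ * (s * u) * b := by rw [hcus]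
          _ = _ := by group
    have : u = b * (b⁻¹ * u * b) * b⁻¹ := by group
    rw [this, h2]; group
  have hn2 : n ∣ 2 := by rw [← hs]; exact orderOf_dvd_of_pow_eq_one (by rw [pow_two]; exact hss)
  rcases (Nat.dvd_prime Nat.prime_two).mp hn2 with h1 | h1
  · rw [h1, mul_one] at hgo
    interval_cases a
    · exact absurd rfl ha
    · left; rw [hgo]; norm_num
    · right; right; rw [hgo]; norm_num
  · have hs1 : s ≠ 1 := by intro h; rw [h, orderOf_one] at hs; omega
    have h2 := D.three_cent hs1 hss ⟨a, hu⟩ hcus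
    have h3 : 3 ^ a ∣ 3 ^ 1 := by rw [← hu]; exact orderOf_dvd_of_pow_eq_one (by rw [pow_one, h2])
    have h4 : a ≤ 1 := (Nat.pow_dvd_pow_iff_le_right (by norm_num)).mp h3
    have h5 : a = 1 := by omega
    right; left
    rw [hgo, h5, h1]; norm_num

theorem fixN_one_iff {g : G} : D.fixN g = 1 ↔ 3 ∣ orderOf g := by
  have hq := D.q_ge
  constructor
  · intro h
    have hg : g ≠ 1 := by
      rintro rfl
      rw [D.fixN_one] at h
      have : 0 < q ^ 3 := by positivity
      omega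
    rcases D.fixN_cases hg with h' | ⟨h3, -⟩ | ⟨-, -, h'⟩ | ⟨-, h'⟩
    · omega
    · exact h3
    · omega
    · omega
  · intro h3
    have hg : g ≠ 1 := by rintro rfl; rw [orderOf_one] at h3; omega
    rcases D.fixN_cases hg with h' | ⟨-, h'⟩ | ⟨-, ⟨a, ha⟩, -⟩ | ⟨h', -⟩
    · exfalso
      obtain ⟨k, hk1, hk2⟩ := exists_three_part h3
      obtain ⟨x, hx⟩ := D.three_fix hk2
      have h1 := D.comm_fix hk1 hk2 ((Commute.refl g).pow_right k).eq (hx _ (Subgroup.mem_zpowers _))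
      rw [fixN, Nat.card_eq_zero] at h'
      rcases h' with h | h
      · exact h.false ⟨x, h1⟩
      · exact h.not_finite inferInstance
    · exact h'
    · exfalso
      have h1 := D.orderOf_H ha
      rw [orderOf_conj_inv] at h1
      exact D.three_not_dvd_sub (h3.trans h1)
    · exfalso
      have h1 : orderOf g ∣ 2 := orderOf_dvd_of_pow_eq_one (by rw [pow_two]; exact h')
      have h2 := h3.trans h1
      omega

/-- counting elements with a unique fixed point -/
theorem count_one (P : G → Prop) (hinv : ∀ a g, P g → P (a * g * a⁻¹)) (h1 : ∀ g, P g → D.fixN g = 1) :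
    Nat.card {g : G // P g} = (q ^ 3 + 1) * Nat.card {g : G // P g ∧ g ∈ D.B} := by
  classical
  have hex : ∀ x : G ⧸ D.B, ∃ a : G, a • D.o = x := by
    intro x
    obtain ⟨a, rfl⟩ := QuotientGroup.mk_surjective x
    refine ⟨a, ?_⟩
    show a • (QuotientGroup.mk 1 : G ⧸ D.B) = _
    rw [MulAction.Quotient.smul_mk, smul_eq_mul, mul_one]
  choose a ha using hex
  have hpt : ∀ g : {g : G // P g}, ∃ x : G ⧸ D.B, g.1 • x = x ∧ ∀ y, g.1 • y = y → y = x := by
    intro g
    have h2 := h1 g.1 g.2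
    rw [fixN] at h2
    obtain ⟨hs, hne⟩ := Nat.card_eq_one_iff_unique.mp h2
    obtain ⟨x⟩ := hne
    refine ⟨x.1, x.2, fun y hy => ?_⟩
    have := hs.elim ⟨y, hy⟩ x
    exact congrArg Subtype.val this
  choose x hx hxu using hpt
  have e : {g : G // P g} ≃ (G ⧸ D.B) × {g : G // P g ∧ g ∈ D.B} :=
    { toFun := fun g => (x g, ⟨(a (x g))⁻¹ * g.1 * a (x g), by
        have := hinv (a (x g))⁻¹ g.1 g.2
        rwa [inv_inv] at this, by
        rw [← D.smul_o, mul_smul, mul_smul, ha, hx g]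
        nth_rewrite 2 [← ha (x g)]
        rw [inv_smul_smul]⟩)
      invFun := fun p => ⟨a p.1 * p.2.1 * (a p.1)⁻¹, hinv _ _ p.2.2.1⟩
      left_inv := by
        intro g
        apply Subtype.ext
        show a (x g) * ((a (x g))⁻¹ * g.1 * a (x g)) * (a (x g))⁻¹ = g.1
        group
      right_inv := by
        rintro ⟨y, g, hg, hgB⟩
        have h2 : (a y * g * (a y)⁻¹) • y = y := by
          have e1 : (a y)⁻¹ • y = D.o := by rw [inv_smul_eq_iff, ha]
          rw [mul_smul, mul_smul, e1, D.smul_o.mpr hgB, ha]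
        have h3 : y = x ⟨a y * g * (a y)⁻¹, hinv _ _ hg⟩ := hxu ⟨a y * g * (a y)⁻¹, hinv _ _ hg⟩ y h2
        refine Prod.ext h3.symm (Subtype.ext ?_)
        show (a (x ⟨a y * g * (a y)⁻¹, hinv _ _ hg⟩))⁻¹ * (a y * g * (a y)⁻¹) * a (x ⟨a y * g * (a y)⁻¹, hinv _ _ hg⟩) = g
        rw [← h3]; group }
  rw [Nat.card_congr e, Nat.card_prod, D.card_X]

end Cfsg.Agent.Lib.ReeA.RD
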