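import Mathlib
import Cfsg.Agent.Lib.ReeW

/-!
Abstract small Ree groups, part X: the numbers of elements of given orders (helper18).
-/

set_option autoImplicit false
set_option linter.unusedSectionVars false

namespace Cfsg.Agent.Lib.ReeA.RD

open Cfsg.Agent.Lib.ReePSL Cfsg.Agent.Lib.ReeA Cfsg.Agent.Lib.H53Ree Cfsg.Agent.Lib.H53PSL2 Cfsg.Agent.Lib.ReeB
open Cfsg.Agent.Lib.ReeD Cfsg.Agent.Lib.ReeG Cfsg.Agent.Lib.ReeT

variable {G : Type*} [Group G] [Finite G] {K : Type*} [Field K] [Fintype K] {m : ℕ} (D : RD G K m)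

local notation "q" => Fintype.card K

omit [Group G] in
theorem card_or' (P Q : G → Prop) (h : ∀ g, P g → Q g → False) :
    Nat.card {g : G // P g ∨ Q g} = Nat.card {g : G // P g} + Nat.card {g : G // Q g} := by
  classical
  rw [Nat.card_congr (subtypeOrEquiv P Q (by
    rw [Pi.disjoint_iff]
    intro g
    rw [Prop.disjoint_iff]
    rintro ⟨h1, h2⟩
    exact h g h1 h2)), Nat.card_sum]

theorem orderOf_conj' (a g : G) : orderOf (a * g * a⁻¹) = orderOf g := by
  have h := (MulAut.conj a).orderOf_eq g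
  rwa [MulAut.conj_apply] at h

theorem mem_B_U {g : G} (h : ∃ k, orderOf g = 3 ^ k) : g ∈ D.B ↔ g ∈ D.U :=
  ⟨fun hb => D.mem_U hb h, fun hu => D.hUB hu⟩

/-- elements of order 3 -/
theorem card_three (hc3 : Nat.card {u : G // u ∈ D.U ∧ orderOf u = 3} = q ^ 2 - 1) :
    Nat.card {g : G // orderOf g = 3} = (q ^ 2 - 1) * (q ^ 3 + 1) := by
  rw [D.count_one (fun g => orderOf g = 3) (fun a g h => (orderOf_conj' a g).trans h)
    (fun g h => D.fixN_one_iff.mpr (by rw [h]))]
  have h1 : Nat.card {g : G // orderOf g = 3 ∧ g ∈ D.B} = Nat.card {u : G // u ∈ D.U ∧ orderOf u = 3} := by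
    apply Nat.card_congr
    apply Equiv.subtypeEquivRight
    intro g
    constructor
    · rintro ⟨h, hB⟩; exact ⟨(D.mem_B_U ⟨1, by rw [h, pow_one]⟩).mp hB, h⟩
    · rintro ⟨hU, h⟩; exact ⟨h, D.hUB hU⟩
  rw [h1, hc3, mul_comm]

theorem card_U_nine (h9 : ∀ u ∈ D.U, u ^ 9 = 1) (hc3 : Nat.card {u : G // u ∈ D.U ∧ orderOf u = 3} = q ^ 2 - 1) :
    Nat.card {u : G // u ∈ D.U ∧ orderOf u = 9} = q ^ 2 * (q - 1) := by
  have h1 : Nat.card {u : G // u ∈ D.U} = q ^ 3 := D.card_U
  have h2 : Nat.card {u : G // u ∈ D.U} = Nat.card {u : G // (u = 1 ∨ (u ∈ D.U ∧ orderOf u = 3)) ∨ (u ∈ D.U ∧ orderOf u = 9)} := by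
    apply Nat.card_congr
    apply Equiv.subtypeEquivRight
    intro u
    constructor
    · intro hu
      have h3 : orderOf u ∣ 3 ^ 2 := orderOf_dvd_of_pow_eq_one (h9 u hu)
      obtain ⟨k, hk, hk'⟩ := (Nat.dvd_prime_pow Nat.prime_three).mp h3
      interval_cases k
      · left; left; exact orderOf_eq_one_iff.mp (by rw [hk', pow_zero])
      · left; right; exact ⟨hu, by rw [hk', pow_one]⟩
      · right; exact ⟨hu, by rw [hk']; norm_num⟩
    · rintro ((rfl | ⟨h, -⟩) | ⟨h, -⟩)
      · exact one_mem _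
      · exact h
      · exact h
  rw [card_or', card_or'] at h2
  · rw [h1, hc3] at h2
    have h4 : Nat.card {u : G // u = 1} = 1 := by simp
    rw [h4] at h2
    have hq := D.q_ge
    have h5 : 1 ≤ q ^ 2 := Nat.one_le_pow _ _ (by omega)
    have h6 : q ^ 3 = q ^ 2 + q ^ 2 * (q - 1) := by
      obtain ⟨k, hk⟩ : ∃ k, q = k + 1 := ⟨q - 1, by omega⟩
      rw [hk, Nat.add_sub_cancel]; ring
    omega
  · rintro u rfl ⟨-, h⟩
    rw [orderOf_one] at h; omega
  · rintro u (rfl | ⟨-, h⟩) ⟨-, h'⟩
    · rw [orderOf_one] at h'; omega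
    · omega

/-- elements of order 9 -/
theorem card_nine (h9 : ∀ u ∈ D.U, u ^ 9 = 1) (hc3 : Nat.card {u : G // u ∈ D.U ∧ orderOf u = 3} = q ^ 2 - 1) :
    Nat.card {g : G // orderOf g = 9} = q ^ 2 * (q - 1) * (q ^ 3 + 1) := by
  rw [D.count_one (fun g => orderOf g = 9) (fun a g h => (orderOf_conj' a g).trans h)
    (fun g h => D.fixN_one_iff.mpr (by rw [h]; norm_num))]
  have h1 : Nat.card {g : G // orderOf g = 9 ∧ g ∈ D.B} = Nat.card {u : G // u ∈ D.U ∧ orderOf u = 9} := by
    apply Nat.card_congr
    apply Equiv.subtypeEquivRight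
    intro g
    constructor
    · rintro ⟨h, hB⟩; exact ⟨(D.mem_B_U ⟨2, by rw [h]; norm_num⟩).mp hB, h⟩
    · rintro ⟨hU, h⟩; exact ⟨h, D.hUB hU⟩
  rw [h1, D.card_U_nine h9 hc3, mul_comm]

/-- elements of order 6 -/
theorem card_six (h9 : ∀ u ∈ D.U, u ^ 9 = 1) (hc3 : Nat.card {u : G // u ∈ D.U ∧ orderOf u = 3} = q ^ 2 - 1) :
    Nat.card {g : G // orderOf g = 6} = q ^ 2 * (q - 1) * (q ^ 3 + 1) := by
  have h1 := D.card_oneFix
  have h2 : Nat.card {g : G // D.fixN g = 1} = Nat.card {g : G // (orderOf g = 3 ∨ orderOf g = 6) ∨ orderOf g = 9} := by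
    apply Nat.card_congr
    apply Equiv.subtypeEquivRight
    intro g
    rw [D.fixN_one_iff]
    constructor
    · intro h
      rcases D.order_three h9 h with h | h | h
      · exact Or.inl (Or.inl h)
      · exact Or.inl (Or.inr h)
      · exact Or.inr h
    · rintro ((h | h) | h) <;> rw [h] <;> norm_num
  rw [card_or', card_or', D.card_three hc3, D.card_nine h9 hc3] at h2
  · rw [h2] at h1
    have hq := D.q_ge
    have h5 : 1 ≤ q ^ 2 := Nat.one_le_pow _ _ (by omega)
    have h6 : 1 ≤ q := by omega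
    generalize Nat.card {g : G // orderOf g = 6} = N at h1 ⊢
    push_cast [Nat.cast_sub h5, Nat.cast_sub h6] at h1
    zify [h5, h6]
    linear_combination h1
  · intro g h h'; omega
  · rintro g (h | h) h' <;> omega

/-- elements of order dividing `q - 1` -/
theorem card_split (D : RD G K m) {i : ℕ} (hi : 2 < i) (hiq : i ∣ q - 1) :
    2 * Nat.card {g : G // orderOf g = i} = Nat.totient i * q ^ 3 * (q ^ 3 + 1) := by
  have hsq : ∀ g : G, orderOf g = i → g * g ≠ 1 := by
    intro g hg h
    have : orderOf g ∣ 2 := orderOf_dvd_of_pow_eq_one (by rw [pow_two]; exact h)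
    rw [hg] at this
    have := Nat.le_of_dvd (by norm_num) this
    omega
  have h1 := card_conj D.H (fun x hx y hy => D.H_comm hx hy) (fun g => orderOf g = i)
    (fun a g h => (orderOf_conj' a g).trans h)
    (fun x hx => D.conj_H_of_order (hsq x hx) (hx ▸ hiq))
    (fun x hxH hx c hc => D.cent_H hxH (hsq x hx) hc)
  rw [D.card_norm_H] at h1
  have h2 : Nat.card {x : D.H // orderOf (x : G) = i} = Nat.totient i := by
    haveI := D.cyc
    classical
    haveI : Fintype D.H := Fintype.ofFinite _
    have h3 : Nat.card {x : D.H // orderOf (x : G) = i} = Nat.card {y : D.H // orderOf y = i} := by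
      apply Nat.card_congr
      apply Equiv.subtypeEquivRight
      intro x
      rw [Subgroup.orderOf_coe]
    rw [h3, Nat.card_eq_fintype_card, Fintype.card_subtype]
    apply IsCyclic.card_orderOf_eq_totient
    rw [← Nat.card_eq_fintype_card, D.card_H]
    exact hiq
  rw [h2, D.card_G] at h1
  have hq := D.q_ge
  have hpos : 0 < q - 1 := by omega
  apply Nat.eq_of_mul_eq_mul_right hpos
  calc 2 * Nat.card {g : G // orderOf g = i} * (q - 1) = Nat.card {g : G // orderOf g = i} * (2 * (q - 1)) := by ring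
    _ = q ^ 3 * (q - 1) * (q ^ 3 + 1) * Nat.totient i := h1
    _ = _ := by ring

theorem odd_quarter (D : RD G K m) : Odd ((q + 1) / 4) := by
  have := D.q_mod
  rw [Nat.odd_iff]; omega

theorem arith_E (D : RD G K m) {N t : ℕ} {c : ℕ} (h : N * (6 * (q + 1)) = Nat.card G * (c * t)) :
    6 * N = c * (t * q ^ 3 * (q - 1) * (q ^ 2 - q + 1)) := by
  rw [D.card_G'] at h
  have hpos : 0 < q + 1 := by omega
  apply Nat.eq_of_mul_eq_mul_right hpos
  calc 6 * N * (q + 1) = N * (6 * (q + 1)) := by ring
    _ = q ^ 3 * ((q - 1) * (q + 1)) * (q ^ 2 - q + 1) * (c * t) := h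
    _ = _ := by ring

/-- elements of order dividing `(q + 1) / 4` -/
theorem card_quarter (D : RD G K m) {i : ℕ} (hi : 1 < i) (hiq : i ∣ (q + 1) / 4) :
    6 * Nat.card {g : G // orderOf g = i} = Nat.totient i * q ^ 3 * (q - 1) * (q ^ 2 - q + 1) := by
  obtain ⟨x, hx⟩ := D.exists_E
  obtain ⟨Y, hY, hxY, t⟩ := D.E_torus hx
  have h1 := t.count hi (by rw [hY]; exact hiq)
  have h2 := D.arith_E (c := 1) (N := Nat.card {g : G // orderOf g = i}) (t := Nat.totient i) (by rw [one_mul]; exact h1)
  rw [one_mul] at h2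
  exact h2

/-- elements of order `2 i`, `i` dividing `(q + 1) / 4` -/
theorem card_quarter_two (D : RD G K m) {i : ℕ} (hi : 1 < i) (hiq : i ∣ (q + 1) / 4) :
    2 * Nat.card {g : G // orderOf g = 2 * i} = Nat.totient i * q ^ 3 * (q - 1) * (q ^ 2 - q + 1) := by
  classical
  obtain ⟨x, hx⟩ := D.exists_E
  obtain ⟨Y, hY, hxY, t⟩ := D.E_torus hx
  have hiodd : Odd i := Odd.of_dvd_nat D.odd_quarter hiq
  set A := Subgroup.centralizer ({x} : Set G) with hA
  have hAm : ∀ {c : G}, c ∈ A ↔ c * x = x * c := by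
    intro c
    rw [hA, Subgroup.mem_centralizer_iff]
    constructor
    · intro h; exact (h x rfl).symm
    · rintro h _ rfl; exact h.symm
  -- the square of an element of order `2 i`
  have hsqo : ∀ g : G, orderOf g = 2 * i → orderOf (g * g) = i := by
    intro g hg
    rw [← pow_two, orderOf_pow_of_dvd (by norm_num) (by rw [hg]; exact dvd_mul_right _ _), hg,
      Nat.mul_div_cancel_left _ (by norm_num)]
  have h1 := card_conj A t.comm (fun g => orderOf g = 2 * i)
    (fun a g h => (orderOf_conj' a g).trans h)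
    (by
      intro g hg
      have h2 := hsqo g hg
      obtain ⟨a, ha⟩ := t.conj_mem (x := g * g) (by rintro h; rw [h, orderOf_one] at h2; omega) (by rw [h2, hY]; exact hiq)
      refine ⟨a, t.cent _ ha ?_ _ ?_⟩
      · intro h
        have h3 := orderOf_conj' a (g * g)
        rw [h, orderOf_one, h2] at h3; omega
      · group)
    (by
      intro g hgA hg c hc
      have h2 := hsqo g hg
      refine t.cent (g * g) ?_ (by rintro h; rw [h, orderOf_one] at h2; omega) c ?_
      · apply t.mem _ (mul_mem hgA hgA)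
        rw [← orderOf_dvd_iff_pow_eq_one, h2, hY]; exact hiq
      · rw [← mul_assoc, hc, mul_assoc, hc, mul_assoc])
  rw [t.norm] at h1
  -- counting inside `A`
  obtain ⟨v, j, hv1, hj1, hvj, hvv, hjj, hvjc, hvx, hjx, hinv⟩ := D.E_four hx
  have h2 : Nat.card {g : A // orderOf (g : G) = 2 * i} = 3 * Nat.totient i := by
    have hcount : Nat.card {y : Y // orderOf y = i} = Nat.totient i := by
      haveI := t.cyc
      haveI : Fintype Y := Fintype.ofFinite Y
      rw [Nat.card_eq_fintype_card, Fintype.card_subtype]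
      apply IsCyclic.card_orderOf_eq_totient
      rw [← Nat.card_eq_fintype_card, hY]; exact hiq
    set W : Fin 3 → G := ![v, j, v * j] with hW
    have hWA : ∀ k, W k ∈ A := by
      intro k
      fin_cases k
      · exact hAm.mpr hvx
      · exact hAm.mpr hjx
      · exact mul_mem (hAm.mpr hvx) (hAm.mpr hjx)
    have hvj2 : v * j * (v * j) = 1 := by
      calc v * j * (v * j) = v * (j * v) * j := by group
        _ = v * (v * j) * j := by rw [hvjc]
        _ = (v * v) * (j * j) := by group
        _ = 1 := by rw [hvv, hjj, one_mul]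
    have hWW : ∀ k, W k * W k = 1 := by
      intro k
      fin_cases k
      · exact hvv
      · exact hjj
      · exact hvj2
    have hvj1 : v * j ≠ 1 := by
      intro h
      apply hvj
      calc v = v * (j * j) := by rw [hjj, mul_one]
        _ = (v * j) * j := by group
        _ = j := by rw [h, one_mul]
    have hW1 : ∀ k, W k ≠ 1 := by
      intro k
      fin_cases k
      · exact hv1
      · exact hj1
      · exact hvj1
    have hWinj : Function.Injective W := by
      have h01 : W 0 ≠ W 1 := hvj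
      have h02 : W 0 ≠ W 2 := by
        intro h
        apply hj1
        have h' : v = v * j := h
        exact mul_left_cancel (a := v) (by rw [mul_one]; exact h'.symm)
      have h12 : W 1 ≠ W 2 := by
        intro h
        apply hv1
        have h' : j = v * j := h
        exact mul_right_cancel (b := j) (by rw [one_mul]; exact h'.symm)
      intro a b hab
      fin_cases a <;> fin_cases b
      · rfl
      · exact absurd hab h01
      · exact absurd hab h02
      · exact absurd hab.symm h01
      · rfl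
      · exact absurd hab h12
      · exact absurd hab.symm h02
      · exact absurd hab.symm h12
      · rfl
    have hWo : ∀ k, orderOf (W k) = 2 := fun k => orderOf_eq_prime (by rw [pow_two]; exact hWW k) (hW1 k)
    -- bijection
    have e : {g : A // orderOf (g : G) = 2 * i} ≃ {y : Y // orderOf y = i} × Fin 3 := by
      symm
      have hsq2 : ∀ (y : Y) (k : Fin 3), ((y : G) * W k) * ((y : G) * W k) = (y : G) * y := by
        intro y k
        have hc : (y : G) * W k = W k * y := t.comm _ (t.le y.2) _ (hWA k)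
        calc ((y : G) * W k) * ((y : G) * W k) = (y : G) * (W k * y) * W k := by group
          _ = (y : G) * (y * W k) * W k := by rw [hc]
          _ = (y : G) * y * (W k * W k) := by group
          _ = _ := by rw [hWW, mul_one]
      refine Equiv.ofBijective (fun p => ⟨⟨p.1.1 * W p.2, mul_mem (t.le p.1.1.2) (hWA p.2)⟩, ?_⟩) ⟨?_, ?_⟩
      · show orderOf ((p.1.1 : G) * W p.2) = 2 * i
        have hc : Commute (p.1.1 : G) (W p.2) := t.comm _ (t.le p.1.1.2) _ (hWA p.2)
        have ho : orderOf (p.1.1 : G) = i := by rw [Subgroup.orderOf_coe]; exact p.1.2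
        rw [hc.orderOf_mul_eq_mul_orderOf_of_coprime, ho, hWo, mul_comm]
        rw [ho, hWo]
        exact Nat.coprime_two_right.mpr hiodd
      · rintro ⟨⟨y, hy⟩, k⟩ ⟨⟨y', hy'⟩, k'⟩ h
        have h5 : (y : G) * W k = y' * W k' := congrArg (fun z => ((z.1 : A) : G)) h
        have h6 : (y : G) * y = y' * y' := by rw [← hsq2 y k, ← hsq2 y' k', h5]
        have hcomm : ∀ a b : Y, (a : G) * b = b * a := fun a b => t.comm _ (t.le a.2) _ (t.le b.2)
        have h7 : y = y' := by
          have h8 : (((y : G) * (y' : G)⁻¹) * ((y : G) * (y' : G)⁻¹)) = 1 := by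
            have h9 : (y : G) * (y' : G)⁻¹ = (y' : G)⁻¹ * y := by
              have := hcomm y y'⁻¹
              exact this
            calc ((y : G) * (y' : G)⁻¹) * ((y : G) * (y' : G)⁻¹) = ((y' : G)⁻¹ * y) * ((y : G) * (y' : G)⁻¹) := by rw [← h9]
              _ = (y' : G)⁻¹ * ((y : G) * y) * (y' : G)⁻¹ := by group
              _ = (y' : G)⁻¹ * ((y' : G) * y') * (y' : G)⁻¹ := by rw [h6]
              _ = 1 := by group
          have h10 : (y : G) * (y' : G)⁻¹ ∈ Y := mul_mem y.2 (inv_mem y'.2)
          by_contra hne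
          have h11 : (y : G) * (y' : G)⁻¹ ≠ 1 := fun h => hne (Subtype.ext (mul_inv_eq_one.mp h))
          refine sq_ne_of_odd h11 ?_ h8
          have h12 := Subgroup.orderOf_dvd_natCard Y h10
          rw [hY] at h12
          exact Odd.of_dvd_nat D.odd_quarter h12
        subst h7
        have h8 : W k = W k' := mul_left_cancel h5
        rw [hWinj h8]
      · rintro ⟨g, hg⟩
        have hgx : (g : G) * x = x * g := hAm.mp g.2
        have hgi2 : orderOf ((g : G) ^ i) = 2 := by
          rw [orderOf_pow_of_dvd (by omega) (by rw [hg]; exact dvd_mul_left _ _), hg, Nat.mul_div_cancel _ (by omega)]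
        have hgi : orderOf ((g : G) ^ (i + 1)) = i := by
          obtain ⟨k, hk⟩ := hiodd
          have hgcd : Nat.gcd (2 * i) (i + 1) = 2 := by
            rw [hk, show 2 * k + 1 + 1 = 2 * (k + 1) by ring, Nat.gcd_mul_left]
            have : Nat.gcd (2 * k + 1) (k + 1) = 1 := by
              have h5 : 2 * k + 1 = k + (k + 1) := by ring
              rw [h5, Nat.gcd_add_self_left]
              simp
            rw [this]
          rw [orderOf_pow, hg, hgcd, Nat.mul_div_cancel_left _ (by norm_num)]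
        have hyY : (g : G) ^ (i + 1) ∈ Y := by
          apply t.mem _ (pow_mem g.2 _)
          rw [← orderOf_dvd_iff_pow_eq_one, hgi, hY]; exact hiq
        have hw := hinv ((g : G) ^ i) (((show Commute (g : G) x from hgx).pow_left i).eq) (by
          rw [← pow_two, ← hgi2]; exact pow_orderOf_eq_one _)
        have hw1 : (g : G) ^ i ≠ 1 := by
          intro h; rw [h, orderOf_one] at hgi2; omega
        obtain ⟨k, hk⟩ : ∃ k, W k = (g : G) ^ i := by
          rcases hw with h | h | h | h
          · exact absurd h hw1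
          · exact ⟨0, h.symm⟩
          · exact ⟨1, h.symm⟩
          · exact ⟨2, h.symm⟩
        refine ⟨(⟨⟨(g : G) ^ (i + 1), hyY⟩, ?_⟩, k), ?_⟩
        · rw [Subgroup.orderOf_mk]; exact hgi
        · apply Subtype.ext
          apply Subtype.ext
          show (g : G) ^ (i + 1) * W k = g
          rw [hk, ← pow_add]
          have h5 : i + 1 + i = 2 * i + 1 := by ring
          rw [h5, pow_succ, ← hg, pow_orderOf_eq_one, one_mul]
    rw [Nat.card_congr e, Nat.card_prod, hcount, Nat.card_eq_fintype_card, Fintype.card_fin, mul_comm]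
  rw [h2] at h1
  have h3 := D.arith_E (c := 3) h1
  have h4 : 3 * (2 * Nat.card {g : G // orderOf g = 2 * i}) = 3 * (Nat.totient i * q ^ 3 * (q - 1) * (q ^ 2 - q + 1)) := by
    rw [← h3]; ring
  exact Nat.eq_of_mul_eq_mul_left (by norm_num) h4

end Cfsg.Agent.Lib.ReeA.RD
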