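import Mathlib
import Cfsg.Agent.Lib.ReeX
import Cfsg.Agent.Lib.ReeV

/-!
Small Ree groups: extra data on `U`, element orders (helper18).
-/

set_option autoImplicit false
set_option linter.unusedSectionVars false

namespace Cfsg.Agent.Lib.ReeY

open Cfsg.Lie Cfsg.Agent.Lib Cfsg.Agent.Lib.TwG2 Cfsg.Agent.Lib.ReeQ Cfsg.Agent.Lib.ReeV Cfsg.Agent.Lib.ReeA

section

variable {K : Type*} [Field K] [Fintype K] {m : ℕ} (hK : Fintype.card K = 3 ^ (2 * m + 1)) (hm : 1 ≤ m)

local notation "R" => twistedG2 K (3 ^ m)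

theorem rd_U (u : R) : u ∈ (rd hK hm).U ↔ (u : GL chevG2.Idx K) ∈ chevG2.posUnipotent K := mem_sub _ _ u

theorem rd_nine : ∀ u ∈ (rd hK hm).U, u ^ 9 = 1 := by
  intro u hu
  rw [rd_U] at hu
  obtain ⟨a, b, c, h⟩ := (mem_U_iff hK).mp ⟨hu, u.2⟩
  apply Subtype.ext
  rw [Subgroup.coe_pow, h, nine hK]; rfl

theorem rd_c3 : Nat.card {u : R // u ∈ (rd hK hm).U ∧ orderOf u = 3} = Fintype.card K ^ 2 - 1 := by
  rw [hK, ← ReeV.card_three hK]
  refine Nat.card_congr ⟨fun u => ⟨⟨u.1, (rd_U hK hm u.1).mp u.2.1, u.1.2⟩, ?_⟩,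
    fun u => ⟨⟨u.1, u.1.2.2⟩, (rd_U hK hm _).mpr u.1.2.1, ?_⟩, fun _ => rfl, fun _ => rfl⟩
  · exact (Subgroup.orderOf_mk _ _).trans ((Subgroup.orderOf_coe _).trans u.2.2)
  · exact (Subgroup.orderOf_mk _ _).trans ((Subgroup.orderOf_coe _).trans u.2)

end

end Cfsg.Agent.Lib.ReeY

namespace Cfsg.Agent.Lib.ReeA.RD

open Cfsg.Agent.Lib.ReePSL Cfsg.Agent.Lib.ReeA Cfsg.Agent.Lib.H53Ree Cfsg.Agent.Lib.H53PSL2 Cfsg.Agent.Lib.ReeB
open Cfsg.Agent.Lib.ReeD Cfsg.Agent.Lib.ReeG Cfsg.Agent.Lib.ReeT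

variable {G : Type*} [Group G] [Finite G] {K : Type*} [Field K] [Fintype K] {m : ℕ} (D : RD G K m)

local notation "q" => Fintype.card K

theorem sub_order {n d : ℕ} (hn : 0 < n) (h : ∃ g : G, orderOf g = n) (hd : d ∣ n) : ∃ g : G, orderOf g = d := by
  obtain ⟨g, hg⟩ := h
  obtain ⟨k, rfl⟩ := hd
  have hk : k ≠ 0 := by rintro rfl; simp at hn
  refine ⟨g ^ k, ?_⟩
  rw [orderOf_pow_of_dvd hk (by rw [hg]; exact dvd_mul_left _ _), hg, Nat.mul_div_cancel _ (Nat.pos_of_ne_zero hk)]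

variable (ρ : G →* Matrix (Fin 7) (Fin 7) K) (hρ : Function.Injective ρ)

include D hρ

/-- element orders -/
theorem orders (h9 : ∀ u ∈ D.U, u ^ 9 = 1) (hc3 : Nat.card {u : G // u ∈ D.U ∧ orderOf u = 3} = q ^ 2 - 1) (d : ℕ) :
    (∃ g : G, orderOf g = d) ↔
      (d ∣ 6 ∨ d ∣ 9 ∨ d ∣ 3 ^ (2 * m + 1) - 1 ∨ d ∣ (3 ^ (2 * m + 1) + 1) / 2 ∨
        d ∣ 3 ^ (2 * m + 1) - 3 ^ (m + 1) + 1 ∨ d ∣ 3 ^ (2 * m + 1) + 3 ^ (m + 1) + 1) := by
  have hq := D.q_ge
  have hqm := D.q_mod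
  have hK := D.hK
  have hpos : 0 < q ^ 2 * (q - 1) * (q ^ 3 + 1) := by
    have : 0 < q - 1 := by omega
    positivity
  obtain ⟨A₁, A₂, t₁, t₂, hA₁, hA₂⟩ := D.tor_Q ρ hρ
  constructor
  · rintro ⟨g, rfl⟩
    by_cases hg : g = 1
    · left; rw [hg, orderOf_one]; exact one_dvd _
    · rcases D.fixN_cases hg with h | ⟨h3, h⟩ | ⟨h2, ⟨a, ha⟩, -⟩ | ⟨h2, h⟩
      · rcases D.fixN_zero_iff.mp h with hP | hQ
        · right; right; right; left
          have h1 := D.IsE_card (D.IsP_sq hP)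
          rw [← hK]
          have h4 : (q + 1) / 2 = 2 * ((q + 1) / 4) := by omega
          rw [h4]
          apply orderOf_dvd_of_pow_eq_one
          rw [pow_mul, pow_two]
          exact orderOf_dvd_iff_pow_eq_one.mp h1
        · right; right; right; right
          obtain ⟨r, hr, hrg⟩ := Nat.exists_prime_and_dvd (show orderOf g ≠ 1 from fun h => hg (orderOf_eq_one_iff.mp h))
          have h1 := hrg.trans hQ.2
          rw [hK, ← D.prod_Q ρ hρ] at h1
          rcases hr.dvd_mul.mp h1 with h2 | h2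
          · left
            rw [← hA₁]
            exact cls_dvd (cls_of t₁.tor hr hrg (by rw [hA₁]; exact h2))
          · right
            rw [← hA₂]
            exact cls_dvd (cls_of t₂.tor hr hrg (by rw [hA₂]; exact h2))
      · rcases D.order_three h9 h3 with h | h | h
        · left; rw [h]; norm_num
        · left; rw [h]
        · right; left; rw [h]
      · right; right; left
        have h1 := D.orderOf_H ha
        rw [orderOf_conj_inv, hK] at h1
        exact h1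
      · left
        have : orderOf g ∣ 2 := orderOf_dvd_of_pow_eq_one (by rw [pow_two]; exact h2)
        exact this.trans (by norm_num)
  · rintro (h | h | h | h | h | h)
    · refine sub_order (by norm_num) ?_ h
      by_contra hne
      have h1 := D.card_six h9 hc3
      have h2 : Nat.card {g : G // orderOf g = 6} = 0 := by
        rw [Nat.card_eq_zero]
        left; exact ⟨fun g => hne ⟨g.1, g.2⟩⟩
      omega
    · refine sub_order (by norm_num) ?_ h
      by_contra hne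
      have h1 := D.card_nine h9 hc3
      have h2 : Nat.card {g : G // orderOf g = 9} = 0 := by
        rw [Nat.card_eq_zero]
        left; exact ⟨fun g => hne ⟨g.1, g.2⟩⟩
      omega
    · rw [← hK] at h
      refine sub_order (n := q - 1) (by omega) ?_ h
      haveI := D.cyc
      obtain ⟨g, hg⟩ := IsCyclic.exists_ofOrder_eq_natCard (α := D.H)
      exact ⟨g, by rw [Subgroup.orderOf_coe, hg, D.card_H]⟩
    · rw [← hK] at h
      refine sub_order (n := (q + 1) / 2) (by omega) ?_ h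
      obtain ⟨x, hx⟩ := D.exists_E
      obtain ⟨v, ι, T, C, hTc, hT, -, -⟩ := D.E_struct hx.1 hx.2.1 hx.2.2
      obtain ⟨g, hg⟩ := IsCyclic.exists_ofOrder_eq_natCard (α := T)
      refine ⟨ι g, ?_⟩
      rw [orderOf_injective ι C.inj, Subgroup.orderOf_coe, hg]
      omega
    · refine sub_order (by omega) ?_ h
      haveI := t₁.tor.cyc
      obtain ⟨g, hg⟩ := IsCyclic.exists_ofOrder_eq_natCard (α := A₁)
      exact ⟨g, by rw [Subgroup.orderOf_coe, hg, hA₁]⟩
    · refine sub_order (by omega) ?_ h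
      haveI := t₂.tor.cyc
      obtain ⟨g, hg⟩ := IsCyclic.exists_ofOrder_eq_natCard (α := A₂)
      exact ⟨g, by rw [Subgroup.orderOf_coe, hg, hA₂]⟩

end Cfsg.Agent.Lib.ReeA.RD
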