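import Mathlib
import Cfsg.Agent.Lib.ReeV
import Cfsg.Agent.Lib.ReeY
import Cfsg.Agent.Lib.WeightProj

/-!
Minimal degrees of irreducible characters of the small Ree groups (helper18).
-/

set_option autoImplicit false
set_option linter.unusedSectionVars false

namespace Cfsg.Agent.Lib.ReeMin

open Cfsg.Lie Cfsg.Agent.Lib Cfsg.Agent.Lib.TwG2 Cfsg.Agent.Lib.ReeU Cfsg.Agent.Lib.ChevRel Cfsg.Agent.Lib.ReeQ
open Cfsg.Agent.Lib.ReeA Cfsg.Agent.Lib.WeightProj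

variable {K : Type*} [Field K] [Fintype K] {m : ℕ} (hK : Fintype.card K = 3 ^ (2 * m + 1))

local notation "R" => twistedG2 K (3 ^ m)

include hK

theorem UU0_eq (u v : K) : UU (3 ^ m) 0 u v = Vv (u ^ 3 ^ m) (v ^ 3 ^ m) u v := by
  haveI := char3 hK
  have e0 : (0 : K) ^ 3 ^ m = 0 := zero_pow (pow_ne_zero _ (by norm_num))
  have e1 : (0 : K) ^ (3 ^ m + 1) = 0 := zero_pow (Nat.succ_ne_zero _)
  have e2 : (0 : K) ^ (2 * 3 ^ m + 1) = 0 := zero_pow (Nat.succ_ne_zero _)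
  rw [UU_eq, e0, e1, e2, xg_zero G, xg_zero G, one_mul, one_mul, zero_add, zero_add]
  rfl

theorem UU0_mul (u v u' v' : K) : UU (3 ^ m) 0 u v * UU (3 ^ m) 0 u' v' = UU (3 ^ m) 0 (u + u') (v + v') := by
  haveI := char3 hK
  rw [UU0_eq hK, UU0_eq hK, UU0_eq hK, V_mul, add_e hK, add_e hK]

theorem UU0_conj (t u v : K) : UU (3 ^ m) 0 u v * UU (3 ^ m) t 0 0 = UU (3 ^ m) t 0 0 * UU (3 ^ m) 0 u (v - t * u) := by
  haveI := char3 hK
  have h3 : (3 : K) = 0 := by exact_mod_cast CharP.cast_eq_zero K 3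
  rw [UU0_eq hK, UU0_eq hK]
  have h1 : UU (3 ^ m) t 0 0 = xg chevG2 K 7 (t ^ 3 ^ m) * xg chevG2 K 6 t *
      Vv (t ^ (3 ^ m + 1) + 0 ^ 3 ^ m) (t ^ (2 * 3 ^ m + 1) + 0 ^ 3 ^ m) 0 0 := UU_eq _ t 0 0
  rw [h1]
  generalize t ^ (3 ^ m + 1) + (0 : K) ^ 3 ^ m = c
  generalize t ^ (2 * 3 ^ m + 1) + (0 : K) ^ 3 ^ m = d
  have hsub : (v - t * u) ^ 3 ^ m = v ^ 3 ^ m + 2 * t ^ 3 ^ m * u ^ 3 ^ m := by
    have h4 : v - t * u = v + (2 * t * u) := by linear_combination (-(t * u)) * h3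
    rw [h4, add_e hK, mul_pow, mul_pow]
    have h5 : (2 : K) ^ 3 ^ m = 2 := by
      have := int_pow hK (2 : ℤ)
      exact_mod_cast this
    rw [h5]
  calc Vv (u ^ 3 ^ m) (v ^ 3 ^ m) u v * (xg chevG2 K 7 (t ^ 3 ^ m) * xg chevG2 K 6 t * Vv c d 0 0)
      = Vv (u ^ 3 ^ m) (v ^ 3 ^ m) u v * xg chevG2 K 7 (t ^ 3 ^ m) * xg chevG2 K 6 t * Vv c d 0 0 := by group
    _ = xg chevG2 K 7 (t ^ 3 ^ m) * (Vv (u ^ 3 ^ m) (v ^ 3 ^ m + 2 * t ^ 3 ^ m * u ^ 3 ^ m) u v * xg chevG2 K 6 t) * Vv c d 0 0 := by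
        rw [V_7]; group
    _ = xg chevG2 K 7 (t ^ 3 ^ m) * xg chevG2 K 6 t *
        (Vv (u ^ 3 ^ m) (v ^ 3 ^ m + 2 * t ^ 3 ^ m * u ^ 3 ^ m) u (v - t * u) * Vv c d 0 0) := by
        rw [V_6]; group
    _ = xg chevG2 K 7 (t ^ 3 ^ m) * xg chevG2 K 6 t *
        (Vv c d 0 0 * Vv (u ^ 3 ^ m) (v ^ 3 ^ m + 2 * t ^ 3 ^ m * u ^ 3 ^ m) u (v - t * u)) := by
        rw [V_mul, V_mul]
        congr 2 <;> ring
    _ = _ := by rw [hsub]; group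

omit hK in
/-- characters of `K`: all are shifts of a non-trivial one -/
theorem shift_surj {ψ : AddChar K ℂ} (hψ : ψ ≠ 1) (φ : AddChar K ℂ) : ∃ a : K, φ = AddChar.mulShift ψ a := by
  classical
  have hinj : Function.Injective (fun a : K => AddChar.mulShift ψ a) :=
    AddChar.to_mulShift_inj_of_isPrimitive (AddChar.IsPrimitive.of_ne_one hψ)
  have hbij : Function.Bijective (fun a : K => AddChar.mulShift ψ a) := by
    rw [Fintype.bijective_iff_injective_and_card]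
    exact ⟨hinj, (AddChar.card_eq).symm⟩
  obtain ⟨a, ha⟩ := hbij.2 φ
  exact ⟨a, ha.symm⟩

end Cfsg.Agent.Lib.ReeMin
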