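import Mathlib
import Cfsg.Agent.Lib.ReeMin

/-!
Minimal degrees of irreducible characters of the small Ree groups, part 2 (helper18).
-/

set_option autoImplicit false
set_option linter.unusedSectionVars false

namespace Cfsg.Agent.Lib.ReeMin

open Cfsg.Lie Cfsg.Agent.Lib Cfsg.Agent.Lib.TwG2 Cfsg.Agent.Lib.ReeU Cfsg.Agent.Lib.ChevRel Cfsg.Agent.Lib.ReeQ
open Cfsg.Agent.Lib.ReeA Cfsg.Agent.Lib.WeightProj

variable {K : Type*} [Field K] [Fintype K] {m : ℕ} (hK : Fintype.card K = 3 ^ (2 * m + 1))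

local notation "R" => twistedG2 K (3 ^ m)

variable {V : Type*} [AddCommGroup V] [Module ℂ V] (ρ : Representation ℂ (twistedG2 K (3 ^ m)) V)

/-- the action of `{UU 0 u v}` -/
noncomputable def al (x : K × K) : Module.End ℂ V := ρ ⟨UU (3 ^ m) 0 x.1 x.2, mem_UU _ _ _ _⟩

/-- second component of a character -/
def l2 (l : AddChar (K × K) ℂ) : AddChar K ℂ := l.compAddMonoidHom (AddMonoidHom.inr K K)
def l1 (l : AddChar (K × K) ℂ) : AddChar K ℂ := l.compAddMonoidHom (AddMonoidHom.inl K K)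

theorem l_eq (l : AddChar (K × K) ℂ) (u v : K) : l (u, v) = l1 l u * l2 l v := by
  show _ = l (u, 0) * l (0, v)
  rw [← AddChar.map_add_eq_mul]; simp

theorem l2_apply (l : AddChar (K × K) ℂ) (v : K) : l2 l v = l (0, v) := rfl
theorem l1_apply (l : AddChar (K × K) ℂ) (v : K) : l1 l v = l (v, 0) := rfl

/-- shears -/
def shear (t : K) : K × K ≃+ K × K where
  toFun x := (x.1, x.2 + t * x.1)
  invFun x := (x.1, x.2 - t * x.1)
  left_inv x := by simp
  right_inv x := by simp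
  map_add' x y := by simp only [Prod.fst_add, Prod.snd_add]; ext <;> simp; ring

/-- scalings -/
def scal (a b : K) (ha : a ≠ 0) (hb : b ≠ 0) : K × K ≃+ K × K where
  toFun x := (a * x.1, b * x.2)
  invFun x := (a⁻¹ * x.1, b⁻¹ * x.2)
  left_inv x := by simp [← mul_assoc, ha, hb]
  right_inv x := by simp [← mul_assoc, ha, hb]
  map_add' x y := by simp only [Prod.fst_add, Prod.snd_add]; ext <;> simp <;> ring

include hK

theorem al_zero : al ρ (0 : K × K) = 1 := by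
  unfold al
  have : (⟨UU (3 ^ m) 0 (0 : K × K).1 (0 : K × K).2, mem_UU _ _ _ _⟩ : R) = 1 := Subtype.ext (UU_zero hK)
  rw [this, map_one]

theorem al_add (x y : K × K) : al ρ (x + y) = al ρ x * al ρ y := by
  unfold al
  rw [← map_mul]
  congr 1
  exact Subtype.ext (UU0_mul hK _ _ _ _).symm

theorem al_shear (t : K) (x : K × K) :
    ρ ⟨UU (3 ^ m) t 0 0, mem_UU _ _ _ _⟩ * al ρ x = al ρ (shear t x) * ρ ⟨UU (3 ^ m) t 0 0, mem_UU _ _ _ _⟩ := by
  unfold al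
  rw [← map_mul, ← map_mul]
  congr 1
  apply Subtype.ext
  show UU (3 ^ m) t 0 0 * UU (3 ^ m) 0 x.1 x.2 = UU (3 ^ m) 0 x.1 (x.2 + t * x.1) * UU (3 ^ m) t 0 0
  rw [UU0_conj hK]
  congr 2; ring

theorem al_scal {s : K} (hs : s ≠ 0) (x : K × K) :
    ρ ⟨th (3 ^ m) s, th_mem_R hK hs⟩ * al ρ x =
      al ρ (scal ((s ^ 3 ^ m) ^ 3 * s⁻¹) s (mul_ne_zero (pow_ne_zero _ (pow_ne_zero _ hs)) (inv_ne_zero hs)) hs x) *
        ρ ⟨th (3 ^ m) s, th_mem_R hK hs⟩ := by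
  unfold al
  rw [← map_mul, ← map_mul]
  congr 1
  apply Subtype.ext
  show th (3 ^ m) s * UU (3 ^ m) 0 x.1 x.2 = UU (3 ^ m) 0 ((s ^ 3 ^ m) ^ 3 * s⁻¹ * x.1) (s * x.2) * th (3 ^ m) s
  have h1 := th_UU hK hs 0 x.1 x.2
  rw [mul_zero] at h1
  rw [← h1]; group

theorem rho_inv_mul (g : R) : ρ g⁻¹ * ρ g = 1 := by rw [← map_mul, inv_mul_cancel, map_one]

variable [FiniteDimensional ℂ V]

/-- the weight multiplicities are equal for characters that are non-trivial on the centre -/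
theorem trace_eq (l l' : AddChar (K × K) ℂ) (h : l2 l ≠ 1) (h' : l2 l' ≠ 1) :
    LinearMap.trace ℂ V (E (al ρ) l) = LinearMap.trace ℂ V (E (al ρ) l') := by
  obtain ⟨a, ha⟩ := shift_surj h (l2 l')
  have ha0 : a ≠ 0 := by
    rintro rfl
    apply h'
    rw [ha, AddChar.mulShift_zero]
  have hs : a⁻¹ ≠ 0 := inv_ne_zero ha0
  set s := a⁻¹ with hsd
  set c : K := (s ^ 3 ^ m) ^ 3 * s⁻¹ with hc
  have hc0 : c ≠ 0 := mul_ne_zero (pow_ne_zero _ (pow_ne_zero _ hs)) (inv_ne_zero hs)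
  -- the ratio character
  set μ : AddChar K ℂ := l1 l' * AddChar.mulShift (l1 l) (-c⁻¹) with hμ
  obtain ⟨b, hb⟩ := shift_surj h μ
  set t := -b / a with ht
  have e1 := conj_E (α := al ρ) (ρ ⟨th (3 ^ m) s, th_mem_R hK hs⟩) (scal c s hc0 hs) (al_scal hK ρ hs) l
  have e2 := conj_E (α := al ρ) (ρ ⟨UU (3 ^ m) t 0 0, mem_UU _ _ _ _⟩) (shear t) (al_shear hK ρ t)
    (l.compAddMonoidHom (scal c s hc0 hs).symm.toAddMonoidHom)
  have t1 := trace_conj_eq (rho_inv_mul hK ρ _) e1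
  have t2 := trace_conj_eq (rho_inv_mul hK ρ _) e2
  rw [t1, t2]
  congr 2
  ext ⟨u, v⟩
  show l (c⁻¹ * u, s⁻¹ * (v - t * u)) = l' (u, v)
  rw [l_eq, l_eq l']
  have h1 : l2 l' v = l2 l (a * v) := by rw [ha]; rfl
  have h2 : l1 l' u * l1 l (-c⁻¹ * u) = l2 l (b * u) := by
    have := congrArg (fun ψ : AddChar K ℂ => ψ u) hb
    exact this
  have h3 : s⁻¹ * (v - t * u) = a * v + b * u := by
    rw [hsd, ht, inv_inv]; field_simp; ring
  have h4 : l1 l (-c⁻¹ * u) * l1 l (c⁻¹ * u) = 1 := by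
    rw [← AddChar.map_add_eq_mul]
    have : -c⁻¹ * u + c⁻¹ * u = 0 := by ring
    rw [this, AddChar.map_zero_eq_one]
  rw [h3, AddChar.map_add_eq_mul, ← h1, ← h2]
  linear_combination (l2 l' v * l1 l' u) * h4

omit hK in
theorem card_l2 : Nat.card {l : AddChar (K × K) ℂ // l2 l = 1} = Fintype.card K := by
  classical
  rw [← AddChar.card_eq (α := K), ← Nat.card_eq_fintype_card]
  refine Nat.card_congr ⟨fun l => l1 l.1, fun ψ => ⟨ψ.compAddMonoidHom (AddMonoidHom.fst K K), ?_⟩, ?_, ?_⟩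
  · ext v
    show ψ 0 = 1
    exact AddChar.map_zero_eq_one ψ
  · rintro ⟨l, hl⟩
    apply Subtype.ext
    ext ⟨u, v⟩
    show l (u, 0) = l (u, v)
    rw [l_eq l u v, hl]
    show _ = l (u, 0) * 1
    rw [mul_one]
  · intro ψ
    ext u
    rfl

end Cfsg.Agent.Lib.ReeMin
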