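import Mathlib
import Cfsg.Agent.Lib.ReeMin2
import Cfsg.Agent.Lib.CharCentral

/-!
Minimal degrees of irreducible characters of the small Ree groups, part 3 (helper18).
-/

set_option autoImplicit false
set_option linter.unusedSectionVars false

namespace Cfsg.Agent.Lib.ReeMin

open Cfsg.Lie Cfsg.Agent.Lib Cfsg.Agent.Lib.TwG2 Cfsg.Agent.Lib.ReeU Cfsg.Agent.Lib.ChevRel Cfsg.Agent.Lib.ReeQ
open Cfsg.Agent.Lib.ReeA Cfsg.Agent.Lib.WeightProj

variable {K : Type*} [Field K] [Fintype K] {m : ℕ} (hK : Fintype.card K = 3 ^ (2 * m + 1)) (hm : 1 ≤ m)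

local notation "R" => twistedG2 K (3 ^ m)

variable {V : Type*} [AddCommGroup V] [Module ℂ V] (ρ : Representation ℂ (twistedG2 K (3 ^ m)) V)
  [FiniteDimensional ℂ V]

omit [FiniteDimensional ℂ V] in
/-- a representation on which every group element acts trivially is irreducible only in dimension 1 -/
theorem finrank_le_one {Γ : Type*} [Group Γ] (σ : Representation ℂ Γ V) [hσ : σ.IsIrreducible] [FiniteDimensional ℂ V]
    (h : ∀ g, σ g = 1) : Module.finrank ℂ V ≤ 1 := by
  have hpos := CharCentral.finrank_pos_of_irreducible σ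
  obtain ⟨v, hv⟩ : ∃ v : V, v ≠ 0 := by
    haveI : Nontrivial V := Module.finrank_pos_iff.mp hpos
    exact exists_ne 0
  let S : Subrepresentation σ :=
    { toSubmodule := Submodule.span ℂ {v}
      apply_mem_toSubmodule := by
        intro g w hw
        rw [h g]; exact hw }
  rcases eq_bot_or_eq_top S with h1 | h1
  · exfalso
    apply hv
    have h2 : v ∈ S.toSubmodule := Submodule.mem_span_singleton_self v
    rw [h1] at h2
    exact (Submodule.mem_bot ℂ).mp h2
  · have h2 : Submodule.span ℂ {v} = ⊤ := by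
      have : S.toSubmodule = ⊤ := by rw [h1]; rfl
      exact this
    calc Module.finrank ℂ V = Module.finrank ℂ (Submodule.span ℂ {v}) := by rw [h2, finrank_top]
      _ ≤ 1 := (finrank_span_singleton hv).le

include hK hm

/-- if the centre of `U` acts trivially the whole group does -/
theorem trivial_of (h : ∀ v : K, al ρ (0, v) = 1) (g : R) : ρ g = 1 := by
  haveI := (TwG2.simple hK hm).1
  have h1 : (⟨UU (3 ^ m) 0 0 1, mem_UU _ _ _ _⟩ : R) ∈ ρ.ker := h 1
  rcases (MonoidHom.normal_ker ρ).eq_bot_or_eq_top with h2 | h2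
  · exfalso
    rw [h2, Subgroup.mem_bot] at h1
    have h3 : UU (3 ^ m) (0 : K) 0 1 = 1 := congrArg Subtype.val h1
    rw [← UU_zero hK] at h3
    exact one_ne_zero (UU_inj hK h3).2.2
  · have : g ∈ ρ.ker := by rw [h2]; trivial
    exact this

/-- S2343 -/
theorem min_degree [hρ : ρ.IsIrreducible] (h2 : 2 ≤ Module.finrank ℂ V) :
    (3 ^ (2 * m + 1)) ^ 2 - 3 ^ (2 * m + 1) + 1 ≤ Module.finrank ℂ V := by
  classical
  set D := rd hK hm with hD
  have hqm := D.q_mod
  have hq27 := D.q_ge
  rw [← hK]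
  set q := Fintype.card K with hq
  have hadd := al_add hK ρ
  have hzero := al_zero hK ρ
  have hidem := fun l => idem (α := al ρ) hadd l
  choose n hn hn0 using fun l : AddChar (K × K) ℂ => trace_idem (hidem l)
  -- the common multiplicity
  obtain ⟨ψ, hψ⟩ : ∃ ψ : AddChar K ℂ, ψ ≠ 1 := by
    haveI : Nontrivial (AddChar K ℂ) := by
      rw [← Fintype.one_lt_card_iff_nontrivial, AddChar.card_eq]; omega
    exact exists_ne 1
  set L₀ : AddChar (K × K) ℂ := ψ.compAddMonoidHom (AddMonoidHom.snd K K) with hL₀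
  have hL₀2 : l2 L₀ = ψ := by ext v; rfl
  have hsame : ∀ l, l2 l ≠ 1 → n l = n L₀ := by
    intro l hl
    have h1 := trace_eq hK ρ l L₀ hl (by rw [hL₀2]; exact hψ)
    rw [hn, hn] at h1
    exact_mod_cast h1
  -- total dimension
  have htot : (Module.finrank ℂ V : ℂ) = ∑ l : AddChar (K × K) ℂ, (n l : ℂ) := by
    have h1 : LinearMap.trace ℂ V (1 : Module.End ℂ V) = Module.finrank ℂ V := LinearMap.trace_one ℂ V
    rw [← h1, ← sum_E (α := al ρ) hzero, map_sum]
    exact Finset.sum_congr rfl (fun l _ => hn l)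
  have htotN : Module.finrank ℂ V = ∑ l : AddChar (K × K) ℂ, n l := by exact_mod_cast htot
  have hsplit : ∑ l : AddChar (K × K) ℂ, n l = (∑ l ∈ Finset.univ.filter (fun l : AddChar (K × K) ℂ => l2 l = 1), n l) +
      (q ^ 2 - q) * n L₀ := by
    rw [← Finset.sum_filter_add_sum_filter_not Finset.univ (fun l : AddChar (K × K) ℂ => l2 l = 1)]
    congr 1
    rw [Finset.sum_congr rfl (fun l hl => hsame l (Finset.mem_filter.mp hl).2), Finset.sum_const, smul_eq_mul]
    congr 1
    have h1 : (Finset.univ.filter (fun l : AddChar (K × K) ℂ => l2 l = 1)).card = q := by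
      rw [← Fintype.card_subtype, ← Nat.card_eq_fintype_card]; exact card_l2
    have h3 := Finset.card_filter_add_card_filter_not (s := (Finset.univ : Finset (AddChar (K × K) ℂ)))
      (fun l : AddChar (K × K) ℂ => l2 l = 1)
    rw [h1, Finset.card_univ, AddChar.card_eq, Fintype.card_prod, ← hq, ← pow_two] at h3
    have h5 : (Finset.univ.filter (fun l : AddChar (K × K) ℂ => ¬ l2 l = 1)).card = q ^ 2 - q := by omega
    exact h5
  rw [hsplit] at htotN
  -- the multiplicity is positive
  have hpos : n L₀ ≠ 0 := by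
    intro h0
    have hE : ∀ l, l2 l ≠ 1 → E (al ρ) l = 0 := fun l hl => hn0 l (by rw [hsame l hl, h0])
    have htriv := trivial_of hK hm ρ (fun v => by
      calc al ρ (0, v) = al ρ (0, v) * ∑ l : AddChar (K × K) ℂ, E (al ρ) l := by rw [sum_E hzero, mul_one]
        _ = ∑ l : AddChar (K × K) ℂ, E (al ρ) l := by
            rw [Finset.mul_sum]
            apply Finset.sum_congr rfl
            intro l _
            rw [mul_E hadd]
            by_cases hl : l2 l = 1
            · have : l (0, v) = 1 := by rw [← l2_apply, hl]; rfl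
              rw [this, one_smul]
            · rw [hE l hl, smul_zero]
        _ = 1 := sum_E hzero)
    have := finrank_le_one ρ htriv
    omega
  by_contra hlt
  push Not at hlt
  have hqq : q ≤ q ^ 2 := by nlinarith
  have hq2 : 0 < q ^ 2 - q := by
    have : q * 27 ≤ q ^ 2 := by rw [pow_two]; exact Nat.mul_le_mul_left _ hq27
    omega
  have hn1 : n L₀ = 1 := by
    have h1 : n L₀ < 2 := by
      by_contra h
      push Not at h
      have : (q ^ 2 - q) * 2 ≤ (q ^ 2 - q) * n L₀ := Nat.mul_le_mul_left _ h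
      omega
    omega
  rw [hn1, mul_one] at htotN
  have hsum0 : ∑ l ∈ Finset.univ.filter (fun l : AddChar (K × K) ℂ => l2 l = 1), n l = 0 := by omega
  have hE1 : ∀ l, l2 l = 1 → E (al ρ) l = 0 := by
    intro l hl
    apply hn0
    exact (Finset.sum_eq_zero_iff.mp hsum0) l (Finset.mem_filter.mpr ⟨Finset.mem_univ _, hl⟩)
  have hdim : Module.finrank ℂ V = q ^ 2 - q := by omega
  -- the involution has trace zero
  have hneg : (-1 : K) ≠ 0 := neg_ne_zero.mpr one_ne_zero
  have h2ne : (2 : K) ≠ 0 := TwG2.two_ne hK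
  set i : R := ⟨th (3 ^ m) (-1), th_mem_R hK hneg⟩ with hi
  have hc1 : ((-1 : K) ^ 3 ^ m) ^ 3 * (-1 : K)⁻¹ = 1 := by
    rw [h1_pow hK]; norm_num
  have htri : LinearMap.trace ℂ V (ρ i) = 0 := by
    have h1 : ρ i = ∑ l : AddChar (K × K) ℂ, ρ i * E (al ρ) l := by
      rw [← Finset.mul_sum, sum_E hzero, mul_one]
    rw [h1, map_sum]
    apply Finset.sum_eq_zero
    intro l _
    by_cases hl : l2 l = 1
    · rw [hE1 l hl, mul_zero, map_zero]
    · have e1 := conj_E (α := al ρ) (ρ i) _ (al_scal hK ρ hneg) l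
      rw [← (hidem l).eq, ← mul_assoc, e1, mul_assoc, LinearMap.trace_mul_comm, mul_assoc, E_mul hadd, if_neg, mul_zero, map_zero]
      intro he
      apply hl
      ext v
      have h3 : l (0, v) = l (0, (-1 : K)⁻¹ * v) := by
        have h4 := congrArg (fun l : AddChar (K × K) ℂ => l (0, v)) he
        have h5 : l (0, v) = l ((((-1 : K) ^ 3 ^ m) ^ 3 * (-1 : K)⁻¹)⁻¹ * 0, (-1 : K)⁻¹ * v) := h4
        rw [mul_zero] at h5
        exact h5
      have h6 : ∀ w : K, l (0, 2 * w) = 1 := by
        intro w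
        have h7 : l (0, w) = l (0, (-1 : K)⁻¹ * w) := by
          have h4 := congrArg (fun l : AddChar (K × K) ℂ => l (0, w)) he
          have h5 : l (0, w) = l ((((-1 : K) ^ 3 ^ m) ^ 3 * (-1 : K)⁻¹)⁻¹ * 0, (-1 : K)⁻¹ * w) := h4
          rw [mul_zero] at h5
          exact h5
        have h8 : l (0, 2 * w) = l (0, w) * l (0, w) := by
          rw [← AddChar.map_add_eq_mul]; congr 1; ext <;> simp; ring
        rw [h8]
        nth_rewrite 2 [h7]
        rw [← AddChar.map_add_eq_mul]
        have : ((0 : K), w) + ((0 : K), (-1 : K)⁻¹ * w) = 0 := by ext <;> simp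
        rw [this, AddChar.map_zero_eq_one]
      have h9 := h6 (v / 2)
      rw [mul_div_cancel₀ v h2ne] at h9
      exact h9
  -- every involution is conjugate to `i`
  have hiD : D.i = i := by
    symm
    apply D.eq_i
    · show i ∈ (chevG2.diagonalSubgroup K ⊓ R).subgroupOf R
      rw [mem_sub]; exact th_memH hK hneg
    · intro h
      have h1 : th (3 ^ m) (-1 : K) = 1 := congrArg Subtype.val h
      rw [← th_one hK] at h1
      have := th_inj hK hneg one_ne_zero h1
      apply h2ne
      linear_combination -this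
    · apply Subtype.ext
      show th (3 ^ m) (-1 : K) * th (3 ^ m) (-1 : K) = 1
      rw [th_mul (T hK) (3 ^ m) hneg hneg]
      norm_num
      exact th_one hK
  have hinv : ∀ t : R, t ≠ 1 → t * t = 1 → LinearMap.trace ℂ V (ρ t) = 0 := by
    intro t ht1 htt
    obtain ⟨g, hg⟩ := D.inv_conj ht1 htt
    rw [hiD] at hg
    have h1 : ρ (g * i * g⁻¹) = (ρ g * ρ i) * ρ g⁻¹ := by rw [map_mul, map_mul]
    have h3 : ρ g⁻¹ * (ρ g * ρ i) = ρ i := by rw [← mul_assoc, ← map_mul, inv_mul_cancel, map_one, one_mul]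
    rw [← hg, h1, LinearMap.trace_mul_comm, h3]
    exact htri
  -- the fixed space of a Sylow 2-subgroup
  obtain ⟨S⟩ : Nonempty (Sylow 2 R) := inferInstance
  haveI : Fintype (S : Subgroup R) := Fintype.ofFinite _
  have hS8 := (D.syl S).1
  have hSc : Fintype.card (S : Subgroup R) = 8 := by rw [← Nat.card_eq_fintype_card]; exact hS8
  set P : Module.End ℂ V := (8 : ℂ)⁻¹ • ∑ x : (S : Subgroup R), ρ x with hP
  have hPi : IsIdempotentElem P := by
    show P * P = P
    have h1 : ∀ x : (S : Subgroup R), ρ x * ∑ y : (S : Subgroup R), ρ y = ∑ y : (S : Subgroup R), ρ y := by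
      intro x
      rw [Finset.mul_sum, ← Equiv.sum_comp (Equiv.mulLeft x) (fun y : (S : Subgroup R) => ρ (y : R))]
      apply Finset.sum_congr rfl
      intro y _
      rw [← map_mul]; rfl
    rw [hP, smul_mul_smul_comm, Finset.sum_mul, Finset.sum_congr rfl (fun x _ => h1 x), Finset.sum_const, Finset.card_univ,
      hSc, ← Nat.cast_smul_eq_nsmul ℂ, smul_smul]
    norm_num
  obtain ⟨k, hk, -⟩ := trace_idem hPi
  have htrP : LinearMap.trace ℂ V P = (8 : ℂ)⁻¹ * Module.finrank ℂ V := by
    rw [hP, map_smul, map_sum, smul_eq_mul]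
    congr 1
    rw [Finset.sum_eq_single (1 : (S : Subgroup R))]
    · rw [Subgroup.coe_one, map_one]; exact LinearMap.trace_one ℂ V
    · intro x _ hx
      exact hinv x (fun h => hx (Subtype.ext h)) ((D.syl S).2 x x.2)
    · intro h; exact absurd (Finset.mem_univ _) h
  rw [hk] at htrP
  have h8 : Module.finrank ℂ V = 8 * k := by
    have : (Module.finrank ℂ V : ℂ) = 8 * k := by rw [htrP]; ring
    exact_mod_cast this
  rw [hdim] at h8
  obtain ⟨j, hj⟩ : ∃ j, q = 8 * j + 3 := ⟨q / 8, by omega⟩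
  have h9 : q ^ 2 = q + 8 * k := by omega
  rw [hj] at h9
  have h10 : (8 * j + 3) ^ 2 = 8 * (8 * j ^ 2 + 6 * j + 1) + 1 := by ring
  rw [h10] at h9
  omega

end Cfsg.Agent.Lib.ReeMin
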