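import Mathlib
import Cfsg.Agent.Lib.ReeQ
import Cfsg.Agent.Lib.ReeA0

/-!
Three-point stabilizers in the small Ree groups, all `m ≥ 0` (helper18).
-/

set_option autoImplicit false
set_option linter.unusedSectionVars false

namespace Cfsg.Agent.Lib.ReeQ0

open Cfsg.Lie Cfsg.Agent.Lib Cfsg.Agent.Lib.TwG2 Cfsg.Agent.Lib.ChevNPerm Cfsg.Agent.Lib.ChevBruhat
open Cfsg.Agent.Lib.ReeA Cfsg.Agent.Lib.ReeQ

variable {K : Type*} [Field K] [Fintype K] {m : ℕ} (hK : Fintype.card K = 3 ^ (2 * m + 1))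

local notation "R" => twistedG2 K (3 ^ m)

include hK

/-- the small Ree groups, `m ≥ 0` -/
noncomputable def rd0 : ReeA0.RD0 R K m where
  hK := hK
  B := (chevG2.borelSubgroup K ⊓ R).subgroupOf R
  U := (chevG2.posUnipotent K ⊓ R).subgroupOf R
  H := (chevG2.diagonalSubgroup K ⊓ R).subgroupOf R
  n := ⟨nJ K, (nJ_memN hK).2⟩
  card_G := by rw [card_Γ hK, hK]
  card_B := by rw [card_subgroupOf, card_Borel hK, hK]
  card_U := by rw [card_subgroupOf, card_U hK, hK]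
  card_H := by rw [card_subgroupOf, card_H hK, hK]
  hUB := by
    intro x hx
    rw [mem_sub] at hx ⊢
    exact borel_U G hx
  hHB := by
    intro x hx
    rw [mem_sub] at hx ⊢
    exact borel_H G hx
  nU := by
    intro b hb u hu
    rw [mem_sub] at hb hu ⊢
    exact borel_norm_U hb hu
  cyc := by
    haveI := cyclic_H hK
    exact isCyclic_of_surjective (Subgroup.subgroupOfEquivOfLe (inf_le_right : chevG2.diagonalSubgroup K ⊓ R ≤ R)).symm
      (MulEquiv.surjective _)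
  nH := by
    intro h hh
    rw [mem_sub] at hh ⊢
    exact nJ_diag hh
  nB := by
    rw [mem_sub]
    exact nJ_not_B hK
  inter := by
    intro b hb hb'
    rw [mem_sub] at hb hb' ⊢
    have hR : (nJ K)⁻¹ * b * nJ K ∈ R := mul_mem (mul_mem (inv_mem (nJ_memN hK).2) b.2) (nJ_memN hK).2
    refine inter' hK (b' := (nJ K)⁻¹ * b * nJ K) ⟨hb, b.2⟩ ⟨hb', hR⟩ ?_
    group
  odd := by
    intro h hh h1 ho u hu hc
    rw [mem_sub] at hh hu
    have h2 := cen_odd hK (h := (h : GL chevG2.Idx K)) ⟨hh, h.2⟩ (fun h' => h1 (Subtype.ext h'))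
      (by rw [Subgroup.orderOf_coe]; exact ho)
    have h4 : (u : GL chevG2.Idx K) ∈ Subgroup.centralizer {(h : GL chevG2.Idx K)} := by
      rw [Subgroup.mem_centralizer_iff]
      rintro _ rfl
      exact (congrArg Subtype.val hc).symm
    have h3 : (u : GL chevG2.Idx K) ∈ (chevG2.posUnipotent K ⊓ R) ⊓ Subgroup.centralizer {(h : GL chevG2.Idx K)} :=
      ⟨⟨hu, u.2⟩, h4⟩
    rw [h2, Subgroup.mem_bot] at h3
    exact Subtype.ext h3

/-- S1153, second half -/
theorem exists_three : ∃ x y w : R ⧸ (rd0 hK).B, x ≠ y ∧ x ≠ w ∧ y ≠ w ∧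
      Nat.card ↥(MulAction.stabilizer R x ⊓ MulAction.stabilizer R y ⊓ MulAction.stabilizer R w) = 2 := by
  have hneg : (-1 : K) ≠ 0 := neg_ne_zero.mpr one_ne_zero
  have h2 : (-1 : K) ≠ 1 := by
    intro h
    have h3 := two_ne hK
    apply h3
    linear_combination -h
  refine (rd0 hK).exists_three (i := ⟨th (3 ^ m) (-1), th_mem_R hK hneg⟩) (u := ⟨UU (3 ^ m) 0 1 0, mem_UU _ _ _ _⟩)
    ?_ ?_ ?_ ?_ ?_
  · show _ ∈ (chevG2.diagonalSubgroup K ⊓ R).subgroupOf R
    rw [mem_sub]; exact th_memH hK hneg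
  · intro h
    have h1 : th (3 ^ m) (-1 : K) = 1 := congrArg Subtype.val h
    rw [← th_one hK] at h1
    exact h2 (th_inj hK hneg one_ne_zero h1)
  · show _ ∈ (chevG2.posUnipotent K ⊓ R).subgroupOf R
    rw [mem_sub]; exact UU_memU _ _ _ _
  · intro h
    have h1 : UU (3 ^ m) (0 : K) 1 0 = 1 := congrArg Subtype.val h
    rw [← UU_zero hK] at h1
    exact one_ne_zero (UU_inj hK h1).2.1
  · apply Subtype.ext
    show UU (3 ^ m) (0 : K) 1 0 * th (3 ^ m) (-1) = th (3 ^ m) (-1) * UU (3 ^ m) 0 1 0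
    have h1 := a_UU hK (0 : K) 1 0
    rw [neg_zero] at h1
    rw [mul_inv_eq_iff_eq_mul] at h1
    exact h1.symm

end Cfsg.Agent.Lib.ReeQ0
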