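import Mathlib
import Cfsg.Agent.Lib.ReeR

/-!
Abstract small Ree groups, part Z: normalizers of Sylow 2-subgroups (helper18).
-/

set_option autoImplicit false
set_option linter.unusedSectionVars false

namespace Cfsg.Agent.Lib.ReeD

/-- orbit-stabilizer for conjugation by a subgroup -/
theorem card_orbit {G : Type*} [Group G] [Finite G] (H : Subgroup G) (x : G) :
    Nat.card {y : G // ∃ h ∈ H, h * x * h⁻¹ = y} * Nat.card (H ⊓ Subgroup.centralizer {x} : Subgroup G) = Nat.card H := by
  have e : H ⧸ (Subgroup.centralizer {x}).subgroupOf H ≃ {y : G // ∃ h ∈ H, h * x * h⁻¹ = y} := by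
    have hrel : ∀ a b : H, (QuotientGroup.leftRel ((Subgroup.centralizer {x}).subgroupOf H)) a b ↔
        (a : G) * x * (a : G)⁻¹ = (b : G) * x * (b : G)⁻¹ := by
      intro a b
      rw [QuotientGroup.leftRel_apply, Subgroup.mem_subgroupOf, Subgroup.mem_centralizer_singleton_iff]
      show ((a : G)⁻¹ * b) * x = x * ((a : G)⁻¹ * b) ↔ _
      constructor
      · intro h
        have h1 : (b : G) * x = a * (x * ((a : G)⁻¹ * b)) := by rw [← h]; group
        rw [h1]; group
      · intro h
        have h1 : (b : G) * x = (a : G) * x * (a : G)⁻¹ * b := by rw [h]; group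
        calc (a : G)⁻¹ * b * x = (a : G)⁻¹ * (b * x) := by group
          _ = _ := by rw [h1]; group
    refine Equiv.ofBijective (Quotient.lift (fun a : H => (⟨(a : G) * x * (a : G)⁻¹, a, a.2, rfl⟩ :
      {y : G // ∃ h ∈ H, h * x * h⁻¹ = y})) (fun a b h => Subtype.ext ((hrel a b).mp h))) ⟨?_, ?_⟩
    · intro a b
      induction a using Quotient.inductionOn with | _ a => ?_
      induction b using Quotient.inductionOn with | _ b => ?_
      intro h
      exact Quotient.sound ((hrel a b).mpr (congrArg Subtype.val h))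
    · rintro ⟨y, h, hh, rfl⟩
      exact ⟨Quotient.mk _ ⟨h, hh⟩, rfl⟩
  have h1 := Subgroup.card_eq_card_quotient_mul_card_subgroup ((Subgroup.centralizer {x}).subgroupOf H)
  rw [Nat.card_congr e] at h1
  rw [h1]
  congr 1
  rw [inf_comm, ← Subgroup.inf_subgroupOf_right]
  exact Nat.card_congr (Subgroup.subgroupOfEquivOfLe inf_le_right).toEquiv.symm

end Cfsg.Agent.Lib.ReeD

namespace Cfsg.Agent.Lib.ReeA.RD

open Cfsg.Agent.Lib.ReePSL Cfsg.Agent.Lib.ReeA Cfsg.Agent.Lib.H53Ree Cfsg.Agent.Lib.H53PSL2 Cfsg.Agent.Lib.ReeB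
open Cfsg.Agent.Lib.ReeD Cfsg.Agent.Lib.ReeG Cfsg.Agent.Lib.ReeT

variable {G : Type*} [Group G] [Finite G] {K : Type*} [Field K] [Fintype K] {m : ℕ} (D : RD G K m)

local notation "q" => Fintype.card K
local notation "PSL2" => Matrix.ProjectiveSpecialLinearGroup (Fin 2) K

theorem exists_ab (D : RD G K m) : ∃ a b : K, a ^ 2 + b ^ 2 = -1 := by
  haveI := D.charP
  have hodd : Fintype.card K % 2 = 1 := by have := D.q_mod; omega
  obtain ⟨a, b, hab⟩ := FiniteField.exists_root_sum_quadratic (R := K) (f := Polynomial.X ^ 2)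
    (g := Polynomial.X ^ 2 - Polynomial.C (-1)) (by simp)
    (Polynomial.degree_X_pow_sub_C (by norm_num) _) hodd
  refine ⟨a, b, ?_⟩
  simp at hab
  linear_combination hab

include D in
/-- the centralizer of a Sylow 2-subgroup -/
theorem cent_syl (S : Sylow 2 G) : Subgroup.centralizer ((S : Subgroup G) : Set G) = S := by
  haveI : Fact (Nat.Prime 2) := ⟨Nat.prime_two⟩
  have hS8 := (D.syl S).1
  have hle : (S : Subgroup G) ≤ Subgroup.centralizer ((S : Subgroup G) : Set G) := by
    intro x hx
    rw [Subgroup.mem_centralizer_iff]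
    intro y hy
    exact D.syl_comm S hy hx
  -- no element of odd prime order
  have hno : ∀ p : ℕ, p.Prime → p ≠ 2 → ∀ x ∈ Subgroup.centralizer ((S : Subgroup G) : Set G), orderOf x ≠ p := by
    intro p hp hp2 x hx hxo
    have hx1 : x ≠ 1 := by rintro rfl; rw [orderOf_one] at hxo; exact hp.one_lt.ne hxo
    have hcx : ∀ s ∈ (S : Subgroup G), s * x = x * s := fun s hs => (Subgroup.mem_centralizer_iff.mp hx) s hs
    have hSx : (S : Subgroup G) ≤ Subgroup.centralizer ({x} : Set G) := by
      intro s hs
      exact Subgroup.mem_centralizer_singleton_iff.mpr (hcx s hs)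
    have h8 : 8 ∣ Nat.card (Subgroup.centralizer ({x} : Set G)) := by rw [← hS8]; exact Subgroup.card_dvd_of_le hSx
    have hq := D.q_mod
    have hpG : p ∣ Nat.card G := by rw [← hxo]; exact orderOf_dvd_natCard x
    rw [D.card_G'] at hpG
    have hp3 : p ≠ 3 := by
      rintro rfl
      have hP : IsPGroup 3 (Subgroup.zpowers x) := by
        apply IsPGroup.of_card (n := 1)
        rw [Nat.card_zpowers, hxo, pow_one]
      obtain ⟨y, hy⟩ := D.three_fix hP
      obtain ⟨a, rfl⟩ := QuotientGroup.mk_surjective y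
      have ha : a • D.o = (QuotientGroup.mk a : G ⧸ D.B) := by
        show a • (QuotientGroup.mk 1 : G ⧸ D.B) = _
        rw [MulAction.Quotient.smul_mk, smul_eq_mul, mul_one]
      have hfix : ∀ s ∈ (S : Subgroup G), s • (QuotientGroup.mk a : G ⧸ D.B) = QuotientGroup.mk a := fun s hs =>
        D.comm_fix hx1 hP (hcx s hs) (hy x (Subgroup.mem_zpowers x))
      have hSB : (S : Subgroup G).map (MulAut.conj a⁻¹).toMonoidHom ≤ D.B := by
        rintro _ ⟨s, hs, rfl⟩
        show a⁻¹ * s * a⁻¹⁻¹ ∈ D.B
        rw [inv_inv, ← D.smul_o, mul_smul, mul_smul, ha, hfix s hs, ← ha, inv_smul_smul]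
      have h9 := Subgroup.card_dvd_of_le hSB
      rw [Nat.card_congr (Subgroup.equivMapOfInjective (S : Subgroup G) _ (MulAut.conj a⁻¹).injective).toEquiv.symm, hS8,
        D.card_B] at h9
      have h10 : Nat.Coprime 8 (q ^ 3) := by
        apply Nat.Coprime.pow_right
        rw [show 8 = 2 ^ 3 by norm_num]
        apply Nat.Coprime.pow_left
        rw [Nat.coprime_two_left, Nat.odd_iff]; omega
      have h11 := h10.dvd_of_dvd_mul_left h9
      omega
    rcases hp.dvd_mul.mp hpG with h | h
    · rcases hp.dvd_mul.mp h with h | h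
      · have h3 := hp.dvd_of_dvd_pow h
        rw [D.hK] at h3
        exact hp3 ((Nat.prime_dvd_prime_iff_eq hp Nat.prime_three).mp (hp.dvd_of_dvd_pow h3))
      · rcases hp.dvd_mul.mp h with h | h
        · have hxx : x * x ≠ 1 := sq_ne_of_odd hx1 (by rw [hxo]; exact hp.odd_of_ne_two hp2)
          obtain ⟨a, ha⟩ := D.conj_H_of_order hxx (by rw [hxo]; exact h)
          have hSH : (S : Subgroup G).map (MulAut.conj a).toMonoidHom ≤ D.H := by
            rintro _ ⟨s, hs, rfl⟩
            show a * s * a⁻¹ ∈ D.H
            refine D.cent_H ha ?_ ?_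
            · intro h; apply hxx
              have : x * x = a⁻¹ * (a * x * a⁻¹ * (a * x * a⁻¹)) * a := by group
              rw [this, h]; group
            · calc a * s * a⁻¹ * (a * x * a⁻¹) = a * (s * x) * a⁻¹ := by group
                _ = a * (x * s) * a⁻¹ := by rw [hcx s hs]
                _ = _ := by group
          have h9 := Subgroup.card_dvd_of_le hSH
          rw [Nat.card_congr (Subgroup.equivMapOfInjective (S : Subgroup G) _ (MulAut.conj a).injective).toEquiv.symm, hS8,
            D.card_H] at h9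
          omega
        · have hE : D.IsE x := ⟨hx1, by rw [hxo]; exact hp.odd_of_ne_two hp2, by rw [hxo]; exact h⟩
          rw [D.E_card hE] at h8
          omega
    · -- `p ∣ q² - q + 1`: involutions do not centralize
      have h1lt : 1 < Nat.card (S : Subgroup G) := by rw [hS8]; norm_num
      obtain ⟨⟨s, hs⟩, hs1⟩ : ∃ s : (S : Subgroup G), s ≠ 1 := by
        haveI : Nontrivial (S : Subgroup G) := (Finite.one_lt_card_iff_nontrivial).mp h1lt
        exact exists_ne 1
      have hs1' : s ≠ 1 := fun h => hs1 (Subtype.ext h)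
      have hss := (D.syl S).2 s hs
      have h4 := D.card_cent hs1' hss
      have h5 : orderOf x ∣ Nat.card (Subgroup.centralizer ({s} : Set G)) :=
        Subgroup.orderOf_dvd_natCard _ (Subgroup.mem_centralizer_singleton_iff.mpr (hcx s hs).symm)
      rw [h4, hxo] at h5
      obtain ⟨a1, a2, a3, a4, a5⟩ := D.cop_prime hp h
      have h7 : q ^ 2 - 1 = (q - 1) * (q + 1) := by
        have hq27 := D.q_ge
        have : 1 ≤ q := by omega
        have h8 : 1 ≤ q ^ 2 := Nat.one_le_pow _ _ (by omega)
        zify [this, h8]; ring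
      rw [h7] at h5
      rcases hp.dvd_mul.mp h5 with h8 | h8
      · exact a1 h8
      · rcases hp.dvd_mul.mp h8 with h9 | h9
        · exact a2 h9
        · exact a3 h9
  have hP : IsPGroup 2 (Subgroup.centralizer ((S : Subgroup G) : Set G)) := by
    rw [IsPGroup.iff_card]
    have hne : Nat.card (Subgroup.centralizer ((S : Subgroup G) : Set G)) ≠ 0 := Nat.card_pos.ne'
    refine ⟨_, Nat.eq_prime_pow_of_unique_prime_dvd hne (fun {d} hd hdd => ?_)⟩
    by_contra hd2
    haveI : Fact d.Prime := ⟨hd⟩
    obtain ⟨y, hy⟩ := exists_prime_orderOf_dvd_card' d hdd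
    exact hno d hd hd2 y y.2 (by rw [Subgroup.orderOf_coe]; exact hy)
  exact S.is_maximal' hP hle

include D in
/-- elements of the normalizer centralizing two independent involutions -/
theorem norm_four (S : Sylow 2 G) {t i j : G} (hti : t ≠ 1) (htt : t * t = 1) (hi1 : i ≠ 1) (hii : i * i = 1) (hit : t * i ≠ 1)
    (htS : t ∈ (S : Subgroup G)) (hiS : i ∈ (S : Subgroup G)) (hjS : j ∈ (S : Subgroup G))
    (hgen : ∀ x ∈ (S : Subgroup G), x = 1 ∨ x = i ∨ x = j ∨ x = i * j ∨ x = t ∨ x = t * i ∨ x = t * j ∨ x = t * (i * j))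
    (hj1 : j ≠ 1) (hji : j ≠ i) (hjt : j ≠ t) (hjti : j ≠ t * i)
    {n : G} (hnt : n * t = t * n) (hni : n * i = i * n) (hnS : n * j * n⁻¹ ∈ (S : Subgroup G)) :
    n ∈ (S : Subgroup G) := by
  have hc : ∀ {x y : G}, x ∈ (S : Subgroup G) → y ∈ (S : Subgroup G) → x * y = y * x := fun hx hy => D.syl_comm S hx hy
  have hback : ∀ x : G, n * x = x * n → n * j * n⁻¹ = x → j = x := by
    intro x hx h
    calc j = n⁻¹ * (n * j * n⁻¹) * n := by group
      _ = n⁻¹ * (x * n) := by rw [h]; group
      _ = n⁻¹ * (n * x) := by rw [hx]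
      _ = x := by group
  rcases hgen _ hnS with h | h | h | h | h | h | h | h
  · exact absurd (hback 1 (by rw [mul_one, one_mul]) h) hj1
  · exact absurd (hback i hni h) hji
  · have hnj : n * j = j * n := by
      calc n * j = n * j * n⁻¹ * n := by group
        _ = _ := by rw [h]
    rw [← D.cent_syl S, Subgroup.mem_centralizer_iff]
    intro x hx
    have e1 : Commute n t := hnt
    have e2 : Commute n i := hni
    have e3 : Commute n j := hnj
    rcases hgen x hx with h | h | h | h | h | h | h | h <;> rw [h]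
    · rw [mul_one, one_mul]
    · exact e2.eq.symm
    · exact e3.eq.symm
    · exact (e2.mul_right e3).eq.symm
    · exact e1.eq.symm
    · exact (e1.mul_right e2).eq.symm
    · exact (e1.mul_right e3).eq.symm
    · exact (e1.mul_right (e2.mul_right e3)).eq.symm
  · exact absurd h (D.no_swap hi1 hii (hc hjS hiS) hni)
  · exact absurd (hback t hnt h) hjt
  · exact absurd (hback (t * i) ((show Commute n t from hnt).mul_right hni).eq h) hjti
  · exact absurd h (D.no_swap hti htt (hc hjS htS) hnt)
  · exfalso
    have htiS : t * i ∈ (S : Subgroup G) := mul_mem htS hiS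
    refine D.no_swap (w := t * i) (u := j) (n := n) hit ?_ (hc hjS htiS) ?_ (by rw [h]; group)
    · have := (D.syl S).2 (t * i) htiS
      exact this
    · exact ((show Commute n t from hnt).mul_right hni).eq

omit [Group G] [Finite G] in
theorem card_eq_one (a : G) : Nat.card {y : G // y = a} = 1 := by simp

omit [Group G] in
theorem card_or'' (P Q : G → Prop) (h : ∀ g, P g → Q g → False) :
    Nat.card {g : G // P g ∨ Q g} = Nat.card {g : G // P g} + Nat.card {g : G // Q g} := by
  classical
  rw [Nat.card_congr (subtypeOrEquiv P Q (by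
    rw [Pi.disjoint_iff]
    intro g
    rw [Prop.disjoint_iff]
    rintro ⟨h1, h2⟩
    exact h g h1 h2)), Nat.card_sum]

include D in
/-- S1157 -/
theorem card_norm_syl (S : Sylow 2 G) : Nat.card (Subgroup.normalizer ((S : Subgroup G) : Set G)) = 168 := by
  classical
  haveI : Fact (Nat.Prime 2) := ⟨Nat.prime_two⟩
  set t := D.i with htd
  have hti := D.i_ne
  have htt := D.i_sq
  rw [← htd] at hti htt
  obtain ⟨ι, C, hcov⟩ := D.exists_conf' hti htt
  obtain ⟨a, b, hab⟩ := D.exists_ab
  obtain ⟨S₀, htS, hiS, hjS⟩ := C.exists_sylow hab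
  have hgen := fun x hx => C.mem_sylow hab S₀ htS hiS hjS x hx
  obtain ⟨r1, r2, r3, r4, r5, r6, r7, r8, r9, r10, r11, r12⟩ := C.rel hab
  set i := II ι with hid
  set j := JJ ι hab with hjd
  set W := WW ι C.h2 hab with hWd
  have hc : ∀ {x y : G}, x ∈ (S₀ : Subgroup G) → y ∈ (S₀ : Subgroup G) → x * y = y * x := fun hx hy => D.syl_comm S₀ hx hy
  set N := Subgroup.normalizer ((S₀ : Subgroup G) : Set G) with hN
  have hSN : (S₀ : Subgroup G) ≤ N := Subgroup.le_normalizer
  have hWt : W * t = t * W := by
    calc W * t = W * t * W⁻¹ * W := by group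
      _ = _ := by rw [r9]
  have hWS : ∀ x ∈ (S₀ : Subgroup G), W * x * W⁻¹ ∈ (S₀ : Subgroup G) := by
    intro x hx
    have hm : ∀ x y : G, W * (x * y) * W⁻¹ = (W * x * W⁻¹) * (W * y * W⁻¹) := by intro x y; group
    have m1 : W * i * W⁻¹ ∈ (S₀ : Subgroup G) := by rw [r10]; exact mul_mem hiS hjS
    have m2 : W * j * W⁻¹ ∈ (S₀ : Subgroup G) := by rw [r11]; exact hiS
    have m3 : W * t * W⁻¹ ∈ (S₀ : Subgroup G) := by rw [r9]; exact htS
    rcases hgen x hx with h | h | h | h | h | h | h | h <;> rw [h]
    · rw [mul_one, mul_inv_cancel]; exact one_mem _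
    · exact m1
    · exact m2
    · rw [hm]; exact mul_mem m1 m2
    · exact m3
    · rw [hm]; exact mul_mem m3 m1
    · rw [hm]; exact mul_mem m3 m2
    · rw [hm, hm]; exact mul_mem m3 (mul_mem m1 m2)
  have hWN : W ∈ N := mem_normalizer_of_le hWS
  have hNmem : ∀ {n x : G}, n ∈ N → x ∈ (S₀ : Subgroup G) → n * x * n⁻¹ ∈ (S₀ : Subgroup G) := by
    intro n x hn hx
    exact (Subgroup.mem_normalizer_iff.mp hn x).mp hx
  -- distinctness
  have hij1 : i * j ≠ 1 := by
    intro h; apply r5
    calc i = i * (j * j) := by rw [r2, mul_one]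
      _ = (i * j) * j := by group
      _ = j := by rw [h, one_mul]
  have hiij : i ≠ i * j := by
    intro h; apply r4
    exact mul_left_cancel (a := i) (by rw [mul_one]; exact h.symm)
  have hjij : j ≠ i * j := by
    intro h; apply r3
    exact mul_right_cancel (b := j) (by rw [one_mul]; exact h.symm)
  have hti1 : t * i ≠ 1 := by
    intro h; apply r6
    calc t = t * (i * i) := by rw [r1, mul_one]
      _ = (t * i) * i := by group
      _ = i := by rw [h, one_mul]
  have hjti : j ≠ t * i := by
    intro h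
    apply r8
    calc t = t * (i * i) := by rw [r1, mul_one]
      _ = (t * i) * i := by group
      _ = j * i := by rw [← h]
      _ = i * j := r12
  -- the stabilizer of `t`
  set Nt := N ⊓ Subgroup.centralizer {t} with hNt
  have hNt24 : Nat.card Nt = 24 := by
    have h1 := card_orbit Nt i
    have h2 : Nt ⊓ Subgroup.centralizer {i} = (S₀ : Subgroup G) := by
      apply le_antisymm
      · rintro n ⟨⟨hn1, hn2⟩, hn3⟩
        have hn2' := Subgroup.mem_centralizer_singleton_iff.mp hn2
        have hn3' := Subgroup.mem_centralizer_singleton_iff.mp hn3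
        exact D.norm_four S₀ hti htt r3 r1 hti1 htS hiS hjS hgen r4 (Ne.symm r5) (Ne.symm r7) hjti hn2' hn3' (hNmem hn1 hjS)
      · intro s hs
        exact ⟨⟨hSN hs, Subgroup.mem_centralizer_singleton_iff.mpr (hc hs htS)⟩,
          Subgroup.mem_centralizer_singleton_iff.mpr (hc hs hiS)⟩
    have h3 : Nat.card {y : G // ∃ h ∈ Nt, h * i * h⁻¹ = y} = 3 := by
      have h4 : Nat.card {y : G // ∃ h ∈ Nt, h * i * h⁻¹ = y} = Nat.card {y : G // y = i ∨ (y = j ∨ y = i * j)} := by
        apply Nat.card_congr
        apply Equiv.subtypeEquivRight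
        intro y
        have hW1 : W * i * W⁻¹ = i * j := r10
        have hW2 : (W * W) * i * (W * W)⁻¹ = j := by
          calc (W * W) * i * (W * W)⁻¹ = W * (W * i * W⁻¹) * W⁻¹ := by group
            _ = W * (i * j) * W⁻¹ := by rw [r10]
            _ = (W * i * W⁻¹) * (W * j * W⁻¹) := by group
            _ = (i * j) * i := by rw [r10, r11]
            _ = i * (j * i) := by group
            _ = i * (i * j) := by rw [r12]
            _ = (i * i) * j := by group
            _ = j := by rw [r1, one_mul]
        have hWNt : W ∈ Nt := ⟨hWN, Subgroup.mem_centralizer_singleton_iff.mpr hWt⟩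
        -- no element of `C(t)` maps `i` to `t * (conjugate of i)`
        have hno : ∀ w ∈ Nt, ∀ h ∈ Nt, h * i * h⁻¹ ≠ t * (w * i * w⁻¹) := by
          intro w hw h hh he
          have hwt := Subgroup.mem_centralizer_singleton_iff.mp hw.2
          have hht := Subgroup.mem_centralizer_singleton_iff.mp hh.2
          have hnt : (w⁻¹ * h) * t = t * (w⁻¹ * h) :=
            ((show Commute w t from hwt).inv_left.mul_left (show Commute h t from hht)).eq
          apply D.no_swap hti htt (hc hiS htS) hnt
          have hwt' : w⁻¹ * t = t * w⁻¹ := (show Commute w t from hwt).inv_left.eq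
          calc (w⁻¹ * h) * i * (w⁻¹ * h)⁻¹ = w⁻¹ * (h * i * h⁻¹) * w := by group
            _ = w⁻¹ * (t * (w * i * w⁻¹)) * w := by rw [he]
            _ = (w⁻¹ * t) * w * i := by group
            _ = t * w⁻¹ * w * i := by rw [hwt']
            _ = t * i := by group
        constructor
        · rintro ⟨h, hh, rfl⟩
          have hht := Subgroup.mem_centralizer_singleton_iff.mp hh.2
          have hback : ∀ x : G, h * x = x * h → h * i * h⁻¹ = x → i = x := by
            intro x hx hxx
            calc i = h⁻¹ * (h * i * h⁻¹) * h := by group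
              _ = h⁻¹ * (x * h) := by rw [hxx]; group
              _ = h⁻¹ * (h * x) := by rw [hx]
              _ = x := by group
          rcases hgen _ (hNmem hh.1 hiS) with h' | h' | h' | h' | h' | h' | h' | h'
          · exact absurd (hback 1 (by rw [mul_one, one_mul]) h') r3
          · exact Or.inl h'
          · exact Or.inr (Or.inl h')
          · exact Or.inr (Or.inr h')
          · exact absurd (hback t hht h').symm r6
          · exact absurd (by rw [h']; group) (hno 1 (one_mem _) h hh)
          · exact absurd (by rw [h', hW2]) (hno (W * W) (mul_mem hWNt hWNt) h hh)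
          · exact absurd (by rw [h', hW1]) (hno W hWNt h hh)
        · rintro (h | h | h)
          · exact ⟨1, one_mem _, by rw [h]; group⟩
          · exact ⟨W * W, mul_mem hWNt hWNt, by rw [h]; exact hW2⟩
          · exact ⟨W, hWNt, by rw [h]; exact hW1⟩
      rw [h4, card_or'', card_or'', card_eq_one, card_eq_one, card_eq_one]
      · rintro g h h'; exact hjij (h.symm.trans h')
      · rintro g h (h' | h')
        · exact r5 (h.symm.trans h')
        · exact hiij (h.symm.trans h')
    rw [h2, h3, (D.syl S₀).1] at h1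
    omega
  have hN168 : Nat.card N = 168 := by
    have h1 := card_orbit N t
    have h3 : Nat.card {y : G // ∃ h ∈ N, h * t * h⁻¹ = y} = 7 := by
      have h4 : Nat.card {y : G // ∃ h ∈ N, h * t * h⁻¹ = y} = Nat.card {y : G // y ∈ (S₀ : Subgroup G) ∧ y ≠ 1} := by
        apply Nat.card_congr
        apply Equiv.subtypeEquivRight
        intro y
        constructor
        · rintro ⟨h, hh, rfl⟩
          refine ⟨hNmem hh htS, ?_⟩
          intro h1
          apply hti
          calc t = h⁻¹ * (h * t * h⁻¹) * h := by group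
            _ = 1 := by rw [h1]; group
        · rintro ⟨hy, hy1⟩
          obtain ⟨g, hg⟩ := D.inv_conj hy1 ((D.syl S₀).2 y hy)
          rw [← htd] at hg
          haveI : IsMulCommutative (S₀ : Subgroup G) := ⟨⟨fun a b => Subtype.ext (hc a.2 b.2)⟩⟩
          obtain ⟨n, hn, he⟩ := S₀.conj_eq_normalizer_conj_of_mem t g⁻¹ htS (by rw [inv_inv, hg]; exact hy)
          refine ⟨n⁻¹, inv_mem hn, ?_⟩
          rw [inv_inv, ← he, inv_inv]; exact hg
      have h5 : Nat.card {y : G // y = 1 ∨ (y ∈ (S₀ : Subgroup G) ∧ y ≠ 1)} = 8 := by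
        rw [← (D.syl S₀).1]
        apply Nat.card_congr
        apply Equiv.subtypeEquivRight
        intro y
        constructor
        · rintro (rfl | h)
          · exact one_mem _
          · exact h.1
        · intro h
          by_cases h1 : y = 1
          · exact Or.inl h1
          · exact Or.inr ⟨h, h1⟩
      rw [card_or'' _ _ (fun g h h' => h'.2 h), card_eq_one] at h5
      rw [h4]; omega
    rw [h3, hNt24] at h1
    omega
  have h1 := Sylow.card_eq_index_normalizer S
  have h2 := Sylow.card_eq_index_normalizer S₀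
  have h3 := Subgroup.card_mul_index (Subgroup.normalizer ((S : Subgroup G) : Set G))
  have h4 := Subgroup.card_mul_index N
  have h3' : Nat.card (Subgroup.normalizer ((S : Subgroup G) : Set G)) * Nat.card (Sylow 2 G) = Nat.card G := by
    rw [h1]; exact h3
  have h4' : 168 * Nat.card (Sylow 2 G) = Nat.card G := by
    rw [h2, ← hN168]; exact h4
  have h5 : 0 < Nat.card (Sylow 2 G) := Nat.card_pos
  rw [← h4'] at h3'
  exact Nat.eq_of_mul_eq_mul_right h5 h3'

end Cfsg.Agent.Lib.ReeA.RD
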