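import Mathlib
import Cfsg.Agent.Lib.ReeZ
import Cfsg.Agent.Lib.ReeS
import Cfsg.Agent.Lib.BG08a

/-!
Abstract small Ree groups: solvable subgroups (helper18).
-/

set_option autoImplicit false
set_option linter.unusedSectionVars false

namespace Cfsg.Agent.Lib.ReeA.RD

open Cfsg.Agent.Lib.ReePSL Cfsg.Agent.Lib.ReeA Cfsg.Agent.Lib.H53Ree Cfsg.Agent.Lib.H53PSL2 Cfsg.Agent.Lib.ReeB
open Cfsg.Agent.Lib.ReeD Cfsg.Agent.Lib.ReeG Cfsg.Agent.Lib.ReeT

variable {G : Type*} [Group G] [Finite G] {K : Type*} [Field K] [Fintype K] {m : ℕ} (D : RD G K m)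

local notation "q" => Fintype.card K

theorem conj_mem_of_norm {V S : Subgroup G} (h : S ≤ Subgroup.normalizer (V : Set G)) {s v : G} (hs : s ∈ S) (hv : v ∈ V) :
    s * v * s⁻¹ ∈ V := (Subgroup.mem_normalizer_iff.mp (h hs) v).mp hv

include D

/-- the 3-local case -/
theorem solv_three {V S : Subgroup G} (hV : IsPGroup 3 V) (hV1 : V ≠ ⊥) (hS : S ≤ Subgroup.normalizer (V : Set G)) :
    ∃ P : Sylow 3 G, S ≤ Subgroup.normalizer ((P : Subgroup G) : Set G) := by
  haveI : Fact (Nat.Prime 3) := ⟨Nat.prime_three⟩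
  obtain ⟨P, hP⟩ := hV.exists_le_sylow
  refine ⟨P, ?_⟩
  obtain ⟨b, hb⟩ := D.exists_point P
  have hPe := D.sylow_eq P hb
  obtain ⟨⟨v, hv⟩, hv1'⟩ := (Subgroup.ne_bot_iff_exists_ne_one).mp hV1
  have hv1 : v ≠ 1 := fun h => hv1' (Subtype.ext h)
  intro s hs
  -- `s` fixes the point
  have hsx : s • (b • D.o) = b • D.o := by
    have h1 : s⁻¹ * v * s ∈ V := by
      have := conj_mem_of_norm hS (inv_mem hs) hv
      rwa [inv_inv] at this
    have h2 : v • (s • (b • D.o)) = s • (b • D.o) := by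
      have h3 := hb _ (hP h1)
      calc v • (s • (b • D.o)) = s • ((s⁻¹ * v * s) • (b • D.o)) := by
            rw [← mul_smul, ← mul_smul, ← mul_smul, ← mul_smul]; congr 1; group
        _ = _ := by rw [h3]
    exact D.three_uniq hv1 (isPGroup_of_mem hV hv) h2 (hb v (hP hv))
  apply mem_normalizer_of_le
  intro g hg
  rw [hPe] at hg ⊢
  obtain ⟨u, hu, rfl⟩ := hg
  have hbB : b⁻¹ * s * b ∈ D.B := by
    rw [← D.smul_o, mul_smul, mul_smul, hsx, inv_smul_smul]
  refine ⟨(b⁻¹ * s * b) * u * (b⁻¹ * s * b)⁻¹, D.nU _ hbB u hu, ?_⟩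
  show b * ((b⁻¹ * s * b) * u * (b⁻¹ * s * b)⁻¹) * b⁻¹ = s * (b * u * b⁻¹) * s⁻¹
  group

/-- the `p`-local case, `p > 3` -/
theorem solv_odd (ρ : G →* Matrix (Fin 7) (Fin 7) K) (hρ : Function.Injective ρ) {p : ℕ} (hp : p.Prime) (hp2 : p ≠ 2) (hp3 : p ≠ 3)
    {V S : Subgroup G} (hV : IsPGroup p V) (hV1 : V ≠ ⊥) (hS : S ≤ Subgroup.normalizer (V : Set G)) :
    ∃ (Y A : Subgroup G) (w c : ℕ), Tor m Y A w c ∧ S ≤ Subgroup.normalizer (Y : Set G) := by
  haveI : Fact p.Prime := ⟨hp⟩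
  have hpG : p ∣ Nat.card G := by
    obtain ⟨k, hk⟩ := hV.exists_card_eq
    have hk0 : k ≠ 0 := by
      rintro rfl
      rw [pow_zero] at hk
      exact hV1 (Subgroup.card_eq_one.mp hk)
    have h1 := Subgroup.card_subgroup_dvd_card V
    rw [hk] at h1
    exact (dvd_pow_self p hk0).trans h1
  obtain ⟨Y, A, w, c, t, hpY⟩ := D.exists_tor ρ hρ hp hp2 hp3 hpG
  obtain ⟨g, hg⟩ := t.tor.sylow_conj hpY t.card (t.cop p hp hpY) hV hV1
  have t' := t.tor.map g⁻¹
  have hVY : V ≤ Y.map (MulAut.conj g⁻¹).toMonoidHom := by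
    intro v hv
    refine ⟨g * v * g⁻¹, hg ⟨v, hv, rfl⟩, ?_⟩
    show g⁻¹ * (g * v * g⁻¹) * g⁻¹⁻¹ = v
    group
  have hinj : ∀ B : Subgroup G, Nat.card (B.map (MulAut.conj g⁻¹).toMonoidHom) = Nat.card B := fun B =>
    Nat.card_congr (Subgroup.equivMapOfInjective B _ (MulAut.conj g⁻¹).injective).toEquiv.symm
  refine ⟨Y.map (MulAut.conj g⁻¹).toMonoidHom, A.map (MulAut.conj g⁻¹).toMonoidHom, w, c, ⟨t', ?_, ?_, ?_⟩, ?_⟩
  · rw [hinj, hinj]; exact t.card
  · rw [hinj]; exact t.cop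
  · rw [hinj]
    rcases t.val with ⟨h1, h2, h3, h4⟩ | ⟨h1, h2, h3, h4⟩ | h | h
    · left
      refine ⟨h1, h2, h3, ?_⟩
      exact isCyclic_of_surjective (Subgroup.equivMapOfInjective A (MulAut.conj g⁻¹).toMonoidHom (MulAut.conj g⁻¹).injective)
        (MulEquiv.surjective _)
    · right; left
      refine ⟨h1, h2, h3, ?_⟩
      rintro _ ⟨a, ha, rfl⟩
      rw [← map_mul]
      have h5 := (MulAut.conj g⁻¹).orderOf_eq (a * a)
      show Odd (orderOf ((MulAut.conj g⁻¹) (a * a)))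
      rw [h5]; exact h4 a ha
    · exact Or.inr (Or.inr (Or.inl h))
    · exact Or.inr (Or.inr (Or.inr h))
  · have hY1 : Y.map (MulAut.conj g⁻¹).toMonoidHom ≠ ⊥ := by
      intro h; rw [h, le_bot_iff] at hVY; exact hV1 hVY
    rw [t'.norm_eq le_rfl hY1, ← t'.norm_eq hVY hV1]
    exact hS

/-- the normalizer of a four-group -/
theorem four_norm {V : Subgroup G} (hV4 : Nat.card V = 4) (hVs : ∀ v ∈ V, v * v = 1) :
    ∃ Y A : Subgroup G, Tor m Y A (6 * (3 ^ (2 * m + 1) + 1)) 4 ∧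
      Subgroup.normalizer (V : Set G) ≤ Subgroup.normalizer (Y : Set G) := by
  have hq27 := D.q_ge
  have hqm := D.q_mod
  -- generators
  have hcomm : ∀ a ∈ V, ∀ b ∈ V, a * b = b * a := by
    intro a ha b hb
    have h1 := hVs a ha
    have h2 := hVs b hb
    have h3 := hVs (a * b) (mul_mem ha hb)
    have ha' : a⁻¹ = a := inv_eq_of_mul_eq_one_left h1
    have hb' : b⁻¹ = b := inv_eq_of_mul_eq_one_left h2
    have h4 : a * b = (a * b)⁻¹ := (inv_eq_of_mul_eq_one_left h3).symm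
    rw [mul_inv_rev, ha', hb'] at h4
    exact h4
  haveI : Nontrivial V := (Finite.one_lt_card_iff_nontrivial).mp (by rw [hV4]; norm_num)
  obtain ⟨⟨v, hv⟩, hv1'⟩ := exists_ne (1 : V)
  have hv1 : v ≠ 1 := fun h => hv1' (Subtype.ext h)
  obtain ⟨j, hj, hjz⟩ : ∃ j ∈ V, j ∉ Subgroup.zpowers v := by
    by_contra hne
    push Not at hne
    have h1 : V ≤ Subgroup.zpowers v := hne
    have h2 := Subgroup.card_dvd_of_le h1
    rw [hV4, Nat.card_zpowers, orderOf_eq_prime (by rw [pow_two]; exact hVs v hv) hv1] at h2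
    norm_num at h2
  have hj1 : j ≠ 1 := by rintro rfl; exact hjz (one_mem _)
  have hvj : v ≠ j := by rintro rfl; exact hjz (Subgroup.mem_zpowers v)
  have hgen : ∀ x ∈ V, x = 1 ∨ x = v ∨ x = j ∨ x = v * j := by
    classical
    have hvj1 : v * j ≠ 1 := by
      intro h; apply hvj
      calc v = v * (j * j) := by rw [hVs j hj, mul_one]
        _ = (v * j) * j := by group
        _ = j := by rw [h, one_mul]
    have hvvj : v ≠ v * j := by
      intro h; apply hj1
      exact mul_left_cancel (a := v) (by rw [mul_one]; exact h.symm)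
    have hjvj : j ≠ v * j := by
      intro h; apply hv1
      exact mul_right_cancel (b := j) (by rw [one_mul]; exact h.symm)
    haveI : Fintype V := Fintype.ofFinite V
    let s : Finset V := {1, ⟨v, hv⟩, ⟨j, hj⟩, ⟨v * j, mul_mem hv hj⟩}
    have hs : s.card = 4 := by
      have n1 : (1 : V) ≠ ⟨v, hv⟩ := fun h => hv1 (congrArg Subtype.val h).symm
      have n2 : (1 : V) ≠ ⟨j, hj⟩ := fun h => hj1 (congrArg Subtype.val h).symm
      have n3 : (1 : V) ≠ ⟨v * j, mul_mem hv hj⟩ := fun h => hvj1 (congrArg Subtype.val h).symm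
      have n4 : (⟨v, hv⟩ : V) ≠ ⟨j, hj⟩ := fun h => hvj (congrArg Subtype.val h)
      have n5 : (⟨v, hv⟩ : V) ≠ ⟨v * j, mul_mem hv hj⟩ := fun h => hvvj (congrArg Subtype.val h)
      have n6 : (⟨j, hj⟩ : V) ≠ ⟨v * j, mul_mem hv hj⟩ := fun h => hjvj (congrArg Subtype.val h)
      rw [Finset.card_insert_of_notMem, Finset.card_insert_of_notMem, Finset.card_insert_of_notMem, Finset.card_singleton]
      · simpa using n6
      · simp only [Finset.mem_insert, Finset.mem_singleton, not_or]; exact ⟨n4, n5⟩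
      · simp only [Finset.mem_insert, Finset.mem_singleton, not_or]; exact ⟨n1, n2, n3⟩
    have hu : s = Finset.univ := by
      apply Finset.eq_univ_of_card
      rw [hs, ← Nat.card_eq_fintype_card, hV4]
    intro x hx
    have h1 : (⟨x, hx⟩ : V) ∈ s := by rw [hu]; exact Finset.mem_univ _
    simp only [s, Finset.mem_insert, Finset.mem_singleton] at h1
    rcases h1 with h | h | h | h
    · exact Or.inl (congrArg Subtype.val h)
    · exact Or.inr (Or.inl (congrArg Subtype.val h))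
    · exact Or.inr (Or.inr (Or.inl (congrArg Subtype.val h)))
    · exact Or.inr (Or.inr (Or.inr (congrArg Subtype.val h)))
  set C := Subgroup.centralizer ({v} : Set G) ⊓ Subgroup.centralizer ({j} : Set G) with hC
  have hCcard : Nat.card C = 2 * (q + 1) := D.card_cent_four hv1 (hVs v hv) hj1 (hVs j hj) hvj (hcomm v hv j hj)
  have hCmem : ∀ {c : G}, c ∈ C ↔ c * v = v * c ∧ c * j = j * c := by
    intro c
    rw [hC, Subgroup.mem_inf, Subgroup.mem_centralizer_singleton_iff, Subgroup.mem_centralizer_singleton_iff]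
  -- an element of odd prime order
  have hne1 : (q + 1) / 4 ≠ 1 := by omega
  obtain ⟨p, hp, hpq⟩ := Nat.exists_prime_and_dvd hne1
  haveI : Fact p.Prime := ⟨hp⟩
  have hodd : Odd ((q + 1) / 4) := by rw [Nat.odd_iff]; omega
  have hpodd : Odd p := Odd.of_dvd_nat hodd hpq
  have hpq1 : p ∣ q + 1 := hpq.trans (Nat.div_dvd_of_dvd (by omega))
  obtain ⟨⟨x, hxC⟩, hx⟩ := exists_prime_orderOf_dvd_card' (G := C) p (by rw [hCcard]; exact hpq1.mul_left _)
  have hxo : orderOf x = p := by rw [← hx, Subgroup.orderOf_mk]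
  have hx1 : x ≠ 1 := by rintro rfl; rw [orderOf_one] at hxo; exact hp.one_lt.ne hxo
  have hE : D.IsE x := ⟨hx1, by rw [hxo]; exact hpodd, by rw [hxo]; exact hpq1⟩
  obtain ⟨Y, A, t, hY, hA, hxY⟩ := D.tor_E hE
  have hAmem : ∀ {c : G}, c ∈ A ↔ c * x = x * c := by
    intro c; rw [hA]; exact Subgroup.mem_centralizer_singleton_iff
  have hvA : v ∈ A := hAmem.mpr ((hCmem.mp hxC).1).symm
  have hjA : j ∈ A := hAmem.mpr ((hCmem.mp hxC).2).symm
  have hAC : A ≤ C := by
    intro a ha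
    exact hCmem.mpr ⟨t.tor.comm a ha v hvA, t.tor.comm a ha j hjA⟩
  have hAcard : Nat.card A = q + 1 := by rw [hA]; exact D.E_card hE
  have hidx : (A.subgroupOf C).index = 2 := by
    have h1 := Subgroup.card_mul_index (A.subgroupOf C)
    rw [Nat.card_congr (Subgroup.subgroupOfEquivOfLe hAC).toEquiv, hAcard, hCcard] at h1
    exact Nat.eq_of_mul_eq_mul_left (show 0 < q + 1 by omega) (by rw [h1]; ring)
  have hsq : ∀ c ∈ C, c * c ∈ A := by
    intro c hc
    have := Subgroup.mul_self_mem_of_index_two hidx ⟨c, hc⟩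
    rw [Subgroup.mem_subgroupOf] at this
    exact this
  have hYodd : Odd (Nat.card Y) := by rw [hY, ← D.hK]; exact hodd
  refine ⟨Y, A, t, ?_⟩
  intro n hn
  apply mem_normalizer_of_le
  intro y hy
  -- `n y n⁻¹` is in `C`
  have hnV : ∀ x ∈ V, n⁻¹ * x * n ∈ V := by
    intro x hx
    have := (Subgroup.mem_normalizer_iff.mp (inv_mem hn) x).mp hx
    rwa [inv_inv] at this
  have hyV : ∀ x ∈ V, y * x = x * y := by
    intro x hx
    have hyC := hCmem.mp (hAC (t.tor.le hy))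
    have e1 : Commute y v := hyC.1
    have e2 : Commute y j := hyC.2
    rcases hgen x hx with h | h | h | h <;> rw [h]
    · rw [mul_one, one_mul]
    · exact e1
    · exact e2
    · exact (e1.mul_right e2).eq
  have hzV : ∀ x ∈ V, (n * y * n⁻¹) * x = x * (n * y * n⁻¹) := by
    intro x hx
    have h1 := hyV _ (hnV x hx)
    calc (n * y * n⁻¹) * x = n * (y * (n⁻¹ * x * n)) * n⁻¹ := by group
      _ = n * ((n⁻¹ * x * n) * y) * n⁻¹ := by rw [h1]
      _ = _ := by group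
  have hzC : n * y * n⁻¹ ∈ C := hCmem.mpr ⟨hzV v hv, hzV j hj⟩
  have hzp : (n * y * n⁻¹) ^ Nat.card Y = 1 := by
    have : (n * y * n⁻¹) ^ Nat.card Y = n * y ^ Nat.card Y * n⁻¹ := conj_pow
    rw [this, t.tor.pow_card hy]; group
  have hzA : n * y * n⁻¹ ∈ A := by
    have hzo : Odd (orderOf (n * y * n⁻¹)) := Odd.of_dvd_nat hYodd (orderOf_dvd_of_pow_eq_one hzp)
    obtain ⟨k, hk⟩ := hzo
    have h2 : n * y * n⁻¹ = ((n * y * n⁻¹) * (n * y * n⁻¹)) ^ (k + 1) := by
      rw [← pow_two, ← pow_mul]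
      have : 2 * (k + 1) = orderOf (n * y * n⁻¹) + 1 := by omega
      rw [this, pow_succ, pow_orderOf_eq_one, one_mul]
    rw [h2]
    exact Subgroup.pow_mem _ (hsq _ hzC) _
  exact t.tor.mem _ hzA hzp

end Cfsg.Agent.Lib.ReeA.RD
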