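import Mathlib
import Cfsg.Agent.Lib.ReeZ2

/-!
Abstract small Ree groups: solvable subgroups, conclusion (helper18).
-/

set_option autoImplicit false
set_option linter.unusedSectionVars false

namespace Cfsg.Agent.Lib.ReeA.RD

open Cfsg.Agent.Lib.ReePSL Cfsg.Agent.Lib.ReeA Cfsg.Agent.Lib.H53Ree Cfsg.Agent.Lib.H53PSL2 Cfsg.Agent.Lib.ReeB
open Cfsg.Agent.Lib.ReeD Cfsg.Agent.Lib.ReeG Cfsg.Agent.Lib.ReeT
open Cfsg

variable {G : Type*} [Group G] [Finite G] {K : Type*} [Field K] [Fintype K] {m : ℕ} (D : RD G K m)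

local notation "q" => Fintype.card K

/-- S2361 -/
theorem solvable (D : RD G K m) (ρ : G →* Matrix (Fin 7) (Fin 7) K) (hρ : Function.Injective ρ) (S : Subgroup G)
    (hS : Group.IsSolvable S) :
    ∃ A : Subgroup G, S ≤ Subgroup.normalizer (A : Set G) ∧
      ((∃ P : Sylow 2 G, A = P) ∨ (∃ P : Sylow 3 G, A = P) ∨
       (IsCyclic A ∧ (Nat.card A = (3 ^ (2 * m + 1) - 1) / 2 ∨ Nat.card A = (3 ^ (2 * m + 1) + 1) / 4 ∨
          Nat.card A = 3 ^ (2 * m + 1) - 3 ^ (m + 1) + 1 ∨ Nat.card A = 3 ^ (2 * m + 1) + 3 ^ (m + 1) + 1))) := by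
  have torcase : ∀ (Y A : Subgroup G) (w c : ℕ), Tor m Y A w c → S ≤ Subgroup.normalizer (Y : Set G) →
      ∃ A : Subgroup G, S ≤ Subgroup.normalizer (A : Set G) ∧
      ((∃ P : Sylow 2 G, A = P) ∨ (∃ P : Sylow 3 G, A = P) ∨
       (IsCyclic A ∧ (Nat.card A = (3 ^ (2 * m + 1) - 1) / 2 ∨ Nat.card A = (3 ^ (2 * m + 1) + 1) / 4 ∨
          Nat.card A = 3 ^ (2 * m + 1) - 3 ^ (m + 1) + 1 ∨ Nat.card A = 3 ^ (2 * m + 1) + 3 ^ (m + 1) + 1))) := by
    intro Y A w c t h
    refine ⟨Y, h, Or.inr (Or.inr ⟨t.tor.cyc, ?_⟩)⟩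
    rcases t.val with h | h | h | h
    · exact Or.inl h.1
    · exact Or.inr (Or.inl h.1)
    · exact Or.inr (Or.inr (Or.inl h.1))
    · exact Or.inr (Or.inr (Or.inr h.1))
  by_cases hodd : ∃ p : ℕ, p.Prime ∧ p ≠ 2 ∧ pCoreOf p S ≠ ⊥
  · obtain ⟨p, hp, hp2, hV1⟩ := hodd
    haveI : Fact p.Prime := ⟨hp⟩
    have hV : IsPGroup p (pCoreOf p S) := Cfsg.Agent.Lib.LocBase.isPGroup_pCoreOf p S
    have hN : S ≤ Subgroup.normalizer (pCoreOf p S : Set G) := Cfsg.Agent.Lib.LocBase.le_normalizer_pCoreOf p S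
    by_cases hp3 : p = 3
    · subst hp3
      obtain ⟨P, hP⟩ := D.solv_three hV hV1 hN
      exact ⟨P, hP, Or.inr (Or.inl ⟨P, rfl⟩)⟩
    · obtain ⟨Y, A, w, c, t, h⟩ := D.solv_odd ρ hρ hp hp2 hp3 hV hV1 hN
      exact torcase Y A w c t h
  · push Not at hodd
    haveI : Fact (Nat.Prime 2) := ⟨Nat.prime_two⟩
    set V := pCoreOf 2 S with hVd
    have hV : IsPGroup 2 V := Cfsg.Agent.Lib.LocBase.isPGroup_pCoreOf 2 S
    have hN : S ≤ Subgroup.normalizer (V : Set G) := Cfsg.Agent.Lib.LocBase.le_normalizer_pCoreOf 2 S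
    have hVS : V ≤ S := Cfsg.Agent.Lib.LocBase.pCoreOf_le S
    have hFV : fittingOf S ≤ V := by
      rw [Cfsg.Agent.Lib.BG08.fittingOf_eq_iSup]
      apply iSup_le
      intro p
      by_cases h2 : (p : ℕ) = 2
      · rw [h2]
      · rw [hodd p p.2 h2]; exact bot_le
    have hcent : S ⊓ Subgroup.centralizer (V : Set G) ≤ V := by
      refine le_trans ?_ hFV
      refine le_trans ?_ (Cfsg.Agent.Lib.BG08.inf_centralizer_fittingOf_le hS)
      refine le_inf inf_le_left ?_
      exact inf_le_right.trans (Subgroup.centralizer_le hFV)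
    obtain ⟨T, hT⟩ := hV.exists_le_sylow
    have hT8 := (D.syl T).1
    have hVs : ∀ v ∈ V, v * v = 1 := fun v hv => (D.syl T).2 v (hT hv)
    have hVd8 : Nat.card V ∣ 2 ^ 3 := by
      have := Subgroup.card_dvd_of_le hT
      rw [hT8] at this
      exact this
    obtain ⟨k, hk, hk'⟩ := (Nat.dvd_prime_pow Nat.prime_two).mp hVd8
    interval_cases k
    · -- trivial core
      have hVb : V = ⊥ := Subgroup.card_eq_one.mp (by rw [hk']; norm_num)
      have hSb : S ≤ T := by
        intro s hs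
        have : s ∈ V := hcent ⟨hs, by
          rw [hVb]
          show s ∈ Subgroup.centralizer ((⊥ : Subgroup G) : Set G)
          rw [Subgroup.mem_centralizer_iff]
          intro y hy
          have hy1 : y = 1 := Subgroup.mem_bot.mp hy
          rw [hy1, one_mul, mul_one]⟩
        exact hT this
      exact ⟨T, hSb.trans Subgroup.le_normalizer, Or.inl ⟨T, rfl⟩⟩
    · -- order 2
      have hSb : S ≤ T := by
        intro s hs
        refine hT (hcent ⟨hs, ?_⟩)
        show s ∈ Subgroup.centralizer (V : Set G)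
        rw [Subgroup.mem_centralizer_iff]
        intro y hy
        by_cases hy1 : y = 1
        · rw [hy1, one_mul, mul_one]
        · -- the conjugate of `y` is `y`
          have hsy : s * y * s⁻¹ ∈ V := conj_mem_of_norm hN hs hy
          have hsy1 : s * y * s⁻¹ ≠ 1 := by
            intro h; apply hy1
            calc y = s⁻¹ * (s * y * s⁻¹) * s := by group
              _ = 1 := by rw [h]; group
          have huniq : s * y * s⁻¹ = y := by
            have hcyc : V = Subgroup.zpowers y := by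
              symm
              apply Subgroup.eq_of_le_of_card_ge
              · rw [Subgroup.zpowers_le]; exact hy
              · rw [Nat.card_zpowers, orderOf_eq_prime (by rw [pow_two]; exact hVs y hy) hy1, hk']; norm_num
            rw [hcyc] at hsy
            obtain ⟨e, he⟩ := hsy
            have he' : y ^ e = s * y * s⁻¹ := he
            have hyy : y * y = 1 := hVs y hy
            have hy2 : y ^ (2 : ℤ) = 1 := by rw [zpow_ofNat, pow_two]; exact hyy
            rcases Int.even_or_odd e with ⟨l, rfl⟩ | ⟨l, rfl⟩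
            · exfalso; apply hsy1
              rw [← he', ← two_mul, zpow_mul, hy2, one_zpow]
            · rw [← he', zpow_add, zpow_mul, hy2, one_zpow, one_mul, zpow_one]
          calc y * s = s * y * s⁻¹ * s := by rw [huniq]
            _ = s * y := by group
      exact ⟨T, hSb.trans Subgroup.le_normalizer, Or.inl ⟨T, rfl⟩⟩
    · obtain ⟨Y, A, t, h⟩ := D.four_norm (V := V) (by rw [hk']; norm_num) hVs
      exact torcase Y A _ _ t (hN.trans h)
    · have hVT : V = T := by
        apply Subgroup.eq_of_le_of_card_ge hT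
        rw [hT8, hk']; norm_num
      exact ⟨V, hN, Or.inl ⟨T, hVT⟩⟩

end Cfsg.Agent.Lib.ReeA.RD
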