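import Cfsg.Agent.Lib.ReflScal3b
/-
Moved to ReflScal3b (helper91).
-/
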