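import Cfsg.Agent.Lib.MultTrans
import Mathlib.GroupTheory.GroupAction.MultiplePrimitivity
import Mathlib.GroupTheory.Sylow
import Mathlib.Tactic

/-!
Regular normal subgroups of multiply primitive / multiply transitive groups (helper12).
-/

set_option autoImplicit false

namespace Cfsg.Agent.Lib.RegNormalMT

open MulAction

open scoped Pointwise

variable {G X : Type*} [Group G] [MulAction G X]

/-- Blocks of a primitive action in elementary form. -/
theorem primitive_two {L Y : Type*} [Group L] [MulAction L Y] (h : IsPreprimitive L Y) (B : Set Y)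
    (hne : B.Nontrivial)
    (hB : ∀ g : L, ∀ x ∈ B, g • x ∈ B → ∀ y ∈ B, g • y ∈ B) : ∀ y : Y, y ∈ B := by
  have hblock : IsBlock L B := by
    rw [isBlock_iff_smul_eq_of_mem]
    intro g x hx hgx
    apply Set.Subset.antisymm
    · rintro _ ⟨y, hy, rfl⟩
      exact hB g x hx hgx y hy
    · intro y hy
      rw [Set.mem_smul_set_iff_inv_smul_mem]
      exact hB g⁻¹ (g • x) hgx (by rw [inv_smul_smul]; exact hx) y hy
  rcases h.isTrivialBlock_of_isBlock hblock with h1 | h1
  · exact absurd h1 (Set.not_subsingleton_iff.mpr hne)
  · intro y; rw [h1]; trivial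

theorem reg_inj {N : Subgroup G} (hreg : ∀ x : X, stabilizer N x = ⊥) {m n : G} (hm : m ∈ N)
    (hn : n ∈ N) {a : X} (h : m • a = n • a) : m = n := by
  have h1 : (⟨n, hn⟩⁻¹ * ⟨m, hm⟩ : N) ∈ stabilizer N a := by
    show (n⁻¹ * m) • a = a
    rw [mul_smul, h, inv_smul_smul]
  rw [hreg a, Subgroup.mem_bot] at h1
  exact (congrArg Subtype.val (inv_mul_eq_one.mp h1)).symm

theorem reg_card [Finite X] {N : Subgroup G} (htrans : IsPretransitive N X)
    (hreg : ∀ x : X, stabilizer N x = ⊥) (a : X) : Nat.card N = Nat.card X := by
  refine Nat.card_congr (Equiv.ofBijective (fun n : N => n • a) ⟨?_, ?_⟩)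
  · intro m n h
    exact Subtype.ext (reg_inj hreg m.2 n.2 h)
  · intro x
    exact htrans.exists_smul_eq a x

/-- The point stabiliser of a 2-primitive group is primitive on the remaining points. -/
theorem stab_primitive (h2 : IsMultiplyPreprimitive G X 2) [IsPretransitive G X] (a : X) :
    IsPreprimitive (stabilizer G a) (SubMulAction.ofStabilizer G a) := by
  rw [← is_one_preprimitive_iff]
  exact isMultiplyPreprimitive_ofStabilizer (n := 1) G X

/-- A regular normal subgroup of a 2-primitive group has exponent two or order three. -/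
theorem sq_eq_one_or_card_three [Finite X] [Nonempty X] (h2 : IsMultiplyPreprimitive G X 2)
    [IsPretransitive G X] (N : Subgroup G) [hN : N.Normal]
    (hreg : ∀ x : X, stabilizer N x = ⊥) : Nat.card X = 3 ∨ ∀ n ∈ N, n * n = 1 := by
  classical
  by_cases hall : ∀ n ∈ N, n * n = 1
  · right; exact hall
  left
  push Not at hall
  obtain ⟨n, hn, hnn⟩ := hall
  have hn1 : n ≠ 1 := by rintro rfl; exact hnn (mul_one 1)
  have hninv : n ≠ n⁻¹ := by
    intro h; apply hnn; nth_rewrite 1 [h]; exact inv_mul_cancel n
  obtain ⟨a⟩ := ‹Nonempty X›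
  have hprim := stab_primitive h2 a
  have hna : ∀ m ∈ N, m ≠ 1 → m • a ≠ a := by
    intro m hm hm1 h
    exact hm1 (reg_inj hreg hm N.one_mem (a := a) (by rw [h, one_smul]))
  let x1 : SubMulAction.ofStabilizer G a := ⟨n • a, hna n hn hn1⟩
  let x2 : SubMulAction.ofStabilizer G a :=
    ⟨n⁻¹ • a, hna n⁻¹ (N.inv_mem hn) (by rwa [ne_eq, inv_eq_one])⟩
  have hx12 : x1 ≠ x2 := by
    intro h
    exact hninv (reg_inj hreg hn (N.inv_mem hn) (congrArg Subtype.val h))
  have hB := primitive_two hprim ({x1, x2} : Set (SubMulAction.ofStabilizer G a))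
    (Set.nontrivial_pair hx12) (by
      rintro ⟨g, hg⟩ x hx hgx y hy
      have hga : g⁻¹ • a = a := by rw [inv_smul_eq_iff]; exact hg.symm
      have hga' : g • a = a := hg
      -- conjugation formulas
      have hc1 : ∀ m : G, g • m • a = (g * m * g⁻¹) • a := by
        intro m; rw [mul_smul, mul_smul, hga]
      have key : g * n * g⁻¹ = n ∨ g * n * g⁻¹ = n⁻¹ := by
        have hgn : g * n * g⁻¹ ∈ N := hN.conj_mem n hn g
        have hgn' : (g * n * g⁻¹)⁻¹ ∈ N := N.inv_mem hgn
        rcases hx with rfl | rfl
        · rcases hgx with h | h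
          · left
            have : g • n • a = n • a := congrArg Subtype.val h
            rw [hc1] at this
            exact reg_inj hreg hgn hn this
          · right
            have : g • n • a = n⁻¹ • a := congrArg Subtype.val h
            rw [hc1] at this
            exact reg_inj hreg hgn (N.inv_mem hn) this
        · have e1 : g * n⁻¹ * g⁻¹ = (g * n * g⁻¹)⁻¹ := by group
          rcases hgx with h | h
          · right
            have : g • n⁻¹ • a = n • a := congrArg Subtype.val h
            rw [hc1, e1] at this
            exact inv_eq_iff_eq_inv.mp (reg_inj hreg hgn' hn this)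
          · left
            have : g • n⁻¹ • a = n⁻¹ • a := congrArg Subtype.val h
            rw [hc1, e1] at this
            exact inv_injective (reg_inj hreg hgn' (N.inv_mem hn) this)
      have hx1' : (⟨g, hg⟩ : stabilizer G a) • x1 ∈
          ({x1, x2} : Set (SubMulAction.ofStabilizer G a)) := by
        rcases key with h | h
        · left
          apply Subtype.ext
          show g • n • a = n • a
          rw [hc1, h]
        · right
          apply Subtype.ext
          show g • n • a = n⁻¹ • a
          rw [hc1, h]
      have hx2' : (⟨g, hg⟩ : stabilizer G a) • x2 ∈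
          ({x1, x2} : Set (SubMulAction.ofStabilizer G a)) := by
        have e1 : g * n⁻¹ * g⁻¹ = (g * n * g⁻¹)⁻¹ := by group
        rcases key with h | h
        · right
          apply Subtype.ext
          show g • n⁻¹ • a = n⁻¹ • a
          rw [hc1, e1, h]
        · left
          apply Subtype.ext
          show g • n⁻¹ • a = n • a
          rw [hc1, e1, h, inv_inv]
      rcases hy with rfl | rfl
      · exact hx1'
      · exact hx2')
  have hcard : Nat.card (SubMulAction.ofStabilizer G a) = 2 := by
    have : (Set.univ : Set (SubMulAction.ofStabilizer G a)) = {x1, x2} :=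
      Set.Subset.antisymm (fun y _ => hB y) (Set.subset_univ _)
    rw [← Set.ncard_univ, this, Set.ncard_pair hx12]
  have := SubMulAction.nat_card_ofStabilizer_add_one_eq G a
  omega

theorem comm_of_sq {N : Subgroup G} (h : ∀ n ∈ N, n * n = 1) :
    ∀ m ∈ N, ∀ n ∈ N, m * n = n * m := by
  intro m hm n hn
  have h1 := h (m * n) (N.mul_mem hm hn)
  have h2 := h m hm
  have h3 := h n hn
  have i1 : m⁻¹ = m := inv_eq_of_mul_eq_one_left h2
  have i2 : n⁻¹ = n := inv_eq_of_mul_eq_one_left h3
  have i3 : (m * n)⁻¹ = m * n := inv_eq_of_mul_eq_one_left h1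
  rw [← i3, mul_inv_rev, i1, i2]

/-- A regular normal subgroup in a 3-primitive group: degree three or four. -/
theorem card_three_or_four [Finite X] [Nonempty X] (h3 : IsMultiplyPreprimitive G X 3)
    [IsPretransitive G X] (hX : 3 ≤ Nat.card X) (N : Subgroup G) [hN : N.Normal]
    (htrans : IsPretransitive N X)
    (hreg : ∀ x : X, stabilizer N x = ⊥) : Nat.card X = 3 ∨ Nat.card X = 4 := by
  classical
  have : Fintype X := Fintype.ofFinite X
  have h2 : IsMultiplyPreprimitive G X 2 := by
    apply isMultiplyPreprimitive_of_le G X h3 (by norm_num)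
    rw [ENat.card_eq_coe_natCard]
    exact_mod_cast hX
  rcases sq_eq_one_or_card_three h2 N hreg with h | hsq
  · left; exact h
  right
  obtain ⟨a⟩ := ‹Nonempty X›
  have hcomm := comm_of_sq hsq
  obtain ⟨b, hb, c, hc, hbc⟩ : ∃ b, b ≠ a ∧ ∃ c, c ≠ a ∧ b ≠ c := by
    rw [Nat.card_eq_fintype_card] at hX
    obtain ⟨b, hb⟩ := Fintype.exists_ne_of_one_lt_card (by omega) a
    have h5 : ({a, b} : Finset X).card < Fintype.card X := by
      have := Finset.card_le_two (a := a) (b := b)
      omega
    obtain ⟨c, hc⟩ := Finset.exists_mem_notMem_of_card_lt_card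
      (s := {a, b}) (t := Finset.univ) (by rwa [Finset.card_univ])
    have hc' := hc.2
    simp only [Finset.mem_insert, Finset.mem_singleton, not_or] at hc'
    exact ⟨b, hb, c, hc'.1, Ne.symm hc'.2⟩
  obtain ⟨⟨n, hn⟩, hna⟩ := htrans.exists_smul_eq a b
  obtain ⟨⟨m, hm⟩, hma⟩ := htrans.exists_smul_eq a c
  have hna' : n • a = b := hna
  have hma' : m • a = c := hma
  have hn1 : n ≠ 1 := by
    rintro rfl; rw [one_smul] at hna'; exact hb hna'.symm
  have hmn : m * n ≠ 1 := by
    intro h
    have h6 : m = n := by
      have := eq_inv_of_mul_eq_one_left h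
      rw [this, inv_eq_of_mul_eq_one_left (hsq n hn)]
    rw [h6, hna'] at hma'
    exact hbc hma'
  set s : Set X := {a, b} with hs
  have hsn : s.encard + 1 = ((3 : ℕ) : ℕ∞) := by
    rw [hs, Set.encard_pair (Ne.symm hb)]
    norm_num
  have hprim := IsMultiplyPreprimitive.isPreprimitive_ofFixingSubgroup G 3 hsn
  have hmem : ∀ x : X, x ∈ SubMulAction.ofFixingSubgroup G s ↔ x ≠ a ∧ x ≠ b := by
    intro x
    rw [SubMulAction.mem_ofFixingSubgroup_iff, hs]
    simp
  let x1 : SubMulAction.ofFixingSubgroup G s := ⟨m • a, (hmem _).mpr
    ⟨by rw [hma']; exact hc, by rw [hma']; exact Ne.symm hbc⟩⟩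
  let x2 : SubMulAction.ofFixingSubgroup G s := ⟨(m * n) • a, (hmem _).mpr
    ⟨fun h => hmn (reg_inj hreg (N.mul_mem hm hn) N.one_mem (a := a) (by rw [h, one_smul])),
     fun h => by
      rw [← hna'] at h
      have h7 := reg_inj hreg (N.mul_mem hm hn) hn h
      have h8 : m = 1 := by
        have : m * n = 1 * n := by rw [h7, one_mul]
        exact mul_right_cancel this
      rw [h8, one_smul] at hma'
      exact hc hma'.symm⟩⟩
  have hx12 : x1 ≠ x2 := by
    intro h
    have h7 : m • a = (m * n) • a := congrArg Subtype.val h
    have h8 := reg_inj hreg hm (N.mul_mem hm hn) h7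
    exact hn1 (by
      have : m * n = m * 1 := by rw [← h8, mul_one]
      exact mul_left_cancel this)
  have hB := primitive_two hprim ({x1, x2} : Set (SubMulAction.ofFixingSubgroup G s))
    (Set.nontrivial_pair hx12) (by
      rintro ⟨g, hg⟩ x hx hgx y hy
      rw [mem_fixingSubgroup_iff] at hg
      have hga : g • a = a := hg a (by simp [hs])
      have hgb : g • b = b := hg b (by simp [hs])
      have hga' : g⁻¹ • a = a := by rw [inv_smul_eq_iff, hga]
      have hc1 : ∀ m : G, g • m • a = (g * m * g⁻¹) • a := by
        intro m; rw [mul_smul, mul_smul, hga']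
      have hgn : g * n * g⁻¹ = n := by
        apply reg_inj hreg (hN.conj_mem n hn g) hn (a := a)
        rw [← hc1, hna', hgb]
      set m' := g * m * g⁻¹ with hm'
      have hm'N : m' ∈ N := hN.conj_mem m hm g
      have e1 : g • m • a = m' • a := hc1 m
      have e2 : g • (m * n) • a = (m' * n) • a := by
        rw [hc1 (m * n)]
        congr 1
        calc g * (m * n) * g⁻¹ = (g * m * g⁻¹) * (g * n * g⁻¹) := by group
          _ = m' * n := by rw [hgn]
      have key : m' = m ∨ m' = m * n := by
        rcases hx with rfl | rfl
        · rcases hgx with h | h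
          · left
            have h9 : g • m • a = m • a := congrArg Subtype.val h
            rw [e1] at h9
            exact reg_inj hreg hm'N hm h9
          · right
            have h9 : g • m • a = (m * n) • a := congrArg Subtype.val h
            rw [e1] at h9
            exact reg_inj hreg hm'N (N.mul_mem hm hn) h9
        · rcases hgx with h | h
          · right
            have h9 : g • (m * n) • a = m • a := congrArg Subtype.val h
            rw [e2] at h9
            have h10 := reg_inj hreg (N.mul_mem hm'N hn) hm h9
            rw [← h10, mul_assoc, hsq n hn, mul_one]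
          · left
            have h9 : g • (m * n) • a = (m * n) • a := congrArg Subtype.val h
            rw [e2] at h9
            exact mul_right_cancel (reg_inj hreg (N.mul_mem hm'N hn) (N.mul_mem hm hn) h9)
      have hx1' : (⟨g, by rw [mem_fixingSubgroup_iff]; exact hg⟩ : fixingSubgroup G s) • x1 ∈
          ({x1, x2} : Set (SubMulAction.ofFixingSubgroup G s)) := by
        rcases key with h | h
        · left
          apply Subtype.ext
          show g • m • a = m • a
          rw [e1, h]
        · right
          apply Subtype.ext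
          show g • m • a = (m * n) • a
          rw [e1, h]
      have hx2' : (⟨g, by rw [mem_fixingSubgroup_iff]; exact hg⟩ : fixingSubgroup G s) • x2 ∈
          ({x1, x2} : Set (SubMulAction.ofFixingSubgroup G s)) := by
        rcases key with h | h
        · right
          apply Subtype.ext
          show g • (m * n) • a = (m * n) • a
          rw [e2, h]
        · left
          apply Subtype.ext
          show g • (m * n) • a = m • a
          rw [e2, h, mul_assoc, hsq n hn, mul_one]
      rcases hy with rfl | rfl
      · exact hx1'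
      · exact hx2')
  -- so the complement of {a, b} has two elements
  have huniv : (Set.univ : Set X) = {a, b, m • a, (m * n) • a} := by
    apply Set.Subset.antisymm _ (Set.subset_univ _)
    intro x _
    by_cases hxa : x = a
    · left; exact hxa
    by_cases hxb : x = b
    · right; left; exact hxb
    have := hB ⟨x, (hmem x).mpr ⟨hxa, hxb⟩⟩
    rcases this with h | h
    · right; right; left; exact congrArg Subtype.val h
    · right; right; right; exact congrArg Subtype.val h
  have hle : Nat.card X ≤ 4 := by
    rw [← Set.ncard_univ, huniv]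
    refine (Set.ncard_insert_le _ _).trans ?_
    refine Nat.succ_le_succ ((Set.ncard_insert_le _ _).trans ?_)
    refine Nat.succ_le_succ ((Set.ncard_insert_le _ _).trans ?_)
    rw [Set.ncard_singleton]
  -- and the card is even
  have heven : 2 ∣ Nat.card X := by
    rw [← reg_card htrans hreg a]
    have h11 : orderOf (⟨n, hn⟩ : N) = 2 := by
      apply orderOf_eq_prime
      · apply Subtype.ext
        show n ^ 2 = 1
        rw [sq, hsq n hn]
      · intro h; exact hn1 (congrArg Subtype.val h)
    rw [← h11]
    exact orderOf_dvd_natCard _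
  omega

end Cfsg.Agent.Lib.RegNormalMT
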