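import Cfsg.Prelude
import Cfsg.Agent.Lib.OrbitKey
import Cfsg.Agent.Lib.NormalCompl
import Cfsg.Agent.Lib.DegTools
import Cfsg.Agent.Lib.DetChar
import Cfsg.Agent.Lib.LinExt

set_option autoImplicit false

/-!
# Degrees of characters relative to a normal subgroup: the tools (helper79)
-/

open Cfsg Cfsg.Agent.Lib Cfsg.Agent.Lib.CharBasic Cfsg.Agent.Lib.DefectZero Cfsg.Agent.Lib.Clifford
open Cfsg.Agent.Lib.DetChar Cfsg.Agent.Lib.CliffordCorr

namespace Cfsg.Agent.Lib.RelDeg

universe u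

/-! ### Linear characters -/

/-- The group of linear characters. -/
def Lin (K : Type u) [Group K] : Type u := K →* ℂˣ

section Lin

variable {K : Type u} [Group K]

noncomputable instance : CommGroup (Lin K) := inferInstanceAs (CommGroup (K →* ℂˣ))

/-- the underlying homomorphism -/
def Lin.val (lam : Lin K) : K →* ℂˣ := lam

theorem Lin.ext' {lam μ : Lin K} (h : ∀ k, lam.val k = μ.val k) : lam = μ := MonoidHom.ext h

@[simp] theorem val_mul (lam μ : Lin K) (k : K) : (lam * μ).val k = lam.val k * μ.val k := rfl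
@[simp] theorem val_one (k : K) : (1 : Lin K).val k = 1 := rfl
@[simp] theorem val_inv (lam : Lin K) (k : K) : (lam⁻¹).val k = (lam.val k)⁻¹ := rfl

@[simp] theorem val_pow (lam : Lin K) (n : ℕ) (k : K) : (lam ^ n).val k = lam.val k ^ n := by
  induction n with
  | zero => rw [pow_zero, pow_zero]; rfl
  | succ n ih => rw [pow_succ, pow_succ, val_mul, ih]

theorem val_pow' (lam : Lin K) (n : ℕ) : (lam ^ n).val = lam.val ^ n := by
  ext k
  rw [val_pow, MonoidHom.pow_apply]

/-- a linear character as a function -/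
def lf (lam : Lin K) : K → ℂ := fun n => ((lam.val n : ℂˣ) : ℂ)

/-- product of a linear character and a function -/
def tw (lam : Lin K) (θ : K → ℂ) : K → ℂ := fun n => ((lam.val n : ℂˣ) : ℂ) * θ n

theorem lf_injective : Function.Injective (lf (K := K)) := by
  intro a b h
  apply Lin.ext'
  intro n
  exact Units.ext (congrFun h n)

theorem lf_one : lf (1 : Lin K) = fun _ => 1 := rfl

theorem irr_lf (lam : Lin K) : IsIrrCharacter K (lf lam) := isIrrCharacter_of_unitsHom lam.val

theorem charDegree_lf (lam : Lin K) : charDegree (lf lam) = 1 := by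
  simp [charDegree, lf]

theorem irr_tw [Finite K] (lam : Lin K) {θ : K → ℂ} (hθ : IsIrrCharacter K θ) :
    IsIrrCharacter K (tw lam θ) := by
  have h := hθ.mul_linear (irr_lf lam).isCharacter (by simp [lf])
  have h2 : tw lam θ = θ * lf lam := by
    funext n
    exact mul_comm _ _
  rw [h2]
  exact h

theorem charDegree_tw (lam : Lin K) (θ : K → ℂ) : charDegree (tw lam θ) = charDegree θ := by
  simp [charDegree, tw]

theorem tw_one (θ : K → ℂ) : tw 1 θ = θ := by
  funext n
  simp [tw]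

theorem tw_lf (lam μ : Lin K) : tw lam (lf μ) = lf (lam * μ) := by
  funext n
  simp [tw, lf]

theorem tw_inj (lam : Lin K) {θ φ : K → ℂ} (h : tw lam θ = tw lam φ) : θ = φ := by
  funext n
  have h1 := congrFun h n
  exact mul_left_cancel₀ (Units.ne_zero (lam.val n)) h1

theorem lin_pow_card (lam : Lin K) : lam ^ Nat.card K = 1 := by
  apply Lin.ext'
  intro n
  rw [val_pow, ← map_pow, pow_card_eq_one', map_one, val_one]

/-- a linear character of degree one -/
theorem exists_lf_of_degree [Finite K] {θ : K → ℂ} (hθ : IsIrrCharacter K θ)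
    (h : charDegree θ = 1) : ∃ lam : Lin K, θ = lf lam := by
  obtain ⟨f, hf⟩ := hθ.isCharacter.exists_hom (by
    rw [← charDegree_eq hθ.isCharacter, h, Nat.cast_one])
  exact ⟨f, funext hf⟩

/-! ### The exponent -/

theorem exists_exp {r : ℕ} (hr : r.Prime) {d n : ℕ} (hn : n ≠ 0) (hd : ¬ r ∣ d) :
    ∃ e : ℕ, n / r ^ n.factorization r ∣ e ∧ d * e ≡ 1 [MOD r ^ n.factorization r] := by
  have h1 : (d * (n / r ^ n.factorization r)).Coprime (r ^ n.factorization r) :=
    Nat.Coprime.pow_right _ (Nat.Coprime.mul_left ((Nat.Prime.coprime_iff_not_dvd hr).mpr hd).symm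
      (Nat.coprime_ordCompl hr hn).symm)
  rcases Nat.lt_or_ge 1 (r ^ n.factorization r) with h2 | h2
  · obtain ⟨t, -, ht⟩ := Nat.exists_mul_mod_eq_one_of_coprime h1 h2
    refine ⟨n / r ^ n.factorization r * t, dvd_mul_right _ _, ?_⟩
    rw [← mul_assoc, Nat.ModEq, ht, Nat.mod_eq_of_lt h2]
  · have h3 : r ^ n.factorization r = 1 := le_antisymm h2 (Nat.one_le_pow _ _ hr.pos)
    refine ⟨n / r ^ n.factorization r, dvd_rfl, ?_⟩
    rw [h3]
    exact Nat.modEq_one

open scoped Classical in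
/-- the exponent `e` -/
noncomputable def ex (r d n : ℕ) : ℕ :=
  if h : ∃ e : ℕ, n / r ^ n.factorization r ∣ e ∧ d * e ≡ 1 [MOD r ^ n.factorization r] then
    Classical.choose h else 0

theorem dvd_ex {r : ℕ} (hr : r.Prime) {d n : ℕ} (hn : n ≠ 0) (hd : ¬ r ∣ d) :
    n / r ^ n.factorization r ∣ ex r d n := by
  rw [ex, dif_pos (exists_exp hr hn hd)]
  exact (Classical.choose_spec (exists_exp hr hn hd)).1

theorem ex_modEq {r : ℕ} (hr : r.Prime) {d n : ℕ} (hn : n ≠ 0) (hd : ¬ r ∣ d) :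
    d * ex r d n ≡ 1 [MOD r ^ n.factorization r] := by
  rw [ex, dif_pos (exists_exp hr hn hd)]
  exact (Classical.choose_spec (exists_exp hr hn hd)).2

/-- linear characters of `r`-power order -/
def IsV (r : ℕ) (lam : Lin K) : Prop := lam ^ (r ^ (Nat.card K).factorization r) = 1

theorem IsV.mul {r : ℕ} {lam μ : Lin K} (h1 : IsV r lam) (h2 : IsV r μ) : IsV r (lam * μ) := by
  rw [IsV, mul_pow, h1, h2, mul_one]

theorem IsV.inv {r : ℕ} {lam : Lin K} (h1 : IsV r lam) : IsV r lam⁻¹ := by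
  rw [IsV, inv_pow, h1, inv_one]

theorem IsV.pow {r : ℕ} {lam : Lin K} (h1 : IsV r lam) (n : ℕ) : IsV r (lam ^ n) := by
  rw [IsV, ← pow_mul, mul_comm, pow_mul, h1, one_pow]

theorem isV_one (r : ℕ) : IsV r (1 : Lin K) := one_pow _

theorem isV_of_pow [Finite K] {r : ℕ} (hr : r.Prime) {lam : Lin K} {k : ℕ}
    (h : lam ^ r ^ k = 1) : IsV r lam := by
  have h1 : orderOf lam ∣ Nat.card K := orderOf_dvd_of_pow_eq_one (lin_pow_card lam)
  obtain ⟨j, -, hj⟩ := (Nat.dvd_prime_pow hr).mp (orderOf_dvd_of_pow_eq_one h)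
  rw [hj] at h1
  rw [IsV, ← orderOf_dvd_iff_pow_eq_one, hj]
  exact (Nat.pow_dvd_pow_iff_le_right hr.one_lt).mpr
    ((hr.pow_dvd_iff_le_factorization Nat.card_pos.ne').mp h1)

/-- prime divisors of the order -/
theorem IsV.prime_eq {r : ℕ} (hr : r.Prime) {lam : Lin K} (h : IsV r lam) {p : ℕ} (hp : p.Prime)
    (hd : p ∣ orderOf lam) : p = r :=
  (Nat.prime_dvd_prime_iff_eq hp hr).mp (hp.dvd_of_dvd_pow
    (hd.trans (orderOf_dvd_of_pow_eq_one h)))

open scoped Classical in
/-- the determinant of a character -/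
noncomputable def detHom (θ : K → ℂ) : Lin K :=
  if h : ∃ δ : K →* ℂˣ, ∀ g, detChar θ g = (δ g : ℂ) then Classical.choose h else 1

theorem detHom_apply [Finite K] {θ : K → ℂ} (hθ : IsCharacter K θ) (g : K) :
    (((detHom θ).val g : ℂˣ) : ℂ) = detChar θ g := by
  rw [detHom, dif_pos (exists_detHom hθ)]
  exact (Classical.choose_spec (exists_detHom hθ) g).symm

/-- restriction of linear characters along a homomorphism -/
def Lin.comap {L : Type u} [Group L] (lam : Lin K) (f : L →* K) : Lin L := lam.val.comp f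

@[simp] theorem val_comap {L : Type u} [Group L] (lam : Lin K) (f : L →* K) (x : L) :
    (lam.comap f).val x = lam.val (f x) := rfl

theorem comap_mul {L : Type u} [Group L] (lam μ : Lin K) (f : L →* K) :
    (lam * μ).comap f = lam.comap f * μ.comap f := rfl

theorem comap_one {L : Type u} [Group L] (f : L →* K) : (1 : Lin K).comap f = 1 := rfl

theorem comap_pow {L : Type u} [Group L] (lam : Lin K) (f : L →* K) (n : ℕ) :
    (lam ^ n).comap f = lam.comap f ^ n := by
  apply Lin.ext'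
  intro x
  simp

theorem detHom_comp [Finite K] {L : Type u} [Group L] [Finite L] {θ : K → ℂ}
    (hθ : IsCharacter K θ) (f : L →* K) :
    detHom (fun x : L => θ (f x)) = (detHom θ).comap f := by
  apply Lin.ext'
  intro x
  apply Units.ext
  rw [detHom_apply (hθ.comp f), detChar_comp hθ f, val_comap, detHom_apply hθ]

theorem detHom_tw [Finite K] {θ : K → ℂ} (hθ : IsCharacter K θ) (lam : Lin K) :
    detHom (tw lam θ) = lam ^ charDegree θ * detHom θ := by
  have h : IsCharacter K (tw lam θ) := (irr_lf lam).isCharacter.mul hθ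
  apply Lin.ext'
  intro x
  apply Units.ext
  rw [detHom_apply h, val_mul, Units.val_mul, detHom_apply hθ, val_pow,
    Units.val_pow_eq_pow_val]
  exact detChar_mul_linear hθ (charDegree_eq hθ).symm lam.val x

/-- The linear character of `r`-power order attached to a character of degree prime to `r`. -/
noncomputable def nu (r : ℕ) (θ : K → ℂ) : Lin K :=
  detHom θ ^ ex r (charDegree θ) (Nat.card K)

theorem isV_nu [Finite K] {r : ℕ} (hr : r.Prime) {θ : K → ℂ} (hd : ¬ r ∣ charDegree θ) :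
    IsV r (nu r θ) := by
  obtain ⟨t, ht⟩ := dvd_ex hr (n := Nat.card K) Nat.card_pos.ne' hd
  rw [IsV, nu, ← pow_mul, ht, mul_right_comm, mul_comm (Nat.card K / _),
    Nat.ordProj_mul_ordCompl_eq_self, pow_mul, lin_pow_card, one_pow]

theorem nu_tw [Finite K] {r : ℕ} (hr : r.Prime) {θ : K → ℂ} (hθ : IsCharacter K θ)
    (hd : ¬ r ∣ charDegree θ) {lam : Lin K} (hlam : IsV r lam) :
    nu r (tw lam θ) = lam * nu r θ := by
  rw [nu, nu, charDegree_tw, detHom_tw hθ, mul_pow, ← pow_mul,
    pow_eq_pow_of_modEq (ex_modEq hr Nat.card_pos.ne' hd) hlam, pow_one]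

theorem detHom_lf [Finite K] (lam : Lin K) : detHom (lf lam) = lam := by
  have h1 : detHom (fun _ : K => (1 : ℂ)) = 1 := by
    have h2 := detHom_comp (K := K) (L := K) isCharacter_one (1 : K →* K)
    have h3 : (fun x : K => (1 : K → ℂ) ((1 : K →* K) x)) = fun _ => (1 : ℂ) := rfl
    rw [h3] at h2
    rw [h2]
    apply Lin.ext'
    intro x
    rw [val_comap, MonoidHom.one_apply, map_one, val_one]
  have h2 := detHom_tw (K := K) isCharacter_one lam
  have h3 : tw lam (1 : K → ℂ) = lf lam := by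
    funext n
    simp [tw, lf]
  have h4 : charDegree (1 : K → ℂ) = 1 := by simp [charDegree]
  rw [h3, h4, pow_one] at h2
  rw [h2]
  have h5 : detHom (1 : K → ℂ) = 1 := h1
  rw [h5, mul_one]

end Lin

/-! ### Conjugation -/

section Conj

variable {G : Type u} [Group G] {N : Subgroup G} [hN : N.Normal]

/-- conjugation of linear characters -/
def lcj (g : G) (lam : Lin N) : Lin N := lam.comap (MulAut.conjNormal g).toMonoidHom

theorem cj_lf (g : G) (lam : Lin N) : cj N g (lf lam) = lf (lcj g lam) := by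
  rw [cj_eq_comp]
  rfl

theorem cj_tw (g : G) (lam : Lin N) (θ : N → ℂ) :
    cj N g (tw lam θ) = tw (lcj g lam) (cj N g θ) := by
  rw [cj_eq_comp, cj_eq_comp]
  rfl

theorem lcj_mul (g : G) (lam μ : Lin N) : lcj g (lam * μ) = lcj g lam * lcj g μ := rfl

theorem lcj_one' (g : G) : lcj g (1 : Lin N) = 1 := rfl

theorem lcj_pow (g : G) (lam : Lin N) (n : ℕ) : lcj g (lam ^ n) = lcj g lam ^ n :=
  comap_pow _ _ _

theorem one_lcj (lam : Lin N) : lcj (1 : G) lam = lam := by
  apply lf_injective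
  rw [← cj_lf, cj_one]

theorem lcj_lcj (g h : G) (lam : Lin N) : lcj g (lcj h lam) = lcj (h * g) lam := by
  apply lf_injective
  rw [← cj_lf, ← cj_lf, cj_cj, cj_lf]

theorem lcj_isV {r : ℕ} {lam : Lin N} (h : IsV r lam) (g : G) : IsV r (lcj g lam) := by
  rw [IsV, ← lcj_pow, h, lcj_one']

theorem mem_LI {g : G} {lam : Lin N} : g ∈ inertia N (lf lam) ↔ lcj g lam = lam := by
  rw [mem_inertia, cj_lf]
  exact ⟨fun h => lf_injective h, fun h => by rw [h]⟩

/-- the action of the group on the linear characters of a normal subgroup -/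
@[instance_reducible] noncomputable def act : MulDistribMulAction G (Lin N) where
  smul g lam := lcj g⁻¹ lam
  one_smul lam := by
    show lcj (1 : G)⁻¹ lam = lam
    rw [inv_one, one_lcj]
  mul_smul g h lam := by
    show lcj (g * h)⁻¹ lam = lcj g⁻¹ (lcj h⁻¹ lam)
    rw [lcj_lcj, mul_inv_rev]
  smul_mul g lam μ := lcj_mul g⁻¹ lam μ
  smul_one g := lcj_one' g⁻¹

theorem key [Finite G] {r : ℕ} (hr : r.Prime) {ν μ : Lin N} (hν : IsV r ν)
    (h12 : (inertia N (lf ν)).index.Coprime (inertia N (lf μ)).index)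
    (h13 : (inertia N (lf (ν * μ))).index.Coprime (inertia N (lf ν)).index)
    (hne : (inertia N (lf ν)).index ≠ 1) : r ∣ (inertia N (lf μ)).index := by
  let _ := act (N := N)
  have h : ∀ lam : Lin N, MulAction.stabilizer G lam = inertia N (lf lam) := by
    intro lam
    ext g
    rw [MulAction.mem_stabilizer_iff, ← (inertia N (lf lam)).inv_mem_iff, mem_LI]
    rfl
  have h1 := OrbitKey.orbit_key (G := G) hr ν μ hν
  simp only [h] at h1
  exact h1 h12 h13 hne

theorem charDegree_cj (g : G) (θ : N → ℂ) : charDegree (cj N g θ) = charDegree θ := by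
  rw [cj_eq_comp]
  simp [charDegree]

theorem detHom_cj [Finite G] {θ : N → ℂ} (hθ : IsCharacter N θ) (g : G) :
    detHom (cj N g θ) = lcj g (detHom θ) := by
  rw [cj_eq_comp]
  exact detHom_comp hθ (MulAut.conjNormal g).toMonoidHom

theorem nu_cj [Finite G] {θ : N → ℂ} (hθ : IsCharacter N θ) (r : ℕ) (g : G) :
    nu r (cj N g θ) = lcj g (nu r θ) := by
  rw [nu, nu, charDegree_cj, detHom_cj hθ, lcj_pow]

theorem inertia_le_nu [Finite G] {θ : N → ℂ} (hθ : IsCharacter N θ) (r : ℕ) :
    inertia N θ ≤ inertia N (lf (nu r θ)) := by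
  intro g hg
  rw [mem_LI, ← nu_cj hθ, mem_inertia.mp hg]

/-- inertia groups of twists -/
theorem inertia_tw_le [Finite G] {r : ℕ} (hr : r.Prime) {θ : N → ℂ} (hθ : IsCharacter N θ)
    (hd : ¬ r ∣ charDegree θ) (hnu : nu r θ = 1) {lam : Lin N} (hlam : IsV r lam) :
    inertia N (tw lam θ) ≤ inertia N θ ∧ inertia N (tw lam θ) ≤ inertia N (lf lam) := by
  have h0 : ∀ g ∈ inertia N (tw lam θ), lcj g lam = lam := by
    intro g hg
    have h1 : IsCharacter N (tw lam θ) := (irr_lf lam).isCharacter.mul hθ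
    have h2 := nu_cj h1 r g
    rw [mem_inertia.mp hg, nu_tw hr hθ hd hlam, hnu, mul_one] at h2
    exact h2.symm
  refine ⟨fun g hg => ?_, fun g hg => mem_LI.mpr (h0 g hg)⟩
  have h1 := mem_inertia.mp hg
  rw [cj_tw, h0 g hg] at h1
  exact mem_inertia.mpr (tw_inj lam h1)

/-- degrees and inertia groups -/
theorem deg_dvd [Fintype G] [Fintype N] {χ : G → ℂ} (hχ : IsIrrCharacter G χ) {θ : N → ℂ}
    (hθ : IsIrrCharacter N θ) (h : classInner (fun n : N => χ n) θ ≠ 0) :
    (inertia N θ).index * charDegree θ ∣ charDegree χ := by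
  have h1 := CliffordCorr.degree_clifford hχ hθ h
  obtain ⟨e, he⟩ := (hχ.isCharacter.restrict N).classInner_nat hθ.isCharacter
  rw [he, ← charDegree_eq hχ.isCharacter, ← charDegree_eq hθ.isCharacter] at h1
  have h2 : charDegree χ = e * ((Clifford.inertia N θ).index * charDegree θ) := by exact_mod_cast h1
  rw [h2]
  exact dvd_mul_left _ _

omit hN in
/-- membership in the relative degree set -/
theorem mem_cd [Fintype G] [Fintype N] {χ : IrrCharacter G} {θ : N → ℂ} (hθ : IsIrrCharacter N θ)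
    (h : classInner (fun n : N => (χ : G → ℂ) n) θ ≠ 0) (h1 : θ ≠ fun _ => 1) :
    charDegree (χ : G → ℂ) ∈ relCharDegrees N := by
  refine ⟨χ, ?_, rfl⟩
  by_contra hcon
  push Not at hcon
  apply h
  have h2 : (fun n : N => (χ : G → ℂ) n) = ((χ : G → ℂ) 1) • (fun _ : N => (1 : ℂ)) := by
    funext n
    rw [hcon n n.2]
    simp
  rw [h2, classInner_smul_left]
  have h3 : classInner (fun _ : N => (1 : ℂ)) θ = 0 :=
    isIrrCharacter_fun_one.classInner_eq_zero hθ (fun h => h1 h.symm)
  rw [h3, mul_zero]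

/-- constituents of the characters whose kernel does not contain `N` -/
theorem ne_one_of_over [Fintype G] [Fintype N] {χ : G → ℂ} (hχ : IsIrrCharacter G χ)
    (hx : ∃ x ∈ N, χ x ≠ χ 1) {θ : N → ℂ} (hθ : IsIrrCharacter N θ)
    (h : classInner (fun n : N => χ n) θ ≠ 0) : θ ≠ fun _ => 1 := by
  rintro rfl
  obtain ⟨x, hx, hne⟩ := hx
  have h1 := res_eq_smul_of_invariant hχ hθ (by
    intro g
    rw [cj_eq_comp]) h
  apply hne
  have h2 := congrFun h1 ⟨x, hx⟩
  have h3 := congrFun h1 1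
  simp only [Pi.smul_apply, smul_eq_mul, mul_one, OneMemClass.coe_one] at h2 h3
  rw [h2, ← h3]

/-! ### Extensions -/

/-- A subgroup over `N` corresponding to a Sylow subgroup of the quotient. -/
theorem exists_syl [Finite G] {r : ℕ} (hr : r.Prime) (N : Subgroup G) [N.Normal] :
    ∃ H : Subgroup G, N ≤ H ∧ ¬ r ∣ H.index ∧ ∃ k : ℕ, (N.subgroupOf H).index = r ^ k := by
  have := Fact.mk hr
  have P : Sylow r G := default
  refine ⟨N ⊔ (P : Subgroup G), le_sup_left, fun h => ?_, ?_⟩
  · exact P.not_dvd_index (h.trans (Subgroup.index_dvd_of_le le_sup_right))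
  · obtain ⟨n, hn⟩ := (IsPGroup.iff_card).mp P.isPGroup'
    have h1 : (N.subgroupOf (N ⊔ (P : Subgroup G))).index ∣ Nat.card (P : Subgroup G) := by
      have h2 := Subgroup.relIndex_sup_left (P : Subgroup G) N
      have h3 := Subgroup.relIndex_dvd_card N (P : Subgroup G)
      rw [← h2] at h3
      exact h3
    rw [hn] at h1
    obtain ⟨k, -, hk⟩ := (Nat.dvd_prime_pow hr).mp h1
    exact ⟨k, hk⟩

/-- extension of linear characters to `H` -/
def Ext {H : Subgroup G} (hNH : N ≤ H) (lam : Lin N) : Prop :=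
  ∃ μ : Lin H, μ.comap (Subgroup.inclusion hNH) = lam

omit hN in
theorem Ext.mul {H : Subgroup G} {hNH : N ≤ H} {lam μ : Lin N} (h1 : Ext hNH lam)
    (h2 : Ext hNH μ) : Ext hNH (lam * μ) := by
  obtain ⟨a, rfl⟩ := h1
  obtain ⟨b, rfl⟩ := h2
  exact ⟨a * b, comap_mul _ _ _⟩

omit hN in
theorem Ext.pow {H : Subgroup G} {hNH : N ≤ H} {lam : Lin N} (h1 : Ext hNH lam) (n : ℕ) :
    Ext hNH (lam ^ n) := by
  obtain ⟨a, rfl⟩ := h1
  exact ⟨a ^ n, comap_pow _ _ _⟩

theorem Ext.lcj_eq {H : Subgroup G} {hNH : N ≤ H} {lam : Lin N} (h1 : Ext hNH lam) {g : G}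
    (hg : g ∈ H) : lcj g lam = lam := by
  obtain ⟨a, rfl⟩ := h1
  apply Lin.ext'
  intro n
  show a.val (Subgroup.inclusion hNH (MulAut.conjNormal g n)) = a.val (Subgroup.inclusion hNH n)
  have h2 : Subgroup.inclusion hNH (MulAut.conjNormal g n) =
      (⟨g, hg⟩ : H) * Subgroup.inclusion hNH n * (⟨g, hg⟩ : H)⁻¹ := by
    apply Subtype.ext
    simp [MulAut.conjNormal_apply]
  rw [h2, map_mul, map_mul, map_inv, mul_right_comm, mul_inv_cancel, one_mul]

theorem Ext.le {H : Subgroup G} {hNH : N ≤ H} {lam : Lin N} (h1 : Ext hNH lam) :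
    H ≤ inertia N (lf lam) := fun _ hg => mem_LI.mpr (h1.lcj_eq hg)

omit hN in
/-- the character `ν` of a restriction extends -/
theorem ext_nu [Finite G] {H : Subgroup G} (hNH : N ≤ H) {ξ : H → ℂ} (hξ : IsCharacter H ξ)
    (r : ℕ) : Ext hNH (nu r (resTo N H hNH ξ)) := by
  refine ⟨detHom ξ ^ ex r (charDegree (resTo N H hNH ξ)) (Nat.card N), ?_⟩
  rw [comap_pow, nu]
  congr 1
  exact (detHom_comp hξ (Subgroup.inclusion hNH)).symm

/-- Extension from a subgroup of index prime to `r`. -/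
theorem Ext.extend [Finite G] {r : ℕ} (hr : r.Prime) {H T : Subgroup G} {hNH : N ≤ H}
    (hHT : H ≤ T) (hH : ¬ r ∣ H.index) {lam : Lin N} (hlam : IsV r lam) (hext : Ext hNH lam)
    (hT : ∀ g ∈ T, lcj g lam = lam) : Ext (hNH.trans hHT) lam := by
  obtain ⟨μ, hμ⟩ := hext
  have hNT := hNH.trans hHT
  set lam' : N.subgroupOf T →* ℂˣ := lam.val.comp (subEquiv N T hNT).toMonoidHom with hlam'
  have h1 := LinExt.extends_of_sylow (N.subgroupOf T) lam' (by
    intro g n
    have h2 := hT g g.2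
    have h3 := congrArg (fun l : Lin N => l.val (subEquiv N T hNT n)) h2
    exact h3) (by
    intro p hp hpd
    have h3 : orderOf lam' ∣ r ^ (Nat.card N).factorization r := by
      rw [LinExt.orderOf_dvd_iff']
      intro h
      have h4 := congrArg (fun l : Lin N => l.val (subEquiv N T hNT h)) hlam
      simp only [val_pow, val_one] at h4
      exact h4
    obtain rfl : p = r := (Nat.prime_dvd_prime_iff_eq hp hr).mp (hp.dvd_of_dvd_pow (hpd.trans h3))
    refine ⟨H.subgroupOf T, ?_, μ.val.comp (subEquiv H T hHT).toMonoidHom, ?_, ?_⟩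
    · intro x hx
      exact Subgroup.mem_subgroupOf.mpr (hNH (Subgroup.mem_subgroupOf.mp hx))
    · have h5 : H.relIndex T ∣ H.index := ⟨T.index, (Subgroup.relIndex_mul_index hHT).symm⟩
      exact ((Nat.Prime.coprime_iff_not_dvd hp).mpr fun h => hH (h.trans h5)).symm
    · intro n
      have h6 := congrArg (fun l : Lin N => l.val (subEquiv N T hNT n)) hμ
      exact h6)
  obtain ⟨κ, hκ⟩ := h1
  refine ⟨κ, ?_⟩
  apply Lin.ext'
  intro n
  have h2 := hκ ⟨⟨(n : G), hNT n.2⟩, n.2⟩
  exact h2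

/-- an extension to the inertia group gives a relative degree -/
theorem index_mem [Fintype G] [Fintype N] {lam : Lin N} (hne : lam ≠ 1)
    {T : Subgroup G} (hT : T = inertia N (lf lam)) {hNT : N ≤ T} (hext : Ext hNT lam) :
    T.index ∈ relCharDegrees N := by
  classical
  obtain ⟨μ, hμ⟩ := hext
  have := Fintype.ofFinite T
  have hres : resTo N T hNT (lf μ) = lf lam := by rw [← hμ]; rfl
  have h0 : classInner (resTo N T hNT (lf μ)) (lf lam) = 1 := by
    rw [hres]; exact (irr_lf lam).classInner_self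
  obtain ⟨h1, h2⟩ := corr_irr hNT (irr_lf lam) (fun g => by rw [hT]; exact mem_inertia) (irr_lf μ)
    (by rw [h0]; exact one_ne_zero)
  have h3 := mem_cd (χ := ⟨_, h1⟩) (irr_lf lam) (by rw [h2, h0]; exact one_ne_zero)
    (fun h => hne (lf_injective h))
  have h4 : charDegree (indFun T (lf μ)) = T.index := by
    have h5 := charDegree_eq h1.isCharacter
    rw [IndFun.indFun_one] at h5
    simp only [lf, map_one, Units.val_one, mul_one] at h5
    exact_mod_cast h5
  rw [← h4]
  exact h3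

omit hN in
/-- linear characters extending to the whole group are trivial on `N ≤ G'` -/
theorem eq_one_of_ext_top (hNG : N ≤ commutator G) {T : Subgroup G} (hT : T = ⊤) {hNT : N ≤ T}
    {lam : Lin N} (hext : Ext hNT lam) : lam = 1 := by
  subst hT
  obtain ⟨μ, rfl⟩ := hext
  apply Lin.ext'
  intro n
  set f : G →* ℂˣ := μ.val.comp (Subgroup.topEquiv (G := G)).symm.toMonoidHom
  have h : commutator G ≤ f.ker := by
    rw [commutator_def, Subgroup.commutator_le]
    intro a _ b _
    rw [MonoidHom.mem_ker, map_commutatorElement, commutatorElement_eq_one_iff_mul_comm]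
    exact mul_comm _ _
  exact MonoidHom.mem_ker.mp (h (hNG n.2))

/-- (L3) -/
theorem ext_degree [Fintype G] [Fintype N] (hNG : N ≤ commutator G) {r : ℕ} (hr : r.Prime)
    {H : Subgroup G} {hNH : N ≤ H} (hH : ¬ r ∣ H.index) {lam : Lin N} (hlam : IsV r lam)
    (hext : Ext hNH lam) (hne : lam ≠ 1) :
    (inertia N (lf lam)).index ∈ relCharDegrees N ∧ ¬ r ∣ (inertia N (lf lam)).index ∧
      (inertia N (lf lam)).index ≠ 1 := by
  have h1 : Ext (hNH.trans hext.le) lam := hext.extend hr hext.le hH hlam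
    (fun g hg => mem_LI.mp hg)
  refine ⟨index_mem hne rfl h1, fun h => hH (h.trans (Subgroup.index_dvd_of_le hext.le)),
    fun h => hne (eq_one_of_ext_top hNG (Subgroup.index_eq_one.mp h) h1)⟩

/-- (L2) -/
theorem exists_below [Fintype G] [Fintype N] {r : ℕ} (hr : r.Prime) {H : Subgroup G}
    (hNH : N ≤ H) {k : ℕ} (hk : (N.subgroupOf H).index = r ^ k) {χ : G → ℂ}
    (hχ : IsIrrCharacter G χ) (hd : ¬ r ∣ charDegree χ) :
    ∃ ξ : H → ℂ, IsIrrCharacter H ξ ∧ IsIrrCharacter N (resTo N H hNH ξ) ∧ ¬ r ∣ charDegree ξ ∧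
      classInner (fun n : N => χ n) (resTo N H hNH ξ) ≠ 0 := by
  classical
  have := Fintype.ofFinite H
  obtain ⟨c, hc, hs⟩ := (hχ.isCharacter.restrict H).exists_coeff
  have h1 : ∃ ψ : IrrCharacter H, c ψ ≠ 0 ∧ ¬ r ∣ charDegree (ψ : H → ℂ) := by
    by_contra hcon
    push Not at hcon
    apply hd
    have h2 := congrFun hs 1
    simp only [OneMemClass.coe_one, Finset.sum_apply, Pi.smul_apply, smul_eq_mul] at h2
    rw [← charDegree_eq hχ.isCharacter] at h2
    have h3 : charDegree χ = ∑ ψ : IrrCharacter H, c ψ * charDegree (ψ : H → ℂ) := by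
      have h4 : ((charDegree χ : ℕ) : ℂ) =
          ((∑ ψ : IrrCharacter H, c ψ * charDegree (ψ : H → ℂ) : ℕ) : ℂ) := by
        rw [h2]
        push_cast
        exact Finset.sum_congr rfl fun ψ _ => by rw [charDegree_eq ψ.2.isCharacter]
      exact_mod_cast h4
    rw [h3]
    apply Finset.dvd_sum
    intro ψ _
    by_cases h5 : c ψ = 0
    · rw [h5, zero_mul]
      exact dvd_zero _
    · exact (hcon ψ h5).mul_left _
  obtain ⟨ψ, hψ0, hψd⟩ := h1
  have h2 : classInner (fun h : H => χ h) (ψ : H → ℂ) ≠ 0 := by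
    rw [hc]
    exact_mod_cast hψ0
  have h3 : IsIrrCharacter N (resTo N H hNH (ψ : H → ℂ)) := by
    rw [← isIrrCharacter_comp_mulEquiv_iff (subEquiv N H hNH)]
    exact NormalCompl.res_irr_of_not_dvd hr (N.subgroupOf H) hk ψ hψd
  refine ⟨ψ, ψ.2, h3, hψd, ?_⟩
  have h4 := (hχ.isCharacter.restrict H).sub_constituent ψ.2 h2
  have h5 := h4.comp (Subgroup.inclusion hNH)
  have h6 : (fun n : N => χ n) = resTo N H hNH (ψ : H → ℂ) +
      fun x : N => ((fun h : H => χ h) - (ψ : H → ℂ)) (Subgroup.inclusion hNH x) := by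
    funext n
    simp only [Pi.add_apply, Pi.sub_apply, resTo]
    exact (add_sub_cancel _ _).symm
  obtain ⟨m, hm⟩ := h5.classInner_nat h3.isCharacter
  rw [h6, classInner_add_left, h3.classInner_self, hm]
  exact_mod_cast Nat.succ_ne_zero m ∘ fun h => by omega

end Conj

end Cfsg.Agent.Lib.RelDeg
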