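import Cfsg.Agent.Lib.RelDeg

set_option autoImplicit false

/-!
# Degrees of characters relative to a normal subgroup: common divisors (helper79)
-/

open Cfsg Cfsg.Agent.Lib Cfsg.Agent.Lib.CharBasic Cfsg.Agent.Lib.DefectZero Cfsg.Agent.Lib.Clifford
open Cfsg.Agent.Lib.DetChar Cfsg.Agent.Lib.CliffordCorr

namespace Cfsg.Agent.Lib.RelDeg

universe u

section

variable {K : Type u} [Group K]

theorem nu_lf [Finite K] (q : ℕ) (μ : Lin K) : nu q (lf μ) = μ ^ ex q 1 (Nat.card K) := by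
  rw [nu, charDegree_lf, detHom_lf]

theorem nu_lf_of_isV [Finite K] {r : ℕ} (hr : r.Prime) {μ : Lin K} (h : IsV r μ) :
    nu r (lf μ) = μ := by
  have h1 := ex_modEq hr (Nat.card_pos (α := K)).ne' (d := 1) (by
    intro h; exact hr.one_lt.ne' (Nat.dvd_one.mp h))
  rw [one_mul] at h1
  rw [nu_lf, pow_eq_pow_of_modEq h1 h, pow_one]

theorem not_dvd_ex {q n : ℕ} (hq : q.Prime) (hn : n ≠ 0) (hqn : q ∣ n) : ¬ q ∣ ex q 1 n := by
  intro h
  have h1 := ex_modEq hq hn (d := 1) (by intro h; exact hq.one_lt.ne' (Nat.dvd_one.mp h))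
  rw [one_mul] at h1
  have h2 : q ∣ q ^ n.factorization q :=
    dvd_pow_self q ((hq.factorization_pos_of_dvd hn hqn).ne')
  have h3 : ex q 1 n ≡ 1 [MOD q] := h1.of_dvd h2
  have h4 : (0 : ℕ) ≡ 1 [MOD q] := ((Nat.modEq_zero_iff_dvd).mpr h).symm.trans h3
  exact hq.one_lt.ne' (Nat.dvd_one.mp ((Nat.modEq_iff_dvd' (Nat.zero_le _)).mp h4))

/-- characters of `r`-power order vanish under the exponent of another prime -/
theorem IsV.pow_ex [Finite K] {q r : ℕ} (hq : q.Prime) (hr : r.Prime) (hqr : q ≠ r) {lam : Lin K}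
    (h : IsV r lam) {d : ℕ} (hd : ¬ q ∣ d) : lam ^ ex q d (Nat.card K) = 1 := by
  have h1 : r ^ (Nat.card K).factorization r ∣
      Nat.card K / q ^ (Nat.card K).factorization q := by
    have h2 : r ^ (Nat.card K).factorization r ∣ q ^ (Nat.card K).factorization q *
        (Nat.card K / q ^ (Nat.card K).factorization q) := by
      rw [Nat.ordProj_mul_ordCompl_eq_self]
      exact Nat.ordProj_dvd _ _
    exact (Nat.Coprime.pow _ _ ((Nat.coprime_primes hr hq).mpr hqr.symm)).dvd_of_dvd_mul_left h2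
  obtain ⟨t, ht⟩ := h1.trans (dvd_ex hq (Nat.card_pos (α := K)).ne' hd)
  rw [ht, pow_mul, h, one_pow]

theorem one_lt_gcd {a b c : ℕ} (ha : c ∣ a) (hb : c ∣ b) (hc : c ≠ 1) (ha0 : 0 < a) :
    1 < Nat.gcd a b := by
  have h1 : c ∣ Nat.gcd a b := Nat.dvd_gcd ha hb
  have h2 : 0 < Nat.gcd a b := Nat.gcd_pos_of_pos_left _ ha0
  rcases Nat.lt_or_ge 1 (Nat.gcd a b) with h | h
  · exact h
  · exfalso
    have h3 : Nat.gcd a b = 1 := le_antisymm h h2
    rw [h3, Nat.dvd_one] at h1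
    exact hc h1

end

variable {G : Type u} [Group G] {N : Subgroup G} [hN : N.Normal]

theorem lcj_inv (g : G) (lam : Lin N) : lcj g lam⁻¹ = (lcj g lam)⁻¹ := rfl

/-- (Q) -/
theorem dvd_of_invariant [Fintype G] [Fintype N] (hNG : N ≤ commutator G) {q r : ℕ}
    (hq : q.Prime) (hr : r.Prime) (hqr : q ≠ r) {φ : Lin N} (hinv : ∀ g : G, lcj g φ = φ)
    (hqφ : q ∣ orderOf φ) {lam : Lin N} (hlam : IsV r lam) {ζ : G → ℂ}
    (hζ : IsIrrCharacter G ζ)
    (hover : classInner (fun n : N => ζ n) (lf (lam * φ)) ≠ 0) : q ∣ charDegree ζ := by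
  by_contra hcon
  obtain ⟨H, hNH, hH, k, hk⟩ := exists_syl hq N
  obtain ⟨ξ, hξ, hξN, -, hξo⟩ := exists_below hq hNH hk hζ hcon
  obtain ⟨g, hg⟩ := exists_cj_eq hζ (irr_lf _) hξN hover hξo
  rw [cj_lf, lcj_mul, hinv] at hg
  have h1 := ext_nu hNH hξ.isCharacter q
  have hq1 : ¬ q ∣ 1 := fun h => hq.one_lt.ne' (Nat.dvd_one.mp h)
  rw [hg, nu_lf, mul_pow, (lcj_isV hlam g).pow_ex hq hr hqr hq1, one_mul] at h1
  set e := ex q 1 (Nat.card N) with he
  have hqN : q ∣ Nat.card N := hqφ.trans (orderOf_dvd_of_pow_eq_one (lin_pow_card φ))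
  have h2 : IsV q (φ ^ e) := by
    obtain ⟨t, ht⟩ := dvd_ex hq (Nat.card_pos (α := N)).ne' hq1
    rw [IsV, ← pow_mul, he, ht, mul_right_comm, mul_comm (Nat.card N / _),
      Nat.ordProj_mul_ordCompl_eq_self, pow_mul, lin_pow_card, one_pow]
  have h3 := h1.extend hq le_top hH h2 (fun g _ => by rw [lcj_pow, hinv])
  have h4 := eq_one_of_ext_top hNG rfl h3
  exact not_dvd_ex hq Nat.card_pos.ne' hqN (hqφ.trans (orderOf_dvd_of_pow_eq_one h4))

/-- (C1) -/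
theorem common_factor [Fintype G] [Fintype N] (hNG : N ≤ commutator G) {r : ℕ} (hr : r.Prime)
    {θ : N → ℂ} (hθ : IsIrrCharacter N θ) (hθ1 : θ ≠ fun _ => 1) (hd : ¬ r ∣ charDegree θ)
    (hnu : nu r θ = 1) {lam : Lin N} (hlam : IsV r lam) {χ ζ : G → ℂ}
    (hχ : IsIrrCharacter G χ) (hζ : IsIrrCharacter G ζ)
    (hχθ : classInner (fun n : N => χ n) θ ≠ 0)
    (hζθ : classInner (fun n : N => ζ n) (tw lam θ) ≠ 0) :
    1 < Nat.gcd (charDegree χ) (charDegree ζ) := by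
  have hle := inertia_tw_le hr hθ.isCharacter hd hnu hlam
  have ha := deg_dvd hχ hθ hχθ
  have hb := deg_dvd hζ (irr_tw lam hθ) hζθ
  rw [charDegree_tw] at hb
  have hb' : (inertia N θ).index * charDegree θ ∣ charDegree ζ :=
    (Nat.mul_dvd_mul_right (Subgroup.index_dvd_of_le hle.1) _).trans hb
  by_cases h : (inertia N θ).index * charDegree θ = 1
  · have h1 : (inertia N θ).index = 1 := Nat.dvd_one.mp (Dvd.intro _ h)
    have h2 : charDegree θ = 1 := Nat.dvd_one.mp (Dvd.intro_left _ h)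
    obtain ⟨φ, rfl⟩ := exists_lf_of_degree hθ h2
    have hinv : ∀ g : G, lcj g φ = φ := by
      intro g
      rw [← mem_LI, Subgroup.index_eq_one.mp h1]
      exact Subgroup.mem_top g
    have hφ : φ ≠ 1 := fun h => hθ1 (by rw [h]; rfl)
    obtain ⟨q, hq, hqφ⟩ := Nat.exists_prime_and_dvd (fun h => hφ (orderOf_eq_one_iff.mp h))
    have hqr : q ≠ r := by
      rintro rfl
      rw [nu_lf] at hnu
      exact not_dvd_ex hq Nat.card_pos.ne'
        (hqφ.trans (orderOf_dvd_of_pow_eq_one (lin_pow_card φ)))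
        (hqφ.trans (orderOf_dvd_of_pow_eq_one hnu))
    rw [tw_lf] at hζθ
    have h3 := dvd_of_invariant hNG hq hr hqr hinv hqφ hlam hζ hζθ
    have h4 := dvd_of_invariant hNG hq hr hqr hinv hqφ (isV_one r) hχ (by rw [one_mul]; exact hχθ)
    exact one_lt_gcd h4 h3 hq.one_lt.ne' (charDegree_pos hχ)
  · exact one_lt_gcd ha hb' h (charDegree_pos hχ)

/-- (C2) -/
theorem index_dvd_deg [Fintype G] [Fintype N] {r : ℕ} (hr : r.Prime)
    {θ : N → ℂ} (hθ : IsIrrCharacter N θ) (hd : ¬ r ∣ charDegree θ)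
    (hnu : nu r θ = 1) {lam : Lin N} (hlam : IsV r lam) {ζ : G → ℂ}
    (hζ : IsIrrCharacter G ζ) (hζθ : classInner (fun n : N => ζ n) (tw lam θ) ≠ 0) :
    (inertia N (lf lam)).index ∣ charDegree ζ := by
  have hle := inertia_tw_le hr hθ.isCharacter hd hnu hlam
  exact (Subgroup.index_dvd_of_le hle.2).trans
    ((dvd_mul_right _ _).trans (deg_dvd hζ (irr_tw lam hθ) hζθ))

omit hN in
theorem tw_ne_one [Finite G] {r : ℕ} (hr : r.Prime) {θ : N → ℂ} (hθ : IsIrrCharacter N θ)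
    (hθ1 : θ ≠ fun _ => 1) (hd : ¬ r ∣ charDegree θ) (hnu : nu r θ = 1) {lam : Lin N}
    (hlam : IsV r lam) : tw lam θ ≠ fun _ => 1 := by
  intro h
  have h1 := nu_tw hr hθ.isCharacter hd hlam
  rw [h, ← lf_one, nu_lf, one_pow, hnu, mul_one] at h1
  rw [← h1, tw_one] at h
  exact hθ1 h

/-- existence of the twisted neighbour -/
theorem exists_tw [Fintype G] [Fintype N] (hNG : N ≤ commutator G) {r : ℕ} (hr : r.Prime)
    {θ : N → ℂ} (hθ : IsIrrCharacter N θ) (hθ1 : θ ≠ fun _ => 1) (hd : ¬ r ∣ charDegree θ)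
    (hnu : nu r θ = 1) {lam : Lin N} (hlam : IsV r lam) {χ : G → ℂ}
    (hχ : IsIrrCharacter G χ) (hχθ : classInner (fun n : N => χ n) θ ≠ 0) :
    ∃ ζ : IrrCharacter G, classInner (fun n : N => (ζ : G → ℂ) n) (tw lam θ) ≠ 0 ∧
      charDegree (ζ : G → ℂ) ∈ relCharDegrees N ∧
      1 < Nat.gcd (charDegree χ) (charDegree (ζ : G → ℂ)) ∧
      (inertia N (lf lam)).index ∣ charDegree (ζ : G → ℂ) := by
  obtain ⟨ζ, hζ⟩ := DegTools.exists_over N (irr_tw lam hθ)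
  exact ⟨ζ, hζ, mem_cd (irr_tw lam hθ) hζ (tw_ne_one hr hθ hθ1 hd hnu hlam),
    common_factor hNG hr hθ hθ1 hd hnu hlam hχ ζ.2 hχθ hζ,
    index_dvd_deg hr hθ hd hnu hlam ζ.2 hζ⟩

/-! ### Reachability -/

/-- reachability in the relative common-divisor graph -/
def Rch (N : Subgroup G) (a b : ℕ) : Prop :=
  ∃ (ha : a ∈ relCharDegrees N) (hb : b ∈ relCharDegrees N),
    (commonDivisorGraph.induce (relCharDegrees N)).Reachable ⟨a, ha⟩ ⟨b, hb⟩

omit hN in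
theorem Rch.symm {a b : ℕ} (h : Rch N a b) : Rch N b a := by
  obtain ⟨ha, hb, h⟩ := h
  exact ⟨hb, ha, h.symm⟩

omit hN in
theorem Rch.trans {a b c : ℕ} (h : Rch N a b) (h' : Rch N b c) : Rch N a c := by
  obtain ⟨ha, hb, h⟩ := h
  obtain ⟨hb', hc, h'⟩ := h'
  exact ⟨ha, hc, h.trans h'⟩

omit hN in
theorem rch_of_gcd {a b : ℕ} (ha : a ∈ relCharDegrees N) (hb : b ∈ relCharDegrees N)
    (h : 1 < Nat.gcd a b) : Rch N a b := by
  refine ⟨ha, hb, ?_⟩
  by_cases hab : a = b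
  · subst hab
    exact SimpleGraph.Reachable.refl _
  · apply SimpleGraph.Adj.reachable
    exact ⟨hab, h⟩

omit hN in
theorem pos_of_mem [Finite G] {a : ℕ} (ha : a ∈ relCharDegrees N) : 0 < a := by
  obtain ⟨χ, -, rfl⟩ := ha
  exact charDegree_pos χ.2

/-- the degree of the orbit of a linear character -/
noncomputable def dg (lam : Lin N) : ℕ := (inertia N (lf lam)).index

theorem exists_good [Fintype G] [Fintype N] {r : ℕ} (hr : r.Prime) {H : Subgroup G}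
    (hNH : N ≤ H) {k : ℕ} (hk : (N.subgroupOf H).index = r ^ k) {a : ℕ}
    (ha : a ∈ relCharDegrees N) (hra : ¬ r ∣ a) :
    ∃ (χ : IrrCharacter G) (θ : N → ℂ), charDegree (χ : G → ℂ) = a ∧ IsIrrCharacter N θ ∧
      (θ ≠ fun _ => 1) ∧ classInner (fun n : N => (χ : G → ℂ) n) θ ≠ 0 ∧
      ¬ r ∣ charDegree θ ∧ Ext hNH (nu r θ) ∧ dg (nu r θ) ∣ a := by
  obtain ⟨χ, hχ, rfl⟩ := ha
  obtain ⟨ξ, hξ, hξN, hξd, hξo⟩ := exists_below hr hNH hk χ.2 hra
  refine ⟨χ, resTo N H hNH ξ, rfl, hξN, ne_one_of_over χ.2 hχ hξN hξo, hξo, ?_,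
    ext_nu hNH hξ.isCharacter r, ?_⟩
  · intro h
    apply hξd
    have h1 : charDegree (resTo N H hNH ξ) = charDegree ξ := rfl
    rw [← h1]
    exact h
  · exact (Subgroup.index_dvd_of_le (inertia_le_nu hξN.isCharacter r)).trans
      ((dvd_mul_right _ _).trans (deg_dvd χ.2 hξN hξo))

/-- two extendible characters of `r`-power order -/
theorem key_neighbour [Fintype G] [Fintype N] (hNG : N ≤ commutator G) {r : ℕ} (hr : r.Prime)
    {H : Subgroup G} {hNH : N ≤ H} (hH : ¬ r ∣ H.index) {ν μ : Lin N} (hν : IsV r ν)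
    (hνe : Ext hNH ν) (hν1 : ν ≠ 1) (hμ : IsV r μ) (hμe : Ext hNH μ) (hμ1 : μ ≠ 1) :
    ∃ x ∈ relCharDegrees N, 1 < Nat.gcd (dg ν) x ∧ 1 < Nat.gcd x (dg μ) := by
  obtain ⟨h1, h2, h3⟩ := ext_degree hNG hr hH hν hνe hν1
  obtain ⟨h4, h5, h6⟩ := ext_degree hNG hr hH hμ hμe hμ1
  by_cases hg : 1 < Nat.gcd (dg ν) (dg μ)
  · refine ⟨dg ν, h1, ?_, hg⟩
    rw [Nat.gcd_self]
    have := pos_of_mem h1
    have h7 : dg ν ≠ 1 := h3
    have h8 : 0 < dg ν := this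
    omega
  · have hcop : (dg ν).Coprime (dg μ) := by
      have h7 : 0 < Nat.gcd (dg ν) (dg μ) := Nat.gcd_pos_of_pos_left _ (pos_of_mem h1)
      exact le_antisymm (not_lt.mp hg) h7
    have hne : ν * μ ≠ 1 := by
      intro h
      have h7 : μ = ν⁻¹ := (inv_eq_of_mul_eq_one_right h).symm
      have h8 : inertia N (lf μ) = inertia N (lf ν) := by
        ext g
        rw [mem_LI, mem_LI, h7, lcj_inv, inv_inj]
      have h9 : dg μ = dg ν := by rw [dg, h8]; rfl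
      rw [h9, Nat.coprime_self] at hcop
      exact h3 hcop
    obtain ⟨h7, h8, h9⟩ := ext_degree hNG hr hH (hν.mul hμ) (hνe.mul hμe) hne
    refine ⟨dg (ν * μ), h7, ?_, ?_⟩
    · by_contra hcon
      have hc : (dg (ν * μ)).Coprime (dg ν) := by
        have h10 : 0 < Nat.gcd (dg ν) (dg (ν * μ)) := Nat.gcd_pos_of_pos_left _ (pos_of_mem h1)
        exact Nat.Coprime.symm (le_antisymm (not_lt.mp hcon) h10)
      exact h5 (key hr hν hcop hc h3)
    · by_contra hcon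
      have hc : (dg (μ * ν)).Coprime (dg μ) := by
        have h10 : 0 < Nat.gcd (dg (ν * μ)) (dg μ) := Nat.gcd_pos_of_pos_left _ (pos_of_mem h7)
        rw [mul_comm μ ν]
        exact (le_antisymm (not_lt.mp hcon) h10)
      exact h2 (key hr hμ hcop.symm hc h6)

/-- Case 1 -/
theorem case_one [Fintype G] [Fintype N] (hNG : N ≤ commutator G) {r : ℕ} (hr : r.Prime)
    {H : Subgroup G} (hNH : N ≤ H) (hH : ¬ r ∣ H.index) {k : ℕ}
    (hk : (N.subgroupOf H).index = r ^ k) {lam : Lin N} (hlam : IsV r lam) (hne : lam ≠ 1)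
    (hext : Ext hNH lam) {a : ℕ} (ha : a ∈ relCharDegrees N) (hra : ¬ r ∣ a) :
    Rch N a (dg lam) := by
  obtain ⟨χ, θ, rfl, hθ, hθ1, hχθ, hθd, hθe, hθg⟩ := exists_good hr hNH hk ha hra
  obtain ⟨h1, h2, h3⟩ := ext_degree hNG hr hH hlam hext hne
  by_cases hnu : nu r θ = 1
  · obtain ⟨ζ, h4, h5, h6, h7⟩ := exists_tw hNG hr hθ hθ1 hθd hnu hlam χ.2 hχθ
    exact (rch_of_gcd ha h5 h6).trans (rch_of_gcd h5 h1
      (one_lt_gcd h7 dvd_rfl h3 (pos_of_mem h5)))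
  · obtain ⟨h4, h5, h6⟩ := ext_degree hNG hr hH (isV_nu hr hθd) hθe hnu
    obtain ⟨x, hx, hx1, hx2⟩ := key_neighbour hNG hr hH (isV_nu hr hθd) hθe hnu hlam hext hne
    exact ((rch_of_gcd ha h4 (one_lt_gcd hθg dvd_rfl h6 (pos_of_mem ha))).trans
      (rch_of_gcd h4 hx hx1)).trans (rch_of_gcd hx h1 hx2)

/-- Case 2 -/
theorem case_two [Fintype G] [Fintype N] (hNG : N ≤ commutator G) {r : ℕ} (hr : r.Prime)
    {H : Subgroup G} (hNH : N ≤ H) {k : ℕ}
    (hk : (N.subgroupOf H).index = r ^ k) {lam : Lin N} (hlam : IsV r lam) (hne : lam ≠ 1)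
    (hno : ∀ μ : Lin N, IsV r μ → Ext hNH μ → μ = 1) {a : ℕ} (ha : a ∈ relCharDegrees N)
    (hra : ¬ r ∣ a) : ∃ x ∈ relCharDegrees N, 1 < Nat.gcd a x ∧ r ∣ x := by
  obtain ⟨χ, θ, rfl, hθ, hθ1, hχθ, hθd, hθe, hθg⟩ := exists_good hr hNH hk ha hra
  have hnu := hno _ (isV_nu hr hθd) hθe
  obtain ⟨ζ, h4, h5, h6, h7⟩ := exists_tw hNG hr hθ hθ1 hθd hnu hlam χ.2 hχθ
  refine ⟨_, h5, h6, ?_⟩
  by_contra hcon
  obtain ⟨ξ, hξ, hξN, hξd, hξo⟩ := exists_below hr hNH hk ζ.2 hcon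
  obtain ⟨g, hg⟩ := exists_cj_eq ζ.2 (irr_tw lam hθ) hξN h4 hξo
  have h8 := hno _ (isV_nu hr hξd) (ext_nu hNH hξ.isCharacter r)
  rw [hg, nu_cj (irr_tw lam hθ).isCharacter, nu_tw hr hθ.isCharacter hθd hlam, hnu, mul_one] at h8
  apply hne
  have h9 : lcj g⁻¹ (lcj g lam) = 1 := by rw [h8, lcj_one']
  rw [lcj_lcj, mul_inv_cancel, one_lcj] at h9
  exact h9

end Cfsg.Agent.Lib.RelDeg
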