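import Cfsg.Agent.Lib.RelDeg2

set_option autoImplicit false

/-!
# Components of the relative common-divisor graph (helper79)
-/

open Cfsg Cfsg.Agent.Lib Cfsg.Agent.Lib.CharBasic Cfsg.Agent.Lib.DefectZero Cfsg.Agent.Lib.Clifford
open Cfsg.Agent.Lib.DetChar Cfsg.Agent.Lib.CliffordCorr

namespace Cfsg.Agent.Lib.RelDeg

universe u

variable {G : Type u} [Group G] {N : Subgroup G}

theorem subgroupOf_commutator (N : Subgroup G) : ⁅N, N⁆.subgroupOf N = commutator N := by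
  rw [← Subgroup.map_subtype_commutator, Subgroup.subgroupOf,
    Subgroup.comap_map_eq_self_of_injective N.subtype_injective]

theorem exists_V [Finite G] {r : ℕ} (hr : r.Prime) (hrm : r ∣ ⁅N, N⁆.relIndex N) :
    ∃ lam : Lin N, IsV r lam ∧ lam ≠ 1 := by
  have := Fact.mk hr
  have h1 : Nat.card (Lin N) = ⁅N, N⁆.relIndex N := by
    have h2 := card_hom_units (G := N)
    rw [Subgroup.relIndex, subgroupOf_commutator]
    exact h2
  rw [← h1] at hrm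
  have h0 : Nat.card (Lin N) ≠ 0 := by
    rw [h1, Subgroup.relIndex]
    exact Subgroup.index_ne_zero_of_finite
  have : Finite (Lin N) := Nat.finite_of_card_ne_zero h0
  obtain ⟨x, hx⟩ := exists_prime_orderOf_dvd_card' r hrm
  refine ⟨x, isV_of_pow hr (k := 1) ?_, ?_⟩
  · rw [pow_one, ← hx]
    exact pow_orderOf_eq_one x
  · rintro rfl
    rw [orderOf_one] at hx
    exact hr.one_lt.ne hx

variable [hN : N.Normal]

theorem disc [Fintype G] [Fintype N] (hNG : N ≤ commutator G) {r : ℕ} (hr : r.Prime)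
    (hrm : r ∣ ⁅N, N⁆.relIndex N) {a b : ℕ} (ha : a ∈ relCharDegrees N)
    (hb : b ∈ relCharDegrees N) (hab : ¬ Rch N a b) :
    ¬ (r ∣ a ∧ r ∣ b) ∧ ¬ (¬ r ∣ a ∧ ¬ r ∣ b) ∧
      ∃ lam : Lin N, IsV r lam ∧ lam ≠ 1 ∧ dg lam ≠ 1 ∧ dg lam ∈ relCharDegrees N ∧
        ¬ r ∣ dg lam ∧ ∀ c ∈ relCharDegrees N, ¬ r ∣ c → Rch N c (dg lam) := by
  have h1 : ∀ {a b : ℕ}, a ∈ relCharDegrees N → b ∈ relCharDegrees N → r ∣ a → r ∣ b →
      Rch N a b := by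
    intro a b ha hb hra hrb
    exact rch_of_gcd ha hb (one_lt_gcd hra hrb hr.one_lt.ne' (pos_of_mem ha))
  obtain ⟨H, hNH, hH, k, hk⟩ := exists_syl hr N
  obtain ⟨lam, hlam, hne⟩ := exists_V hr hrm
  have hcase : ∃ μ : Lin N, IsV r μ ∧ Ext hNH μ ∧ μ ≠ 1 := by
    by_contra hno
    push Not at hno
    apply hab
    have h2 : ∀ c ∈ relCharDegrees N, ∃ x ∈ relCharDegrees N, Rch N c x ∧ r ∣ x := by
      intro c hc
      by_cases hrc : r ∣ c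
      · exact ⟨c, hc, ⟨hc, hc, SimpleGraph.Reachable.refl _⟩, hrc⟩
      · obtain ⟨x, hx, hx1, hx2⟩ := case_two hNG hr hNH hk hlam hne hno hc hrc
        exact ⟨x, hx, rch_of_gcd hc hx hx1, hx2⟩
    obtain ⟨x, hx, hx1, hx2⟩ := h2 a ha
    obtain ⟨y, hy, hy1, hy2⟩ := h2 b hb
    exact (hx1.trans (h1 hx hy hx2 hy2)).trans hy1.symm
  obtain ⟨μ, hμ, hμe, hμ1⟩ := hcase
  obtain ⟨h4, h5, h6⟩ := ext_degree hNG hr hH hμ hμe hμ1
  have h7 : ∀ c ∈ relCharDegrees N, ¬ r ∣ c → Rch N c (dg μ) :=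
    fun c hc hrc => case_one hNG hr hNH hH hk hμ hμ1 hμe hc hrc
  refine ⟨fun h => hab (h1 ha hb h.1 h.2), fun h => hab ((h7 a ha h.1).trans (h7 b hb h.2).symm),
    μ, hμ, hμ1, h6, h4, h5, h7⟩

/-- characters of coprime orders -/
theorem exists_two [Fintype G] [Fintype N] {r s : ℕ} (hr : r.Prime) (hs : s.Prime) (hrs : r ≠ s)
    {ν μ : Lin N} (hν : IsV r ν) (hμ : IsV s μ) (hμ1 : μ ≠ 1) :
    ∃ x ∈ relCharDegrees N, dg ν ∣ x ∧ dg μ ∣ x := by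
  have hr1 : ¬ r ∣ 1 := fun h => hr.one_lt.ne' (Nat.dvd_one.mp h)
  have hd : ¬ r ∣ charDegree (lf μ) := by rw [charDegree_lf]; exact hr1
  have hnu : nu r (lf μ) = 1 := by rw [nu_lf]; exact hμ.pow_ex hr hs hrs hr1
  have hne : lf μ ≠ fun _ => 1 := fun h => hμ1 (lf_injective h)
  obtain ⟨ζ, hζ⟩ := DegTools.exists_over N (irr_tw ν (irr_lf μ))
  refine ⟨_, mem_cd (irr_tw ν (irr_lf μ)) hζ (tw_ne_one hr (irr_lf μ) hne hd hnu hν),
    index_dvd_deg hr (irr_lf μ) hd hnu hν ζ.2 hζ, ?_⟩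
  have hle := inertia_tw_le hr (irr_lf μ).isCharacter hd hnu hν
  exact (Subgroup.index_dvd_of_le hle.1).trans
    ((dvd_mul_right _ _).trans (deg_dvd ζ.2 (irr_tw ν (irr_lf μ)) hζ))

/-- no two primes behave differently -/
theorem disc_two [Fintype G] [Fintype N] (hNG : N ≤ commutator G) {r s : ℕ} (hr : r.Prime)
    (hrm : r ∣ ⁅N, N⁆.relIndex N) (hs : s.Prime) (hsm : s ∣ ⁅N, N⁆.relIndex N) {a b : ℕ}
    (ha : a ∈ relCharDegrees N) (hb : b ∈ relCharDegrees N) (hab : ¬ Rch N a b)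
    (hra : r ∣ a) (hsa : ¬ s ∣ a) : False := by
  obtain ⟨h1, -, ν, hν, hν1, hνd, hνm, hνr, hν2⟩ := disc hNG hr hrm ha hb hab
  obtain ⟨-, -, μ, hμ, hμ1, hμd, hμm, hμr, hμ2⟩ := disc hNG hs hsm ha hb hab
  have hrs : r ≠ s := by rintro rfl; exact hsa hra
  have hrb : ¬ r ∣ b := fun h => h1 ⟨hra, h⟩
  obtain ⟨x, hx, hx1, hx2⟩ := exists_two hr hs hrs hν hμ hμ1
  apply hab
  have h3 := hμ2 a ha hsa
  have h4 := hν2 b hb hrb
  have h5 := rch_of_gcd hμm hx (one_lt_gcd dvd_rfl hx2 hμd (pos_of_mem hμm))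
  have h6 := rch_of_gcd hx hνm (one_lt_gcd hx1 dvd_rfl hνd (pos_of_mem hx))
  exact ((h3.trans h5).trans h6).trans h4.symm

/-- The arithmetic of a disconnected relative graph. -/
theorem disc_shape [Fintype G] [Fintype N] (hNG : N ≤ commutator G) {a b : ℕ}
    (ha : a ∈ relCharDegrees N) (hb : b ∈ relCharDegrees N) (hab : ¬ Rch N a b) :
    (Nat.Coprime a (⁅N, N⁆.relIndex N) ∧ ∀ r : ℕ, r.Prime → r ∣ ⁅N, N⁆.relIndex N → r ∣ b) ∨
      (Nat.Coprime b (⁅N, N⁆.relIndex N) ∧ ∀ r : ℕ, r.Prime → r ∣ ⁅N, N⁆.relIndex N → r ∣ a) := by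
  have hba : ¬ Rch N b a := fun h => hab h.symm
  by_cases h : ∃ r : ℕ, r.Prime ∧ r ∣ ⁅N, N⁆.relIndex N ∧ r ∣ a
  · obtain ⟨r, hr, hrm, hra⟩ := h
    right
    have h1 : ∀ s : ℕ, s.Prime → s ∣ ⁅N, N⁆.relIndex N → s ∣ a := by
      intro s hs hsm
      by_contra hsa
      exact disc_two hNG hr hrm hs hsm ha hb hab hra hsa
    refine ⟨?_, h1⟩
    by_contra hcop
    obtain ⟨s, hs, hsb, hsm⟩ := Nat.Prime.not_coprime_iff_dvd.mp hcop
    exact (disc hNG hs hsm ha hb hab).1 ⟨h1 s hs hsm, hsb⟩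
  · push Not at h
    left
    refine ⟨?_, ?_⟩
    · by_contra hcop
      obtain ⟨s, hs, hsa, hsm⟩ := Nat.Prime.not_coprime_iff_dvd.mp hcop
      exact h s hs hsm hsa
    · intro s hs hsm
      by_contra hsb
      exact (disc hNG hs hsm ha hb hab).2.1 ⟨h s hs hsm, hsb⟩

omit hN in
theorem exists_prime_relIndex [Finite G] (hN' : ⁅N, N⁆ < N) :
    ∃ r : ℕ, r.Prime ∧ r ∣ ⁅N, N⁆.relIndex N := by
  apply Nat.exists_prime_and_dvd
  intro h
  exact hN'.not_ge (Subgroup.relIndex_eq_one.mp h)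

end Cfsg.Agent.Lib.RelDeg
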