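import Cfsg.Agent.Lib.RelDeg3

set_option autoImplicit false

/-!
# The shape of disconnected relative common-divisor graphs (helper79)
-/

open Cfsg Cfsg.Agent.Lib Cfsg.Agent.Lib.CharBasic Cfsg.Agent.Lib.DefectZero Cfsg.Agent.Lib.Clifford
open Cfsg.Agent.Lib.DetChar Cfsg.Agent.Lib.CliffordCorr

namespace Cfsg.Agent.Lib.RelDeg

universe u

open scoped commutatorElement

section

variable {K : Type u} [Group K]

/-- restriction to a normal subgroup of coprime index -/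
theorem res_irr_of_coprime [Finite K] (D : Subgroup K) [D.Normal] {χ : K → ℂ}
    (hχ : IsIrrCharacter K χ) (h : (charDegree χ).Coprime D.index) :
    IsIrrCharacter D (fun n : D => χ n) := by
  have := Fintype.ofFinite K
  have := Fintype.ofFinite D
  have h0 : (fun n : D => χ n) ≠ 0 := by
    intro h1
    have := congrFun h1 1
    simp only [OneMemClass.coe_one, Pi.zero_apply] at this
    exact hχ.one_ne_zero this
  obtain ⟨θ, hθ⟩ := exists_constituent (hχ.isCharacter.restrict D) h0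
  obtain ⟨f, hf, hfi⟩ := DegRatio.degree_ratio hχ θ.2 hθ (charDegree_eq hχ.isCharacter).symm
    (charDegree_eq θ.2.isCharacter).symm
  have hf1 : f = 1 := Nat.eq_one_of_dvd_coprimes h (hf ▸ dvd_mul_right _ _) hfi
  rw [hf1, one_mul] at hf
  rw [NormalCompl.res_eq_of_degree D hχ.isCharacter θ.2 hθ (by
    rw [← charDegree_eq hχ.isCharacter, ← charDegree_eq θ.2.isCharacter, hf])]
  exact θ.2

/-- linear characters are trivial on the commutator subgroup -/
theorem comap_commutator (lam : Lin K) : lam.comap (commutator K).subtype = 1 := by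
  apply Lin.ext'
  intro n
  have h : commutator K ≤ lam.val.ker := by
    rw [commutator_def, Subgroup.commutator_le]
    intro a _ b _
    rw [MonoidHom.mem_ker, map_commutatorElement, commutatorElement_eq_one_iff_mul_comm]
    exact mul_comm _ _
  exact MonoidHom.mem_ker.mp (h n.2)

theorem exists_V' [Finite K] {r : ℕ} (hr : r.Prime) (hrm : r ∣ (commutator K).index) :
    ∃ lam : Lin K, IsV r lam ∧ lam ≠ 1 := by
  have := Fact.mk hr
  have h1 : Nat.card (Lin K) = (commutator K).index := card_hom_units (G := K)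
  rw [← h1] at hrm
  have h0 : Nat.card (Lin K) ≠ 0 := by
    rw [h1]
    exact Subgroup.index_ne_zero_of_finite
  have : Finite (Lin K) := Nat.finite_of_card_ne_zero h0
  obtain ⟨x, hx⟩ := exists_prime_orderOf_dvd_card' r hrm
  refine ⟨x, isV_of_pow hr (k := 1) ?_, ?_⟩
  · rw [pow_one, ← hx]
    exact pow_orderOf_eq_one x
  · rintro rfl
    rw [orderOf_one] at hx
    exact hr.one_lt.ne hx

/-- a character over a twist of the restriction to the derived subgroup -/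
theorem exists_bad [Fintype K] {θ : K → ℂ} (hθ : IsIrrCharacter K θ)
    (hcop : (charDegree θ).Coprime (commutator K).index) {s : ℕ} (hs : s.Prime)
    (hsd : s ∣ (commutator (commutator K)).index) (hsθ : ¬ s ∣ charDegree θ) :
    ∃ ω : IrrCharacter K, charDegree θ ∣ charDegree (ω : K → ℂ) ∧
      ¬ (charDegree (ω : K → ℂ)).Coprime (commutator K).index := by
  classical
  obtain ⟨τ, hτ, hτ1⟩ := exists_V' hs hsd
  have hθ' := res_irr_of_coprime (commutator K) hθ hcop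
  obtain ⟨ω, hω⟩ := DegTools.exists_over (commutator K) (irr_tw τ hθ')
  refine ⟨ω, ?_, ?_⟩
  · have h1 := DegTools.charDegree_dvd_of_constituent (commutator K) ω.2 (irr_tw τ hθ') hω
    rw [charDegree_tw] at h1
    exact h1
  · intro hc
    have hω' := res_irr_of_coprime (commutator K) ω.2 hc
    have h1 : (fun n : commutator K => (ω : K → ℂ) n) = tw τ (fun n : commutator K => θ n) := by
      by_contra hne
      exact hω (hω'.classInner_eq_zero (irr_tw τ hθ') hne)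
    have h2 : detHom (fun n : commutator K => (ω : K → ℂ) n) = 1 := by
      have h3 := detHom_comp ω.2.isCharacter (commutator K).subtype
      rw [comap_commutator] at h3
      exact h3
    have h3 : detHom (fun n : commutator K => θ n) = 1 := by
      have h3 := detHom_comp hθ.isCharacter (commutator K).subtype
      rw [comap_commutator] at h3
      exact h3
    rw [h1, detHom_tw hθ'.isCharacter, h3, mul_one] at h2
    have h4 : charDegree (fun n : commutator K => θ n) = charDegree θ := rfl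
    rw [h4] at h2
    apply hτ1
    rw [← orderOf_eq_one_iff]
    exact Nat.eq_one_of_dvd_coprimes
      (Nat.Coprime.pow_right _ ((Nat.Prime.coprime_iff_not_dvd hs).mpr hsθ).symm)
      (orderOf_dvd_of_pow_eq_one h2) (orderOf_dvd_of_pow_eq_one hτ)

end

variable {G : Type u} [Group G] {N : Subgroup G} [hN : N.Normal]

omit hN in
theorem rch_iff {b c : ↥(relCharDegrees N)} :
    Rch N b c ↔ (commonDivisorGraph.induce (relCharDegrees N)).Reachable b c :=
  ⟨fun ⟨_, _, h⟩ => h, fun h => ⟨b.2, c.2, h⟩⟩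

/-- the constituent for a given character -/
theorem exists_good' [Fintype G] [Fintype N] {r : ℕ} (hr : r.Prime) {H : Subgroup G}
    (hNH : N ≤ H) {k : ℕ} (hk : (N.subgroupOf H).index = r ^ k) (χ : IrrCharacter G)
    (hra : ¬ r ∣ charDegree (χ : G → ℂ)) :
    ∃ θ : N → ℂ, IsIrrCharacter N θ ∧ classInner (fun n : N => (χ : G → ℂ) n) θ ≠ 0 ∧
      ¬ r ∣ charDegree θ ∧ Ext hNH (nu r θ) ∧ dg (nu r θ) ∣ charDegree (χ : G → ℂ) := by
  obtain ⟨ξ, hξ, hξN, hξd, hξo⟩ := exists_below hr hNH hk χ.2 hra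
  refine ⟨resTo N H hNH ξ, hξN, hξo, hξd, ext_nu hNH hξ.isCharacter r, ?_⟩
  exact (Subgroup.index_dvd_of_le (inertia_le_nu hξN.isCharacter r)).trans
    ((dvd_mul_right _ _).trans (deg_dvd χ.2 hξN hξo))

/-- The two types of degrees prime to `|N : N'|`. -/
theorem types [Fintype G] [Fintype N] (H : ∀ r : ℕ, r.Prime → Subgroup G)
    (hNH : ∀ (r : ℕ) (hr : r.Prime), N ≤ H r hr)
    (k : ∀ r : ℕ, r.Prime → ℕ)
    (hk : ∀ (r : ℕ) (hr : r.Prime), (N.subgroupOf (H r hr)).index = r ^ k r hr)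
    {b : ℕ} (hb : b ∈ relCharDegrees N) {m : ℕ} (hbm : ∀ r : ℕ, r.Prime → r ∣ m → ¬ r ∣ b) :
    (∃ (r : ℕ) (hr : r.Prime) (ν : Lin N), r ∣ m ∧ IsV r ν ∧ ν ≠ 1 ∧ Ext (hNH r hr) ν ∧
      dg ν ∣ b) ∨
    (∃ (χ : IrrCharacter G) (θ : N → ℂ), charDegree (χ : G → ℂ) = b ∧ IsIrrCharacter N θ ∧
      (θ ≠ fun _ => 1) ∧ classInner (fun n : N => (χ : G → ℂ) n) θ ≠ 0 ∧
      ∀ r : ℕ, r.Prime → r ∣ m → ¬ r ∣ charDegree θ ∧ nu r θ = 1) := by
  obtain ⟨χ, hχ, rfl⟩ := hb
  by_cases h : ∃ (r : ℕ) (hr : r.Prime) (ν : Lin N), r ∣ m ∧ IsV r ν ∧ ν ≠ 1 ∧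
      Ext (hNH r hr) ν ∧ dg ν ∣ charDegree (χ : G → ℂ)
  · exact Or.inl h
  · right
    have h0 : (fun n : N => (χ : G → ℂ) n) ≠ 0 := by
      intro h1
      have := congrFun h1 1
      simp only [OneMemClass.coe_one, Pi.zero_apply] at this
      exact χ.2.one_ne_zero this
    obtain ⟨θ, hθ⟩ := exists_constituent (χ.2.isCharacter.restrict N) h0
    refine ⟨χ, θ, rfl, θ.2, ne_one_of_over χ.2 hχ θ.2 hθ, hθ, ?_⟩
    intro r hr hrm
    obtain ⟨θ', h1, h2, h3, h4, h5⟩ := exists_good' hr (hNH r hr) (hk r hr) χ (hbm r hr hrm)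
    obtain ⟨g, hg⟩ := exists_cj_eq χ.2 h1 θ.2 h2 hθ
    rw [hg, charDegree_cj, nu_cj h1.isCharacter]
    refine ⟨h3, ?_⟩
    by_cases h6 : nu r θ' = 1
    · rw [h6, lcj_one']
    · exact absurd ⟨r, hr, nu r θ', hrm, isV_nu hr h3, h6, h4, h5⟩ h

omit hN in
/-- a character of the second type is not linear -/
theorem not_linear [Finite G] {θ : N → ℂ} (hθ : IsIrrCharacter N θ) (hθ1 : θ ≠ fun _ => 1)
    (h : ∀ r : ℕ, r.Prime → r ∣ ⁅N, N⁆.relIndex N → ¬ r ∣ charDegree θ ∧ nu r θ = 1) :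
    charDegree θ ≠ 1 := by
  intro h1
  obtain ⟨φ, rfl⟩ := exists_lf_of_degree hθ h1
  have hφ : φ ≠ 1 := fun h => hθ1 (by rw [h]; rfl)
  obtain ⟨q, hq, hqφ⟩ := Nat.exists_prime_and_dvd (fun h => hφ (orderOf_eq_one_iff.mp h))
  have h2 : Nat.card (Lin N) = ⁅N, N⁆.relIndex N := by
    have h2 := card_hom_units (G := N)
    rw [Subgroup.relIndex, subgroupOf_commutator]
    exact h2
  have hqm : q ∣ ⁅N, N⁆.relIndex N := by
    rw [← h2]
    exact hqφ.trans (orderOf_dvd_natCard φ)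
  have h3 := (h q hq hqm).2
  rw [nu_lf] at h3
  exact not_dvd_ex hq Nat.card_pos.ne'
    (hqφ.trans (orderOf_dvd_of_pow_eq_one (lin_pow_card φ)))
    (hqφ.trans (orderOf_dvd_of_pow_eq_one h3))

omit hN in
/-- the derived subgroup of `N` is not perfect -/
theorem exists_s [Finite G] [Group.IsSolvable N] {θ : N → ℂ} (hθ : IsIrrCharacter N θ)
    (hd : charDegree θ ≠ 1) : (commutator (commutator N)).index ≠ 1 := by
  intro h
  rw [Subgroup.index_eq_one] at h
  have h1 : Subsingleton (commutator N) := by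
    by_contra h2
    rw [not_subsingleton_iff_nontrivial] at h2
    exact (Group.IsSolvable.commutator_lt_top_of_nontrivial (commutator N)).ne h
  apply hd
  have h2 : ∀ a b : N, a * b = b * a := by
    intro a b
    rw [← commutatorElement_eq_one_iff_mul_comm]
    have h3 : ⁅a, b⁆ ∈ commutator N := Subgroup.commutator_mem_commutator (Subgroup.mem_top _)
      (Subgroup.mem_top _)
    exact congrArg Subtype.val (Subsingleton.elim (⟨_, h3⟩ : commutator N) 1)
  have h3 := hθ.one_eq_one_of_comm h2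
  rw [← charDegree_eq hθ.isCharacter] at h3
  exact_mod_cast h3

/-- The second type: a fixed prime divides the degree. -/
theorem type_two_dvd [Fintype G] [Fintype N] {a b : ℕ}
    (ha : a ∈ relCharDegrees N) (ham : ∀ r : ℕ, r.Prime → r ∣ ⁅N, N⁆.relIndex N → r ∣ a)
    (hab : ¬ Rch N a b) {χ : IrrCharacter G} {θ : N → ℂ}
    (hb : b ∈ relCharDegrees N)
    (hχb : charDegree (χ : G → ℂ) = b) (hθ : IsIrrCharacter N θ) (hθ1 : θ ≠ fun _ => 1)
    (hχθ : classInner (fun n : N => (χ : G → ℂ) n) θ ≠ 0)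
    (hnu : ∀ r : ℕ, r.Prime → r ∣ ⁅N, N⁆.relIndex N → ¬ r ∣ charDegree θ ∧ nu r θ = 1)
    {s : ℕ} (hs : s.Prime) (hsd : s ∣ (commutator (commutator N)).index) : s ∣ b := by
  have hdv : charDegree θ ∣ b := by
    rw [← hχb]
    exact DegTools.charDegree_dvd_of_constituent N χ.2 hθ hχθ
  refine dvd_trans ?_ hdv
  by_contra hcon
  have hne := not_linear hθ hθ1 hnu
  have hm : ⁅N, N⁆.relIndex N = (commutator N).index := by
    rw [Subgroup.relIndex, subgroupOf_commutator]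
  have hcop : (charDegree θ).Coprime (commutator N).index := by
    by_contra hc
    obtain ⟨r, hr, hr1, hr2⟩ := Nat.Prime.not_coprime_iff_dvd.mp hc
    rw [← hm] at hr2
    exact (hnu r hr hr2).1 hr1
  obtain ⟨ω, hω1, hω2⟩ := exists_bad hθ hcop hs hsd hcon
  have hω3 : (ω : N → ℂ) ≠ fun _ => 1 := by
    intro h
    rw [h] at hω1
    have h1 : charDegree (fun _ : N => (1 : ℂ)) = 1 := by simp [charDegree]
    rw [h1] at hω1
    exact hne (Nat.dvd_one.mp hω1)
  obtain ⟨ζ, hζ⟩ := DegTools.exists_over N ω.2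
  have h1 := mem_cd ω.2 hζ hω3
  have h2 := DegTools.charDegree_dvd_of_constituent N ζ.2 ω.2 hζ
  obtain ⟨r, hr, hr1, hr2⟩ := Nat.Prime.not_coprime_iff_dvd.mp hω2
  rw [← hm] at hr2
  apply hab
  have h3 := rch_of_gcd ha h1 (one_lt_gcd (ham r hr hr2) (hr1.trans h2) hr.one_lt.ne' (pos_of_mem ha))
  have h4 := rch_of_gcd h1 hb (one_lt_gcd (hω1.trans h2) hdv hne (pos_of_mem h1))
  exact h3.trans h4

/-- Degrees outside the component of `a`: common neighbours. -/
theorem common_neighbour [Fintype G] [Fintype N] [Group.IsSolvable N] (hNG : N ≤ commutator G)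
    {a b c : ℕ} (ha : a ∈ relCharDegrees N)
    (ham : ∀ r : ℕ, r.Prime → r ∣ ⁅N, N⁆.relIndex N → r ∣ a)
    (hb : b ∈ relCharDegrees N) (hab : ¬ Rch N a b)
    (hc : c ∈ relCharDegrees N) (hac : ¬ Rch N a c) :
    ∃ x ∈ relCharDegrees N, 1 < Nat.gcd b x ∧ 1 < Nat.gcd x c := by
  choose H hNH hHi k hk using fun (r : ℕ) (hr : r.Prime) => exists_syl hr N
  have hbm : ∀ r : ℕ, r.Prime → r ∣ ⁅N, N⁆.relIndex N → ¬ r ∣ b :=
    fun r hr hrm h => (disc hNG hr hrm ha hb hab).1 ⟨ham r hr hrm, h⟩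
  have hcm : ∀ r : ℕ, r.Prime → r ∣ ⁅N, N⁆.relIndex N → ¬ r ∣ c :=
    fun r hr hrm h => (disc hNG hr hrm ha hc hac).1 ⟨ham r hr hrm, h⟩
  -- first type versus second type
  have h12 : ∀ {b c : ℕ}, b ∈ relCharDegrees N → c ∈ relCharDegrees N →
      (∃ (r : ℕ) (hr : r.Prime) (ν : Lin N), r ∣ ⁅N, N⁆.relIndex N ∧ IsV r ν ∧ ν ≠ 1 ∧
        Ext (hNH r hr) ν ∧ dg ν ∣ b) →
      (∃ (χ : IrrCharacter G) (θ : N → ℂ), charDegree (χ : G → ℂ) = c ∧ IsIrrCharacter N θ ∧
        (θ ≠ fun _ => 1) ∧ classInner (fun n : N => (χ : G → ℂ) n) θ ≠ 0 ∧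
        ∀ r : ℕ, r.Prime → r ∣ ⁅N, N⁆.relIndex N → ¬ r ∣ charDegree θ ∧ nu r θ = 1) →
      ∃ x ∈ relCharDegrees N, 1 < Nat.gcd b x ∧ 1 < Nat.gcd x c := by
    rintro b c hb hc ⟨r, hr, ν, hrm, hν, hν1, hνe, hνb⟩ ⟨χ, θ, hχ, hθ, hθ1, hχθ, hnu⟩
    obtain ⟨-, -, h3⟩ := ext_degree hNG hr (hHi r hr) hν hνe hν1
    obtain ⟨ζ, h4, h5, h6, h7⟩ := exists_tw hNG hr hθ hθ1 (hnu r hr hrm).1 (hnu r hr hrm).2 hν
      χ.2 hχθ
    rw [hχ] at h6
    exact ⟨_, h5, one_lt_gcd hνb h7 h3 (pos_of_mem hb), by rw [Nat.gcd_comm]; exact h6⟩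
  rcases types H hNH k hk hb hbm with hb1 | hb2
  · rcases types H hNH k hk hc hcm with hc1 | hc2
    · obtain ⟨r, hr, ν, hrm, hν, hν1, hνe, hνb⟩ := hb1
      obtain ⟨s, hs, μ, hsm, hμ, hμ1, hμe, hμc⟩ := hc1
      obtain ⟨-, -, h3⟩ := ext_degree hNG hr (hHi r hr) hν hνe hν1
      obtain ⟨-, -, h6⟩ := ext_degree hNG hs (hHi s hs) hμ hμe hμ1
      by_cases hrs : r = s
      · subst hrs
        obtain ⟨x, hx, hx1, hx2⟩ := key_neighbour hNG hr (hHi r hr) hν hνe hν1 hμ hμe hμ1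
        refine ⟨x, hx, ?_, ?_⟩
        · exact lt_of_lt_of_le hx1 (Nat.le_of_dvd (Nat.gcd_pos_of_pos_left _ (pos_of_mem hb))
            (Nat.gcd_dvd_gcd_of_dvd_left _ hνb))
        · exact lt_of_lt_of_le hx2 (Nat.le_of_dvd (Nat.gcd_pos_of_pos_left _ (pos_of_mem hx))
            (Nat.gcd_dvd_gcd_of_dvd_right _ hμc))
      · obtain ⟨x, hx, hx1, hx2⟩ := exists_two hr hs hrs hν hμ hμ1
        exact ⟨x, hx, one_lt_gcd hνb hx1 h3 (pos_of_mem hb), one_lt_gcd hx2 hμc h6 (pos_of_mem hx)⟩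
    · exact h12 hb hc hb1 hc2
  · rcases types H hNH k hk hc hcm with hc1 | hc2
    · obtain ⟨x, hx, hx1, hx2⟩ := h12 hc hb hc1 hb2
      exact ⟨x, hx, by rw [Nat.gcd_comm]; exact hx2, by rw [Nat.gcd_comm]; exact hx1⟩
    · obtain ⟨χ, θ, hχ, hθ, hθ1, hχθ, hnu⟩ := hb2
      obtain ⟨χ', θ', hχ', hθ', hθ1', hχθ', hnu'⟩ := hc2
      have hne := not_linear hθ hθ1 hnu
      obtain ⟨s, hs, hsd⟩ := Nat.exists_prime_and_dvd (exists_s hθ hne)
      have h1 := type_two_dvd ha ham hab hb hχ hθ hθ1 hχθ hnu hs hsd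
      have h2 := type_two_dvd ha ham hac hc hχ' hθ' hθ1' hχθ' hnu' hs hsd
      exact ⟨b, hb, one_lt_gcd h1 h1 hs.one_lt.ne' (pos_of_mem hb),
        one_lt_gcd h1 h2 hs.one_lt.ne' (pos_of_mem hb)⟩

end Cfsg.Agent.Lib.RelDeg
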