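import Mathlib
import Cfsg.Agent.Lib.H32PGroup

/-!
# Sylow 2-subgroups of Rudvalis type, I: general facts (helper80)
-/

set_option autoImplicit false

open Subgroup
open scoped commutatorElement

namespace Cfsg.Agent.Lib.RudA

variable {T : Type*} [Group T]

theorem mem_ucs_succ {n : ℕ} {x : T} :
    x ∈ Subgroup.upperCentralSeries T (n + 1) ↔ ∀ g, g * x * g⁻¹ * x⁻¹ ∈ Subgroup.upperCentralSeries T n := by
  rw [Subgroup.mem_upperCentralSeries_succ_iff]
  simp only [commutatorElement_def]
  constructor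
  · intro h g
    have := inv_mem (h g)
    have h2 : (x * g * x⁻¹ * g⁻¹)⁻¹ = g * x * g⁻¹ * x⁻¹ := by group
    rwa [h2] at this
  · intro h g
    have := inv_mem (h g)
    have h2 : (g * x * g⁻¹ * x⁻¹)⁻¹ = x * g * x⁻¹ * g⁻¹ := by group
    rwa [h2] at this

/-- a normal subgroup not contained in a normal subgroup `F` has an element outside `F` central mod `F` -/
theorem exists_central_mod [Finite T] {p : ℕ} [Fact p.Prime] (hT : IsPGroup p T) {F K : Subgroup T} (hF : F.Normal)
    (hK : K.Normal) (hne : ¬ K ≤ F) : ∃ w ∈ K, w ∉ F ∧ ∀ g, g * w * g⁻¹ * w⁻¹ ∈ K ⊓ F := by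
  have hKm : (K.map (QuotientGroup.mk' F)).Normal := hK.map _ (QuotientGroup.mk'_surjective F)
  have hne' : K.map (QuotientGroup.mk' F) ≠ ⊥ := by
    intro h
    apply hne
    intro k hk
    have : QuotientGroup.mk' F k ∈ K.map (QuotientGroup.mk' F) := ⟨k, hk, rfl⟩
    rw [h, mem_bot] at this
    exact (QuotientGroup.eq_one_iff k).1 this
  obtain ⟨x, hx, hx1, hxc⟩ := Lib.H32PGroup.exists_mem_center_of_normal (hT.to_quotient F) _ hne'
  obtain ⟨w, hw, rfl⟩ := hx
  refine ⟨w, hw, fun h => hx1 ((QuotientGroup.eq_one_iff w).2 h), fun g => ⟨?_, ?_⟩⟩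
  · exact K.mul_mem (hK.conj_mem w hw g) (K.inv_mem hw)
  · show g * w * g⁻¹ * w⁻¹ ∈ F
    rw [← QuotientGroup.eq_one_iff]
    have h3 := mem_center_iff.1 hxc (QuotientGroup.mk' F g)
    simp only [QuotientGroup.mk'_apply] at h3
    rw [QuotientGroup.mk_mul, QuotientGroup.mk_mul, QuotientGroup.mk_mul, QuotientGroup.mk_inv, QuotientGroup.mk_inv,
      h3]
    group

theorem two_mul_card_le [Finite T] {A B : Subgroup T} (hAB : A ≤ B) (hne : A ≠ B) : 2 * Nat.card A ≤ Nat.card B := by
  have h1 : Nat.card A * A.relIndex B = Nat.card B := by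
    rw [← relIndex_bot_left, ← relIndex_bot_left]
    exact relIndex_mul_relIndex _ _ _ bot_le hAB
  have h2 : A.relIndex B ≠ 0 := by
    intro h
    rw [h, mul_zero] at h1
    exact Nat.card_pos.ne h1
  have h3 : A.relIndex B ≠ 1 := by
    rw [Ne, relIndex_eq_one]
    intro h
    exact hne (le_antisymm hAB h)
  rw [← h1, mul_comm]
  exact Nat.mul_le_mul_left _ (by omega)

/-- a normal subgroup either lies in `Z_k` or meets it in a subgroup of order at least `2^k` -/
theorem normal_inf_ucs [Finite T] (hT : IsPGroup 2 T) {N : Subgroup T} (hN : N.Normal) (k : ℕ)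
    (h : ¬ N ≤ Subgroup.upperCentralSeries T k) : 2 ^ k ≤ Nat.card ↥(N ⊓ Subgroup.upperCentralSeries T k : Subgroup T) := by
  induction k with
  | zero => rw [pow_zero]; exact Nat.card_pos
  | succ k ih =>
    have h1 : ¬ N ≤ Subgroup.upperCentralSeries T k := fun h2 => h (h2.trans (Subgroup.upperCentralSeries_mono T (Nat.le_succ k)))
    have h2 := ih h1
    obtain ⟨w, hwN, hwF, hw⟩ := exists_central_mod hT (inferInstance : (Subgroup.upperCentralSeries T k).Normal) hN h1
    have h3 : w ∈ N ⊓ Subgroup.upperCentralSeries T (k + 1) := ⟨hwN, mem_ucs_succ.2 fun g => (hw g).2⟩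
    have h4 := two_mul_card_le (A := N ⊓ Subgroup.upperCentralSeries T k) (B := N ⊓ Subgroup.upperCentralSeries T (k + 1))
      (inf_le_inf le_rfl (Subgroup.upperCentralSeries_mono T (Nat.le_succ k)))
      (by
        intro h5
        rw [← h5] at h3
        exact hwF h3.2)
    rw [pow_succ]
    omega

theorem normal_le_ucs [Finite T] (hT : IsPGroup 2 T) {N : Subgroup T} (hN : N.Normal) (k : ℕ)
    (h : Nat.card N ≤ 2 ^ k) : N ≤ Subgroup.upperCentralSeries T k := by
  by_contra hne
  have h1 := normal_inf_ucs hT hN k hne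
  have h2 := two_mul_card_le (A := N ⊓ Subgroup.upperCentralSeries T k) (B := N) inf_le_left
    (by intro h3; exact hne (by rw [← h3]; exact inf_le_right))
  have h3 : 0 < 2 ^ k := by positivity
  omega

theorem card_ucs [Finite T] (hT : IsPGroup 2 T) {n : ℕ} (hn : Nat.card ↥(Subgroup.upperCentralSeries T n) = 2 ^ n)
    (hlt : 2 ^ n < Nat.card T) : ∀ i ≤ n, Nat.card ↥(Subgroup.upperCentralSeries T i) = 2 ^ i := by
  have htop : ∀ i ≤ n, ¬ (⊤ : Subgroup T) ≤ Subgroup.upperCentralSeries T i := by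
    intro i hi h
    have h1 : Subgroup.upperCentralSeries T n = ⊤ := top_le_iff.1 (h.trans (Subgroup.upperCentralSeries_mono T hi))
    rw [h1, card_top] at hn
    omega
  have hge : ∀ i ≤ n, 2 ^ i ≤ Nat.card ↥(Subgroup.upperCentralSeries T i) := by
    intro i hi
    have := normal_inf_ucs hT (inferInstance : (⊤ : Subgroup T).Normal) i (htop i hi)
    rwa [top_inf_eq] at this
  have hstep : ∀ i < n, 2 * Nat.card ↥(Subgroup.upperCentralSeries T i) ≤ Nat.card ↥(Subgroup.upperCentralSeries T (i + 1)) := by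
    intro i hi
    apply two_mul_card_le (Subgroup.upperCentralSeries_mono T (Nat.le_succ i))
    intro h
    obtain ⟨w, -, hw, hw2⟩ := exists_central_mod hT (inferInstance : (Subgroup.upperCentralSeries T i).Normal)
      (inferInstance : (⊤ : Subgroup T).Normal) (htop i hi.le)
    apply hw
    rw [h]
    exact mem_ucs_succ.2 fun g => (hw2 g).2
  have hle : ∀ j ≤ n, Nat.card ↥(Subgroup.upperCentralSeries T (n - j)) ≤ 2 ^ (n - j) := by
    intro j
    induction j with
    | zero => intro _; rw [Nat.sub_zero, hn]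
    | succ j ih =>
      intro hj
      have h1 := ih (by omega)
      have h2 := hstep (n - (j + 1)) (by omega)
      have h3 : n - (j + 1) + 1 = n - j := by omega
      rw [h3] at h2
      have h4 : 2 ^ (n - j) = 2 * 2 ^ (n - (j + 1)) := by rw [← h3, pow_succ, mul_comm]
      omega
  intro i hi
  have := hle (n - i) (by omega)
  have h3 : n - (n - i) = i := by omega
  rw [h3] at this
  exact le_antisymm this (hge i hi)

/-- in a finite group with `H/F` elementary abelian, an element outside `F` is avoided by a hyperplane -/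
theorem exists_hyper {H : Type*} [Group H] [Finite H] (F : Subgroup H) (hsq : ∀ a : H, a * a ∈ F)
    {c : H} (hc : c ∉ F) : ∃ M : Subgroup H, M.index = 2 ∧ F ≤ M ∧ c ∉ M := by
  obtain ⟨M, hM⟩ := (Set.toFinite {M : Subgroup H | F ≤ M ∧ c ∉ M}).exists_maximal ⟨F, le_rfl, hc⟩
  have hMF : F ≤ M := hM.1.1
  have hcM : c ∉ M := hM.1.2
  have hsqM : ∀ a : H, a * a ∈ M := fun a => hMF (hsq a)
  have hconj : ∀ m ∈ M, ∀ x : H, x * m * x⁻¹ ∈ M := by
    intro m hm x
    have h1 := hsqM (x * m)
    have h2 := hsqM x⁻¹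
    have h3 : x * m * x⁻¹ = ((x * m) * (x * m)) * m⁻¹ * (x⁻¹ * x⁻¹) := by group
    rw [h3]
    exact M.mul_mem (M.mul_mem h1 (M.inv_mem hm)) h2
  refine ⟨M, ?_, hMF, hcM⟩
  rw [index_eq_two_iff_exists_notMem_and]
  refine ⟨c, hcM, fun b => ?_⟩
  by_cases hb : b ∈ M
  · exact Or.inr hb
  left
  -- the subgroup `M ∪ M b`
  let K : Subgroup H :=
    { carrier := {y | y ∈ M ∨ y * b ∈ M}
      one_mem' := Or.inl M.one_mem
      mul_mem' := by
        intro y z hy hz
        rcases hy with hy | hy
        · rcases hz with hz | hz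
          · exact Or.inl (M.mul_mem hy hz)
          · exact Or.inr (by rw [mul_assoc]; exact M.mul_mem hy hz)
        · rcases hz with hz | hz
          · right
            have h1 := hconj _ (M.mul_mem (hconj z hz b⁻¹) M.one_mem) 1
            have h2 : y * z * b = (y * b) * (b⁻¹ * z * b⁻¹⁻¹) := by group
            rw [h2]
            exact M.mul_mem hy (hconj z hz b⁻¹)
          · left
            have h2 : y * z = (y * b) * (b⁻¹ * (z * b) * b⁻¹⁻¹) * (b⁻¹ * b⁻¹) := by group
            rw [h2]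
            exact M.mul_mem (M.mul_mem hy (hconj _ hz b⁻¹)) (hsqM _)
      inv_mem' := by
        intro y hy
        rcases hy with hy | hy
        · exact Or.inl (M.inv_mem hy)
        · right
          have h2 : y⁻¹ * b = (y⁻¹ * y⁻¹) * (y * b) := by group
          rw [h2]
          exact M.mul_mem (hsqM _) hy }
  have hMK : M ≤ K := fun y hy => Or.inl hy
  have hbK : b ∈ K := Or.inr (hsqM b)
  have hcK : c ∈ K := by
    by_contra hcK
    have h1 := hM.2 (show K ∈ {M : Subgroup H | F ≤ M ∧ c ∉ M} from ⟨hMF.trans hMK, hcK⟩) hMK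
    exact hb (h1 hbK)
  rcases hcK with h | h
  · exact absurd h hcM
  · have h2 : b * c = b * (c * b) * b⁻¹ := by group
    rw [h2]
    exact hconj _ h b

end Cfsg.Agent.Lib.RudA
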