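import Cfsg.Agent.Lib.S4Min
import Cfsg.Agent.Lib.H34ClassTwo

/-!
# Quadratic offenders produce dihedral groups of order divisible by 6 (helper11)
-/

set_option autoImplicit false

namespace Cfsg.Agent.Lib.S4Core

open Subgroup Cfsg.Agent.Lib.H34Basic Cfsg.Agent.Lib.H34SolvOff Cfsg.Agent.Lib.H34S4 Cfsg.Agent.Lib.S4Min

variable {Γ V : Type*} [Group Γ] [CommGroup V]

/-- the fixed points of `A` in `U` -/
def fixIn (φ : Γ →* MulAut V) (A : Subgroup Γ) (U : Subgroup V) : Subgroup V where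
  carrier := {v | v ∈ U ∧ ∀ a ∈ A, φ a v = v}
  mul_mem' := by
    rintro u v ⟨hu, hu'⟩ ⟨hv, hv'⟩
    exact ⟨U.mul_mem hu hv, fun a ha => by rw [map_mul, hu' a ha, hv' a ha]⟩
  one_mem' := ⟨U.one_mem, fun a _ => map_one _⟩
  inv_mem' := by
    rintro u ⟨hu, hu'⟩
    exact ⟨U.inv_mem hu, fun a ha => by rw [map_inv, hu' a ha]⟩

theorem mem_fixIn {φ : Γ →* MulAut V} {A : Subgroup Γ} {U : Subgroup V} {v : V} :
    v ∈ fixIn φ A U ↔ v ∈ U ∧ ∀ a ∈ A, φ a v = v := Iff.rfl

/-- the elements of `A` centralizing `U` -/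
def centIn (φ : Γ →* MulAut V) (A : Subgroup Γ) (U : Subgroup V) : Subgroup Γ where
  carrier := {a | a ∈ A ∧ ∀ u ∈ U, φ a u = u}
  mul_mem' := by
    rintro a b ⟨ha, ha'⟩ ⟨hb, hb'⟩
    refine ⟨A.mul_mem ha hb, fun u hu => ?_⟩
    rw [map_mul, MulAut.mul_apply, hb' u hu, ha' u hu]
  one_mem' := ⟨A.one_mem, fun u _ => by simp⟩
  inv_mem' := by
    rintro a ⟨ha, ha'⟩
    refine ⟨A.inv_mem ha, fun u hu => ?_⟩
    have := congrArg (φ a⁻¹) (ha' u hu)
    rw [← MulAut.mul_apply, ← map_mul, inv_mul_cancel, map_one] at this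
    exact this.symm

theorem mem_centIn {φ : Γ →* MulAut V} {A : Subgroup Γ} {U : Subgroup V} {a : Γ} :
    a ∈ centIn φ A U ↔ a ∈ A ∧ ∀ u ∈ U, φ a u = u := Iff.rfl

theorem phi_inv_apply (φ : Γ →* MulAut V) (g : Γ) (v : V) : φ g⁻¹ (φ g v) = v := by
  rw [← MulAut.mul_apply, ← map_mul, inv_mul_cancel, map_one]; rfl

theorem phi_apply_inv (φ : Γ →* MulAut V) (g : Γ) (v : V) : φ g (φ g⁻¹ v) = v := by
  rw [← MulAut.mul_apply, ← map_mul, mul_inv_cancel, map_one]; rfl

/-- odd order elements: trivial on the factors implies trivial -/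
theorem odd_step (hV2 : ∀ v : V, v * v = 1) (φ : Γ →* MulAut V) (x : Γ) (n : ℕ) (hn : Odd n) (hx : x ^ n = 1)
    (v c : V) (h : φ x v = v * c) (hc : φ x c = c) : φ x v = v := by
  have h3 : ∀ m : ℕ, φ (x ^ m) v = v * c ^ m := by
    intro m
    induction m with
    | zero => simp
    | succ m ih =>
      rw [pow_succ', map_mul, MulAut.mul_apply, ih, map_mul, map_pow, hc, h, pow_succ', mul_assoc]
  have h4 := h3 n
  rw [hx, map_one] at h4
  have h5 : v = v * c ^ n := h4
  have h6 : c ^ n = 1 := by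
    have := congrArg (fun z => v⁻¹ * z) h5
    simpa using this.symm
  obtain ⟨k, rfl⟩ := hn
  have h7 : c = 1 := by
    have h8 : c ^ (2 * k + 1) = c := by
      rw [pow_succ, pow_mul, pow_two, hV2, one_pow, one_mul]
    rw [h8] at h6; exact h6
  rw [h, h7, mul_one]

section
variable [Finite Γ] [Finite V]

/-- a finite group which is not a 2-group has a nontrivial element of odd order -/
theorem exists_odd (h : ¬ IsPGroup 2 (⊤ : Subgroup Γ)) : ∃ x : Γ, x ≠ 1 ∧ ∃ n, Odd n ∧ x ^ n = 1 := by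
  by_contra hcon
  push Not at hcon
  apply h
  rintro ⟨x, -⟩
  refine ⟨(orderOf x).factorization 2, ?_⟩
  apply Subtype.ext
  show x ^ 2 ^ (orderOf x).factorization 2 = 1
  by_contra hne
  have hx0 : orderOf x ≠ 0 := (orderOf_pos x).ne'
  refine hcon _ hne (orderOf x / 2 ^ (orderOf x).factorization 2) ?_ ?_
  · exact (Nat.coprime_two_left).1 (Nat.coprime_ordCompl Nat.prime_two hx0)
  · rw [← pow_mul, Nat.mul_div_cancel' (Nat.ordProj_dvd _ _), pow_orderOf_eq_one]

theorem card_mul_le (U W : Subgroup V) (Y : Subgroup V) (hU : U ≤ Y) (hW : W ≤ Y) :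
    Nat.card U * Nat.card W ≤ Nat.card Y * Nat.card (U ⊓ W : Subgroup V) := by
  have h1 := Cfsg.Agent.Lib.H34ClassTwo.card_sup_mul_card_inf U W
  rw [← h1]
  exact Nat.mul_le_mul_right _ (Subgroup.card_le_of_le (sup_le hU hW))


theorem core (hV2 : ∀ v : V, v * v = 1) (φ : Γ →* MulAut V) (hφ : Function.Injective φ)
    (hq : ∀ P : Subgroup Γ, IsPGroup 2 P → ∀ x ∈ P, ∀ y ∈ P, ∀ v : V, φ x (v * φ y v) = v * φ y v)
    (A : Subgroup Γ) (hA : IsPGroup 2 A) (hAO : ¬ A ≤ Cfsg.pCore 2 Γ)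
    (hmin : ∀ X : Subgroup Γ, A ≤ X → X ≠ ⊤ → A ≤ (Cfsg.pCore 2 X).map X.subtype)
    (hoff : ∀ U : Subgroup V, Nat.card U * Nat.card (centIn φ A U) ≤ Nat.card A * Nat.card (fixIn φ A U)) :
    ∃ a b : Γ, a * a = 1 ∧ b * b = 1 ∧ 3 ∣ orderOf (a * b) := by
  classical
  have h2p : Fact (Nat.Prime 2) := ⟨Nat.prime_two⟩
  have hinv : ∀ v : V, v⁻¹ = v := fun v => inv_eq_of_mul_eq_one_left (hV2 v)
  have hcan : ∀ u v w : V, u * v = w → v = u * w := by
    intro u v w h
    rw [← h, ← mul_assoc, hV2, one_mul]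
  have hxy : ∀ P : Subgroup Γ, IsPGroup 2 P → ∀ x ∈ P, ∀ y ∈ P, ∀ v : V, φ x (φ y v) = φ x v * (v * φ y v) := by
    intro P hP x hx y hy v
    have h1 := hq P hP x hx y hy v
    rw [map_mul] at h1
    exact hcan _ _ _ h1
  have hxx : ∀ P : Subgroup Γ, IsPGroup 2 P → ∀ x ∈ P, x * x = 1 := by
    intro P hP x hx
    apply hφ
    ext v
    rw [map_mul, MulAut.mul_apply, hxy P hP x hx x hx v, map_one]
    calc φ x v * (v * φ x v) = v * (φ x v * φ x v) := by rw [mul_left_comm]
      _ = v := by rw [hV2, mul_one]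
  have hab : ∀ P : Subgroup Γ, IsPGroup 2 P → ∀ x ∈ P, ∀ y ∈ P, x * y = y * x := by
    intro P hP x hx y hy
    apply hφ
    ext v
    rw [map_mul, map_mul, MulAut.mul_apply, MulAut.mul_apply, hxy P hP x hx y hy v, hxy P hP y hy x hx v]
    calc φ x v * (v * φ y v) = (φ x v * v) * φ y v := by rw [mul_assoc]
      _ = φ y v * (v * φ x v) := by rw [mul_comm, mul_comm v]
  set R := Cfsg.pCore 2 Γ with hR
  have hRn : R.Normal := Subgroup.sSup_normal _ (fun _ h => h.1)
  have hRp : IsPGroup 2 R := isPGroup_pCore 2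
  set V0 : Subgroup V := fixIn φ R ⊤ with hV0
  have hV0mem : ∀ v : V, v ∈ V0 ↔ ∀ r ∈ R, φ r v = v := by
    intro v
    rw [hV0, mem_fixIn]
    exact ⟨fun h => h.2, fun h => ⟨trivial, h⟩⟩
  have hV0inv : ∀ g : Γ, ∀ v ∈ V0, φ g v ∈ V0 := by
    intro g v hv
    rw [hV0mem] at hv ⊢
    intro r hr
    have h1 : g⁻¹ * r * g ∈ R := by
      have := hRn.conj_mem _ hr g⁻¹
      rwa [inv_inv] at this
    have h2 : r * g = g * (g⁻¹ * r * g) := by group
    rw [← MulAut.mul_apply, ← map_mul, h2, map_mul, MulAut.mul_apply, hv _ h1]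
  have hP0 : ∀ P : Subgroup Γ, IsPGroup 2 P → ∀ x ∈ P, ∀ v : V, v * φ x v ∈ V0 := by
    intro P hP x hx v
    rw [hV0mem]
    intro r hr
    have h1 : IsPGroup 2 (P ⊔ R : Subgroup Γ) := hP.to_sup_of_normal_right hRp
    exact hq _ h1 r (Subgroup.mem_sup_right hr) x (Subgroup.mem_sup_left hx) v
  obtain ⟨L, hLt, hAL, hLX, hLconj, hLint⟩ := structure_lemma hab A hA hAO hmin
  have hgen : ∀ h : Γ, h ∉ L → ∀ K : Subgroup Γ, A ≤ K → (∀ a ∈ A, h * a * h⁻¹ ∈ K) → K = ⊤ := by
    intro h hh K hAK hBK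
    by_contra hK
    have h1 := hLX K hAK hK
    exact hh (hLconj h (fun a ha => h1 (hBK a ha)))
  obtain ⟨h, hh⟩ : ∃ h : Γ, h ∉ L := by
    by_contra hcon
    push Not at hcon
    exact hLt ((Subgroup.eq_top_iff' L).2 hcon)
  -- `[V, Γ] ≤ V0`
  have hVV0 : ∀ x : Γ, ∀ v : V, v * φ x v ∈ V0 := by
    let K1 : Subgroup Γ :=
      { carrier := {x | ∀ v : V, v * φ x v ∈ V0}
        mul_mem' := by
          intro x y hx hy v
          have h1 := V0.mul_mem (hx (φ y v)) (hy v)
          have h2 : φ y v * φ x (φ y v) * (v * φ y v) = v * φ (x * y) v := by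
            rw [map_mul, MulAut.mul_apply]
            calc φ y v * φ x (φ y v) * (v * φ y v) = (φ y v * φ y v) * (v * φ x (φ y v)) := by
                  simp only [mul_left_comm, mul_comm]
              _ = _ := by rw [hV2, one_mul]
          rwa [h2] at h1
        one_mem' := by
          intro v
          have : v * φ 1 v = 1 := by rw [map_one]; exact hV2 v
          rw [this]; exact V0.one_mem
        inv_mem' := by
          intro x hx v
          have h1 := hx (φ x⁻¹ v)
          rw [phi_apply_inv, mul_comm] at h1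
          exact h1 }
    have h1 : K1 = ⊤ := by
      apply hgen h hh
      · intro a ha v; exact hP0 A hA a ha v
      · intro a ha v
        refine hP0 (A.map (MulAut.conj h).toMonoidHom) (hA.map _) _ ⟨a, ha, ?_⟩ v
        rfl
    intro x v
    have h2 : x ∈ K1 := by rw [h1]; trivial
    exact h2 v
  -- odd order elements
  have hodd1 : ∀ x : Γ, ∀ n : ℕ, Odd n → x ^ n = 1 → (∀ v ∈ V0, φ x v = v) → x = 1 := by
    intro x n hn hx hv
    apply hφ
    ext v
    rw [map_one]
    have h1 := hVV0 x v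
    refine odd_step hV2 φ x n hn hx v (v * φ x v) ?_ (hv _ h1)
    rw [← mul_assoc, hV2, one_mul]
  obtain ⟨y, hy1, ny, hny, hyn⟩ : ∃ x : Γ, x ≠ 1 ∧ ∃ n, Odd n ∧ x ^ n = 1 := by
    apply exists_odd
    intro htop
    apply hAO
    exact le_top.trans (le_pCore_of_normal inferInstance htop)
  -- the kernel on `V0`
  set N0 : Subgroup Γ := centIn φ ⊤ V0 with hN0
  have hN0mem : ∀ x : Γ, x ∈ N0 ↔ ∀ v ∈ V0, φ x v = v := by
    intro x
    rw [hN0, mem_centIn]
    exact ⟨fun h => h.2, fun h => ⟨trivial, h⟩⟩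
  have hN0n : N0.Normal := by
    refine ⟨?_⟩
    intro x hx g
    rw [hN0mem] at hx ⊢
    intro v hv
    rw [map_mul, map_mul, MulAut.mul_apply, MulAut.mul_apply, hx _ (hV0inv g⁻¹ v hv), phi_apply_inv]
  have hN0L : N0 ≤ L := by
    have h1 : A ⊔ N0 ≠ ⊤ := by
      intro htop
      apply hy1
      apply hodd1 y ny hny hyn
      intro v hv
      have h2 : y ∈ A ⊔ N0 := by rw [htop]; trivial
      rw [Subgroup.mem_sup_of_normal_right] at h2
      obtain ⟨a, ha, n, hn, hany⟩ := h2
      -- `y ^ 2 ∈ N0`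
      have h3 : y * y ∈ N0 := by
        have h4 : y * y = (a * n * a⁻¹) * (a * a) * n := by rw [← hany]; group
        rw [h4, hxx A hA a ha, mul_one]
        exact N0.mul_mem (hN0n.conj_mem _ hn a) hn
      obtain ⟨m, rfl⟩ := hny
      have h4 : y = (y * y) ^ (m + 1) := by
        have h5 : (y * y) ^ (m + 1) = y ^ (2 * m + 1) * y := by
          rw [← pow_two, ← pow_mul]
          rw [← pow_succ]
          congr 1
        rw [h5, hyn, one_mul]
      have h5 : y ∈ N0 := by
        rw [h4]; exact N0.pow_mem h3 _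
      exact (hN0mem y).1 h5 v hv
    exact le_sup_right.trans (hLX _ le_sup_left h1)
  have hAN0 : ∀ a ∈ A, a ∈ N0 → a ∈ R := by
    intro a ha haN
    refine hLint h hh a ha (hN0L ?_)
    have := hN0n.conj_mem _ haN h⁻¹
    rwa [inv_inv] at this
  have hRN0 : R ≤ N0 := by
    intro r hr
    rw [hN0mem]
    intro v hv
    exact (hV0mem v).1 hv r hr
  set A0 : Subgroup Γ := A ⊓ R with hA0
  have hcent : centIn φ A V0 = A0 := by
    ext a
    rw [mem_centIn, hA0, Subgroup.mem_inf]
    constructor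
    · rintro ⟨ha, ha'⟩
      exact ⟨ha, hAN0 a ha ((hN0mem a).2 ha')⟩
    · rintro ⟨ha, ha'⟩
      exact ⟨ha, (hN0mem a).1 (hRN0 ha')⟩
  set C0 : Subgroup V := fixIn φ ⊤ V0 with hC0
  have hC0mem : ∀ v : V, v ∈ C0 ↔ v ∈ V0 ∧ ∀ x : Γ, φ x v = v := by
    intro v
    rw [hC0, mem_fixIn]
    exact ⟨fun h => ⟨h.1, fun x => h.2 x trivial⟩, fun h => ⟨h.1, fun x _ => h.2 x⟩⟩
  set WA : Subgroup V := fixIn φ A V0 with hWA
  have hC0WA : C0 ≤ WA := by
    intro v hv
    rw [hC0mem] at hv
    exact ⟨hv.1, fun a _ => hv.2 a⟩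
  -- fixed by `A` and a conjugate
  have hfixgen : ∀ h : Γ, h ∉ L → ∀ v ∈ V0, (∀ a ∈ A, φ a v = v) → (∀ a ∈ A, φ (h * a * h⁻¹) v = v) → v ∈ C0 := by
    intro h hh v hv h1 h2
    let K : Subgroup Γ := centIn φ ⊤ (Subgroup.zpowers v)
    have hmemK : ∀ x : Γ, φ x v = v → x ∈ K := by
      intro x hx
      refine ⟨trivial, ?_⟩
      rintro _ ⟨k, rfl⟩
      show φ x (v ^ k) = v ^ k
      rw [map_zpow, hx]
    have h3 : K = ⊤ := hgen h hh K (fun a ha => hmemK a (h1 a ha)) (fun a ha => hmemK _ (h2 a ha))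
    rw [hC0mem]
    refine ⟨hv, fun x => ?_⟩
    have h4 : x ∈ K := by rw [h3]; trivial
    exact h4.2 v (Subgroup.mem_zpowers v)
  -- the centralizer of a coset
  have hcoset : ∀ h : Γ, h ∉ L → ∀ w ∈ V0, (∀ a ∈ A, φ (h * a * h⁻¹) w = w) → w ∉ C0 →
      ∀ a ∈ A, w * φ a w ∈ C0 → a ∈ R := by
    intro h hh w hw hwB hwC a ha haw
    let K : Subgroup Γ :=
      { carrier := {x | w * φ x w ∈ C0}
        mul_mem' := by
          intro x y hx hy
          show w * φ (x * y) w ∈ C0
          have hy' : φ y w = w * (w * φ y w) := by rw [← mul_assoc, hV2, one_mul]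
          have h1 : φ x (w * φ y w) = w * φ y w := ((hC0mem _).1 hy).2 x
          have h2 : w * φ (x * y) w = (w * φ x w) * (w * φ y w) := by
            rw [map_mul, MulAut.mul_apply]
            conv_lhs => rw [hy']
            rw [map_mul, h1, mul_assoc]
          rw [h2]
          exact C0.mul_mem hx hy
        one_mem' := by
          show w * φ 1 w ∈ C0
          have : w * φ 1 w = 1 := by rw [map_one]; exact hV2 w
          rw [this]; exact C0.one_mem
        inv_mem' := by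
          intro x hx
          show w * φ x⁻¹ w ∈ C0
          have h1 : φ x⁻¹ (w * φ x w) = w * φ x w := ((hC0mem _).1 hx).2 x⁻¹
          rw [map_mul, phi_inv_apply] at h1
          rw [mul_comm, h1]
          exact hx }
    have hBK : ∀ a ∈ A, h * a * h⁻¹ ∈ K := by
      intro a ha
      show w * φ (h * a * h⁻¹) w ∈ C0
      rw [hwB a ha, hV2]
      exact C0.one_mem
    by_cases hK : K = ⊤
    · exfalso
      apply hwC
      apply hfixgen h hh w hw _ hwB
      intro a ha
      have hKa : ∀ x : Γ, w * φ x w ∈ C0 := by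
        intro x
        have : x ∈ K := by rw [hK]; trivial
        exact this
      -- `φ (h a h⁻¹) w = w`
      have h1 := hwB a ha
      have c1 := hKa h⁻¹
      have c2 := hKa a
      have e1 : φ h⁻¹ w = w * (w * φ h⁻¹ w) := by rw [← mul_assoc, hV2, one_mul]
      have e2 : φ a w = w * (w * φ a w) := by rw [← mul_assoc, hV2, one_mul]
      have f1 : φ a (w * φ h⁻¹ w) = w * φ h⁻¹ w := ((hC0mem _).1 c1).2 a
      have f2 : φ h (w * φ a w) = w * φ a w := ((hC0mem _).1 c2).2 h
      have h2 : φ (h * a * h⁻¹) w = (w * φ a w) * w := by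
        rw [map_mul, map_mul, MulAut.mul_apply, MulAut.mul_apply]
        calc φ h (φ a (φ h⁻¹ w)) = φ h (φ a (w * (w * φ h⁻¹ w))) := by rw [← e1]
          _ = φ h (φ a w * (w * φ h⁻¹ w)) := by rw [map_mul (φ a), f1]
          _ = φ h (w * (w * φ a w) * (w * φ h⁻¹ w)) := by rw [← e2]
          _ = φ h ((w * φ a w) * (w * (w * φ h⁻¹ w))) := by
              congr 1
              rw [mul_comm w (w * φ a w), mul_assoc]
          _ = φ h ((w * φ a w) * φ h⁻¹ w) := by rw [← e1]
          _ = (w * φ a w) * w := by rw [map_mul (φ h), f2, phi_apply_inv]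
      rw [h1] at h2
      have h3 : w * φ a w = 1 := by
        have := congrArg (fun z => z * w) h2
        simp only [mul_assoc, hV2, mul_one] at this
        exact this.symm
      have h4 := hcan _ _ _ h3
      rw [h4, mul_one]
    · have hA' : A ≤ K.comap (MulAut.conj h).toMonoidHom := fun a ha => hBK a ha
      have hK' : K.comap (MulAut.conj h).toMonoidHom ≠ ⊤ := by
        intro htop
        apply hK
        rw [eq_top_iff]
        intro x _
        have h2 : h⁻¹ * x * h ∈ K.comap (MulAut.conj h).toMonoidHom := by rw [htop]; trivial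
        have h3 : h * (h⁻¹ * x * h) * h⁻¹ ∈ K := h2
        have h4 : h * (h⁻¹ * x * h) * h⁻¹ = x := by group
        rwa [h4] at h3
      refine hLint h hh a ha (hLX _ hA' hK' ?_)
      show h * (h⁻¹ * a * h) * h⁻¹ ∈ K
      have h4 : h * (h⁻¹ * a * h) * h⁻¹ = a := by group
      rw [h4]
      exact haw
  -- cardinality of fixed points of conjugates
  have hWB : ∀ h : Γ, Nat.card (fixIn φ (A.map (MulAut.conj h).toMonoidHom) V0) = Nat.card WA := by
    intro h
    apply Nat.card_congr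
    refine ⟨fun w => ⟨φ h⁻¹ w, ?_⟩, fun w => ⟨φ h w, ?_⟩, ?_, ?_⟩
    · refine ⟨hV0inv _ _ w.2.1, ?_⟩
      intro a ha
      have h1 := w.2.2 (h * a * h⁻¹) ⟨a, ha, rfl⟩
      have h2 : a * h⁻¹ = h⁻¹ * (h * a * h⁻¹) := by group
      rw [← MulAut.mul_apply, ← map_mul, h2, map_mul, MulAut.mul_apply, h1]
    · refine ⟨hV0inv _ _ w.2.1, ?_⟩
      rintro _ ⟨a, ha, rfl⟩
      have h1 := w.2.2 a ha
      show φ (h * a * h⁻¹) (φ h w) = φ h w
      have h2 : h * a * h⁻¹ * h = h * a := by group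
      rw [← MulAut.mul_apply, ← map_mul, h2, map_mul, MulAut.mul_apply, h1]
    · intro w; apply Subtype.ext; exact phi_apply_inv φ h w
    · intro w; apply Subtype.ext; exact phi_inv_apply φ h w
  have hBmem : ∀ (h : Γ) (w : V), w ∈ fixIn φ (A.map (MulAut.conj h).toMonoidHom) V0 ↔
      w ∈ V0 ∧ ∀ a ∈ A, φ (h * a * h⁻¹) w = w := by
    intro h w
    rw [mem_fixIn]
    constructor
    · rintro ⟨h1, h2⟩
      exact ⟨h1, fun a ha => h2 _ ⟨a, ha, rfl⟩⟩
    · rintro ⟨h1, h2⟩
      refine ⟨h1, ?_⟩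
      rintro _ ⟨a, ha, rfl⟩
      exact h2 a ha
  -- the counting argument
  have hsurj : ∀ h : Γ, h ∉ L → ∀ w ∈ V0, (∀ a ∈ A, φ (h * a * h⁻¹) w = w) → w ∉ C0 →
      ∀ w' ∈ WA, ∃ a ∈ A, ∃ c ∈ C0, w' = (w * φ a w) * c := by
    intro h hh w hw hwB hwC
    have hadd : ∀ a ∈ A, ∀ b ∈ A, w * φ (a * b) w = (w * φ a w) * (w * φ b w) := by
      intro a ha b hb
      rw [map_mul, MulAut.mul_apply, hxy A hA a ha b hb w]
      calc w * (φ a w * (w * φ b w)) = (w * φ a w) * (w * φ b w) := by rw [mul_assoc]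
        _ = _ := rfl
    let F : (A × C0) →* V :=
      { toFun := fun p => (w * φ (p.1 : Γ) w) * (p.2 : V)
        map_one' := by
          show (w * φ (1 : Γ) w) * (1 : V) = 1
          rw [map_one, mul_one]; exact hV2 w
        map_mul' := by
          rintro ⟨a, c⟩ ⟨b, d⟩
          show (w * φ ((a : Γ) * b) w) * ((c : V) * d) = (w * φ (a : Γ) w) * c * ((w * φ (b : Γ) w) * d)
          rw [hadd a a.2 b b.2]
          exact mul_mul_mul_comm _ _ _ _ }
    have hFr : F.range ≤ WA := by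
      rintro _ ⟨⟨a, c⟩, rfl⟩
      refine WA.mul_mem ?_ (hC0WA c.2)
      refine ⟨V0.mul_mem hw (hV0inv _ _ hw), ?_⟩
      intro b hb
      exact hq A hA b hb a a.2 w
    have hFk : Nat.card F.ker ≤ Nat.card A0 := by
      apply Nat.card_le_card_of_injective (fun x : F.ker => (⟨(x.1.1 : Γ), by
        have hx : (w * φ (x.1.1 : Γ) w) * (x.1.2 : V) = 1 := x.2
        have h1 : w * φ (x.1.1 : Γ) w = (x.1.2 : V) := by
          have := congrArg (fun z => z * (x.1.2 : V)) hx
          simp only [mul_assoc, hV2, mul_one, one_mul] at this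
          rw [← this]
        refine ⟨x.1.1.2, ?_⟩
        refine hcoset h hh w hw hwB hwC _ x.1.1.2 ?_
        rw [h1]; exact x.1.2.2⟩ : A0))
      rintro ⟨⟨a, c⟩, hx⟩ ⟨⟨b, d⟩, hy⟩ hab'
      have h1 : (a : Γ) = b := by
        have := congrArg (fun x : A0 => (x : Γ)) hab'
        exact this
      have h2 : a = b := Subtype.ext h1
      subst h2
      have hx' : (w * φ (a : Γ) w) * (c : V) = 1 := hx
      have hy' : (w * φ (a : Γ) w) * (d : V) = 1 := hy
      have h3 : (c : V) = d := mul_left_cancel (hx'.trans hy'.symm)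
      have h4 : c = d := Subtype.ext h3
      subst h4
      rfl
    have hcardF : Nat.card A * Nat.card C0 = Nat.card F.ker * Nat.card F.range := by
      have h1 := F.ker.card_mul_index
      rw [Subgroup.index_ker, Nat.card_prod] at h1
      exact h1.symm
    have h1 : Nat.card A * Nat.card C0 ≤ Nat.card A0 * Nat.card F.range := by
      rw [hcardF]; exact Nat.mul_le_mul_right _ hFk
    have h2 := hoff V0
    rw [hcent] at h2
    have h3 : Nat.card WA * Nat.card WA ≤ Nat.card V0 * Nat.card C0 := by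
      have h4 := card_mul_le WA (fixIn φ (A.map (MulAut.conj h).toMonoidHom) V0) V0 (fun v hv => hv.1)
        (fun v hv => hv.1)
      rw [hWB h] at h4
      refine h4.trans (Nat.mul_le_mul_left _ (Subgroup.card_le_of_le ?_))
      rintro v ⟨hv1, hv2⟩
      have hv3 := (hBmem h v).1 hv2
      exact hfixgen h hh v hv1.1 hv1.2 hv3.2
    have hposA0 : 0 < Nat.card A0 := Nat.card_pos
    have hposWA : 0 < Nat.card WA := Nat.card_pos
    have hposC0 : 0 < Nat.card C0 := Nat.card_pos
    have h4 : Nat.card WA * Nat.card A0 ≤ Nat.card A * Nat.card C0 := by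
      have h5 : Nat.card WA * (Nat.card WA * Nat.card A0) ≤ Nat.card WA * (Nat.card A * Nat.card C0) := by
        calc Nat.card WA * (Nat.card WA * Nat.card A0) = (Nat.card WA * Nat.card WA) * Nat.card A0 := by ring
          _ ≤ (Nat.card V0 * Nat.card C0) * Nat.card A0 := Nat.mul_le_mul_right _ h3
          _ = (Nat.card V0 * Nat.card A0) * Nat.card C0 := by ring
          _ ≤ (Nat.card A * Nat.card WA) * Nat.card C0 := Nat.mul_le_mul_right _ h2
          _ = _ := by ring
      exact Nat.le_of_mul_le_mul_left h5 hposWA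
    have h5 : Nat.card WA ≤ Nat.card F.range := by
      have h6 : Nat.card A0 * Nat.card WA ≤ Nat.card A0 * Nat.card F.range := by
        calc Nat.card A0 * Nat.card WA = Nat.card WA * Nat.card A0 := by ring
          _ ≤ Nat.card A * Nat.card C0 := h4
          _ ≤ _ := h1
      exact Nat.le_of_mul_le_mul_left h6 hposA0
    have h6 : F.range = WA := Subgroup.eq_of_le_of_card_ge hFr h5
    intro w' hw'
    rw [← h6] at hw'
    obtain ⟨⟨a, c⟩, hac⟩ := hw'
    exact ⟨a, a.2, c, c.2, hac.symm⟩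
  -- there is a nontrivial fixed point
  obtain ⟨w, hw0, hwB, hwC⟩ : ∃ w ∈ V0, (∀ a ∈ A, φ (h * a * h⁻¹) w = w) ∧ w ∉ C0 := by
    by_contra hcon
    push Not at hcon
    apply hy1
    apply hodd1 y ny hny hyn
    intro v hv
    -- everything acts trivially on `V0 / C0`
    have hBv : ∀ v ∈ V0, ∀ a ∈ A, v * φ (h * a * h⁻¹) v ∈ C0 := by
      intro v hv a ha
      apply hcon
      · exact V0.mul_mem hv (hV0inv _ _ hv)
      · intro b hb
        exact hq (A.map (MulAut.conj h).toMonoidHom) (hA.map _) _ ⟨b, hb, rfl⟩ _ ⟨a, ha, rfl⟩ v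
    have hAv : ∀ v ∈ V0, ∀ a ∈ A, v * φ a v ∈ C0 := by
      intro v hv a ha
      have h1 := hBv (φ h v) (hV0inv _ _ hv) a ha
      have h2 : h * a * h⁻¹ * h = h * a := by group
      rw [← MulAut.mul_apply, ← map_mul, h2, map_mul, MulAut.mul_apply, ← map_mul] at h1
      rw [hC0mem] at h1 ⊢
      refine ⟨V0.mul_mem hv (hV0inv _ _ hv), ?_⟩
      intro x
      have h3 := h1.2 (x * h)
      have h4 := h1.2 h
      have h5 : φ h (v * φ a v) = v * φ a v := by
        have := congrArg (φ h⁻¹) h4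
        rw [phi_inv_apply, phi_inv_apply] at this
        exact this
      have h6 := h1.2 x
      rw [h5] at h6
      exact h6
    let K : Subgroup Γ :=
      { carrier := {x | v * φ x v ∈ C0}
        mul_mem' := by
          intro x y hx hy
          show v * φ (x * y) v ∈ C0
          have hy' : φ y v = v * (v * φ y v) := by rw [← mul_assoc, hV2, one_mul]
          have h1 : φ x (v * φ y v) = v * φ y v := ((hC0mem _).1 hy).2 x
          have h2 : v * φ (x * y) v = (v * φ x v) * (v * φ y v) := by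
            rw [map_mul, MulAut.mul_apply]
            conv_lhs => rw [hy']
            rw [map_mul, h1, mul_assoc]
          rw [h2]
          exact C0.mul_mem hx hy
        one_mem' := by
          show v * φ 1 v ∈ C0
          have : v * φ 1 v = 1 := by rw [map_one]; exact hV2 v
          rw [this]; exact C0.one_mem
        inv_mem' := by
          intro x hx
          show v * φ x⁻¹ v ∈ C0
          have h1 : φ x⁻¹ (v * φ x v) = v * φ x v := ((hC0mem _).1 hx).2 x⁻¹
          rw [map_mul, phi_inv_apply] at h1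
          rw [mul_comm, h1]
          exact hx }
    have hK : K = ⊤ := hgen h hh K (fun a ha => hAv v hv a ha) (fun a ha => hBv v hv a ha)
    have h1 : y ∈ K := by rw [hK]; trivial
    have h2 : v * φ y v ∈ C0 := h1
    refine odd_step hV2 φ y ny hny hyn v (v * φ y v) ?_ (((hC0mem _).1 h2).2 y)
    rw [← mul_assoc, hV2, one_mul]
  -- the conjugate
  have hh' : h⁻¹ ∉ L := fun hc => hh (by simpa using L.inv_mem hc)
  set w' : V := φ h⁻¹ w with hw'
  have hw'0 : w' ∈ V0 := hV0inv _ _ hw0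
  have hw'A : ∀ a ∈ A, φ a w' = w' := by
    intro a ha
    have h1 := hwB a ha
    have h2 : a * h⁻¹ = h⁻¹ * (h * a * h⁻¹) := by group
    rw [hw', ← MulAut.mul_apply, ← map_mul, h2, map_mul, MulAut.mul_apply, h1]
  have hw'C : w' ∉ C0 := by
    intro hc
    apply hwC
    have h1 := ((hC0mem _).1 hc).2 h
    have h2 : φ h w' = w := phi_apply_inv φ h w
    rw [h2] at h1
    rw [h1]; exact hc
  have hw'WA : w' ∈ WA := ⟨hw'0, hw'A⟩
  obtain ⟨a, ha, c, hc, hac⟩ := hsurj h hh w hw0 hwB hwC w' hw'WA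
  -- for `h⁻¹`, the element `φ h⁻¹ w'`
  obtain ⟨b', hb', c', hc', hbc⟩ := hsurj h⁻¹ hh' (φ h⁻¹ w') (hV0inv _ _ hw'0) (by
    intro a ha
    have h1 := hw'A a ha
    have h2 : h⁻¹ * a * h⁻¹⁻¹ * h⁻¹ = h⁻¹ * a := by group
    rw [← MulAut.mul_apply, ← map_mul, h2, map_mul, MulAut.mul_apply, h1]) (by
    intro hcc
    apply hw'C
    have h1 := ((hC0mem _).1 hcc).2 h
    rw [phi_apply_inv] at h1
    rw [h1]; exact hcc) w' hw'WA
  set b : Γ := h * b' * h⁻¹ with hb
  have hb2 : b * b = 1 := by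
    have h1 : b * b = h * (b' * b') * h⁻¹ := by rw [hb]; group
    rw [h1, hxx A hA b' hb']; group
  have ha2 : a * a = 1 := hxx A hA a ha
  have hc1 : ∀ x : Γ, φ x c = c := ((hC0mem _).1 hc).2
  have hc1' : ∀ x : Γ, φ x c' = c' := ((hC0mem _).1 hc').2
  -- `φ b w' = w w' c'`
  have hbw' : φ b w' = w' * w * c' := by
    have h1 := congrArg (φ h) hbc
    rw [hw', phi_apply_inv, map_mul, map_mul, phi_apply_inv, ← hw', hc1'] at h1
    -- `w = w' * φ h (φ b' (φ h⁻¹ w')) * c'`
    have h2 : φ h (φ b' (φ h⁻¹ w')) = φ b w' := by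
      rw [hb, map_mul, map_mul, MulAut.mul_apply, MulAut.mul_apply]
    rw [h2] at h1
    rw [h1]
    calc φ b w' = (w' * w') * φ b w' * (c' * c') := by rw [hV2, hV2, one_mul, mul_one]
      _ = w' * (w' * φ b w' * c') * c' := by
          simp only [mul_assoc]
  have haw : φ a w = w * w' * c := by
    rw [hac]
    calc φ a w = (w * w) * φ a w * (c * c) := by rw [hV2, hV2, one_mul, mul_one]
      _ = w * (w * φ a w * c) * c := by
          simp only [mul_assoc]
  have hbw : φ b w = w := hwB b' hb'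
  refine ⟨a, b, ha2, hb2, ?_⟩
  set z := a * b with hz
  have hzw' : φ z w' = w * (c * c') := by
    rw [hz, map_mul, MulAut.mul_apply, hbw', map_mul, map_mul, hw'A a ha, haw, hc1']
    calc w' * (w * w' * c) * c' = (w' * w') * (w * (c * c')) := by
          simp only [mul_assoc, mul_left_comm, mul_comm]
      _ = _ := by rw [hV2, one_mul]
  have hzw : φ z w = w * w' * c := by
    rw [hz, map_mul, MulAut.mul_apply, hbw, haw]
  have hzc : ∀ d ∈ C0, φ z d = d := fun d hd => ((hC0mem _).1 hd).2 z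
  have hstep : ∀ m : ℕ, (∃ d ∈ C0, φ (z ^ (3 * m)) w' = w' * d) := by
    intro m
    induction m with
    | zero => exact ⟨1, C0.one_mem, by simp⟩
    | succ m ih =>
      obtain ⟨d, hd, hd'⟩ := ih
      have h1 : φ (z ^ (3 * (m + 1))) w' = φ z (φ z (φ z (φ (z ^ (3 * m)) w'))) := by
        have e1 : z ^ (3 * (m + 1)) = z * (z * (z * z ^ (3 * m))) := by
          rw [← pow_succ', ← pow_succ', ← pow_succ']
          congr 1
        have e2 : φ (z * (z * (z * z ^ (3 * m)))) = φ z * (φ z * (φ z * φ (z ^ (3 * m)))) := by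
          rw [map_mul φ z, map_mul φ z, map_mul φ z]
        rw [e1, e2]; rfl
      have h2 : φ z (w' * d) = w * (c * c' * d) := by
        rw [map_mul, hzw', hzc d hd, mul_assoc]
      have h3 : φ z (w * (c * c' * d)) = w * w' * (c' * d) := by
        rw [map_mul, hzw, hzc _ (C0.mul_mem (C0.mul_mem hc hc') hd)]
        calc w * w' * c * (c * c' * d) = w * w' * ((c * c) * (c' * d)) := by simp only [mul_assoc]
          _ = _ := by rw [hV2, one_mul]
      have h4 : φ z (w * w' * (c' * d)) = w' * d := by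
        rw [map_mul, map_mul, hzw, hzw', hzc _ (C0.mul_mem hc' hd)]
        calc w * w' * c * (w * (c * c')) * (c' * d) = (w * w) * (c * c) * (c' * c') * (w' * d) := by
              simp only [mul_assoc, mul_left_comm, mul_comm]
          _ = _ := by simp only [hV2, one_mul]
      refine ⟨d, hd, ?_⟩
      rw [h1, hd', h2, h3, h4]
  obtain ⟨d, hd, hd'⟩ := hstep (orderOf z / 3)
  have hmod := Nat.div_add_mod (orderOf z) 3
  have hlt := Nat.mod_lt (orderOf z) (by norm_num : 0 < 3)
  have hpo := pow_orderOf_eq_one z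
  have hwWA : w ∉ WA := by
    intro hc3
    apply hwC
    exact hfixgen h hh w hw0 hc3.2 hwB
  interval_cases hcase : (orderOf z % 3)
  · exact Nat.dvd_of_mod_eq_zero hcase
  · exfalso
    -- `z ^ (3m+1) = 1`
    rw [← hmod, pow_succ'] at hpo
    have h1 : φ z (φ (z ^ (3 * (orderOf z / 3))) w') = w' := by
      rw [← MulAut.mul_apply, ← map_mul, hpo, map_one]; rfl
    rw [hd', map_mul, hzw', hzc d hd] at h1
    apply hwWA
    have h2 : w = w' * (c * c' * d) := by
      calc w = w * (c * c') * d * (c * c' * d) := by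
            rw [mul_assoc (w * (c * c')), mul_assoc w, ← mul_assoc (c * c') d, hV2, mul_one]
        _ = _ := by rw [h1]
    rw [h2]
    exact WA.mul_mem hw'WA (hC0WA (C0.mul_mem (C0.mul_mem hc hc') hd))
  · exfalso
    rw [← hmod] at hpo
    have h0 : z ^ (3 * (orderOf z / 3) + 2) = z * (z * z ^ (3 * (orderOf z / 3))) := by
      rw [add_comm, pow_add, pow_two, mul_assoc]
    rw [h0] at hpo
    have h1 : φ z (φ z (φ (z ^ (3 * (orderOf z / 3))) w')) = w' := by
      rw [← MulAut.mul_apply, ← MulAut.mul_apply, ← map_mul, ← map_mul, mul_assoc, hpo, map_one]; rfl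
    have h2 : φ z (w' * d) = w * (c * c' * d) := by
      rw [map_mul, hzw', hzc d hd, mul_assoc]
    have h3 : φ z (w * (c * c' * d)) = w * w' * (c' * d) := by
      rw [map_mul, hzw, hzc _ (C0.mul_mem (C0.mul_mem hc hc') hd)]
      calc w * w' * c * (c * c' * d) = w * w' * ((c * c) * (c' * d)) := by simp only [mul_assoc]
        _ = _ := by rw [hV2, one_mul]
    rw [hd', h2, h3] at h1
    apply hwC
    have h4 : w = c' * d := by
      have h5 : w' * (w * (c' * d)) = w' * 1 := by
        rw [mul_one, ← mul_assoc, mul_comm w' w]; exact h1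
      have h6 := mul_left_cancel h5
      rw [← hinv (c' * d)]
      exact eq_inv_of_mul_eq_one_left h6
    rw [h4]
    exact C0.mul_mem hc' hd

end

end Cfsg.Agent.Lib.S4Core
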