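import Mathlib
import Cfsg.Prelude.Def_CaseTheorems
import Cfsg.Prelude.Def_LocalEven
import Cfsg.Prelude.Def_Involutions
import Cfsg.Agent.Lib.LocBase
import Cfsg.Agent.Lib.GroupUtil

/-!
# Maximal 2-local subgroups of `S₄`-free characteristic 2 groups (helper62)

A functor `W` assigning to each nontrivial 2-subgroup `T` a subgroup normal in all 2-locals with Sylow
2-subgroup `T` makes the maximal 2-locals strongly embedded.
-/

set_option autoImplicit false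
set_option linter.unusedSectionVars false

open Subgroup Cfsg

namespace Cfsg.Agent.Lib.S4Free62

open Cfsg.Agent.Lib.LocBase
open scoped Pointwise

variable {G : Type*} [Group G] [Finite G]

/-- `T` is a Sylow 2-subgroup of `N`. -/
def Syl (T N : Subgroup G) : Prop := T ≤ N ∧ IsPGroup 2 T ∧ ∀ Q : Subgroup G, IsPGroup 2 Q → T ≤ Q → Q ≤ N → Q = T

theorem exists_syl {T N : Subgroup G} (hT : IsPGroup 2 T) (hTN : T ≤ N) : ∃ S : Subgroup G, T ≤ S ∧ Syl S N := by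
  classical
  have hfin : (Set.univ : Set (Subgroup G)).Finite := Set.toFinite _
  obtain ⟨S, ⟨hS1, hS2, hS3⟩, hmax⟩ := Set.Finite.exists_maximalFor (fun S : Subgroup G => Nat.card S)
    {S : Subgroup G | T ≤ S ∧ IsPGroup 2 S ∧ S ≤ N} (Set.toFinite _) ⟨T, le_rfl, hT, hTN⟩
  refine ⟨S, hS1, hS3, hS2, fun Q hQ hSQ hQN => ?_⟩
  have := hmax ⟨hS1.trans hSQ, hQ, hQN⟩ (Subgroup.card_le_of_le hSQ)
  exact (Subgroup.eq_of_le_of_card_ge hSQ this).symm

theorem lt_inf_normalizer {T Q : Subgroup G} (hQ : IsPGroup 2 Q) (h : T < Q) :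
    T < Q ⊓ normalizer (T : Set G) := by
  haveI : Fact (Nat.Prime 2) := ⟨Nat.prime_two⟩
  exact GroupUtil.lt_inf_normalizer_of_isPGroup hQ h

/-- Data: every nontrivial 2-subgroup has a `W`. -/
structure WHyp (G : Type*) [Group G] [Finite G] : Prop where
  w : ∀ T : Subgroup G, IsPGroup 2 T → T ≠ ⊥ → ∃ W : Subgroup G, W ≤ T ∧ W ≠ ⊥ ∧
    normalizer (T : Set G) ≤ normalizer (W : Set G) ∧
    ∀ N : Subgroup G, IsTwoLocal N → Syl T N → N ≤ normalizer (W : Set G)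

theorem isTwoLocal_normalizer {W : Subgroup G} (hW : IsPGroup 2 W) (hW1 : W ≠ ⊥) :
    IsTwoLocal (normalizer (W : Set G)) := ⟨W, hW, hW1, rfl⟩

variable (H : WHyp G) {M : Subgroup G} (hM : IsMaximalTwoLocal M)
include H hM

theorem M_ne_bot : M ≠ ⊥ := by
  rintro rfl
  obtain ⟨T, hT, hT1, h⟩ := hM.1
  apply hT1
  rw [eq_bot_iff, h]
  exact le_normalizer

/-- a Sylow 2-subgroup of `M` has `N_G(W(S)) = M`. -/
theorem syl_W {S : Subgroup G} (hS : Syl S M) (hS1 : S ≠ ⊥) :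
    ∃ W : Subgroup G, W ≤ S ∧ W ≠ ⊥ ∧ normalizer (S : Set G) ≤ M ∧ normalizer (W : Set G) = M ∧
      ∀ N : Subgroup G, IsTwoLocal N → Syl S N → N ≤ M := by
  obtain ⟨W, h1, h2, h3, h4⟩ := H.w S hS.2.1 hS1
  have h5 : normalizer (W : Set G) = M :=
    hM.2 _ (isTwoLocal_normalizer (isPGroup_mono hS.2.1 h1) h2) (h4 M hM.1 hS)
  exact ⟨W, h1, h2, h5 ▸ h3, h5, fun N hN hSN => h5 ▸ h4 N hN hSN⟩

theorem syl_ne_bot {S : Subgroup G} (hS : Syl S M) : S ≠ ⊥ := by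
  rintro rfl
  obtain ⟨T, hT, hT1, h⟩ := hM.1
  exact hT1 (hS.2.2 T hT bot_le (by rw [h]; exact le_normalizer))

/-- Sylow 2-subgroups of `M` are Sylow in `G`. -/
theorem syl_top {S : Subgroup G} (hS : Syl S M) {Q : Subgroup G} (hQ : IsPGroup 2 Q) (hSQ : S ≤ Q) : Q = S := by
  obtain ⟨W, -, -, h3, -, -⟩ := syl_W H hM hS (syl_ne_bot H hM hS)
  by_contra hne
  have h1 := lt_inf_normalizer hQ (lt_of_le_of_ne hSQ (Ne.symm hne))
  have h2 := hS.2.2 _ (isPGroup_mono hQ inf_le_left) h1.le (inf_le_right.trans h3)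
  exact h1.ne h2.symm

theorem conj_le {P : Subgroup G} (hP : IsPGroup 2 P) : ∃ h : G, P ≤ M.map (MulAut.conj h).toMonoidHom := by
  haveI : Fact (Nat.Prime 2) := ⟨Nat.prime_two⟩
  obtain ⟨S, -, hS⟩ := exists_syl (T := (⊥ : Subgroup G)) (N := M) (IsPGroup.of_bot) bot_le
  obtain ⟨S', hS'⟩ := hS.2.1.exists_le_sylow
  have h1 : (S' : Subgroup G) = S := syl_top H hM hS S'.isPGroup' hS'
  obtain ⟨P', hP'⟩ := hP.exists_le_sylow
  obtain ⟨h, hh⟩ := MulAction.exists_smul_eq G S' P'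
  refine ⟨h, hP'.trans ?_⟩
  rw [← hh]
  intro x hx
  rw [mem_map_conj]
  have h2 : h⁻¹ * x * h ∈ (S' : Subgroup G) := by
    have h3 : x ∈ (MulAut.conj h) • (S' : Subgroup G) := hx
    rw [Subgroup.mem_pointwise_smul_iff_inv_smul_mem] at h3
    simpa using h3
  exact (h1 ▸ hS.1) h2

theorem N_M : normalizer (M : Set G) ≤ M := by
  obtain ⟨S, -, hS⟩ := exists_syl (T := (⊥ : Subgroup G)) (N := M) (IsPGroup.of_bot) bot_le
  have h0 : pCoreOf 2 M ≠ ⊥ := by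
    obtain ⟨T, hT, hT1, h⟩ := hM.1
    intro hbot
    apply hT1
    rw [eq_bot_iff, ← hbot, h]
    exact le_pCoreOf le_normalizer le_rfl hT
  have h1 : normalizer (pCoreOf 2 M : Set G) = M :=
    hM.2 _ (isTwoLocal_normalizer (isPGroup_pCoreOf 2 M) h0) (le_normalizer_pCoreOf 2 M)
  calc _ ≤ _ := normalizer_le_normalizer_pCoreOf 2 M
    _ = M := h1

theorem sub_of_big {D : Subgroup G}
    (hmax : ∀ Q : Subgroup G, IsPGroup 2 Q → ∀ g : G, g ∉ M → Q ≤ M → Q ≤ M.map (MulAut.conj g).toMonoidHom →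
      Nat.card Q ≤ Nat.card D) {R T : Subgroup G} (hR : R ≤ M) (hRD : Nat.card D < Nat.card R) (hRT : R ≤ T)
    (hT : IsPGroup 2 T) : T ≤ M := by
  obtain ⟨h, hh⟩ := conj_le H hM hT
  by_cases hhM : h ∈ M
  · rwa [map_conj_eq_of_mem (le_normalizer hhM)] at hh
  · exact absurd (hmax R (isPGroup_mono hT hRT) h hhM hR (hRT.trans hh)) (not_le.mpr hRD)

theorem isMaximalTwoLocal_conj (g : G) : IsMaximalTwoLocal (M.map (MulAut.conj g).toMonoidHom) := by
  obtain ⟨⟨T, hT, hT1, h⟩, h2⟩ := hM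
  refine ⟨⟨T.map (MulAut.conj g).toMonoidHom, isPGroup_map_conj hT g, ?_, ?_⟩, ?_⟩
  · intro hb
    exact hT1 ((Subgroup.map_eq_bot_iff_of_injective _ (MulAut.conj g).injective).mp hb)
  · rw [h, map_conj_normalizer]
  · rintro N ⟨T', hT', hT1', rfl⟩ hle
    have h3 := h2 (normalizer ((T'.map (MulAut.conj g⁻¹).toMonoidHom : Subgroup G) : Set G))
      ⟨_, isPGroup_map_conj hT' g⁻¹, fun hb =>
        hT1' ((Subgroup.map_eq_bot_iff_of_injective _ (MulAut.conj g⁻¹).injective).mp hb), rfl⟩ (by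
        rw [← map_conj_normalizer, ← map_conj_le_iff]
        exact hle)
    rw [← h3, map_conj_normalizer, ← map_conj_mul, mul_inv_cancel, map_conj_one]

theorem odd_of_not_mem {g : G} (hg : g ∉ M) : Odd (Nat.card ↥(M ⊓ M.map (MulAut.conj g).toMonoidHom)) := by
  classical
  haveI : Fact (Nat.Prime 2) := ⟨Nat.prime_two⟩
  by_contra hodd
  rw [Nat.not_odd_iff_even, even_iff_two_dvd] at hodd
  obtain ⟨x, hx⟩ := exists_prime_orderOf_dvd_card' 2 hodd
  have hx' : orderOf (x : G) = 2 := by rw [← hx, Subgroup.orderOf_coe]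
  -- maximal D
  obtain ⟨D, ⟨hD2, g₁, hg₁, hDM, hDg⟩, hmax⟩ := Set.Finite.exists_maximalFor (fun S : Subgroup G => Nat.card S)
    {S : Subgroup G | IsPGroup 2 S ∧ ∃ g : G, g ∉ M ∧ S ≤ M ∧ S ≤ M.map (MulAut.conj g).toMonoidHom}
    (Set.toFinite _) ⟨zpowers (x : G), by
      rw [IsPGroup.iff_card]; exact ⟨1, by rw [Nat.card_zpowers, hx', pow_one]⟩, g, hg, by
      rw [zpowers_le]; exact x.2.1, by rw [zpowers_le]; exact x.2.2⟩
  have hmax' : ∀ Q : Subgroup G, IsPGroup 2 Q → ∀ g : G, g ∉ M → Q ≤ M → Q ≤ M.map (MulAut.conj g).toMonoidHom →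
      Nat.card Q ≤ Nat.card D := by
    intro Q hQ g hg h1 h2
    by_contra hlt
    exact hlt (hmax ⟨hQ, g, hg, h1, h2⟩ (le_of_not_ge hlt))
  have hD1 : D ≠ ⊥ := by
    intro hD
    have h1 := hmax' (zpowers (x : G)) (by
      rw [IsPGroup.iff_card]; exact ⟨1, by rw [Nat.card_zpowers, hx', pow_one]⟩) g hg (by
      rw [zpowers_le]; exact x.2.1) (by rw [zpowers_le]; exact x.2.2)
    rw [hD, Subgroup.card_bot, Nat.card_zpowers, hx'] at h1
    omega
  set M' := M.map (MulAut.conj g₁).toMonoidHom with hM'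
  have hM'max : IsMaximalTwoLocal M' := isMaximalTwoLocal_conj H hM g₁
  have hne : M' ≠ M := by
    intro h
    exact hg₁ (N_M H hM (mem_normalizer_of_map_conj_eq h))
  -- `D` is not Sylow in `M` nor in `M'`
  obtain ⟨S', hDS', hS'⟩ := exists_syl hD2 hDM
  obtain ⟨S'', hDS'', hS''⟩ := exists_syl hD2 hDg
  have hcardS : Nat.card S' = Nat.card S'' := by
    obtain ⟨P1, hP1⟩ := hS'.2.1.exists_le_sylow
    obtain ⟨P2, hP2⟩ := hS''.2.1.exists_le_sylow
    have e1 : (P1 : Subgroup G) = S' := syl_top H hM hS' P1.isPGroup' hP1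
    have e2 : (P2 : Subgroup G) = S'' := syl_top H hM'max hS'' P2.isPGroup' hP2
    rw [← e1, ← e2]
    exact Nat.card_congr (Sylow.equiv P1 P2).toEquiv
  have hlt' : D ≠ S' := by
    intro h
    have h2 : D = S'' := Subgroup.eq_of_le_of_card_ge hDS'' (by rw [h]; exact hcardS.ge)
    obtain ⟨W, -, -, -, h3, h4⟩ := syl_W H hM hS' (syl_ne_bot H hM hS')
    have h5 : M' ≤ M := h4 M' hM'max.1 (by rw [← h, h2]; exact hS'')
    exact hne (hM'max.2 M hM.1 h5).symm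
  have hlt'' : D ≠ S'' := by
    intro h
    apply hlt'
    exact Subgroup.eq_of_le_of_card_ge hDS' (by rw [h]; exact hcardS.le)
  have h1 := lt_inf_normalizer hS'.2.1 (lt_of_le_of_ne hDS' hlt')
  have h2 := lt_inf_normalizer hS''.2.1 (lt_of_le_of_ne hDS'' hlt'')
  have hND : ¬ normalizer (D : Set G) ≤ M := by
    intro hle
    have h3 := hmax' _ (isPGroup_mono hS''.2.1 (inf_le_left : S'' ⊓ normalizer (D : Set G) ≤ _)) g₁ hg₁
      (inf_le_right.trans hle) (inf_le_left.trans hS''.1)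
    exact absurd (GroupUtil.card_lt_card h2) (not_lt.mpr h3)
  obtain ⟨T₀, hT₀, hT₀s⟩ := exists_syl (isPGroup_mono hS'.2.1 (inf_le_left : S' ⊓ normalizer (D : Set G) ≤ _))
    (inf_le_right : S' ⊓ normalizer (D : Set G) ≤ normalizer (D : Set G))
  have hT₀M : T₀ ≤ M := sub_of_big H hM hmax' (inf_le_left.trans hS'.1) (GroupUtil.card_lt_card h1) hT₀ hT₀s.2.1
  have hT₀c : Nat.card D < Nat.card T₀ := (GroupUtil.card_lt_card h1).trans_le (Subgroup.card_le_of_le hT₀)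
  obtain ⟨T, ⟨Y, hY2, hY1, hYM, hTs, hTM, hTc⟩, hTmax⟩ := Set.Finite.exists_maximalFor
    (fun S : Subgroup G => Nat.card S)
    {T : Subgroup G | ∃ Y : Subgroup G, IsPGroup 2 Y ∧ Y ≠ ⊥ ∧ ¬ normalizer (Y : Set G) ≤ M ∧
      Syl T (normalizer (Y : Set G)) ∧ T ≤ M ∧ Nat.card D < Nat.card T}
    (Set.toFinite _) ⟨T₀, D, hD2, hD1, hND, hT₀s, hT₀M, hT₀c⟩
  have hT1 : T ≠ ⊥ := by
    intro h
    rw [h, Subgroup.card_bot] at hTc
    have := Nat.card_pos (α := D)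
    omega
  obtain ⟨W, hWT, hW1, hNT, hNW⟩ := H.w T hTs.2.1 hT1
  have hYW : normalizer (Y : Set G) ≤ normalizer (W : Set G) := hNW _ (isTwoLocal_normalizer hY2 hY1) hTs
  have hWM : ¬ normalizer (W : Set G) ≤ M := fun h => hYM (hYW.trans h)
  obtain ⟨S₁, hTS₁, hS₁⟩ := exists_syl hTs.2.1 hTM
  by_cases hTS : T = S₁
  · exact hWM (hM.2 _ (isTwoLocal_normalizer (isPGroup_mono hTs.2.1 hWT) hW1)
      (hNW M hM.1 (by rw [hTS]; exact hS₁))).le
  · have h3 := lt_inf_normalizer hS₁.2.1 (lt_of_le_of_ne hTS₁ hTS)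
    obtain ⟨T₁, hT₁, hT₁s⟩ := exists_syl (isPGroup_mono hS₁.2.1 (inf_le_left : S₁ ⊓ normalizer (T : Set G) ≤ _))
      (inf_le_right.trans hNT : S₁ ⊓ normalizer (T : Set G) ≤ normalizer (W : Set G))
    have hT₁M : T₁ ≤ M := sub_of_big H hM hmax' (inf_le_left.trans hS₁.1)
      (hTc.trans (GroupUtil.card_lt_card h3)) hT₁ hT₁s.2.1
    have h4 : Nat.card T < Nat.card T₁ := (GroupUtil.card_lt_card h3).trans_le (Subgroup.card_le_of_le hT₁)
    exact absurd (hTmax ⟨W, isPGroup_mono hTs.2.1 hWT, hW1, hWM, hT₁s, hT₁M, hTc.trans h4⟩ h4.le)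
      (not_le.mpr h4)

theorem main (hO : pCore 2 G = ⊥) : IsStronglyEmbedded M := by
  refine ⟨?_, ?_, fun g hg => odd_of_not_mem H hM hg⟩
  · intro htop
    obtain ⟨T, hT, hT1, h⟩ := hM.1
    apply hT1
    rw [eq_bot_iff, ← hO]
    exact le_pCore (Subgroup.normalizer_eq_top_iff.mp (h.symm.trans htop)) hT
  · haveI : Fact (Nat.Prime 2) := ⟨Nat.prime_two⟩
    obtain ⟨T, hT, hT1, h⟩ := hM.1
    obtain ⟨n, hn⟩ := IsPGroup.iff_card.mp hT
    have hn0 : n ≠ 0 := by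
      rintro rfl
      rw [pow_zero, Subgroup.card_eq_one] at hn
      exact hT1 hn
    have h1 : 2 ∣ Nat.card T := by rw [hn]; exact dvd_pow_self 2 hn0
    exact even_iff_two_dvd.mpr (h1.trans (Subgroup.card_dvd_of_le (by rw [h]; exact le_normalizer)))

end Cfsg.Agent.Lib.S4Free62
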