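import Mathlib
import Cfsg.Prelude.Def_Solvable
import Cfsg.Prelude.Def_Transfer
import Cfsg.Prelude.Def_LocalEven
import Cfsg.Agent.Lib.H34Basic
import Cfsg.Agent.Lib.H34SolvOff
import Cfsg.Agent.Lib.H34S4

/-!
# Minimal overgroups of an elementary abelian subgroup not contained in `O_p` (helper11)

`Γ` finite with all `p`-subgroups abelian, `A` a `p`-subgroup not in `O_p(Γ)` but in `O_p(X)` for all
proper overgroups `X` of `A`: there is a unique maximal overgroup `L`.
-/

set_option autoImplicit false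

namespace Cfsg.Agent.Lib.S4Min

open Subgroup Cfsg.Agent.Lib.H34Basic Cfsg.Agent.Lib.H34SolvOff Cfsg.Agent.Lib.H34S4

variable {Γ : Type*} [Group Γ]

/-- the subgroup generated by the conjugates of `A` contained in `X` -/
def BX (A X : Subgroup Γ) : Subgroup Γ :=
  Subgroup.closure {x | ∃ g : Γ, (∀ a ∈ A, g * a * g⁻¹ ∈ X) ∧ ∃ a ∈ A, x = g * a * g⁻¹}

theorem BX_le (A X : Subgroup Γ) : BX A X ≤ X := by
  unfold BX
  rw [Subgroup.closure_le]
  rintro _ ⟨g, hg, a, ha, rfl⟩
  exact hg a ha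

theorem mem_BX {A X : Subgroup Γ} {g : Γ} (hg : ∀ a ∈ A, g * a * g⁻¹ ∈ X) {a : Γ} (ha : a ∈ A) :
    g * a * g⁻¹ ∈ BX A X := Subgroup.subset_closure ⟨g, hg, a, ha, rfl⟩

theorem le_BX {A X : Subgroup Γ} (h : A ≤ X) : A ≤ BX A X := by
  intro a ha
  have := mem_BX (A := A) (X := X) (g := 1) (fun a ha => by simpa using h ha) ha
  simpa using this

theorem BX_conj (A X : Subgroup Γ) {x : Γ} (hx : x ∈ X) : ∀ b ∈ BX A X, x * b * x⁻¹ ∈ BX A X := by
  intro b hb
  have h1 : BX A X ≤ (BX A X).comap (MulAut.conj x).toMonoidHom := by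
    conv_lhs => unfold BX
    rw [Subgroup.closure_le]
    rintro _ ⟨g, hg, a, ha, rfl⟩
    show x * (g * a * g⁻¹) * x⁻¹ ∈ BX A X
    have h2 : x * (g * a * g⁻¹) * x⁻¹ = (x * g) * a * (x * g)⁻¹ := by group
    rw [h2]
    refine mem_BX ?_ ha
    intro a' ha'
    have h3 : (x * g) * a' * (x * g)⁻¹ = x * (g * a' * g⁻¹) * x⁻¹ := by group
    rw [h3]
    exact X.mul_mem (X.mul_mem hx (hg a' ha')) (X.inv_mem hx)
  exact h1 hb

theorem le_normalizer_BX (A X : Subgroup Γ) : X ≤ Subgroup.normalizer (BX A X : Set Γ) := by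
  intro x hx
  rw [Subgroup.mem_normalizer_iff]
  intro b
  constructor
  · exact BX_conj A X hx b
  · intro h
    have := BX_conj A X (X.inv_mem hx) _ h
    have h2 : x⁻¹ * (x * b * x⁻¹) * x⁻¹⁻¹ = b := by group
    rwa [h2] at this

theorem BX_mono {A X Y : Subgroup Γ} (h : X ≤ Y) : BX A X ≤ BX A Y := by
  unfold BX
  apply Subgroup.closure_mono
  rintro _ ⟨g, hg, a, ha, rfl⟩
  exact ⟨g, fun a ha => h (hg a ha), a, ha, rfl⟩

/-- the union of two normal `p`-subgroups -/
theorem pgroup_sup_of_normalizes {p : ℕ} {N M : Subgroup Γ} (hN : IsPGroup p N) (hM : IsPGroup p M)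
    (h : N ≤ Subgroup.normalizer (M : Set Γ)) : IsPGroup p (N ⊔ M : Subgroup Γ) :=
  hN.to_sup_of_normal_right' hM h

variable [Finite Γ]

/-- in the situation of the minimality hypothesis, `BX A X` is a `p`-group -/
theorem BX_pgroup {p : ℕ} [Fact p.Prime] (A : Subgroup Γ)
    (hmin : ∀ X : Subgroup Γ, A ≤ X → X ≠ ⊤ → A ≤ (Cfsg.pCore p X).map X.subtype)
    (X : Subgroup Γ) (hXt : X ≠ ⊤) : IsPGroup p (BX A X) := by
  classical
  have h1 : IsPGroup p ((Cfsg.pCore p X).map X.subtype : Subgroup Γ) := (isPGroup_pCore p).map _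
  refine h1.to_le ?_
  unfold BX
  rw [Subgroup.closure_le]
  rintro _ ⟨g, hg, a, ha, rfl⟩
  let X' : Subgroup Γ := X.comap (MulAut.conj g).toMonoidHom
  have hAX' : A ≤ X' := fun a ha => hg a ha
  have hX't : X' ≠ ⊤ := by
    intro h
    apply hXt
    rw [eq_top_iff]
    intro x _
    have h2 : g⁻¹ * x * g ∈ X' := by rw [h]; trivial
    have h3 : g * (g⁻¹ * x * g) * g⁻¹ ∈ X := h2
    have h4 : g * (g⁻¹ * x * g) * g⁻¹ = x := by group
    rwa [h4] at h3
  have hm := hmin X' hAX' hX't ha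
  obtain ⟨y, hy, hya⟩ := hm
  -- transport along the conjugation isomorphism
  let e : X' ≃* X :=
    { toFun := fun y => ⟨g * y * g⁻¹, y.2⟩
      invFun := fun x => ⟨g⁻¹ * x * g, by
        show g * (g⁻¹ * x * g) * g⁻¹ ∈ X
        have h4 : g * (g⁻¹ * (x : Γ) * g) * g⁻¹ = x := by group
        rw [h4]; exact x.2⟩
      left_inv := fun y => by apply Subtype.ext; simp [mul_assoc]
      right_inv := fun x => by apply Subtype.ext; simp [mul_assoc]
      map_mul' := fun y z => by apply Subtype.ext; simp [mul_assoc] }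
  have h5 : (Cfsg.pCore p X').map e.toMonoidHom ≤ Cfsg.pCore p X := by
    have hn : (Cfsg.pCore p X').Normal := Subgroup.sSup_normal _ (fun _ h => h.1)
    refine le_sSup ⟨?_, ?_⟩
    · exact Subgroup.Normal.map hn _ e.surjective
    · exact (isPGroup_pCore p).map _
  refine ⟨e y, h5 ⟨y, hy, rfl⟩, ?_⟩
  show g * (y : Γ) * g⁻¹ = g * a * g⁻¹
  have : (y : Γ) = a := hya
  rw [this]

omit [Finite Γ] in
theorem le_pCore_of_normal {p : ℕ} {N : Subgroup Γ} (hn : N.Normal) (hp : IsPGroup p N) : N ≤ Cfsg.pCore p Γ :=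
  le_sSup ⟨hn, hp⟩

/-- **The structure lemma**. -/
theorem structure_lemma {p : ℕ} [Fact p.Prime]
    (hab : ∀ P : Subgroup Γ, IsPGroup p P → ∀ x ∈ P, ∀ y ∈ P, x * y = y * x)
    (A : Subgroup Γ) (hA : IsPGroup p A) (hAO : ¬ A ≤ Cfsg.pCore p Γ)
    (hmin : ∀ X : Subgroup Γ, A ≤ X → X ≠ ⊤ → A ≤ (Cfsg.pCore p X).map X.subtype) :
    ∃ L : Subgroup Γ, L ≠ ⊤ ∧ A ≤ L ∧ (∀ X : Subgroup Γ, A ≤ X → X ≠ ⊤ → X ≤ L) ∧
      (∀ h : Γ, (∀ a ∈ A, h * a * h⁻¹ ∈ L) → h ∈ L) ∧
      (∀ h : Γ, h ∉ L → ∀ a ∈ A, h⁻¹ * a * h ∈ L → a ∈ Cfsg.pCore p Γ) := by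
  classical
  have hAtop : A ≠ ⊤ := by
    intro h
    apply hAO
    exact le_pCore_of_normal (by rw [h]; infer_instance) hA
  set C : Subgroup Γ := Subgroup.centralizer (A : Set Γ) with hC
  have hAC : A ≤ C := by
    intro a ha
    rw [hC, Subgroup.mem_centralizer_iff]
    intro b hb
    exact hab A hA b hb a ha
  have hCt : C ≠ ⊤ := by
    intro h
    apply hAO
    refine le_pCore_of_normal ⟨?_⟩ hA
    intro a ha g
    have h1 : g ∈ C := by rw [h]; trivial
    have h2 := Subgroup.mem_centralizer_iff.1 h1 a ha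
    rw [← h2]
    simpa using ha
  set B0 := BX A C with hB0
  have hB0p : IsPGroup p B0 := BX_pgroup A hmin C hCt
  have hAB0 : A ≤ B0 := le_BX hAC
  -- every proper overgroup of `A` normalizes `B0`
  have hBXle : ∀ X : Subgroup Γ, A ≤ X → X ≠ ⊤ → BX A X ≤ B0 := by
    intro X hAX hXt
    have hp := BX_pgroup A hmin X hXt
    have hAB := le_BX hAX
    -- each conjugate of `A` in `X` centralizes `A`
    rw [hB0]
    unfold BX
    apply Subgroup.closure_mono
    rintro _ ⟨g, hg, a, ha, rfl⟩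
    refine ⟨g, ?_, a, ha, rfl⟩
    intro a' ha'
    rw [hC, Subgroup.mem_centralizer_iff]
    intro b hb
    exact hab _ hp b (hAB hb) _ (mem_BX hg ha')
  have hNprop : ∀ Y : Subgroup Γ, IsPGroup p Y → A ≤ Y → Subgroup.normalizer (Y : Set Γ) ≠ ⊤ := by
    intro Y hY hAY h
    apply hAO
    exact hAY.trans (le_pCore_of_normal (Subgroup.normalizer_eq_top_iff.1 h) hY)
  have hkey : ∀ X : Subgroup Γ, A ≤ X → X ≠ ⊤ → X ≤ Subgroup.normalizer (B0 : Set Γ) := by
    intro X hAX hXt
    have hp := BX_pgroup A hmin X hXt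
    have hAB := le_BX hAX
    set X' : Subgroup Γ := Subgroup.normalizer (BX A X : Set Γ) with hX'
    have hXX' : X ≤ X' := le_normalizer_BX A X
    have hX't : X' ≠ ⊤ := hNprop _ hp hAB
    have hB0X' : B0 ≤ X' := by
      intro b hb
      rw [hX', Subgroup.mem_normalizer_iff]
      intro y
      constructor
      · intro hy
        have h1 := hab B0 hB0p b hb y (hBXle X hAX hXt hy)
        rw [h1]; simpa using hy
      · intro hy
        have h1 := hab B0 hB0p b hb _ (hBXle X hAX hXt hy)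
        have h2 : y * b⁻¹ = b * y * b⁻¹ * b⁻¹ := by
          have h3 : b * (b * y * b⁻¹) * b⁻¹ = b * y * b⁻¹ := by rw [h1]; group
          have h4 : b * y * b⁻¹ = y := by
            have h5 := congrArg (fun z => b⁻¹ * z * b) h3
            have h6 : b⁻¹ * (b * (b * y * b⁻¹) * b⁻¹) * b = b * y * b⁻¹ := by group
            have h7 : b⁻¹ * (b * y * b⁻¹) * b = y := by group
            simp only [h6, h7] at h5
            exact h5
          rw [h4]
        have h3 : y = b * y * b⁻¹ := by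
          have := congrArg (fun z => z * b) h2
          simpa [mul_assoc] using this
        rw [h3]; exact hy
    have h1 : BX A X' ≤ B0 := hBXle X' (hAX.trans hXX') hX't
    have h2 : B0 ≤ BX A X' := by
      conv_lhs => rw [hB0]; unfold BX
      rw [Subgroup.closure_le]
      rintro _ ⟨g, hg, a, ha, rfl⟩
      refine mem_BX ?_ ha
      intro a' ha'
      exact hB0X' (mem_BX hg ha')
    have h3 : BX A X' = B0 := le_antisymm h1 h2
    rw [← h3]
    exact hXX'.trans (le_normalizer_BX A X')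
  set L : Subgroup Γ := Subgroup.normalizer (B0 : Set Γ) with hL
  have hLt : L ≠ ⊤ := hNprop _ hB0p hAB0
  have hAL : A ≤ L := hAB0.trans Subgroup.le_normalizer
  have hkey2 : ∀ h : Γ, (∀ a ∈ A, h * a * h⁻¹ ∈ L) → h ∈ L := by
    intro h hh
    -- `h⁻¹ L h ≥ A` is proper
    have h1 : L.comap (MulAut.conj h).toMonoidHom ≤ L := by
      apply hkey
      · intro a ha; exact hh a ha
      · intro htop
        apply hLt
        rw [eq_top_iff]
        intro x _
        have h2 : h⁻¹ * x * h ∈ L.comap (MulAut.conj h).toMonoidHom := by rw [htop]; trivial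
        have h3 : h * (h⁻¹ * x * h) * h⁻¹ ∈ L := h2
        have h4 : h * (h⁻¹ * x * h) * h⁻¹ = x := by group
        rwa [h4] at h3
    have h2 : h⁻¹ ∈ Subgroup.normalizer (L : Set Γ) := by
      apply mem_normalizer_of_forall
      intro x hx
      apply h1
      show h * (h⁻¹ * x * h⁻¹⁻¹) * h⁻¹ ∈ L
      have h4 : h * (h⁻¹ * x * h⁻¹⁻¹) * h⁻¹ = x := by group
      rwa [h4]
    have h3 : Subgroup.normalizer (L : Set Γ) ≤ L := by
      apply hkey
      · exact hAL.trans Subgroup.le_normalizer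
      · intro htop
        have hLn : L.Normal := Subgroup.normalizer_eq_top_iff.1 htop
        have hp := BX_pgroup A hmin L hLt
        apply hAO
        have h5 : A ≤ BX A L := le_BX hAL
        refine h5.trans (le_pCore_of_normal ?_ hp)
        refine ⟨?_⟩
        intro b hb g
        have h6 : BX A L ≤ (BX A L).comap (MulAut.conj g).toMonoidHom := by
          conv_lhs => unfold BX
          rw [Subgroup.closure_le]
          rintro _ ⟨g', hg', a, ha, rfl⟩
          show g * (g' * a * g'⁻¹) * g⁻¹ ∈ BX A L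
          have h2 : g * (g' * a * g'⁻¹) * g⁻¹ = (g * g') * a * (g * g')⁻¹ := by group
          rw [h2]
          refine mem_BX ?_ ha
          intro a' ha'
          have h3 : (g * g') * a' * (g * g')⁻¹ = g * (g' * a' * g'⁻¹) * g⁻¹ := by group
          rw [h3]
          exact hLn.conj_mem _ (hg' a' ha') g
        exact h6 hb
    have h4 := L.inv_mem (h3 h2)
    simpa using h4
  refine ⟨L, hLt, hAL, hkey, hkey2, ?_⟩
  intro h hh a ha hahL
  by_contra hcon
  -- the centralizer of `a` lies in `L`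
  have hCa : Subgroup.centralizer ({a} : Set Γ) ≤ L := by
    apply hkey
    · intro b hb
      rw [Subgroup.mem_centralizer_iff]
      rintro _ rfl
      exact hab A hA _ ha b hb
    · intro htop
      apply hcon
      have hz : ∀ g : Γ, a * g = g * a := by
        intro g
        have h1 : g ∈ Subgroup.centralizer ({a} : Set Γ) := by rw [htop]; trivial
        exact Subgroup.mem_centralizer_iff.1 h1 a rfl
      have h2 : (Subgroup.zpowers a).Normal := by
        refine ⟨?_⟩
        rintro _ ⟨k, rfl⟩ g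
        refine ⟨k, ?_⟩
        show a ^ k = g * a ^ k * g⁻¹
        have h3 : Commute a g := hz g
        have h4 : a ^ k * g = g * a ^ k := (h3.zpow_left k).eq
        rw [← h4]; group
      have h3 : IsPGroup p (Subgroup.zpowers a) := hA.to_le (by rw [Subgroup.zpowers_le]; exact ha)
      exact le_pCore_of_normal h2 h3 (Subgroup.mem_zpowers a)
  -- `⟨h⁻¹ a h⟩ B0` is a `p`-group
  have hP : IsPGroup p (Subgroup.zpowers (h⁻¹ * a * h) ⊔ B0 : Subgroup Γ) := by
    refine pgroup_sup_of_normalizes ?_ hB0p ?_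
    · have h3 : IsPGroup p (Subgroup.zpowers a) := hA.to_le (by rw [Subgroup.zpowers_le]; exact ha)
      have h4 : Subgroup.zpowers (h⁻¹ * a * h) = (Subgroup.zpowers a).map (MulAut.conj h⁻¹).toMonoidHom := by
        rw [MonoidHom.map_zpowers]
        congr 1
        simp
      rw [h4]
      exact h3.map _
    · rw [Subgroup.zpowers_le]
      exact hahL
  apply hh
  apply hkey2
  intro b hb
  apply hCa
  rw [Subgroup.mem_centralizer_iff]
  intro x hx
  rw [Set.mem_singleton_iff.1 hx]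
  have h5 := hab _ hP (h⁻¹ * a * h) (Subgroup.mem_sup_left (Subgroup.mem_zpowers _)) b
    (Subgroup.mem_sup_right (hAB0 hb))
  calc a * (h * b * h⁻¹) = h * ((h⁻¹ * a * h) * b) * h⁻¹ := by group
    _ = h * (b * (h⁻¹ * a * h)) * h⁻¹ := by rw [h5]
    _ = h * b * h⁻¹ * a := by group

end Cfsg.Agent.Lib.S4Min
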