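import Cfsg.Agent.Lib.S4Core

/-!
# Two involutions with product of order divisible by three (helper11)
-/

set_option autoImplicit false

namespace Cfsg.Agent.Lib.S4Plane

open Subgroup Cfsg.Agent.Lib.H34Basic Cfsg.Agent.Lib.H34SolvOff Cfsg.Agent.Lib.H34S4 Cfsg.Agent.Lib.S4Min
  Cfsg.Agent.Lib.S4Core

theorem exists_plane {V : Type*} [CommGroup V] (hV2 : ∀ v : V, v * v = 1) (a ξ : MulAut V)
    (ha : a * a = 1) (hξ1 : ξ ≠ 1) (hξ3 : ξ ^ 3 = 1) (hinv : a * ξ * a⁻¹ = ξ⁻¹) :
    ∃ W : Subgroup V, Nat.card W = 4 ∧ (∀ w ∈ W, ξ w ∈ W) ∧ (∀ w ∈ W, a w ∈ W) ∧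
      (∀ w ∈ W, ξ w = w → w = 1) ∧ ∃ w ∈ W, w ≠ 1 ∧ a w = w := by
  classical
  have hinvV : ∀ v : V, v⁻¹ = v := fun v => inv_eq_of_mul_eq_one_left (hV2 v)
  have h333 : ∀ v, ξ (ξ (ξ v)) = v := by
    intro v
    have : (ξ ^ 3) v = v := by rw [hξ3]; rfl
    exact this
  have hξi : ∀ v, ξ⁻¹ v = ξ (ξ v) := by
    intro v
    have h1 : ξ⁻¹ = ξ ^ 2 := by
      rw [inv_eq_iff_mul_eq_one, ← pow_succ']; exact hξ3
    rw [h1]; rfl
  have haa : ∀ v, a (a v) = v := by
    intro v
    have : (a * a) v = v := by rw [ha]; rfl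
    exact this
  have haξ : ∀ v, a (ξ v) = ξ (ξ (a v)) := by
    intro v
    have h1 : a * ξ = ξ⁻¹ * a := by rw [← hinv]; group
    have h2 : (a * ξ) v = (ξ⁻¹ * a) v := by rw [h1]
    have h3 : a (ξ v) = ξ⁻¹ (a v) := h2
    rw [h3, hξi]
  -- an element of trace one
  obtain ⟨u, hu⟩ : ∃ u, ξ u ≠ u := by
    by_contra hcon
    push Not at hcon
    apply hξ1
    ext v
    exact hcon v
  have htr : ∀ u : V, (u * ξ u) * (ξ (u * ξ u) * ξ (ξ (u * ξ u))) = 1 := by
    intro u
    rw [map_mul, map_mul, h333]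
    calc u * ξ u * (ξ u * ξ (ξ u) * (ξ (ξ u) * u)) = (u * u) * ((ξ u * ξ u) * (ξ (ξ u) * ξ (ξ u))) := by
          simp only [mul_assoc, mul_left_comm, mul_comm]
      _ = 1 := by simp only [hV2]
  obtain ⟨v, hv1, hvtr, hav⟩ : ∃ v : V, v ≠ 1 ∧ v * (ξ v * ξ (ξ v)) = 1 ∧ a v = v := by
    obtain ⟨t, ht⟩ : ∃ t, t = u * ξ u := ⟨_, rfl⟩
    have ht1 : t ≠ 1 := by
      intro h
      apply hu
      rw [ht] at h
      have := eq_inv_of_mul_eq_one_right h
      rw [this, hinvV]
    have httr : t * (ξ t * ξ (ξ t)) = 1 := by rw [ht]; exact htr u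
    by_cases h : a t = t
    · exact ⟨t, ht1, httr, h⟩
    · refine ⟨t * a t, ?_, ?_, ?_⟩
      · intro h1
        apply h
        have := eq_inv_of_mul_eq_one_right h1
        rw [this, hinvV]
      · have h1 : ξ (a t) = a (ξ (ξ t)) := by rw [haξ, haξ, h333]
        have h2 : ξ (ξ (a t)) = a (ξ t) := by rw [haξ]
        have h3 : a t * (a (ξ (ξ t)) * a (ξ t)) = 1 := by
          rw [← map_mul, ← map_mul, mul_comm (ξ (ξ t)), httr, map_one]
        rw [map_mul, map_mul, h2, h1]
        calc t * a t * (ξ t * a (ξ (ξ t)) * (ξ (ξ t) * a (ξ t)))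
            = (t * (ξ t * ξ (ξ t))) * (a t * (a (ξ (ξ t)) * a (ξ t))) := by
              simp only [mul_assoc, mul_left_comm, mul_comm]
          _ = 1 := by rw [httr, h3, one_mul]
      · rw [map_mul, haa, mul_comm]
  -- the plane
  have e1 : v * ξ v = ξ (ξ v) := by
    have := eq_inv_of_mul_eq_one_left (show (v * ξ v) * ξ (ξ v) = 1 by rw [mul_assoc]; exact hvtr)
    rw [this, hinvV]
  have e2 : ξ v * ξ (ξ v) = v := by rw [← map_mul, e1, h333]
  have e3 : v * ξ (ξ v) = ξ v := by
    rw [← e1, ← mul_assoc, hV2, one_mul]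
  have hxw : ξ v ≠ v := by
    intro h
    rw [h, h, hV2, mul_one] at hvtr
    exact hv1 hvtr
  have hxw1 : ξ v ≠ 1 := fun h => hv1 (ξ.injective (h.trans (map_one ξ).symm))
  have hxxw1 : ξ (ξ v) ≠ 1 := fun h => hxw1 (ξ.injective (h.trans (map_one ξ).symm))
  have hxxw2 : ξ (ξ v) ≠ ξ v := fun h => hxw (ξ.injective h)
  have hxxw : ξ (ξ v) ≠ v := by
    intro h
    have h2 := congrArg ξ h
    rw [h333] at h2
    exact hxw h2.symm
  let W : Subgroup V :=
    { carrier := {x | x = 1 ∨ x = v ∨ x = ξ v ∨ x = ξ (ξ v)}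
      mul_mem' := by
        rintro x y (rfl | rfl | rfl | rfl) (rfl | rfl | rfl | rfl)
        · left; rw [one_mul]
        · right; left; rw [one_mul]
        · right; right; left; rw [one_mul]
        · right; right; right; rw [one_mul]
        · right; left; rw [mul_one]
        · left; exact hV2 _
        · right; right; right; exact e1
        · right; right; left; exact e3
        · right; right; left; rw [mul_one]
        · right; right; right; rw [mul_comm]; exact e1
        · left; exact hV2 _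
        · right; left; exact e2
        · right; right; right; rw [mul_one]
        · right; right; left; rw [mul_comm]; exact e3
        · right; left; rw [mul_comm]; exact e2
        · left; exact hV2 _
      one_mem' := Or.inl rfl
      inv_mem' := by
        intro x hx
        rw [hinvV]; exact hx }
  refine ⟨W, ?_, ?_, ?_, ?_, v, Or.inr (Or.inl rfl), hv1, hav⟩
  · have hS : ({1, v, ξ v, ξ (ξ v)} : Finset V).card = 4 := by
      rw [Finset.card_insert_of_notMem, Finset.card_insert_of_notMem, Finset.card_insert_of_notMem,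
        Finset.card_singleton]
      · simpa using hxxw2.symm
      · simp only [Finset.mem_insert, Finset.mem_singleton, not_or]
        exact ⟨hxw.symm, hxxw.symm⟩
      · simp only [Finset.mem_insert, Finset.mem_singleton, not_or]
        exact ⟨hv1.symm, hxw1.symm, hxxw1.symm⟩
    have hWeq : (({1, v, ξ v, ξ (ξ v)} : Finset V) : Set V) = (W : Set V) := by
      ext x
      simp only [Finset.coe_insert, Finset.coe_singleton, Set.mem_insert_iff, Set.mem_singleton_iff]
      rfl
    have hWn : Nat.card W = (W : Set V).ncard := rfl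
    rw [hWn, ← hWeq, Set.ncard_coe_finset, hS]
  · rintro w (rfl | rfl | rfl | rfl)
    · left; exact map_one _
    · right; right; left; rfl
    · right; right; right; rfl
    · right; left; exact h333 _
  · rintro w (rfl | rfl | rfl | rfl)
    · left; exact map_one _
    · right; left; exact hav
    · right; right; right
      rw [haξ, hav]
    · right; right; left
      rw [haξ, haξ, hav, h333]
  · rintro w (rfl | rfl | rfl | rfl) h
    · rfl
    · exact absurd h hxw
    · exact absurd h hxxw2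
    · rw [h333] at h; exact absurd h.symm hxxw

theorem exists_xi {M : Type*} [Group M] (a b : M) (ha : a * a = 1) (hb : b * b = 1)
    (hfin : orderOf (a * b) ≠ 0) (h3 : 3 ∣ orderOf (a * b)) :
    ∃ k : ℕ, (a * b) ^ k ≠ 1 ∧ ((a * b) ^ k) ^ 3 = 1 ∧ a * (a * b) ^ k * a⁻¹ = ((a * b) ^ k)⁻¹ := by
  obtain ⟨k, hk⟩ := h3
  refine ⟨k, ?_, ?_, ?_⟩
  · intro h
    have h1 := orderOf_dvd_of_pow_eq_one h
    rw [hk] at h1
    have hk0 : 0 < k := by
      rcases Nat.eq_zero_or_pos k with h | h
      · rw [h] at hk; omega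
      · exact h
    have := Nat.le_of_dvd hk0 h1
    omega
  · rw [← pow_mul, mul_comm k 3, ← hk, pow_orderOf_eq_one]
  · rw [← conj_pow, ← inv_pow]
    congr 1
    have hai : a⁻¹ = a := inv_eq_of_mul_eq_one_left ha
    have hbi : b⁻¹ = b := inv_eq_of_mul_eq_one_left hb
    rw [mul_inv_rev, hai, hbi, ← mul_assoc, ha, one_mul]

/-- two involutions in `Aut_G(V)` with product of order divisible by three: `S₄` is involved -/
theorem s4_of_dihedral {G : Type*} [Group G] [Finite G] (V : Subgroup G) [V.Normal] (hVp : IsPGroup 2 V)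
    (hVc : ∀ u v : V, u * v = v * u) (hV2 : ∀ v : V, v * v = 1) (a b : MulAut V)
    (ha : a ∈ (MulAut.conjNormal : G →* MulAut V).range) (hb : b ∈ (MulAut.conjNormal : G →* MulAut V).range)
    (haa : a * a = 1) (hbb : b * b = 1) (h3 : 3 ∣ orderOf (a * b)) : Cfsg.Involves (Equiv.Perm (Fin 4)) G := by
  classical
  obtain ⟨k, hk1, hk3, hki⟩ := exists_xi a b haa hbb (orderOf_pos _).ne' h3
  let _ : CommGroup V := { (inferInstance : Group V) with mul_comm := hVc }
  obtain ⟨W, hW4, hWx, hWa, hfpf, -⟩ := exists_plane hV2 a ((a * b) ^ k) haa hk1 hk3 hki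
  exact involves_S4_of_aut V hVp a ((a * b) ^ k) ha (Subgroup.pow_mem _ (Subgroup.mul_mem _ ha hb) k) W hk1 hk3
    hki hW4 hWx hWa hfpf

end Cfsg.Agent.Lib.S4Plane
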