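import Mathlib
import Cfsg.Agent.Lib.S4XSign
import Cfsg.Agent.Lib.C3XLocal
import Cfsg.Agent.Lib.H55ThreeInv
import Cfsg.Agent.Lib.QWFusion
import Cfsg.Agent.Lib.DihSylow2
import Cfsg.Agent.Lib.SylowTools

/-!
# An element of order 4 with centralizer of order 4 in a simple group: Sylow 2-subgroup (helper20)
-/

set_option autoImplicit false

open Subgroup Equiv Equiv.Perm

namespace Cfsg.Agent.Lib.S4X

open Cfsg Cfsg.Agent.Lib.DihSylow

universe u

variable {G : Type u} [Group G] [Finite G]

theorem hom_units_trivial [IsSimpleGroup G] (hG : ¬ IsMulCommutative G) (φ : G →* ℤˣ) (g : G) :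
    φ g = 1 := by
  rcases (inferInstance : φ.ker.Normal).eq_bot_or_eq_top with h | h
  · exfalso
    have hinj : Function.Injective φ := (MonoidHom.ker_eq_bot_iff φ).1 h
    exact hG ⟨⟨fun a b => hinj (by rw [map_mul, map_mul, mul_comm])⟩⟩
  · have : g ∈ φ.ker := by rw [h]; trivial
    exact this

theorem no_index_two [IsSimpleGroup G] (hG : ¬ IsMulCommutative G) (H : Subgroup G) : H.index ≠ 2 := by
  intro h
  have hn : H.Normal := Subgroup.normal_of_index_eq_two h
  rcases hn.eq_bot_or_eq_top with h1 | h1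
  · rw [h1, Subgroup.index_bot] at h
    haveI : Fact (Nat.Prime 2) := ⟨Nat.prime_two⟩
    haveI := isCyclic_of_prime_card h
    exact hG ⟨⟨fun a b => (IsCyclic.commGroup (α := G)).mul_comm a b⟩⟩
  · rw [h1, Subgroup.index_top] at h
    omega

theorem card_fixed (H : Subgroup G) (a : G) :
    Nat.card {g : G // g⁻¹ * a * g ∈ H} =
      Nat.card H * Nat.card (Function.fixedPoints ⇑(MulAction.toPerm a : Perm (G ⧸ H))) := by
  set t : Set (G ⧸ H) := Function.fixedPoints ⇑(MulAction.toPerm a : Perm (G ⧸ H)) with ht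
  rw [← Nat.card_prod]
  refine Nat.card_congr (Equiv.trans ?_ (QuotientGroup.preimageMkEquivSubgroupProdSet H t))
  refine Equiv.subtypeEquivRight ?_
  intro g
  show _ ↔ (g : G ⧸ H) ∈ t
  rw [ht, Function.mem_fixedPoints, Function.IsFixedPt]
  show _ ↔ ((a * g : G) : G ⧸ H) = (g : G ⧸ H)
  rw [eq_comm, QuotientGroup.eq, mul_assoc]

variable {w : G}

theorem cent_eq (hw : orderOf w = 4) (hc : Nat.card (centralizer ({w} : Set G)) = 4) :
    centralizer ({w} : Set G) = zpowers w := by
  symm
  apply Subgroup.eq_of_le_of_card_ge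
  · rw [Subgroup.zpowers_le, Subgroup.mem_centralizer_singleton_iff]
  · rw [hc, Nat.card_zpowers, hw]

omit [Finite G] in
theorem mem_zp (hw : orderOf w = 4) {g : G} (hg : g ∈ zpowers w) :
    g = 1 ∨ g = w ∨ g = w ^ 2 ∨ g = w⁻¹ := by
  have h4 : w ^ 4 = 1 := by rw [← hw]; exact pow_orderOf_eq_one w
  have h3 : w ^ 3 = w⁻¹ := by
    rw [eq_inv_iff_mul_eq_one, ← pow_succ]; exact h4
  obtain ⟨i, rfl⟩ := hg
  have h5 : w ^ i = w ^ (i % 4) := by
    rw [← Int.emod_add_mul_ediv i 4]
    simp only [zpow_add, zpow_mul, Int.add_mul_emod_self_left, Int.emod_emod_of_dvd, dvd_refl]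
    have : w ^ (4 : ℤ) = 1 := by exact_mod_cast h4
    rw [this, one_zpow, mul_one]
  show w ^ i = 1 ∨ w ^ i = w ∨ w ^ i = w ^ 2 ∨ w ^ i = w⁻¹
  rw [h5]
  have h6 : i % 4 = 0 ∨ i % 4 = 1 ∨ i % 4 = 2 ∨ i % 4 = 3 := by omega
  rcases h6 with h6 | h6 | h6 | h6 <;> rw [h6]
  · left; simp
  · right; left; simp
  · right; right; left; norm_cast
  · right; right; right
    rw [← h3]; norm_cast

omit [Finite G] in
theorem ord_sq (hw : orderOf w = 4) : orderOf (w ^ 2) = 2 := by
  rw [orderOf_pow' w (by norm_num), hw]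
  rfl

omit [Finite G] in
theorem eq_sq_of_mem (hw : orderOf w = 4) {g : G} (hg : g ∈ zpowers w) (h1 : g ≠ 1) (h2 : g * g = 1) :
    g = w ^ 2 := by
  have ho := ord_sq hw
  have hne : w * w ≠ 1 := by
    intro h
    rw [pow_two, h, orderOf_one] at ho
    norm_num at ho
  rcases mem_zp hw hg with rfl | rfl | rfl | rfl
  · exact absurd rfl h1
  · exact absurd h2 hne
  · rfl
  · exfalso; apply hne
    rw [← mul_inv_rev, inv_eq_one] at h2
    exact h2

theorem card_cent_sq (hw : orderOf w = 4) :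
    Nat.card {g : G // g⁻¹ * w ^ 2 * g ∈ zpowers w} = Nat.card (centralizer ({w ^ 2} : Set G)) := by
  apply Nat.card_congr
  refine Equiv.subtypeEquivRight ?_
  intro g
  rw [Subgroup.mem_centralizer_singleton_iff]
  constructor
  · intro hg
    have ho := ord_sq hw
    have hsq : w ^ 2 * w ^ 2 = 1 := by
      have h := pow_orderOf_eq_one (w ^ 2)
      rwa [ho, pow_two (w ^ 2)] at h
    have h1 : g⁻¹ * w ^ 2 * g = w ^ 2 := by
      apply eq_sq_of_mem hw hg
      · intro h
        have : w ^ 2 = 1 := by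
          calc w ^ 2 = g * (g⁻¹ * w ^ 2 * g) * g⁻¹ := by group
            _ = 1 := by rw [h]; group
        rw [this, orderOf_one] at ho
        norm_num at ho
      · calc g⁻¹ * w ^ 2 * g * (g⁻¹ * w ^ 2 * g) = g⁻¹ * (w ^ 2 * w ^ 2) * g := by group
          _ = 1 := by rw [hsq]; group
    calc g * w ^ 2 = g * (g⁻¹ * w ^ 2 * g) := by rw [h1]
      _ = w ^ 2 * g := by group
  · intro hg
    have : g⁻¹ * w ^ 2 * g = w ^ 2 := by rw [mul_assoc, ← hg]; group
    rw [this]
    exact pow_mem (mem_zpowers w) 2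

theorem card_norm_eight (hw : orderOf w = 4) (hc : Nat.card (centralizer ({w} : Set G)) = 4)
    {v : G} (hv : v⁻¹ * w * v = w⁻¹) : Nat.card {g : G // g⁻¹ * w * g ∈ zpowers w} = 8 := by
  classical
  haveI := Fintype.ofFinite G
  have hww : w ≠ w⁻¹ := by
    intro h
    have h1 : w ^ 2 = 1 := by rw [pow_two]; nth_rewrite 2 [h]; group
    have ho := ord_sq hw
    rw [h1, orderOf_one] at ho
    norm_num at ho
  have hcard : ∀ p : G → Prop, Nat.card {g : G // p g} = (Finset.univ.filter p).card := by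
    intro p
    rw [Nat.card_eq_fintype_card, Fintype.card_subtype]
  have h1 : (Finset.univ.filter fun g : G => g⁻¹ * w * g = w).card = 4 := by
    rw [← hcard, ← hc]
    apply Nat.card_congr
    refine Equiv.subtypeEquivRight ?_
    intro g
    rw [Subgroup.mem_centralizer_singleton_iff]
    constructor
    · intro h
      calc g * w = g * (g⁻¹ * w * g) := by rw [h]
        _ = w * g := by group
    · intro h
      rw [mul_assoc, ← h]; group
  have h2 : (Finset.univ.filter fun g : G => g⁻¹ * w * g = w⁻¹).card = 4 := by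
    rw [← h1]
    refine Finset.card_bij' (fun g _ => g * v) (fun g _ => g * v⁻¹) ?_ ?_ ?_ ?_
    · intro g hg
      rw [Finset.mem_filter] at hg ⊢
      refine ⟨Finset.mem_univ _, ?_⟩
      have h3 : v⁻¹ * w⁻¹ * v = w := by
        calc v⁻¹ * w⁻¹ * v = (v⁻¹ * w * v)⁻¹ := by group
          _ = w := by rw [hv, inv_inv]
      calc (g * v)⁻¹ * w * (g * v) = v⁻¹ * (g⁻¹ * w * g) * v := by group
        _ = v⁻¹ * w⁻¹ * v := by rw [hg.2]
        _ = w := h3
    · intro g hg
      rw [Finset.mem_filter] at hg ⊢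
      refine ⟨Finset.mem_univ _, ?_⟩
      have h3 : v * w * v⁻¹ = w⁻¹ := by
        have h7 : v⁻¹ * w⁻¹ * v = w := by
          calc v⁻¹ * w⁻¹ * v = (v⁻¹ * w * v)⁻¹ := by group
            _ = w := by rw [hv, inv_inv]
        calc v * w * v⁻¹ = v * (v⁻¹ * w⁻¹ * v) * v⁻¹ := by rw [h7]
          _ = w⁻¹ := by group
      calc (g * v⁻¹)⁻¹ * w * (g * v⁻¹) = v * (g⁻¹ * w * g) * v⁻¹ := by group
        _ = v * w * v⁻¹ := by rw [hg.2]
        _ = w⁻¹ := h3
    · intro g _; group
    · intro g _; group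
  have h3 : (Finset.univ.filter fun g : G => g⁻¹ * w * g ∈ zpowers w) =
      (Finset.univ.filter fun g : G => g⁻¹ * w * g = w) ∪
        (Finset.univ.filter fun g : G => g⁻¹ * w * g = w⁻¹) := by
    ext g
    simp only [Finset.mem_filter, Finset.mem_univ, true_and, Finset.mem_union]
    constructor
    · intro hg
      rcases mem_zp hw hg with h | h | h | h
      · exfalso
        have : w = 1 := by
          calc w = g * (g⁻¹ * w * g) * g⁻¹ := by group
            _ = 1 := by rw [h]; group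
        rw [this, orderOf_one] at hw
        norm_num at hw
      · exact Or.inl h
      · exfalso
        have h4 : orderOf (g⁻¹ * w * g) = orderOf w := by
          have := orderOf_injective (MulAut.conj g⁻¹).toMonoidHom (MulAut.conj g⁻¹).injective w
          simpa using this
        rw [h, ord_sq hw, hw] at h4
        norm_num at h4
      · exact Or.inr h
    · rintro (h | h)
      · rw [h]; exact mem_zpowers w
      · rw [h]; exact inv_mem (mem_zpowers w)
  rw [hcard, h3, Finset.card_union_of_disjoint, h1, h2]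
  rw [Finset.disjoint_left]
  intro g h4 h5
  rw [Finset.mem_filter] at h4 h5
  exact hww (h4.2.symm.trans h5.2)

/-- The parity argument. -/
theorem parity [IsSimpleGroup G] (hG : ¬ IsMulCommutative G) (hw : orderOf w = 4) :
    ∃ m : ℕ, Nat.card G + Nat.card (centralizer ({w ^ 2} : Set G)) =
      2 * Nat.card {g : G // g⁻¹ * w * g ∈ zpowers w} + 32 * m := by
  classical
  haveI := Fintype.ofFinite (G ⧸ zpowers w)
  set σ : Perm (G ⧸ zpowers w) := MulAction.toPerm w with hσ
  have hs : sign σ = 1 :=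
    hom_units_trivial hG ((sign (α := G ⧸ zpowers w)).comp (MulAction.toPermHom G (G ⧸ zpowers w))) w
  have hpow : ∀ k : ℕ, σ ^ k = MulAction.toPerm (w ^ k) := by
    intro k
    have := map_pow (MulAction.toPermHom G (G ⧸ zpowers w)) w k
    exact this.symm
  have h4 : σ ^ 4 = 1 := by
    rw [hpow, ← hw, pow_orderOf_eq_one]
    ext x
    simp
  obtain ⟨m, hm⟩ := sign_four h4 hs
  rw [hpow] at hm
  have e1 := card_fixed (zpowers w) w
  have e2 := card_fixed (zpowers w) (w ^ 2)
  rw [card_cent_sq hw] at e2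
  have e3 := (zpowers w).card_mul_index
  rw [Nat.card_zpowers, hw] at e1 e2 e3
  rw [Nat.card_eq_fintype_card (α := Function.fixedPoints _)] at e1 e2
  have e4 : (zpowers w).index = Fintype.card (G ⧸ zpowers w) := by
    rw [Subgroup.index, Nat.card_eq_fintype_card]
  refine ⟨m, ?_⟩
  rw [e1, e2, ← e3, e4]
  rw [← hσ]
  omega

end Cfsg.Agent.Lib.S4X
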