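import Mathlib
import Cfsg.Agent.Lib.S4XSyl
import Cfsg.Agent.Lib.SylowTools

/-!
# An element of order 4 with centralizer of order 4: the Sylow 2-subgroup is dihedral of order 8
(helper20)
-/

set_option autoImplicit false

open Subgroup

namespace Cfsg.Agent.Lib.S4X

open Cfsg Cfsg.Agent.Lib.DihSylow

universe u

variable {G : Type u} [Group G] [Finite G] {w : G}

theorem inv_of_norm (hw : orderOf w = 4) (hc : Nat.card (centralizer ({w} : Set G)) = 4)
    {v : G} (hv : v⁻¹ * w * v ∈ zpowers w) (hvw : v ∉ zpowers w) : v⁻¹ * w * v = w⁻¹ := by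
  rcases mem_zp hw hv with h | h | h | h
  · exfalso
    have : w = 1 := by
      calc w = v * (v⁻¹ * w * v) * v⁻¹ := by group
        _ = 1 := by rw [h]; group
    rw [this, orderOf_one] at hw
    norm_num at hw
  · exfalso
    apply hvw
    rw [← cent_eq hw hc, Subgroup.mem_centralizer_singleton_iff]
    calc v * w = v * (v⁻¹ * w * v) := by rw [h]
      _ = w * v := by group
  · exfalso
    have h4 : orderOf (v⁻¹ * w * v) = orderOf w := by
      have := orderOf_injective (MulAut.conj v⁻¹).toMonoidHom (MulAut.conj v⁻¹).injective w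
      simpa using this
    rw [h, ord_sq hw, hw] at h4
    norm_num at h4
  · exact h

theorem sq_comm (hw : orderOf w = 4) (hc : Nat.card (centralizer ({w} : Set G)) = 4)
    (P : Sylow 2 G) (hwP : w ∈ P) : ∀ g ∈ P, g * w ^ 2 = w ^ 2 * g := by
  have hP : IsPGroup 2 P := P.isPGroup'
  have hne : Nontrivial (P : Subgroup G) := by
    refine ⟨⟨⟨w, hwP⟩, 1, ?_⟩⟩
    intro h
    have h1 : w = 1 := congrArg Subtype.val h
    rw [h1, orderOf_one] at hw
    norm_num at hw
  have hZ : Nontrivial (center (P : Subgroup G)) := hP.center_nontrivial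
  have hZp : IsPGroup 2 (center (P : Subgroup G)) := hP.to_subgroup _
  obtain ⟨n, hn0, hn⟩ := (IsPGroup.nontrivial_iff_card hZp).1 hZ
  have h2 : 2 ∣ Nat.card (center (P : Subgroup G)) := by
    rw [hn]; exact dvd_pow_self 2 (by omega)
  haveI : Fact (Nat.Prime 2) := ⟨Nat.prime_two⟩
  obtain ⟨⟨⟨a, haP⟩, haZ⟩, ha⟩ := exists_prime_orderOf_dvd_card' 2 h2
  have ha' : orderOf a = 2 := by
    rw [← ha]
    rw [Subgroup.orderOf_mk, Subgroup.orderOf_mk]
  rw [Subgroup.mem_center_iff] at haZ
  have hcomm : ∀ g ∈ P, g * a = a * g := by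
    intro g hg
    exact congrArg Subtype.val (haZ ⟨g, hg⟩)
  have haw : a ∈ zpowers w := by
    rw [← cent_eq hw hc, Subgroup.mem_centralizer_singleton_iff]
    exact (hcomm w hwP).symm
  have : a = w ^ 2 := by
    apply eq_sq_of_mem hw haw
    · intro h
      rw [h, orderOf_one] at ha'
      norm_num at ha'
    · have := pow_orderOf_eq_one a
      rwa [ha', pow_two] at this
  rw [← this]
  exact hcomm

theorem exists_v [IsSimpleGroup G] (hG : ¬ IsMulCommutative G) (hw : orderOf w = 4)
    (hc : Nat.card (centralizer ({w} : Set G)) = 4)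
    (P : Sylow 2 G) (hwP : w ∈ P) : ∃ v ∈ P, v ∉ zpowers w ∧ v⁻¹ * w * v = w⁻¹ := by
  have hle : zpowers w ≤ (P : Subgroup G) := by rw [Subgroup.zpowers_le]; exact hwP
  have hne : zpowers w ≠ (P : Subgroup G) := by
    intro h
    obtain ⟨H, hH⟩ := QWFusion.exists_index_two_of_cyclic_sylow P (by
      rw [← h]; infer_instance) (by
      rw [← h]; intro h1
      rw [Subgroup.zpowers_eq_bot] at h1
      rw [h1, orderOf_one] at hw
      norm_num at hw)
    exact no_index_two hG H hH
  have hlt := C3X.norm_lt (K := (P : Subgroup G)) (D := zpowers w)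
    (IsPGroup.isNilpotent (p := 2) P.isPGroup') (lt_of_le_of_ne hle hne)
  obtain ⟨v, hv, hvw⟩ := SetLike.exists_of_lt hlt
  refine ⟨v, hv.1, hvw, ?_⟩
  apply inv_of_norm hw hc _ hvw
  have h1 : v⁻¹ ∈ C3X.nor (zpowers w) := inv_mem hv.2
  have h2 := C3X.nor_conj h1 w (mem_zpowers w)
  rwa [inv_inv] at h2

theorem card_sylow [IsSimpleGroup G] (hG : ¬ IsMulCommutative G) (hw : orderOf w = 4)
    (hc : Nat.card (centralizer ({w} : Set G)) = 4)
    (P : Sylow 2 G) (hwP : w ∈ P) : Nat.card P = 8 := by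
  haveI : Fact (Nat.Prime 2) := ⟨Nat.prime_two⟩
  obtain ⟨v, hvP, hvw, hv⟩ := exists_v hG hw hc P hwP
  obtain ⟨m, hm⟩ := parity hG hw
  rw [card_norm_eight hw hc hv] at hm
  obtain ⟨k, hk⟩ := IsPGroup.iff_card.mp P.isPGroup'
  have hk3 : 3 ≤ k := by
    by_contra h
    have h1 : zpowers w = (P : Subgroup G) := by
      apply Subgroup.eq_of_le_of_card_ge
      · rw [Subgroup.zpowers_le]; exact hwP
      · rw [Nat.card_zpowers, hw, hk]
        have : 2 ^ k ≤ 2 ^ 2 := Nat.pow_le_pow_right (by norm_num) (by omega)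
        omega
    exact hvw (by rw [h1]; exact hvP)
  have hPC : (P : Subgroup G) ≤ centralizer ({w ^ 2} : Set G) := by
    intro g hg
    rw [Subgroup.mem_centralizer_singleton_iff]
    exact sq_comm hw hc P hwP g hg
  obtain ⟨c, hcc⟩ := Subgroup.card_dvd_of_le hPC
  have hC := (centralizer ({w ^ 2} : Set G)).card_mul_index
  have hPi := (P : Subgroup G).card_mul_index
  have hodd : ¬ 2 ∣ (P : Subgroup G).index := P.not_dvd_index
  have hidx : (P : Subgroup G).index = c * (centralizer ({w ^ 2} : Set G)).index := by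
    have h1 : Nat.card (P : Subgroup G) * (P : Subgroup G).index =
        Nat.card (P : Subgroup G) * (c * (centralizer ({w ^ 2} : Set G)).index) := by
      rw [hPi, ← mul_assoc, ← hcc, hC]
    exact Nat.eq_of_mul_eq_mul_left Nat.card_pos h1
  set d := (centralizer ({w ^ 2} : Set G)).index with hd
  have hdodd : ¬ 2 ∣ d := fun h => hodd (by rw [hidx]; exact Dvd.dvd.mul_left h _)
  have hle : k ≤ 3 := by
    by_contra h
    have h1 : 2 ^ 4 ∣ Nat.card (P : Subgroup G) := by
      rw [hk]; exact pow_dvd_pow 2 (by omega)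
    obtain ⟨a, ha⟩ := h1
    obtain ⟨e, he⟩ : 2 ∣ d + 1 := by omega
    have h2 : Nat.card G + Nat.card (centralizer ({w ^ 2} : Set G)) = 32 * (a * c * e) := by
      rw [← hC, hcc, ha]
      have : 2 ^ 4 * a * c * d + 2 ^ 4 * a * c = 2 ^ 4 * a * c * (d + 1) := by ring
      rw [this, he]; ring
    rw [h2] at hm
    omega
  have : k = 3 := by omega
  rw [hk, this]
  norm_num

theorem exists_DH [IsSimpleGroup G] (hG : ¬ IsMulCommutative G) (hw : orderOf w = 4)
    (hc : Nat.card (centralizer ({w} : Set G)) = 4)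
    (P : Sylow 2 G) (hwP : w ∈ P) : ∃ y, DH (P : Subgroup G) w y 2 1 := by
  haveI : Fact (Nat.Prime 2) := ⟨Nat.prime_two⟩
  have hP8 := card_sylow hG hw hc P hwP
  by_cases hex : ∃ y ∈ P, y ∉ zpowers w ∧ y * y = 1
  · obtain ⟨y, hyP, hyw, hy⟩ := hex
    refine ⟨y, ⟨by norm_num, hP8, hwP, hyP, by rw [hw], hy, ?_, hyw⟩⟩
    have h1 : zpowers w ≤ (P : Subgroup G) := by rw [Subgroup.zpowers_le]; exact hwP
    have h2 : ((zpowers w).subgroupOf (P : Subgroup G)).index = 2 := by
      have h2 := ((zpowers w).subgroupOf (P : Subgroup G)).card_mul_index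
      rw [Nat.card_congr (Subgroup.subgroupOfEquivOfLe h1).toEquiv, Nat.card_zpowers, hw, hP8] at h2
      omega
    have h3 : ((zpowers w).subgroupOf (P : Subgroup G)).Normal := Subgroup.normal_of_index_eq_two h2
    have h4 := h3.conj_mem ⟨w, hwP⟩ (by
      rw [Subgroup.mem_subgroupOf]; exact mem_zpowers w) ⟨y, hyP⟩
    rw [Subgroup.mem_subgroupOf] at h4
    have h5 : y * w * y⁻¹ ∈ zpowers w := h4
    have hyi : y⁻¹ = y := inv_eq_of_mul_eq_one_left hy
    have h6 := inv_of_norm hw hc (v := y⁻¹) (by rw [inv_inv]; exact h5) (by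
      rw [hyi]; exact hyw)
    rwa [inv_inv] at h6
  · exfalso
    push Not at hex
    have hz : orderOf (w ^ 2) = 2 := ord_sq hw
    have huniq : ∀ u ∈ P, orderOf u = 2 → u = w ^ 2 := by
      intro u hu ho
      have h1 : u * u = 1 := by
        have := pow_orderOf_eq_one u
        rwa [ho, pow_two] at this
      have h2 : u ∈ zpowers w := by
        by_contra h
        exact hex u hu h h1
      apply eq_sq_of_mem hw h2 _ h1
      intro h
      rw [h, orderOf_one] at ho
      norm_num at ho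
    apply hG
    refine ⟨⟨fun a b => H55ThreeInv.comm_of_oddIso hz ?_ a b⟩⟩
    intro g
    by_contra hne
    rw [Nat.not_odd_iff_even] at hne
    have ho : orderOf (g * w ^ 2 * g⁻¹) = 2 := by rw [SylowTools.orderOf_conj', hz]
    obtain ⟨u, hu, hux, -, hcc⟩ := H55ThreeInv.exists_even hz ho hne
    have hune : u ≠ w ^ 2 := by
      rintro rfl
      have h1 : w ^ 2 * w ^ 2 = 1 := by
        have := pow_orderOf_eq_one (w ^ 2)
        rwa [hz, pow_two (w ^ 2)] at this
      rw [h1] at hcc
      have h3 : w ^ 2 = 1 := by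
        rcases hcc with h | h
        · exact isConj_one_right.1 h.symm
        · have := isConj_one_right.1 h.symm
          calc w ^ 2 = g⁻¹ * (g * w ^ 2 * g⁻¹) * g := by group
            _ = 1 := by rw [this]; group
      rw [h3, orderOf_one] at hz
      norm_num at hz
    have hPC : (P : Subgroup G) ≤ centralizer ({w ^ 2} : Set G) := by
      intro g hg
      rw [Subgroup.mem_centralizer_singleton_iff]
      exact sq_comm hw hc P hwP g hg
    obtain ⟨k, hk, hkP⟩ := SylowTools.conj_elem_into_of_subgroup hPC P.isPGroup'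
      (SylowTools.not_dvd_relIndex_of_sylow P hPC) (y := u) (by
        rw [Subgroup.mem_centralizer_singleton_iff]; exact hux.eq) ⟨1, by rw [hu]; rfl⟩
    have h1 := huniq _ hkP (by rw [SylowTools.orderOf_conj', hu])
    rw [Subgroup.mem_centralizer_singleton_iff] at hk
    apply hune
    calc u = k⁻¹ * (k * u * k⁻¹) * k := by group
      _ = k⁻¹ * (w ^ 2 * k) := by rw [h1]; group
      _ = k⁻¹ * (k * w ^ 2) := by rw [hk]
      _ = w ^ 2 := by group

end Cfsg.Agent.Lib.S4X
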