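import Mathlib
import Cfsg.Agent.Lib.S4XSyl2
import Cfsg.Agent.Lib.S4XForm2
import Cfsg.Agent.Lib.H55Thompson
import Cfsg.Agent.Lib.H52Dih10

/-!
# An element of order 4 with centralizer of order 4: local structure (helper20)
-/

set_option autoImplicit false

open Subgroup

namespace Cfsg.Agent.Lib.S4X

open Cfsg Cfsg.Agent.Lib.DihSylow Cfsg.Agent.Lib.H52Dih1 Cfsg.Agent.Lib.H52Dih8

universe u

variable {G : Type u} [Group G] [Finite G]

structure Cfg (P : Sylow 2 G) (w y : G) (K : Subgroup G) : Prop where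
  ho : orderOf w = 4
  hc : Nat.card (centralizer ({w} : Set G)) = 4
  dh : DH (P : Subgroup G) w y 2 1
  comp : Comp P (w ^ ((2 : ℕ) : ℤ)) K

namespace Cfg

variable {P : Sylow 2 G} {w y : G} {K : Subgroup G} (h : Cfg P w y K)
include h

theorem w4 : w * w * (w * w) = 1 := by
  have := pow_orderOf_eq_one w
  rw [h.ho] at this
  rw [← this]; simp only [pow_succ, pow_zero, one_mul, mul_assoc]

theorem yw : y * w = w⁻¹ * y := by
  have := h.dh.hxy
  calc y * w = (y * w * y⁻¹) * y := by group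
    _ = w⁻¹ * y := by rw [this]

theorem inv_K : ∀ k ∈ K, w * k * w⁻¹ = k⁻¹ := by
  intro k hk
  let φ : K →* K := MonoidHom.mk' (fun a => ⟨w * a * w⁻¹, conjS h.dh h.comp h.dh.xS a.2⟩) (by
    intro a b
    apply Subtype.ext
    show w * (a * b : G) * w⁻¹ = (w * a * w⁻¹) * (w * b * w⁻¹)
    group)
  have hφ : MonoidHom.FixedPointFree φ := by
    intro a ha
    have h1 : w * (a : G) * w⁻¹ = a := congrArg Subtype.val ha
    have h2 : (a : G) ∈ zpowers w := by
      rw [← cent_eq h.ho h.hc, Subgroup.mem_centralizer_singleton_iff]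
      calc (a : G) * w = (w * a * w⁻¹) * w := by rw [h1]
        _ = w * a := by group
    apply Subtype.ext
    exact h.comp.disj _ a.2 (h.dh.zpowers_le h2)
  have h2 : Function.Involutive φ := by
    intro a
    apply Subtype.ext
    show w * (w * (a : G) * w⁻¹) * w⁻¹ = a
    have h3 := h.comp.le a a.2
    have h4 : w ^ ((2 : ℕ) : ℤ) = w * w := by
      rw [← pow_two]; norm_cast
    rw [h4] at h3
    calc w * (w * (a : G) * w⁻¹) * w⁻¹ = (w * w * a) * w⁻¹ * w⁻¹ := by group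
      _ = (a * (w * w)) * w⁻¹ * w⁻¹ := by rw [h3]
      _ = a := by group
  have h3 := congrFun (MonoidHom.FixedPointFree.coe_eq_inv_of_involutive hφ h2) ⟨k, hk⟩
  exact congrArg Subtype.val h3

theorem comm_K : ∀ a ∈ K, ∀ b ∈ K, a * b = b * a := by
  intro a ha b hb
  have h1 := h.inv_K _ (mul_mem ha hb)
  have h2 : w * (a * b) * w⁻¹ = (w * a * w⁻¹) * (w * b * w⁻¹) := by group
  rw [h2, h.inv_K a ha, h.inv_K b hb, mul_inv_rev] at h1
  calc a * b = (b⁻¹ * a⁻¹)⁻¹ := by group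
    _ = (a⁻¹ * b⁻¹)⁻¹ := by rw [h1]
    _ = b * a := by group

theorem wyw : w * y * w⁻¹ = w * w * y := by
  have h1 := h.yw
  have h2 : y * w⁻¹ = w * y := by
    calc y * w⁻¹ = w * (w⁻¹ * y) * w⁻¹ := by group
      _ = w * y := by rw [← h1]; group
  calc w * y * w⁻¹ = w * (y * w⁻¹) := by group
    _ = w * w * y := by rw [h2]; group

theorem swap : Cfg P w (w * y) K := by
  refine ⟨h.ho, h.hc, ⟨h.dh.hq, h.dh.card, h.dh.xS, ?_, h.dh.hx, ?_, ?_, ?_⟩, h.comp⟩
  · exact mul_mem h.dh.xS h.dh.yS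
  · have := h.dh.sq 1
    rwa [zpow_one] at this
  · have := h.dh.hxy
    calc w * y * w * (w * y)⁻¹ = w * (y * w * y⁻¹) * w⁻¹ := by group
      _ = w⁻¹ := by rw [this]; group
  · have := h.dh.not_mem_zpowers 1
    rwa [zpow_one] at this

omit [Finite G] h in
theorem inv_iff (hinv : ∀ k ∈ K, w * k * w⁻¹ = k⁻¹) (hn : ∀ k ∈ K, y * k * y⁻¹ ∈ K) {k : G} (hk : k ∈ K) :
    k ∈ centralizer ({w * y} : Set G) ↔ y * k * y⁻¹ = k⁻¹ := by
  rw [Subgroup.mem_centralizer_singleton_iff]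
  have h1 := hinv _ (hn k hk)
  have e : w * (y * k * y⁻¹) * w⁻¹ = (w * y) * k * (w * y)⁻¹ := by group
  rw [e] at h1
  constructor
  · intro h2
    rw [← h2] at h1
    have h3 : k = (y * k * y⁻¹)⁻¹ := by
      rw [← h1]; group
    calc y * k * y⁻¹ = ((y * k * y⁻¹)⁻¹)⁻¹ := by group
      _ = k⁻¹ := by rw [← h3]
  · intro h2
    rw [h2, inv_inv] at h1
    calc k * (w * y) = ((w * y) * k * (w * y)⁻¹) * (w * y) := by rw [h1]
      _ = w * y * k := by group

theorem mem_cent_iff {k : G} (hk : k ∈ K) :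
    k ∈ centralizer ({w * y} : Set G) ↔ y * k * y⁻¹ = k⁻¹ :=
  inv_iff h.inv_K (fun _ hk => conjS h.dh h.comp h.dh.yS hk) hk

theorem card_mul : Nat.card K =
    Nat.card ↥(K ⊓ centralizer ({y} : Set G)) * Nat.card ↥(K ⊓ centralizer ({w * y} : Set G)) := by
  rw [OddInv.card_eq_mul y h.dh.hy K (oddK h.comp) (fun k hk => conjS h.dh h.comp h.dh.yS hk)]
  congr 1
  apply Nat.card_congr
  refine Equiv.subtypeEquivRight ?_
  intro k
  constructor
  · rintro ⟨h1, h2⟩
    exact ⟨h1, (h.mem_cent_iff h1).2 h2⟩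
  · rintro ⟨h1, h2⟩
    exact ⟨h1, (h.mem_cent_iff h1).1 h2⟩

theorem mem_of_odd {g : G} (hg : g * w ^ ((2 : ℕ) : ℤ) = w ^ ((2 : ℕ) : ℤ) * g)
    (hodd : Odd (orderOf g)) : g ∈ K := by
  obtain ⟨a, ha, s, hs, rfl⟩ := h.comp.fac g hg
  have h1 : ∀ m : ℕ, (a * s) ^ m * (s ^ m)⁻¹ ∈ K := by
    intro m
    induction m with
    | zero => simp [one_mem]
    | succ m ih =>
      have e : (a * s) ^ (m + 1) * (s ^ (m + 1))⁻¹ =
          ((a * s) ^ m * (s ^ m)⁻¹) * (s ^ m * a * (s ^ m)⁻¹) := by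
        rw [pow_succ, pow_succ]; group
      rw [e]
      exact mul_mem ih (conjS h.dh h.comp (pow_mem hs m) ha)
  have h8 : s ^ 8 = 1 := by
    have h2 := orderOf_dvd_natCard (⟨s, hs⟩ : (P : Subgroup G))
    rw [Subgroup.orderOf_mk, h.dh.card] at h2
    exact orderOf_dvd_iff_pow_eq_one.1 (by simpa using h2)
  have h3 := h1 8
  rw [h8, inv_one, mul_one] at h3
  have h4 : a * s ∈ zpowers ((a * s) ^ 8) := by
    have h5 : (8 : ℕ).Coprime (orderOf (a * s)) := by
      have : Nat.Coprime 2 (orderOf (a * s)) := (Nat.coprime_two_left).2 hodd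
      exact Nat.Coprime.pow_left 3 this
    have h6 : orderOf ((a * s) ^ 8) = orderOf (a * s) := Nat.Coprime.orderOf_pow h5.symm
    have h7 : zpowers ((a * s) ^ 8) = zpowers (a * s) := by
      apply Subgroup.eq_of_le_of_card_ge
      · rw [Subgroup.zpowers_le]; exact pow_mem (mem_zpowers _) 8
      · rw [Nat.card_zpowers, Nat.card_zpowers, h6]
    rw [h7]; exact mem_zpowers _
  exact (Subgroup.zpowers_le.2 h3) h4

/-- conjugation of the central involution to `y` by an element centralizing `C_K(y)` -/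
theorem exists_theta (hy : IsConj (w ^ ((2 : ℕ) : ℤ)) y) :
    ∃ θ : G, θ * w ^ ((2 : ℕ) : ℤ) * θ⁻¹ = y ∧ ∀ k ∈ K, k * y = y * k → θ * k = k * θ := by
  haveI : Fact (Nat.Prime 2) := ⟨Nat.prime_two⟩
  set z := w ^ ((2 : ℕ) : ℤ) with hz
  have hz2 : z = w * w := by rw [hz, ← pow_two]; norm_cast
  have hzz : z * z = 1 := h.dh.z_sq
  have hz1 : z ≠ 1 := h.dh.z_ne
  have hzP : z ∈ P := by rw [hz2]; exact mul_mem h.dh.xS h.dh.xS
  obtain ⟨c, hc⟩ := isConj_iff.1 hy.symm
  obtain ⟨g, hg, hgP⟩ := H55Thompson.exists_conj_into P (b := y) (c := z) (h := c)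
    (fun x hx => (h.dh.z_comm hx).symm) hc
  have hzy : z * y = y * z := h.dh.z_y
  have hyz : y ≠ z := by
    intro h1
    apply h.dh.hyx
    rw [h1, hz2]
    exact mul_mem (mem_zpowers w) (mem_zpowers w)
  set u := g * z * g⁻¹ with hu
  have huP : u ∈ P := hgP z hzP hzy
  have huu : u * u = 1 := by
    calc u * u = g * (z * z) * g⁻¹ := by rw [hu]; group
      _ = 1 := by rw [hzz]; group
  have hu1 : u ≠ 1 := by
    intro h1
    apply hz1
    calc z = g⁻¹ * u * g := by rw [hu]; group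
      _ = 1 := by rw [h1]; group
  have huz : u ≠ z := by
    intro h1
    apply hyz
    calc y = g⁻¹ * (g * y * g⁻¹) * g := by group
      _ = g⁻¹ * u * g := by rw [hg, h1]
      _ = z := by rw [hu]; group
  have hwu : w * u * w⁻¹ = z * u := by
    rcases h.dh.involution huP huu hu1 with h1 | ⟨i, hi⟩
    · exact absurd h1 huz
    · rw [hi]
      have := h.dh.conj_xy 1 i
      rw [zpow_one] at this
      rw [this, ← mul_assoc, hz, ← zpow_add]
      congr 2
      push_cast; ring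
  set w' := g⁻¹ * w * g with hw'
  have e1 : w' * z * w'⁻¹ = y * z := by
    calc w' * z * w'⁻¹ = g⁻¹ * (w * u * w⁻¹) * g := by rw [hw', hu]; group
      _ = (g⁻¹ * (g * y * g⁻¹) * g) * (g⁻¹ * u * g) := by rw [hwu, hg]; group
      _ = y * z := by rw [hu]; group
  have e2 : w * (y * z) * w⁻¹ = y := by
    calc w * (y * z) * w⁻¹ = (w * y * w⁻¹) * (w * z * w⁻¹) := by group
      _ = (z * y) * z := by
        rw [h.wyw, ← hz2]
        congr 1
        rw [hz2]; group
      _ = y * (z * z) := by rw [hzy]; group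
      _ = y := by rw [hzz, mul_one]
  refine ⟨w * w', ?_, ?_⟩
  · calc w * w' * z * (w * w')⁻¹ = w * (w' * z * w'⁻¹) * w⁻¹ := by group
      _ = y := by rw [e1, e2]
  · intro k hk hky
    have h1 : g * k * g⁻¹ * z = z * (g * k * g⁻¹) := by
      rw [← hg]
      calc g * k * g⁻¹ * (g * y * g⁻¹) = g * (k * y) * g⁻¹ := by group
        _ = g * y * g⁻¹ * (g * k * g⁻¹) := by rw [hky]; group
    have h2 : g * k * g⁻¹ ∈ K := by
      apply h.mem_of_odd h1
      rw [SylowTools.orderOf_conj']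
      exact OddInv.odd_orderOf_of_mem (oddK h.comp) hk
    have h3 := h.inv_K _ h2
    have h4 := h.inv_K _ hk
    have h5 : w' * k * w'⁻¹ = k⁻¹ := by
      calc w' * k * w'⁻¹ = g⁻¹ * (w * (g * k * g⁻¹) * w⁻¹) * g := by rw [hw']; group
        _ = k⁻¹ := by rw [h3]; group
    have h6 : (w * w') * k * (w * w')⁻¹ = k := by
      calc (w * w') * k * (w * w')⁻¹ = w * (w' * k * w'⁻¹) * w⁻¹ := by group
        _ = (w * k * w⁻¹)⁻¹ := by rw [h5]; group
        _ = k := by rw [h4, inv_inv]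
    calc w * w' * k = ((w * w') * k * (w * w')⁻¹) * (w * w') := by group
      _ = k * (w * w') := by rw [h6]

end Cfg

end Cfsg.Agent.Lib.S4X
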