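import Mathlib
import Cfsg.Agent.Lib.S4XLoc

/-!
# An element of order 4 with centralizer of order 4: order formula for a subgroup (helper20)
-/

set_option autoImplicit false

open Subgroup

namespace Cfsg.Agent.Lib.S4X

open Cfsg Cfsg.Agent.Lib.DihSylow Cfsg.Agent.Lib.H52Dih1 Cfsg.Agent.Lib.H52Dih8

universe u

variable {G : Type u} [Group G] [Finite G]

theorem isConj_of_DH {P : Sylow 2 G} {w y : G} (h : DH (P : Subgroup G) w y 2 1)
    (h0 : IsConj (w ^ ((2 : ℕ) : ℤ)) y) (h1 : IsConj (w ^ ((2 : ℕ) : ℤ)) (w * y)) :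
    ∀ s : G, orderOf s = 2 → IsConj (w ^ ((2 : ℕ) : ℤ)) s := by
  haveI : Fact (Nat.Prime 2) := ⟨Nat.prime_two⟩
  intro s hs
  obtain ⟨k, -, hk⟩ := SylowTools.conj_elem_into_of_subgroup (K := ⊤) (le_top : (P : Subgroup G) ≤ ⊤) P.isPGroup'
      (SylowTools.not_dvd_relIndex_of_sylow P le_top) (y := s) (Subgroup.mem_top _) ⟨1, by rw [hs]; rfl⟩
  have ho : orderOf (k * s * k⁻¹) = 2 := by rw [SylowTools.orderOf_conj', hs]
  refine IsConj.trans ?_ (isConj_iff.2 ⟨k, rfl⟩ : IsConj s (k * s * k⁻¹)).symm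
  set t := k * s * k⁻¹ with ht
  have htt : t * t = 1 := by
    have := pow_orderOf_eq_one t
    rwa [ho, pow_two] at this
  have ht1 : t ≠ 1 := by
    intro h1
    rw [h1, orderOf_one] at ho
    norm_num at ho
  rcases h.involution hk htt ht1 with h2 | ⟨i, hi⟩
  · rw [h2]
  · rw [hi]
    rcases Int.even_or_odd' i with ⟨j, hj | hj⟩
    · have h3 := h.conj_xy j 0
      rw [zpow_zero, one_mul, zero_add, ← hj] at h3
      exact h0.trans (isConj_iff.2 ⟨_, h3⟩)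
    · have h3 := h.conj_xy j 1
      rw [zpow_one, add_comm, ← hj] at h3
      exact h1.trans (isConj_iff.2 ⟨_, h3⟩)

theorem DH_sub {P : Sylow 2 G} {w y : G} (h : DH (P : Subgroup G) w y 2 1) {L : Subgroup G}
    (hPL : (P : Subgroup G) ≤ L) :
    DH ((P.subtype hPL : Sylow 2 L) : Subgroup L) ⟨w, hPL h.xS⟩ ⟨y, hPL h.yS⟩ 2 1 := by
  have e : ((P.subtype hPL : Sylow 2 L) : Subgroup L) = (P : Subgroup G).subgroupOf L := rfl
  refine ⟨h.hq, ?_, ?_, ?_, ?_, ?_, ?_, ?_⟩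
  · rw [e, Nat.card_congr (Subgroup.subgroupOfEquivOfLe hPL).toEquiv, h.card]
  · rw [e, Subgroup.mem_subgroupOf]; exact h.xS
  · rw [e, Subgroup.mem_subgroupOf]; exact h.yS
  · rw [Subgroup.orderOf_mk, h.hx]
  · exact Subtype.ext h.hy
  · exact Subtype.ext h.hxy
  · rintro ⟨i, hi⟩
    apply h.hyx
    exact ⟨i, congrArg Subtype.val hi⟩

theorem Comp_sub {P : Sylow 2 G} {z : G} {K : Subgroup G} (c : Comp P z K) {L : Subgroup G}
    (hPL : (P : Subgroup G) ≤ L) (hz : z ∈ L) (hKL : K ≤ L) :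
    Comp (P.subtype hPL : Sylow 2 L) ⟨z, hz⟩ (K.subgroupOf L) := by
  have e : ((P.subtype hPL : Sylow 2 L) : Subgroup L) = (P : Subgroup G).subgroupOf L := rfl
  refine ⟨?_, ?_, ?_, ?_, ?_⟩
  · intro k hk
    exact Subtype.ext (c.le k hk)
  · rw [Nat.card_congr (Subgroup.subgroupOfEquivOfLe hKL).toEquiv]
    exact c.odd
  · intro g hg k hk
    exact c.norm g (congrArg Subtype.val hg) k hk
  · intro g hg
    obtain ⟨k, hk, s, hs, h⟩ := c.fac g (congrArg Subtype.val hg)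
    exact ⟨⟨k, hKL hk⟩, hk, ⟨s, hPL hs⟩, hs, Subtype.ext h⟩
  · intro k hk hkP
    exact Subtype.ext (c.disj k hk hkP)

omit [Finite G] in
theorem card_sub_cent {K L : Subgroup G} (hKL : K ≤ L) (y : L) :
    Nat.card ↥(K.subgroupOf L ⊓ centralizer ({y} : Set L)) =
      Nat.card ↥(K ⊓ centralizer ({(y : G)} : Set G)) := by
  have e : K.subgroupOf L ⊓ centralizer ({y} : Set L) = (K ⊓ centralizer ({(y : G)} : Set G)).subgroupOf L := by
    ext a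
    rw [Subgroup.mem_inf, Subgroup.mem_subgroupOf, Subgroup.mem_subgroupOf, Subgroup.mem_inf,
      Subgroup.mem_centralizer_singleton_iff, Subgroup.mem_centralizer_singleton_iff]
    refine and_congr Iff.rfl ?_
    rw [← Subtype.coe_inj]
    rfl
  rw [e, Nat.card_congr (Subgroup.subgroupOfEquivOfLe (inf_le_left.trans hKL)).toEquiv]

theorem form_sub {P : Sylow 2 G} {w y : G} {K : Subgroup G} (h : Cfg P w y K) {L : Subgroup G}
    (hL : ∀ g, g * w ^ ((2 : ℕ) : ℤ) = w ^ ((2 : ℕ) : ℤ) * g → g ∈ L)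
    {θ : G} (hθ : θ * w ^ ((2 : ℕ) : ℤ) * θ⁻¹ = w * y) (hθL : θ ∈ L) {k0 k1 n0 n1 : ℕ}
    (hk0 : Nat.card ↥(K ⊓ centralizer {y}) = k0) (hk1 : Nat.card ↥(K ⊓ centralizer {w * y}) = k1)
    (h0 : Nat.card K = k0 * n0) (h1 : Nat.card K = k1 * n1) :
    (∃ X : ℤ, X % 4 = 1 ∧ X ≠ 1 ∧
      (Nat.card L : ℤ) * (X - 1) ^ 2 = 64 * Nat.card K * (n0 + n1) ^ 2 * (X * (X + 1))) ∨
    (∃ X : ℤ, X % 4 = 1 ∧ X ≠ 1 ∧
      (Nat.card L : ℤ) * (X - 1) ^ 2 = 64 * Nat.card K * n1 ^ 2 * (X * (X + 1))) := by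
  have hPL : (P : Subgroup G) ≤ L := fun g hg => hL g (h.dh.z_comm hg).symm
  have hKL : K ≤ L := fun g hg => hL g (h.comp.le g hg)
  set wL : L := ⟨w, hPL h.dh.xS⟩ with hwL
  set yL : L := ⟨y, hPL h.dh.yS⟩ with hyL
  have dL := DH_sub h.dh hPL
  have hzL : w ^ ((2 : ℕ) : ℤ) ∈ L := zpow_mem (hPL h.dh.xS) _
  have cL := Comp_sub h.comp hPL hzL hKL
  have ez : (⟨w ^ ((2 : ℕ) : ℤ), hzL⟩ : L) = wL ^ ((2 : ℕ) : ℤ) := by
    apply Subtype.ext
    rw [Subgroup.coe_zpow]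
  rw [ez] at cL
  have hcK : Nat.card (K.subgroupOf L) = Nat.card K :=
    Nat.card_congr (Subgroup.subgroupOfEquivOfLe hKL).toEquiv
  have hkk0 : Nat.card ↥(K.subgroupOf L ⊓ centralizer {yL}) = k0 := by
    rw [card_sub_cent hKL, ← hk0]
  have hkk1 : Nat.card ↥(K.subgroupOf L ⊓ centralizer {wL * yL}) = k1 := by
    rw [card_sub_cent hKL, ← hk1]; rfl
  have hc1 : IsConj (wL ^ ((2 : ℕ) : ℤ)) (wL * yL) := by
    rw [isConj_iff]
    refine ⟨⟨θ, hθL⟩, ?_⟩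
    apply Subtype.ext
    simp only [Subgroup.coe_mul, Subgroup.coe_zpow, InvMemClass.coe_inv]
    exact hθ
  by_cases hc0 : IsConj (wL ^ ((2 : ℕ) : ℤ)) yL
  · left
    obtain ⟨X, Y, V, -, hX, -, -, hX1, -, -, e⟩ := formG dL cL (isConj_of_DH dL hc0 hc1) hkk0 hkk1
      (by rw [hcK, h0]) (by rw [hcK, h1])
    rw [hcK] at e
    exact ⟨X, hX, hX1, e⟩
  · right
    obtain ⟨X, hX, hX1, e⟩ := formL dL cL hc0 hc1 hkk1 (by rw [hcK, h1])
    rw [hcK] at e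
    exact ⟨X, hX, hX1, e⟩

end Cfsg.Agent.Lib.S4X
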