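import Mathlib
import Cfsg.Agent.Lib.S4XSub
import Cfsg.Agent.Lib.S4XPerm
import Cfsg.Agent.Lib.S4XArith
import Cfsg.Agent.Lib.H55KleinFinal

/-!
# An element of order 4 with centralizer of order 4: the order of the group (helper20)
-/

set_option autoImplicit false

open Subgroup

namespace Cfsg.Agent.Lib.S4X

open Cfsg Cfsg.Agent.Lib.DihSylow Cfsg.Agent.Lib.H52Dih1 Cfsg.Agent.Lib.H52Dih8

universe u

variable {G : Type u} [Group G] [Finite G]

namespace Cfg

variable {P : Sylow 2 G} {w y : G} {K : Subgroup G}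

theorem loc (h : Cfg P w y K) (hall : ∀ s : G, orderOf s = 2 → IsConj (w ^ ((2 : ℕ) : ℤ)) s)
    {H : Subgroup G} (hH : H = K ⊓ centralizer ({w * y} : Set G)) :
    (∀ g, g * w ^ ((2 : ℕ) : ℤ) = w ^ ((2 : ℕ) : ℤ) * g → g ∈ normalizer (H : Set G)) ∧
    ∃ θ ∈ normalizer (H : Set G), θ * w ^ ((2 : ℕ) : ℤ) * θ⁻¹ = w * y := by
  subst hH
  have hK : K ≤ normalizer ((K ⊓ centralizer ({w * y} : Set G) : Subgroup G) : Set G) := by
    intro k hk
    apply SylowTools.mem_normalizer_of_forall
    intro a ha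
    have : k * a * k⁻¹ = a := by
      rw [h.comm_K k hk a ha.1]; group
    rw [this]; exact ha
  have hw : w ∈ normalizer ((K ⊓ centralizer ({w * y} : Set G) : Subgroup G) : Set G) := by
    apply SylowTools.mem_normalizer_of_forall
    intro a ha
    rw [h.inv_K a ha.1]
    exact inv_mem ha
  have hy : y ∈ normalizer ((K ⊓ centralizer ({w * y} : Set G) : Subgroup G) : Set G) := by
    apply SylowTools.mem_normalizer_of_forall
    intro a ha
    rw [(h.mem_cent_iff ha.1).1 ha.2]
    exact inv_mem ha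
  have hC : ∀ g, g * w ^ ((2 : ℕ) : ℤ) = w ^ ((2 : ℕ) : ℤ) * g →
      g ∈ normalizer ((K ⊓ centralizer ({w * y} : Set G) : Subgroup G) : Set G) := by
    intro g hg
    obtain ⟨k, hk, s, hs, rfl⟩ := h.comp.fac g hg
    refine mul_mem (hK hk) ?_
    rcases h.dh.exists_rep hs with ⟨i, rfl⟩ | ⟨i, rfl⟩
    · exact zpow_mem hw i
    · exact mul_mem (zpow_mem hw i) hy
  refine ⟨hC, ?_⟩
  have ho : orderOf (w * y) = 2 := by
    apply orderOf_eq_prime
    · rw [pow_two]; exact h.swap.dh.hy
    · exact h.swap.dh.y_ne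
  obtain ⟨θ, h1, h2⟩ := h.swap.exists_theta (hall _ ho)
  refine ⟨θ, ?_, h1⟩
  apply SylowTools.mem_normalizer_of_forall
  intro a ha
  have h3 := h2 a ha.1 (Subgroup.mem_centralizer_singleton_iff.1 ha.2)
  have : θ * a * θ⁻¹ = a := by rw [h3]; group
  rw [this]; exact ha

theorem nor_ne_top [IsSimpleGroup G] (h : Cfg P w y K) {H : Subgroup G} (hH : H ≤ K)
    (hne : Nat.card H ≠ 1) : normalizer (H : Set G) ≠ ⊤ := by
  intro htop
  have hn : H.Normal := Subgroup.normalizer_eq_top_iff.1 htop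
  rcases hn.eq_bot_or_eq_top with h1 | h1
  · exact hne (by rw [h1]; exact Subgroup.card_bot)
  · have h2 : w ∈ K := hH (by rw [h1]; trivial)
    have h3 := h.comp.disj w h2 h.dh.xS
    have h4 := h.ho
    rw [h3, orderOf_one] at h4
    norm_num at h4

theorem card_G (h : Cfg P w y K) : ∃ g, g % 2 = 1 ∧ Nat.card G = 8 * g := by
  have h1 := (P : Subgroup G).card_mul_index
  rw [h.dh.card] at h1
  haveI : Fact (Nat.Prime 2) := ⟨Nat.prime_two⟩
  refine ⟨(P : Subgroup G).index, ?_, by omega⟩
  have := P.not_dvd_index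
  omega

theorem card_L (h : Cfg P w y K) {L : Subgroup G} (hL : (P : Subgroup G) ≤ L) :
    ∃ l, l % 2 = 1 ∧ Nat.card L = 8 * l := by
  obtain ⟨g, hg, hG⟩ := h.card_G
  obtain ⟨l, hl⟩ := Subgroup.card_dvd_of_le hL
  rw [h.dh.card] at hl
  refine ⟨l, ?_, by omega⟩
  obtain ⟨d, hd⟩ := Subgroup.card_subgroup_dvd_card L
  rw [hl, hG] at hd
  have h1 : g = l * d := by
    have : 8 * g = 8 * (l * d) := by rw [hd]; ring
    omega
  by_contra h2
  have h3 : l % 2 = 0 := by omega
  obtain ⟨e, he⟩ : 2 ∣ l := Nat.dvd_of_mod_eq_zero h3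
  rw [h1, he, mul_assoc] at hg
  omega

theorem perfect_lin [IsSimpleGroup G] (hG : ¬ IsMulCommutative G)
    (hlin : ∃ χ : IrrCharacter G, (χ : G → ℂ) ≠ 1 ∧ (χ : G → ℂ) 1 = 1) : False := by
  haveI := Fintype.ofFinite G
  obtain ⟨χ, h1, h2⟩ := hlin
  exact h1 (H55KleinChar.eq_one_of_perfect (H55KleinFinal.commutator_eq_top hG) χ.2.isCharacter h2)

/-- the case `|C_K(wy)| = 1`, `|C_K(y)| = 5`, `|G| = 7560` -/
theorem no_7560 [IsSimpleGroup G] (h : Cfg P w y K)
    (hall : ∀ s : G, orderOf s = 2 → IsConj (w ^ ((2 : ℕ) : ℤ)) s)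
    (hk0 : Nat.card ↥(K ⊓ centralizer ({y} : Set G)) = 5)
    (hk1 : Nat.card ↥(K ⊓ centralizer ({w * y} : Set G)) = 1)
    (hcG : Nat.card G = 7560) {X : ℤ} (hX : X % 4 = 1) (hX1 : X ≠ 1)
    (e : (Nat.card G : ℤ) * (X - 1) ^ 2 = 64 * 5 * 6 ^ 2 * (X * (X + 1))) : False := by
  have hK : Nat.card K = 5 := by rw [h.card_mul, hk0, hk1]
  have hKy : K ⊓ centralizer ({w * (w * y)} : Set G) = K := by
    apply inf_eq_left.2
    have h1 : K ⊓ centralizer ({y} : Set G) = K := by
      apply Subgroup.eq_of_le_of_card_ge inf_le_left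
      rw [hK, hk0]
    intro k hk
    have h2 : k ∈ centralizer ({y} : Set G) := by
      rw [← h1] at hk; exact hk.2
    rw [Subgroup.mem_centralizer_singleton_iff] at h2 ⊢
    have h3 := h.comp.le k hk
    have h4 : w ^ ((2 : ℕ) : ℤ) = w * w := by
      rw [← pow_two]; norm_cast
    rw [h4] at h3
    calc k * (w * (w * y)) = (k * (w * w)) * y := by group
      _ = (w * w) * (k * y) := by rw [h3]; group
      _ = w * (w * y) * k := by rw [h2]; group
  obtain ⟨hL, θ, hθL, hθ⟩ := h.swap.loc hall (H := K) hKy.symm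
  set L := normalizer (K : Set G) with hLdef
  have hLne : L ≠ ⊤ := h.nor_ne_top le_rfl (by rw [hK]; norm_num)
  have hPL : (P : Subgroup G) ≤ L := fun g hg => hL g (h.dh.z_comm hg).symm
  obtain ⟨l, hl, hcL⟩ := h.card_L hPL
  have hd := L.card_mul_index
  rw [hcL, hcG] at hd
  set d := L.index with hddef
  have hd1 : d ≠ 1 := fun h1 => hLne (Subgroup.index_eq_one.1 h1)
  have hld : l * d = 945 := by
    have : 8 * (l * d) = 8 * 945 := by rw [← mul_assoc, hd]
    omega
  have hf := form_sub h.swap hL hθ hθL (k0 := 1) (k1 := 5) (n0 := 5) (n1 := 1) hk1 (by rw [hKy, hK])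
    (by rw [hK]) (by rw [hK])
  have h5l : 5 ∣ l := by
    have h1 : 5 ∣ Nat.card L := by
      rw [← hK]; exact Subgroup.card_dvd_of_le Subgroup.le_normalizer
    rw [hcL] at h1
    exact (Nat.Coprime.dvd_of_dvd_mul_left (by norm_num) h1)
  obtain ⟨k, hk⟩ := h5l
  rcases hf with ⟨X', hX', hX1', e'⟩ | ⟨X', hX', hX1', e'⟩
  · rw [hK, hcL] at e'
    have := arithOne (X := X) (X' := X') (a := 5) (b := 6) (g := 945) (l := l) (by norm_num) hl (by norm_num)
      (by norm_num) (by norm_num) hX hX1 hX' hX1' (by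
        rw [hcG] at e; push_cast at e ⊢; linear_combination e)
      (by push_cast at e' ⊢; linear_combination e') ⟨d, hld.symm⟩
    rw [← this] at hld
    omega
  · rw [hK] at e'
    have hk3 := arithC (X := X') (n := 5) (k := k) (L := Nat.card L) (by norm_num)
      (by rw [hcL, hk]; ring) hX' hX1' (by push_cast at e' ⊢; linear_combination e')
    have hk' : k = 3 := by
      rcases hk3 with rfl | rfl
      · rfl
      · exfalso
        rw [hk] at hld
        omega
    have hd63 : d = 63 := by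
      rw [hk, hk'] at hld
      omega
    haveI : Fact (Nat.Prime 5) := ⟨by norm_num⟩
    have hKp : IsPGroup 5 K := IsPGroup.of_card (n := 1) (by rw [hK]; rfl)
    have hKi : ¬ 5 ∣ K.index := by
      have h1 := K.card_mul_index
      rw [hK, hcG] at h1
      omega
    let Q : Sylow 5 G := hKp.toSylow hKi
    have h1 : Nat.card (Sylow 5 G) = 63 := by
      rw [Sylow.card_eq_index_normalizer Q]
      exact hd63
    have h2 := card_sylow_modEq_one 5 G
    rw [h1] at h2
    revert h2
    decide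

theorem order_cases [IsSimpleGroup G] (hG : ¬ IsMulCommutative G) (h : Cfg P w y K)
    (hall : ∀ s : G, orderOf s = 2 → IsConj (w ^ ((2 : ℕ) : ℤ)) s)
    (hle : Nat.card ↥(K ⊓ centralizer ({w * y} : Set G)) ≤ Nat.card ↥(K ⊓ centralizer ({y} : Set G))) :
    K = ⊥ ∨ Nat.card G = 2520 := by
  obtain ⟨g, hg, hcG⟩ := h.card_G
  have hK := h.card_mul
  set k0 := Nat.card ↥(K ⊓ centralizer ({y} : Set G)) with hk0
  set k1 := Nat.card ↥(K ⊓ centralizer ({w * y} : Set G)) with hk1
  have hKodd : Nat.card K % 2 = 1 := by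
    have := h.comp.odd; omega
  have hk0odd : k0 % 2 = 1 := by
    by_contra h2
    obtain ⟨e, he⟩ : 2 ∣ k0 := by omega
    rw [he, mul_assoc] at hK; omega
  have hk1odd : k1 % 2 = 1 := by
    by_contra h2
    obtain ⟨e, he⟩ : 2 ∣ k1 := by omega
    rw [he, ← mul_assoc, mul_comm k0 2, mul_assoc] at hK; omega
  obtain ⟨X, Y, V, hs, hX, hY, hV, hX1, hlin, e1, e2⟩ := formG h.dh h.comp hall hk0.symm hk1.symm
    (n0 := k1) (n1 := k0) hK (by rw [hK]; ring)
  rw [hcG] at e1 e2
  rcases Nat.lt_or_ge k1 3 with hlt | hge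
  · have hk1' : k1 = 1 := by omega
    rcases Nat.lt_or_ge k0 3 with hlt' | hge'
    · left
      have : k0 = 1 := by omega
      rw [hk1', this] at hK
      exact Subgroup.card_eq_one.1 (by simpa using hK)
    · right
      rw [hk1', mul_one] at hK
      rw [hk1', hK] at e1 e2
      rcases arithA (n := k0) (g := g) hk0odd hge' hg hs hX hY hV hX1
        (fun hh => perfect_lin hG (hlin (Or.inl hh))) (fun hh => perfect_lin hG (hlin (Or.inr hh)))
        (by push_cast at e1 ⊢; linear_combination e1)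
        (by push_cast at e2 ⊢; linear_combination e2) with ⟨-, h1⟩ | ⟨h1, h2⟩
      · rw [hcG, h1]
      · exfalso
        rw [h1, h2] at e2
        refine h.no_7560 hall (by rw [← h1]) (by rw [← hk1']) (by rw [hcG, h2]) hX hX1 ?_
        rw [hcG, h2]
        push_cast at e2 ⊢; linear_combination e2
  · exfalso
    rw [hK] at e2
    obtain ⟨hL, θ, hθL, hθ⟩ := h.loc hall (H := K ⊓ centralizer ({w * y} : Set G)) rfl
    set L := normalizer ((K ⊓ centralizer ({w * y} : Set G) : Subgroup G) : Set G) with hLdef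
    have hLne : L ≠ ⊤ := h.nor_ne_top inf_le_left (by rw [← hk1]; omega)
    have hPL : (P : Subgroup G) ≤ L := fun g hg => hL g (h.dh.z_comm hg).symm
    obtain ⟨l, hl, hcL⟩ := h.card_L hPL
    have hd := L.card_mul_index
    have hdvd := SmallSimple.two_mul_card_dvd_factorial_index hG L hLne
    rw [hcG] at hd hdvd
    set d := L.index with hddef
    have hd1 : d ≠ 1 := fun h1 => hLne (Subgroup.index_eq_one.1 h1)
    have hld : l * d = g := by
      rw [hcL, mul_assoc] at hd
      omega
    have hdodd : d % 2 = 1 := by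
      by_contra h2
      obtain ⟨e, he⟩ : 2 ∣ d := by omega
      rw [he, ← mul_assoc, mul_comm l 2, mul_assoc] at hld
      omega
    have hf := form_sub h hL hθ hθL (k0 := k0) (k1 := k1) (n0 := k1) (n1 := k0) hk0.symm hk1.symm
      hK (by rw [hK]; ring)
    rw [hK] at hf
    rcases hf with ⟨X', hX', hX1', e'⟩ | ⟨X', hX', hX1', e'⟩
    · rw [hcL] at e'
      have := arithOne (X := X) (X' := X') (a := k0 * k1) (b := k1 + k0) (g := g) (l := l) hg hl
        (Nat.mul_pos (by omega) (by omega)) (by omega) (by omega) hX hX1 hX' hX1'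
        (by push_cast at e2 ⊢; linear_combination e2)
        (by push_cast at e' ⊢; linear_combination e') ⟨d, hld.symm⟩
      rw [← this] at hld
      have h1 : g * d = g * 1 := by rw [hld, mul_one]
      exact hd1 (Nat.eq_of_mul_eq_mul_left (by omega) h1)
    · obtain ⟨hbig, hcase⟩ := arithB1 (X := X) (X' := X') (a := k0) (b := k1) (g := g) (l := Nat.card L) (d := d)
        hg hk0odd hk1odd hge hle hX hX1 hX' hX1'
        (by push_cast at e2 ⊢; linear_combination e2)
        (by push_cast at e' ⊢; linear_combination e') hd.symm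
      rcases Nat.lt_or_ge d 9 with hd9 | hd9
      · have h7 : Nat.factorial d ∣ Nat.factorial 7 := Nat.factorial_dvd_factorial (by omega)
        have h8 := hdvd.trans h7
        have h9 : Nat.factorial 7 = 16 * 315 := by decide
        rw [h9] at h8
        have h10 : g ∣ 315 := by
          have : 16 * g ∣ 16 * 315 := by
            have e3 : 2 * (8 * g) = 16 * g := by ring
            rwa [e3] at h8
          exact Nat.dvd_of_mul_dvd_mul_left (by norm_num) this
        have h11 := Nat.le_of_dvd (by norm_num) h10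
        omega
      · rcases hcase with hcase | ⟨hc1, hc2⟩
        · omega
        · have h15 : 8 * g ∣ Nat.factorial 15 := by
            refine Dvd.dvd.trans (Dvd.intro_left 2 rfl) (hdvd.trans (Nat.factorial_dvd_factorial hc2))
          obtain ⟨h1, h2⟩ := arithB2 (X := X) (a := k0) (b := k1) (g := g) (l := Nat.card L) (d := d)
            hg hk0odd hk1odd hge hle hX hX1
            (by push_cast at e2 ⊢; linear_combination e2) hd.symm hc1 hd9 hc2 h15
          exact no_29160 hG (by rw [hcG, h1]) L h2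

end Cfg

end Cfsg.Agent.Lib.S4X
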