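import Mathlib
import Cfsg.Agent.Lib.S4XOrd
import Cfsg.Agent.Lib.C3XMain
import Cfsg.Agent.Lib.DihRec
import Cfsg.Agent.Lib.ClSeven
import Cfsg.Agent.Lib.Cores
import Cfsg.Agent.S3035
import Cfsg.Agent.S3278
import Cfsg.Agent.S3279
import Cfsg.Agent.S0495

/-!
# Simple groups with an element whose centralizer has order at most 4 (helper20)
-/

set_option autoImplicit false

open Subgroup

namespace Cfsg.Agent.Lib.S4X

open Cfsg Cfsg.Agent.Lib.DihSylow Cfsg.Agent.Lib.H52Dih1 Cfsg.Agent.Lib.H52Dih8

universe u

variable {G : Type u} [Group G] [Finite G]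

/-- the conclusion, with `A_7` replaced by its order -/
def Out (G : Type u) [Group G] : Prop :=
  Nonempty (G ≃* ↥(alternatingGroup (Fin 5))) ∨ Nonempty (G ≃* ↥(alternatingGroup (Fin 6))) ∨
    Nat.card G = 2520 ∨ Nonempty (G ≃* Matrix.ProjectiveSpecialLinearGroup (Fin 2) (ZMod 7))

theorem not_perm [IsSimpleGroup G] (hG : ¬ IsMulCommutative G) {n : ℕ} (hn : 2 ≤ n)
    (e : G ≃* Equiv.Perm (Fin n)) : False := by
  have h1 := hom_units_trivial hG ((Equiv.Perm.sign (α := Fin n)).comp e.toMonoidHom)
    (e.symm (Equiv.swap ⟨0, by omega⟩ ⟨1, by omega⟩))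
  have h2 : Equiv.Perm.sign (e (e.symm (Equiv.swap (⟨0, by omega⟩ : Fin n) ⟨1, by omega⟩))) = 1 := h1
  rw [MulEquiv.apply_symm_apply, Equiv.Perm.sign_swap (by simp)] at h2
  exact absurd h2 (by decide)

theorem not_central [IsSimpleGroup G] (hG : ¬ IsMulCommutative G) {z : G} (hz : z ≠ 1)
    (h : ∀ g : G, g * z = z * g) : False := by
  rcases (inferInstance : (center G).Normal).eq_bot_or_eq_top with h1 | h1
  · have : z ∈ center G := Subgroup.mem_center_iff.2 h
    rw [h1, Subgroup.mem_bot] at this
    exact hz this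
  · apply hG
    refine ⟨⟨fun a b => ?_⟩⟩
    have : b ∈ center G := by rw [h1]; trivial
    exact Subgroup.mem_center_iff.1 this a

theorem bot_case [IsSimpleGroup G] (hG : ¬ IsMulCommutative G) {P : Sylow 2 G} {w y : G} {K : Subgroup G}
    (h : Cfg P w y K) (hK : K = ⊥) : Out G := by
  set z := w ^ ((2 : ℕ) : ℤ) with hz
  have hzo : orderOf z = 2 := orderOf_eq_prime (by rw [pow_two]; exact h.dh.z_sq) h.dh.z_ne
  have hCP : centralizer ({z} : Set G) = (P : Subgroup G) := by
    apply le_antisymm
    · intro g hg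
      rw [Subgroup.mem_centralizer_singleton_iff] at hg
      obtain ⟨k, hk, s, hs, rfl⟩ := h.comp.fac g hg
      rw [hK, Subgroup.mem_bot] at hk
      rw [hk, one_mul]; exact hs
    · intro g hg
      rw [Subgroup.mem_centralizer_singleton_iff]
      exact (h.dh.z_comm hg).symm
  have hdih : Nonempty (↥(centralizer ({z} : Set G)) ≃* DihedralGroup 4) := by
    rw [hCP]
    let a : (P : Subgroup G) := ⟨w, h.dh.xS⟩
    let b : (P : Subgroup G) := ⟨y, h.dh.yS⟩
    refine DihRec.dihedral_of_gens 4 a b (by norm_num) (by rw [Subgroup.orderOf_mk]; exact h.ho)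
      (by rw [h.dh.card]) ?_ (Subtype.ext h.dh.hy) ?_
    · rintro ⟨i, hi⟩
      exact h.dh.hyx ⟨i, congrArg Subtype.val hi⟩
    · apply Subtype.ext
      show (y * w) * (y * w) = 1
      have h1 := h.dh.hy
      calc (y * w) * (y * w) = (y * w) * y * w := by group
        _ = (w⁻¹ * y) * y * w := by rw [h.yw]
        _ = w⁻¹ * (y * y) * w := by group
        _ = 1 := by rw [h1]; group
  rcases Cfsg.Agent.S3035.result z hzo hdih with h1 | h1 | h1 | h1 | h1
  · exfalso
    rcases (inferInstance : (Cfsg.oddCore G).Normal).eq_bot_or_eq_top with h2 | h2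
    · rw [h2, sup_bot_eq] at h1
      refine not_central hG h.dh.z_ne fun g => ?_
      have : g ∈ centralizer ({z} : Set G) := by rw [h1]; trivial
      exact Subgroup.mem_centralizer_singleton_iff.1 this
    · have h3 : Nat.card ↥(Cfsg.oddCore G) = Nat.card G := by rw [h2, Subgroup.card_top]
      have h4 : 2 ∣ Nat.card G := by rw [← hzo]; exact orderOf_dvd_natCard z
      have h5 := Cores.coprime_card_pPrimeCore 2 G
      rw [h3] at h5
      exact (Nat.Prime.coprime_iff_not_dvd Nat.prime_two).1 h5.symm h4
  · obtain ⟨e⟩ := h1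
    exact (not_perm hG (by norm_num) e).elim
  · obtain ⟨e⟩ := h1
    exact (not_perm hG (by norm_num) e).elim
  · right; right; right
    obtain ⟨e⟩ := h1
    haveI : Fact (Nat.Prime 7) := ⟨by norm_num⟩
    refine Cfsg.Agent.S0495.result ?_ (F := ZMod 7) (ZMod.card 7)
    rw [Nat.card_congr e.toEquiv]
    exact ClSeven.card_sl32
  · exact Or.inr (Or.inl h1)

/-- the main case -/
theorem order_four [IsSimpleGroup G] (hG : ¬ IsMulCommutative G) {w : G} (hw : orderOf w = 4)
    (hc : Nat.card (centralizer ({w} : Set G)) = 4) : Out G := by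
  haveI : Fact (Nat.Prime 2) := ⟨Nat.prime_two⟩
  have hp : IsPGroup 2 (zpowers w) := IsPGroup.of_card (n := 2) (by rw [Nat.card_zpowers, hw]; rfl)
  obtain ⟨P, hP⟩ := hp.exists_le_sylow
  obtain ⟨y, hy⟩ := exists_DH hG hw hc P (hP (mem_zpowers w))
  obtain ⟨K, hK⟩ := exists_comp hy
  have h : Cfg P w y K := ⟨hw, hc, hy, hK⟩
  have hall : ∀ s : G, orderOf s = 2 → IsConj (w ^ ((2 : ℕ) : ℤ)) s :=
    fun s hs => (hy.conj_z_of_no_index_two (fun H => no_index_two hG H) hs).symm
  rcases le_total (Nat.card ↥(K ⊓ centralizer ({w * y} : Set G)))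
    (Nat.card ↥(K ⊓ centralizer ({y} : Set G))) with hle | hle
  · rcases h.order_cases hG hall hle with h1 | h1
    · exact bot_case hG h h1
    · exact Or.inr (Or.inr (Or.inl h1))
  · have e : K ⊓ centralizer ({w * (w * y)} : Set G) = K ⊓ centralizer ({y} : Set G) := by
      ext k
      rw [Subgroup.mem_inf, Subgroup.mem_inf]
      refine and_congr_right fun hk => ?_
      rw [Subgroup.mem_centralizer_singleton_iff, Subgroup.mem_centralizer_singleton_iff]
      have h3 := h.comp.le k hk
      have h4 : w ^ ((2 : ℕ) : ℤ) = w * w := by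
        rw [← pow_two]; norm_cast
      rw [h4] at h3
      have e1 : k * (w * (w * y)) = w * w * (k * y) := by
        calc k * (w * (w * y)) = (k * (w * w)) * y := by group
          _ = w * w * (k * y) := by rw [h3]; group
      have e2 : w * (w * y) * k = w * w * (y * k) := by group
      rw [e1, e2, mul_right_inj]
    rcases h.swap.order_cases hG hall (by rw [e]; exact hle) with h1 | h1
    · exact bot_case hG h h1
    · exact Or.inr (Or.inr (Or.inl h1))

theorem cyclic_case [IsSimpleGroup G] (hG : ¬ IsMulCommutative G) {w : G} (hw : orderOf w = 2)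
    (hc : IsCyclic (centralizer ({w} : Set G))) : False := by
  haveI : Fact (Nat.Prime 2) := ⟨Nat.prime_two⟩
  have h3 : Nat.card {u : ↥(Subgroup.centralizer ({w} : Set G)) // orderOf u = 2} ≤ 3 := by
    classical
    haveI := Fintype.ofFinite (centralizer ({w} : Set G))
    rw [Nat.card_eq_fintype_card, Fintype.card_subtype]
    rcases Nat.eq_zero_or_pos (Finset.univ.filter fun u : centralizer ({w} : Set G) => orderOf u = 2).card with h0 | h0
    · omega
    · obtain ⟨u, hu⟩ := Finset.card_pos.1 h0
      rw [Finset.mem_filter] at hu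
      have h2 : 2 ∣ Fintype.card (centralizer ({w} : Set G)) := by
        rw [← hu.2]; exact orderOf_dvd_card
      have := IsCyclic.card_orderOf_eq_totient (α := centralizer ({w} : Set G)) h2
      rw [this]
      decide
  obtain ⟨⟨S, hS⟩, -⟩ := Cfsg.Agent.S3279.result w hw h3
  have hcyc : IsCyclic (S : Subgroup G) := by
    have : IsCyclic ((S : Subgroup G).subgroupOf (centralizer ({w} : Set G))) := inferInstance
    exact isCyclic_of_surjective (Subgroup.subgroupOfEquivOfLe hS) (Subgroup.subgroupOfEquivOfLe hS).surjective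
  obtain ⟨H, hH⟩ := QWFusion.exists_index_two_of_cyclic_sylow S hcyc (by
    intro h
    have h1 : 2 ∣ Nat.card (S : Subgroup G) := by
      apply S.dvd_card_of_dvd_card
      rw [← hw]; exact orderOf_dvd_natCard w
    rw [h, Subgroup.card_bot] at h1
    omega)
  exact no_index_two hG H hH

theorem three_case [IsSimpleGroup G] (hG : ¬ IsMulCommutative G) {w : G} (hw : C3X.SC w) : Out G := by
  rcases Cfsg.Agent.Lib.C3X.feit_thompson hw with ⟨N, hN, -, -, h1⟩ | ⟨N, hN, -, -, h1⟩ | h1
  · exfalso
    rcases hN.eq_bot_or_eq_top with h2 | h2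
    · subst h2
      have e := QuotientGroup.quotientBot (G := G)
      rcases h1 with h1 | ⟨⟨e'⟩⟩
      · rw [Nat.card_congr e.toEquiv] at h1
        haveI : Fact (Nat.Prime 3) := ⟨Nat.prime_three⟩
        haveI := isCyclic_of_prime_card h1
        exact hG ⟨⟨fun a b => (IsCyclic.commGroup (α := G)).mul_comm a b⟩⟩
      · exact not_perm hG (by norm_num) (e.symm.trans e')
    · have h3 : Nat.card (G ⧸ N) = 1 := by
        subst h2
        exact Subgroup.index_top
      rcases h1 with h1 | ⟨⟨e'⟩⟩
      · omega
      · rw [Nat.card_congr e'.toEquiv, Nat.card_perm] at h3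
        revert h3; simp
  · rcases hN.eq_bot_or_eq_top with h2 | h2
    · subst h2
      obtain ⟨e'⟩ := h1
      exact Or.inl ⟨(QuotientGroup.quotientBot (G := G)).symm.trans e'⟩
    · exfalso
      have h3 : Nat.card (G ⧸ N) = 1 := by
        subst h2
        exact Subgroup.index_top
      obtain ⟨e'⟩ := h1
      rw [Nat.card_congr e'.toEquiv] at h3
      have h4 := nat_card_alternatingGroup (α := Fin 5)
      rw [h3, Nat.card_eq_fintype_card, Fintype.card_fin] at h4
      revert h4; decide
  · exact Or.inr (Or.inr (Or.inr h1))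

theorem main [IsSimpleGroup G] (hG : ¬ IsCyclic G)
    (w : G) (hw : Nat.card ↥(Subgroup.centralizer ({w} : Set G)) ≤ 4) : Out G := by
  have hG' : ¬ IsMulCommutative G := by
    intro h
    apply hG
    letI : CommGroup G := { mul_comm := h.is_comm.comm }
    exact IsSimpleGroup.isCyclic
  set C := Subgroup.centralizer ({w} : Set G) with hC
  have hwC : w ∈ C := by rw [hC, Subgroup.mem_centralizer_singleton_iff]
  have hdvd : orderOf w ∣ Nat.card C := by
    have := orderOf_dvd_natCard (⟨w, hwC⟩ : C)
    rwa [Subgroup.orderOf_mk] at this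
  have hpos : 0 < Nat.card C := Nat.card_pos
  haveI : Fact (Nat.Prime 2) := ⟨Nat.prime_two⟩
  have hw1 : orderOf w ≠ 1 := by
    intro h1
    rw [orderOf_eq_one_iff] at h1
    have h2 : C = ⊤ := by
      rw [eq_top_iff]
      intro g _
      rw [hC, Subgroup.mem_centralizer_singleton_iff, h1, mul_one, one_mul]
    rw [h2, Subgroup.card_top] at hw
    have hG2 : 2 ≤ Nat.card G := Finite.one_lt_card
    have hprime : ∀ p : ℕ, p.Prime → Nat.card G = p → False := by
      intro p hp hc
      haveI : Fact p.Prime := ⟨hp⟩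
      exact hG (isCyclic_of_prime_card hc)
    have h4 : Nat.card G = 2 ∨ Nat.card G = 3 ∨ Nat.card G = 4 := by omega
    rcases h4 with h4 | h4 | h4
    · exact hprime 2 Nat.prime_two h4
    · exact hprime 3 Nat.prime_three h4
    · exact hG' (IsPGroup.isMulCommutative_of_card_eq_prime_sq (p := 2) (by rw [h4]; rfl))
  have hcyc : ∀ g ∈ C, orderOf g = Nat.card C → IsCyclic C := by
    intro g hg ho
    exact isCyclic_of_orderOf_eq_card (⟨g, hg⟩ : C) (by rw [Subgroup.orderOf_mk, ho])
  have hcases : Nat.card C = 1 ∨ Nat.card C = 2 ∨ Nat.card C = 3 ∨ Nat.card C = 4 := by omega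
  rcases hcases with h1 | h1 | h1 | h1
  · exfalso
    rw [h1, Nat.dvd_one] at hdvd
    exact hw1 hdvd
  · exfalso
    rw [h1, Nat.dvd_prime Nat.prime_two] at hdvd
    rcases hdvd with h2 | h2
    · exact hw1 h2
    · exact cyclic_case hG' h2 (hcyc w hwC (by rw [h1, h2]))
  · rw [h1, Nat.dvd_prime Nat.prime_three] at hdvd
    rcases hdvd with h2 | h2
    · exact absurd h2 hw1
    · refine three_case hG' (w := w) ⟨h2, fun g hg => ?_⟩
      have h3 : zpowers w = C := by
        apply Subgroup.eq_of_le_of_card_ge
        · rw [Subgroup.zpowers_le]; exact hwC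
        · rw [h1, Nat.card_zpowers, h2]
      rw [h3, hC, Subgroup.mem_centralizer_singleton_iff]
      exact hg
  · have h2 : orderOf w = 2 ∨ orderOf w = 4 := by
      have h3 : orderOf w ∣ 4 := by rw [← h1]; exact hdvd
      have h4 : orderOf w ≤ 4 := Nat.le_of_dvd (by norm_num) h3
      have h5 : 0 < orderOf w := orderOf_pos w
      generalize orderOf w = o at *
      interval_cases o <;> simp_all
    rcases h2 with h2 | h2
    · by_cases hex : ∃ g ∈ C, orderOf g = 4
      · obtain ⟨g, hg, ho⟩ := hex
        exact (cyclic_case hG' h2 (hcyc g hg (by rw [ho, h1]))).elim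
      · left
        push Not at hex
        have hsq : ∀ g ∈ C, g * g = 1 := by
          intro g hg
          have h3 : orderOf g ∣ 4 := by
            have := orderOf_dvd_natCard (⟨g, hg⟩ : C)
            rwa [Subgroup.orderOf_mk, h1] at this
          have h4 : orderOf g ≤ 4 := Nat.le_of_dvd (by norm_num) h3
          have h5 : 0 < orderOf g := orderOf_pos g
          have h6 := hex g hg
          have h7 : orderOf g ∣ 2 := by
            generalize orderOf g = o at *
            interval_cases o <;> simp_all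
          have := orderOf_dvd_iff_pow_eq_one.1 h7
          rwa [pow_two] at this
        have hK : IsKleinFour C := by
          refine ⟨h1, ?_⟩
          have h3 : Monoid.exponent C ∣ 2 := by
            apply Monoid.exponent_dvd_of_forall_pow_eq_one
            rintro ⟨g, hg⟩
            apply Subtype.ext
            show g ^ 2 = 1
            rw [pow_two]; exact hsq g hg
          rcases (Nat.dvd_prime Nat.prime_two).1 h3 with h4 | h4
          · exfalso
            rw [Monoid.exp_eq_one_iff] at h4
            have := Finite.card_le_one_iff_subsingleton.2 h4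
            omega
          · exact h4
        refine Cfsg.Agent.S3278.result w h2 C le_rfl hK ?_ ?_
        · rw [Subgroup.relIndex_self]; norm_num
        · rw [Subgroup.subgroupOf_self]; infer_instance
    · exact order_four hG' h2 h1

end Cfsg.Agent.Lib.S4X
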