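import Cfsg.Agent.Lib.JTw26
import Cfsg.Agent.Lib.J3PDef

set_option autoImplicit false
open Cfsg Cfsg.Agent.Lib.LargeExtra Cfsg.Agent.Lib.JTw Cfsg.Agent.Lib.JTw.Setup Cfsg.Agent.Lib.J3P

namespace Cfsg.Agent.Lib.SL16

/-- ENT : entry -/
theorem ent {G : Type*} [Group G] [Finite G] [IsSimpleGroup G] (t : G) (ht : orderOf t = 2) (Q : Subgroup (Subgroup.centralizer ({t} : Set G))) [Q.Normal] (hQ : Cfsg.IsExtraspecial 2 Q) (hcard : Nat.card Q = 32) (hminus : ∀ E : Subgroup Q, Cfsg.IsElementaryAbelian 2 E → Nat.card E ≤ 2 ^ 2) (h2c : Subgroup.centralizer (Q : Set (Subgroup.centralizer ({t} : Set G))) ≤ Q) (e : (Subgroup.centralizer ({t} : Set G)) ⧸ Q ≃* alternatingGroup (Fin 5)) (hone : ∀ x y : G, orderOf x = 2 → orderOf y = 2 → IsConj x y) :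
    ∃ S : Setup G, One S := by
  obtain ⟨S, -⟩ := exists_setup' t ht Q hQ hcard hminus h2c e
  refine ⟨S, fun y hy2 hy1 => ?_⟩
  have hz : S.z * S.z = 1 := S.base.pre.sq
  have hz1 : S.z ≠ 1 := S.base.pre.ne
  have := Fact.mk Nat.prime_two
  exact hone _ _ (orderOf_eq_prime (by rw [pow_two]; exact hz) hz1) (orderOf_eq_prime (by rw [pow_two]; exact hy2) hy1)

end Cfsg.Agent.Lib.SL16
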