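import Cfsg.Agent.Lib.J3PE3
import Cfsg.Agent.Lib.J3PB2
import Cfsg.Agent.Lib.J3PE0
import Cfsg.Agent.Lib.J3PDa
import Cfsg.Agent.Lib.J3PC2
import Cfsg.Agent.Lib.BrauerFowler
import Cfsg.Agent.Lib.H8Simple
import Cfsg.Agent.Lib.J3PE1
import Mathlib

/-! # S1652, piece NV1: elements of order 5, 3, 2 in the normalizer of the elementary abelian subgroup of order 16 -/

set_option autoImplicit false
open Cfsg Cfsg.Agent.Lib.LargeExtra Cfsg.Agent.Lib.JTw Cfsg.Agent.Lib.JTw.Setup Cfsg.Agent.Lib.J3P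

namespace Cfsg.Agent.Lib.SL16

open PP

variable {G : Type*} [Group G] [Finite G] {S : Setup G} {a b : G}

theorem exists_y (h1 : One S) (p : PP S a b) : ∃ y : G, orderOf y = 3 ∧
    y ∈ Subgroup.normalizer ((X a b : Subgroup G) : Set G) ∧
    (∀ c ∈ X a b, c ≠ 1 → y * c * y⁻¹ ∈ Bk S a b c) ∧
    90 ∣ Nat.card ↥(Subgroup.normalizer ((X a b : Subgroup G) : Set G) ⊓ Subgroup.centralizer ({y} : Set G)) := by
  have h3p : Fact (Nat.Prime 3) := ⟨Nat.prime_three⟩
  have h5p : Fact (Nat.Prime 5) := ⟨Nat.prime_five⟩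
  have h2p : Fact (Nat.Prime 2) := ⟨Nat.prime_two⟩
  set N := Subgroup.normalizer ((X a b : Subgroup G) : Set G) with hN
  set L := (p.act h1).ker with hL
  have hLn : L.Normal := MonoidHom.normal_ker _
  obtain ⟨P⟩ : Nonempty (Sylow 3 L) := inferInstance
  have hPc : Nat.card P = 3 := by
    rw [P.card_eq_multiplicity, p.card_ker h1]
    have : Nat.factorization 48 3 = 1 := by
      rw [show 48 = 2 ^ 4 * 3 by norm_num]
      rw [Nat.factorization_mul (by norm_num) (by norm_num), Nat.factorization_pow]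
      simp [Nat.Prime.factorization Nat.prime_two, Nat.Prime.factorization Nat.prime_three]
    rw [this]; norm_num
  set P' : Subgroup N := (P : Subgroup L).map L.subtype with hP'
  have hP'c : Nat.card P' = 3 := by
    rw [← hPc]
    exact Nat.card_congr ((P : Subgroup L).equivMapOfInjective _ (Subgroup.subtype_injective _)).symm.toEquiv
  have hfr := Sylow.normalizer_sup_eq_top P
  set M := Subgroup.normalizer ((P' : Subgroup N) : Set N) with hM
  have hcard : 180 ∣ Nat.card M := by
    have e1 : L.relIndex M = 60 := by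
      rw [← Subgroup.relIndex_sup_right, hfr, Subgroup.relIndex_top_right]
      have e2 := Subgroup.card_mul_index L
      rw [p.card_ker h1, p.card_N h1] at e2
      omega
    have e3 := Subgroup.card_mul_index (L.subgroupOf M)
    change _ * L.relIndex M = _ at e3
    rw [e1] at e3
    have e4 : 3 ∣ Nat.card (L.subgroupOf M) := by
      have e5 : P' ≤ M := Subgroup.le_normalizer
      have e6 : P' ≤ L := by
        rintro _ ⟨y, _, rfl⟩; exact y.2
      have e7 : Nat.card (P'.subgroupOf M) = 3 := by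
        rw [← hP'c]; exact Nat.card_congr (Subgroup.subgroupOfEquivOfLe e5).toEquiv
      rw [← e7]
      apply Subgroup.card_dvd_of_le
      intro y hy
      exact e6 hy
    obtain ⟨k, hk⟩ := e4
    rw [← e3, hk]
    exact ⟨k, by ring⟩
  -- a generator
  have hP'n : Nontrivial P' := by
    rw [← Finite.one_lt_card_iff_nontrivial, hP'c]; norm_num
  obtain ⟨y, hyo⟩ := exists_prime_orderOf_dvd_card' (G := P') 3 (by rw [hP'c])
  have hyo' : orderOf (y : N) = 3 := by rw [Subgroup.orderOf_coe, hyo]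
  have hzp : Subgroup.zpowers (y : N) = P' := by
    apply Subgroup.eq_of_le_of_card_ge
    · rw [Subgroup.zpowers_le]; exact y.2
    · rw [hP'c, Nat.card_zpowers, hyo']
  have hyy : ∀ m ∈ M, m * (y : N) * m⁻¹ = y ∨ m * (y : N) * m⁻¹ = (y : N)⁻¹ := by
    intro m hm
    have e1 : m * (y : N) * m⁻¹ ∈ Subgroup.zpowers (y : N) := by
      rw [hzp]; exact (Subgroup.mem_normalizer_iff.1 hm _).1 y.2
    have e2 : orderOf (m * (y : N) * m⁻¹) = 3 := by
      rw [← hyo']
      exact orderOf_injective (MulAut.conj m).toMonoidHom (MulAut.conj m).injective (y : N)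
    obtain ⟨k, hk⟩ := Subgroup.mem_zpowers_iff.1 e1
    have e3 := zpow_mod_orderOf (y : N) k
    rw [hyo'] at e3
    have hk0 : k % ((3 : ℕ) : ℤ) = 0 ∨ k % ((3 : ℕ) : ℤ) = 1 ∨ k % ((3 : ℕ) : ℤ) = 2 := by omega
    have y3 : (y : N) ^ 3 = 1 := by rw [← hyo']; exact pow_orderOf_eq_one _
    rcases hk0 with h | h | h
    · exfalso
      rw [h, zpow_zero, hk] at e3
      rw [← e3, orderOf_one] at e2; omega
    · left
      rw [h, zpow_one, hk] at e3
      exact e3.symm
    · right
      rw [h, hk] at e3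
      rw [← e3, eq_comm, inv_eq_iff_mul_eq_one]
      rw [show ((2 : ℤ)) = ((2 : ℕ) : ℤ) by norm_num, zpow_natCast, ← pow_succ']
      exact y3
  have h90 : 90 ∣ Nat.card ↥(M ⊓ Subgroup.centralizer ({(y : N)} : Set N)) := by
    have e1 := InvAct.card_conj_orbit M (y : N)
    have e2 : {v : N | ∃ k ∈ M, k * (y : N) * k⁻¹ = v} ⊆ {(y : N), (y : N)⁻¹} := by
      rintro v ⟨k, hk, rfl⟩
      rcases hyy k hk with h | h
      · rw [h]; exact Or.inl rfl
      · rw [h]; exact Or.inr rfl
    have e3 := Set.ncard_le_ncard e2 (Set.toFinite _)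
    have e4 : ({(y : N), (y : N)⁻¹} : Set N).ncard ≤ 2 := by
      refine (Set.ncard_insert_le _ _).trans ?_
      rw [Set.ncard_singleton]
    set m := {v : N | ∃ k ∈ M, k * (y : N) * k⁻¹ = v}.ncard with hm
    have hm2 : m ≤ 2 := e3.trans e4
    obtain ⟨k, hk⟩ := hcard
    interval_cases m
    · exfalso
      rw [zero_mul] at e1
      exact Nat.card_pos.ne' e1
    · rw [one_mul] at e1; rw [← e1, hk]; exact ⟨2 * k, by ring⟩
    · rw [hk] at e1
      exact ⟨k, by omega⟩
  set C := M ⊓ Subgroup.centralizer ({(y : N)} : Set N) with hC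
  have hyL : (y : N) ∈ L := by
    have e6 : P' ≤ L := by
      rintro _ ⟨y, _, rfl⟩; exact y.2
    exact e6 y.2
  refine ⟨((y : N) : G), ?_, (y : N).2, fun c hc hc1 => p.mem_ker h1 hyL hc hc1, ?_⟩
  · rw [Subgroup.orderOf_coe, hyo']
  · refine h90.trans ?_
    have e1 : Nat.card (C.map N.subtype) = Nat.card C :=
      Nat.card_congr (C.equivMapOfInjective _ (Subgroup.subtype_injective _)).symm.toEquiv
    rw [← e1]
    apply Subgroup.card_dvd_of_le
    rintro _ ⟨c, hc, rfl⟩
    refine ⟨c.2, mem_centralizer_one.2 ?_⟩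
    exact congrArg (Subtype.val) (mem_centralizer_one.1 hc.2)

theorem fpf_y (h1 : One S) (p : PP S a b) {y : G} (hy : orderOf y = 3)
    (hfix : ∀ c ∈ X a b, c ≠ 1 → y * c * y⁻¹ ∈ Bk S a b c) {v : G} (hv : v ∈ X a b) (hyv : y * v = v * y) : v = 1 := by
  by_contra hv1
  obtain ⟨d, hd, q, hX⟩ := p.pair_at h1 hv hv1
  have h2 := q.semireg h1 (l := y) (fun c hc hc1 => by
    have h3 := hfix c (hX ▸ hc) hc1
    simpa only [Bk, hX] using h3) hyv
  have h3 := q.X_sq h2
  have h4 : orderOf y ∣ 2 := orderOf_dvd_of_pow_eq_one (by rw [pow_two]; exact h3)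
  rw [hy] at h4
  norm_num at h4

theorem fpf_x (h1 : One S) (p : PP S a b) {x y : G} (hx : orderOf x = 5) (hxy : x * y = y * x)
    (hxN : x ∈ Subgroup.normalizer ((X a b : Subgroup G) : Set G)) {v : G} (hv : v ∈ X a b) (hxv : x * v = v * x) : v = 1 := by
  by_contra hv1
  set K := X a b ⊓ Subgroup.centralizer ({x} : Set G) with hK
  have hK2 : Nat.card K ∣ 16 := by
    rw [← p.card_X]; exact Subgroup.card_dvd_of_le inf_le_left
  have hK1 : Nat.card K ≠ 1 := by
    intro h
    have h2 := Subgroup.card_eq_one.1 h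
    have h3 : v ∈ K := ⟨hv, mem_centralizer_one.2 hxv.symm⟩
    rw [h2] at h3
    exact hv1 (Subgroup.mem_bot.1 h3)
  have hmod : 16 ≡ Nat.card K [MOD 5] := by
    have : Fact (Nat.Prime 5) := ⟨Nat.prime_five⟩
    have h2 := Cfsg.Agent.Lib.H8Simple.fixed_modEq x 5 (by rw [← hx]; exact pow_orderOf_eq_one x) (X a b)
      (fun c hc => norm_mem hxN hc)
    rwa [p.card_X] at h2
  have h16 : Nat.card K = 16 := by
    have h5 : Nat.card K ∈ Nat.divisors 16 := Nat.mem_divisors.2 ⟨hK2, by norm_num⟩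
    have h6 : Nat.divisors 16 = {1, 2, 4, 8, 16} := by decide
    rw [h6] at h5
    simp only [Finset.mem_insert, Finset.mem_singleton] at h5
    rcases h5 with h | h | h | h | h
    · exact absurd h hK1
    · rw [h] at hmod; exact absurd hmod (by decide)
    · rw [h] at hmod; exact absurd hmod (by decide)
    · rw [h] at hmod; exact absurd hmod (by decide)
    · exact h
  have hKX : K = X a b := Subgroup.eq_of_le_of_card_ge inf_le_left (by rw [h16, p.card_X])
  have hxX : x ∈ X a b := by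
    have e : ∀ c ∈ X a b, x * c = c * x := by
      intro c hc
      rw [← hKX] at hc
      exact (mem_centralizer_one.1 hc.2).symm
    exact mem_X.2 ⟨e a p.a_mem, e b p.b_mem⟩
  have h3 := p.X_sq hxX
  have h4 : orderOf x ∣ 2 := orderOf_dvd_of_pow_eq_one (by rw [pow_two]; exact h3)
  rw [hx] at h4
  norm_num at h4

theorem no90 {K : Type*} [Group K] [Finite K] (h : Nat.card K = 90) (h6 : Nat.card (Sylow 5 K) = 6) : False := by
  have h5p : Fact (Nat.Prime 5) := ⟨Nat.prime_five⟩
  obtain ⟨K0, hK0⟩ := BrauerFowler.exists_index_two_of_two_mod_four (G := K) (by rw [h])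
  have c0 : Nat.card K0 = 45 := by
    have := K0.card_mul_index
    rw [hK0, h] at this; omega
  have f90 : (90 : ℕ).factorization 5 = 1 := by
    rw [show (90 : ℕ) = 2 * 3 ^ 2 * 5 by norm_num, Nat.factorization_mul (by norm_num) (by norm_num),
      Nat.factorization_mul (by norm_num) (by norm_num), Nat.factorization_pow]
    simp [Nat.Prime.factorization Nat.prime_two, Nat.Prime.factorization Nat.prime_three,
      Nat.Prime.factorization Nat.prime_five]
  have f45 : (45 : ℕ).factorization 5 = 1 := by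
    rw [show (45 : ℕ) = 3 ^ 2 * 5 by norm_num, Nat.factorization_mul (by norm_num) (by norm_num),
      Nat.factorization_pow]
    simp [Nat.Prime.factorization Nat.prime_three, Nat.Prime.factorization Nat.prime_five]
  obtain ⟨P⟩ : Nonempty (Sylow 5 K0) := inferInstance
  have cP : Nat.card P = 5 := by rw [P.card_eq_multiplicity, c0, f45]; norm_num
  have e1 : (P : Subgroup K0).index = 9 := by
    have := (P : Subgroup K0).card_mul_index
    rw [c0] at this
    change Nat.card P * _ = 45 at this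
    rw [cP] at this; omega
  have e2 := P.card_dvd_index
  rw [e1] at e2
  have e3 := card_sylow_modEq_one 5 K0
  have e4 : Nat.card (Sylow 5 K0) = 1 := by
    have h5 : Nat.card (Sylow 5 K0) ∈ Nat.divisors 9 := Nat.mem_divisors.2 ⟨e2, by norm_num⟩
    have h6 : Nat.divisors 9 = {1, 3, 9} := by decide
    rw [h6] at h5
    simp only [Finset.mem_insert, Finset.mem_singleton] at h5
    rcases h5 with h | h | h
    · exact h
    · rw [h] at e3; exact absurd e3 (by decide)
    · rw [h] at e3; exact absurd e3 (by decide)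
  have e5 : Subgroup.normalizer ((P : Subgroup K0) : Set K0) = ⊤ := by
    rw [← Subgroup.index_eq_one, ← e4]
    exact P.card_eq_index_normalizer.symm
  set Q : Subgroup K := (P : Subgroup K0).map K0.subtype with hQ
  have cQ : Nat.card Q = 5 := by
    rw [← cP]
    exact Nat.card_congr ((P : Subgroup K0).equivMapOfInjective _ (Subgroup.subtype_injective _)).symm.toEquiv
  let Q' : Sylow 5 K := Sylow.ofCard Q (by rw [cQ, h, f90]; norm_num)
  have e6 : K0 ≤ Subgroup.normalizer (Q : Set K) := by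
    have h7 := Subgroup.le_normalizer_map (H := (P : Subgroup K0)) K0.subtype
    rw [e5] at h7
    intro g hg
    exact h7 ⟨⟨g, hg⟩, Subgroup.mem_top _, rfl⟩
  have e7 := Subgroup.index_dvd_of_le e6
  have e8 : Nat.card (Sylow 5 K) = (Subgroup.normalizer (Q : Set K)).index := Q'.card_eq_index_normalizer
  rw [← e8, h6, hK0] at e7
  norm_num at e7

theorem no15 {K : Subgroup G} {x : G} (hxK : x ∈ K) (hx : orderOf x = 5) (h90 : 90 ∣ Nat.card K)
    (h360 : Nat.card K ∣ 360)
    (h15 : Nat.card ↥(Subgroup.normalizer (Subgroup.zpowers x : Set G) ⊓ K) = 15) : False := by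
  have h5p : Fact (Nat.Prime 5) := ⟨Nat.prime_five⟩
  have hle : Subgroup.zpowers x ≤ K := by rw [Subgroup.zpowers_le]; exact hxK
  have hcard : Nat.card K = 90 ∨ Nat.card K = 180 ∨ Nat.card K = 360 := by
    obtain ⟨k, hk⟩ := h90
    rw [hk] at h360 ⊢
    have h2 : k ∣ 4 := by
      rw [show (360 : ℕ) = 90 * 4 by norm_num] at h360
      exact Nat.dvd_of_mul_dvd_mul_left (by norm_num) h360
    have h3 : k ∈ Nat.divisors 4 := Nat.mem_divisors.2 ⟨h2, by norm_num⟩
    have h4 : Nat.divisors 4 = {1, 2, 4} := by decide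
    rw [h4] at h3
    simp only [Finset.mem_insert, Finset.mem_singleton] at h3
    omega
  have hfac : (Nat.card K).factorization 5 = 1 := by
    have h25 : ¬ 5 ^ 2 ∣ Nat.card K := by
      rcases hcard with h | h | h <;> rw [h] <;> norm_num
    have h5 : 5 ^ 1 ∣ Nat.card K := by
      rcases hcard with h | h | h <;> rw [h] <;> norm_num
    have h6 := (Nat.prime_five.pow_dvd_iff_le_factorization Nat.card_pos.ne').1 h5
    have h7 : ¬ 2 ≤ (Nat.card K).factorization 5 := fun h =>
      h25 ((Nat.prime_five.pow_dvd_iff_le_factorization Nat.card_pos.ne').2 h)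
    omega
  set P := (Subgroup.zpowers x).subgroupOf K with hP
  have cP : Nat.card P = 5 := by
    rw [hP, Nat.card_congr (Subgroup.subgroupOfEquivOfLe hle).toEquiv, Nat.card_zpowers, hx]
  let Q : Sylow 5 K := Sylow.ofCard P (by rw [cP, hfac]; norm_num)
  have e1 : Nat.card (Sylow 5 K) = (Subgroup.normalizer (P : Set K)).index := Q.card_eq_index_normalizer
  have e2 : Nat.card (Subgroup.normalizer (P : Set K)) = 15 := by
    have e3 := Subgroup.subgroupOf_normalizer_eq hle
    rw [hP, ← e3, ← h15, ← Subgroup.inf_subgroupOf_right]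
    exact Nat.card_congr (Subgroup.subgroupOfEquivOfLe inf_le_right).toEquiv
  have e4 := (Subgroup.normalizer (P : Set K)).card_mul_index
  rw [e2, ← e1] at e4
  have e5 := card_sylow_modEq_one 5 K
  rcases hcard with h | h | h
  · exact no90 h (by omega)
  · have : Nat.card (Sylow 5 K) = 12 := by omega
    rw [this] at e5; exact absurd e5 (by decide)
  · have : Nat.card (Sylow 5 K) = 24 := by omega
    rw [this] at e5; exact absurd e5 (by decide)

theorem nv1 (S : Setup G) (h1 : One S) : ∃ (V : Subgroup G) (x y i : G), Nat.card V = 16 ∧ (∀ v ∈ V, v * v = 1) ∧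
    orderOf x = 5 ∧ orderOf y = 3 ∧ orderOf i = 2 ∧ x * y = y * x ∧ i * x * i⁻¹ = x⁻¹ ∧ i * y = y * i ∧
    (∀ v ∈ V, x * v * x⁻¹ ∈ V) ∧ (∀ v ∈ V, y * v * y⁻¹ ∈ V) ∧ (∀ v ∈ V, i * v * i⁻¹ ∈ V) ∧
    (∀ v ∈ V, x * v = v * x → v = 1) ∧ (∀ v ∈ V, y * v = v * y → v = 1) := by
  have h2p : Fact (Nat.Prime 2) := ⟨Nat.prime_two⟩
  have h5p : Fact (Nat.Prime 5) := ⟨Nat.prime_five⟩
  have f := S.exists_four
  obtain ⟨t, ht⟩ := f.exists_T
  have p : PP S S.z t := ⟨S.z_z, f.T_sq ht, f.R_comm_u ht.1, ht.2.1⟩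
  obtain ⟨y, hy, hyN, hyfix, h90⟩ := exists_y h1 p
  set N := Subgroup.normalizer ((X S.z t : Subgroup G) : Set G) with hN
  set K := N ⊓ Subgroup.centralizer ({y} : Set G) with hK
  obtain ⟨x0, hx0⟩ := exists_prime_orderOf_dvd_card' (G := K) 5 ((by norm_num : 5 ∣ 90).trans h90)
  obtain ⟨s0, hs0⟩ := exists_prime_orderOf_dvd_card' (G := K) 2 ((by norm_num : 2 ∣ 90).trans h90)
  set x : G := (x0 : G) with hxd
  set s : G := (s0 : G) with hsd
  have hx : orderOf x = 5 := by rw [hxd, Subgroup.orderOf_coe, hx0]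
  have hs : orderOf s = 2 := by rw [hsd, Subgroup.orderOf_coe, hs0]
  have hxy : x * y = y * x := mem_centralizer_one.1 x0.2.2
  have hsy : s * y = y * s := mem_centralizer_one.1 s0.2.2
  have hn : ((Subgroup.zpowers y).subgroupOf (Subgroup.centralizer ({y} : Set G))).Normal := by
    refine ⟨fun a ha g => ?_⟩
    rw [Subgroup.mem_subgroupOf] at ha ⊢
    have h2 : (g : G) * (a : G) * (g : G)⁻¹ = (a : G) := by
      obtain ⟨k, hk⟩ := Subgroup.mem_zpowers_iff.1 ha
      rw [← hk]
      have h3 : Commute (g : G) y := (mem_centralizer_one.1 g.2)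
      rw [(h3.zpow_right k).eq]; group
    simpa [h2] using ha
  obtain ⟨e⟩ := quot_a6_of S h1 hx hy hs hxy hsy (fun hs' hsy' hsC => cent_dih S hs' hy hsy' hsC)
  obtain ⟨c1, c2, c3, i, hi, iy, ix⟩ := six_facts hy e hx hxy
  have hiN := Cfsg.Agent.Lib.J3P.E1.mem_norm_of_inv ix
  have hyK : y ∈ K := ⟨hyN, mem_centralizer_one.2 rfl⟩
  have hxK : x ∈ K := x0.2
  set Kx := Subgroup.normalizer (Subgroup.zpowers x : Set G) ⊓ K with hKx
  have d1 : Kx ≤ Subgroup.normalizer (Subgroup.zpowers x : Set G) ⊓ Subgroup.centralizer ({y} : Set G) :=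
    fun g hg => ⟨hg.1, hg.2.2⟩
  have d2 : Subgroup.centralizer ({x} : Set G) ⊓ Subgroup.centralizer ({y} : Set G) ≤ Kx := by
    rintro g ⟨hg1, hg2⟩
    refine ⟨?_, ?_⟩
    · have h3 : Subgroup.centralizer ((Subgroup.zpowers x : Subgroup G) : Set G) ≤
          Subgroup.normalizer (Subgroup.zpowers x : Set G) := Subgroup.centralizer_le_normalizer _
      apply h3
      rw [Subgroup.mem_centralizer_iff]
      intro w hw
      obtain ⟨k, rfl⟩ := Subgroup.mem_zpowers_iff.1 hw
      have h4 : Commute x g := (mem_centralizer_one.1 hg1).symm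
      exact (h4.zpow_left k).eq
    · obtain ⟨k, hk⟩ := zp_fifteen hx hy hxy c2 (mem_centralizer_one.1 hg1) (mem_centralizer_one.1 hg2)
      rw [hk]
      exact mul_mem (zpow_mem hxK k) (zpow_mem hyK k)
  have d3 := Subgroup.card_dvd_of_le d1
  have d4 := Subgroup.card_dvd_of_le d2
  rw [c3] at d3
  rw [c2] at d4
  have h360 : Nat.card K ∣ 360 := by
    have g1 : Nat.card K ∣ 1080 := by rw [← c1]; exact Subgroup.card_dvd_of_le inf_le_right
    have g2 : Nat.card K ∣ 2880 := by rw [← p.card_N h1]; exact Subgroup.card_dvd_of_le inf_le_left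
    exact (Nat.dvd_gcd g1 g2).trans (by norm_num)
  have hiV : i ∈ N := by
    obtain ⟨k, hk⟩ := d4
    rw [hk] at d3
    have h2 : k ∣ 2 := by
      rw [show (30 : ℕ) = 15 * 2 by norm_num] at d3
      exact Nat.dvd_of_mul_dvd_mul_left (by norm_num) d3
    rcases (Nat.dvd_prime Nat.prime_two).1 h2 with h | h
    · exfalso
      rw [h, mul_one] at hk
      exact no15 hxK hx h90 h360 hk
    · rw [h] at hk
      have h3 : Kx = Subgroup.normalizer (Subgroup.zpowers x : Set G) ⊓ Subgroup.centralizer ({y} : Set G) :=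
        Subgroup.eq_of_le_of_card_ge d1 (by rw [c3, hk])
      have h4 : i ∈ Kx := by rw [h3]; exact ⟨hiN, mem_centralizer_one.2 iy⟩
      exact h4.2.1
  refine ⟨X S.z t, x, y, i, p.card_X, fun v hv => p.X_sq hv, hx, hy, hi, hxy, ix, iy, fun v hv => norm_mem hxK.1 hv,
    fun v hv => norm_mem hyN hv, fun v hv => norm_mem hiV hv, fun v hv h => fpf_x h1 p hx hxy hxK.1 hv h,
    fun v hv h => fpf_y h1 p hy hyfix hv h⟩

end Cfsg.Agent.Lib.SL16
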