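import Cfsg.Agent.Lib.J3PE3
import Cfsg.Agent.Lib.J3PE1
import Cfsg.Agent.Lib.J3PE0
import Cfsg.Agent.Lib.J3PDa
import Cfsg.Agent.Lib.J3PC2
import Cfsg.Agent.Lib.J3PC3b

set_option autoImplicit false
open Cfsg Cfsg.Agent.Lib.LargeExtra Cfsg.Agent.Lib.JTw Cfsg.Agent.Lib.JTw.Setup Cfsg.Agent.Lib.J3P

namespace Cfsg.Agent.Lib.SL16

variable {G : Type*} [Group G] [Finite G]

/-- NV2 : the element `j` -/
theorem nv2 (S : Setup G) (h1 : One S) {x y i : G} (hx : orderOf x = 5) (hy : orderOf y = 3) (hi : orderOf i = 2)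
    (hxy : x * y = y * x) (ix : i * x * i⁻¹ = x⁻¹) (iy : i * y = y * i) :
    ∃ j : G, orderOf j = 2 ∧ j * x = x * j ∧ j * y * j⁻¹ = y⁻¹ ∧ i * j = j * i := by
  have hn : ((Subgroup.zpowers y).subgroupOf (Subgroup.centralizer ({y} : Set G))).Normal := by
    refine ⟨fun a ha g => ?_⟩
    rw [Subgroup.mem_subgroupOf] at ha ⊢
    have h2 : (g : G) * (a : G) * (g : G)⁻¹ = (a : G) := by
      obtain ⟨k, hk⟩ := Subgroup.mem_zpowers_iff.1 ha
      rw [← hk]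
      have h3 : Commute (g : G) y := (mem_centralizer_one.1 g.2)
      rw [(h3.zpow_right k).eq]; group
    simpa [h2] using ha
  obtain ⟨e⟩ := quot_a6_of S h1 hx hy hi hxy iy (fun hs' hsy' hsC => cent_dih S hs' hy hsy' hsC)
  obtain ⟨-, h15, -, -⟩ := six_facts hy e hx hxy
  obtain ⟨j, hj, jx, jy⟩ := exists_j_of S h1 hx hy hi hxy iy e (fun hs' hsy' => exists_inv S hs' hy hsy')
  have hjj : j * j = 1 := by rw [← pow_two, ← hj]; exact pow_orderOf_eq_one j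
  have hii : i * i = 1 := by rw [← pow_two, ← hi]; exact pow_orderOf_eq_one i
  exact ⟨j, hj, jx, jy, ij_comm hx hy hjj hii hxy jx.symm jy ix iy h15⟩

end Cfsg.Agent.Lib.SL16
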