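import Cfsg.Agent.Lib.J3PE3
import Cfsg.Agent.Lib.SL16LIFT

set_option autoImplicit false
open Cfsg Cfsg.Agent.Lib.LargeExtra Cfsg.Agent.Lib.JTw Cfsg.Agent.Lib.JTw.Setup Cfsg.Agent.Lib.J3P

namespace Cfsg.Agent.Lib.SL16

variable {G : Type*} [Group G] [Finite G]

theorem braid_of_cube {G : Type*} [Group G] {w s : G} (hw : w * w = 1) (hs : s * s = 1) (h : (w * s) ^ 3 = 1) :
    w * s * w = s * w * s := by
  have hwi : w⁻¹ = w := inv_eq_of_mul_eq_one_left hw
  have hsi : s⁻¹ = s := inv_eq_of_mul_eq_one_left hs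
  have h1 : (w * s * w) * (s * w * s) = 1 := by
    rw [← h, pow_succ, pow_two]; group
  have h2 : w * s * w = (s * w * s)⁻¹ := eq_inv_of_mul_eq_one_left h1
  rw [h2, mul_inv_rev, mul_inv_rev, hwi, hsi]; group

/-- TW (uses LIFT) : the relation -/
theorem tw (S : Setup G) (h1 : One S) {y i j t : G} (hy : orderOf y = 3) (hi : orderOf i = 2) (iy : i * y = y * i)
    (hj : orderOf j = 2) (jy : j * y * j⁻¹ = y⁻¹) (ij : i * j = j * i) (ht2 : t * t = 1) (ti : t * i = i * t)
    (htq : t ∉ S.q i) (htq' : t * (y * t * y⁻¹) ∉ S.q i) (hty : t * (y * t * y⁻¹) = y⁻¹ * t * y) :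
    ∃ k : ℤ, (i * j) * (y ^ k * t * (y ^ k)⁻¹) * (i * j) = (y ^ k * t * (y ^ k)⁻¹) * (i * j) * (y ^ k * t * (y ^ k)⁻¹) ∨
      j * (y ^ k * t * (y ^ k)⁻¹) * j = (y ^ k * t * (y ^ k)⁻¹) * j * (y ^ k * t * (y ^ k)⁻¹) := by
  have hii : i * i = 1 := by rw [← pow_two, ← hi]; exact pow_orderOf_eq_one i
  have hjj : j * j = 1 := by rw [← pow_two, ← hj]; exact pow_orderOf_eq_one j
  have hi1 : i ≠ 1 := by rintro rfl; simp at hi
  have hji : j⁻¹ = j := inv_eq_of_mul_eq_one_left hjj
  have hZ : S.Z i := h1 i hii hi1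
  have hb : Base i (S.q i) := Setup.Z.base hZ
  obtain ⟨φ, -, hφ⟩ := hb.ex
  have hmem : ∀ {g : G}, g * i = i * g → g ∈ Subgroup.centralizer ({i} : Set G) := fun h => mem_centralizer_one.2 h
  have hiC := hmem (g := i) rfl
  have hjC := hmem (g := j) ij.symm
  have htC := hmem (g := t) ti
  have hyC := hmem (g := y) iy.symm
  have hle : S.q i ≤ Subgroup.centralizer ({i} : Set G) := hb.Q_le
  have hcard : Nat.card ((S.q i).subgroupOf (Subgroup.centralizer ({i} : Set G))) = 32 := by
    rw [Nat.card_congr (Subgroup.subgroupOfEquivOfLe hle).toEquiv, hb.card]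
  have hwC := hmem (g := i * j) (by rw [mul_assoc, ← ij])
  have hww : (i * j) * (i * j) = 1 := by
    calc (i * j) * (i * j) = i * (j * i) * j := by group
      _ = i * (i * j) * j := by rw [ij]
      _ = (i * i) * (j * j) := by group
      _ = 1 := by rw [hii, hjj, one_mul]
  have hwy : (i * j) * y * (i * j) = y⁻¹ := by
    calc (i * j) * y * (i * j) = i * (j * y * j⁻¹) * (j * i * j) := by group
      _ = i * y⁻¹ * (j * i * j) := by rw [jy]
      _ = i * y⁻¹ * (i * (j * j)) := by rw [← ij]; group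
      _ = (i * y⁻¹) * i := by rw [hjj, mul_one]
      _ = (y⁻¹ * i) * i := by
          have : i * y⁻¹ = y⁻¹ * i := ((show Commute i y from iy).inv_right).eq
          rw [this]
      _ = y⁻¹ := by rw [mul_assoc, hii, mul_one]
  obtain ⟨k, hk⟩ := lift (C := Subgroup.centralizer ({i} : Set G)) ((S.q i).subgroupOf _) ⟨i, hiC⟩
    hb.pre.mem (Subtype.ext hii) (fun g => Subtype.ext (mem_centralizer_one.1 g.2)) hcard φ
    (fun g => hφ g)
    (fun g hg q hq hc => by
      have h5 : orderOf (g : G) = 5 := by rw [Subgroup.orderOf_coe]; exact hg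
      rcases hb.five_fix (mem_centralizer_one.1 g.2) h5 q hq (congrArg Subtype.val hc) with h | h
      · left; exact Subtype.ext h
      · right; exact Subtype.ext h)
    ⟨t, htC⟩ ⟨y, hyC⟩ ⟨i * j, hwC⟩ (Subtype.ext ht2) htq (by rw [Subgroup.orderOf_mk]; exact hy) htq'
    (Subtype.ext hty) (Subtype.ext hww) (Subtype.ext hwy)
  refine ⟨k, ?_⟩
  set s : G := y ^ k * t * (y ^ k)⁻¹ with hs
  have hss : s * s = 1 := by
    rw [hs]
    calc y ^ k * t * (y ^ k)⁻¹ * (y ^ k * t * (y ^ k)⁻¹) = y ^ k * (t * t) * (y ^ k)⁻¹ := by group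
      _ = 1 := by rw [ht2]; group
  have hsi : s * i = i * s := by
    have h3 : Commute i y := iy
    have h4 : Commute i (y ^ k) := h3.zpow_right k
    have h5 : Commute i t := ti.symm
    exact (((h4.mul_right h5).mul_right h4.inv_right).eq).symm
  rcases hk with hk | hk
  · left
    have h2 : ((i * j) * s) ^ 3 = 1 := by
      have := congrArg Subtype.val hk
      simpa using this
    exact braid_of_cube hww hss h2
  · right
    have h2 : ((i * j) * s) ^ 3 = i := by
      have := congrArg Subtype.val hk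
      simpa using this
    apply braid_of_cube hjj hss
    have h3 : j * s = i * ((i * j) * s) := by
      symm
      calc i * ((i * j) * s) = (i * i) * (j * s) := by simp only [mul_assoc]
        _ = j * s := by rw [hii, one_mul]
    have h4 : Commute i ((i * j) * s) := ((Commute.refl i).mul_right (show Commute i j from ij)).mul_right hsi.symm
    rw [h3, h4.mul_pow, h2, pow_succ, pow_two, hii, one_mul, hii]

end Cfsg.Agent.Lib.SL16
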