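import Cfsg.Agent.Lib.SL2Ortho
import Cfsg.Agent.Lib.CharValues

/-! Classification of the irreducible characters of `SL₂(q)`. -/

namespace Cfsg.Agent.Lib.SL2Class

open Cfsg Classical Matrix ComplexConjugate
open Cfsg.Agent.Lib.SL2Basic Cfsg.Agent.Lib.SL2Tori Cfsg.Agent.Lib.SL2Int Cfsg.Agent.Lib.SL2Ind
open Cfsg.Agent.Lib.CharBasic Cfsg.Agent.Lib.LinChar Cfsg.Agent.Lib.SL2Ortho

universe u

section general

variable {G : Type u} [Group G] [Fintype G]

theorem norm_sub_smul_nonneg {φ a : G → ℂ} {n : ℂ} (ha : classInner a a = 1)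
    (hn : classInner φ a = n) (hn' : conj n = n) :
    classInner (φ - n • a) (φ - n • a) = classInner φ φ - n ^ 2 := by
  have h1 : classInner a φ = n := by rw [← conj_classInner, hn, hn']
  rw [classInner_sub_left, classInner_sub_right, classInner_sub_right, classInner_smul_left,
    classInner_smul_right, classInner_smul_left, classInner_smul_right, hn, h1, ha, hn']
  ring

theorem classInner_self_nonneg (φ : G → ℂ) : ∃ r : ℝ, 0 ≤ r ∧ classInner φ φ = r := by
  refine ⟨_, ?_, classInner_self φ⟩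
  positivity

/-- a character of norm two is the sum of two distinct irreducible characters -/
theorem exists_two_irr {χ : G → ℂ} (hχ : IsCharacter G χ) (h2 : classInner χ χ = 2) :
    ∃ a b : G → ℂ, IsIrrCharacter G a ∧ IsIrrCharacter G b ∧ a ≠ b ∧ χ = a + b := by
  have hne : χ ≠ 0 := by
    rintro rfl
    rw [classInner_self_eq_zero.2 rfl] at h2
    norm_num at h2
  obtain ⟨a, ha, hna⟩ := hχ.exists_constituent hne
  obtain ⟨n, hn⟩ := hχ.classInner_nat ha.isCharacter
  have h3 := norm_sub_smul_nonneg (φ := χ) ha.classInner_self hn (by simp)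
  obtain ⟨r, hr, h4⟩ := classInner_self_nonneg (χ - (n : ℂ) • a)
  rw [h3, h2] at h4
  have h5 : (2 : ℝ) - (n : ℝ) ^ 2 = r := by exact_mod_cast h4
  have hn1 : n = 1 := by
    have h6 : (n : ℝ) ^ 2 ≤ 2 := by linarith
    have h7 : n ^ 2 ≤ 2 := by exact_mod_cast h6
    have h8 : n ≠ 0 := by
      rintro rfl
      apply hna; rw [hn]; simp
    have : n ≤ 1 := by nlinarith
    omega
  subst hn1
  have hb : IsCharacter G (χ - a) := hχ.sub_constituent ha hna
  have h6 : classInner (χ - a) (χ - a) = 1 := by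
    have e : ((1 : ℕ) : ℂ) • a = a := by simp
    rw [e, h2] at h3
    rw [h3]; norm_num
  refine ⟨a, χ - a, ha, hb.isIrr_of_norm_one h6, ?_, by abel⟩
  intro h
  have h7 : classInner (χ - a) a = 0 := by
    rw [classInner_sub_left, hn, ha.classInner_self]; simp
  rw [← h, ha.classInner_self] at h7
  exact one_ne_zero h7

/-- orthogonal characters have no common constituents -/
theorem classInner_eq_zero_of_ortho {φ ψ χ : G → ℂ} (hφ : IsCharacter G φ) (hψ : IsCharacter G ψ)
    (h : classInner φ ψ = 0) (hχ : IsIrrCharacter G χ) (h1 : classInner χ φ ≠ 0) :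
    classInner χ ψ = 0 := by
  have h1' : classInner φ χ ≠ 0 := by
    intro h2
    apply h1
    rw [← conj_classInner, h2, map_zero]
  have h2 := hφ.sub_constituent hχ h1'
  obtain ⟨n, hn⟩ := h2.classInner_nat hψ
  obtain ⟨m, hm⟩ := hχ.isCharacter.classInner_nat hψ
  have h3 : classInner φ ψ = classInner (φ - χ) ψ + classInner χ ψ := by
    rw [classInner_sub_left]; ring
  rw [h, hn, hm] at h3
  have h4 : (0 : ℕ) = n + m := by exact_mod_cast h3
  have h5 : m = 0 := by omega
  rw [hm, h5]; simp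

end general

section cyc

/-- in a cyclic group there is at most one character of order two -/
theorem sq_one_unique {A : Type u} [Group A] [IsCyclic A] {θ θ' : A →* ℂˣ} (h : θ ^ 2 = 1)
    (h' : θ' ^ 2 = 1) (h1 : θ ≠ 1) (h1' : θ' ≠ 1) : θ = θ' := by
  obtain ⟨g, hg⟩ := IsCyclic.exists_generator (α := A)
  have key : ∀ φ : A →* ℂˣ, φ ^ 2 = 1 → φ ≠ 1 → φ g = -1 := by
    intro φ hφ hφ1
    have h2 : (φ g) ^ 2 = 1 := by
      rw [← MonoidHom.pow_apply, hφ]; rfl
    have h3 : ((φ g : ℂˣ) : ℂ) ^ 2 = 1 := by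
      rw [← Units.val_pow_eq_pow_val, h2, Units.val_one]
    rcases mul_self_eq_one_iff.1 ((pow_two _).symm.trans h3) with h | h
    · exfalso
      apply hφ1
      apply MonoidHom.ext
      intro a
      obtain ⟨k, rfl⟩ := hg a
      simp only [map_zpow, MonoidHom.one_apply]
      have h4 : φ g = 1 := Units.ext (by rw [h, Units.val_one])
      rw [h4, _root_.one_zpow]
    · exact Units.ext h
  apply MonoidHom.ext
  intro a
  obtain ⟨k, rfl⟩ := hg a
  simp only [map_zpow]
  rw [key θ h h1, key θ' h' h1']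

end cyc

variable {F : Type u} [Field F]

local notation "SL2" => Matrix.SpecialLinearGroup (Fin 2) F
local notation "M2" => Matrix (Fin 2) (Fin 2) F
local notation "q" => (Nat.card F : ℂ)

variable [Finite F] [Fintype (Matrix.SpecialLinearGroup (Fin 2) F)]

/-- inner product with a function supported on the unipotent elements -/
theorem inner_unip {χ ψ : SL2 → ℂ} (hχ : IsClassFunction SL2 χ) (hψ : IsClassFunction SL2 ψ)
    [Fintype Fˣ] {A₀ : SL2} (h0 : IsEll A₀) (v w : ℂ)
    (h1 : ψ 1 = v) (hz : ∀ z ∈ Zs F, z ≠ 1 → ψ z = 0)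
    (hu : ∀ b : Fˣ, ψ (uu (b : F)) = w) (hzu : ∀ z ∈ Zs F, z ≠ 1 → ∀ b : Fˣ, ψ (z * uu (b : F)) = 0)
    (hT : ∀ g ∈ (ST : Set SL2), ψ g = 0) (hC : ∀ g ∈ SC A₀, ψ g = 0) :
    (q * ((q - 1) * (q + 1))) * classInner χ ψ =
      χ 1 * conj v + (q + 1) * conj w * ∑ b : Fˣ, χ (uu (b : F)) := by
  have := Fintype.ofFinite (Subgroup.centralizer ({A₀} : Set SL2))
  have h := inner_formula hχ hψ h0 (fun _ => 0) (fun _ => 0)
    (fun g hg => by rw [hT g hg, map_zero, mul_zero])
    (fun g hg => by rw [hC g hg, map_zero, mul_zero])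
  have e1 : ∑ z ∈ Zs F, χ z * conj (ψ z) = χ 1 * conj v := by
    rw [Finset.sum_eq_single_of_mem (1 : SL2) (by simp [Zs])]
    · rw [h1]
    · intro z hz' hz1
      rw [hz z hz' hz1, map_zero, mul_zero]
  have e2 : ∑ z ∈ Zs F, ∑ b : Fˣ, χ (z * uu (b : F)) * conj (ψ (z * uu (b : F))) =
      conj w * ∑ b : Fˣ, χ (uu (b : F)) := by
    rw [Finset.sum_eq_single_of_mem (1 : SL2) (by simp [Zs])]
    · rw [Finset.mul_sum]
      apply Finset.sum_congr rfl
      intro b _
      rw [one_mul, hu b]; ring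
    · intro z hz' hz1
      apply Finset.sum_eq_zero
      intro b _
      rw [hzu z hz' hz1 b, map_zero, mul_zero]
  rw [e1, e2] at h
  simp only [Finset.sum_const_zero, sub_zero, mul_zero, add_zero] at h
  apply mul_left_cancel₀ (two_ne_zero (α := ℂ))
  linear_combination h

omit [Finite F] [Fintype (Matrix.SpecialLinearGroup (Fin 2) F)] in
theorem Zs_ne_one {z : SL2} (hz : z ∈ Zs F) (h1 : z ≠ 1) :
    ∃ c : Fˣ, (z : M2) 0 0 = (c : F) ∧ c ≠ 1 := by
  obtain ⟨e1, e2, e3, e4, c, hc, hc'⟩ := Zs_entries hz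
  refine ⟨c, hc, ?_⟩
  rintro rfl
  apply h1
  rw [Units.val_one] at hc
  apply ext2
  · rw [hc]; simp
  · rw [e1]; simp
  · rw [e2]; simp
  · rw [e3, hc]; simp

/-- sum of the multiplicities in the principal series -/
theorem sum_inner_R {χ : SL2 → ℂ} (hχ : IsClassFunction SL2 χ) [Fintype Fˣ]
    [Fintype (MulChar F ℂ)] :
    q * ∑ α : MulChar F ℂ, classInner χ (R α) = χ 1 + ∑ b : Fˣ, χ (uu (b : F)) := by
  obtain ⟨A₀, h0⟩ := exists_isEll (F := F)
  rw [← classInner_sum_right]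
  have happ : ∀ g : SL2, (∑ α : MulChar F ℂ, R α) g = ∑ α : MulChar F ℂ, R α g := by
    intro g; rw [Finset.sum_apply]
  have hcl : IsClassFunction SL2 (∑ α : MulChar F ℂ, R α) :=
    isClassFunction_sum _ _ (fun α _ => R_isClassFunction α)
  have h := inner_unip hχ hcl h0 ((q - 1) * (q + 1)) (q - 1) ?_ ?_ ?_ ?_ ?_ ?_
  · have h1 := q_ne_zero (F := F)
    have h2 := q_sub_one_ne_zero (F := F)
    have h3 := q_add_one_ne_zero (F := F)
    simp only [map_mul, map_sub, map_add, map_one, map_natCast] at h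
    have h4 : (q - 1) * (q + 1) ≠ 0 := mul_ne_zero h2 h3
    apply mul_left_cancel₀ h4
    linear_combination h
  · rw [happ]
    simp only [R_one, Finset.sum_const, Finset.card_univ, nsmul_eq_mul]
    rw [← Nat.card_eq_fintype_card, card_mulChar]
    have h2 : 1 ≤ Nat.card F := Finite.card_pos
    push_cast [Nat.cast_sub h2]
    ring
  · intro z hz hz1
    obtain ⟨c, hc, hc1⟩ := Zs_ne_one hz hz1
    rw [happ]
    simp only [R_center _ (mem_Zs.1 hz), hc]
    rw [← Finset.mul_sum, sum_mulChars, if_neg hc1, mul_zero]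
  · intro b
    rw [happ]
    have hmem : uu (b : F) ∈ (SP : Set SL2) := by
      have := mul_uu_mem_SP (z := (1 : SL2)) (by simp [Zs]) b
      rwa [one_mul] at this
    have e : ((uu (b : F) : SL2) : M2) 0 0 = ((1 : Fˣ) : F) := by simp [coe_uu]
    simp only [R_par _ hmem, e]
    rw [sum_mulChars, if_pos rfl]
  · intro z hz hz1 b
    obtain ⟨c, hc, hc1⟩ := Zs_ne_one hz hz1
    rw [happ]
    simp only [R_par _ (mul_uu_mem_SP hz b), mul_uu_00 hz, hc]
    rw [sum_mulChars, if_neg hc1]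
  · intro g hg
    obtain ⟨c, hc, rfl⟩ := exists_dg_of_mem_ST hg
    rw [happ]
    simp only [R_dg _ hc]
    have hc1 : c ≠ 1 := by rintro rfl; apply hc; simp
    have hc2 : c⁻¹ ≠ 1 := by rw [ne_eq, inv_eq_one]; exact hc1
    rw [Finset.sum_add_distrib, sum_mulChars, sum_mulChars, if_neg hc1, if_neg hc2, add_zero]
  · intro g hg
    rw [happ]
    simp only [R_SC _ h0 hg, Finset.sum_const_zero]

section

variable {A₀ : Matrix.SpecialLinearGroup (Fin 2) F}

omit [Finite F] [Fintype (Matrix.SpecialLinearGroup (Fin 2) F)] in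
theorem C_comm (h0 : IsEll A₀) : ∀ a b : Subgroup.centralizer ({A₀} : Set SL2), a * b = b * a := by
  intro a b
  apply Subtype.ext
  exact centralizer_comm (not_mem_center_of_tr (sq_ne_four_of_no_root h0)) a.2 b.2

omit [Fintype (Matrix.SpecialLinearGroup (Fin 2) F)] in
theorem C_cyclic (h0 : IsEll A₀) : IsCyclic (Subgroup.centralizer ({A₀} : Set SL2)) :=
  (centralizer_of_no_root h0).1

omit [Fintype (Matrix.SpecialLinearGroup (Fin 2) F)] in
theorem C_card (h0 : IsEll A₀) : Nat.card (Subgroup.centralizer ({A₀} : Set SL2)) = Nat.card F + 1 :=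
  (centralizer_of_no_root h0).2

omit [Fintype (Matrix.SpecialLinearGroup (Fin 2) F)] in
theorem finite_homC (h0 : IsEll A₀) :
    Finite (Subgroup.centralizer ({A₀} : Set (Matrix.SpecialLinearGroup (Fin 2) F)) →* ℂˣ) :=
  finite_hom (C_comm h0)

omit [Fintype (Matrix.SpecialLinearGroup (Fin 2) F)] in
theorem sum_xt (h0 : IsEll A₀)
    [Fintype (Subgroup.centralizer ({A₀} : Set (Matrix.SpecialLinearGroup (Fin 2) F)) →* ℂˣ)]
    (t : Subgroup.centralizer ({A₀} : Set SL2)) :
    ∑ θ : Subgroup.centralizer ({A₀} : Set SL2) →* ℂˣ, xt θ t = if t = 1 then q + 1 else 0 := by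
  have h := sum_chars (C_comm h0) t
  simp only [xt_coe]
  rw [h, C_card h0]
  push_cast
  rfl

theorem sum_inner_cusp (h0 : IsEll A₀) {χ : SL2 → ℂ} (hχ : IsClassFunction SL2 χ) [Fintype Fˣ]
    [Fintype (Subgroup.centralizer ({A₀} : Set (Matrix.SpecialLinearGroup (Fin 2) F)) →* ℂˣ)] :
    (q * (q - 1)) * ∑ θ : Subgroup.centralizer ({A₀} : Set SL2) →* ℂˣ, classInner χ (cusp θ) =
      (q - 1) * χ 1 - (q + 1) * ∑ b : Fˣ, χ (uu (b : F)) := by
  rw [← classInner_sum_right]
  have happ : ∀ g : SL2, (∑ θ : Subgroup.centralizer ({A₀} : Set SL2) →* ℂˣ, cusp θ) g =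
      ∑ θ : Subgroup.centralizer ({A₀} : Set SL2) →* ℂˣ, cusp θ g := by
    intro g; rw [Finset.sum_apply]
  have hcl : IsClassFunction SL2 (∑ θ : Subgroup.centralizer ({A₀} : Set SL2) →* ℂˣ, cusp θ) :=
    isClassFunction_sum _ _ (fun θ _ => cusp_isClassFunction θ)
  have h := inner_unip hχ hcl h0 ((q - 1) * (q + 1)) (-(q + 1)) ?_ ?_ ?_ ?_ ?_ ?_
  · have h3 := q_add_one_ne_zero (F := F)
    simp only [map_mul, map_sub, map_add, map_one, map_natCast, map_neg] at h
    apply mul_left_cancel₀ h3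
    linear_combination h
  · rw [happ]
    simp only [cusp_one _ h0, Finset.sum_const, Finset.card_univ, nsmul_eq_mul]
    rw [← Nat.card_eq_fintype_card, card_hom (C_comm h0), C_card h0]
    push_cast
    ring
  · intro z hz hz1
    rw [happ]
    simp only [cusp_Zs _ h0 hz]
    rw [← Finset.mul_sum, sum_xt h0 ⟨z, mem_C_of_Zs hz A₀⟩, if_neg, mul_zero]
    intro h; exact hz1 (congrArg Subtype.val h)
  · intro b
    rw [happ]
    have h1 : ∀ θ : Subgroup.centralizer ({A₀} : Set SL2) →* ℂˣ, cusp θ (uu (b : F)) = - xt θ 1 := by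
      intro θ
      have := cusp_par θ h0 (z := (1 : SL2)) (by simp [Zs]) b
      rwa [one_mul] at this
    simp only [h1]
    have h2 := sum_xt h0 1
    rw [Subgroup.coe_one, if_pos rfl] at h2
    rw [Finset.sum_neg_distrib, h2]
  · intro z hz hz1 b
    rw [happ]
    simp only [cusp_par _ h0 hz]
    rw [Finset.sum_neg_distrib, sum_xt h0 ⟨z, mem_C_of_Zs hz A₀⟩, if_neg, neg_zero]
    intro h; exact hz1 (congrArg Subtype.val h)
  · intro g hg
    rw [happ]
    simp only [cusp_ST _ h0 hg, Finset.sum_const_zero]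
  · intro g hg
    rw [happ]
    simp only [cusp_SC _ h0 hg]
    have hg1 : (⟨g, hg.1⟩ : Subgroup.centralizer ({A₀} : Set SL2)) ≠ 1 := by
      intro h
      apply hg.2
      have : g = 1 := congrArg Subtype.val h
      rw [this]; exact Subgroup.one_mem _
    have h1 := sum_xt h0 ⟨g, hg.1⟩
    have h2 := sum_xt h0 (⟨g, hg.1⟩ : Subgroup.centralizer ({A₀} : Set SL2))⁻¹
    rw [if_neg hg1] at h1
    rw [if_neg (by rw [inv_eq_one]; exact hg1)] at h2
    rw [Finset.sum_neg_distrib, Finset.sum_add_distrib]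
    simp only [Subgroup.coe_inv] at h2
    rw [h1, h2]; simp

/-- the fundamental relation between the multiplicities in the two series -/
theorem fund_relation (h0 : IsEll A₀) {χ : SL2 → ℂ} (hχ : IsClassFunction SL2 χ)
    [Fintype (MulChar F ℂ)]
    [Fintype (Subgroup.centralizer ({A₀} : Set (Matrix.SpecialLinearGroup (Fin 2) F)) →* ℂˣ)] :
    (q - 1) * ∑ θ : Subgroup.centralizer ({A₀} : Set SL2) →* ℂˣ, classInner χ (cusp θ) =
      2 * χ 1 - (q + 1) * ∑ α : MulChar F ℂ, classInner χ (R α) := by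
  have : Fintype F := Fintype.ofFinite F
  have h1 := sum_inner_R hχ
  have h2 := sum_inner_cusp h0 hχ
  apply mul_left_cancel₀ (q_ne_zero (F := F))
  linear_combination h2 + (q + 1) * h1

end

/-! ### The principal series -/

/-- the Steinberg character -/
noncomputable def St : SL2 → ℂ := R 1 - 1

theorem inner_R_one_one : classInner (R (1 : MulChar F ℂ)) 1 = 1 := by
  have := Fintype.ofFinite (Subgroup.comap Matrix.SpecialLinearGroup.toGL (Cfsg.upperTriangularGL 2 F))
  rw [R, IndFun.frobenius_reciprocity _ _ _ (isIrrCharacter_one.isClassFunction)]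
  have h1 : (fun b : (Subgroup.comap Matrix.SpecialLinearGroup.toGL (Cfsg.upperTriangularGL 2 F)) =>
      (1 : MulChar F ℂ) (((b : SL2) : M2) 0 0)) = 1 := by
    ext b
    have hb := mem_bor.1 b.2
    have hd := det2 (b : SL2)
    rw [hb, mul_zero, sub_zero] at hd
    have hu : IsUnit (((b : SL2) : M2) 0 0) := IsUnit.of_mul_eq_one _ hd
    rw [MulChar.one_apply hu]; rfl
  rw [h1]
  exact isIrrCharacter_one.classInner_self

theorem inner_R_one_self : classInner (R (1 : MulChar F ℂ)) (R 1) = 2 := by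
  rw [inner_R_R]; norm_num

theorem St_isIrr : IsIrrCharacter SL2 (St : SL2 → ℂ) := by
  have h1 : classInner (R (1 : MulChar F ℂ)) 1 = 1 := inner_R_one_one
  have h2 : IsCharacter SL2 (St : SL2 → ℂ) :=
    (R_isCharacter 1).sub_constituent isIrrCharacter_one (by rw [h1]; exact one_ne_zero)
  apply h2.isIrr_of_norm_one
  have h3 : classInner (1 : SL2 → ℂ) (R 1) = 1 := by rw [← conj_classInner, h1, map_one]
  rw [St, classInner_sub_left, classInner_sub_right, classInner_sub_right, inner_R_one_self, h1, h3,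
    isIrrCharacter_one.classInner_self]
  norm_num

omit [Finite F] in
theorem R_one_eq : R (1 : MulChar F ℂ) = (1 : SL2 → ℂ) + St := by
  rw [St]; abel

theorem St_one : (St : SL2 → ℂ) 1 = q := by
  rw [St, Pi.sub_apply, R_one]; simp

theorem St_ne_one : (St : SL2 → ℂ) ≠ 1 := by
  intro h
  have h1 := congrFun h 1
  rw [St_one, Pi.one_apply] at h1
  have h2 := q_sub_one_ne_zero (F := F)
  exact h2 (sub_eq_zero.2 h1)

theorem R_isIrr {α : MulChar F ℂ} (h : α ^ 2 ≠ 1) : IsIrrCharacter SL2 (R α) := by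
  apply (R_isCharacter α).isIrr_of_norm_one
  rw [inner_R_R, if_pos rfl, if_neg, add_zero]
  intro h3
  apply h
  rw [pow_two]
  nth_rewrite 2 [h3]
  exact mul_inv_cancel α

theorem R_eq_iff {α β : MulChar F ℂ} (h : α ^ 2 ≠ 1) : R α = R β ↔ β = α ∨ β = α⁻¹ := by
  constructor
  · intro h1
    have h2 := inner_R_R α β
    rw [← h1, (R_isIrr h).classInner_self] at h2
    by_contra h3
    push Not at h3
    rw [if_neg (fun h => h3.1 h.symm), if_neg (fun h => h3.2 (by rw [h, inv_inv]))] at h2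
    norm_num at h2
  · rintro (rfl | rfl)
    · rfl
    · have h2 := inner_R_R α α⁻¹
      rw [inv_inv, if_pos rfl] at h2
      have h3 : ¬ (α = α⁻¹) := by
        intro h3
        apply h
        rw [pow_two]
        nth_rewrite 2 [h3]
        exact mul_inv_cancel α
      rw [if_neg h3, zero_add] at h2
      have h4 : IsIrrCharacter SL2 (R α⁻¹) := by
        apply R_isIrr
        intro h5
        apply h
        rw [inv_pow] at h5
        exact inv_eq_one.1 h5
      by_contra h5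
      rw [(R_isIrr h).classInner_eq_zero h4 h5] at h2
      exact zero_ne_one h2

theorem eq_R_of_inner_ne {χ : SL2 → ℂ} (hχ : IsIrrCharacter SL2 χ) {α : MulChar F ℂ}
    (hα : α ^ 2 ≠ 1) (h : classInner χ (R α) ≠ 0) : χ = R α := by
  by_contra h1
  exact h (hχ.classInner_eq_zero (R_isIrr hα) h1)

theorem eq_one_or_St {χ : SL2 → ℂ} (hχ : IsIrrCharacter SL2 χ)
    (h : classInner χ (R (1 : MulChar F ℂ)) ≠ 0) : χ = 1 ∨ χ = St := by
  by_contra h1
  push Not at h1
  apply h
  rw [R_one_eq, classInner_add_right, hχ.classInner_eq_zero isIrrCharacter_one h1.1,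
    hχ.classInner_eq_zero St_isIrr h1.2, add_zero]

theorem inner_one_R_one : classInner (1 : SL2 → ℂ) (R (1 : MulChar F ℂ)) = 1 := by
  rw [← conj_classInner, inner_R_one_one, map_one]

theorem inner_St_R_one : classInner (St : SL2 → ℂ) (R (1 : MulChar F ℂ)) = 1 := by
  rw [St, classInner_sub_left, inner_R_one_self, inner_one_R_one]; norm_num

theorem inner_R_ne_zero_unique {χ : SL2 → ℂ} (hχ : IsIrrCharacter SL2 χ) {α β : MulChar F ℂ}
    (h : classInner χ (R α) ≠ 0) (h1 : β ≠ α) (h2 : β ≠ α⁻¹) : classInner χ (R β) = 0 := by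
  apply classInner_eq_zero_of_ortho (R_isCharacter α) (R_isCharacter β) _ hχ h
  rw [inner_R_R, if_neg (fun h => h1 h.symm), if_neg (fun h => h2 (by rw [h, inv_inv])), add_zero]

theorem inner_one_R {β : MulChar F ℂ} (h : β ≠ 1) : classInner (1 : SL2 → ℂ) (R β) = 0 := by
  apply inner_R_ne_zero_unique isIrrCharacter_one (α := 1) _ h (by rwa [inv_one])
  rw [inner_one_R_one]; exact one_ne_zero

theorem inner_St_R {β : MulChar F ℂ} (h : β ≠ 1) : classInner (St : SL2 → ℂ) (R β) = 0 := by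
  apply inner_R_ne_zero_unique St_isIrr (α := 1) _ h (by rwa [inv_one])
  rw [inner_St_R_one]; exact one_ne_zero

/-- a linear character in the principal series is trivial -/
theorem linear_eq_one {χ : SL2 → ℂ} (hχ : IsIrrCharacter SL2 χ) (h1 : χ 1 = 1)
    {α : MulChar F ℂ} (h : classInner χ (R α) ≠ 0) : χ = 1 := by
  have : Fintype F := Fintype.ofFinite F
  have : Fintype (MulChar F ℂ) := Fintype.ofFinite _
  have hs := sum_inner_R hχ.isClassFunction
  -- the sum is a positive integer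
  have hpos : ∑ β : MulChar F ℂ, classInner χ (R β) ≠ 0 := by
    choose n hn using fun β : MulChar F ℂ => hχ.isCharacter.classInner_nat (R_isCharacter β)
    simp only [hn]
    have h2 : n α ≠ 0 := by
      intro h3; apply h; rw [hn, h3]; simp
    have h3 : n α ≤ ∑ β, n β := Finset.single_le_sum (fun _ _ => Nat.zero_le _) (Finset.mem_univ α)
    have h4 : ∑ β, n β ≠ 0 := by omega
    exact_mod_cast h4
  have hne : χ 1 + ∑ b : Fˣ, χ (uu (b : F)) ≠ 0 := by
    rw [← hs]; exact mul_ne_zero q_ne_zero hpos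
  have hsum : χ 1 + ∑ b : Fˣ, χ (uu (b : F)) = ∑ b : F, χ (uu b) := by
    have e1 : ∑ b : Fˣ, χ (uu (b : F)) = ∑ b ∈ Finset.univ.erase (0 : F), χ (uu b) := by
      refine Finset.sum_bij (fun b _ => (b : F)) ?_ ?_ ?_ ?_
      · intro b _; simp
      · intro a _ b _ h; exact Units.ext h
      · intro b hb
        simp only [Finset.mem_erase, Finset.mem_univ, and_true] at hb
        exact ⟨Units.mk0 b hb, Finset.mem_univ _, rfl⟩
      · intro b _; rfl
    rw [e1]
    have e2 : χ 1 = χ (uu 0) := by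
      congr 1
      apply ext2 <;> simp [coe_uu]
    rw [e2]
    exact Finset.add_sum_erase Finset.univ (fun b : F => χ (uu b)) (Finset.mem_univ 0)
  rw [hsum] at hne
  have huu : ∀ a b : F, uu a * uu b = uu (a + b) := by
    intro a b
    apply ext2 <;> simp [coe_uu, add_comm]
  have hone : ∀ a : F, χ (uu a) = 1 := by
    intro a
    have e : ∑ b : F, χ (uu b) = χ (uu a) * ∑ b : F, χ (uu b) := by
      rw [Finset.mul_sum]
      symm
      apply Fintype.sum_equiv (Equiv.addLeft a)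
      intro b
      rw [← hχ.isCharacter.map_mul_of_linear h1, huu]; rfl
    have e2 : (χ (uu a) - 1) * ∑ b : F, χ (uu b) = 0 := by linear_combination -e
    rcases mul_eq_zero.1 e2 with h3 | h3
    · exact sub_eq_zero.1 h3
    · exact absurd h3 hne
  obtain ⟨f, hf⟩ := hχ.isCharacter.exists_hom h1
  have htop : f.ker = ⊤ := by
    apply Cfsg.Agent.Lib.ClSL2.eq_top_of_uS_lS
    · intro b
      rw [MonoidHom.mem_ker]
      apply Units.ext
      rw [← hf, Units.val_one, ← hone b]
      congr 1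
      apply ext2 <;> simp [coe_uu]
    · intro b
      have e : Cfsg.Agent.Lib.ClSL2.lS b = uW * uu (-b) * uW⁻¹ := by
        rw [eq_mul_inv_iff_mul_eq]
        have hw : ((uW : SL2) : M2) = !![0, -1; 1, 0] := rfl
        apply Subtype.ext
        change ((Cfsg.Agent.Lib.ClSL2.lS b * uW : SL2) : M2) = ((uW * uu (-b) : SL2) : M2)
        rw [Matrix.SpecialLinearGroup.coe_mul, Matrix.SpecialLinearGroup.coe_mul,
          Cfsg.Agent.Lib.ClSL2.coe_lS, coe_uu, hw]
        ext i j
        fin_cases i <;> fin_cases j <;> simp [Matrix.mul_apply, Fin.sum_univ_two]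
      rw [e, MonoidHom.mem_ker, map_mul, map_mul, map_inv, mul_right_comm, mul_inv_cancel, one_mul]
      apply Units.ext
      rw [← hf, Units.val_one, hone]
  ext g
  rw [hf g]
  have : g ∈ f.ker := by rw [htop]; trivial
  rw [MonoidHom.mem_ker.1 this]; simp

/-! ### The cuspidal series -/

omit [Fintype (Matrix.SpecialLinearGroup (Fin 2) F)] in
/-- class functions are determined by their values on representatives -/
theorem class_ext {A₀ : SL2} (h0 : IsEll A₀) {φ ψ : SL2 → ℂ} (hφ : IsClassFunction SL2 φ)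
    (hψ : IsClassFunction SL2 ψ) (hz : ∀ z ∈ Zs F, φ z = ψ z)
    (hu : ∀ z ∈ Zs F, ∀ b : Fˣ, φ (z * uu (b : F)) = ψ (z * uu (b : F)))
    (hT : ∀ g ∈ (ST : Set SL2), φ g = ψ g) (hC : ∀ g ∈ SC A₀, φ g = ψ g) : φ = ψ := by
  ext g
  rcases types g with ⟨h1, _, _, _⟩ | ⟨_, h2, _, _⟩ | ⟨_, _, h3, _⟩ | ⟨_, _, _, h4⟩
  · exact hz g (mem_Zs.2 h1)
  · obtain ⟨x, hx⟩ := exists_conj_mem_SP_iff.2 h2
    rw [← hφ g x, ← hψ g x]
    obtain ⟨z, hz', b, hb⟩ := exists_of_mem_SP hx
    rw [hb]; exact hu z hz' b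
  · obtain ⟨x, hx⟩ := exists_conj_mem_ST_iff.2 h3
    rw [← hφ g x, ← hψ g x]
    exact hT _ hx
  · obtain ⟨x, hx⟩ := (exists_conj_mem_SC_iff h0).2 h4
    rw [← hφ g x, ← hψ g x]
    exact hC _ hx

section

variable {A₀ : Matrix.SpecialLinearGroup (Fin 2) F}

theorem cusp_one_eq (h0 : IsEll A₀) :
    cusp (1 : Subgroup.centralizer ({A₀} : Set (Matrix.SpecialLinearGroup (Fin 2) F)) →* ℂˣ) =
      St - 1 := by
  have hxt : ∀ g : SL2, g ∈ Subgroup.centralizer ({A₀} : Set SL2) →
      xt (1 : Subgroup.centralizer ({A₀} : Set (Matrix.SpecialLinearGroup (Fin 2) F)) →* ℂˣ) g = 1 := by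
    intro g hg
    have := xt_coe (1 : Subgroup.centralizer ({A₀} : Set (Matrix.SpecialLinearGroup (Fin 2) F)) →* ℂˣ) ⟨g, hg⟩
    rw [this]; simp
  apply class_ext h0 (cusp_isClassFunction _)
    (St_isIrr.isClassFunction.sub isIrrCharacter_one.isClassFunction)
  · intro z hz
    rw [cusp_Zs _ h0 hz, hxt z (mem_C_of_Zs hz A₀), St, Pi.sub_apply, Pi.sub_apply, Pi.one_apply,
      R_center _ (mem_Zs.1 hz), one_Zs hz]
    ring
  · intro z hz b
    rw [cusp_par _ h0 hz, hxt z (mem_C_of_Zs hz A₀), St, Pi.sub_apply, Pi.sub_apply, Pi.one_apply,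
      R_par _ (mul_uu_mem_SP hz b), mul_uu_00 hz, one_Zs hz]
    ring
  · intro g hg
    rw [cusp_ST _ h0 hg, St, Pi.sub_apply, Pi.sub_apply, Pi.one_apply]
    obtain ⟨c, hc, rfl⟩ := exists_dg_of_mem_ST hg
    rw [R_dg _ hc, MulChar.one_apply_coe, MulChar.one_apply_coe]
    ring
  · intro g hg
    rw [cusp_SC _ h0 hg, hxt g hg.1, hxt g⁻¹ (inv_mem hg.1), St, Pi.sub_apply, Pi.sub_apply,
      Pi.one_apply, R_SC _ h0 hg]
    ring

variable {θ : Subgroup.centralizer ({A₀} : Set (Matrix.SpecialLinearGroup (Fin 2) F)) →* ℂˣ}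

omit [Finite F] [Fintype (Matrix.SpecialLinearGroup (Fin 2) F)] in
theorem hom_eq_inv_iff {A : Type*} [Group A] (θ : A →* ℂˣ) : θ = θ⁻¹ ↔ θ ^ 2 = 1 := by
  constructor
  · intro h
    ext a
    have h1 := DFunLike.congr_fun h a
    rw [MonoidHom.inv_apply] at h1
    rw [MonoidHom.pow_apply, pow_two]
    nth_rewrite 2 [h1]
    simp
  · intro h
    ext a
    have h1 := DFunLike.congr_fun h a
    rw [MonoidHom.pow_apply, pow_two, MonoidHom.one_apply] at h1
    rw [MonoidHom.inv_apply]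
    exact congrArg Units.val (mul_eq_one_iff_eq_inv.1 h1)

theorem cusp_isIrr (h0 : IsEll A₀) (h : θ ^ 2 ≠ 1) : IsIrrCharacter SL2 (cusp θ) := by
  apply (cusp_isGeneralizedCharacter θ).irr_of_norm_one
  · rw [inner_cusp_cusp h0, if_pos rfl, if_neg (fun h1 => h ((hom_eq_inv_iff θ).1 h1)), add_zero]
  · rw [cusp_one θ h0]
    simp only [Complex.sub_re, Complex.natCast_re, Complex.one_re]
    have : 2 ≤ Nat.card F := two_le_q
    have : (2 : ℝ) ≤ Nat.card F := by exact_mod_cast this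
    linarith

theorem cusp_eq_iff (h0 : IsEll A₀)
    {θ θ' : Subgroup.centralizer ({A₀} : Set (Matrix.SpecialLinearGroup (Fin 2) F)) →* ℂˣ}
    (h : θ ^ 2 ≠ 1) : cusp θ = cusp θ' ↔ θ' = θ ∨ θ' = θ⁻¹ := by
  have hinv : ∀ φ : Subgroup.centralizer ({A₀} : Set (Matrix.SpecialLinearGroup (Fin 2) F)) →* ℂˣ,
      φ⁻¹⁻¹ = φ := by
    intro φ; ext a; simp
  constructor
  · intro h1
    have h2 := inner_cusp_cusp h0 θ θ'
    rw [← h1, (cusp_isIrr h0 h).classInner_self] at h2
    by_contra h3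
    push Not at h3
    rw [if_neg (fun h => h3.1 h.symm), if_neg (fun h => h3.2 (by rw [h, hinv]))] at h2
    norm_num at h2
  · rintro (rfl | rfl)
    · rfl
    · have h2 := inner_cusp_cusp h0 θ θ⁻¹
      rw [hinv, if_pos rfl] at h2
      have h3 : ¬ (θ = θ⁻¹) := fun h3 => h ((hom_eq_inv_iff θ).1 h3)
      rw [if_neg h3, zero_add] at h2
      have h4 : IsIrrCharacter SL2 (cusp θ⁻¹) := by
        apply cusp_isIrr h0
        intro h5
        apply h
        ext a
        have h6 := DFunLike.congr_fun h5 a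
        rw [MonoidHom.pow_apply, MonoidHom.inv_apply, inv_pow, MonoidHom.one_apply, inv_eq_one] at h6
        rw [MonoidHom.pow_apply, h6]; rfl
      by_contra h5
      rw [(cusp_isIrr h0 h).classInner_eq_zero h4 h5] at h2
      exact zero_ne_one h2

theorem inner_cusp_int (χ : SL2 → ℂ) (hχ : IsIrrCharacter SL2 χ)
    (θ : Subgroup.centralizer ({A₀} : Set (Matrix.SpecialLinearGroup (Fin 2) F)) →* ℂˣ) :
    ∃ n : ℤ, classInner χ (cusp θ) = n := by
  obtain ⟨a, b, ha, hb, hab⟩ := cusp_isGeneralizedCharacter θ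
  obtain ⟨n, hn⟩ := hχ.isCharacter.classInner_nat ha
  obtain ⟨m, hm⟩ := hχ.isCharacter.classInner_nat hb
  exact ⟨n - m, by rw [hab, classInner_sub_right, hn, hm]; push_cast; rfl⟩

omit [Fintype (Matrix.SpecialLinearGroup (Fin 2) F)] in
/-- sums of multiplicities that are concentrated on the character of order two -/
theorem sum_eq_of_sq (h0 : IsEll A₀)
    [Fintype (Subgroup.centralizer ({A₀} : Set (Matrix.SpecialLinearGroup (Fin 2) F)) →* ℂˣ)]
    (n : (Subgroup.centralizer ({A₀} : Set (Matrix.SpecialLinearGroup (Fin 2) F)) →* ℂˣ) → ℂ)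
    (hn : ∀ θ, ¬ (θ ^ 2 = 1 ∧ θ ≠ 1) → n θ = 0) (h : θ ^ 2 = 1) (h1 : θ ≠ 1) :
    ∑ φ, n φ = n θ := by
  have := C_cyclic h0
  apply Finset.sum_eq_single_of_mem θ (Finset.mem_univ _)
  intro φ _ hφ
  apply hn
  rintro ⟨h2, h3⟩
  exact hφ (sq_one_unique h2 h h3 h1)

/-- inner product with `cusp θ`, `θ² ≠ 1`, of a character in the principal series -/
theorem inner_cusp_eq_zero_of_ps (h0 : IsEll A₀) {χ : SL2 → ℂ} (hχ : IsIrrCharacter SL2 χ)
    {α : MulChar F ℂ} (h : classInner χ (R α) ≠ 0) (hθ : θ ^ 2 ≠ 1) :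
    classInner χ (cusp θ) = 0 := by
  apply hχ.classInner_eq_zero (cusp_isIrr h0 hθ)
  rintro rfl
  exact h (inner_cusp_R h0 θ α)

/-- constituents of `R α`, `α` of order two -/
theorem half_ps (h0 : IsEll A₀) {χ : SL2 → ℂ} (hχ : IsIrrCharacter SL2 χ) {α : MulChar F ℂ}
    (hα : α ^ 2 = 1) (hα1 : α ≠ 1) (h : classInner χ (R α) ≠ 0) :
    classInner χ (R α) = 1 ∧ 2 * χ 1 = q + 1 ∧
      (∀ θ : Subgroup.centralizer ({A₀} : Set (Matrix.SpecialLinearGroup (Fin 2) F)) →* ℂˣ,
        classInner χ (cusp θ) = 0) ∧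
      (∀ β : MulChar F ℂ, β ≠ α → classInner χ (R β) = 0) := by
  have : Fintype (MulChar F ℂ) := Fintype.ofFinite _
  have := finite_homC (F := F) h0
  have : Fintype (Subgroup.centralizer ({A₀} : Set (Matrix.SpecialLinearGroup (Fin 2) F)) →* ℂˣ) :=
    Fintype.ofFinite _
  have hinv : α = α⁻¹ := mul_eq_one_iff_eq_inv.1 (by rw [← pow_two]; exact hα)
  have hnorm : classInner (R α) (R α) = 2 := by
    rw [inner_R_R, if_pos rfl, if_pos hinv]; norm_num
  obtain ⟨a, b, ha, hb, hab, hR⟩ := exists_two_irr (R_isCharacter α) hnorm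
  -- general facts for constituents
  have key : ∀ ψ : SL2 → ℂ, IsIrrCharacter SL2 ψ → classInner ψ (R α) = 1 →
      (∀ θ : Subgroup.centralizer ({A₀} : Set (Matrix.SpecialLinearGroup (Fin 2) F)) →* ℂˣ,
        ¬ (θ ^ 2 = 1 ∧ θ ≠ 1) → classInner ψ (cusp θ) = 0) ∧
      (∀ β : MulChar F ℂ, β ≠ α → classInner ψ (R β) = 0) ∧ ψ 1 ≠ 1 ∧
      (q - 1) * ∑ θ : Subgroup.centralizer ({A₀} : Set (Matrix.SpecialLinearGroup (Fin 2) F)) →* ℂˣ,
        classInner ψ (cusp θ) = 2 * ψ 1 - (q + 1) := by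
    intro ψ hψ h1
    have hne : classInner ψ (R α) ≠ 0 := by rw [h1]; exact one_ne_zero
    have h1' : ψ ≠ 1 := by rintro rfl; exact hne (inner_one_R hα1)
    have h2' : ψ ≠ St := by rintro rfl; exact hne (inner_St_R hα1)
    have hβ : ∀ β : MulChar F ℂ, β ≠ α → classInner ψ (R β) = 0 := by
      intro β hβ
      exact inner_R_ne_zero_unique hψ hne hβ (by rw [← hinv]; exact hβ)
    refine ⟨?_, hβ, ?_, ?_⟩
    · intro θ hθ
      by_cases h3 : θ ^ 2 = 1
      · have h4 : θ = 1 := by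
          by_contra h5; exact hθ ⟨h3, h5⟩
        rw [h4, cusp_one_eq h0, classInner_sub_right, hψ.classInner_eq_zero St_isIrr h2',
          hψ.classInner_eq_zero isIrrCharacter_one h1', sub_zero]
      · exact inner_cusp_eq_zero_of_ps h0 hψ hne h3
    · intro h3
      exact h1' (linear_eq_one hψ h3 hne)
    · rw [fund_relation h0 hψ.isClassFunction,
        Finset.sum_eq_single_of_mem α (Finset.mem_univ _) (fun β _ hβ' => hβ β hβ'), h1, mul_one]
  have hinner : ∀ ψ ψ' : SL2 → ℂ, IsIrrCharacter SL2 ψ → IsIrrCharacter SL2 ψ' → ψ ≠ ψ' →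
      R α = ψ + ψ' → classInner ψ (R α) = 1 := by
    intro ψ ψ' h1 h2 h3 h4
    rw [h4, classInner_add_right, h1.classInner_self, h1.classInner_eq_zero h2 h3, add_zero]
  -- the other constituent
  have hother : ∃ χ' : SL2 → ℂ, IsIrrCharacter SL2 χ' ∧ χ ≠ χ' ∧ R α = χ + χ' := by
    by_cases h1 : χ = a
    · exact ⟨b, hb, by rw [h1]; exact hab, by rw [h1]; exact hR⟩
    · by_cases h2 : χ = b
      · exact ⟨a, ha, by rw [h2]; exact hab.symm, by rw [h2, hR, add_comm]⟩
      · exfalso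
        apply h
        rw [hR, classInner_add_right, hχ.classInner_eq_zero ha h1, hχ.classInner_eq_zero hb h2,
          add_zero]
  obtain ⟨χ', hχ', hne', hsum⟩ := hother
  have hin := hinner χ χ' hχ hχ' hne' hsum
  have hin' := hinner χ' χ hχ' hχ hne'.symm (by rw [hsum, add_comm])
  obtain ⟨k1, k2, k3, k4⟩ := key χ hχ hin
  obtain ⟨l1, l2, l3, l4⟩ := key χ' hχ' hin'
  -- integrality
  choose n hn using fun θ : Subgroup.centralizer ({A₀} : Set (Matrix.SpecialLinearGroup (Fin 2) F)) →* ℂˣ =>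
    inner_cusp_int χ hχ θ
  obtain ⟨d, hd0, hd⟩ := hχ.exists_degree
  obtain ⟨d', hd0', hd'⟩ := hχ'.exists_degree
  have hdd : (d : ℂ) + d' = q + 1 := by
    rw [← hd, ← hd', ← R_one α, hsum]; rfl
  have hdd' : d + d' = Nat.card F + 1 := by exact_mod_cast hdd
  have hd1 : d ≠ 1 := by
    intro h1; apply k3; rw [hd, h1]; simp
  have hd1' : d' ≠ 1 := by
    intro h1; apply l3; rw [hd', h1]; simp
  have hx : (q - 1) * ((∑ θ, n θ : ℤ) : ℂ) = 2 * (d : ℂ) - (q + 1) := by
    rw [← hd, ← k4]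
    congr 1
    push_cast
    exact Finset.sum_congr rfl (fun θ _ => (hn θ).symm)
  set x := ∑ θ, n θ with hxdef
  have hx' : ((Nat.card F : ℤ) - 1) * x = 2 * (d : ℤ) - (Nat.card F + 1) := by exact_mod_cast hx
  have hq2 : 2 ≤ Nat.card F := two_le_q
  have hx0 : x = 0 := by
    by_contra hx0
    rcases lt_or_gt_of_ne hx0 with h1 | h1
    · have h2 : x ≤ -1 := by omega
      have h3 : ((Nat.card F : ℤ) - 1) * x ≤ ((Nat.card F : ℤ) - 1) * (-1) :=
        mul_le_mul_of_nonneg_left h2 (by omega)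
      have h4 : (d : ℤ) ≤ 1 := by
        have : 2 * (d : ℤ) ≤ 2 := by linarith
        omega
      omega
    · have h2 : 1 ≤ x := by omega
      have h3 : ((Nat.card F : ℤ) - 1) * 1 ≤ ((Nat.card F : ℤ) - 1) * x :=
        mul_le_mul_of_nonneg_left h2 (by omega)
      have h4 : (Nat.card F : ℤ) ≤ d := by
        have : 2 * (Nat.card F : ℤ) ≤ 2 * d := by linarith
        omega
      omega
  refine ⟨hin, ?_, ?_, k2⟩
  · rw [hx0, mul_zero] at hx'
    have : 2 * d = Nat.card F + 1 := by omega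
    rw [hd]
    exact_mod_cast this
  · intro θ
    by_cases h1 : θ ^ 2 = 1 ∧ θ ≠ 1
    · have h2 := sum_eq_of_sq h0 (fun φ => classInner χ (cusp φ)) k1 h1.1 h1.2
      rw [← h2]
      simp only [hn]
      rw [← Int.cast_sum, ← hxdef, hx0, Int.cast_zero]
    · exact k1 θ h1

/-- irreducible characters outside the principal series -/
theorem cuspidal_cases (h0 : IsEll A₀) {χ : SL2 → ℂ} (hχ : IsIrrCharacter SL2 χ)
    (h : ∀ α : MulChar F ℂ, classInner χ (R α) = 0) :
    (∃ θ : Subgroup.centralizer ({A₀} : Set (Matrix.SpecialLinearGroup (Fin 2) F)) →* ℂˣ,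
      θ ^ 2 ≠ 1 ∧ χ = cusp θ) ∨
    (∃ θ : Subgroup.centralizer ({A₀} : Set (Matrix.SpecialLinearGroup (Fin 2) F)) →* ℂˣ,
      θ ^ 2 = 1 ∧ θ ≠ 1 ∧ (q - 1) * classInner χ (cusp θ) = 2 * χ 1 ∧
      ∀ θ', θ' ≠ θ → classInner χ (cusp θ') = 0) := by
  have : Fintype (MulChar F ℂ) := Fintype.ofFinite _
  have := finite_homC (F := F) h0
  have : Fintype (Subgroup.centralizer ({A₀} : Set (Matrix.SpecialLinearGroup (Fin 2) F)) →* ℂˣ) :=
    Fintype.ofFinite _
  have hrel := fund_relation h0 hχ.isClassFunction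
  simp only [h, Finset.sum_const_zero, mul_zero, sub_zero] at hrel
  have h1' : χ ≠ 1 := by
    rintro rfl; exact one_ne_zero (inner_one_R_one.symm.trans (h 1))
  have h2' : χ ≠ St := by
    rintro rfl; exact one_ne_zero (inner_St_R_one.symm.trans (h 1))
  by_cases hex : ∃ θ : Subgroup.centralizer ({A₀} : Set (Matrix.SpecialLinearGroup (Fin 2) F)) →* ℂˣ,
      θ ^ 2 ≠ 1 ∧ χ = cusp θ
  · exact Or.inl hex
  · right
    have hz : ∀ θ : Subgroup.centralizer ({A₀} : Set (Matrix.SpecialLinearGroup (Fin 2) F)) →* ℂˣ,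
        ¬ (θ ^ 2 = 1 ∧ θ ≠ 1) → classInner χ (cusp θ) = 0 := by
      intro θ hθ
      by_cases h3 : θ ^ 2 = 1
      · have h4 : θ = 1 := by
          by_contra h5; exact hθ ⟨h3, h5⟩
        rw [h4, cusp_one_eq h0, classInner_sub_right, hχ.classInner_eq_zero St_isIrr h2',
          hχ.classInner_eq_zero isIrrCharacter_one h1', sub_zero]
      · apply hχ.classInner_eq_zero (cusp_isIrr h0 h3)
        intro h4
        exact hex ⟨θ, h3, h4⟩
    have hne : ∑ θ : Subgroup.centralizer ({A₀} : Set (Matrix.SpecialLinearGroup (Fin 2) F)) →* ℂˣ,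
        classInner χ (cusp θ) ≠ 0 := by
      intro h3
      rw [h3, mul_zero] at hrel
      have := hχ.one_ne_zero
      exact this (by
        rcases mul_eq_zero.1 hrel.symm with h4 | h4
        · exact absurd h4 two_ne_zero
        · exact h4)
    obtain ⟨θ, _, hθ⟩ := Finset.exists_ne_zero_of_sum_ne_zero hne
    have hθ2 : θ ^ 2 = 1 ∧ θ ≠ 1 := by
      by_contra h3; exact hθ (hz θ h3)
    refine ⟨θ, hθ2.1, hθ2.2, ?_, ?_⟩
    · rw [← hrel, sum_eq_of_sq h0 (fun φ => classInner χ (cusp φ)) hz hθ2.1 hθ2.2]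
    · intro θ' hθ'
      apply hz
      rintro ⟨h3, h4⟩
      have := C_cyclic h0
      exact hθ' (sq_one_unique h3 hθ2.1 h4 hθ2.2)

/-- `cusp θ` is a genuine character when `θ` has order two -/
theorem cusp_isCharacter (h0 : IsEll A₀) (hθ : θ ^ 2 = 1) (hθ1 : θ ≠ 1) :
    IsCharacter SL2 (cusp θ) := by
  apply isCharacter_of_classInner (cusp_isClassFunction θ)
  intro χ hχ
  -- enough to see that the multiplicity is a nonnegative integer
  obtain ⟨n, hn⟩ := inner_cusp_int χ hχ θ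
  have hn' : classInner (cusp θ) χ = n := by
    rw [← conj_classInner, hn]; simp
  suffices h : 0 ≤ n by
    obtain ⟨m, rfl⟩ := Int.eq_ofNat_of_zero_le h
    exact ⟨m, by rw [hn']; simp⟩
  have hzero : classInner χ (cusp θ) = 0 → 0 ≤ n := by
    intro h
    rw [hn] at h
    have : n = 0 := by exact_mod_cast h
    omega
  by_cases hps : ∃ α : MulChar F ℂ, classInner χ (R α) ≠ 0
  · obtain ⟨α, hα⟩ := hps
    apply hzero
    by_cases hα2 : α ^ 2 = 1
    · by_cases hα1 : α = 1
      · have hz : classInner (1 : SL2 → ℂ) (cusp θ) + classInner (St : SL2 → ℂ) (cusp θ) = 0 := by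
          rw [← classInner_add_left, ← R_one_eq, ← conj_classInner, inner_cusp_R h0, map_zero]
        have hz2 : classInner (St : SL2 → ℂ) (cusp θ) - classInner (1 : SL2 → ℂ) (cusp θ) = 0 := by
          rw [← classInner_sub_left, ← cusp_one_eq h0, inner_cusp_cusp h0, if_neg (fun h => hθ1 h.symm),
            if_neg, add_zero]
          intro h
          apply hθ1
          rw [(hom_eq_inv_iff θ).2 hθ, ← h]
        rw [hα1] at hα
        rcases eq_one_or_St hχ hα with rfl | rfl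
        · linear_combination (1 / 2 : ℂ) * hz - (1 / 2 : ℂ) * hz2
        · linear_combination (1 / 2 : ℂ) * hz + (1 / 2 : ℂ) * hz2
      · exact (half_ps h0 hχ hα2 hα1 hα).2.2.1 θ
    · have := eq_R_of_inner_ne hχ hα2 hα
      rw [this, ← conj_classInner, inner_cusp_R h0, map_zero]
  · push Not at hps
    rcases cuspidal_cases h0 hχ hps with ⟨θ', h1, h2⟩ | ⟨θ', h1, h2, h3, h4⟩
    · apply hzero
      rw [h2, inner_cusp_cusp h0, if_neg, if_neg, add_zero]
      · intro h
        apply h1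
        rw [h]
        ext a
        have h6 := DFunLike.congr_fun hθ a
        rw [MonoidHom.pow_apply, MonoidHom.one_apply] at h6
        rw [MonoidHom.pow_apply, MonoidHom.inv_apply, inv_pow, h6]; simp
      · rintro rfl
        exact h1 hθ
    · by_cases h5 : θ = θ'
      · rw [← h5, hn] at h3
        obtain ⟨d, hd0, hd⟩ := hχ.exists_degree
        rw [hd] at h3
        have h6 : ((Nat.card F : ℤ) - 1) * n = 2 * d := by exact_mod_cast h3
        have hq2 : 2 ≤ Nat.card F := two_le_q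
        by_contra h7
        push Not at h7
        have h8 : ((Nat.card F : ℤ) - 1) * n < 0 := mul_neg_of_pos_of_neg (by omega) h7
        omega
      · exact hzero (h4 θ h5)

/-- constituents of `cusp θ`, `θ` of order two -/
theorem half_cusp (h0 : IsEll A₀) {χ : SL2 → ℂ} (hχ : IsIrrCharacter SL2 χ)
    (hθ : θ ^ 2 = 1) (hθ1 : θ ≠ 1) (h : classInner χ (cusp θ) ≠ 0) :
    classInner χ (cusp θ) = 1 ∧ 2 * χ 1 = q - 1 ∧
      (∀ α : MulChar F ℂ, classInner χ (R α) = 0) ∧
      (∀ θ' : Subgroup.centralizer ({A₀} : Set (Matrix.SpecialLinearGroup (Fin 2) F)) →* ℂˣ,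
        θ' ≠ θ → classInner χ (cusp θ') = 0) := by
  have hch := cusp_isCharacter h0 hθ hθ1
  have hinv : θ = θ⁻¹ := (hom_eq_inv_iff θ).2 hθ
  have hnorm : classInner (cusp θ) (cusp θ) = 2 := by
    rw [inner_cusp_cusp h0, if_pos rfl, if_pos hinv]; norm_num
  obtain ⟨a, b, ha, hb, hab, hR⟩ := exists_two_irr hch hnorm
  have h1 : classInner χ (cusp θ) = 1 := by
    by_cases h1 : χ = a
    · rw [hR, classInner_add_right, h1, ha.classInner_self, ha.classInner_eq_zero hb hab, add_zero]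
    · by_cases h2 : χ = b
      · rw [hR, classInner_add_right, h2, hb.classInner_self, hb.classInner_eq_zero ha hab.symm,
          zero_add]
      · exfalso
        apply h
        rw [hR, classInner_add_right, hχ.classInner_eq_zero ha h1, hχ.classInner_eq_zero hb h2,
          add_zero]
  have hα : ∀ α : MulChar F ℂ, classInner χ (R α) = 0 :=
    fun α => classInner_eq_zero_of_ortho hch (R_isCharacter α) (inner_cusp_R h0 θ α) hχ h
  rcases cuspidal_cases h0 hχ hα with ⟨θ', h2, h3⟩ | ⟨θ', h2, h3, h4, h5⟩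
  · exfalso
    apply h
    rw [h3, inner_cusp_cusp h0, if_neg, if_neg, add_zero]
    · intro h
      apply h2
      rw [h]
      ext a
      have h6 := DFunLike.congr_fun hθ a
      rw [MonoidHom.pow_apply, MonoidHom.one_apply] at h6
      rw [MonoidHom.pow_apply, MonoidHom.inv_apply, inv_pow, h6]; simp
    · rintro rfl
      exact h2 hθ
  · have h6 : θ = θ' := by
      by_contra h6; exact h (h5 θ h6)
    subst h6
    rw [h1, mul_one] at h4
    exact ⟨h1, h4.symm, hα, h5⟩

/-- **Classification of the irreducible characters of `SL₂(q)`.** -/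
theorem classify (h0 : IsEll A₀) {χ : SL2 → ℂ} (hχ : IsIrrCharacter SL2 χ) :
    χ = 1 ∨ χ = St ∨ (∃ α : MulChar F ℂ, α ^ 2 ≠ 1 ∧ χ = R α) ∨
    (∃ θ : Subgroup.centralizer ({A₀} : Set (Matrix.SpecialLinearGroup (Fin 2) F)) →* ℂˣ,
      θ ^ 2 ≠ 1 ∧ χ = cusp θ) ∨
    (∃ α : MulChar F ℂ, α ^ 2 = 1 ∧ α ≠ 1 ∧ classInner χ (R α) = 1) ∨
    (∃ θ : Subgroup.centralizer ({A₀} : Set (Matrix.SpecialLinearGroup (Fin 2) F)) →* ℂˣ,
      θ ^ 2 = 1 ∧ θ ≠ 1 ∧ classInner χ (cusp θ) = 1) := by
  by_cases hps : ∃ α : MulChar F ℂ, classInner χ (R α) ≠ 0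
  · obtain ⟨α, hα⟩ := hps
    by_cases hα2 : α ^ 2 = 1
    · by_cases hα1 : α = 1
      · rw [hα1] at hα
        rcases eq_one_or_St hχ hα with h | h
        · exact Or.inl h
        · exact Or.inr (Or.inl h)
      · exact Or.inr (Or.inr (Or.inr (Or.inr (Or.inl ⟨α, hα2, hα1, (half_ps h0 hχ hα2 hα1 hα).1⟩))))
    · exact Or.inr (Or.inr (Or.inl ⟨α, hα2, eq_R_of_inner_ne hχ hα2 hα⟩))
  · push Not at hps
    rcases cuspidal_cases h0 hχ hps with ⟨θ', h1, h2⟩ | ⟨θ', h1, h2, h3, h4⟩
    · exact Or.inr (Or.inr (Or.inr (Or.inl ⟨θ', h1, h2⟩)))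
    · refine Or.inr (Or.inr (Or.inr (Or.inr (Or.inr ⟨θ', h1, h2, ?_⟩))))
      have hne : classInner χ (cusp θ') ≠ 0 := by
        intro h5
        rw [h5, mul_zero] at h3
        exact hχ.one_ne_zero (by
          rcases mul_eq_zero.1 h3.symm with h4 | h4
          · exact absurd h4 two_ne_zero
          · exact h4)
      exact (half_cusp h0 hχ h1 h2 hne).1

end

end Cfsg.Agent.Lib.SL2Class
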