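import Cfsg.Agent.Lib.SL2EvenMisc
import Cfsg.Agent.Lib.SL2Unip
import Cfsg.Agent.Lib.PSL2ClassSize
import Cfsg.Agent.Lib.ClSL2

/-!
# Involutions and centralizers in `SL(2,q)`, `q` even (helper81)
-/

set_option autoImplicit false
open Cfsg

namespace Cfsg.Agent.Lib.SL2EvenInv

open Subgroup Matrix Cfsg.Agent.Lib.SL2Basic
open scoped MatrixGroups

universe u v

section SL2

variable {F : Type u} [Field F] [Fintype F] [CharP F 2]

theorem two_eq_zero : (2 : F) = 0 := by exact_mod_cast CharP.cast_eq_zero F 2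

omit [Fintype F] in
theorem not_mem_center {A : SL(2, F)} (h : A ≠ 1) : A ∉ Subgroup.center SL(2, F) := by
  rw [SL2EvenMisc.center_eq_bot_of_char_two, mem_bot]
  exact h

omit [Fintype F] in
theorem tr_of_invol {s : SL(2, F)} (hs : orderOf s = 2) :
    (s : Matrix (Fin 2) (Fin 2) F) 0 0 + (s : Matrix (Fin 2) (Fin 2) F) 1 1 = 2 := by
  have : Fact (Nat.Prime 2) := ⟨Nat.prime_two⟩
  exact ((SL2Unip.orderOf_eq_char_iff 2 s).mp hs).2

theorem isConj_invol {s t : SL(2, F)} (hs : orderOf s = 2) (ht : orderOf t = 2) : IsConj s t := by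
  have : Fact (Nat.Prime 2) := ⟨Nat.prime_two⟩
  obtain ⟨hs1, hs2⟩ := (SL2Unip.orderOf_eq_char_iff 2 s).mp hs
  obtain ⟨ht1, ht2⟩ := (SL2Unip.orderOf_eq_char_iff 2 t).mp ht
  obtain ⟨b, hb, hsb⟩ := SL2Unip.exists_conj_up s hs1 hs2
  obtain ⟨c, hc, htc⟩ := SL2Unip.exists_conj_up t ht1 ht2
  have h1 : IsConj (SL2Unip.up b) (SL2Unip.up c) := by
    rw [SL2Unip.isConj_up_iff hb hc]
    exact FiniteField.isSquare_of_char_two (ringChar.eq F 2) _
  exact hsb.trans (h1.trans htc.symm)

theorem card_cent_invol {s : SL(2, F)} (hs : orderOf s = 2) :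
    Nat.card (centralizer ({s} : Set SL(2, F))) = Fintype.card F := by
  have : Fact (Nat.Prime 2) := ⟨Nat.prime_two⟩
  obtain ⟨hs1, hs2⟩ := (SL2Unip.orderOf_eq_char_iff 2 s).mp hs
  apply PSL2ClassSize.card_unip_two two_eq_zero (not_mem_center hs1)
  rw [tr_def, hs2]
  ring

theorem card_cent_le {z : SL(2, F)} (hz : z ≠ 1) :
    Nat.card (centralizer ({z} : Set SL(2, F))) ≤ Fintype.card F + 1 := by
  by_cases h4 : tr z ^ 2 = 4
  · rw [PSL2ClassSize.card_unip_two two_eq_zero (not_mem_center hz) h4]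
    omega
  · by_cases hr : ∃ c : F, c ^ 2 - tr z * c + 1 = 0
    · obtain ⟨c, hc⟩ := hr
      rw [(SL2Tori.centralizer_of_root h4 hc).2, Nat.card_eq_fintype_card]
      omega
    · push Not at hr
      rw [(SL2Tori.centralizer_of_no_root hr).2, Nat.card_eq_fintype_card]

theorem card_sl : Nat.card SL(2, F) = Fintype.card F * (Fintype.card F ^ 2 - 1) :=
  ClSL2.card_SL2 rfl

omit [CharP F 2] in
theorem exists_card_eq [CharP F 2] : ∃ n : ℕ, 0 < n ∧ Fintype.card F = 2 ^ n := by
  obtain ⟨n, _, hn⟩ := FiniteField.card F 2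
  exact ⟨n, n.2, hn⟩

theorem pStemDvd_odd (r : ℕ) [hr : Fact r.Prime] (h2 : r ≠ 2) : SchurSylow.PStemDvd r SL(2, F) 1 := by
  obtain ⟨n, hn, hcard⟩ := exists_card_eq (F := F)
  have h1 : ¬ r ∣ Fintype.card F := by
    rw [hcard]
    intro h
    exact h2 ((Nat.prime_dvd_prime_iff_eq hr.out Nat.prime_two).mp (hr.out.dvd_of_dvd_pow h))
  by_cases h3 : r ∣ Fintype.card F + 1
  · apply SchurSL2.pStemDvd_nonsplit r h1
    intro h4
    have h5 : 1 ≤ Fintype.card F := Fintype.card_pos
    have h6 : r ∣ (Fintype.card F + 1) - (Fintype.card F - 1) := Nat.dvd_sub h3 h4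
    have h7 : (Fintype.card F + 1) - (Fintype.card F - 1) = 2 := by omega
    rw [h7] at h6
    exact h2 ((Nat.prime_dvd_prime_iff_eq hr.out Nat.prime_two).mp h6)
  · exact SchurSL2.pStemDvd_split r h1 h3

end SL2

section prod

variable {F : Type u} [Field F] [Fintype F] [CharP F 2] {A : Type v} [CommGroup A] [Finite A]
  (hA : Odd (Nat.card A)) {M : Type*} [Group M] (e : M ≃* SL(2, F) × A)

include hA in
omit [Fintype F] [CharP F 2] in
theorem snd_eq_one {s : M} {k : ℕ} (hs : s ^ 2 ^ k = 1) : (e s).2 = 1 := by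
  have h1 : (e s).2 ^ 2 ^ k = 1 := by
    have := congrArg Prod.snd (congrArg e hs)
    rw [map_pow, map_one] at this
    exact this
  have h2 : orderOf (e s).2 ∣ 2 ^ k := orderOf_dvd_of_pow_eq_one h1
  have h3 : orderOf (e s).2 ∣ Nat.card A := orderOf_dvd_natCard _
  have h4 : Nat.Coprime (2 ^ k) (Nat.card A) := Nat.Coprime.pow_left _ (Nat.coprime_two_left.mpr hA)
  exact orderOf_eq_one_iff.mp (Nat.eq_one_of_dvd_coprimes h4 h2 h3)

include hA in
omit [Fintype F] [CharP F 2] in
theorem orderOf_fst {s : M} (hs : orderOf s = 2) : orderOf (e s).1 = 2 := by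
  have hs2 : s ^ 2 = 1 := by rw [← hs]; exact pow_orderOf_eq_one s
  have h1 : (e s).2 = 1 := snd_eq_one hA e (k := 1) hs2
  apply orderOf_eq_prime
  · have := congrArg Prod.fst (congrArg e hs2)
    rw [map_pow, map_one] at this
    exact this
  · intro h
    have h2 : e s = 1 := Prod.ext h h1
    have h3 : s = 1 := e.map_eq_one_iff.mp h2
    rw [h3, orderOf_one] at hs
    omega

include hA e in
theorem isConj_prod {s t : M} (hs : orderOf s = 2) (ht : orderOf t = 2) : IsConj s t := by
  have hs2 : s ^ 2 ^ 1 = 1 := by rw [pow_one, ← hs]; exact pow_orderOf_eq_one s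
  have ht2 : t ^ 2 ^ 1 = 1 := by rw [pow_one, ← ht]; exact pow_orderOf_eq_one t
  obtain ⟨c, hc⟩ := isConj_iff.mp (isConj_invol (orderOf_fst hA e hs) (orderOf_fst hA e ht))
  rw [isConj_iff]
  refine ⟨e.symm (c, 1), ?_⟩
  apply e.injective
  rw [map_mul, map_mul, map_inv, MulEquiv.apply_symm_apply]
  apply Prod.ext
  · exact hc
  · rw [snd_eq_one hA e ht2]
    show 1 * (e s).2 * 1⁻¹ = 1
    rw [snd_eq_one hA e hs2]
    simp

include hA e in
theorem card_cent_prod {s : M} (hs : orderOf s = 2) :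
    Nat.card (centralizer ({s} : Set M)) = Fintype.card F * Nat.card A := by
  have hs2 : s ^ 2 ^ 1 = 1 := by rw [pow_one, ← hs]; exact pow_orderOf_eq_one s
  have h1 := snd_eq_one hA e hs2
  rw [← card_cent_invol (orderOf_fst hA e hs), ← Nat.card_prod]
  apply Nat.card_congr
  exact
    { toFun := fun m => (⟨(e m).1, by
        rw [mem_centralizer_singleton_iff]
        have h2 := mem_centralizer_singleton_iff.mp m.2
        exact congrArg Prod.fst (show e m * e s = e s * e m by rw [← map_mul, ← map_mul, h2])⟩, (e m).2)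
      invFun := fun p => ⟨e.symm ((p.1 : SL(2, F)), p.2), by
        rw [mem_centralizer_singleton_iff]
        apply e.injective
        rw [map_mul, map_mul, MulEquiv.apply_symm_apply]
        apply Prod.ext
        · exact mem_centralizer_singleton_iff.mp p.1.2
        · show p.2 * (e s).2 = (e s).2 * p.2
          rw [mul_comm]⟩
      left_inv := fun m => by
        apply Subtype.ext
        exact e.symm_apply_apply _
      right_inv := fun p => by
        apply Prod.ext
        · apply Subtype.ext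
          show (e (e.symm ((p.1 : SL(2, F)), p.2))).1 = _
          rw [MulEquiv.apply_symm_apply]
        · show (e (e.symm ((p.1 : SL(2, F)), p.2))).2 = _
          rw [MulEquiv.apply_symm_apply] }

include e in
omit [Finite A] in
theorem card_prod : Nat.card M = Fintype.card F * (Fintype.card F ^ 2 - 1) * Nat.card A := by
  rw [Nat.card_congr e.toEquiv, Nat.card_prod, card_sl]

end prod

end Cfsg.Agent.Lib.SL2EvenInv
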