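import Cfsg.Agent.Lib.SL2Int
import Cfsg.Agent.Lib.IndFun
import Cfsg.Agent.Lib.CharBasic2

/-! Functions on `SL₂(q)` induced from the Borel subgroup and from a non-split torus. -/

namespace Cfsg.Agent.Lib.SL2Ind

open Cfsg Classical Matrix
open Cfsg.Agent.Lib.SL2Basic Cfsg.Agent.Lib.SL2Tori Cfsg.Agent.Lib.SL2Int
open Cfsg.Agent.Lib.CharBasic Cfsg.Agent.Lib.IndFun

universe u

section general
variable {G : Type u} [Group G] [Fintype G]

theorem sum_ite_mem_subgroup (H : Subgroup G) (a : ℂ) :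
    ∑ x : G, (if x ∈ H then a else 0) = (Nat.card H : ℂ) * a := by
  rw [Finset.sum_ite, Finset.sum_const_zero, add_zero, Finset.sum_const, nsmul_eq_mul]
  congr 2
  rw [Nat.card_eq_fintype_card, Fintype.card_subtype]

theorem sum_ite_conj_eq {g h : G} (hex : ∃ y : G, y * g * y⁻¹ = h) (a : ℂ)
    [∀ x : G, Decidable (x * g * x⁻¹ = h)] :
    ∑ x : G, (if x * g * x⁻¹ = h then a else 0) =
      (Nat.card (Subgroup.centralizer ({g} : Set G)) : ℂ) * a := by
  obtain ⟨y, hy⟩ := hex
  rw [← sum_ite_mem_subgroup]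
  apply Fintype.sum_equiv (Equiv.mulLeft y⁻¹)
  intro x
  simp only [Equiv.coe_mulLeft]
  have : x * g * x⁻¹ = h ↔ y⁻¹ * x ∈ Subgroup.centralizer ({g} : Set G) := by
    rw [Subgroup.mem_centralizer_singleton_iff, ← hy]
    constructor
    · intro h1
      calc y⁻¹ * x * g = y⁻¹ * (x * g * x⁻¹) * x := by group
        _ = y⁻¹ * (y * g * y⁻¹) * x := by rw [h1]
        _ = g * (y⁻¹ * x) := by group
    · intro h1
      calc x * g * x⁻¹ = y * (y⁻¹ * x * g) * x⁻¹ := by group
        _ = y * (g * (y⁻¹ * x)) * x⁻¹ := by rw [h1]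
        _ = y * g * y⁻¹ := by group
  simp only [this]
  congr 1

/-- formula for `indFun` by summing over conjugates on the other side -/
theorem indFun_apply' (H : Subgroup G) (θ : H → ℂ) (g : G) :
    indFun H θ g = (Nat.card H : ℂ)⁻¹ * ∑ x : G, extendByZero H θ (x * g * x⁻¹) := by
  rw [indFun_apply]
  congr 1
  apply Fintype.sum_equiv (Equiv.inv G)
  intro x
  simp

end general

variable {F : Type u} [Field F]

local notation "SL2" => Matrix.SpecialLinearGroup (Fin 2) F
local notation "M2" => Matrix (Fin 2) (Fin 2) F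
local notation "Bor" => Subgroup.comap Matrix.SpecialLinearGroup.toGL (Cfsg.upperTriangularGL 2 F)
local notation "q" => (Nat.card F : ℂ)

theorem bor_mul_00 (a b : SL2) (hb : b ∈ Bor) :
    ((a * b : SL2) : M2) 0 0 = (a : M2) 0 0 * (b : M2) 0 0 := by
  rw [mem_bor] at hb
  rw [Matrix.SpecialLinearGroup.coe_mul, Matrix.mul_apply, Fin.sum_univ_two, hb]
  ring

/-- the linear character `b ↦ α(b₁₁)` of the Borel subgroup -/
noncomputable def borHom (α : MulChar F ℂ) : Bor →* ℂ where
  toFun b := α (((b : SL2) : M2) 0 0)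
  map_one' := by simp
  map_mul' := by
    rintro ⟨a, ha⟩ ⟨b, hb⟩
    change α (((a * b : SL2) : M2) 0 0) = _
    rw [bor_mul_00 a b hb, map_mul]

theorem borHom_apply (α : MulChar F ℂ) (b : Bor) : borHom α b = α (((b : SL2) : M2) 0 0) := rfl

/-- the Weyl element -/
def uW : SL2 := ⟨!![0, -1; 1, 0], by simp [Matrix.det_fin_two]⟩

section R

variable [Fintype (Matrix.SpecialLinearGroup (Fin 2) F)]

/-- The principal series function `R(α)`. -/
noncomputable def R (α : MulChar F ℂ) : SL2 → ℂ :=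
  Cfsg.indFun (Subgroup.comap Matrix.SpecialLinearGroup.toGL (Cfsg.upperTriangularGL 2 F))
    (fun b => α (((b : SL2) : M2) 0 0))

theorem R_isCharacter (α : MulChar F ℂ) : IsCharacter SL2 (R α) :=
  IsCharacter.indFun _ (isCharacter_of_hom (borHom α))

theorem R_isClassFunction (α : MulChar F ℂ) : IsClassFunction SL2 (R α) :=
  indFun_isClassFunction _ _

omit [Fintype (Matrix.SpecialLinearGroup (Fin 2) F)] in
theorem ext_bor (α : MulChar F ℂ) (g : SL2) :
    extendByZero Bor (fun b => α (((b : SL2) : M2) 0 0)) g = if g ∈ Bor then α ((g : M2) 0 0) else 0 := by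
  rw [extendByZero_eq]
  by_cases h : g ∈ Bor
  · rw [dif_pos h, if_pos h]
  · rw [dif_neg h, if_neg h]

theorem R_apply (α : MulChar F ℂ) (g : SL2) : R α g = (Nat.card Bor : ℂ)⁻¹ *
    ∑ x : SL2, if ((x * g * x⁻¹ : SL2) : M2) 1 0 = 0 then α (((x * g * x⁻¹ : SL2) : M2) 0 0) else 0 := by
  rw [R, indFun_apply']
  congr 1
  apply Finset.sum_congr rfl
  intro x _
  rw [ext_bor]
  simp only [mem_bor]

variable [Finite F]

omit [Fintype (Matrix.SpecialLinearGroup (Fin 2) F)] in
theorem card_bor_ne_zero : (Nat.card Bor : ℂ) ≠ 0 := by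
  rw [card_bor_cast]
  exact mul_ne_zero q_ne_zero q_sub_one_ne_zero

/-- value at central elements -/
theorem R_center (α : MulChar F ℂ) {z : SL2} (hz : z ∈ Subgroup.center SL2) :
    R α z = (q + 1) * α ((z : M2) 0 0) := by
  rw [R_apply]
  have h1 : ∀ x : SL2, x * z * x⁻¹ = z := by
    intro x
    rw [Subgroup.mem_center_iff.1 hz x]; group
  simp only [h1]
  rw [if_pos ((mem_center_iff_entries z).1 hz).2.1, Finset.sum_const, Finset.card_univ, nsmul_eq_mul,
    ← Nat.card_eq_fintype_card, card_SL2_cast, card_bor_cast]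
  have h2 := q_ne_zero (F := F)
  have h3 := q_sub_one_ne_zero (F := F)
  field_simp

theorem R_one (α : MulChar F ℂ) : R α 1 = q + 1 := by
  rw [R_center α (Subgroup.one_mem _)]
  simp

/-- value at parabolic elements -/
theorem R_par (α : MulChar F ℂ) {g : SL2} (hg : g ∈ (SP : Set SL2)) :
    R α g = α ((g : M2) 0 0) := by
  rw [R_apply]
  have h1 : ∀ x : SL2, (if ((x * g * x⁻¹ : SL2) : M2) 1 0 = 0 then
      α (((x * g * x⁻¹ : SL2) : M2) 0 0) else 0) = if x ∈ Bor then α ((g : M2) 0 0) else 0 := by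
    intro x
    obtain ⟨e00, e01, e10, e11⟩ := conj_entries x g hg.1
    have hd := det2 x
    by_cases hx : x ∈ Bor
    · have hx' := mem_bor.1 hx
      rw [if_pos hx, if_pos (by rw [e10, hx']; ring)]
      rw [e00, hx']
      rw [hx'] at hd
      congr 1
      linear_combination (g : M2) 0 0 * hd
    · rw [if_neg hx, if_neg]
      intro h
      apply hx
      rw [mem_bor]
      rw [e10, hg.2.1] at h
      have : (g : M2) 0 1 * (x : M2) 1 0 ^ 2 = 0 := by linear_combination -h
      rcases mul_eq_zero.1 this with h | h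
      · exact absurd h hg.2.2
      · exact pow_eq_zero_iff two_ne_zero |>.1 h
  rw [Finset.sum_congr rfl (fun x _ => h1 x), sum_ite_mem_subgroup]
  rw [← mul_assoc, inv_mul_cancel₀ card_bor_ne_zero, one_mul]

omit [Finite F] in
/-- value at elliptic elements -/
theorem R_ell (α : MulChar F ℂ) {g : SL2} (hg : IsEll g) : R α g = 0 := by
  rw [R_apply]
  rw [Finset.sum_eq_zero, mul_zero]
  intro x _
  rw [if_neg]
  intro h
  apply hg (((x * g * x⁻¹ : SL2) : M2) 0 0)
  have hd := det2 (x * g * x⁻¹)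
  rw [h] at hd
  rw [← tr_conj g x, tr_def]
  linear_combination -hd

/-- value at split elements -/
theorem R_dg (α : MulChar F ℂ) {c : Fˣ} (hc : (c : F) ^ 2 ≠ 1) :
    R α (dg c) = α (c : F) + α ((c⁻¹ : Fˣ) : F) := by
  rw [R_apply]
  have d00 : ((dg c : SL2) : M2) 0 0 = c := rfl
  have d01 : ((dg c : SL2) : M2) 0 1 = 0 := rfl
  have d10 : ((dg c : SL2) : M2) 1 0 = 0 := rfl
  have d11 : ((dg c : SL2) : M2) 1 1 = ((c⁻¹ : Fˣ) : F) := rfl
  have hcc : (c : F) - ((c⁻¹ : Fˣ) : F) ≠ 0 := by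
    intro h
    apply hc
    have h4 : (c : F) * ((c⁻¹ : Fˣ) : F) = 1 := by simp
    rw [pow_two]
    nth_rewrite 2 [sub_eq_zero.1 h]
    exact h4
  have h1 : ∀ x : SL2, (if ((x * dg c * x⁻¹ : SL2) : M2) 1 0 = 0 then
      α (((x * dg c * x⁻¹ : SL2) : M2) 0 0) else 0) =
      (if x ∈ Bor then α (c : F) else 0) + (if x * uW ∈ Bor then α ((c⁻¹ : Fˣ) : F) else 0) := by
    intro x
    have e10 := conj_10 x (dg c)
    have e00 := conj_00 x (dg c)
    rw [d00, d01, d10, d11] at e10 e00
    have hd := det2 x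
    simp only [mem_bor]
    have hw : ((x * uW : SL2) : M2) 1 0 = (x : M2) 1 1 := by
      rw [Matrix.SpecialLinearGroup.coe_mul, Matrix.mul_apply, Fin.sum_univ_two]
      simp [uW]
    rw [hw]
    by_cases h10 : (x : M2) 1 0 = 0
    · rw [h10] at hd
      have h11 : (x : M2) 1 1 ≠ 0 := by
        intro h; rw [h] at hd; simp at hd
      rw [if_pos h10, if_neg h11, if_pos (by rw [e10, h10]; ring), add_zero, e00, h10]
      congr 1
      linear_combination (c : F) * hd
    · by_cases h11 : (x : M2) 1 1 = 0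
      · rw [if_neg h10, if_pos h11, if_pos (by rw [e10, h11]; ring), zero_add, e00, h11]
        rw [h11] at hd
        congr 1
        linear_combination ((c⁻¹ : Fˣ) : F) * hd
      · rw [if_neg h10, if_neg h11, if_neg, add_zero]
        intro h
        rw [e10] at h
        have : (x : M2) 1 0 * ((x : M2) 1 1 * ((c : F) - ((c⁻¹ : Fˣ) : F))) = 0 := by
          linear_combination h
        exact (mul_ne_zero h10 (mul_ne_zero h11 hcc)) this
  rw [Finset.sum_congr rfl (fun x _ => h1 x), Finset.sum_add_distrib, sum_ite_mem_subgroup]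
  have h2 : ∑ x : SL2, (if x * uW ∈ Bor then α ((c⁻¹ : Fˣ) : F) else 0) =
      (Nat.card Bor : ℂ) * α ((c⁻¹ : Fˣ) : F) := by
    rw [← sum_ite_mem_subgroup]
    apply Fintype.sum_equiv (Equiv.mulRight (uW : SL2))
    intro x
    simp only [Equiv.coe_mulRight]
    congr 1
  rw [h2, ← mul_add, ← mul_assoc, inv_mul_cancel₀ card_bor_ne_zero, one_mul]

end R

section I

variable [Fintype (Matrix.SpecialLinearGroup (Fin 2) F)] {A₀ : Matrix.SpecialLinearGroup (Fin 2) F}

/-- The function induced from the non-split torus `C(A₀)`. -/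
noncomputable def Ind (A₀ : SL2) (θ : Subgroup.centralizer ({A₀} : Set SL2) →* ℂˣ) : SL2 → ℂ :=
  Cfsg.indFun (Subgroup.centralizer ({A₀} : Set SL2)) (fun c => (θ c : ℂ))

variable (θ : Subgroup.centralizer ({A₀} : Set (Matrix.SpecialLinearGroup (Fin 2) F)) →* ℂˣ)

theorem Ind_isCharacter : IsCharacter SL2 (Ind A₀ θ) :=
  IsCharacter.indFun _ (isCharacter_of_unitsHom θ)

theorem Ind_isClassFunction : IsClassFunction SL2 (Ind A₀ θ) :=
  indFun_isClassFunction _ _

theorem Ind_eq_zero_of_not_ell (h0 : IsEll A₀) {g : SL2} (hg : g ∉ Subgroup.center SL2)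
    (hg' : ¬ IsEll g) : Ind A₀ θ g = 0 := by
  apply indFun_eq_zero
  intro x hx
  apply hg'
  have h1 : x⁻¹ * g * x ∈ SC A₀ := by
    refine ⟨hx, fun hc => hg ?_⟩
    have := (inferInstance : (Subgroup.center SL2).Normal).conj_mem _ hc x
    have e : x * (x⁻¹ * g * x) * x⁻¹ = g := by group
    rwa [e] at this
  have h2 := isEll_of_mem_SC h0 h1
  have h3 : x⁻¹ * g * x = x⁻¹ * g * x⁻¹⁻¹ := by group
  rw [h3, isEll_conj] at h2
  exact h2

variable [Finite F]

theorem Ind_center (h0 : IsEll A₀) (z : Subgroup.centralizer ({A₀} : Set SL2))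
    (hz : (z : SL2) ∈ Subgroup.center SL2) :
    Ind A₀ θ z = q * (q - 1) * (θ z : ℂ) := by
  rw [Ind, indFun_apply', (centralizer_of_no_root h0).2]
  have h1 : ∀ x : SL2, x * z * x⁻¹ = z := by
    intro x
    rw [Subgroup.mem_center_iff.1 hz x]; group
  simp only [h1]
  rw [extendByZero_mem _ _ z.2, Finset.sum_const, Finset.card_univ, nsmul_eq_mul,
    ← Nat.card_eq_fintype_card, card_SL2_cast]
  have h2 := q_add_one_ne_zero (F := F)
  push_cast
  field_simp

theorem Ind_one (h0 : IsEll A₀) : Ind A₀ θ 1 = q * (q - 1) := by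
  have := Ind_center θ h0 1 (Subgroup.one_mem _)
  simpa using this

theorem Ind_ell (h0 : IsEll A₀) (t : Subgroup.centralizer ({A₀} : Set SL2))
    (ht : (t : SL2) ∉ Subgroup.center SL2) :
    Ind A₀ θ t = (θ t : ℂ) + ((θ t)⁻¹ : ℂˣ) := by
  have hA := not_mem_center_of_tr (sq_ne_four_of_no_root h0)
  have htS : (t : SL2) ∈ SC A₀ := ⟨t.2, ht⟩
  have htE := isEll_of_mem_SC h0 htS
  have ht4 := sq_ne_four_of_no_root htE
  have hcent := centralizer_eq_of_mem_SC hA htS
  have hne := ne_inv_of_tr ht4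
  obtain ⟨w, hw⟩ := exists_inverts ht4
  rw [Ind, indFun_apply']
  have h1 : ∀ x : SL2, extendByZero (Subgroup.centralizer ({A₀} : Set SL2)) (fun c => (θ c : ℂ))
      (x * t * x⁻¹) = (if x * t * x⁻¹ = t then (θ t : ℂ) else 0) +
        (if x * t * x⁻¹ = (t : SL2)⁻¹ then (((θ t)⁻¹ : ℂˣ) : ℂ) else 0) := by
    intro x
    by_cases hx : x * t * x⁻¹ ∈ Subgroup.centralizer ({A₀} : Set SL2)
    · rw [extendByZero_mem _ _ hx]
      have hx' : x * t * x⁻¹ ∈ Subgroup.centralizer ({(t : SL2)} : Set SL2) := by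
        rw [hcent]; exact hx
      rcases eq_or_eq_inv_of_mem_centralizer ht4 hx' (tr_conj _ _) with h | h
      · rw [if_pos h, if_neg (fun h' => hne (h.symm.trans h')), add_zero]
        have : (⟨x * t * x⁻¹, hx⟩ : Subgroup.centralizer ({A₀} : Set SL2)) = t := Subtype.ext h
        rw [this]
      · rw [if_neg (fun h' => hne (h'.symm.trans h)), if_pos h, zero_add]
        have : (⟨x * t * x⁻¹, hx⟩ : Subgroup.centralizer ({A₀} : Set SL2)) = t⁻¹ := Subtype.ext h
        rw [this, map_inv]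
    · rw [extendByZero_not_mem _ _ hx, if_neg, if_neg, add_zero]
      · intro h; apply hx; rw [h]; exact inv_mem t.2
      · intro h; apply hx; rw [h]; exact t.2
  rw [Finset.sum_congr rfl (fun x _ => h1 x), Finset.sum_add_distrib,
    sum_ite_conj_eq ⟨1, by simp⟩, sum_ite_conj_eq ⟨w, hw⟩, hcent, ← mul_add, ← mul_assoc,
    inv_mul_cancel₀, one_mul]
  have : 0 < Nat.card (Subgroup.centralizer ({A₀} : Set SL2)) := Finite.card_pos
  exact_mod_cast this.ne'

end I

end Cfsg.Agent.Lib.SL2Ind
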