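import Cfsg.Agent.Lib.SL2Ind
import Cfsg.Agent.Lib.LinChar

/-! Inner products of the induced characters of `SL₂(q)`; the cuspidal functions. -/

namespace Cfsg.Agent.Lib.SL2Ortho

open Cfsg Classical Matrix ComplexConjugate
open Cfsg.Agent.Lib.SL2Basic Cfsg.Agent.Lib.SL2Tori Cfsg.Agent.Lib.SL2Int Cfsg.Agent.Lib.SL2Ind
open Cfsg.Agent.Lib.CharBasic Cfsg.Agent.Lib.LinChar

universe u

variable {F : Type u} [Field F]

local notation "SL2" => Matrix.SpecialLinearGroup (Fin 2) F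
local notation "M2" => Matrix (Fin 2) (Fin 2) F
local notation "Bor" => Subgroup.comap Matrix.SpecialLinearGroup.toGL (Cfsg.upperTriangularGL 2 F)
local notation "q" => (Nat.card F : ℂ)

variable [Finite F] [Fintype (Matrix.SpecialLinearGroup (Fin 2) F)]

theorem sum_formula' {f : SL2 → ℂ} (hf : IsClassFunction SL2 f) [Fintype Fˣ] {A₀ : SL2}
    (h0 : IsEll A₀) [Fintype (Subgroup.centralizer ({A₀} : Set SL2))] (T C : SL2 → ℂ)
    (hT : ∀ g ∈ (ST : Set SL2), f g = T g) (hC : ∀ g ∈ SC A₀, f g = C g) :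
    2 * ∑ g : SL2, f g = 2 * ∑ z ∈ Zs F, f z
      + 2 * (q + 1) * ∑ z ∈ Zs F, ∑ b : Fˣ, f (z * uu (b : F))
      + q * (q + 1) * (∑ c : Fˣ, T (dg c) - ∑ z ∈ Zs F, T z)
      + q * (q - 1) * (∑ t : Subgroup.centralizer ({A₀} : Set SL2), C t - ∑ z ∈ Zs F, C z) := by
  have h1 : ∑ g : SL2, (if g ∈ (ST : Set SL2) then f g else 0) =
      ∑ g : SL2, (if g ∈ (ST : Set SL2) then T g else 0) := by
    apply Finset.sum_congr rfl
    intro g _
    by_cases h : g ∈ (ST : Set SL2)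
    · rw [if_pos h, if_pos h, hT g h]
    · rw [if_neg h, if_neg h]
  have h2 : ∑ g : SL2, (if g ∈ SC A₀ then f g else 0) =
      ∑ g : SL2, (if g ∈ SC A₀ then C g else 0) := by
    apply Finset.sum_congr rfl
    intro g _
    by_cases h : g ∈ SC A₀
    · rw [if_pos h, if_pos h, hC g h]
    · rw [if_neg h, if_neg h]
  rw [sum_formula hf h0, ← sum_SC, ← sum_ST, ← sum_ST, ← sum_SC, h1, h2]

omit [Finite F] [Fintype (Matrix.SpecialLinearGroup (Fin 2) F)] in
theorem isClassFunction_mul_conj {φ ψ : SL2 → ℂ} (hφ : IsClassFunction SL2 φ)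
    (hψ : IsClassFunction SL2 ψ) : IsClassFunction SL2 (fun g => φ g * conj (ψ g)) := by
  intro g h
  simp only
  rw [hφ g h, hψ g h]

theorem inner_formula {φ ψ : SL2 → ℂ} (hφ : IsClassFunction SL2 φ)
    (hψ : IsClassFunction SL2 ψ) [Fintype Fˣ] {A₀ : SL2}
    (h0 : IsEll A₀) [Fintype (Subgroup.centralizer ({A₀} : Set SL2))] (T C : SL2 → ℂ)
    (hT : ∀ g ∈ (ST : Set SL2), φ g * conj (ψ g) = T g)
    (hC : ∀ g ∈ SC A₀, φ g * conj (ψ g) = C g) :
    2 * (q * ((q - 1) * (q + 1))) * classInner φ ψ = 2 * ∑ z ∈ Zs F, φ z * conj (ψ z)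
      + 2 * (q + 1) * ∑ z ∈ Zs F, ∑ b : Fˣ, φ (z * uu (b : F)) * conj (ψ (z * uu (b : F)))
      + q * (q + 1) * (∑ c : Fˣ, T (dg c) - ∑ z ∈ Zs F, T z)
      + q * (q - 1) * (∑ t : Subgroup.centralizer ({A₀} : Set SL2), C t - ∑ z ∈ Zs F, C z) := by
  rw [← sum_formula' (isClassFunction_mul_conj hφ hψ) h0 T C hT hC, classInner, card_SL2_cast]
  have h1 := q_ne_zero (F := F)
  have h2 := q_sub_one_ne_zero (F := F)
  have h3 := q_add_one_ne_zero (F := F)
  field_simp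

omit [Finite F] [Fintype (Matrix.SpecialLinearGroup (Fin 2) F)] in
theorem Zs_entries {z : SL2} (hz : z ∈ Zs F) :
    (z : M2) 0 1 = 0 ∧ (z : M2) 1 0 = 0 ∧ (z : M2) 1 1 = (z : M2) 0 0 ∧ z⁻¹ = z ∧
      ∃ c : Fˣ, (z : M2) 0 0 = (c : F) ∧ c⁻¹ = c := by
  have h1 := (mem_center_iff_entries z).1 (mem_Zs.1 hz)
  have hz' := hz
  simp only [Zs, Finset.mem_insert, Finset.mem_singleton] at hz'
  refine ⟨h1.1, h1.2.1, h1.2.2.symm, ?_, ?_⟩
  · rcases hz' with rfl | rfl <;> simp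
  · rcases hz' with rfl | rfl
    · exact ⟨1, by simp, by simp⟩
    · exact ⟨-1, by simp, by simp⟩

omit [Finite F] [Fintype (Matrix.SpecialLinearGroup (Fin 2) F)] in
theorem mul_uu_00 {z : SL2} (hz : z ∈ Zs F) (b : F) : ((z * uu b : SL2) : M2) 0 0 = (z : M2) 0 0 := by
  obtain ⟨h1, h2, h3, h4, h5⟩ := Zs_entries hz
  rw [Matrix.SpecialLinearGroup.coe_mul, Matrix.mul_apply, Fin.sum_univ_two]
  simp [coe_uu, h1]

theorem R_ST (α : MulChar F ℂ) {g : SL2} (hg : g ∈ (ST : Set SL2)) :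
    R α g = α ((g : M2) 0 0) + α ((g : M2) 1 1) := by
  obtain ⟨c, hc, rfl⟩ := exists_dg_of_mem_ST hg
  rw [R_dg α hc]
  rfl

omit [Finite F] in
theorem R_SC (α : MulChar F ℂ) {A₀ g : SL2} (h0 : IsEll A₀) (hg : g ∈ SC A₀) : R α g = 0 :=
  R_ell α (isEll_of_mem_SC h0 hg)

omit [Fintype (Matrix.SpecialLinearGroup (Fin 2) F)] in
theorem sum_torus [Fintype Fˣ] (α β : MulChar F ℂ) :
    ∑ c : Fˣ, (α (c : F) + α ((c⁻¹ : Fˣ) : F)) * conj (β (c : F) + β ((c⁻¹ : Fˣ) : F)) =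
      2 * (q - 1) * ((if α = β then 1 else 0) + (if α = β⁻¹ then 1 else 0)) := by
  have h1 := sum_mulChar_mul_conj α β
  have h2 := sum_mulChar_mul_conj α β⁻¹
  have h3 : ∑ c : Fˣ, α ((c⁻¹ : Fˣ) : F) * conj (β ((c⁻¹ : Fˣ) : F)) =
      ∑ c : Fˣ, α (c : F) * conj (β (c : F)) := by
    apply Fintype.sum_equiv (Equiv.inv Fˣ)
    intro c; rfl
  have h4 : ∑ c : Fˣ, α ((c⁻¹ : Fˣ) : F) * conj (β (c : F)) =
      ∑ c : Fˣ, α (c : F) * conj (β⁻¹ (c : F)) := by
    apply Fintype.sum_equiv (Equiv.inv Fˣ)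
    intro c
    simp only [Equiv.inv_apply]
    rw [inv_apply_unit, inv_inv]
  have h5 : ∑ c : Fˣ, α (c : F) * conj (β ((c⁻¹ : Fˣ) : F)) =
      ∑ c : Fˣ, α (c : F) * conj (β⁻¹ (c : F)) := by
    apply Finset.sum_congr rfl
    intro c _
    rw [inv_apply_unit]
  simp only [map_add, add_mul, mul_add, Finset.sum_add_distrib]
  rw [h3, h4, h5, h1, h2]
  split_ifs <;> ring

/-- **Mackey formula** for the principal series. -/
theorem inner_R_R (α β : MulChar F ℂ) :
    classInner (R α) (R β) = (if α = β then 1 else 0) + (if α = β⁻¹ then 1 else 0) := by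
  have : Fintype F := Fintype.ofFinite F
  obtain ⟨A₀, h0⟩ := exists_isEll (F := F)
  have h := inner_formula (R_isClassFunction α) (R_isClassFunction β) h0
    (fun g => (α ((g : M2) 0 0) + α ((g : M2) 1 1)) * conj (β ((g : M2) 0 0) + β ((g : M2) 1 1)))
    (fun _ => 0)
    (fun g hg => by rw [R_ST α hg, R_ST β hg])
    (fun g hg => by rw [R_SC α h0 hg, R_SC β h0 hg, zero_mul])
  set S := ∑ z ∈ Zs F, α ((z : M2) 0 0) * conj (β ((z : M2) 0 0)) with hS
  have e1 : ∑ z ∈ Zs F, R α z * conj (R β z) = (q + 1) ^ 2 * S := by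
    rw [hS, Finset.mul_sum]
    apply Finset.sum_congr rfl
    intro z hz
    rw [R_center α (mem_Zs.1 hz), R_center β (mem_Zs.1 hz)]
    simp only [map_mul, map_add, map_one, map_natCast]
    ring
  have e2 : ∑ z ∈ Zs F, ∑ b : Fˣ, R α (z * uu (b : F)) * conj (R β (z * uu (b : F))) = (q - 1) * S := by
    rw [hS, Finset.mul_sum]
    apply Finset.sum_congr rfl
    intro z hz
    have : ∀ b : Fˣ, R α (z * uu (b : F)) * conj (R β (z * uu (b : F))) =
        α ((z : M2) 0 0) * conj (β ((z : M2) 0 0)) := by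
      intro b
      rw [R_par α (mul_uu_mem_SP hz b), R_par β (mul_uu_mem_SP hz b), mul_uu_00 hz]
    rw [Finset.sum_congr rfl (fun b _ => this b), Finset.sum_const, Finset.card_univ, nsmul_eq_mul,
      ← Nat.card_eq_fintype_card, Nat.card_units]
    have h2 : 1 ≤ Nat.card F := Finite.card_pos
    push_cast [Nat.cast_sub h2]
    ring
  have e3 : ∑ z ∈ Zs F, (α ((z : M2) 0 0) + α ((z : M2) 1 1)) *
      conj (β ((z : M2) 0 0) + β ((z : M2) 1 1)) = 4 * S := by
    rw [hS, Finset.mul_sum]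
    apply Finset.sum_congr rfl
    intro z hz
    rw [(Zs_entries hz).2.2.1]
    simp only [map_add]
    ring
  have e4 := sum_torus α β
  rw [e1, e2, e3] at h
  have e5 : ∑ c : Fˣ, (fun g : SL2 => (α ((g : M2) 0 0) + α ((g : M2) 1 1)) *
      conj (β ((g : M2) 0 0) + β ((g : M2) 1 1))) (dg c) =
      ∑ c : Fˣ, (α (c : F) + α ((c⁻¹ : Fˣ) : F)) * conj (β (c : F) + β ((c⁻¹ : Fˣ) : F)) := rfl
  rw [e5, e4] at h
  simp only [Finset.sum_const_zero, sub_zero, mul_zero, add_zero] at h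
  have h1 := q_ne_zero (F := F)
  have h2 := q_sub_one_ne_zero (F := F)
  have h3 := q_add_one_ne_zero (F := F)
  have h4 : 2 * (q * ((q - 1) * (q + 1))) ≠ 0 := mul_ne_zero two_ne_zero (mul_ne_zero h1 (mul_ne_zero h2 h3))
  apply mul_left_cancel₀ h4
  rw [h]
  ring

/-! ### The cuspidal functions -/

section cusp

variable {A₀ : Matrix.SpecialLinearGroup (Fin 2) F}
variable (θ : Subgroup.centralizer ({A₀} : Set (Matrix.SpecialLinearGroup (Fin 2) F)) →* ℂˣ)

omit [Fintype (Matrix.SpecialLinearGroup (Fin 2) F)] in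
theorem exists_alpha : ∃ α : MulChar F ℂ, ∀ z : Subgroup.centralizer ({A₀} : Set SL2),
    (z : SL2) ∈ Subgroup.center SL2 → (θ z : ℂ) = α (((z : SL2) : M2) 0 0) := by
  by_cases h2 : (2 : F) = 0
  · refine ⟨1, fun z hz => ?_⟩
    have hneg : (-1 : SL2) = 1 := by
      have : (-1 : F) = 1 := by linear_combination -h2
      apply ext2 <;> simp [this]
    have : z = 1 := by
      apply Subtype.ext
      rcases (mem_center_iff' _).1 hz with h | h
      · exact h
      · rw [h, hneg]; rfl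
    rw [this]; simp
  · set m : Subgroup.centralizer ({A₀} : Set SL2) := ⟨-1, neg_one_mem_centralizer A₀⟩ with hm
    have hm2 : m ^ 2 = 1 := by
      apply Subtype.ext
      simp [hm]
    have h5 : ((θ m : ℂˣ) : ℂ) ^ 2 = 1 := by
      rw [← Units.val_pow_eq_pow_val, ← map_pow, hm2, map_one, Units.val_one]
    have hz' : ∀ z : Subgroup.centralizer ({A₀} : Set SL2), (z : SL2) ∈ Subgroup.center SL2 →
        z = 1 ∨ z = m := by
      intro z hz
      rcases (mem_center_iff' _).1 hz with h | h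
      · left; exact Subtype.ext h
      · right; exact Subtype.ext h
    rcases mul_self_eq_one_iff.1 ((pow_two _).symm.trans h5) with h | h
    · refine ⟨1, fun z hz => ?_⟩
      rcases hz' z hz with rfl | rfl
      · simp
      · rw [h]
        have : IsUnit (-1 : F) := isUnit_one.neg
        simp [hm, MulChar.one_apply this]
    · obtain ⟨α, hα⟩ := exists_mulChar_neg_one (F := F) h2
      refine ⟨α, fun z hz => ?_⟩
      rcases hz' z hz with rfl | rfl
      · simp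
      · rw [h]
        simp [hm, hα]

/-- a multiplicative character with the same restriction to the centre -/
noncomputable def al : MulChar F ℂ := Classical.choose (exists_alpha θ)

omit [Fintype (Matrix.SpecialLinearGroup (Fin 2) F)] in
theorem al_spec (z : Subgroup.centralizer ({A₀} : Set SL2))
    (hz : (z : SL2) ∈ Subgroup.center SL2) : (θ z : ℂ) = al θ (((z : SL2) : M2) 0 0) :=
  Classical.choose_spec (exists_alpha θ) z hz

/-- extension by zero of a character of the torus -/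
noncomputable def xt : SL2 → ℂ := extendByZero _ (fun c => (θ c : ℂ))

omit [Finite F] [Fintype (Matrix.SpecialLinearGroup (Fin 2) F)] in
theorem xt_coe (c : Subgroup.centralizer ({A₀} : Set SL2)) : xt θ c = (θ c : ℂ) :=
  IndFun.extendByZero_mem _ _ c.2

/-- the Deligne-Lusztig function attached to `θ` -/
noncomputable def cusp : SL2 → ℂ := R 1 * R (al θ) - (R (al θ) + R (al θ) + Ind A₀ θ)

theorem cusp_apply (g : SL2) :
    cusp θ g = R 1 g * R (al θ) g - (R (al θ) g + R (al θ) g + Ind A₀ θ g) := rfl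

theorem cusp_isGeneralizedCharacter : IsGeneralizedCharacter SL2 (cusp θ) :=
  ⟨_, _, (R_isCharacter 1).mul (R_isCharacter (al θ)),
    ((R_isCharacter (al θ)).add (R_isCharacter (al θ))).add (Ind_isCharacter θ), rfl⟩

theorem cusp_isClassFunction : IsClassFunction SL2 (cusp θ) := by
  intro g h
  rw [cusp_apply, cusp_apply, R_isClassFunction 1 g h, R_isClassFunction (al θ) g h,
    Ind_isClassFunction θ g h]

omit [Finite F] [Fintype (Matrix.SpecialLinearGroup (Fin 2) F)] in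
theorem mem_C_of_Zs {z : SL2} (hz : z ∈ Zs F) (A₀ : SL2) :
    z ∈ Subgroup.centralizer ({A₀} : Set SL2) :=
  Subgroup.center_le_centralizer _ (mem_Zs.1 hz)

omit [Fintype (Matrix.SpecialLinearGroup (Fin 2) F)] in
theorem al_Zs {z : SL2} (hz : z ∈ Zs F) : al θ ((z : M2) 0 0) = xt θ z := by
  have h := al_spec θ ⟨z, mem_C_of_Zs hz A₀⟩ (mem_Zs.1 hz)
  rw [← h]
  exact (xt_coe θ ⟨z, mem_C_of_Zs hz A₀⟩).symm

omit [Finite F] [Fintype (Matrix.SpecialLinearGroup (Fin 2) F)] in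
theorem one_Zs {z : SL2} (hz : z ∈ Zs F) : (1 : MulChar F ℂ) ((z : M2) 0 0) = 1 := by
  obtain ⟨_, _, _, _, c, hc, _⟩ := Zs_entries hz
  rw [hc]; simp

theorem cusp_Zs (h0 : IsEll A₀) {z : SL2} (hz : z ∈ Zs F) : cusp θ z = (q - 1) * xt θ z := by
  have h1 := Ind_center θ h0 ⟨z, mem_C_of_Zs hz A₀⟩ (mem_Zs.1 hz)
  simp only at h1
  rw [cusp_apply, h1, R_center _ (mem_Zs.1 hz), R_center _ (mem_Zs.1 hz), al_Zs θ hz, one_Zs hz,
    ← xt_coe θ ⟨z, mem_C_of_Zs hz A₀⟩]
  ring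

theorem cusp_one (h0 : IsEll A₀) : cusp θ 1 = q - 1 := by
  rw [cusp_Zs θ h0 (by simp [Zs])]
  have := xt_coe θ 1
  rw [Subgroup.coe_one] at this
  rw [this]; simp

theorem cusp_par (h0 : IsEll A₀) {z : SL2} (hz : z ∈ Zs F) (b : Fˣ) :
    cusp θ (z * uu (b : F)) = - xt θ z := by
  have h1 := isPar_of_mem_SP (mul_uu_mem_SP hz b)
  have h2 : ¬ IsEll (z * uu (b : F)) := fun h => sq_ne_four_of_no_root h h1.2
  rw [cusp_apply, R_par _ (mul_uu_mem_SP hz b), R_par _ (mul_uu_mem_SP hz b),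
    Ind_eq_zero_of_not_ell θ h0 h1.1 h2, mul_uu_00 hz, al_Zs θ hz, one_Zs hz]
  ring

theorem cusp_ST (h0 : IsEll A₀) {g : SL2} (hg : g ∈ (ST : Set SL2)) : cusp θ g = 0 := by
  have h1 := isSpl_of_mem_ST hg
  have h2 : ¬ IsEll g := fun h => by obtain ⟨c, hc⟩ := h1.2; exact h c hc
  have h3 : g ∉ Subgroup.center SL2 := not_mem_center_of_tr h1.1
  rw [cusp_apply, R_ST _ hg, R_ST _ hg, Ind_eq_zero_of_not_ell θ h0 h3 h2]
  have h4 : (1 : MulChar F ℂ) ((g : M2) 0 0) + (1 : MulChar F ℂ) ((g : M2) 1 1) = 2 := by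
    obtain ⟨c, hc, rfl⟩ := exists_dg_of_mem_ST hg
    have e1 : (1 : MulChar F ℂ) (((dg c : SL2) : M2) 0 0) = 1 := MulChar.one_apply_coe c
    have e2 : (1 : MulChar F ℂ) (((dg c : SL2) : M2) 1 1) = 1 := MulChar.one_apply_coe c⁻¹
    rw [e1, e2]; norm_num
  rw [h4]; ring

theorem cusp_SC (h0 : IsEll A₀) {g : SL2} (hg : g ∈ SC A₀) :
    cusp θ g = -(xt θ g + xt θ g⁻¹) := by
  have h1 := Ind_ell θ h0 ⟨g, hg.1⟩ hg.2
  simp only at h1
  rw [cusp_apply, R_SC _ h0 hg, R_SC _ h0 hg, h1]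
  have h2 := xt_coe θ ⟨g, hg.1⟩
  have h3 := xt_coe θ (⟨g, hg.1⟩ : Subgroup.centralizer ({A₀} : Set SL2))⁻¹
  simp only [Subgroup.coe_inv, map_inv] at h2 h3
  rw [h2, h3]
  ring

omit [Fintype (Matrix.SpecialLinearGroup (Fin 2) F)] in
theorem sum_C [Fintype (Subgroup.centralizer ({A₀} : Set (Matrix.SpecialLinearGroup (Fin 2) F)))]
    (h0 : IsEll A₀)
    (θ θ' : Subgroup.centralizer ({A₀} : Set (Matrix.SpecialLinearGroup (Fin 2) F)) →* ℂˣ) :
    ∑ t : Subgroup.centralizer ({A₀} : Set SL2), (xt θ t + xt θ (t : SL2)⁻¹) *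
      conj (xt θ' t + xt θ' (t : SL2)⁻¹) =
      2 * (q + 1) * ((if θ = θ' then 1 else 0) + (if θ = θ'⁻¹ then 1 else 0)) := by
  have h1 := sum_mul_conj θ θ'
  have h2 := sum_mul_conj θ θ'⁻¹
  have e : ∀ (φ : Subgroup.centralizer ({A₀} : Set (Matrix.SpecialLinearGroup (Fin 2) F)) →* ℂˣ)
      (t : Subgroup.centralizer ({A₀} : Set SL2)), xt φ (t : SL2)⁻¹ = (((φ t)⁻¹ : ℂˣ) : ℂ) := by
    intro φ t
    have := xt_coe φ t⁻¹
    rw [map_inv, Subgroup.coe_inv] at this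
    exact this
  simp only [xt_coe, e]
  have h3 : ∑ c : Subgroup.centralizer ({A₀} : Set SL2), (((θ c)⁻¹ : ℂˣ) : ℂ) * conj (((θ' c)⁻¹ : ℂˣ) : ℂ) =
      ∑ c : Subgroup.centralizer ({A₀} : Set SL2), (θ c : ℂ) * conj (θ' c : ℂ) := by
    apply Fintype.sum_equiv (Equiv.inv _)
    intro c
    simp only [Equiv.inv_apply, map_inv]
  have h4 : ∑ c : Subgroup.centralizer ({A₀} : Set SL2), (((θ c)⁻¹ : ℂˣ) : ℂ) * conj (θ' c : ℂ) =
      ∑ c : Subgroup.centralizer ({A₀} : Set SL2), (θ c : ℂ) * conj ((θ'⁻¹) c : ℂ) := by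
    apply Fintype.sum_equiv (Equiv.inv _)
    intro c
    simp only [Equiv.inv_apply, map_inv, MonoidHom.inv_apply, inv_inv]
  have h5 : ∑ c : Subgroup.centralizer ({A₀} : Set SL2), (θ c : ℂ) * conj (((θ' c)⁻¹ : ℂˣ) : ℂ) =
      ∑ c : Subgroup.centralizer ({A₀} : Set SL2), (θ c : ℂ) * conj ((θ'⁻¹) c : ℂ) := by
    apply Finset.sum_congr rfl
    intro c _
    rw [MonoidHom.inv_apply]
  simp only [map_add, add_mul, mul_add, Finset.sum_add_distrib]
  rw [h3, h4, h5, h1, h2, (centralizer_of_no_root h0).2]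
  push_cast
  split_ifs <;> ring

/-- inner products of the cuspidal functions -/
theorem inner_cusp_cusp (h0 : IsEll A₀)
    (θ θ' : Subgroup.centralizer ({A₀} : Set (Matrix.SpecialLinearGroup (Fin 2) F)) →* ℂˣ) :
    classInner (cusp θ) (cusp θ') = (if θ = θ' then 1 else 0) + (if θ = θ'⁻¹ then 1 else 0) := by
  have : Fintype F := Fintype.ofFinite F
  have h := inner_formula (cusp_isClassFunction θ) (cusp_isClassFunction θ') h0
    (fun _ => 0)
    (fun g => (xt θ g + xt θ g⁻¹) * conj (xt θ' g + xt θ' g⁻¹))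
    (fun g hg => by rw [cusp_ST θ h0 hg, zero_mul])
    (fun g hg => by
      rw [cusp_SC θ h0 hg, cusp_SC θ' h0 hg, map_neg, neg_mul_neg])
  set S := ∑ z ∈ Zs F, xt θ z * conj (xt θ' z) with hS
  have e1 : ∑ z ∈ Zs F, cusp θ z * conj (cusp θ' z) = (q - 1) ^ 2 * S := by
    rw [hS, Finset.mul_sum]
    apply Finset.sum_congr rfl
    intro z hz
    rw [cusp_Zs θ h0 hz, cusp_Zs θ' h0 hz]
    simp only [map_mul, map_sub, map_one, map_natCast]
    ring
  have e2 : ∑ z ∈ Zs F, ∑ b : Fˣ, cusp θ (z * uu (b : F)) * conj (cusp θ' (z * uu (b : F))) =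
      (q - 1) * S := by
    rw [hS, Finset.mul_sum]
    apply Finset.sum_congr rfl
    intro z hz
    have : ∀ b : Fˣ, cusp θ (z * uu (b : F)) * conj (cusp θ' (z * uu (b : F))) =
        xt θ z * conj (xt θ' z) := by
      intro b
      rw [cusp_par θ h0 hz, cusp_par θ' h0 hz, map_neg, neg_mul_neg]
    rw [Finset.sum_congr rfl (fun b _ => this b), Finset.sum_const, Finset.card_univ, nsmul_eq_mul,
      ← Nat.card_eq_fintype_card, Nat.card_units]
    have h2 : 1 ≤ Nat.card F := Finite.card_pos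
    push_cast [Nat.cast_sub h2]
    ring
  have e3 : ∑ z ∈ Zs F, (xt θ z + xt θ z⁻¹) * conj (xt θ' z + xt θ' z⁻¹) = 4 * S := by
    rw [hS, Finset.mul_sum]
    apply Finset.sum_congr rfl
    intro z hz
    rw [(Zs_entries hz).2.2.2.1]
    simp only [map_add]
    ring
  rw [e1, e2, e3, sum_C h0 θ θ'] at h
  simp only [Finset.sum_const_zero, sub_zero, mul_zero, add_zero] at h
  have h1 := q_ne_zero (F := F)
  have h2 := q_sub_one_ne_zero (F := F)
  have h3 := q_add_one_ne_zero (F := F)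
  have h4 : 2 * (q * ((q - 1) * (q + 1))) ≠ 0 := mul_ne_zero two_ne_zero (mul_ne_zero h1 (mul_ne_zero h2 h3))
  apply mul_left_cancel₀ h4
  rw [h]
  ring

theorem inner_cusp_R (h0 : IsEll A₀)
    (θ : Subgroup.centralizer ({A₀} : Set (Matrix.SpecialLinearGroup (Fin 2) F)) →* ℂˣ)
    (α : MulChar F ℂ) : classInner (cusp θ) (R α) = 0 := by
  have : Fintype F := Fintype.ofFinite F
  have h := inner_formula (cusp_isClassFunction θ) (R_isClassFunction α) h0
    (fun _ => 0) (fun _ => 0)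
    (fun g hg => by rw [cusp_ST θ h0 hg, zero_mul])
    (fun g hg => by rw [R_SC α h0 hg, map_zero, mul_zero])
  set S := ∑ z ∈ Zs F, xt θ z * conj (α ((z : M2) 0 0)) with hS
  have e1 : ∑ z ∈ Zs F, cusp θ z * conj (R α z) = (q - 1) * (q + 1) * S := by
    rw [hS, Finset.mul_sum]
    apply Finset.sum_congr rfl
    intro z hz
    rw [cusp_Zs θ h0 hz, R_center α (mem_Zs.1 hz)]
    simp only [map_mul, map_add, map_one, map_natCast]
    ring
  have e2 : ∑ z ∈ Zs F, ∑ b : Fˣ, cusp θ (z * uu (b : F)) * conj (R α (z * uu (b : F))) =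
      - ((q - 1) * S) := by
    rw [hS, Finset.mul_sum, ← Finset.sum_neg_distrib]
    apply Finset.sum_congr rfl
    intro z hz
    have : ∀ b : Fˣ, cusp θ (z * uu (b : F)) * conj (R α (z * uu (b : F))) =
        - (xt θ z * conj (α ((z : M2) 0 0))) := by
      intro b
      rw [cusp_par θ h0 hz, R_par α (mul_uu_mem_SP hz b), mul_uu_00 hz]
      ring
    rw [Finset.sum_congr rfl (fun b _ => this b), Finset.sum_const, Finset.card_univ, nsmul_eq_mul,
      ← Nat.card_eq_fintype_card, Nat.card_units]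
    have h2 : 1 ≤ Nat.card F := Finite.card_pos
    push_cast [Nat.cast_sub h2]
    ring
  rw [e1, e2] at h
  simp only [Finset.sum_const_zero, sub_zero, mul_zero, add_zero] at h
  have h1 := q_ne_zero (F := F)
  have h2 := q_sub_one_ne_zero (F := F)
  have h3 := q_add_one_ne_zero (F := F)
  have h4 : 2 * (q * ((q - 1) * (q + 1))) ≠ 0 := mul_ne_zero two_ne_zero (mul_ne_zero h1 (mul_ne_zero h2 h3))
  apply mul_left_cancel₀ h4
  rw [h]
  ring

end cusp

end Cfsg.Agent.Lib.SL2Ortho
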