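import Cfsg.Agent.Lib.SL2Class

/-! Values of class functions of `SL₂(q)` on semisimple elements; degrees. -/

namespace Cfsg.Agent.Lib.SL2Vals

open Cfsg Classical Matrix ComplexConjugate
open Cfsg.Agent.Lib.SL2Basic Cfsg.Agent.Lib.SL2Tori Cfsg.Agent.Lib.SL2Int Cfsg.Agent.Lib.SL2Ind
open Cfsg.Agent.Lib.CharBasic Cfsg.Agent.Lib.LinChar Cfsg.Agent.Lib.SL2Ortho
open Cfsg.Agent.Lib.SL2Class

universe u

variable {F : Type u} [Field F]

local notation "SL2" => Matrix.SpecialLinearGroup (Fin 2) F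
local notation "M2" => Matrix (Fin 2) (Fin 2) F
local notation "q" => (Nat.card F : ℂ)

variable [Finite F] [Fintype (Matrix.SpecialLinearGroup (Fin 2) F)]

omit [Fintype (Matrix.SpecialLinearGroup (Fin 2) F)] in
theorem dg_conj_inv {χ : SL2 → ℂ} (hχ : IsClassFunction SL2 χ) {c : Fˣ} (hc : (c : F) ^ 2 ≠ 1) :
    χ (dg c⁻¹) = χ (dg c) := by
  have h4 := dg_tr_sq_ne hc
  obtain ⟨g, hg⟩ := exists_inverts h4
  rw [← hχ (dg c) g, hg]
  congr 1
  rw [← dgHom_apply, ← dgHom_apply, map_inv]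

omit [Fintype (Matrix.SpecialLinearGroup (Fin 2) F)] in
theorem sum_conj_mulChars [Fintype (MulChar F ℂ)] (c d : Fˣ) :
    ∑ α : MulChar F ℂ, conj (α (c : F)) * α (d : F) = if d = c then q - 1 else 0 := by
  have h := sum_mulChars (F := F) (c⁻¹ * d)
  have h1 : c⁻¹ * d = 1 ↔ d = c := by rw [inv_mul_eq_one, eq_comm]
  simp only [h1] at h
  rw [← h]
  apply Finset.sum_congr rfl
  intro α _
  rw [conj_mulChar, inv_apply_unit, ← map_mul, ← Units.val_mul]

/-- **Values on split elements**: `χ(dg c) = ∑ α(c) ⟨χ, R α⟩`. -/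
theorem value_ST {χ : SL2 → ℂ} (hχ : IsClassFunction SL2 χ) [Fintype (MulChar F ℂ)] {c : Fˣ}
    (hc : (c : F) ^ 2 ≠ 1) :
    χ (dg c) = ∑ α : MulChar F ℂ, α (c : F) * classInner χ (R α) := by
  have : Fintype F := Fintype.ofFinite F
  obtain ⟨A₀, h0⟩ := exists_isEll (F := F)
  have e0 : ∑ α : MulChar F ℂ, α (c : F) * classInner χ (R α) =
      classInner χ (∑ α : MulChar F ℂ, conj (α (c : F)) • R α) := by
    rw [classInner_sum_right]
    apply Finset.sum_congr rfl
    intro α _
    rw [classInner_smul_right, Complex.conj_conj]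
  rw [e0]
  have happ : ∀ g : SL2, (∑ α : MulChar F ℂ, conj (α (c : F)) • R α) g =
      ∑ α : MulChar F ℂ, conj (α (c : F)) * R α g := by
    intro g; rw [Finset.sum_apply]; rfl
  have hcl : IsClassFunction SL2 (∑ α : MulChar F ℂ, conj (α (c : F)) • R α) :=
    isClassFunction_sum _ _ (fun α _ => (R_isClassFunction α).smul _)
  -- `c` is different from central elements
  have hcz : ∀ d : Fˣ, d⁻¹ = d → d ≠ c := by
    rintro d hd rfl
    apply hc
    have : d * d = 1 := by nth_rewrite 1 [← hd]; simp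
    have := congrArg Units.val this
    rw [Units.val_mul] at this
    rw [pow_two, this]; rfl
  have hZ : ∀ z ∈ Zs F, ∑ α : MulChar F ℂ, conj (α (c : F)) * α ((z : M2) 0 0) = 0 := by
    intro z hz
    obtain ⟨_, _, _, _, d, hd, hd'⟩ := Zs_entries hz
    rw [hd, sum_conj_mulChars, if_neg (hcz d hd')]
  have h := inner_formula hχ hcl h0
    (fun g => χ g * ((q - 1) * ((if (g : M2) 0 0 = (c : F) then 1 else 0) + (if (g : M2) 1 1 = (c : F) then 1 else 0))))
    (fun _ => 0) ?_ ?_
  · have e1 : ∑ z ∈ Zs F, χ z * conj ((∑ α : MulChar F ℂ, conj (α (c : F)) • R α) z) = 0 := by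
      apply Finset.sum_eq_zero
      intro z hz
      rw [happ]
      simp only [R_center _ (mem_Zs.1 hz)]
      have : ∑ α : MulChar F ℂ, conj (α (c : F)) * ((q + 1) * α ((z : M2) 0 0)) =
          (q + 1) * ∑ α : MulChar F ℂ, conj (α (c : F)) * α ((z : M2) 0 0) := by
        rw [Finset.mul_sum]
        apply Finset.sum_congr rfl
        intro α _; ring
      rw [this, hZ z hz]; simp
    have e2 : ∑ z ∈ Zs F, ∑ b : Fˣ, χ (z * uu (b : F)) *
        conj ((∑ α : MulChar F ℂ, conj (α (c : F)) • R α) (z * uu (b : F))) = 0 := by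
      apply Finset.sum_eq_zero
      intro z hz
      apply Finset.sum_eq_zero
      intro b _
      rw [happ]
      simp only [R_par _ (mul_uu_mem_SP hz b), mul_uu_00 hz, hZ z hz]
      simp
    have e3 : ∑ z ∈ Zs F, (fun g : SL2 => χ g * ((q - 1) * ((if (g : M2) 0 0 = (c : F) then 1 else 0) +
        (if (g : M2) 1 1 = (c : F) then 1 else 0)))) z = 0 := by
      apply Finset.sum_eq_zero
      intro z hz
      obtain ⟨_, _, h3, _, d, hd, hd'⟩ := Zs_entries hz
      have hne : ¬ ((d : F) = (c : F)) := fun h => hcz d hd' (Units.ext h)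
      simp only [h3, hd, if_neg hne]; simp
    have e4 : ∑ d : Fˣ, (fun g : SL2 => χ g * ((q - 1) * ((if (g : M2) 0 0 = (c : F) then 1 else 0) +
        (if (g : M2) 1 1 = (c : F) then 1 else 0)))) (dg d) = (q - 1) * (2 * χ (dg c)) := by
      have e5 : ∀ d : Fˣ, (fun g : SL2 => χ g * ((q - 1) * ((if (g : M2) 0 0 = (c : F) then 1 else 0) +
        (if (g : M2) 1 1 = (c : F) then 1 else 0)))) (dg d) =
        (if d = c then (q - 1) * χ (dg c) else 0) + (if d = c⁻¹ then (q - 1) * χ (dg c) else 0) := by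
        intro d
        have d00 : ((dg d : SL2) : M2) 0 0 = d := rfl
        have d11 : ((dg d : SL2) : M2) 1 1 = ((d⁻¹ : Fˣ) : F) := rfl
        have k1 : ((d : F) = (c : F)) ↔ d = c := Units.ext_iff.symm
        have k2 : (((d⁻¹ : Fˣ) : F) = (c : F)) ↔ d = c⁻¹ := by
          rw [← Units.ext_iff, inv_eq_iff_eq_inv]
        simp only [d00, d11, k1, k2]
        by_cases m1 : d = c
        · by_cases m2 : d = c⁻¹
          · exfalso
            exact hcz c (by rw [← m2, m1]) rfl
          · rw [if_pos m1, if_neg m2, if_pos m1, if_neg m2, m1]; ring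
        · by_cases m2 : d = c⁻¹
          · rw [if_neg m1, if_pos m2, if_neg m1, if_pos m2, m2, dg_conj_inv hχ hc]; ring
          · rw [if_neg m1, if_neg m2, if_neg m1, if_neg m2]; ring
      rw [Finset.sum_congr rfl (fun d _ => e5 d), Finset.sum_add_distrib]
      simp only [Finset.sum_ite_eq', Finset.mem_univ, if_true]
      ring
    rw [e1, e2, e3, e4] at h
    simp only [Finset.sum_const_zero, sub_zero, mul_zero, add_zero, zero_add] at h
    have h1 := q_ne_zero (F := F)
    have h2 := q_sub_one_ne_zero (F := F)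
    have h3 := q_add_one_ne_zero (F := F)
    have h4 : 2 * (q * ((q - 1) * (q + 1))) ≠ 0 := mul_ne_zero two_ne_zero (mul_ne_zero h1 (mul_ne_zero h2 h3))
    apply mul_left_cancel₀ h4
    rw [h]
    ring
  · intro g hg
    obtain ⟨d, hd, rfl⟩ := exists_dg_of_mem_ST hg
    rw [happ]
    have d00 : ((dg d : SL2) : M2) 0 0 = d := rfl
    have d11 : ((dg d : SL2) : M2) 1 1 = ((d⁻¹ : Fˣ) : F) := rfl
    simp only [R_dg _ hd, mul_add, Finset.sum_add_distrib, sum_conj_mulChars, d00, d11]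
    have k1 : ((d : F) = (c : F)) ↔ d = c := Units.ext_iff.symm
    have k2 : (((d⁻¹ : Fˣ) : F) = (c : F)) ↔ d⁻¹ = c := Units.ext_iff.symm
    simp only [k1, k2]
    split_ifs <;> simp; ring
  · intro g hg
    rw [happ]
    simp only [R_SC _ h0 hg, mul_zero, Finset.sum_const_zero, map_zero]

section

variable {A₀ : Matrix.SpecialLinearGroup (Fin 2) F}

omit [Fintype (Matrix.SpecialLinearGroup (Fin 2) F)] in
theorem SC_conj_inv {χ : SL2 → ℂ} (hχ : IsClassFunction SL2 χ) (h0 : IsEll A₀) {t : SL2}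
    (ht : t ∈ SC A₀) : χ t⁻¹ = χ t := by
  obtain ⟨g, hg⟩ := exists_inverts (sq_ne_four_of_no_root (isEll_of_mem_SC h0 ht))
  rw [← hχ t g, hg]

omit [Fintype (Matrix.SpecialLinearGroup (Fin 2) F)] in
theorem sum_conj_xt (h0 : IsEll A₀)
    [Fintype (Subgroup.centralizer ({A₀} : Set (Matrix.SpecialLinearGroup (Fin 2) F)) →* ℂˣ)]
    (c d : Subgroup.centralizer ({A₀} : Set SL2)) :
    ∑ θ : Subgroup.centralizer ({A₀} : Set SL2) →* ℂˣ, conj (xt θ c) * xt θ d =
      if d = c then q + 1 else 0 := by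
  have h := sum_xt h0 (c⁻¹ * d)
  have h1 : c⁻¹ * d = 1 ↔ d = c := by rw [inv_mul_eq_one, eq_comm]
  simp only [h1] at h
  rw [← h]
  apply Finset.sum_congr rfl
  intro θ _
  rw [xt_coe, xt_coe, xt_coe, conj_coe, map_mul, map_inv, Units.val_mul]

/-- **Values on elliptic elements**: `χ(t) = -∑ θ(t) ⟨χ, cusp θ⟩`. -/
theorem value_SC {χ : SL2 → ℂ} (hχ : IsClassFunction SL2 χ) (h0 : IsEll A₀)
    [Fintype (Subgroup.centralizer ({A₀} : Set (Matrix.SpecialLinearGroup (Fin 2) F)) →* ℂˣ)]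
    (t : Subgroup.centralizer ({A₀} : Set SL2)) (ht : (t : SL2) ∉ Subgroup.center SL2) :
    χ t = -∑ θ : Subgroup.centralizer ({A₀} : Set SL2) →* ℂˣ, (θ t : ℂ) * classInner χ (cusp θ) := by
  have : Fintype F := Fintype.ofFinite F
  have htS : (t : SL2) ∈ SC A₀ := ⟨t.2, ht⟩
  have e0 : ∑ θ : Subgroup.centralizer ({A₀} : Set SL2) →* ℂˣ, (θ t : ℂ) * classInner χ (cusp θ) =
      classInner χ (∑ θ : Subgroup.centralizer ({A₀} : Set SL2) →* ℂˣ, conj (xt θ t) • cusp θ) := by
    rw [classInner_sum_right]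
    apply Finset.sum_congr rfl
    intro θ _
    rw [classInner_smul_right, Complex.conj_conj, xt_coe]
  rw [e0]
  have happ : ∀ g : SL2, (∑ θ : Subgroup.centralizer ({A₀} : Set SL2) →* ℂˣ, conj (xt θ t) • cusp θ) g =
      ∑ θ : Subgroup.centralizer ({A₀} : Set SL2) →* ℂˣ, conj (xt θ t) * cusp θ g := by
    intro g; rw [Finset.sum_apply]; rfl
  have hcl : IsClassFunction SL2
      (∑ θ : Subgroup.centralizer ({A₀} : Set SL2) →* ℂˣ, conj (xt θ t) • cusp θ) :=
    isClassFunction_sum _ _ (fun θ _ => (cusp_isClassFunction θ).smul _)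
  have hZ : ∀ z ∈ Zs F, ∑ θ : Subgroup.centralizer ({A₀} : Set SL2) →* ℂˣ, conj (xt θ t) * xt θ z = 0 := by
    intro z hz
    rw [sum_conj_xt h0 t ⟨z, mem_C_of_Zs hz A₀⟩, if_neg]
    intro h
    apply ht
    rw [← h]
    exact mem_Zs.1 hz
  have h := inner_formula hχ hcl h0
    (fun _ => 0)
    (fun g => -(χ g * ((q + 1) * ((if g = (t : SL2) then 1 else 0) + (if g⁻¹ = (t : SL2) then 1 else 0)))))
    ?_ ?_
  · have e1 : ∑ z ∈ Zs F, χ z * conj
        ((∑ θ : Subgroup.centralizer ({A₀} : Set SL2) →* ℂˣ, conj (xt θ t) • cusp θ) z) = 0 := by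
      apply Finset.sum_eq_zero
      intro z hz
      rw [happ]
      simp only [cusp_Zs _ h0 hz]
      have : ∑ θ : Subgroup.centralizer ({A₀} : Set SL2) →* ℂˣ, conj (xt θ t) * ((q - 1) * xt θ z) =
          (q - 1) * ∑ θ : Subgroup.centralizer ({A₀} : Set SL2) →* ℂˣ, conj (xt θ t) * xt θ z := by
        rw [Finset.mul_sum]
        apply Finset.sum_congr rfl
        intro α _; ring
      rw [this, hZ z hz]; simp
    have e2 : ∑ z ∈ Zs F, ∑ b : Fˣ, χ (z * uu (b : F)) * conj
        ((∑ θ : Subgroup.centralizer ({A₀} : Set SL2) →* ℂˣ, conj (xt θ t) • cusp θ)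
          (z * uu (b : F))) = 0 := by
      apply Finset.sum_eq_zero
      intro z hz
      apply Finset.sum_eq_zero
      intro b _
      rw [happ]
      simp only [cusp_par _ h0 hz, mul_neg, Finset.sum_neg_distrib, hZ z hz]
      simp
    have e3 : ∑ z ∈ Zs F, (fun g : SL2 => -(χ g * ((q + 1) * ((if g = (t : SL2) then 1 else 0) +
        (if g⁻¹ = (t : SL2) then 1 else 0))))) z = 0 := by
      apply Finset.sum_eq_zero
      intro z hz
      have h1 : z ≠ t := by rintro rfl; exact ht (mem_Zs.1 hz)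
      simp only [(Zs_entries hz).2.2.2.1, if_neg h1]; simp
    have e4 : ∑ d : Subgroup.centralizer ({A₀} : Set SL2),
        (fun g : SL2 => -(χ g * ((q + 1) * ((if g = (t : SL2) then 1 else 0) +
        (if g⁻¹ = (t : SL2) then 1 else 0))))) d = -((q + 1) * (2 * χ t)) := by
      have e5 : ∀ d : Subgroup.centralizer ({A₀} : Set SL2),
        (fun g : SL2 => -(χ g * ((q + 1) * ((if g = (t : SL2) then 1 else 0) +
        (if g⁻¹ = (t : SL2) then 1 else 0))))) d =
        (if d = t then -((q + 1) * χ t) else 0) + (if d = t⁻¹ then -((q + 1) * χ t) else 0) := by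
        intro d
        have k1 : ((d : SL2) = (t : SL2)) ↔ d = t := Subtype.ext_iff.symm
        have k2 : ((d : SL2)⁻¹ = (t : SL2)) ↔ d = t⁻¹ := by
          rw [Subtype.ext_iff, Subgroup.coe_inv, inv_eq_iff_eq_inv]
        simp only [k1, k2]
        by_cases m1 : d = t
        · by_cases m2 : d = t⁻¹
          · exfalso
            have h5 := ne_inv_of_tr (sq_ne_four_of_no_root (isEll_of_mem_SC h0 htS))
            apply h5
            rw [← Subgroup.coe_inv, ← m2, m1]
          · rw [if_pos m1, if_neg m2, if_pos m1, if_neg m2, m1]; ring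
        · by_cases m2 : d = t⁻¹
          · rw [if_neg m1, if_pos m2, if_neg m1, if_pos m2, m2, Subgroup.coe_inv,
              SC_conj_inv hχ h0 htS]; ring
          · rw [if_neg m1, if_neg m2, if_neg m1, if_neg m2]; ring
      rw [Finset.sum_congr rfl (fun d _ => e5 d), Finset.sum_add_distrib]
      simp only [Finset.sum_ite_eq', Finset.mem_univ, if_true]
      ring
    rw [e1, e2, e3, e4] at h
    simp only [Finset.sum_const_zero, sub_zero, mul_zero, add_zero, zero_add] at h
    have h1 := q_ne_zero (F := F)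
    have h2 := q_sub_one_ne_zero (F := F)
    have h3 := q_add_one_ne_zero (F := F)
    have h4 : 2 * (q * ((q - 1) * (q + 1))) ≠ 0 := mul_ne_zero two_ne_zero (mul_ne_zero h1 (mul_ne_zero h2 h3))
    apply mul_left_cancel₀ h4
    linear_combination h
  · intro g hg
    rw [happ]
    simp only [cusp_ST _ h0 hg, mul_zero, Finset.sum_const_zero, map_zero]
  · intro g hg
    rw [happ]
    have k0 := sum_conj_xt h0 t ⟨g, hg.1⟩
    have k0' := sum_conj_xt h0 t (⟨g, hg.1⟩ : Subgroup.centralizer ({A₀} : Set SL2))⁻¹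
    simp only [Subgroup.coe_inv] at k0 k0'
    simp only [cusp_SC _ h0 hg, mul_neg, mul_add, Finset.sum_neg_distrib, Finset.sum_add_distrib]
    rw [k0, k0']
    have k1 : ((⟨g, hg.1⟩ : Subgroup.centralizer ({A₀} : Set SL2)) = t) ↔ g = (t : SL2) := by
      rw [Subtype.ext_iff]
    have k2 : ((⟨g, hg.1⟩ : Subgroup.centralizer ({A₀} : Set SL2))⁻¹ = t) ↔ g⁻¹ = (t : SL2) := by
      rw [Subtype.ext_iff, Subgroup.coe_inv]
    simp only [k1, k2]
    split_ifs <;> simp <;> ring

end

end Cfsg.Agent.Lib.SL2Vals
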