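import Cfsg.Agent.Lib.SMONa

/-! Lifting homomorphisms from perfect groups with trivial multiplier; words with commuting shifts. -/

set_option autoImplicit false

namespace Cfsg.Agent.Lib.SMFa

open Subgroup Cfsg.Agent.Lib.SchurSylow
open scoped commutatorElement
open Cfsg.Agent.Lib.BenesWord Cfsg.Agent.Lib.CoxBridge

/-- homomorphisms from a perfect group without stem extensions lift through central extensions -/
theorem exists_lift {H : Type} [Group H] [Finite H] (hp : commutator H = ⊤) (hs : StemDvd H 1) {Γ : Type} [Group Γ]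
    [Finite Γ] {G' : Type} [Group G'] {σ : Γ →* G'} (hσs : Function.Surjective σ) (hσc : σ.ker ≤ center Γ)
    (θ : H →* G') : ∃ τ : H →* Γ, σ.comp τ = θ := by
  let P : Subgroup (H × Γ) := (θ.comp (MonoidHom.fst H Γ)).eqLocus (σ.comp (MonoidHom.snd H Γ))
  let D : Subgroup (H × Γ) := ⁅P, P⁆
  have hDP : D ≤ P := commutator_le_self P
  have hker : ∀ g ∈ P, g.1 = 1 → g ∈ center (H × Γ) := by
    rintro ⟨a, b⟩ h h1
    simp only at h1
    subst h1
    have h2 : θ 1 = σ b := h
    rw [map_one] at h2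
    have h3 := mem_center_iff.1 (hσc (show b ∈ σ.ker from h2.symm))
    rw [mem_center_iff]
    rintro ⟨c, d⟩
    rw [Prod.mk_mul_mk, Prod.mk_mul_mk, h3 d, mul_one, one_mul]
  have hPs : P.map (MonoidHom.fst H Γ) = ⊤ := by
    rw [eq_top_iff]
    intro h _
    obtain ⟨g, hg⟩ := hσs (θ h)
    exact ⟨(h, g), hg.symm, rfl⟩
  have hDs : D.map (MonoidHom.fst H Γ) = ⊤ := by
    rw [map_commutator, hPs, ← commutator_def, hp]
  -- `D` is perfect
  have hDD : ⁅D, D⁆ = D := by
    apply le_antisymm (commutator_le_self D)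
    change ⁅P, P⁆ ≤ ⁅D, D⁆
    rw [commutator_le]
    have key : ∀ g ∈ P, ∃ d ∈ D, ∃ z ∈ center (H × Γ), g = d * z := by
      intro g hg
      obtain ⟨d, hd, hd1⟩ : g.1 ∈ D.map (MonoidHom.fst H Γ) := by rw [hDs]; trivial
      refine ⟨d, hd, d⁻¹ * g, ?_, by group⟩
      apply hker _ (P.mul_mem (P.inv_mem (hDP hd)) hg)
      have : d.1 = g.1 := hd1
      simp [this]
    intro a ha b hb
    obtain ⟨r, hr, z, hz, rfl⟩ := key a ha
    obtain ⟨s, hs', w, hw, rfl⟩ := key b hb
    have hz' := mem_center_iff.1 hz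
    have hw' := mem_center_iff.1 hw
    have e : ⁅r * z, s * w⁆ = ⁅r, s⁆ := by
      rw [commutatorElement_def, commutatorElement_def, mul_inv_rev, mul_inv_rev]
      calc r * z * (s * w) * (z⁻¹ * r⁻¹) * (w⁻¹ * s⁻¹)
          = r * (z * (s * w)) * z⁻¹ * r⁻¹ * w⁻¹ * s⁻¹ := by group
        _ = r * ((s * w) * z) * z⁻¹ * r⁻¹ * w⁻¹ * s⁻¹ := by rw [hz' (s * w)]
        _ = (r * s) * w * (r⁻¹ * w⁻¹ * s⁻¹) := by group
        _ = w * (r * s) * (r⁻¹ * w⁻¹ * s⁻¹) := by rw [hw' (r * s)]
        _ = w * (r * s * r⁻¹ * w⁻¹) * s⁻¹ := by group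
        _ = (r * s * r⁻¹ * w⁻¹) * w * s⁻¹ := by rw [hw' (r * s * r⁻¹ * w⁻¹)]
        _ = r * s * r⁻¹ * s⁻¹ := by group
    rw [e]
    exact commutator_mem_commutator hr hs'
  -- the projection
  let ρ : D →* H := (MonoidHom.fst H Γ).comp D.subtype
  have hρs : Function.Surjective ρ := by
    intro h
    obtain ⟨d, hd, hd1⟩ : h ∈ D.map (MonoidHom.fst H Γ) := by rw [hDs]; trivial
    exact ⟨⟨d, hd⟩, hd1⟩
  have hcD : commutator D = ⊤ := by
    rw [eq_top_iff]
    have h1 : (commutator D).map D.subtype = ⁅D, D⁆ := map_subtype_commutator D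
    intro x _
    have h2 : (x : H × Γ) ∈ (commutator D).map D.subtype := by rw [h1, hDD]; exact x.2
    obtain ⟨y, hy, hyx⟩ := h2
    have : y = x := Subtype.ext hyx
    rwa [← this]
  have hst : IsStemExtension ρ := by
    refine ⟨hρs, ?_, by rw [hcD]; exact le_top⟩
    intro x hx
    have h1 := mem_center_iff.1 (hker x.1 (hDP x.2) hx)
    rw [mem_center_iff]
    intro y
    exact Subtype.ext (h1 y.1)
  have h1 := hs D ρ hst
  rw [Nat.dvd_one, Subgroup.card_eq_one] at h1
  have hinj : Function.Injective ρ := (MonoidHom.ker_eq_bot_iff ρ).1 h1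
  let e : D ≃* H := MulEquiv.ofBijective ρ ⟨hinj, hρs⟩
  refine ⟨((MonoidHom.snd H Γ).comp D.subtype).comp e.symm.toMonoidHom, ?_⟩
  ext h
  have h2 : e (e.symm h) = h := e.apply_symm_apply h
  have h3 : ((e.symm h : D) : H × Γ) ∈ P := hDP (e.symm h).2
  have h4 : θ ((e.symm h : D) : H × Γ).1 = σ ((e.symm h : D) : H × Γ).2 := h3
  have h5 : ((e.symm h : D) : H × Γ).1 = h := h2
  rw [h5] at h4
  exact h4.symm

/-- shifts of the letters by powers of an element commuting with them -/
theorem eval_comm {G : Type*} [Group G] {x : ℕ → G} {l : G} {n : ℕ} (hx : ∀ c, c < n → x c * l = l * x c) :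
    ∀ W : Wd, lets n W = true → W.eval x * l = l * W.eval x ∧
      (Wd.eval (fun _ => l) W) * l = l * Wd.eval (fun _ => l) W ∧
      (∀ c, c < n → x c * Wd.eval (fun _ => l) W = Wd.eval (fun _ => l) W * x c) ∧
      Wd.eval (fun c => x c * l) W = W.eval x * Wd.eval (fun _ => l) W := by
  -- everything happens in the centralizer of `l`
  intro W hW
  let C : Subgroup G := centralizer {l}
  let x' : ℕ → C := fun c => if h : c < n then ⟨x c, mem_centralizer_singleton_iff.2 (hx c h)⟩ else 1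
  let l' : C := ⟨l, mem_centralizer_singleton_iff.2 rfl⟩
  have hl' : l' ∈ center C := by
    rw [mem_center_iff]
    intro g
    exact Subtype.ext (mem_centralizer_singleton_iff.1 g.2)
  have hxc : ∀ c, c < n → ((x' c : C) : G) = x c := by
    intro c hc
    simp only [x', dif_pos hc]
  have hev : ((W.eval x' : C) : G) = W.eval x := by
    rw [show ((W.eval x' : C) : G) = C.subtype (W.eval x') from rfl, Wd.map_eval]
    exact eval_congr hxc W hW
  have hl : ((Wd.eval (fun _ => l') W : C) : G) = Wd.eval (fun _ => l) W := by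
    rw [show ((Wd.eval (fun _ => l') W : C) : G) = C.subtype (Wd.eval (fun _ => l') W) from rfl, Wd.map_eval]
    rfl
  have hs := SMONa.eval_shift x' (fun _ => l') (fun _ => hl') W
  have hxl : ((Wd.eval (fun c => x' c * l') W : C) : G) = Wd.eval (fun c => x c * l) W := by
    rw [show ((Wd.eval (fun c => x' c * l') W : C) : G) = C.subtype (Wd.eval (fun c => x' c * l') W) from rfl,
      Wd.map_eval]
    apply eval_congr (n := n) _ W hW
    intro c hc
    change ((x' c : C) : G) * l = x c * l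
    rw [hxc c hc]
  refine ⟨?_, ?_, ?_, ?_⟩
  · rw [← hev]; exact mem_centralizer_singleton_iff.1 (W.eval x').2
  · rw [← hl]; exact mem_centralizer_singleton_iff.1 (Wd.eval (fun _ => l') W).2
  · intro c hc
    rw [← hl, ← hxc c hc]
    exact congrArg Subtype.val (mem_center_iff.1 hs.1 (x' c))
  · rw [← hxl, hs.2, ← hev, ← hl]; rfl

/-- uniqueness of lifts of order dividing `n` -/
theorem lift_unique {Γ : Type*} [Group Γ] {G' : Type*} [Group G'] {σ : Γ →* G'} (hσc : σ.ker ≤ center Γ)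
    (h2 : ∀ z ∈ σ.ker, z * z = 1) {a b : Γ} (ha : a ^ 3 = 1) (hb : b ^ 3 = 1) (hab : σ a = σ b) : a = b := by
  have hk : a⁻¹ * b ∈ σ.ker := by rw [MonoidHom.mem_ker, map_mul, map_inv, hab, inv_mul_cancel]
  obtain ⟨z, hz⟩ : ∃ z, z = a⁻¹ * b := ⟨_, rfl⟩
  rw [← hz] at hk
  have hb' : b = a * z := by rw [hz]; group
  rw [hb', (show Commute a z from mem_center_iff.1 (hσc hk) a).mul_pow, ha, one_mul] at hb
  have : z ^ 3 = (z * z) * z := by rw [pow_succ, pow_two]
  rw [this, h2 z hk, one_mul] at hb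
  rw [hb', hb, mul_one]

end Cfsg.Agent.Lib.SMFa
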