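import Cfsg.Agent.Lib.H58SMg

/-!
Certificate for the 2-part of the multiplier of 2^3:7:3 (helper58)
-/

set_option autoImplicit false

namespace Cfsg.Agent.Lib.H58SM.M22h2

open Cfsg.Agent.Lib.H58SM

def T0 : ℕ := 0x9bd611

def T1 : ℕ := 0xba7642

def T2 : ℕ := 0xeae119

def T3 : ℕ := 0xf2a383

def TL (l : ℕ) : ℕ := ([T0, T1, T2, T3] : List ℕ).getD l 0

def PIB : ℕ := 0x1140

def PQB : ℕ := 0xb22240

def R0 : ℕ := 0xbdaac83e93749116ac00394c04800a1900010400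

def RS (c : ℕ) : ℕ := R0

def RE (x : ℕ) : ℕ := frc (Nat.shiftRight x 6) fun c => gt (RS c) 5 31 (Nat.land x 63)

def LPB : ℕ := 0xf1c3460b14244070c17a030400001e28680520000808180000600000

def PL : List ℕ := []

def WL : List (List ℕ) := [[0, 0, 0],
  [2, 2, 2],
  [2, 0, 2, 0, 2, 0, 2, 0, 2, 0, 2, 0],
  [3, 0, 3, 0, 3, 0, 3, 0, 3, 0, 3, 0, 3, 0],
  [3, 0, 2, 0, 3, 0, 2, 0, 3, 0, 2, 0, 3, 0, 2, 0, 3, 0, 2, 0, 3, 0, 2, 0],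
  [2, 1, 2, 0, 2, 1, 2, 0, 2, 1, 2, 0],
  [3, 1, 2, 0, 3, 1, 2, 0, 3, 1, 2, 0, 3, 1, 2, 0, 3, 1, 2, 0, 3, 1, 2, 0, 3, 1, 2, 0],
  [3, 0, 2, 1, 2, 0, 3, 0, 2, 1, 2, 0, 3, 0, 2, 1, 2, 0],
  [2, 1, 2, 0, 2, 0, 2, 1, 2, 0, 2, 0, 2, 1, 2, 0, 2, 0, 2, 1, 2, 0, 2, 0, 2, 1, 2, 0, 2, 0, 2, 1, 2, 0, 2, 0],
  [3, 1, 3, 0, 2, 0, 3, 1, 3, 0, 2, 0, 3, 1, 3, 0, 2, 0, 3, 1, 3, 0, 2, 0, 3, 1, 3, 0, 2, 0, 3, 1, 3, 0, 2, 0, 3, 1, 3, 0, 2, 0],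
  [3, 1, 2, 0, 2, 0, 3, 1, 2, 0, 2, 0, 3, 1, 2, 0, 2, 0],
  [3, 0, 2, 0, 2, 0, 3, 0, 2, 0, 2, 0, 3, 0, 2, 0, 2, 0],
  [3, 1, 2, 1, 2, 0, 3, 1, 2, 1, 2, 0],
  [2, 1, 2, 1, 2, 0, 2, 0, 2, 1, 2, 1, 2, 0, 2, 0, 2, 1, 2, 1, 2, 0, 2, 0, 2, 1, 2, 1, 2, 0, 2, 0, 2, 1, 2, 1, 2, 0, 2, 0, 2, 1, 2, 1, 2, 0, 2, 0],
  [3, 1, 3, 0, 2, 1, 2, 0, 3, 1, 3, 0, 2, 1, 2, 0, 3, 1, 3, 0, 2, 1, 2, 0, 3, 1, 3, 0, 2, 1, 2, 0, 3, 1, 3, 0, 2, 1, 2, 0, 3, 1, 3, 0, 2, 1, 2, 0, 3, 1, 3, 0, 2, 1, 2, 0],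
  [3, 1, 3, 1, 2, 0, 2, 0, 3, 1, 3, 1, 2, 0, 2, 0, 3, 1, 3, 1, 2, 0, 2, 0, 3, 1, 3, 1, 2, 0, 2, 0, 3, 1, 3, 1, 2, 0, 2, 0, 3, 1, 3, 1, 2, 0, 2, 0, 3, 1, 3, 1, 2, 0, 2, 0]]

def s0 : Stp := Stp.F T0 0

def s1 : Stp := Stp.B T1 0

def s2 : Stp := Stp.F T2 8

def s3 : Stp := Stp.B T3 8

def SL : List (List Stp) := [[s0, s0, s0],
  [s2, s2, s2],
  [s2, s0, s2, s0, s2, s0, s2, s0, s2, s0, s2, s0],
  [s3, s0, s3, s0, s3, s0, s3, s0, s3, s0, s3, s0, s3, s0],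
  [s3, s0, s2, s0, s3, s0, s2, s0, s3, s0, s2, s0, s3, s0, s2, s0, s3, s0, s2, s0, s3, s0, s2, s0],
  [s2, s1, s2, s0, s2, s1, s2, s0, s2, s1, s2, s0],
  [s3, s1, s2, s0, s3, s1, s2, s0, s3, s1, s2, s0, s3, s1, s2, s0, s3, s1, s2, s0, s3, s1, s2, s0, s3, s1, s2, s0],
  [s3, s0, s2, s1, s2, s0, s3, s0, s2, s1, s2, s0, s3, s0, s2, s1, s2, s0],
  [s2, s1, s2, s0, s2, s0, s2, s1, s2, s0, s2, s0, s2, s1, s2, s0, s2, s0, s2, s1, s2, s0, s2, s0, s2, s1, s2, s0, s2, s0, s2, s1, s2, s0, s2, s0],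
  [s3, s1, s3, s0, s2, s0, s3, s1, s3, s0, s2, s0, s3, s1, s3, s0, s2, s0, s3, s1, s3, s0, s2, s0, s3, s1, s3, s0, s2, s0, s3, s1, s3, s0, s2, s0, s3, s1, s3, s0, s2, s0],
  [s3, s1, s2, s0, s2, s0, s3, s1, s2, s0, s2, s0, s3, s1, s2, s0, s2, s0],
  [s3, s0, s2, s0, s2, s0, s3, s0, s2, s0, s2, s0, s3, s0, s2, s0, s2, s0],
  [s3, s1, s2, s1, s2, s0, s3, s1, s2, s1, s2, s0],
  [s2, s1, s2, s1, s2, s0, s2, s0, s2, s1, s2, s1, s2, s0, s2, s0, s2, s1, s2, s1, s2, s0, s2, s0, s2, s1, s2, s1, s2, s0, s2, s0, s2, s1, s2, s1, s2, s0, s2, s0, s2, s1, s2, s1, s2, s0, s2, s0],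
  [s3, s1, s3, s0, s2, s1, s2, s0, s3, s1, s3, s0, s2, s1, s2, s0, s3, s1, s3, s0, s2, s1, s2, s0, s3, s1, s3, s0, s2, s1, s2, s0, s3, s1, s3, s0, s2, s1, s2, s0, s3, s1, s3, s0, s2, s1, s2, s0, s3, s1, s3, s0, s2, s1, s2, s0],
  [s3, s1, s3, s1, s2, s0, s2, s0, s3, s1, s3, s1, s2, s0, s2, s0, s3, s1, s3, s1, s2, s0, s2, s0, s3, s1, s3, s1, s2, s0, s2, s0, s3, s1, s3, s1, s2, s0, s2, s0, s3, s1, s3, s1, s2, s0, s2, s0, s3, s1, s3, s1, s2, s0, s2, s0]]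

def nr (i : ℕ) : ℕ × ℕ := ([(3, 0), (3, 1)] : List (ℕ × ℕ)).getD i (0, 0)

def Q : DatQ where
  n := 8
  k := 2
  J := 16
  p := 2
  m := 2
  d := 0
  wb := 3
  mkT := 7
  b0 := 5
  mk0 := 31
  b := 6
  mb := 63
  LM := 56
  TL := TL
  pi := gt PIB 2 3
  pq := gt PQB 3 7
  W j := WL.getD j []
  S j := SL.getD j []
  RE := RE
  lp := gt LPB 7 127
  par t := PL.getD t 0
  Zl := [16, 17]

def gl : List (ℕ × ℕ × List (ℕ × ℕ)) := []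

def CL : List (List (ℕ × ℕ) × List (ℕ × ℕ)) := []

def C (t : ℕ) : List (ℕ × ℕ) × List (ℕ × ℕ) := CL.getD t ([], [])

set_option maxRecDepth 1000000

theorem tab1_ok : Q.toDat.tab1 = true := by decide +kernel

theorem tab2_ok : Q.toDat.tab2 = true := by decide +kernel

theorem tab3_ok : Q.toDat.tab3 = true := by decide +kernel

theorem w_ok : Q.toDat.wOk = true := by decide +kernel

theorem s_ok : Q.sOk = true := by decide +kernel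

theorem p_ok : Q.pOk = true := by decide +kernel

theorem nr_ok : Q.toDat.nrOk nr = true := by decide +kernel

theorem zl_ok : Q.toDat.zlOk nr = true := by decide +kernel

theorem gen_ok : Q.toDat.genOk gl = true := by decide +kernel

theorem par_ok : Q.toDat.parOk gl C = true := by decide +kernel

theorem chk_0 : alln (fun x => Q.chk (Nat.add 0 x)) 32 = true := by decide +kernel

theorem chkQ : ∀ x < Q.toDat.N, Q.chk x = true := by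
  intro x hx
  have hx : x < 32 := hx

  have h := alln_iff.1 chk_0 (x - 0) (by omega)
  rwa [show Nat.add 0 (x - 0) = x from by show 0 + (x - 0) = x; omega] at h
theorem chk_ok : ∀ x < Q.toDat.N, Q.toDat.chk x = true :=
  DatQ.chk_of p_ok s_ok w_ok (fun l hl a ha => Sol.blt_iff.1 (alln_iff.1 (alln_iff.1 tab1_ok l hl) a ha)) chkQ




end Cfsg.Agent.Lib.H58SM.M22h2
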