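import Cfsg.Agent.Lib.H58SMg

/-!
Certificate for the 3-part of the multiplier of L2(8) (helper58)
-/

set_option autoImplicit false

namespace Cfsg.Agent.Lib.H58SM.Sp62H3

open Cfsg.Agent.Lib.H58SM

def T0 : ℕ := 0x8b1e01e8718d364f0a21c48391b482f9ba17441dbc7e55e8c5ee1c93109492a6ab18b364c172d56a542614181a2407ce983664b96280488f1a2c4870a10100

def T1 : ℕ := 0x8d0a3bd86f9bc55ed96b062cd4aa6b011b8407d09e5674e223690d197e6133b7251a1325108bc1f047101a3170b50944b210e83ac0c5c2a708581822a04500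

def T2 : ℕ := 0x8ea63206675fad229a2b5890e14160ac5997ae540980f993c76b9d386e1db1b3ed0a170ac57a258a82274a592234234f1c0468c0f2a4c9101c305080c00181

def T3 : ℕ := 0x8f15ebb74e5c2f82b99ac56a59284e95e2286b4f373aaa01b6c6a33130f8b9528709c446461104839a0d40585a11425f88181c9066a158044c0cf99023c002

def TL (l : ℕ) : ℕ := ([T0, T1, T2, T3] : List ℕ).getD l 0

def PIB : ℕ := 0x55111515104411045441111045111111044

def PQB : ℕ := 0x8d09ebb74e5baf5eb96ac56a54a84e951a2407cf1e3a74e1b3668d193060b95285099324448901e3870d1a3058b1424488101c3860c14284080c1820204000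

def REB : ℕ := 0xb20202c8101600026e001360005a8002a41018200134000998002c400176000ba0008c0002e4000b4000b80402b80020000000000000000200024400158000a3040628004bc1009e000aa0004800009c000000011b00000000000000000414b020000000900011e0001f020230101380005c0008e00000000000100ac000000000000049800000000000000000023000000000190004e0000000013a001130004580000000000001210000000000000114000000000000000c0000000000000000204f40000000000000440000000000000095000000000000000000000000000000000000000000000000002140000000000000168000000005608148000010000000829808152020680004c01008e000220004d0002341009a000a00000001054c001500001e0202201035408292080bc000000004500000000016020a881012800000081420201f8205500827c000250000000045c0828600000000000000000000000000000000000000000000000000890002240010e000000000000000000000080c0000000000000000000000000000002180000000000000000000000000000000000000000000000000001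

def LPB : ℕ := 0x5a0ab144264480870fc1d8b60630b4144a403f46c4b41201b00040000011e32510a0c1950c02cc0515a13c000530000000020100417c521f90e22ce0c0a10000005000000029400000000274001f83fa0002689a1320000004c0000004b8000001780000000014400000128000000480000000000000000000000000240000001aa0006681c086000550bf16e2f8618ac1682780d0b80000d9068b101c040570c700000c0009c010084003a84002d451211000018518000000000000000000000000002258498000000000009800000000000000244000000000000000000000000000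

def PL : List ℕ := [146, 127]

def WL : List (List ℕ) := [[0, 0, 0, 0, 0, 0, 0],
  [2, 2, 2, 2, 2, 2, 2],
  [2, 0, 2, 0],
  [3, 0, 3, 0, 3, 0, 3, 0, 3, 0, 3, 0, 3, 0, 3, 0, 3, 0],
  [2, 0, 0, 2, 0, 0, 2, 0, 0, 2, 0, 0, 2, 0, 0, 2, 0, 0, 2, 0, 0],
  [3, 0, 0, 3, 0, 0, 3, 0, 0, 3, 0, 0, 3, 0, 0, 3, 0, 0, 3, 0, 0, 3, 0, 0, 3, 0, 0],
  [2, 2, 0, 2, 2, 0, 2, 2, 0, 2, 2, 0, 2, 2, 0, 2, 2, 0, 2, 2, 0],
  [3, 3, 0, 3, 3, 0, 3, 3, 0],
  [3, 0, 2, 0, 3, 0, 2, 0, 3, 0, 2, 0, 3, 0, 2, 0, 3, 0, 2, 0, 3, 0, 2, 0, 3, 0, 2, 0],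
  [2, 1, 2, 0, 2, 1, 2, 0, 2, 1, 2, 0, 2, 1, 2, 0, 2, 1, 2, 0, 2, 1, 2, 0, 2, 1, 2, 0],
  [3, 3, 3, 0, 3, 3, 3, 0, 3, 3, 3, 0],
  [3, 0, 2, 0, 0, 3, 0, 2, 0, 0, 3, 0, 2, 0, 0],
  [2, 0, 3, 0, 0, 2, 0, 3, 0, 0, 2, 0, 3, 0, 0],
  [3, 0, 3, 0, 0, 3, 0, 3, 0, 0],
  [3, 3, 3, 0, 0, 3, 3, 3, 0, 0],
  [2, 2, 2, 2, 0, 2, 2, 2, 2, 0, 2, 2, 2, 2, 0],
  [3, 3, 0, 3, 0, 3, 3, 0, 3, 0, 3, 3, 0, 3, 0],
  [3, 3, 3, 0, 0, 0, 3, 3, 3, 0, 0, 0, 3, 3, 3, 0, 0, 0],
  [3, 1, 1, 2, 0, 0, 3, 1, 1, 2, 0, 0, 3, 1, 1, 2, 0, 0],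
  [2, 1, 2, 0, 0, 0, 2, 1, 2, 0, 0, 0, 2, 1, 2, 0, 0, 0],
  [3, 1, 2, 0, 2, 0, 3, 1, 2, 0, 2, 0]]

def s0 : Stp := Stp.F T0 0

def s1 : Stp := Stp.B T1 0

def s2 : Stp := Stp.F T2 72

def s3 : Stp := Stp.B T3 72

def SL : List (List Stp) := [[s0, s0, s0, s0, s0, s0, s0],
  [s2, s2, s2, s2, s2, s2, s2],
  [s2, s0, s2, s0],
  [s3, s0, s3, s0, s3, s0, s3, s0, s3, s0, s3, s0, s3, s0, s3, s0, s3, s0],
  [s2, s0, s0, s2, s0, s0, s2, s0, s0, s2, s0, s0, s2, s0, s0, s2, s0, s0, s2, s0, s0],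
  [s3, s0, s0, s3, s0, s0, s3, s0, s0, s3, s0, s0, s3, s0, s0, s3, s0, s0, s3, s0, s0, s3, s0, s0, s3, s0, s0],
  [s2, s2, s0, s2, s2, s0, s2, s2, s0, s2, s2, s0, s2, s2, s0, s2, s2, s0, s2, s2, s0],
  [s3, s3, s0, s3, s3, s0, s3, s3, s0],
  [s3, s0, s2, s0, s3, s0, s2, s0, s3, s0, s2, s0, s3, s0, s2, s0, s3, s0, s2, s0, s3, s0, s2, s0, s3, s0, s2, s0],
  [s2, s1, s2, s0, s2, s1, s2, s0, s2, s1, s2, s0, s2, s1, s2, s0, s2, s1, s2, s0, s2, s1, s2, s0, s2, s1, s2, s0],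
  [s3, s3, s3, s0, s3, s3, s3, s0, s3, s3, s3, s0],
  [s3, s0, s2, s0, s0, s3, s0, s2, s0, s0, s3, s0, s2, s0, s0],
  [s2, s0, s3, s0, s0, s2, s0, s3, s0, s0, s2, s0, s3, s0, s0],
  [s3, s0, s3, s0, s0, s3, s0, s3, s0, s0],
  [s3, s3, s3, s0, s0, s3, s3, s3, s0, s0],
  [s2, s2, s2, s2, s0, s2, s2, s2, s2, s0, s2, s2, s2, s2, s0],
  [s3, s3, s0, s3, s0, s3, s3, s0, s3, s0, s3, s3, s0, s3, s0],
  [s3, s3, s3, s0, s0, s0, s3, s3, s3, s0, s0, s0, s3, s3, s3, s0, s0, s0],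
  [s3, s1, s1, s2, s0, s0, s3, s1, s1, s2, s0, s0, s3, s1, s1, s2, s0, s0],
  [s2, s1, s2, s0, s0, s0, s2, s1, s2, s0, s0, s0, s2, s1, s2, s0, s0, s0],
  [s3, s1, s2, s0, s2, s0, s3, s1, s2, s0, s2, s0]]

def nr (i : ℕ) : ℕ × ℕ := ([(7, 0), (7, 1)] : List (ℕ × ℕ)).getD i (0, 0)

def Q : DatQ where
  n := 72
  k := 2
  J := 21
  p := 3
  m := 3
  d := 2
  wb := 7
  mkT := 127
  b0 := 7
  mk0 := 127
  b := 7
  mb := 127
  LM := 28
  TL := TL
  pi := gt PIB 2 3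
  pq := gt PQB 7 127
  W j := WL.getD j []
  S j := SL.getD j []
  RE := gt REB 21 2097151
  lp := gt LPB 11 2047
  par t := PL.getD t 0
  Zl := [144, 145]

def gl : List (ℕ × ℕ × List (ℕ × ℕ)) := []

def CL : List (List (ℕ × ℕ) × List (ℕ × ℕ)) := [([(2, 937)], []), ([(2, 221)], [])]

def C (t : ℕ) : List (ℕ × ℕ) × List (ℕ × ℕ) := CL.getD t ([], [])

set_option maxRecDepth 1000000

theorem tab1_ok : Q.toDat.tab1 = true := by decide +kernel

theorem tab2_ok : Q.toDat.tab2 = true := by decide +kernel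

theorem tab3_ok : Q.toDat.tab3 = true := by decide +kernel

theorem w_ok : Q.toDat.wOk = true := by decide +kernel

theorem s_ok : Q.sOk = true := by decide +kernel

theorem p_ok : Q.pOk = true := by decide +kernel

theorem nr_ok : Q.toDat.nrOk nr = true := by decide +kernel

theorem zl_ok : Q.toDat.zlOk nr = true := by decide +kernel

theorem gen_ok : Q.toDat.genOk gl = true := by decide +kernel

theorem par_ok : Q.toDat.parOk gl C = true := by decide +kernel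

theorem chk_0 : alln (fun x => Q.chk (Nat.add 0 x)) 165 = true := by decide +kernel

theorem chkQ : ∀ x < Q.toDat.N, Q.chk x = true := by
  intro x hx
  have hx : x < 165 := hx

  have h := alln_iff.1 chk_0 (x - 0) (by omega)
  rwa [show Nat.add 0 (x - 0) = x from by show 0 + (x - 0) = x; omega] at h
theorem chk_ok : ∀ x < Q.toDat.N, Q.toDat.chk x = true :=
  DatQ.chk_of p_ok s_ok w_ok (fun l hl a ha => Sol.blt_iff.1 (alln_iff.1 (alln_iff.1 tab1_ok l hl) a ha)) chkQ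




end Cfsg.Agent.Lib.H58SM.Sp62H3
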