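import Cfsg.Agent.Lib.CovJ

/-!
The action of Sp6(2) on 28 quadratic forms (lead)
-/

set_option autoImplicit false

namespace Cfsg.Agent.Lib.CovSp62.Q28

open Cfsg.Agent.Lib.H58SM Cfsg.Agent.Lib.Cov

/-- images of vectors -/
def GV0 : ℕ := 0xfc442b56ee81f464a95ece037e4c0bd4e6a1766c89dcc623727cc8d8d6627a5c4ad0f6e0f074e85ade42f8546a52fec0
def GV1 : ℕ := 0x9442295b7edab8f0e277cc11164a09d976fa3af8c2f5c431535e589c62ab7fec93b0d060d156781e6a8bfde4b332d840
/-- tables of the action on 28 points -/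
def T0 : ℕ := 0xdc9abb6b23a4317ab9332c5e03b14831041
def T1 : ℕ := 0xddab185df3669524bb26c15a438d62a0408
def T2 : ℕ := 0xa9013de34144737b1a8a93e0c7356939462
def T3 : ℕ := 0xbd63683f6dc2e4951cc82b0931b85a08299
def TL (l : ℕ) : ℕ := ([T0, T1, T2, T3] : List ℕ).getD l 0
def GV (i x : ℕ) : ℕ := gt (([GV0, GV1] : List ℕ).getD i 0) 6 63 x
/-- the quadratic forms -/
def CT : ℕ := 0xf5ac396ffaa33665af069c355ff66cc3c69f0a53366ffaaa5f096c3aaff99cc3399ff553c96f05a3c690f5acc99ffaa0fa53c96ff55cc66ff553399f05a3c96c396f0a5cc99ffaa6633aaff693ca5f0aaff99cc5a0f693c55ff66cca50f963c3366ffaac3960f5affaacc99f0a5c3965a0f693caaff99cca50f963c55ff66ccf05ac369ff55cc66f0a53c69ffaa336655ff99335af0963c993355ff963c5af066cc55ff69c35af0aaff6633a5f0693c99ccaaff96c3a5f0cc66ff55c369f05acc99ffaa3c690f5aff55cc660fa53c96ffaa33660f5ac396c3960f5a3366ffaa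
def CTf (a : ℕ) : ℕ := gt CT 64 18446744073709551615 a
def WT : List ℕ := [0, 0, 3, 0, 0, 3, 0, 0, 3, 0, 0, 3, 0, 0, 3]
def SW : List (Fin 28 × Fin 28) := [(1, 21), (2, 27), (4, 25), (6, 26), (9, 24), (19, 23)]

def Dq : Dat where
  n := 28
  k := 2
  J := 0
  p := 2
  m := 2
  d := 0
  T l a := gt (TL l) 5 31 a
  pi := gt 0xe556aac 1 1
  pq := gt 0xbd63183ded62d4949cc62948418c4208000 5 31
  W _ := []
  rk _ := 0
  lp _ := 0
  E _ _ := 0
  par _ := 0
  Zl := []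

theorem tab1_ok : Dq.tab1 = true := by decide +kernel
theorem tab2_ok : Dq.tab2 = true := by decide +kernel
theorem tab3_ok : Dq.tab3 = true := by decide +kernel
theorem fwd_ok : fwdCol 28 2 64 Dq.T GV CTf 1 1 = true := by decide +kernel

end Cfsg.Agent.Lib.CovSp62.Q28
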