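import Cfsg.Agent.Lib.SSF2Loc

/-!
# Solvable signalizer functors for `p = 2`: the minimal counterexample, basic facts (helper46)
-/

set_option autoImplicit false
set_option linter.unusedSectionVars false

namespace Cfsg.Agent.Lib.SSF2

open Subgroup Cfsg
open Cfsg.Agent.Lib.LocBase (pCoreOf_le isPGroup_pCoreOf le_normalizer_pCoreOf normalizer_le_normalizer_pCoreOf
  commutator_le_left_of_le commutator_le_right_of_le le_normalizer_inf le_normalizer_centralizer le_normalizer_sup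
  le_pCoreOf le_normalizer_commutator)
open Cfsg.Agent.Lib.SigCon (oOf oOf_le le_oOf coprime_card_oOf le_normalizer_oOf)
open Cfsg.Agent.Lib.BG08 (fittingOf_le inf_centralizer_fittingOf_le le_centralizer_of_inf_eq_bot
  inf_eq_bot_of_isPGroup pCoreOf_le_centralizer_pCoreOf le_pCoreOf_of_le_fittingOf le_centralizer_fittingOf
  fittingOf_le_of_forall pCoreOf_le_fittingOf le_normalizer_fittingOf)
open Cfsg.Agent.Lib.Signalizer Cfsg.Agent.Lib.CoprimeHyper
open scoped commutatorElement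

universe u

variable {G : Type u} [Group G] [Finite G] {A : Subgroup G} {θ : G → Subgroup G}

/-- a minimal counterexample: every smaller functor is complete, and so are the quotient functors -/
structure MinCE (A : Subgroup G) (θ : G → Subgroup G) : Prop where
  elem : IsElementaryAbelian 2 A
  card : Nat.card A = 8
  func : IsSolvableSignalizerFunctor 2 A θ
  sub : ∀ θ' : G → Subgroup G, IsSolvableSignalizerFunctor 2 A θ' → (∀ a ∈ A, a ≠ 1 → θ' a ≤ θ a) →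
    (∃ a ∈ A, a ≠ 1 ∧ θ' a ≠ θ a) → ∃ W ∈ signalizerFamily 2 A θ', ∀ a ∈ A, a ≠ 1 → θ' a ≤ W
  quot : ∀ X ∈ signalizerFamily 2 A θ, X ≠ ⊥ → ∃ a ∈ A, a ≠ 1 ∧ ¬ θ a ≤ normalizer (X : Set G)
  ne : ∃ a ∈ A, a ≠ 1 ∧ θ a ≠ ⊥

theorem fact2 : Fact (Nat.Prime 2) := ⟨Nat.prime_two⟩

attribute [local instance] fact2

theorem odd_of_not_dvd {n : ℕ} (h : ¬ 2 ∣ n) : Odd n := by
  rwa [← Nat.not_even_iff_odd, even_iff_two_dvd]

theorem fam_odd {X : Subgroup G} (hX : X ∈ signalizerFamily 2 A θ) : Odd (Nat.card X) :=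
  odd_of_not_dvd hX.2.1

/-- generation: `X = ⟨C_X(b) : b ∈ B#⟩` for `|B| > 2` -/
theorem gen {B X V : Subgroup G} (hB : IsElementaryAbelian 2 B) (hB2 : 2 < Nat.card B)
    (hX : ¬ 2 ∣ Nat.card X) (hBX : B ≤ normalizer (X : Set G))
    (h : ∀ b ∈ B, b ≠ 1 → X ⊓ centralizer ({b} : Set G) ≤ V) : X ≤ V := by
  apply le_of_hyper hB hX hBX
  intro C hC hCi
  have hC1 : C ≠ ⊥ := by
    rintro rfl
    rw [relIndex_bot_left] at hCi
    omega
  obtain ⟨b, hb, hb1⟩ : ∃ b ∈ C, b ≠ 1 := by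
    by_contra hcon
    push Not at hcon
    exact hC1 ((Subgroup.eq_bot_iff_forall C).mpr hcon)
  refine le_trans (inf_le_inf_left _ (centralizer_le ?_)) (h b (hC hb) hb1)
  intro x hx
  rw [Set.mem_singleton_iff] at hx
  rw [hx]; exact hb

/-- the largest member normalizing `X` -/
def NT (A : Subgroup G) (θ : G → Subgroup G) (X : Subgroup G) : Subgroup G :=
  ⨆ a : {a : G // a ∈ A ∧ a ≠ 1}, (θ (a : G) ⊓ normalizer (X : Set G))

/-- the maximal members containing `D` -/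
structure MM (A : Subgroup G) (θ : G → Subgroup G) (M : Subgroup G) : Prop where
  mem : M ∈ signalizerFamily 2 A θ
  max : ∀ N ∈ signalizerFamily 2 A θ, M ≤ N → N = M
  D_le : signalizerInf A θ ≤ M

theorem exists_MM_ge (hA : IsElementaryAbelian 2 A) (hA1 : A ≠ ⊥) (hθ : IsSolvableSignalizerFunctor 2 A θ) {X : Subgroup G}
    (hX : X ∈ signalizerFamily 2 A θ) (hD : signalizerInf A θ ≤ normalizer (X : Set G)) :
    ∃ M, MM A θ M ∧ X ≤ M := by
  have h1 : X ⊔ signalizerInf A θ ∈ signalizerFamily 2 A θ :=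
    sup_mem hA hθ hX (signalizerInf_mem hθ le_rfl hA1) hD
  obtain ⟨M, hM⟩ := Set.Finite.exists_maximal (Set.toFinite
    {R : Subgroup G | R ∈ signalizerFamily 2 A θ ∧ X ⊔ signalizerInf A θ ≤ R})
    ⟨_, h1, le_rfl⟩
  obtain ⟨h2, h3⟩ := hM.prop
  refine ⟨M, ⟨h2, ?_, le_sup_right.trans h3⟩, le_sup_left.trans h3⟩
  intro N hN hMN
  exact le_antisymm (hM.le_of_ge ⟨hN, h3.trans hMN⟩ hMN) hMN

namespace MinCE

variable (h : MinCE A θ)

include h

theorem A_ne : A ≠ ⊥ := by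
  rintro rfl
  have := h.card
  rw [Subgroup.card_bot] at this
  omega

theorem card3 : 2 ^ 3 ≤ Nat.card A := by rw [h.card]; norm_num

theorem sq {a : G} (ha : a ∈ A) : a * a = 1 := by
  have := h.elem.2 a ha
  rwa [pow_two] at this

theorem comm {a b : G} (ha : a ∈ A) (hb : b ∈ A) : a * b = b * a := elemAb_comm h.elem ha hb

theorem fam_gen {X V : Subgroup G} (hX : X ∈ signalizerFamily 2 A θ)
    (hV : ∀ a ∈ A, a ≠ 1 → X ⊓ θ a ≤ V) : X ≤ V := by
  refine gen h.elem (by rw [h.card]; norm_num) hX.2.1 (fam_normalizer hX) ?_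
  intro a ha ha1
  exact (le_inf inf_le_left (hX.2.2.2 a ha ha1)).trans (hV a ha ha1)

theorem exists_ge {X : Subgroup G} (hX : X ∈ signalizerFamily 2 A θ)
    (hD : signalizerInf A θ ≤ normalizer (X : Set G)) : ∃ M, MM A θ M ∧ X ≤ M :=
  exists_MM_ge h.elem h.A_ne h.func hX hD

theorem not_all_le {W : Subgroup G} (hW : W ∈ signalizerFamily 2 A θ)
    (hall : ∀ a ∈ A, a ≠ 1 → θ a ≤ W) : False := by
  have hW1 : W ≠ ⊥ := by
    rintro rfl
    obtain ⟨a, ha, ha1, hne⟩ := h.ne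
    exact hne (le_bot_iff.1 (hall a ha ha1))
  obtain ⟨a, ha, ha1, hn⟩ := h.quot W hW hW1
  exact hn ((hall a ha ha1).trans le_normalizer)

theorem NT_functor {X : Subgroup G} (hX : X ∈ signalizerFamily 2 A θ) :
    IsSolvableSignalizerFunctor 2 A (fun a => θ a ⊓ normalizer (X : Set G)) := by
  have hθ := h.func
  refine ⟨⟨?_, ?_, ?_, ?_⟩, ?_⟩
  · intro a ha ha1
    exact inf_le_left.trans (hθ.1.1 a ha ha1)
  · intro a ha ha1 hd
    exact hθ.1.2.1 a ha ha1 (hd.trans (Subgroup.card_dvd_of_le inf_le_left))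
  · intro a ha ha1 b hb x hx
    obtain ⟨hx1, hx2⟩ := mem_inf.1 hx
    have hbX := fam_normalizer hX hb
    exact mem_inf.2 ⟨hθ.1.2.2.1 a ha ha1 b hb x hx1, mul_mem (mul_mem hbX hx2) (inv_mem hbX)⟩
  · intro a ha ha1 b hb hb1
    exact le_inf ((inf_le_inf_right _ inf_le_left).trans (hθ.1.2.2.2 a ha ha1 b hb hb1))
      (inf_le_left.trans inf_le_right)
  · intro a ha ha1
    exact SubgroupTools.isSolvable_of_le inf_le_left (hθ.2 a ha ha1)

theorem NT_eq {X : Subgroup G} (hX : X ∈ signalizerFamily 2 A θ) (hX1 : X ≠ ⊥) :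
    NT A θ X ∈ signalizerFamily 2 A (fun a => θ a ⊓ normalizer (X : Set G)) := by
  obtain ⟨a, ha, ha1, hn⟩ := h.quot X hX hX1
  obtain ⟨W, hW, hWa⟩ := h.sub (fun a => θ a ⊓ normalizer (X : Set G)) (h.NT_functor hX)
    (fun a _ _ => inf_le_left) ⟨a, ha, ha1, fun heq => hn (by rw [← heq]; exact inf_le_right)⟩
  have h1 : NT A θ X = W := by
    apply le_antisymm
    · exact iSup_le fun ⟨b, hb, hb1⟩ => hWa b hb hb1
    · refine gen h.elem (by rw [h.card]; norm_num) hW.2.1 (fam_normalizer hW) ?_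
      intro b hb hb1
      exact (hW.2.2.2 b hb hb1).trans
        (le_iSup (fun a : {a : G // a ∈ A ∧ a ≠ 1} => (θ (a : G) ⊓ normalizer (X : Set G))) ⟨b, hb, hb1⟩)
  rw [h1]; exact hW

theorem NT_mem {X : Subgroup G} (hX : X ∈ signalizerFamily 2 A θ) (hX1 : X ≠ ⊥) :
    NT A θ X ∈ signalizerFamily 2 A θ := by
  have h1 := h.NT_eq hX hX1
  exact ⟨h1.1, h1.2.1, h1.2.2.1, fun a ha ha1 => (h1.2.2.2 a ha ha1).trans inf_le_left⟩

omit h in
theorem NT_le_normalizer (X : Subgroup G) : NT A θ X ≤ normalizer (X : Set G) :=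
  iSup_le fun _ => inf_le_right

theorem le_NT {X Y : Subgroup G} (hY : Y ∈ signalizerFamily 2 A θ) (hYX : Y ≤ normalizer (X : Set G)) :
    Y ≤ NT A θ X := by
  apply h.fam_gen hY
  intro a ha ha1
  exact (le_inf inf_le_right (inf_le_left.trans hYX)).trans
    (le_iSup (fun a : {a : G // a ∈ A ∧ a ≠ 1} => (θ (a : G) ⊓ normalizer (X : Set G))) ⟨a, ha, ha1⟩)

omit h in
theorem theta_inf_le_NT {X : Subgroup G} {a : G} (ha : a ∈ A) (ha1 : a ≠ 1) :
    θ a ⊓ normalizer (X : Set G) ≤ NT A θ X :=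
  le_iSup (fun a : {a : G // a ∈ A ∧ a ≠ 1} => (θ (a : G) ⊓ normalizer (X : Set G))) ⟨a, ha, ha1⟩

theorem D_mem : signalizerInf A θ ∈ signalizerFamily 2 A θ := signalizerInf_mem h.func le_rfl h.A_ne

/-- members normalizing a nontrivial normal subgroup of `M ∈ MM` lie in `M`. -/
theorem le_of_normalizer {M : Subgroup G} (hM : MM A θ M) {X : Subgroup G} (hX : X ∈ signalizerFamily 2 A θ)
    (hX1 : X ≠ ⊥) (hMX : M ≤ normalizer (X : Set G)) {Y : Subgroup G} (hY : Y ∈ signalizerFamily 2 A θ)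
    (hYX : Y ≤ normalizer (X : Set G)) : Y ≤ M := by
  have h1 := hM.max _ (h.NT_mem hX hX1) (h.le_NT hM.mem hMX)
  rw [← h1]
  exact h.le_NT hY hYX

omit h in
theorem pCoreOf_mem {M : Subgroup G} (hM : M ∈ signalizerFamily 2 A θ) (t : ℕ) :
    pCoreOf t M ∈ signalizerFamily 2 A θ :=
  mem_of_le hM (pCoreOf_le M) ((fam_normalizer hM).trans (normalizer_le_normalizer_pCoreOf t M))

theorem le_of_normalizer_pCoreOf {M : Subgroup G} (hM : MM A θ M) {t : ℕ} (ht : pCoreOf t M ≠ ⊥)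
    {Y : Subgroup G} (hY : Y ∈ signalizerFamily 2 A θ) (hYX : Y ≤ normalizer (pCoreOf t M : Set G)) : Y ≤ M :=
  h.le_of_normalizer hM (pCoreOf_mem hM.mem t) ht (le_normalizer_pCoreOf t M) hY hYX

theorem MM_ne_bot {M : Subgroup G} (hM : MM A θ M) : M ≠ ⊥ := by
  rintro rfl
  obtain ⟨a, ha, ha1, hne⟩ := h.ne
  exact hne (hM.max _ (theta_mem h.func ha ha1) bot_le)

theorem exists_pCoreOf_ne {M : Subgroup G} (hM : MM A θ M) : ∃ t : ℕ, t.Prime ∧ pCoreOf t M ≠ ⊥ := by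
  by_contra hcon
  push Not at hcon
  have h1 : fittingOf M = ⊥ := by
    rw [eq_bot_iff]
    exact fittingOf_le_of_forall fun t ht => (hcon t ht).le
  have h2 := inf_centralizer_fittingOf_le hM.mem.1
  rw [h1] at h2
  apply h.MM_ne_bot hM
  rw [eq_bot_iff]
  refine le_trans (le_inf le_rfl ?_) h2
  intro x _
  rw [mem_centralizer_iff]
  intro y hy
  rw [show y = 1 from hy]; simp

theorem fam_pCoreOf_bot_of_two {M : Subgroup G} (hM : M ∈ signalizerFamily 2 A θ) : pCoreOf 2 M = ⊥ :=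
  eq_bot_of_isPGroup (pCoreOf_mem hM 2) (isPGroup_pCoreOf 2 M)

/-! ### the subgroups `N_c` -/

/-- `[θ b, c]` is invariant under `A` -/
theorem A_le_normalizer_comm {b c : G} (hb : b ∈ A) (hb1 : b ≠ 1) (hc : c ∈ A) :
    A ≤ normalizer ((⁅θ b, zpowers c⁆ : Subgroup G) : Set G) := by
  apply le_normalizer_commutator (theta_normalizer h.func.1 hb hb1)
  refine le_trans ?_ (centralizer_le_normalizer _)
  intro a ha
  rw [mem_centralizer_iff]
  intro y hy
  obtain ⟨n, rfl⟩ := mem_zpowers_iff.1 hy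
  exact h.comm (zpow_mem hc n) ha

/-- the subgroup `N_c` -/
def Nc (A : Subgroup G) (θ : G → Subgroup G) (c : G) : Subgroup G :=
  ⨆ b : {b : G // b ∈ A ∧ b ≠ 1}, ⁅θ (b : G), zpowers c⁆

omit h in
theorem le_Nc {b c : G} (hb : b ∈ A) (hb1 : b ≠ 1) : ⁅θ b, zpowers c⁆ ≤ Nc A θ c :=
  le_iSup (fun b : {b : G // b ∈ A ∧ b ≠ 1} => ⁅θ (b : G), zpowers c⁆) ⟨b, hb, hb1⟩

/-- `N_c ≤ ⟨[θ(y), c], [θ(cy), c]⟩` -/
theorem Nc_le_of_line {c y : G} (hc : c ∈ A) (hy : y ∈ A) (hy1 : y ≠ 1) (hcy : c * y ≠ 1)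
    {K : Subgroup G} (h1 : ⁅θ y, zpowers c⁆ ≤ K) (h2 : ⁅θ (c * y), zpowers c⁆ ≤ K) : Nc A θ c ≤ K := by
  apply iSup_le
  rintro ⟨b, hb, hb1⟩
  have hmem := theta_mem h.func hb hb1
  have hn := fam_normalizer hmem
  refine commutator_le_of_line (fam_odd hmem) (h.sq hc) (h.sq hy) (h.comm hc hy) (hn hc) (hn hy) ?_ ?_
  · exact (commutator_mono (hmem.2.2.2 y hy hy1) le_rfl).trans h1
  · exact (commutator_mono (hmem.2.2.2 (c * y) (mul_mem hc hy) hcy) le_rfl).trans h2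

end MinCE

end Cfsg.Agent.Lib.SSF2
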