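import Cfsg.Agent.Lib.SSF2Pts

/-!
# Solvable signalizer functors for `p = 2`: centralizers of Fitting subgroups, pairs of maximal members (helper46)
-/

set_option autoImplicit false
set_option linter.unusedSectionVars false

namespace Cfsg.Agent.Lib.SSF2

open Subgroup Cfsg
open Cfsg.Agent.Lib.LocBase (pCoreOf_le isPGroup_pCoreOf le_normalizer_pCoreOf normalizer_le_normalizer_pCoreOf
  commutator_le_left_of_le commutator_le_right_of_le le_normalizer_inf le_normalizer_centralizer le_normalizer_sup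
  le_pCoreOf le_normalizer_commutator)
open Cfsg.Agent.Lib.SigCon (oOf oOf_le le_oOf coprime_card_oOf le_normalizer_oOf)
open Cfsg.Agent.Lib.BG08 (fittingOf_le inf_centralizer_fittingOf_le le_centralizer_of_inf_eq_bot
  inf_eq_bot_of_isPGroup pCoreOf_le_centralizer_pCoreOf le_pCoreOf_of_le_fittingOf le_centralizer_fittingOf
  fittingOf_le_of_forall pCoreOf_le_fittingOf le_normalizer_fittingOf)
open Cfsg.Agent.Lib.Signalizer Cfsg.Agent.Lib.CoprimeHyper
open scoped commutatorElement Pointwise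

universe u

variable {G : Type u} [Group G] [Finite G] {A : Subgroup G} {θ : G → Subgroup G}

attribute [local instance] fact2

theorem normalizer_le_normalizer_oOf (q : ℕ) (K : Subgroup G) :
    normalizer (K : Set G) ≤ normalizer (oOf q K : Set G) := by
  intro g hg
  apply LocBase.mem_normalizer_of_map_conj_le
  have hK := LocBase.map_conj_eq_of_mem hg
  apply le_oOf
  · calc _ ≤ K.map (MulAut.conj g).toMonoidHom := Subgroup.map_mono (oOf_le K)
      _ = K := hK
  · have h1 : (K.map (MulAut.conj g).toMonoidHom) ≤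
        (normalizer (oOf q K : Set G)).map (MulAut.conj g).toMonoidHom :=
      Subgroup.map_mono (le_normalizer_oOf K)
    rw [hK, LocBase.map_conj_normalizer] at h1
    exact h1
  · rw [LocBase.card_map_conj]
    exact coprime_card_oOf K

namespace MinCE

variable (h : MinCE A θ)

include h

omit h in
theorem oOf_mem {M : Subgroup G} (hM : M ∈ signalizerFamily 2 A θ) (q : ℕ) :
    oOf q M ∈ signalizerFamily 2 A θ :=
  mem_of_le hM (oOf_le M) ((fam_normalizer hM).trans (normalizer_le_normalizer_oOf q M))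

/-- prime divisors of the orders of members are in `π` -/
theorem dvd_theta {q : ℕ} [hq : Fact q.Prime] {X : Subgroup G} (hX : X ∈ signalizerFamily 2 A θ)
    (hd : q ∣ Nat.card X) : ∃ a ∈ A, a ≠ 1 ∧ q ∣ Nat.card (θ a) := by
  obtain ⟨P, hPX, hPq, hPi, hPA⟩ := CoprimeAction.exists_invariant_sylow (fam_normalizer hX)
    (elemAb_coprime h.elem hX.2.1) (Or.inl (elemAb_solvable h.elem)) q
  have hP : P ∈ signalizerFamily 2 A θ := mem_of_le hX hPX hPA
  have hP1 : P ≠ ⊥ := by
    rintro rfl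
    rw [relIndex_bot_left] at hPi
    exact hPi hd
  by_contra hcon
  push Not at hcon
  apply hP1
  rw [eq_bot_iff]
  apply h.fam_gen hP
  intro a ha ha1
  have h1 : IsPGroup q ↥(P ⊓ θ a) := hPq.to_le inf_le_left
  rcases h1.card_eq_or_dvd with h2 | h2
  · exact (Subgroup.card_eq_one.1 h2).le
  · exact absurd (h2.trans (Subgroup.card_dvd_of_le inf_le_right)) (hcon a ha ha1)

theorem dvd_theta_of_pCoreOf {q : ℕ} [hq : Fact q.Prime] {M : Subgroup G} (hM : M ∈ signalizerFamily 2 A θ)
    (hne : pCoreOf q M ≠ ⊥) : ∃ a ∈ A, a ≠ 1 ∧ q ∣ Nat.card (θ a) := by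
  rcases (isPGroup_pCoreOf q M).card_eq_or_dvd with h1 | h1
  · exact absurd (Subgroup.card_eq_one.1 h1) hne
  · exact h.dvd_theta (pCoreOf_mem hM q) h1

omit h in
theorem le_centralizer_singleton_of_zpowers {X : Subgroup G} {z : G} :
    zpowers z ≤ centralizer (X : Set G) ↔ X ≤ centralizer ({z} : Set G) := by
  rw [le_centralizer_iff, centralizer_singleton_eq]

/-- (a) no `z ∈ A#` centralizes a maximal `q`-member, `q ∈ π` -/
theorem not_centralizes_max {z : G} (hz : z ∈ A) (hz1 : z ≠ 1) {q : ℕ} [hq : Fact q.Prime]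
    (hqπ : ∃ a ∈ A, a ≠ 1 ∧ q ∣ Nat.card (θ a)) {Q : Subgroup G} (hQ : IsMaxMember 2 A θ q Q)
    (hzQ : Q ≤ centralizer ({z} : Set G)) : False := by
  obtain ⟨M, hM, hMY⟩ := h.exists_Gv hq.out hqπ
  apply h.not_comm_le hz hz1 hM.mem
  intro b hb hb1
  have hmem := theta_mem h.func hb hb1
  have hzb : zpowers z ≤ normalizer (θ b : Set G) := zpowers_le.2 (fam_normalizer hmem hz)
  have hcop : (Nat.card (zpowers z)).Coprime (Nat.card (θ b)) :=
    elemAb_coprime (elemAb_zpowers (h.elem.2 z hz)) hmem.2.1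
  have hq2 : q ≠ 2 := by
    rintro rfl
    obtain ⟨a, ha, ha1, hd⟩ := hqπ
    exact h.func.1.2.1 a ha ha1 hd
  have hzq : (Nat.card (zpowers z)).Coprime q :=
    isPGroup_coprime (r := 2) hq2.symm (elemAb_isPGroup (elemAb_zpowers (h.elem.2 z hz)))
  obtain ⟨c, hc, hci⟩ := sylow_of_member h.elem h.card3 h.func hQ hmem
  have h1 : ⁅θ b, zpowers z⁆ ≤ oOf q (θ b) := by
    refine commutator_le_oOf_of_sylow hmem.1 (elemAb_solvable (elemAb_zpowers (h.elem.2 z hz))) hzb hcop hzq
      (S := MulAut.conj c • Q ⊓ θ b) inf_le_right ((hQ.2.1.map _).to_le inf_le_left) hci ?_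
    rw [le_centralizer_singleton_of_zpowers]
    intro x hx
    have hx1 := SubgroupTools.mem_conj_smul.1 (mem_inf.1 hx).1
    have hx2 := mem_centralizer_singleton_iff.1 (hzQ hx1)
    have hcz : z * c = c * z :=
      mem_centralizer_iff.mp (signalizerInf_le_centralizer h.func.1 le_rfl hc) z hz
    rw [mem_centralizer_singleton_iff]
    have hcz' : c⁻¹ * z = z * c⁻¹ := by
      rw [inv_mul_eq_iff_eq_mul, ← mul_assoc, ← hcz]; group
    calc x * z = c * (c⁻¹ * x * c) * (c⁻¹ * z) := by group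
      _ = c * ((c⁻¹ * x * c) * z) * c⁻¹ := by rw [hcz']; group
      _ = c * (z * (c⁻¹ * x * c)) * c⁻¹ := by rw [hx2]
      _ = (c * z) * (c⁻¹ * x) := by group
      _ = (z * c) * (c⁻¹ * x) := by rw [hcz]
      _ = z * x := by group
  refine h1.trans (hMY _ (oOf_mem hmem q) ?_ (coprime_card_oOf _))
  exact (signalizerInf_le hb hb1).trans (le_normalizer_oOf _)

/-- (a') no `z ∈ A#` centralizes `M ∈ MM`. -/
theorem not_centralizes_MM {z : G} (hz : z ∈ A) (hz1 : z ≠ 1) {M : Subgroup G} (hM : MM A θ M)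
    (hzM : M ≤ centralizer ({z} : Set G)) : False := by
  obtain ⟨q, hq, hqM⟩ := h.exists_pCoreOf_ne hM
  have : Fact q.Prime := ⟨hq⟩
  obtain ⟨Q, hQ, hMQ⟩ := exists_isMaxMember_ge (pCoreOf_mem hM.mem q) (isPGroup_pCoreOf q M)
  have hqπ := h.dvd_theta_of_pCoreOf hM.mem hqM
  set C := Q ⊓ centralizer ({z} : Set G) with hC
  have hCQ : C ≠ Q := fun heq => h.not_centralizes_max hz hz1 hqπ hQ (by rw [← heq]; exact inf_le_right)
  have hAc : A ≤ centralizer ({z} : Set G) := by
    intro x hx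
    rw [mem_centralizer_singleton_iff]
    exact h.comm hx hz
  have hCA : A ≤ normalizer (C : Set G) :=
    le_normalizer_inf (fam_normalizer hQ.1) (hAc.trans le_normalizer)
  set N := Q ⊓ normalizer (C : Set G) with hN
  have hNA : A ≤ normalizer (N : Set G) :=
    le_normalizer_inf (fam_normalizer hQ.1) (hCA.trans le_normalizer)
  have hzN : zpowers z ≤ normalizer (N : Set G) := zpowers_le.2 (hNA hz)
  have hNm : N ∈ signalizerFamily 2 A θ := mem_of_le hQ.1 inf_le_left hNA
  set Y := ⁅N, zpowers z⁆ with hY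
  have hYN : Y ≤ N := commutator_le_left_of_le hzN
  have hYA : A ≤ normalizer (Y : Set G) := by
    apply le_normalizer_commutator hNA
    exact le_normalizer_zpowers_of_centralizer hAc
  have hYm : Y ∈ signalizerFamily 2 A θ := mem_of_le hNm hYN hYA
  have hcop : (Nat.card (zpowers z)).Coprime (Nat.card N) :=
    elemAb_coprime (elemAb_zpowers (h.elem.2 z hz)) hNm.2.1
  -- `Y ≠ 1`
  have hY1 : Y ≠ ⊥ := by
    intro h0
    rw [hY, commutator_eq_bot_iff_le_centralizer, ← centralizer_singleton_eq] at h0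
    have h1 : N ≤ C := le_inf inf_le_left h0
    have hnil : Group.IsNilpotent ↥Q := hQ.2.1.isNilpotent
    have hlt : C.subgroupOf Q < ⊤ := by
      rw [lt_top_iff_ne_top]
      intro h2
      rw [subgroupOf_eq_top] at h2
      exact hCQ (le_antisymm inf_le_left h2)
    have h2 := Group.normalizerCondition_of_isNilpotent (G := ↥Q) (C.subgroupOf Q) hlt
    obtain ⟨x, hx, hxC⟩ := SetLike.exists_of_lt h2
    rw [← subgroupOf_normalizer_eq (inf_le_left : C ≤ Q)] at hx
    exact hxC (h1 ⟨x.2, hx⟩)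
  -- `Y` centralizes `C`
  have hYC : Y ≤ centralizer (C : Set G) := by
    rw [← commutator_eq_bot_iff_le_centralizer, hY, commutator_comm N]
    apply CoprimeAction2.commutator_commutator_eq_bot (X := N) (Y := C) (Z := zpowers z)
    · rw [commutator_eq_bot_iff_le_centralizer, ← centralizer_singleton_eq]
      exact (commutator_le_right_of_le (inf_le_right : N ≤ normalizer (C : Set G))).trans inf_le_right
    · have : ⁅C, zpowers z⁆ = ⊥ := by
        rw [commutator_eq_bot_iff_le_centralizer, ← centralizer_singleton_eq]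
        exact inf_le_right
      rw [this, commutator_bot_left]
  have hYM : Y ≤ M := by
    apply h.le_of_normalizer_pCoreOf hM hqM hYm
    refine (hYC.trans (centralizer_le ?_)).trans (centralizer_le_normalizer _)
    exact le_inf hMQ ((pCoreOf_le M).trans hzM)
  apply hY1
  rw [hY]
  apply CoprimeAction2.commutator_eq_bot_of_commutator_commutator hzN hcop (Or.inr hNm.1)
  rw [commutator_eq_bot_iff_le_centralizer, ← centralizer_singleton_eq]
  exact hYM.trans hzM

/-- (a') no `z ∈ A#` centralizes `F(M)`, `M ∈ MM`. -/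
theorem not_centralizes_fitting {z : G} (hz : z ∈ A) (hz1 : z ≠ 1) {M : Subgroup G} (hM : MM A θ M)
    (hzM : fittingOf M ≤ centralizer ({z} : Set G)) : False := by
  apply h.not_centralizes_MM hz hz1 hM
  rw [← le_centralizer_singleton_of_zpowers] at hzM ⊢
  refine le_centralizer_of_fitting hM.mem.1 (zpowers_le.2 (fam_normalizer hM.mem hz)) ?_ hzM
  exact elemAb_coprime (elemAb_zpowers (h.elem.2 z hz)) hM.mem.2.1

theorem exists_tau {z : G} (hz : z ∈ A) (hz1 : z ≠ 1) {M : Subgroup G} (hM : MM A θ M) :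
    ∃ q : ℕ, q.Prime ∧ ¬ pCoreOf q M ≤ centralizer ({z} : Set G) := by
  by_contra hcon
  push Not at hcon
  exact h.not_centralizes_fitting hz hz1 hM (fittingOf_le_of_forall hcon)

/-- (T) -/
theorem pCoreOf_le_oOf {M : Subgroup G} (hM : MM A θ M) {K : Subgroup G} (hK : K ∈ signalizerFamily 2 A θ)
    {s r : ℕ} [hs : Fact s.Prime] [hr : Fact r.Prime] (hrs : r ≠ s) (hne : pCoreOf s M ≠ ⊥)
    (h1 : pCoreOf s M ≤ K) (h2 : pCoreOf r M ≤ K) : pCoreOf r M ≤ oOf s K := by
  refine le_oOf_of_centralizer hK.1 (isPGroup_pCoreOf s M) h1 h2 (pCoreOf_le_centralizer_pCoreOf hrs M) ?_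
    (isPGroup_coprime hrs (isPGroup_pCoreOf r M))
  refine le_trans ?_ (le_normalizer_pCoreOf r M)
  apply h.le_of_normalizer_pCoreOf hM hne
  · apply mem_of_le hK inf_le_left
    exact le_normalizer_inf (fam_normalizer hK)
      (le_normalizer_centralizer (fam_normalizer (pCoreOf_mem hM.mem s)))
  · exact inf_le_right.trans (centralizer_le_normalizer _)

theorem pCoreOf_centralizes {M : Subgroup G} (hM : MM A θ M) {K : Subgroup G} (hK : K ∈ signalizerFamily 2 A θ)
    {s r : ℕ} [hs : Fact s.Prime] [hr : Fact r.Prime] (hrs : r ≠ s) (hne : pCoreOf s M ≠ ⊥)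
    (h1 : pCoreOf s M ≤ K) (h2 : pCoreOf r M ≤ K) : pCoreOf s K ≤ centralizer (pCoreOf r M : Set G) :=
  (pCoreOf_le_centralizer_oOf K).trans (centralizer_le (h.pCoreOf_le_oOf hM hK hrs hne h1 h2))

theorem pCoreOf_le_of_mixed {M : Subgroup G} (hM : MM A θ M) {K : Subgroup G} (hK : K ∈ signalizerFamily 2 A θ)
    {s r : ℕ} [hs : Fact s.Prime] [hr : Fact r.Prime] (hrs : r ≠ s) (hne : pCoreOf s M ≠ ⊥)
    (hne' : pCoreOf r M ≠ ⊥) (h1 : pCoreOf s M ≤ K) (h2 : pCoreOf r M ≤ K) : pCoreOf s K ≤ M :=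
  h.le_of_normalizer_pCoreOf hM hne' (pCoreOf_mem hK s)
    ((h.pCoreOf_centralizes hM hK hrs hne h1 h2).trans (centralizer_le_normalizer _))

theorem oOf_le_oOf {M H : Subgroup G} (hM : MM A θ M) (hH : MM A θ H) (hMH : fittingOf M ≤ H)
    (hHM : fittingOf H ≤ M) {s : ℕ} [hs : Fact s.Prime] (hsM : pCoreOf s M ≠ ⊥) (hsH : pCoreOf s H ≠ ⊥) :
    oOf s M ≤ oOf s H := by
  have hsHM : pCoreOf s H ≤ M := (pCoreOf_le_fittingOf hs.out H).trans hHM
  have hsMH : pCoreOf s M ≤ H := (pCoreOf_le_fittingOf hs.out M).trans hMH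
  -- `O_s(H)` centralizes `O_{s'}(M)`
  have hcent : pCoreOf s H ≤ centralizer (oOf s M : Set G) := by
    apply le_centralizer_of_fitting (SubgroupTools.isSolvable_of_le (oOf_le M) hM.mem.1)
      (hsHM.trans (le_normalizer_oOf M)) (SigCon.coprime_of_pgroup (isPGroup_pCoreOf s H) (coprime_card_oOf M)).symm
    apply le_centralizer_fittingOf
    intro t ht
    have : Fact t.Prime := ⟨ht⟩
    have h1 : pCoreOf t (oOf s M) ≤ pCoreOf t M :=
      le_pCoreOf ((pCoreOf_le _).trans (oOf_le M))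
        ((le_normalizer_oOf M).trans (normalizer_le_normalizer_pCoreOf t _)) (isPGroup_pCoreOf t _)
    by_cases hts : t = s
    · subst hts
      have h2 : pCoreOf t (oOf t M) = ⊥ := by
        rw [eq_bot_iff, ← SigCon.disj_of_coprime (isPGroup_pCoreOf t (oOf t M)) (coprime_card_oOf M)]
        exact le_inf (pCoreOf_le _) le_rfl
      rw [h2]
      intro x _
      rw [mem_centralizer_iff]
      intro y hy
      rw [show y = 1 from hy]; simp
    · exact (h.pCoreOf_centralizes hM hH.mem hts hsM hsMH ((pCoreOf_le_fittingOf ht M).trans hMH)).trans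
        (centralizer_le h1)
  set P := pCoreOf s M ⊔ pCoreOf s H with hP
  have hPs : IsPGroup s P :=
    LocBase.isPGroup_sup (isPGroup_pCoreOf s M) (isPGroup_pCoreOf s H) (hsHM.trans (le_normalizer_pCoreOf s M))
  have hPc : oOf s M ≤ centralizer (P : Set G) := by
    rw [le_centralizer_iff]
    exact sup_le (pCoreOf_le_centralizer_oOf M) hcent
  have hPA : A ≤ normalizer (P : Set G) :=
    le_normalizer_sup (fam_normalizer (pCoreOf_mem hM.mem s)) (fam_normalizer (pCoreOf_mem hH.mem s))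
  have hle : ∀ K L : Subgroup G, K ∈ signalizerFamily 2 A θ → MM A θ L → pCoreOf s L ≠ ⊥ → pCoreOf s L ≤ P →
      K ⊓ centralizer (P : Set G) ≤ L := by
    intro K L hK hL hne hLP
    apply h.le_of_normalizer_pCoreOf hL hne
    · exact mem_of_le hK inf_le_left (le_normalizer_inf (fam_normalizer hK) (le_normalizer_centralizer hPA))
    · exact (inf_le_right.trans (centralizer_le hLP)).trans (centralizer_le_normalizer _)
  refine le_oOf_of_centralizer hH.mem.1 hPs (sup_le hsMH (pCoreOf_le H)) ?_ hPc ?_ (coprime_card_oOf M)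
  · exact (le_inf (oOf_le M) hPc).trans (hle M H hM.mem hH hsH le_sup_right)
  · exact (hle H M hH.mem hM hsM le_sup_left).trans (le_normalizer_oOf M)

/-- (c3) -/
theorem exists_new_prime {M H : Subgroup G} (hM : MM A θ M) (hH : MM A θ H) {s r : ℕ} [hs : Fact s.Prime]
    [hr : Fact r.Prime] (hrs : r ≠ s) (hsM : pCoreOf s M ≠ ⊥) (hrM : pCoreOf r M ≠ ⊥)
    (hMH : fittingOf M ≤ H) (hne : H ≠ M) : ∃ t : ℕ, t.Prime ∧ pCoreOf t H ≠ ⊥ ∧ pCoreOf t M = ⊥ := by
  by_contra hcon
  push Not at hcon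
  have hMHt : ∀ t : ℕ, t.Prime → pCoreOf t M ≤ H := fun t ht => (pCoreOf_le_fittingOf ht M).trans hMH
  have hHM : fittingOf H ≤ M := by
    apply fittingOf_le_of_forall
    intro t ht
    have : Fact t.Prime := ⟨ht⟩
    by_cases h0 : pCoreOf t H = ⊥
    · rw [h0]; exact bot_le
    · have h1 := hcon t ht h0
      by_cases hts : t = s
      · subst hts
        exact h.pCoreOf_le_of_mixed hM hH.mem hrs h1 hrM (hMHt t ht) (hMHt r hr.out)
      · exact h.pCoreOf_le_of_mixed hM hH.mem (Ne.symm hts) h1 hsM (hMHt t ht) (hMHt s hs.out)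
  have hσ : ∀ u : ℕ, u.Prime → pCoreOf u M ≠ ⊥ → pCoreOf u H ≠ ⊥ := by
    intro u hu huM huH
    have : Fact u.Prime := ⟨hu⟩
    apply huM
    rw [eq_bot_iff, ← huH]
    apply le_pCoreOf_of_centralizes hH.mem.1 (isPGroup_pCoreOf u M) (hMHt u hu)
    apply le_centralizer_fittingOf
    intro t ht
    have : Fact t.Prime := ⟨ht⟩
    by_cases h0 : pCoreOf t H = ⊥
    · rw [h0]
      intro x _
      rw [mem_centralizer_iff]
      intro y hy
      rw [show y = 1 from hy]; simp
    · have hut : u ≠ t := by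
        rintro rfl
        exact h0 huH
      rw [le_centralizer_iff]
      exact h.pCoreOf_centralizes hM hH.mem hut (hcon t ht h0) (hMHt t ht) (hMHt u hu)
  have hsH := hσ s hs.out hsM
  have h1 : oOf s M = oOf s H :=
    le_antisymm (h.oOf_le_oOf hM hH hMH hHM hsM hsH) (h.oOf_le_oOf hH hM hHM hMH hsH hsM)
  have h2 : pCoreOf r M ≤ oOf s M :=
    le_oOf (pCoreOf_le M) (le_normalizer_pCoreOf r M) (isPGroup_coprime hrs (isPGroup_pCoreOf r M))
  have h3 : oOf s M ≠ ⊥ := by
    intro h0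
    rw [h0, le_bot_iff] at h2
    exact hrM h2
  have h4 : H ≤ M := by
    apply h.le_of_normalizer hM (oOf_mem hM.mem s) h3 (le_normalizer_oOf M) hH.mem
    rw [h1]
    exact le_normalizer_oOf H
  exact hne (hH.max M hM.mem h4).symm

end MinCE

end Cfsg.Agent.Lib.SSF2
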