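import Cfsg.Agent.Lib.Signalizer2
import Cfsg.Agent.Lib.LocBase
import Cfsg.Agent.Lib.BG08a
import Cfsg.Agent.Lib.SigCon
import Cfsg.Agent.Lib.SigP
import Cfsg.Agent.Lib.CopHall
import Cfsg.Agent.Lib.ZJElem

/-!
# Solvable signalizer functors for `p = 2`: elementary facts on involutions acting on groups of odd order (helper46)
-/

set_option autoImplicit false
set_option linter.unusedSectionVars false

namespace Cfsg.Agent.Lib.SSF2

open Subgroup Cfsg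
open scoped commutatorElement

section Elem

variable {G : Type*} [Group G]

theorem sq_root {X : Subgroup G} (hX : Odd (Nat.card X)) {w : G} (hw : w ∈ X) :
    (w ^ ((Nat.card X + 1) / 2)) * (w ^ ((Nat.card X + 1) / 2)) = w := by
  obtain ⟨k, hk⟩ := hX
  have h1 : (Nat.card X + 1) / 2 = k + 1 := by omega
  rw [h1, ← pow_add]
  have h2 : k + 1 + (k + 1) = Nat.card X + 1 := by omega
  rw [h2, pow_succ]
  have h3 : w ^ Nat.card X = 1 := by
    have := pow_card_eq_one' (x := (⟨w, hw⟩ : X))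
    exact congrArg Subtype.val this
  rw [h3, one_mul]

/-- in a group of odd order a subgroup containing `w²` contains `w` -/
theorem mem_of_sq_mem {X : Subgroup G} (hX : Odd (Nat.card X)) {w : G} (hw : w ∈ X) {K : Subgroup G}
    (h : w * w ∈ K) : w ∈ K := by
  have h1 := sq_root hX hw
  rw [← (Commute.refl w).mul_pow] at h1
  rw [← h1]
  exact K.pow_mem h _

theorem eq_of_sq_eq_one {X : Subgroup G} (hX : Odd (Nat.card X)) {w : G} (hw : w ∈ X)
    (h : w * w = 1) : w = 1 := by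
  have := mem_of_sq_mem hX hw (K := ⊥) (by rw [h]; exact one_mem _)
  exact mem_bot.1 this

theorem conj_pow' (y x : G) (n : ℕ) : y * x ^ n * y⁻¹ = (y * x * y⁻¹) ^ n := (conj_pow).symm

/-- the decomposition `x = g v`, `g` fixed and `v` inverted by the involution `y` -/
theorem decomp {X : Subgroup G} (hX : Odd (Nat.card X)) {y : G} (hy : y * y = 1)
    (hyX : ∀ x ∈ X, y * x * y⁻¹ ∈ X) {x : G} (hx : x ∈ X) :
    ∃ g ∈ X, ∃ v ∈ X, x = g * v ∧ y * g * y⁻¹ = g ∧ y * v * y⁻¹ = v⁻¹ ∧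
      v = ((y * x * y⁻¹)⁻¹ * x) ^ ((Nat.card X + 1) / 2) := by
  set w := (y * x * y⁻¹)⁻¹ * x with hw
  set v := w ^ ((Nat.card X + 1) / 2) with hv
  have hyi : y⁻¹ = y := inv_eq_of_mul_eq_one_left hy
  have hwX : w ∈ X := mul_mem (inv_mem (hyX x hx)) hx
  have hvX : v ∈ X := pow_mem hwX _
  have hvv : v * v = w := sq_root hX hwX
  have hyw : y * w * y⁻¹ = w⁻¹ := by
    rw [hw]
    have h1 : y * ((y * x * y⁻¹)⁻¹ * x) * y⁻¹ = (y * y) * x⁻¹ * (y⁻¹ * x * y⁻¹) := by group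
    rw [h1, hy, one_mul, hyi]
    have h2 : ((y * x * y)⁻¹ * x)⁻¹ = x⁻¹ * (y * x * y) := by group
    rw [h2]
  have hyv : y * v * y⁻¹ = v⁻¹ := by
    rw [hv, conj_pow', hyw, inv_pow]
  refine ⟨x * v⁻¹, mul_mem hx (inv_mem hvX), v, hvX, by group, ?_, hyv, rfl⟩
  -- `y (x v⁻¹) y⁻¹ = x v⁻¹`
  have h2 : y * x * y⁻¹ = x * w⁻¹ := by rw [hw]; group
  have h3 : y * (x * v⁻¹) * y⁻¹ = (y * x * y⁻¹) * (y * v * y⁻¹)⁻¹ := by group
  rw [h3, h2, hyv, inv_inv, ← hvv]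
  group

/-- an element inverted by `c` is a product of elements inverted by `c` and fixed by `y` or `cy`. -/
theorem mem_of_line {X : Subgroup G} (hX : Odd (Nat.card X)) {c y : G} (hc : c * c = 1) (hy : y * y = 1)
    (hcy : c * y = y * c) (hyX : ∀ x ∈ X, y * x * y⁻¹ ∈ X)
    {K : Subgroup G} (h1 : ∀ g ∈ X, y * g * y⁻¹ = g → c * g * c⁻¹ = g⁻¹ → g ∈ K)
    (h2 : ∀ g ∈ X, (c * y) * g * (c * y)⁻¹ = g → c * g * c⁻¹ = g⁻¹ → g ∈ K)
    {x : G} (hx : x ∈ X) (hcx : c * x * c⁻¹ = x⁻¹) : x ∈ K := by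
  obtain ⟨g, hg, v, hv, hxgv, hyg, hyv, hvdef⟩ := decomp hX hy hyX hx
  set m := (Nat.card X + 1) / 2 with hm
  set w := (y * x * y⁻¹)⁻¹ * x with hw
  -- `c w c⁻¹ = x w⁻¹ x⁻¹`
  have hcyi : c * y⁻¹ = y⁻¹ * c := by
    have hyi : y⁻¹ = y := inv_eq_of_mul_eq_one_left hy
    rw [hyi, hcy]
  have hci : c⁻¹ = c := inv_eq_of_mul_eq_one_left hc
  have hyi : y⁻¹ = y := inv_eq_of_mul_eq_one_left hy
  have hcw : c * w * c⁻¹ = x * w⁻¹ * x⁻¹ := by
    have e1 : c * (y * x * y⁻¹) * c⁻¹ = y * x⁻¹ * y⁻¹ := by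
      have : c * (y * x * y⁻¹) * c⁻¹ = (c * y) * x * (y⁻¹ * c⁻¹) := by group
      rw [this, hcy]
      have h3 : y⁻¹ * c⁻¹ = c⁻¹ * y⁻¹ := by rw [← mul_inv_rev, hcy, mul_inv_rev]
      rw [h3]
      calc y * c * x * (c⁻¹ * y⁻¹) = y * (c * x * c⁻¹) * y⁻¹ := by group
        _ = _ := by rw [hcx]
    have e2 : c * w * c⁻¹ = (c * (y * x * y⁻¹) * c⁻¹)⁻¹ * (c * x * c⁻¹) := by rw [hw]; group
    rw [e2, e1, hcx, hw]
    group
  have hcv : c * v * c⁻¹ = x * v⁻¹ * x⁻¹ := by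
    rw [hvdef, conj_pow', hcw, ← conj_pow', inv_pow]
  have hcg : c * g * c⁻¹ = g⁻¹ := by
    have hgx : g = x * v⁻¹ := by rw [hxgv]; group
    have e : c * g * c⁻¹ = (c * x * c⁻¹) * (c * v * c⁻¹)⁻¹ := by rw [hgx]; group
    rw [e, hcv, hcx, hgx]; group
  -- the square root `h` of `g`
  set h := g ^ m with hh
  have hhX : h ∈ X := pow_mem hg _
  have hhh : h * h = g := sq_root hX hg
  have hyh : y * h * y⁻¹ = h := by rw [hh, conj_pow', hyg]
  have hch : c * h * c⁻¹ = h⁻¹ := by rw [hh, conj_pow', hcg, inv_pow]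
  have hhK : h ∈ K := h1 h hhX hyh hch
  set v' := h * v * h⁻¹ with hv'
  have hv'X : v' ∈ X := mul_mem (mul_mem hhX hv) (inv_mem hhX)
  have hcv2 : c * v * c⁻¹ = g * v⁻¹ * g⁻¹ := by
    rw [hcv, hxgv]; group
  have hcv' : c * v' * c⁻¹ = v'⁻¹ := by
    have e : c * v' * c⁻¹ = (c * h * c⁻¹) * (c * v * c⁻¹) * (c * h * c⁻¹)⁻¹ := by rw [hv']; group
    rw [e, hch, hcv2, ← hhh, hv']; group
  have hyv' : y * v' * y⁻¹ = v'⁻¹ := by
    have e : y * v' * y⁻¹ = (y * h * y⁻¹) * (y * v * y⁻¹) * (y * h * y⁻¹)⁻¹ := by rw [hv']; group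
    rw [e, hyh, hyv, hv']; group
  have hcyv' : (c * y) * v' * (c * y)⁻¹ = v' := by
    have e : (c * y) * v' * (c * y)⁻¹ = c * (y * v' * y⁻¹) * c⁻¹ := by group
    rw [e, hyv']
    have e2 : c * v'⁻¹ * c⁻¹ = (c * v' * c⁻¹)⁻¹ := by group
    rw [e2, hcv', inv_inv]
  have hv'K : v' ∈ K := h2 v' hv'X hcyv' hcv'
  have hfin : x = h * v' * h := by
    rw [hxgv, hv', ← hhh]; group

  rw [hfin]
  exact mul_mem (mul_mem hhK hv'K) hhK

/-- for an involution `b`, `[Q, ⟨b⟩]` is generated by the `[q, b]` -/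
theorem commutator_zpowers_le {b : G} (hb : b * b = 1) {Q K : Subgroup G}
    (h : ∀ q ∈ Q, ⁅q, b⁆ ∈ K) : ⁅Q, zpowers b⁆ ≤ K := by
  rw [commutator_le]
  intro q hq y hy
  obtain ⟨n, rfl⟩ := mem_zpowers_iff.mp hy
  have h2 : b ^ (2 : ℤ) = 1 := by rw [zpow_two]; exact hb
  rcases Int.even_or_odd' n with ⟨k, rfl | rfl⟩
  · rw [zpow_mul, h2, one_zpow, commutatorElement_one_right]; exact one_mem _
  · rw [zpow_add, zpow_mul, h2, one_zpow, one_mul, zpow_one]; exact h q hq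

theorem commutator_zpowers_le_iff {b : G} (hb : b * b = 1) {Q K : Subgroup G} :
    ⁅Q, zpowers b⁆ ≤ K ↔ ∀ q ∈ Q, ⁅q, b⁆ ∈ K :=
  ⟨fun h q hq => h (commutator_mem_commutator hq (mem_zpowers b)), commutator_zpowers_le hb⟩

/-- `[q,b]` is inverted by `b`. -/
theorem conj_commutator_inv {b : G} (hb : b * b = 1) (q : G) : b * ⁅q, b⁆ * b⁻¹ = ⁅q, b⁆⁻¹ := by
  have hbi : b⁻¹ = b := inv_eq_of_mul_eq_one_left hb
  rw [commutatorElement_def]
  have h1 : b * (q * b * q⁻¹ * b⁻¹) * b⁻¹ = b * q * b * q⁻¹ * (b⁻¹ * b⁻¹) := by group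
  rw [h1, hbi, hb, mul_one]
  have h2 : (q * b * q⁻¹ * b)⁻¹ = b⁻¹ * q * b⁻¹ * q⁻¹ := by group
  rw [h2, hbi]

theorem commutator_of_inverted {g c : G} (h : c * g * c⁻¹ = g⁻¹) : ⁅g, c⁆ = g * g := by
  rw [commutatorElement_def]
  have : c * g⁻¹ * c⁻¹ = g := by
    have : c * g⁻¹ * c⁻¹ = (c * g * c⁻¹)⁻¹ := by group
    rw [this, h, inv_inv]
  calc g * c * g⁻¹ * c⁻¹ = g * (c * g⁻¹ * c⁻¹) := by group
    _ = g * g := by rw [this]

theorem conj_mem_of_mem_normalizer {X : Subgroup G} {c : G} (hc : c ∈ normalizer (X : Set G)) :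
    ∀ x ∈ X, c * x * c⁻¹ ∈ X := fun x hx => (mem_normalizer_iff.mp hc x).mp hx

theorem mem_normalizer_of_conj_mem' {X : Subgroup G} [Finite G] {c : G} (hc : ∀ x ∈ X, c * x * c⁻¹ ∈ X) :
    c ∈ normalizer (X : Set G) := by
  apply LocBase.mem_normalizer_of_map_conj_le
  rintro _ ⟨x, hx, rfl⟩
  exact hc x hx

/-- **[X, c] is generated by `[C_X(y), c]` and `[C_X(cy), c]`** for a four-group `{1, c, y, cy}` acting on a
group `X` of odd order -/
theorem commutator_le_of_line {X : Subgroup G} (hX : Odd (Nat.card X)) {c y : G} (hc : c * c = 1) (hy : y * y = 1)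
    (hcy : c * y = y * c) (hcX : c ∈ normalizer (X : Set G)) (hyX : y ∈ normalizer (X : Set G))
    {K : Subgroup G} (h1 : ⁅X ⊓ centralizer ({y} : Set G), zpowers c⁆ ≤ K)
    (h2 : ⁅X ⊓ centralizer ({c * y} : Set G), zpowers c⁆ ≤ K) : ⁅X, zpowers c⁆ ≤ K := by
  apply commutator_zpowers_le hc
  intro x hx
  have hxc : ⁅x, c⁆ ∈ X := by
    rw [commutatorElement_def]
    have : x * c * x⁻¹ * c⁻¹ = x * (c * x⁻¹ * c⁻¹) := by group
    rw [this]
    exact mul_mem hx (conj_mem_of_mem_normalizer hcX _ (inv_mem hx))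
  have key : ∀ g ∈ X, ∀ z : G, z * g * z⁻¹ = g → c * g * c⁻¹ = g⁻¹ →
      ⁅X ⊓ centralizer ({z} : Set G), zpowers c⁆ ≤ K → g ∈ K := by
    intro g hg z hz hcg hK
    apply mem_of_sq_mem hX hg
    rw [← commutator_of_inverted hcg]
    apply hK
    apply commutator_mem_commutator _ (mem_zpowers c)
    refine mem_inf.2 ⟨hg, ?_⟩
    rw [mem_centralizer_singleton_iff]
    exact (mul_inv_eq_iff_eq_mul.1 hz).symm
  exact mem_of_line hX hc hy hcy (conj_mem_of_mem_normalizer hyX)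
    (fun g hg hyg hcg => key g hg y hyg hcg h1) (fun g hg hyg hcg => key g hg (c * y) hyg hcg h2)
    hxc (conj_commutator_inv hc x)

/-- Let `V` have odd order, `b` an involution, `q` inverted by `b`, `q ^ n = 1` with `n` odd and prime to `|V|`, both
normalizing `V`.  If `C_V(b) ≤ C_V(q)` then `q` centralizes `V`. -/
theorem hh_elem {V : Subgroup G} (hV : Odd (Nat.card V)) {b q : G} (hb : b * b = 1) (hbq : b * q * b⁻¹ = q⁻¹)
    (hbV : ∀ x ∈ V, b * x * b⁻¹ ∈ V) (hqV : ∀ x ∈ V, q * x * q⁻¹ ∈ V) (hqV' : ∀ x ∈ V, q⁻¹ * x * q ∈ V)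
    {n : ℕ} (hn : Odd n) (hqn : q ^ n = 1) (hcop : n.Coprime (Nat.card V))
    (hfix : ∀ v ∈ V, b * v * b⁻¹ = v → q * v * q⁻¹ = v) : ∀ v ∈ V, q * v * q⁻¹ = v := by
  have hbi : b⁻¹ = b := inv_eq_of_mul_eq_one_left hb
  -- inverted elements
  have key : ∀ w ∈ V, b * w * b⁻¹ = w⁻¹ → q * w * q⁻¹ = w := by
    intro w hw hbw
    set b' := q⁻¹ * b * q with hb'
    have hb'b' : b' * b' = 1 := by
      rw [hb']
      calc q⁻¹ * b * q * (q⁻¹ * b * q) = q⁻¹ * (b * b) * q := by group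
        _ = 1 := by rw [hb]; group
    have hb'V : ∀ x ∈ V, b' * x * b'⁻¹ ∈ V := by
      intro x hx
      have h1 := hqV' _ (hbV _ (hqV x hx))
      have h2 : b' * x * b'⁻¹ = q⁻¹ * (b * (q * x * q⁻¹) * b⁻¹) * q := by rw [hb']; group
      rw [h2]; exact h1
    obtain ⟨g, hg, v, hv, hwgv, hbg, hbv, -⟩ := decomp hV hb'b' hb'V hw
    -- `g` is fixed by `q`
    have hg1 : b * (q * g * q⁻¹) * b⁻¹ = q * g * q⁻¹ := by
      have h1 : b * (q * g * q⁻¹) * b⁻¹ = q * (b' * g * b'⁻¹) * q⁻¹ := by rw [hb']; group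
      rw [h1, hbg]
    have hg2 : q * g * q⁻¹ = g := by
      have h1 := hfix _ (hqV g hg) hg1
      have h2 : q * g * q⁻¹ = q⁻¹ * (q * (q * g * q⁻¹) * q⁻¹) * q := by group
      rw [h1] at h2
      rw [h2]; group
    have hqg : Commute q g := mul_inv_eq_iff_eq_mul.1 hg2
    -- the action of `r = q⁻²`
    have hb'eq : b' = q⁻¹ * q⁻¹ * b := by
      have h1 : b * q = q⁻¹ * b := mul_inv_eq_iff_eq_mul.1 hbq
      rw [hb', mul_assoc, h1, mul_assoc]
    set r := q⁻¹ * q⁻¹ with hr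
    have hrw : r * w * r⁻¹ = g⁻¹ * w * g⁻¹ := by
      have h1 : b' * w * b'⁻¹ = r * w⁻¹ * r⁻¹ := by
        have h2 : b' * w * b'⁻¹ = r * (b * w * b⁻¹) * r⁻¹ := by rw [hb'eq]; group
        rw [h2, hbw]
      have h2 : b' * w * b'⁻¹ = g * w⁻¹ * g := by
        have h3 : b' * w * b'⁻¹ = (b' * g * b'⁻¹) * (b' * v * b'⁻¹) := by rw [hwgv]; group
        rw [h3, hbg, hbv, hwgv]; group
      have h3 : r * w⁻¹ * r⁻¹ = g * w⁻¹ * g := by rw [← h1, h2]
      have h4 : r * w * r⁻¹ = (r * w⁻¹ * r⁻¹)⁻¹ := by group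
      rw [h4, h3]; group
    have hrg : Commute r g := (hqg.inv_left).mul_left hqg.inv_left
    have hpow : ∀ k : ℕ, r ^ k * w * (r ^ k)⁻¹ = (g ^ k)⁻¹ * w * (g ^ k)⁻¹ := by
      intro k
      induction k with
      | zero => simp
      | succ k ih =>
        have hrgk : Commute r (g ^ k)⁻¹ := (hrg.pow_right k).inv_right
        calc r ^ (k + 1) * w * (r ^ (k + 1))⁻¹ = r * (r ^ k * w * (r ^ k)⁻¹) * r⁻¹ := by
              rw [pow_succ']; group
          _ = r * ((g ^ k)⁻¹ * w * (g ^ k)⁻¹) * r⁻¹ := by rw [ih]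
          _ = (r * (g ^ k)⁻¹) * w * ((g ^ k)⁻¹ * r⁻¹) := by group
          _ = ((g ^ k)⁻¹ * r) * w * (r⁻¹ * (g ^ k)⁻¹) := by rw [hrgk.eq, (hrgk.inv_left).eq]
          _ = (g ^ k)⁻¹ * (r * w * r⁻¹) * (g ^ k)⁻¹ := by group
          _ = (g ^ k)⁻¹ * (g⁻¹ * w * g⁻¹) * (g ^ k)⁻¹ := by rw [hrw]
          _ = (g ^ (k + 1))⁻¹ * w * (g ^ (k + 1))⁻¹ := by
              rw [pow_succ (n := k)]
              have : (g ^ k * g)⁻¹ = (g ^ k)⁻¹ * g⁻¹ := by
                rw [← pow_succ, pow_succ', mul_inv_rev]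
              rw [this]
              have h5 : (g ^ k)⁻¹ * g⁻¹ = g⁻¹ * (g ^ k)⁻¹ := by
                rw [← mul_inv_rev, ← mul_inv_rev, ← pow_succ, ← pow_succ']
              calc (g ^ k)⁻¹ * (g⁻¹ * w * g⁻¹) * (g ^ k)⁻¹
                  = ((g ^ k)⁻¹ * g⁻¹) * w * (g⁻¹ * (g ^ k)⁻¹) := by group
                _ = ((g ^ k)⁻¹ * g⁻¹) * w * ((g ^ k)⁻¹ * g⁻¹) := by rw [← h5]
    have hrn : r ^ n = 1 := by
      rw [hr, (Commute.refl q⁻¹).mul_pow, inv_pow, hqn]; group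
    have h1 := hpow n
    rw [hrn] at h1
    have h2 : w = (g ^ n)⁻¹ * w * (g ^ n)⁻¹ := by simpa using h1
    have h3 : g ^ n * w * g ^ n = w := by
      calc g ^ n * w * g ^ n = g ^ n * ((g ^ n)⁻¹ * w * (g ^ n)⁻¹) * g ^ n := by rw [← h2]
        _ = w := by group
    have h4 : w⁻¹ * g ^ n * w = (g ^ n)⁻¹ := by
      rw [eq_inv_iff_mul_eq_one]
      calc w⁻¹ * g ^ n * w * g ^ n = w⁻¹ * (g ^ n * w * g ^ n) := by group
        _ = 1 := by rw [h3]; group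
    have h5 : w * w ∈ centralizer ({g ^ n} : Set G) := by
      rw [mem_centralizer_singleton_iff]
      have h6 : w⁻¹ * (w⁻¹ * g ^ n * w) * w = g ^ n := by
        rw [h4]
        have : w⁻¹ * (g ^ n)⁻¹ * w = (w⁻¹ * g ^ n * w)⁻¹ := by group
        rw [this, h4, inv_inv]
      calc w * w * g ^ n = w * w * (w⁻¹ * (w⁻¹ * g ^ n * w) * w) := by rw [h6]
        _ = g ^ n * (w * w) := by group
    have h6 : w ∈ centralizer ({g ^ n} : Set G) := mem_of_sq_mem hV hw h5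
    rw [mem_centralizer_singleton_iff] at h6
    have h7 : g ^ n * g ^ n = 1 := by
      have h8 : w⁻¹ * g ^ n * w = g ^ n := by
        rw [mul_assoc, ← h6]; group
      rw [h8] at h4
      exact eq_inv_iff_mul_eq_one.1 h4
    have h8 : g ^ n = 1 := eq_of_sq_eq_one hV (pow_mem hg n) h7
    have h9 : g = 1 := by
      have h10 : orderOf g ∣ n := orderOf_dvd_of_pow_eq_one h8
      have h11 : orderOf g ∣ Nat.card V := Subgroup.orderOf_dvd_natCard _ hg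
      have h12 : orderOf g ∣ 1 := by
        rw [← hcop]
        exact Nat.dvd_gcd h10 h11
      exact orderOf_eq_one_iff.1 (Nat.dvd_one.1 h12)
    rw [h9] at hrw
    have h10 : q * q * w * (q * q)⁻¹ = w := by
      have h11 : r * w * r⁻¹ = w := by rw [hrw]; group
      have h12 : q * q * w * (q * q)⁻¹ = (q * q) * (r * w * r⁻¹) * (q * q)⁻¹ := by rw [h11]
      rw [h12, hr]; group
    have h11 : Commute (q * q) w := mul_inv_eq_iff_eq_mul.1 h10
    -- `q ∈ ⟨q²⟩`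
    obtain ⟨k, hk⟩ := hn
    have h12 : q = (q * q) ^ (k + 1) := by
      rw [(Commute.refl q).mul_pow, ← pow_add]
      have : k + 1 + (k + 1) = n + 1 := by omega
      rw [this, pow_succ, hqn, one_mul]
    have h13 : Commute q w := by
      rw [h12]; exact h11.pow_left _
    exact mul_inv_eq_iff_eq_mul.2 h13.eq
  intro v hv
  obtain ⟨g, hg, w, hw, hvgw, hbg, hbw, -⟩ := decomp hV hb hbV hv
  have h1 := hfix g hg hbg
  have h2 := key w hw hbw
  have h3 : q * v * q⁻¹ = (q * g * q⁻¹) * (q * w * q⁻¹) := by rw [hvgw]; group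
  rw [h3, h1, h2, hvgw]

/-- **(HH)** -/
theorem hh {V Q : Subgroup G} [Finite G] (hV : Odd (Nat.card V)) (hQ : Odd (Nat.card Q))
    (hcop : (Nat.card Q).Coprime (Nat.card V)) {b : G} (hb : b * b = 1) (hbV : b ∈ normalizer (V : Set G))
    (hbQ : b ∈ normalizer (Q : Set G)) (hQV : Q ≤ normalizer (V : Set G))
    (hfix : V ⊓ centralizer ({b} : Set G) ≤ centralizer (Q : Set G)) :
    ⁅Q, zpowers b⁆ ≤ centralizer (V : Set G) := by
  apply commutator_zpowers_le hb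
  intro q hq
  have hqb : ⁅q, b⁆ ∈ Q := by
    rw [commutatorElement_def]
    have : q * b * q⁻¹ * b⁻¹ = q * (b * q⁻¹ * b⁻¹) := by group
    rw [this]
    exact mul_mem hq (conj_mem_of_mem_normalizer hbQ _ (inv_mem hq))
  have h1 := hh_elem hV hb (conj_commutator_inv hb q) (conj_mem_of_mem_normalizer hbV)
    (conj_mem_of_mem_normalizer (hQV hqb)) (fun x hx => by
      have := conj_mem_of_mem_normalizer (inv_mem (hQV hqb)) x hx
      simpa using this) hQ (by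
      have := pow_card_eq_one' (x := (⟨_, hqb⟩ : Q))
      exact congrArg Subtype.val this) hcop (by
      intro v hv hbv
      have h2 : v ∈ V ⊓ centralizer ({b} : Set G) := by
        refine mem_inf.2 ⟨hv, ?_⟩
        rw [mem_centralizer_singleton_iff]
        exact (mul_inv_eq_iff_eq_mul.1 hbv).symm
      have h3 := mem_centralizer_iff.1 (hfix h2) _ hqb
      exact mul_inv_eq_iff_eq_mul.2 h3)
  rw [mem_centralizer_iff]
  intro v hv
  exact (mul_inv_eq_iff_eq_mul.1 (h1 v hv)).symm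

end Elem

end Cfsg.Agent.Lib.SSF2
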