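import Cfsg.Agent.Lib.SSF2Core

/-!
# Solvable signalizer functors for `p = 2`: growing maximal members, uniqueness of pure members (helper46)
-/

set_option autoImplicit false
set_option linter.unusedSectionVars false

namespace Cfsg.Agent.Lib.SSF2

open Subgroup Cfsg
open Cfsg.Agent.Lib.LocBase (pCoreOf_le isPGroup_pCoreOf le_normalizer_pCoreOf normalizer_le_normalizer_pCoreOf
  commutator_le_left_of_le commutator_le_right_of_le le_normalizer_inf le_normalizer_centralizer le_normalizer_sup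
  le_pCoreOf le_normalizer_commutator)
open Cfsg.Agent.Lib.SigCon (oOf oOf_le le_oOf coprime_card_oOf le_normalizer_oOf)
open Cfsg.Agent.Lib.BG08 (fittingOf_le inf_centralizer_fittingOf_le le_centralizer_of_inf_eq_bot
  inf_eq_bot_of_isPGroup pCoreOf_le_centralizer_pCoreOf le_pCoreOf_of_le_fittingOf le_centralizer_fittingOf
  fittingOf_le_of_forall pCoreOf_le_fittingOf le_normalizer_fittingOf)
open Cfsg.Agent.Lib.Signalizer Cfsg.Agent.Lib.CoprimeHyper
open scoped commutatorElement Pointwise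

universe u

variable {G : Type u} [Group G] [Finite G] {A : Subgroup G} {θ : G → Subgroup G}

attribute [local instance] fact2

/-! ### `Z(J(S))` -/

theorem ZC_ne_bot {w : ℕ} [hw : Fact w.Prime] {S : Subgroup G} (hS : IsPGroup w S) (hS1 : S ≠ ⊥) :
    ZJElem.ZC w S ≠ ⊥ := by
  have hJp : IsPGroup w ↥(ZJElem.JE w S) := hS.to_le ThompsonJ.J_le
  have hJ1 : ZJElem.JE w S ≠ ⊥ := by
    have : Nontrivial S := (Subgroup.nontrivial_iff_ne_bot S).2 hS1
    obtain ⟨n, hn0, hn⟩ := hS.nontrivial_iff_card.mp inferInstance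
    obtain ⟨x, hx⟩ := exists_prime_orderOf_dvd_card' (G := S) w (by rw [hn]; exact dvd_pow_self w hn0.ne')
    have hxo : orderOf (x : G) = w := by rw [← hx]; exact Subgroup.orderOf_coe x
    obtain ⟨E, hE⟩ := ThompsonJ.maxElem_nonempty w S
    intro h0
    have h1 : E ≤ ⊥ := by rw [← h0]; exact ThompsonJ.le_J hE
    have h2 := hE.2.2 (zpowers (x : G)) (zpowers_le.2 x.2) (elemAb_zpowers (by rw [← hxo]; exact pow_orderOf_eq_one _))
    rw [Nat.card_zpowers, hxo, le_bot_iff.1 h1, Subgroup.card_bot] at h2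
    exact absurd hw.out.one_lt (by omega)
  exact PAct.inf_centralizer_ne_bot hJp hJp hJ1 le_normalizer

theorem ZC_conj {w : ℕ} (S : Subgroup G) (c : G) :
    ZJElem.ZC w (S.map (MulAut.conj c).toMonoidHom) = (ZJElem.ZC w S).map (MulAut.conj c).toMonoidHom := by
  apply ZJElem.ZC_map
  intro x _ hx
  have h1 : c * x * c⁻¹ = 1 := hx
  have h2 : x = c⁻¹ * (c * x * c⁻¹) * c := by group
  rw [h2, h1]; group

/-- the ZJ-theorem for subgroups of odd order -/
theorem le_normalizer_ZC {w : ℕ} [hw : Fact w.Prime] (hw2 : w ≠ 2) {K S : Subgroup G} (hK : Group.IsSolvable K)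
    (hodd : Odd (Nat.card K)) (hO : oOf w K = ⊥) (hSK : S ≤ K) (hSw : IsPGroup w S) (hSi : ¬ w ∣ S.relIndex K) :
    K ≤ normalizer (ZJElem.ZC w S : Set G) := by
  obtain ⟨P, hP⟩ := CoprimeAction.exists_sylow_map_subtype_eq hSK hSw hSi
  have h1 := ZJElem.zc_normal (G := K) hodd hw2 (SigCon.oOf_eq_bot_iff.1 hO) P
  have h2 : ZJElem.ZC w S = (ZJElem.ZC w (P : Subgroup K)).map K.subtype := by
    rw [← hP]
    apply ZJElem.ZC_map
    intro x _ hx
    exact Subtype.ext hx
  rw [h2, Subgroup.le_normalizer_iff]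
  rintro k hk _ ⟨y, hy, rfl⟩
  exact ⟨⟨k, hk⟩ * y * ⟨k, hk⟩⁻¹, h1.conj_mem y hy ⟨k, hk⟩, by simp⟩

theorem eq_bot_of_pCoreOf {K : Subgroup G} (hK : Group.IsSolvable K) (h : ∀ t : ℕ, t.Prime → pCoreOf t K = ⊥) :
    K = ⊥ := by
  have h1 : fittingOf K = ⊥ := by
    rw [eq_bot_iff]
    exact fittingOf_le_of_forall fun t ht => (h t ht).le
  have h2 := inf_centralizer_fittingOf_le hK
  rw [h1] at h2
  rw [eq_bot_iff]
  refine le_trans (le_inf le_rfl ?_) h2
  intro x _
  rw [mem_centralizer_iff]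
  intro y hy
  rw [show y = 1 from hy]; simp

theorem oOf_eq_bot_of_pure {K : Subgroup G} (hK : Group.IsSolvable K) {w : ℕ} [hw : Fact w.Prime]
    (h : ∀ t : ℕ, t.Prime → t ≠ w → pCoreOf t K = ⊥) : oOf w K = ⊥ := by
  apply eq_bot_of_pCoreOf (SubgroupTools.isSolvable_of_le (oOf_le K) hK)
  intro t ht
  have : Fact t.Prime := ⟨ht⟩
  by_cases htw : t = w
  · subst htw
    rw [eq_bot_iff, ← SigCon.disj_of_coprime (isPGroup_pCoreOf t (oOf t K)) (coprime_card_oOf K)]
    exact le_inf (pCoreOf_le _) le_rfl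
  · rw [eq_bot_iff, ← h t ht htw]
    exact le_pCoreOf ((pCoreOf_le _).trans (oOf_le K))
      ((le_normalizer_oOf K).trans (normalizer_le_normalizer_pCoreOf t _)) (isPGroup_pCoreOf t _)

open Classical in
/-- `τ_b(M)` -/
noncomputable def tauF (b : G) (M : Subgroup G) : Finset ℕ :=
  (Nat.card G).primeFactors.filter (fun t => ¬ pCoreOf t M ≤ centralizer ({b} : Set G))

theorem mem_tauF {b : G} {M : Subgroup G} {t : ℕ} :
    t ∈ tauF b M ↔ t.Prime ∧ ¬ pCoreOf t M ≤ centralizer ({b} : Set G) := by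
  classical
  unfold tauF
  rw [Finset.mem_filter (s := (Nat.card G).primeFactors)]
  constructor
  · rintro ⟨h1, h2⟩
    exact ⟨Nat.prime_of_mem_primeFactors h1, h2⟩
  · rintro ⟨h1, h2⟩
    refine ⟨?_, h2⟩
    have : Fact t.Prime := ⟨h1⟩
    rcases (isPGroup_pCoreOf t M).card_eq_or_dvd with h3 | h3
    · exfalso
      apply h2
      rw [Subgroup.card_eq_one.1 h3]
      exact bot_le
    · exact Nat.mem_primeFactors.2 ⟨h1, h3.trans (Subgroup.card_subgroup_dvd_card _), Nat.card_pos.ne'⟩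

theorem bot_le_centralizer' (Y : Subgroup G) : Y ≤ centralizer (((⊥ : Subgroup G)) : Set G) := by
  intro x _
  rw [mem_centralizer_iff]
  intro y hy
  rw [show y = 1 from hy]; simp

namespace MinCE

variable (h : MinCE A θ)

include h

/-- the commutator `[O_q(M), b]` -/
theorem Z_facts {M : Subgroup G} (hM : MM A θ M) {b : G} (hb : b ∈ A) (hb1 : b ≠ 1) (hbM : θ b ≤ M) (q : ℕ)
    [hq : Fact q.Prime] :
    ⁅pCoreOf q M, zpowers b⁆ ≤ pCoreOf q M ∧ ⁅pCoreOf q M, zpowers b⁆ ∈ signalizerFamily 2 A θ ∧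
    fittingOf M ≤ normalizer ((⁅pCoreOf q M, zpowers b⁆ : Subgroup G) : Set G) ∧
    θ b ≤ normalizer ((⁅pCoreOf q M, zpowers b⁆ : Subgroup G) : Set G) ∧
    (⁅pCoreOf q M, zpowers b⁆ ≤ centralizer ({b} : Set G) → pCoreOf q M ≤ centralizer ({b} : Set G)) := by
  have hQ := pCoreOf_mem hM.mem q
  have hbQ : zpowers b ≤ normalizer (pCoreOf q M : Set G) := zpowers_le.2 (fam_normalizer hQ hb)
  have hAb : A ≤ normalizer (zpowers b : Set G) := by
    apply le_normalizer_zpowers_of_centralizer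
    intro x hx
    rw [mem_centralizer_singleton_iff]
    exact h.comm hx hb
  have hle : ⁅pCoreOf q M, zpowers b⁆ ≤ pCoreOf q M := commutator_le_left_of_le hbQ
  refine ⟨hle, mem_of_le hQ hle (le_normalizer_commutator (fam_normalizer hQ) hAb), ?_, ?_, ?_⟩
  · apply fittingOf_le_of_forall
    intro u hu
    have : Fact u.Prime := ⟨hu⟩
    by_cases huq : u = q
    · subst huq
      exact normalizer_commutator_ge_left _ _
    · exact ((pCoreOf_le_centralizer_pCoreOf huq M).trans (centralizer_le hle)).trans (centralizer_le_normalizer _)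
  · apply le_normalizer_commutator (hbM.trans (le_normalizer_pCoreOf q M))
    exact le_normalizer_zpowers_of_centralizer (h.func.1.1 b hb hb1)
  · intro hc
    rw [centralizer_singleton_eq, ← commutator_eq_bot_iff_le_centralizer]
    apply CoprimeAction2.commutator_eq_bot_of_commutator_commutator hbQ
      (elemAb_coprime (elemAb_zpowers (h.elem.2 b hb)) hQ.2.1) (Or.inr hQ.1)
    rw [commutator_eq_bot_iff_le_centralizer, ← centralizer_singleton_eq]
    exact hc

/-- (HH) for members -/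
theorem hh_mem {V Q : Subgroup G} (hV : V ∈ signalizerFamily 2 A θ) (hQ : Q ∈ signalizerFamily 2 A θ) {s t : ℕ}
    [hs : Fact s.Prime] [ht : Fact t.Prime] (hst : s ≠ t) (hVs : IsPGroup s V) (hQt : IsPGroup t Q) {b : G}
    (hb : b ∈ A) (hQV : Q ≤ normalizer (V : Set G))
    (hfix : V ⊓ centralizer ({b} : Set G) ≤ centralizer (Q : Set G)) :
    ⁅Q, zpowers b⁆ ≤ centralizer (V : Set G) := by
  refine hh (fam_odd hV) (fam_odd hQ) ?_ (h.sq hb) (fam_normalizer hV hb) (fam_normalizer hQ hb) hQV hfix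
  obtain ⟨k, hk⟩ := IsPGroup.iff_card.mp hVs
  rw [hk]
  exact Nat.Coprime.pow_right k (isPGroup_coprime hst.symm hQt)

/-- `C_Y(b) = 1` for `Y = O_t(H)` -/
theorem inf_eq_bot_of_new {M H : Subgroup G} (hM : MM A θ M) (hMH : fittingOf M ≤ H)
    {t : ℕ} [ht : Fact t.Prime] (htM : pCoreOf t M = ⊥) : pCoreOf t H ⊓ M = ⊥ := by
  apply inf_eq_bot_of_fitting hM.mem.1 (isPGroup_pCoreOf t H) (hMH.trans (le_normalizer_pCoreOf t H))
  rw [htM, inf_bot_eq]

theorem not_le_of_new {M H : Subgroup G} (hM : MM A θ M) (hH : MM A θ H) {b : G} (hb : b ∈ A) (hb1 : b ≠ 1)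
    (hbM : θ b ≤ M) (hMH : fittingOf M ≤ H) {t : ℕ} [ht : Fact t.Prime] (htM : pCoreOf t M = ⊥)
    (htH : pCoreOf t H ≠ ⊥) : ¬ pCoreOf t H ≤ centralizer ({b} : Set G) := by
  intro hc
  apply htH
  rw [eq_bot_iff, ← h.inf_eq_bot_of_new hM hMH htM]
  refine le_inf le_rfl ?_
  exact (le_inf le_rfl hc).trans (((pCoreOf_mem hH.mem t).2.2.2 b hb hb1).trans hbM)

theorem growth {M H : Subgroup G} (hM : MM A θ M) (hH : MM A θ H) {b : G} (hb : b ∈ A) (hb1 : b ≠ 1)
    (hbM : θ b ≤ M) (hMH : fittingOf M ≤ H) {t : ℕ} [ht : Fact t.Prime] (htH : pCoreOf t H ≠ ⊥)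
    (htM : pCoreOf t M = ⊥)
    (hyp : (∃ s r : ℕ, s.Prime ∧ r.Prime ∧ r ≠ s ∧ pCoreOf s M ≠ ⊥ ∧ pCoreOf r M ≠ ⊥) ∨
      (∃ w : ℕ, w.Prime ∧ (∀ u : ℕ, u.Prime → u ≠ w → pCoreOf u M = ⊥) ∧
        ∀ Y ∈ signalizerFamily 2 A θ, IsPGroup w Y → signalizerInf A θ ≤ normalizer (Y : Set G) → Y ≤ H)) :
    ∃ L, MM A θ L ∧ θ b ≤ L ∧ tauF b M ⊂ tauF b L := by
  set Y := pCoreOf t H with hY
  have hYm : Y ∈ signalizerFamily 2 A θ := pCoreOf_mem hH.mem t
  have hYM : Y ⊓ M = ⊥ := h.inf_eq_bot_of_new hM hMH htM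
  have hYb : Y ⊓ centralizer ({b} : Set G) = ⊥ := by
    rw [eq_bot_iff, ← hYM]
    exact le_inf inf_le_left ((hYm.2.2.2 b hb hb1).trans hbM)
  obtain ⟨q, hq, hqM⟩ := h.exists_tau hb hb1 hM
  have hqf : Fact q.Prime := ⟨hq⟩
  have hqt : q ≠ t := by
    rintro rfl
    apply hqM
    rw [htM]; exact bot_le
  obtain ⟨hZ1, hZm, hZF, hZθ, hZc⟩ := h.Z_facts hM hb hb1 hbM q
  set Z := ⁅pCoreOf q M, zpowers b⁆ with hZ
  have hZne : Z ≠ ⊥ := by
    intro h0
    apply hqM
    apply hZc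
    rw [h0]; exact bot_le
  have hFH : ∀ u : ℕ, u.Prime → pCoreOf u M ≤ H := fun u hu => (pCoreOf_le_fittingOf hu M).trans hMH
  have hZY : Z ≤ centralizer (Y : Set G) := by
    refine h.hh_mem hYm (pCoreOf_mem hM.mem q) (Ne.symm hqt) (isPGroup_pCoreOf t H) (isPGroup_pCoreOf q M) hb
      ((hFH q hq).trans (le_normalizer_pCoreOf t H)) ?_
    rw [hYb]; exact bot_le
  have hNm := h.NT_mem hZm hZne
  have hbN : θ b ≤ NT A θ Z := h.le_NT (theta_mem h.func hb hb1) hZθ
  have hDN : signalizerInf A θ ≤ NT A θ Z := (signalizerInf_le hb hb1).trans hbN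
  obtain ⟨L, hL, hNL⟩ := h.exists_ge hNm (hDN.trans le_normalizer)
  have hYL : Y ≤ L := by
    refine (h.le_NT hYm ?_).trans hNL
    exact (le_centralizer_iff.1 hZY).trans (centralizer_le_normalizer _)
  have hML : fittingOf M ≤ L := by
    apply fittingOf_le_of_forall
    intro u hu
    exact (h.le_NT (pCoreOf_mem hM.mem u) ((pCoreOf_le_fittingOf hu M).trans hZF)).trans hNL
  have hFL : ∀ u : ℕ, u.Prime → pCoreOf u M ≤ L := fun u hu => (pCoreOf_le_fittingOf hu M).trans hML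
  have hbL := hbN.trans hNL
  refine ⟨L, hL, hbL, ?_⟩
  have hLM : L ≠ M := by
    rintro rfl
    apply htH
    rw [eq_bot_iff, ← hYM]
    exact le_inf le_rfl hYL
  -- `τ_b(M) ⊆ τ_b(L)`
  have hsub : tauF b M ⊆ tauF b L := by
    intro q' hq'
    rw [mem_tauF] at hq' ⊢
    refine ⟨hq'.1, fun hcL => ?_⟩
    have hq'f : Fact q'.Prime := ⟨hq'.1⟩
    obtain ⟨hZ1', hZm', hZF', hZθ', hZc'⟩ := h.Z_facts hM hb hb1 hbM q'
    have hQm := pCoreOf_mem hM.mem q'
    have hcent : ⁅pCoreOf q' M, zpowers b⁆ ≤ centralizer (fittingOf L : Set G) := by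
      apply le_centralizer_fittingOf
      intro r hr
      have hrf : Fact r.Prime := ⟨hr⟩
      have hVm := pCoreOf_mem hL.mem r
      by_cases hrq : r = q'
      · subst hrq
        have hVM : pCoreOf r L ≤ M := ((le_inf le_rfl hcL).trans (hVm.2.2.2 b hb hb1)).trans hbM
        rw [← commutator_eq_bot_iff_le_centralizer]
        apply CoprimeAction2.commutator_commutator_eq_bot (X := zpowers b) (Y := pCoreOf r L) (Z := pCoreOf r M)
        · rw [commutator_comm (zpowers b)]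
          have : ⁅pCoreOf r L, zpowers b⁆ = ⊥ := by
            rw [commutator_eq_bot_iff_le_centralizer, ← centralizer_singleton_eq]
            exact hcL
          rw [this, commutator_bot_left]
        · rw [commutator_eq_bot_iff_le_centralizer, ← centralizer_singleton_eq]
          refine le_trans ?_ hcL
          exact commutator_le_left_of_le ((hFL r hr).trans (le_normalizer_pCoreOf r L))
      · refine h.hh_mem hVm hQm hrq (isPGroup_pCoreOf r L) (isPGroup_pCoreOf q' M) hb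
          ((hFL q' hq'.1).trans (le_normalizer_pCoreOf r L)) ?_
        have h1 : pCoreOf r L ⊓ centralizer ({b} : Set G) ≤ pCoreOf r L ⊓ M :=
          le_inf inf_le_left ((hVm.2.2.2 b hb hb1).trans hbM)
        refine h1.trans ?_
        rw [← commutator_eq_bot_iff_le_centralizer, eq_bot_iff,
          ← inf_eq_bot_of_isPGroup hrq (isPGroup_pCoreOf r L) (isPGroup_pCoreOf q' M)]
        apply le_inf
        · exact (commutator_mono inf_le_left le_rfl).trans
            (commutator_le_left_of_le ((hFL q' hq'.1).trans (le_normalizer_pCoreOf r L)))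
        · exact (commutator_mono inf_le_right le_rfl).trans
            (commutator_le_right_of_le (le_normalizer_pCoreOf q' M))
    have h1 : ⁅pCoreOf q' M, zpowers b⁆ ≤ pCoreOf q' L :=
      le_pCoreOf_of_centralizes hL.mem.1 ((isPGroup_pCoreOf q' M).to_le hZ1') (hZ1'.trans (hFL q' hq'.1)) hcent
    exact hq'.2 (hZc' (h1.trans hcL))
  -- strictness
  have hnew : ∃ t' : ℕ, t'.Prime ∧ pCoreOf t' L ≠ ⊥ ∧ pCoreOf t' M = ⊥ := by
    rcases hyp with ⟨s, r, hs, hr, hrs, hsM, hrM⟩ | ⟨w, hw, hpure, hwH⟩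
    · have : Fact s.Prime := ⟨hs⟩
      have : Fact r.Prime := ⟨hr⟩
      exact h.exists_new_prime hM hL hrs hsM hrM hML hLM
    · by_contra hcon
      push Not at hcon
      have hwf : Fact w.Prime := ⟨hw⟩
      have hLpure : ∀ r : ℕ, r.Prime → r ≠ w → pCoreOf r L = ⊥ := by
        intro r hr hrw
        by_contra h0
        exact hcon r hr h0 (hpure r hr hrw)
      have htw : t ≠ w := by
        rintro rfl
        obtain ⟨u, hu, hu1⟩ := h.exists_pCoreOf_ne hM
        apply hu1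
        by_cases hut : u = t
        · rw [hut]; exact htM
        · exact hpure u hu hut
      have hFLH : fittingOf L ≤ H := by
        apply fittingOf_le_of_forall
        intro r hr
        by_cases hrw : r = w
        · subst hrw
          exact hwH _ (pCoreOf_mem hL.mem r) (isPGroup_pCoreOf r L) (hL.D_le.trans (le_normalizer_pCoreOf r L))
        · rw [hLpure r hr hrw]; exact bot_le
      have h1 : Y ⊓ L = ⊥ := by
        apply inf_eq_bot_of_fitting hL.mem.1 (isPGroup_pCoreOf t H) (hFLH.trans (le_normalizer_pCoreOf t H))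
        rw [hLpure t ht.out htw, inf_bot_eq]
      apply htH
      rw [eq_bot_iff, ← h1]
      exact le_inf le_rfl hYL
  obtain ⟨t', ht', htL', htM'⟩ := hnew
  have : Fact t'.Prime := ⟨ht'⟩
  rw [Finset.ssubset_iff_of_subset hsub]
  refine ⟨t', mem_tauF.2 ⟨ht', h.not_le_of_new hM hL hb hb1 hbM hML htM' htL'⟩, fun hmem => ?_⟩
  rw [mem_tauF] at hmem
  apply hmem.2
  rw [htM']; exact bot_le

end MinCE

end Cfsg.Agent.Lib.SSF2
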