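import Cfsg.Agent.Lib.SSF2Elem
import Cfsg.Agent.Lib.PAct

/-!
# Solvable signalizer functors for `p = 2`: facts on solvable groups in ambient form (helper46)
-/

set_option autoImplicit false
set_option linter.unusedSectionVars false

namespace Cfsg.Agent.Lib.SSF2

open Subgroup Cfsg
open Cfsg.Agent.Lib.LocBase (pCoreOf_le isPGroup_pCoreOf le_normalizer_pCoreOf normalizer_le_normalizer_pCoreOf
  commutator_le_left_of_le commutator_le_right_of_le le_normalizer_inf le_normalizer_centralizer le_normalizer_sup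
  le_pCoreOf le_normalizer_commutator)
open Cfsg.Agent.Lib.SigCon (oOf oOf_le le_oOf coprime_card_oOf le_normalizer_oOf)
open Cfsg.Agent.Lib.BG08 (fittingOf_le inf_centralizer_fittingOf_le le_centralizer_of_inf_eq_bot
  inf_eq_bot_of_isPGroup pCoreOf_le_centralizer_pCoreOf le_pCoreOf_of_le_fittingOf le_centralizer_fittingOf
  fittingOf_le_of_forall pCoreOf_le_fittingOf le_normalizer_fittingOf)
open scoped commutatorElement

universe u

variable {G : Type u} [Group G] [Finite G]

/-- (L1) `O_{s'}(C_K(P)) ≤ O_{s'}(K)` -/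
theorem le_oOf_of_centralizer {s : ℕ} [hs : Fact s.Prime] {K P X : Subgroup G} (hK : Group.IsSolvable K)
    (hP : IsPGroup s P) (hPK : P ≤ K) (hX : X ≤ K) (hXP : X ≤ centralizer (P : Set G))
    (hn : K ⊓ centralizer (P : Set G) ≤ normalizer (X : Set G)) (hc : (Nat.card X).Coprime s) :
    X ≤ oOf s K := by
  have hKc : IsPConstrained s K := SigP.isPConstrained_of_isSolvable hK
  have h1 : X.subgroupOf K ≤ pPrimeCore s K := by
    refine PConstrained.le_pPrimeCore_of_pLayer_eq_bot (PConstrained.isPConstrained_iff_pLayer.1 hKc)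
      (P := P.subgroupOf K) (hP.comap_of_injective _ K.subtype_injective) ?_ ?_ ?_
    · rw [← ConstrainedLocal.subgroupOf_centralizer_eq hPK]
      exact Subgroup.comap_mono hXP
    · rw [← ConstrainedLocal.subgroupOf_centralizer_eq hPK, ← Subgroup.subgroupOf_normalizer_eq hX]
      rintro y hy
      exact hn ⟨y.2, hy⟩
    · rw [SigCon.card_subgroupOf_of_le hX]
      exact hc
  have h2 := Subgroup.map_mono (f := K.subtype) h1
  rwa [Subgroup.map_subgroupOf_eq_of_le hX] at h2

/-- (L2) -/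
theorem le_pCoreOf_of_centralizes {r : ℕ} [hr : Fact r.Prime] {K X : Subgroup G} (hK : Group.IsSolvable K)
    (hX : IsPGroup r X) (hXK : X ≤ K) (h : X ≤ centralizer (fittingOf K : Set G)) : X ≤ pCoreOf r K :=
  le_pCoreOf_of_le_fittingOf ((le_inf hXK h).trans (inf_centralizer_fittingOf_le hK)) hX

/-- (L3) a coprime operator group centralizing `F(K)` centralizes the solvable group `K` -/
theorem le_centralizer_of_fitting {K A : Subgroup G} (hK : Group.IsSolvable K) (hAK : A ≤ normalizer (K : Set G))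
    (hcop : (Nat.card A).Coprime (Nat.card K)) (h : A ≤ centralizer (fittingOf K : Set G)) :
    A ≤ centralizer (K : Set G) := by
  have h1 : ⁅K, A⁆ ≤ K := commutator_le_left_of_le hAK
  have h2 : ⁅⁅fittingOf K, K⁆, A⁆ = ⊥ := by
    rw [eq_bot_iff]
    have : ⁅fittingOf K, A⁆ = ⊥ := by
      rw [commutator_comm, commutator_eq_bot_iff_le_centralizer]; exact h
    rw [← this]
    exact commutator_mono (commutator_le_left_of_le (le_normalizer_fittingOf K)) le_rfl
  have h3 : ⁅⁅A, fittingOf K⁆, K⁆ = ⊥ := by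
    rw [commutator_eq_bot_iff_le_centralizer.2 h, commutator_bot_left]
  have h4 : ⁅⁅K, A⁆, fittingOf K⁆ = ⊥ :=
    CoprimeAction2.commutator_commutator_eq_bot (X := A) (Y := fittingOf K) (Z := K) h3 h2
  rw [commutator_eq_bot_iff_le_centralizer] at h4
  have h5 : ⁅K, A⁆ ≤ fittingOf K := (le_inf h1 h4).trans (inf_centralizer_fittingOf_le hK)
  have h6 : ⁅K, A⁆ = ⊥ := by
    apply CoprimeAction2.commutator_eq_bot_of_commutator_commutator hAK hcop (Or.inr hK)
    rw [eq_bot_iff]
    have : ⁅fittingOf K, A⁆ = ⊥ := by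
      rw [commutator_comm, commutator_eq_bot_iff_le_centralizer]; exact h
    rw [← this]
    exact commutator_mono h5 le_rfl
  rw [commutator_comm, commutator_eq_bot_iff_le_centralizer] at h6
  exact h6

/-- (L6) -/
theorem pCoreOf_le_centralizer_oOf {s : ℕ} [hs : Fact s.Prime] (K : Subgroup G) :
    pCoreOf s K ≤ centralizer (oOf s K : Set G) := by
  apply le_centralizer_of_inf_eq_bot ((pCoreOf_le K).trans (le_normalizer_oOf K))
    ((oOf_le K).trans (le_normalizer_pCoreOf s K))
  rw [inf_comm]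
  exact SigCon.disj_of_coprime (isPGroup_pCoreOf s K) (coprime_card_oOf K)

theorem isPGroup_coprime {r s : ℕ} [hr : Fact r.Prime] [hs : Fact s.Prime] (hrs : r ≠ s) {X : Subgroup G}
    (hX : IsPGroup r X) : (Nat.card X).Coprime s := by
  obtain ⟨k, hk⟩ := IsPGroup.iff_card.mp hX
  rw [hk]
  exact Nat.Coprime.pow_left k ((Nat.coprime_primes hr.out hs.out).2 hrs)

/-- (Z) -/
theorem inf_eq_bot_of_fitting {t : ℕ} [ht : Fact t.Prime] {M Y : Subgroup G} (hM : Group.IsSolvable M)
    (hY : IsPGroup t Y) (hFY : fittingOf M ≤ normalizer (Y : Set G)) (h0 : Y ⊓ pCoreOf t M = ⊥) :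
    Y ⊓ M = ⊥ := by
  have hYM : IsPGroup t ↥(Y ⊓ M) := hY.to_le inf_le_left
  have h1 : Y ⊓ M ≤ centralizer (fittingOf M : Set G) := by
    apply le_centralizer_fittingOf
    intro r hr
    have : Fact r.Prime := ⟨hr⟩
    rw [← commutator_eq_bot_iff_le_centralizer, eq_bot_iff]
    have h2 : ⁅Y ⊓ M, pCoreOf r M⁆ ≤ Y :=
      (commutator_mono inf_le_left le_rfl).trans
        (commutator_le_left_of_le ((pCoreOf_le_fittingOf hr M).trans hFY))
    have h3 : ⁅Y ⊓ M, pCoreOf r M⁆ ≤ pCoreOf r M :=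
      (commutator_mono inf_le_right le_rfl).trans (commutator_le_right_of_le (le_normalizer_pCoreOf r M))
    refine (le_inf h2 h3).trans ?_
    by_cases hrt : t = r
    · subst hrt; exact h0.le
    · exact (inf_eq_bot_of_isPGroup hrt hY (isPGroup_pCoreOf r M)).le
  have h2 : Y ⊓ M ≤ pCoreOf t M := le_pCoreOf_of_centralizes hM hYM inf_le_right h1
  rw [eq_bot_iff, ← h0]
  exact le_inf inf_le_left h2

theorem isSolvable_sup {X Y : Subgroup G} (hX : Group.IsSolvable X) (hY : Group.IsSolvable Y)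
    (hn : Y ≤ normalizer (X : Set G)) : Group.IsSolvable ↥(X ⊔ Y) := by
  have hXn : (X.subgroupOf (X ⊔ Y)).Normal := by
    apply normal_subgroupOf_of_le_normalizer
    exact sup_le le_normalizer hn
  have h3 : Group.IsSolvable ↥(X.subgroupOf (X ⊔ Y)) :=
    Group.isSolvable_of_isSolvable_injective
      (f := (Subgroup.subgroupOfEquivOfLe (le_sup_left : X ≤ X ⊔ Y)).toMonoidHom)
      (Subgroup.subgroupOfEquivOfLe (le_sup_left : X ≤ X ⊔ Y)).injective
  have h4 : Group.IsSolvable (↥(X ⊔ Y) ⧸ X.subgroupOf (X ⊔ Y)) := by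
    have hsurj : Function.Surjective
        ((QuotientGroup.mk' (X.subgroupOf (X ⊔ Y))).comp
          (Subgroup.inclusion (le_sup_right : Y ≤ X ⊔ Y))) := by
      intro q
      obtain ⟨z, rfl⟩ := QuotientGroup.mk'_surjective _ q
      have hz := z.2
      rw [SubgroupTools.mem_sup_of_le_normalizer hn] at hz
      obtain ⟨x, hx, y, hy, hxy⟩ := hz
      refine ⟨⟨y, hy⟩, ?_⟩
      simp only [MonoidHom.comp_apply, QuotientGroup.mk'_apply]
      rw [QuotientGroup.eq, mem_subgroupOf]
      have h5 : ((((Subgroup.inclusion (le_sup_right : Y ≤ X ⊔ Y)) ⟨y, hy⟩)⁻¹ * z :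
          ↥(X ⊔ Y)) : G) = y⁻¹ * x * y := by
        rw [Subgroup.coe_mul, ← hxy]
        simp [mul_assoc]
      rw [h5]
      have h6 := (mem_normalizer_iff.mp (inv_mem (hn hy)) x).mp hx
      simpa using h6
    exact Group.isSolvable_of_surjective hsurj
  exact Group.isSolvable_of_ker_le_range (X.subgroupOf (X ⊔ Y)).subtype
    (QuotientGroup.mk' (X.subgroupOf (X ⊔ Y))) (by
      rw [QuotientGroup.ker_mk', range_subtype])

/-- (L4) a coprime operator group centralizing a Sylow `q`-subgroup of the solvable group `X`: `[X,A] ≤ O_{q'}(X)`. -/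
theorem commutator_le_oOf_of_sylow {q : ℕ} [hq : Fact q.Prime] {X A S : Subgroup G} (hX : Group.IsSolvable X)
    (hA : Group.IsSolvable A) (hAX : A ≤ normalizer (X : Set G)) (hcop : (Nat.card A).Coprime (Nat.card X))
    (hAq : (Nat.card A).Coprime q)
    (hSX : S ≤ X) (hSq : IsPGroup q S) (hSi : ¬ q ∣ S.relIndex X) (hAS : A ≤ centralizer (S : Set G)) :
    ⁅X, A⁆ ≤ oOf q X := by
  set Γ := X ⊔ A with hΓ
  have hXΓ : X ≤ Γ := le_sup_left
  have hAΓ : A ≤ Γ := le_sup_right
  have hΓs : Group.IsSolvable Γ := isSolvable_sup hX hA hAX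
  have hSΓ : S ≤ Γ := hSX.trans hXΓ
  -- `S` is a Sylow subgroup of `Γ`
  have hSiΓ : ¬ q ∣ S.relIndex Γ := by
    intro hd
    rw [← Subgroup.relIndex_mul_relIndex S X Γ hSX hXΓ] at hd
    rcases hq.out.dvd_mul.1 hd with h | h
    · exact hSi h
    · have h1 := SubgroupTools.card_sup_mul_card_inf hAX
      have h2 := SubgroupTools.card_mul_relIndex_of_le hXΓ
      have h3 : X.relIndex Γ ∣ Nat.card A := by
        have h4 : Nat.card X * X.relIndex Γ * Nat.card ↥(X ⊓ A) = Nat.card X * Nat.card A := by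
          rw [h2, h1]
        rw [mul_assoc] at h4
        exact ⟨_, (Nat.eq_of_mul_eq_mul_left Nat.card_pos h4).symm⟩
      have h5 : q ∣ 1 := by
        rw [← hAq]
        exact Nat.dvd_gcd (h.trans h3) dvd_rfl
      exact hq.out.one_lt.ne' (Nat.dvd_one.1 h5)
  have hS' : LocBase.IsSyl q (S.subgroupOf Γ) (⊤ : Subgroup Γ) := by
    refine ⟨le_top, hSq.comap_of_injective _ Γ.subtype_injective, ?_⟩
    rw [relIndex_top_right]
    exact hSiΓ
  have hsc : SigCon.SelfCent q (S.subgroupOf Γ) := by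
    rintro x hx ⟨k, hk⟩
    have hxq : IsPGroup q (zpowers x) := by
      intro ⟨y, hy⟩
      obtain ⟨n, rfl⟩ := mem_zpowers_iff.1 hy
      refine ⟨k, Subtype.ext ?_⟩
      change (x ^ n) ^ q ^ k = 1
      rw [← zpow_natCast, ← zpow_mul, mul_comm, zpow_mul, zpow_natCast, hk, one_zpow]
    have hsup := LocBase.isPGroup_sup (hSq.comap_of_injective _ Γ.subtype_injective : IsPGroup q (S.subgroupOf Γ)) hxq
      ((zpowers_le.2 hx).trans (centralizer_le_normalizer _))
    have h1 := hS'.eq_of_le hsup le_top le_sup_left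
    rw [h1]
    exact (le_sup_right : zpowers x ≤ _) (mem_zpowers x)
  have h1 : A.subgroupOf Γ ≤ pPrimeCore q Γ := by
    refine SigCon.le_core_of_commutator_le (SigP.isPConstrained_of_isSolvable hΓs) (A := S.subgroupOf Γ)
      (hSq.comap_of_injective _ Γ.subtype_injective) hsc ?_ ?_
    · rwa [SigCon.card_subgroupOf_of_le hAΓ]
    · have : ⁅A.subgroupOf Γ, S.subgroupOf Γ⁆ = ⊥ := by
        rw [commutator_eq_bot_iff_le_centralizer, ← ConstrainedLocal.subgroupOf_centralizer_eq hSΓ]
        exact Subgroup.comap_mono hAS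
      rw [this]; exact bot_le
  have h2 : A ≤ oOf q Γ := by
    have h2 := Subgroup.map_mono (f := Γ.subtype) h1
    rwa [Subgroup.map_subgroupOf_eq_of_le hAΓ] at h2
  have h3 : ⁅X, A⁆ ≤ oOf q Γ ⊓ X := by
    refine le_inf ?_ (commutator_le_left_of_le hAX)
    exact (commutator_mono le_rfl h2).trans (commutator_le_right_of_le (hXΓ.trans (le_normalizer_oOf Γ)))
  refine h3.trans (le_oOf inf_le_right ?_ ?_)
  · exact le_normalizer_inf (hXΓ.trans (le_normalizer_oOf Γ)) le_normalizer
  · exact Nat.Coprime.coprime_dvd_left (Subgroup.card_dvd_of_le inf_le_left) (coprime_card_oOf Γ)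

end Cfsg.Agent.Lib.SSF2
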