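import Cfsg.Agent.Lib.SSF2Three

/-!
# The solvable signalizer functor theorem for `p = 2` (helper46)
-/

set_option autoImplicit false
set_option linter.unusedSectionVars false

namespace Cfsg.Agent.Lib.SSF2

open Subgroup Cfsg
open Cfsg.Agent.Lib.LocBase (pCoreOf_le isPGroup_pCoreOf le_normalizer_pCoreOf normalizer_le_normalizer_pCoreOf
  commutator_le_left_of_le commutator_le_right_of_le le_normalizer_inf le_normalizer_centralizer le_normalizer_sup
  le_pCoreOf le_normalizer_commutator)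
open Cfsg.Agent.Lib.SigCon (oOf oOf_le le_oOf coprime_card_oOf le_normalizer_oOf)
open Cfsg.Agent.Lib.BG08 (fittingOf_le inf_centralizer_fittingOf_le le_centralizer_of_inf_eq_bot
  inf_eq_bot_of_isPGroup pCoreOf_le_centralizer_pCoreOf le_pCoreOf_of_le_fittingOf le_centralizer_fittingOf
  fittingOf_le_of_forall pCoreOf_le_fittingOf le_normalizer_fittingOf)
open Cfsg.Agent.Lib.Signalizer Cfsg.Agent.Lib.CoprimeHyper
open scoped commutatorElement Pointwise

universe u

variable {G : Type u} [Group G] [Finite G] {A : Subgroup G} {θ : G → Subgroup G}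

attribute [local instance] fact2

/-- the measure used in the induction -/
noncomputable def meas {G : Type u} [Group G] (A : Subgroup G) (θ : G → Subgroup G) : ℕ :=
  ∑ᶠ a : {a : G // a ∈ A ∧ a ≠ 1}, Nat.card (θ (a : G))

theorem finsum_lt {ι : Type*} [Finite ι] {f g : ι → ℕ} (hle : ∀ i, f i ≤ g i) (hlt : ∃ i, f i < g i) :
    ∑ᶠ i, f i < ∑ᶠ i, g i := by
  have := Fintype.ofFinite ι
  rw [finsum_eq_sum_of_fintype, finsum_eq_sum_of_fintype]
  obtain ⟨i, hi⟩ := hlt
  exact Finset.sum_lt_sum (fun i _ => hle i) ⟨i, Finset.mem_univ i, hi⟩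

theorem meas_lt {θ' : G → Subgroup G} (hle : ∀ a ∈ A, a ≠ 1 → θ' a ≤ θ a)
    (hne : ∃ a ∈ A, a ≠ 1 ∧ θ' a ≠ θ a) : meas A θ' < meas A θ := by
  apply finsum_lt
  · rintro ⟨a, ha, ha1⟩
    exact Subgroup.card_le_of_le (hle a ha ha1)
  · obtain ⟨a, ha, ha1, hn⟩ := hne
    refine ⟨⟨a, ha, ha1⟩, ?_⟩
    rcases (Subgroup.card_le_of_le (hle a ha ha1)).lt_or_eq with h' | h'
    · exact h'
    · exact absurd (Subgroup.eq_of_le_of_card_ge (hle a ha ha1) h'.ge) hn

section Quotient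

variable {X : Subgroup G}

/-- the image of a subgroup in `N(X)/X` -/
def bar (X K : Subgroup G) : Subgroup (↥(normalizer (X : Set G)) ⧸ X.subgroupOf (normalizer (X : Set G))) :=
  (K.subgroupOf (normalizer (X : Set G))).map (QuotientGroup.mk' (X.subgroupOf (normalizer (X : Set G))))

theorem mem_bar {K : Subgroup G} {y : ↥(normalizer (X : Set G)) ⧸ X.subgroupOf (normalizer (X : Set G))} :
    y ∈ bar X K ↔ ∃ k : ↥(normalizer (X : Set G)), (k : G) ∈ K ∧
      QuotientGroup.mk' (X.subgroupOf (normalizer (X : Set G))) k = y := Iff.rfl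

open Classical in
/-- a section of `A → bar A` -/
noncomputable def lift (A X : Subgroup G)
    (y : ↥(normalizer (X : Set G)) ⧸ X.subgroupOf (normalizer (X : Set G))) : G :=
  if h : ∃ k : ↥(normalizer (X : Set G)), (k : G) ∈ A ∧
      QuotientGroup.mk' (X.subgroupOf (normalizer (X : Set G))) k = y then (h.choose : G) else 1

theorem mk_eq_iff {k l : ↥(normalizer (X : Set G))} :
    QuotientGroup.mk' (X.subgroupOf (normalizer (X : Set G))) k =
      QuotientGroup.mk' (X.subgroupOf (normalizer (X : Set G))) l ↔ (k : G)⁻¹ * l ∈ X := by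
  rw [QuotientGroup.mk'_apply, QuotientGroup.mk'_apply, QuotientGroup.eq, mem_subgroupOf]
  rfl

theorem mk_inj (hA : IsElementaryAbelian 2 A) (hX : ¬ 2 ∣ Nat.card X) {k l : ↥(normalizer (X : Set G))}
    (hk : (k : G) ∈ A) (hl : (l : G) ∈ A)
    (h : QuotientGroup.mk' (X.subgroupOf (normalizer (X : Set G))) k =
      QuotientGroup.mk' (X.subgroupOf (normalizer (X : Set G))) l) : k = l := by
  rw [mk_eq_iff] at h
  have h1 : (k : G)⁻¹ * l ∈ A ⊓ X := mem_inf.2 ⟨A.mul_mem (A.inv_mem hk) hl, h⟩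
  have h2 : A ⊓ X = ⊥ := by
    apply Subgroup.inf_eq_bot_of_coprime
    exact elemAb_coprime hA hX
  rw [h2, mem_bot] at h1
  exact Subtype.ext (inv_mul_eq_one.1 h1)

theorem lift_mk (hA : IsElementaryAbelian 2 A) (hX : ¬ 2 ∣ Nat.card X) {k : ↥(normalizer (X : Set G))}
    (hk : (k : G) ∈ A) : lift A X (QuotientGroup.mk' (X.subgroupOf (normalizer (X : Set G))) k) = k := by
  have h : ∃ l : ↥(normalizer (X : Set G)), (l : G) ∈ A ∧
      QuotientGroup.mk' (X.subgroupOf (normalizer (X : Set G))) l =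
        QuotientGroup.mk' (X.subgroupOf (normalizer (X : Set G))) k := ⟨k, hk, rfl⟩
  unfold lift
  rw [dif_pos h]
  have h1 := h.choose_spec
  have h2 := mk_inj hA hX h1.1 hk h1.2
  exact congrArg Subtype.val h2

theorem bar_elem (hA : IsElementaryAbelian 2 A) : IsElementaryAbelian 2 (bar X A) := by
  refine ⟨?_, ?_⟩
  · rw [isMulCommutative_iff_of_setLike]
    rintro _ ⟨k, hk, rfl⟩ _ ⟨l, hl, rfl⟩
    rw [← map_mul, ← map_mul]
    congr 1
    exact Subtype.ext (elemAb_comm hA hk hl)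
  · rintro _ ⟨k, hk, rfl⟩
    rw [← map_pow]
    have : k ^ 2 = 1 := Subtype.ext (hA.2 k hk)
    rw [this, map_one]

theorem card_bar (hA : IsElementaryAbelian 2 A) (hX : ¬ 2 ∣ Nat.card X)
    (hAX : A ≤ normalizer (X : Set G)) : Nat.card (bar X A) = Nat.card A := by
  have hinj : Function.Injective ((QuotientGroup.mk' (X.subgroupOf (normalizer (X : Set G)))).comp
      (A.subgroupOf (normalizer (X : Set G))).subtype) := by
    intro k l hkl
    exact Subtype.ext (mk_inj hA hX k.2 l.2 hkl)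
  have h1 : bar X A = ((QuotientGroup.mk' (X.subgroupOf (normalizer (X : Set G)))).comp
      (A.subgroupOf (normalizer (X : Set G))).subtype).range := by
    rw [MonoidHom.range_comp, Subgroup.range_subtype]
    rfl
  rw [h1, ← Nat.card_congr (MonoidHom.ofInjective hinj).toEquiv]
  exact Nat.card_congr (subgroupOfEquivOfLe hAX).toEquiv

/-- elements of `bar K` centralized by the image of `b ∈ A` lift to fixed points of `b` -/
theorem exists_fixed (hA : IsElementaryAbelian 2 A) (hX : ¬ 2 ∣ Nat.card X)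
    (hAX : A ≤ normalizer (X : Set G)) {b : G} (hb : b ∈ A) {k : ↥(normalizer (X : Set G))}
    (h : QuotientGroup.mk' (X.subgroupOf (normalizer (X : Set G))) k ∈
      centralizer ({QuotientGroup.mk' (X.subgroupOf (normalizer (X : Set G))) ⟨b, hAX hb⟩} : Set _)) :
    ∃ c ∈ centralizer ({b} : Set G), (k : G)⁻¹ * c ∈ X := by
  have hXs : Group.IsSolvable (zpowers b) := elemAb_solvable (elemAb_zpowers (hA.2 b hb))
  have hbX : zpowers b ≤ normalizer (X : Set G) := zpowers_le.2 (hAX hb)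
  obtain ⟨c, hc, hcX⟩ := CoprimeAction.exists_mem_centralizer_of_quotient (A := zpowers b) (N := X) hbX
    (elemAb_coprime (elemAb_zpowers (hA.2 b hb)) hX) (Or.inl hXs) (k : G) k.2 (by
      intro y hy
      obtain ⟨n, rfl⟩ := mem_zpowers_iff.1 hy
      rw [mem_centralizer_singleton_iff] at h
      have h1 : Commute (QuotientGroup.mk' (X.subgroupOf (normalizer (X : Set G))) k)
        (QuotientGroup.mk' (X.subgroupOf (normalizer (X : Set G))) ⟨b, hAX hb⟩) := h
      have h2 := h1.zpow_right n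
      have h3 : QuotientGroup.mk' (X.subgroupOf (normalizer (X : Set G)))
          ((⟨b, hAX hb⟩ : ↥(normalizer (X : Set G))) ^ n * k * (⟨b, hAX hb⟩ ^ n)⁻¹ * k⁻¹) = 1 := by
        rw [map_mul, map_mul, map_mul, map_inv, map_inv, map_zpow, ← h2.eq]
        group
      have h4 : ((⟨b, hAX hb⟩ : ↥(normalizer (X : Set G))) ^ n * k * (⟨b, hAX hb⟩ ^ n)⁻¹ * k⁻¹) ∈
          X.subgroupOf (normalizer (X : Set G)) := (QuotientGroup.eq_one_iff _).1 h3
      rw [mem_subgroupOf] at h4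
      simpa using h4)
  rw [← centralizer_singleton_eq] at hc
  exact ⟨c, hc, hcX⟩

/-- the quotient functor -/
noncomputable def barTheta (A : Subgroup G) (θ : G → Subgroup G) (X : Subgroup G)
    (y : ↥(normalizer (X : Set G)) ⧸ X.subgroupOf (normalizer (X : Set G))) :
    Subgroup (↥(normalizer (X : Set G)) ⧸ X.subgroupOf (normalizer (X : Set G))) :=
  bar X (θ (lift A X y))

theorem barTheta_mk (hA : IsElementaryAbelian 2 A) (hX : ¬ 2 ∣ Nat.card X) {k : ↥(normalizer (X : Set G))}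
    (hk : (k : G) ∈ A) :
    barTheta A θ X (QuotientGroup.mk' (X.subgroupOf (normalizer (X : Set G))) k) = bar X (θ k) := by
  unfold barTheta
  rw [lift_mk hA hX hk]

theorem card_bar_dvd (K : Subgroup G) : Nat.card (bar X K) ∣ Nat.card K := by
  have h1 : Nat.card (bar X K) ∣ Nat.card (K.subgroupOf (normalizer (X : Set G))) := Subgroup.card_map_dvd _ _
  refine h1.trans ?_
  rw [SubgroupTools.card_subgroupOf]
  exact Subgroup.card_dvd_of_le inf_le_left

/-- members of the family of the quotient functor: `C(b) ∩ ⟨θ a, X⟩ ≤ θ b` -/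
theorem mem_theta_of_fixed (hA : IsElementaryAbelian 2 A) (hθ : IsSolvableSignalizerFunctor 2 A θ)
    (hX : X ∈ signalizerFamily 2 A θ) {a b : G} (ha : a ∈ A) (ha1 : a ≠ 1) (hb : b ∈ A) (hb1 : b ≠ 1)
    (hθX : θ a ≤ normalizer (X : Set G)) {x c : G} (hx : x ∈ θ a) (hxc : x⁻¹ * c ∈ X)
    (hc : c ∈ centralizer ({b} : Set G)) : c ∈ θ b := by
  have h1 := sup_mem hA hθ hX (theta_mem hθ ha ha1) hθX
  apply h1.2.2.2 b hb hb1
  refine mem_inf.2 ⟨?_, hc⟩
  have h2 : c = x * (x⁻¹ * c) := by group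
  rw [h2]
  exact mul_mem ((le_sup_right : θ a ≤ X ⊔ θ a) hx) ((le_sup_left : X ≤ X ⊔ θ a) hxc)

theorem bar_functor (hA : IsElementaryAbelian 2 A) (hθ : IsSolvableSignalizerFunctor 2 A θ)
    (hX : X ∈ signalizerFamily 2 A θ) (hall : ∀ a ∈ A, a ≠ 1 → θ a ≤ normalizer (X : Set G)) :
    IsSolvableSignalizerFunctor 2 (bar X A) (barTheta A θ X) := by
  have hAX := fam_normalizer hX
  have hX2 := hX.2.1
  have hne : ∀ k : ↥(normalizer (X : Set G)),
      QuotientGroup.mk' (X.subgroupOf (normalizer (X : Set G))) k ≠ 1 → (k : G) ≠ 1 := by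
    intro k hk h1
    apply hk
    have : k = 1 := Subtype.ext h1
    rw [this, map_one]
  refine ⟨⟨?_, ?_, ?_, ?_⟩, ?_⟩
  · rintro _ ⟨k, hk, rfl⟩ hk1
    rw [barTheta_mk hA hX2 hk]
    rintro _ ⟨x, hx, rfl⟩
    rw [mem_centralizer_singleton_iff, ← map_mul, ← map_mul]
    congr 1
    exact Subtype.ext (mem_centralizer_singleton_iff.1 (hθ.1.1 _ hk (hne k hk1) hx))
  · rintro _ ⟨k, hk, rfl⟩ hk1 hd
    rw [barTheta_mk hA hX2 hk] at hd
    exact hθ.1.2.1 _ hk (hne k hk1) (hd.trans (card_bar_dvd _))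
  · rintro _ ⟨k, hk, rfl⟩ hk1 _ ⟨l, hl, rfl⟩ x hx
    rw [barTheta_mk hA hX2 hk] at hx ⊢
    obtain ⟨x, hx, rfl⟩ := hx
    exact ⟨l * x * l⁻¹, hθ.1.2.2.1 _ hk (hne k hk1) _ hl _ hx, by simp⟩
  · rintro _ ⟨k, hk, rfl⟩ hk1 _ ⟨l, hl, rfl⟩ hl1 y hy
    rw [barTheta_mk hA hX2 hk] at hy
    rw [barTheta_mk hA hX2 hl]
    obtain ⟨⟨x, hx, rfl⟩, hxc⟩ := mem_inf.1 hy
    obtain ⟨c, hc, hcX⟩ := exists_fixed hA hX2 hAX hl hxc
    have hcθ : c ∈ θ l := mem_theta_of_fixed hA hθ hX hk (hne k hk1) hl (hne l hl1)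
      (hall _ hk (hne k hk1)) hx hcX hc
    refine ⟨⟨c, hall _ hl (hne l hl1) hcθ⟩, hcθ, ?_⟩
    rw [mk_eq_iff]
    have := inv_mem hcX
    simpa using this
  · rintro _ ⟨k, hk, rfl⟩ hk1
    rw [barTheta_mk hA hX2 hk]
    have h1 := hθ.2 _ hk (hne k hk1)
    have h2 : Group.IsSolvable ((θ k).subgroupOf (normalizer (X : Set G))) :=
      Group.isSolvable_of_isSolvable_injective
        (f := (Subgroup.subgroupOfEquivOfLe (hall _ hk (hne k hk1))).toMonoidHom)
        (Subgroup.subgroupOfEquivOfLe (hall _ hk (hne k hk1))).injective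
    exact Group.isSolvable_of_surjective
      (MonoidHom.subgroupMap_surjective _ ((θ k).subgroupOf (normalizer (X : Set G))))

/-- the bijection `A# ≃ (bar A)#` -/
noncomputable def sharpEquiv (hA : IsElementaryAbelian 2 A) (hX : ¬ 2 ∣ Nat.card X)
    (hAX : A ≤ normalizer (X : Set G)) :
    {a : G // a ∈ A ∧ a ≠ 1} ≃ {y : ↥(normalizer (X : Set G)) ⧸ X.subgroupOf (normalizer (X : Set G)) //
      y ∈ bar X A ∧ y ≠ 1} :=
  Equiv.ofBijective (fun a => ⟨QuotientGroup.mk' _ ⟨(a : G), hAX a.2.1⟩, ⟨⟨(a : G), hAX a.2.1⟩, a.2.1, rfl⟩, by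
    intro h1
    apply a.2.2
    have h2 := mk_inj (k := ⟨(a : G), hAX a.2.1⟩) (l := 1) hA hX a.2.1 (one_mem _) (by rw [h1, map_one])
    exact congrArg Subtype.val h2⟩) (by
    constructor
    · rintro ⟨a, ha, ha1⟩ ⟨b, hb, hb1⟩ hab
      have h1 := congrArg Subtype.val hab
      have h2 := mk_inj (k := ⟨a, hAX ha⟩) (l := ⟨b, hAX hb⟩) hA hX ha hb h1
      have h3 : a = b := congrArg Subtype.val h2
      exact Subtype.ext h3
    · rintro ⟨_, ⟨k, hk, rfl⟩, hk1⟩
      refine ⟨⟨(k : G), hk, ?_⟩, Subtype.ext rfl⟩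
      intro h1
      apply hk1
      have : k = 1 := Subtype.ext h1
      rw [this, map_one])

theorem meas_bar_lt (hA : IsElementaryAbelian 2 A) (hA2 : 2 < Nat.card A)
    (hX : X ∈ signalizerFamily 2 A θ) (hX1 : X ≠ ⊥) :
    meas (bar X A) (barTheta A θ X) < meas A θ := by
  have hAX := fam_normalizer hX
  have hX2 := hX.2.1
  have h1 : meas (bar X A) (barTheta A θ X) = ∑ᶠ a : {a : G // a ∈ A ∧ a ≠ 1}, Nat.card (bar X (θ (a : G))) := by
    unfold meas
    rw [← finsum_comp_equiv (sharpEquiv hA hX2 hAX)]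
    congr 1
    funext a
    change Nat.card (barTheta A θ X (QuotientGroup.mk' _ ⟨(a : G), hAX a.2.1⟩)) = _
    rw [barTheta_mk hA hX2 a.2.1]
  rw [h1]
  apply finsum_lt
  · intro a
    exact Nat.le_of_dvd Nat.card_pos (card_bar_dvd _)
  · -- some `θ a ∩ X ≠ 1`
    obtain ⟨a, ha, ha1, hne⟩ : ∃ a ∈ A, a ≠ 1 ∧ X ⊓ centralizer ({a} : Set G) ≠ ⊥ := by
      by_contra hcon
      push Not at hcon
      apply hX1
      rw [eq_bot_iff]
      apply gen hA hA2 hX2 hAX
      intro b hb hb1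
      exact (hcon b hb hb1).le
    obtain ⟨x, hx, hx1⟩ := exists_ne_one_of_ne_bot hne
    have hxθ : x ∈ θ a := hX.2.2.2 a ha ha1 hx
    refine ⟨⟨a, ha, ha1⟩, ?_⟩
    refine lt_of_le_of_ne (Nat.le_of_dvd Nat.card_pos (card_bar_dvd _)) ?_
    intro heq
    -- injectivity on `θ a ∩ N(X)`
    have h2 : Nat.card (bar X (θ a)) = Nat.card ((θ a).subgroupOf (normalizer (X : Set G))) := by
      apply le_antisymm
      · exact Nat.le_of_dvd Nat.card_pos (Subgroup.card_map_dvd _ _)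
      · rw [SubgroupTools.card_subgroupOf]
        refine (Subgroup.card_le_of_le inf_le_left).trans heq.ge
    have h3 := SubgroupTools.card_map_mul_card_inf_ker (QuotientGroup.mk' (X.subgroupOf (normalizer (X : Set G))))
      ((θ a).subgroupOf (normalizer (X : Set G)))
    change Nat.card (bar X (θ a)) * _ = _ at h3
    rw [← h2] at h3
    have h4 : Nat.card ↥((θ a).subgroupOf (normalizer (X : Set G)) ⊓
        (QuotientGroup.mk' (X.subgroupOf (normalizer (X : Set G)))).ker) = 1 := by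
      have h5 : Nat.card (bar X (θ a)) * Nat.card ↥((θ a).subgroupOf (normalizer (X : Set G)) ⊓
        (QuotientGroup.mk' (X.subgroupOf (normalizer (X : Set G)))).ker) = Nat.card (bar X (θ a)) * 1 := by
        rw [mul_one]; exact h3
      exact Nat.eq_of_mul_eq_mul_left Nat.card_pos h5
    rw [Subgroup.card_eq_one] at h4
    have hxX : x ∈ X := (mem_inf.1 hx).1
    have h5 : (⟨x, le_normalizer hxX⟩ : ↥(normalizer (X : Set G))) ∈ (θ a).subgroupOf (normalizer (X : Set G)) ⊓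
        (QuotientGroup.mk' (X.subgroupOf (normalizer (X : Set G)))).ker := by
      refine mem_inf.2 ⟨hxθ, ?_⟩
      rw [QuotientGroup.ker_mk', mem_subgroupOf]
      exact hxX
    rw [h4, mem_bot] at h5
    exact hx1 (congrArg Subtype.val h5)

/-- pulling back a completion of the quotient functor -/
theorem pull_back (hA : IsElementaryAbelian 2 A) (hθ : IsSolvableSignalizerFunctor 2 A θ)
    (hX : X ∈ signalizerFamily 2 A θ) (hall : ∀ a ∈ A, a ≠ 1 → θ a ≤ normalizer (X : Set G))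
    (hW : ∃ W ∈ signalizerFamily 2 (bar X A) (barTheta A θ X), ∀ y ∈ bar X A, y ≠ 1 → barTheta A θ X y ≤ W) :
    ∃ W ∈ signalizerFamily 2 A θ, ∀ a ∈ A, a ≠ 1 → θ a ≤ W := by
  obtain ⟨W, hW, hWall⟩ := hW
  have hAX := fam_normalizer hX
  have hX2 := hX.2.1
  set N := normalizer (X : Set G) with hN
  set π := QuotientGroup.mk' (X.subgroupOf N) with hπ
  have hXN : X ≤ N := le_normalizer
  have hXs : Group.IsSolvable X := hX.1
  have hker : π.ker = X.subgroupOf N := QuotientGroup.ker_mk' _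
  have hcardX : Nat.card (X.subgroupOf N) = Nat.card X := SigCon.card_subgroupOf_of_le hXN
  -- non-identity elements
  have hne : ∀ (a : G) (ha : a ∈ A), a ≠ 1 → π ⟨a, hAX ha⟩ ≠ 1 := by
    intro a ha ha1 h1
    apply ha1
    have h2 := mk_inj (k := ⟨a, hAX ha⟩) (l := 1) hA hX2 ha (one_mem _) (by rw [map_one]; exact h1)
    exact congrArg Subtype.val h2
  set V : Subgroup G := (W.comap π).map N.subtype with hV
  have hmemV : ∀ {x : G}, x ∈ V ↔ ∃ hx : x ∈ N, π ⟨x, hx⟩ ∈ W := by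
    intro x
    constructor
    · rintro ⟨k, hk, rfl⟩
      exact ⟨k.2, hk⟩
    · rintro ⟨hx, hxW⟩
      exact ⟨⟨x, hx⟩, hxW, rfl⟩
  have hθV : ∀ a ∈ A, a ≠ 1 → θ a ≤ V := by
    intro a ha ha1 x hx
    refine hmemV.2 ⟨hall a ha ha1 hx, ?_⟩
    have h1 := hWall _ ⟨⟨a, hAX ha⟩, ha, rfl⟩ (hne a ha ha1)
    rw [barTheta_mk (k := ⟨a, hAX ha⟩) hA hX2 ha] at h1
    exact h1 ⟨⟨x, hall a ha ha1 hx⟩, hx, rfl⟩
  refine ⟨V, ⟨?_, ?_, ?_, ?_⟩, hθV⟩
  · -- solvable
    have h1 : Group.IsSolvable W := hW.1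
    have h2 : Group.IsSolvable (X.subgroupOf N) :=
      Group.isSolvable_of_isSolvable_injective
        (f := (Subgroup.subgroupOfEquivOfLe hXN).toMonoidHom) (Subgroup.subgroupOfEquivOfLe hXN).injective
    have h3 : Group.IsSolvable (W.comap π) := by
      have hle : X.subgroupOf N ≤ W.comap π := by
        intro x hx
        change π x ∈ W
        have h4 : π x = 1 := (QuotientGroup.eq_one_iff _).2 hx
        rw [h4]; exact one_mem _
      refine Group.isSolvable_of_ker_le_range (Subgroup.inclusion hle) (π.subgroupComap W) ?_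
      intro x hx
      rw [MonoidHom.mem_ker] at hx
      have h4 : π (x : ↥N) = 1 := congrArg Subtype.val hx
      have h5 : (x : ↥N) ∈ X.subgroupOf N := (QuotientGroup.eq_one_iff _).1 h4
      exact ⟨⟨x, h5⟩, Subtype.ext rfl⟩
    exact Group.isSolvable_of_surjective (MonoidHom.subgroupMap_surjective N.subtype (W.comap π))
  · -- odd
    have h1 : Nat.card V = Nat.card (W.comap π) := card_map_of_injective N.subtype_injective
    rw [h1]
    have h2 := SubgroupTools.card_map_mul_card_inf_ker π (W.comap π)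
    rw [Subgroup.map_comap_eq_self_of_surjective (QuotientGroup.mk'_surjective _)] at h2
    rw [← h2]
    intro hd
    rcases Nat.prime_two.dvd_mul.1 hd with h3 | h3
    · exact hW.2.1 h3
    · apply hX2
      rw [← hcardX]
      refine h3.trans (Subgroup.card_dvd_of_le ?_)
      rw [hker]; exact inf_le_right
  · intro b hb u hu
    obtain ⟨hu1, hu2⟩ := hmemV.1 hu
    have hbN := hAX hb
    refine hmemV.2 ⟨mul_mem (mul_mem hbN hu1) (inv_mem hbN), ?_⟩
    have h1 := hW.2.2.1 (π ⟨b, hbN⟩) ⟨⟨b, hbN⟩, hb, rfl⟩ _ hu2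
    rw [← map_inv, ← map_mul, ← map_mul] at h1
    exact h1
  · intro a ha ha1 w hw
    obtain ⟨hw1, hw2⟩ := mem_inf.1 hw
    obtain ⟨hwN, hwW⟩ := hmemV.1 hw1
    have h1 : π ⟨w, hwN⟩ ∈ W ⊓ centralizer ({π ⟨a, hAX ha⟩} : Set _) := by
      refine mem_inf.2 ⟨hwW, ?_⟩
      rw [mem_centralizer_singleton_iff, ← map_mul, ← map_mul]
      congr 1
      exact Subtype.ext (mem_centralizer_singleton_iff.1 hw2)
    have h2 := hW.2.2.2 _ ⟨⟨a, hAX ha⟩, ha, rfl⟩ (hne a ha ha1) h1
    rw [barTheta_mk (k := ⟨a, hAX ha⟩) hA hX2 ha] at h2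
    obtain ⟨x, hx, hxw⟩ := h2
    have h3 := mk_eq_iff.1 hxw
    exact mem_theta_of_fixed hA hθ hX ha ha1 ha ha1 (hall a ha ha1) hx h3 hw2

end Quotient

theorem main_aux : ∀ (n : ℕ) (G : Type u) [Group G] [Finite G] (A : Subgroup G) (θ : G → Subgroup G),
    IsElementaryAbelian 2 A → Nat.card A = 8 → IsSolvableSignalizerFunctor 2 A θ → meas A θ = n →
    ∃ W ∈ signalizerFamily 2 A θ, ∀ a ∈ A, a ≠ 1 → θ a ≤ W := by
  intro n
  induction n using Nat.strong_induction_on with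
  | _ n ih =>
  intro G _ _ A θ hA h8 hθ hn
  by_contra hcon
  have hce : MinCE A θ := by
    refine ⟨hA, h8, hθ, ?_, ?_, ?_⟩
    · intro θ' hθ' hle hne
      exact ih (meas A θ') (by rw [← hn]; exact meas_lt hle hne) G A θ' hA h8 hθ' rfl
    · intro X hX hX1
      by_contra hno
      push Not at hno
      apply hcon
      apply pull_back hA hθ hX hno
      refine ih _ ?_ _ (bar X A) (barTheta A θ X) (bar_elem hA) ?_ (bar_functor hA hθ hX hno) rfl
      · rw [← hn]; exact meas_bar_lt hA (by omega) hX hX1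
      · rw [card_bar hA hX.2.1 (fam_normalizer hX), h8]
    · by_contra hno
      push Not at hno
      apply hcon
      refine ⟨⊥, bot_mem, ?_⟩
      intro a ha ha1
      exact (hno a ha ha1).le
  exact hce.false

/-- **The solvable signalizer functor theorem for `p = 2`** -/
theorem solvable_two {G : Type u} [Group G] [Finite G] {A : Subgroup G} {θ : G → Subgroup G}
    (hA : IsElementaryAbelian 2 A) (hA3 : 2 ^ 3 ≤ Nat.card A) (hθ : IsSolvableSignalizerFunctor 2 A θ) :
    ∃ W ∈ signalizerFamily 2 A θ, ∀ a ∈ A, a ≠ 1 → θ a ≤ W := by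
  -- a subgroup of order `8`
  have hAp := elemAb_isPGroup hA
  obtain ⟨k, hk⟩ := IsPGroup.iff_card.mp hAp
  have hdvd : 2 ^ 3 ∣ Nat.card A := by
    rw [hk] at hA3 ⊢
    exact pow_dvd_pow 2 ((Nat.pow_le_pow_iff_right (by norm_num)).1 hA3)
  obtain ⟨E₀, hE₀⟩ := Sylow.exists_subgroup_card_pow_prime (G := A) 2 hdvd
  set E : Subgroup G := E₀.map A.subtype with hE
  have hEA : E ≤ A := map_subtype_le _
  have hE8 : Nat.card E = 8 := by
    rw [hE, card_map_of_injective A.subtype_injective, hE₀]; norm_num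
  have hEe := elemAb_mono hA hEA
  have hθE : IsSolvableSignalizerFunctor 2 E θ :=
    ⟨⟨fun a ha => hθ.1.1 a (hEA ha), fun a ha => hθ.1.2.1 a (hEA ha),
      fun a ha ha1 b hb => hθ.1.2.2.1 a (hEA ha) ha1 b (hEA hb),
      fun a ha ha1 b hb hb1 => hθ.1.2.2.2 a (hEA ha) ha1 b (hEA hb) hb1⟩, fun a ha => hθ.2 a (hEA ha)⟩
  obtain ⟨W, hW, hWE⟩ := main_aux _ G E θ hEe hE8 hθE rfl
  have hWeq : W = ⨆ b : {b : G // b ∈ E ∧ b ≠ 1}, θ (b : G) := by
    apply le_antisymm
    · refine gen hEe (by omega) hW.2.1 (fam_normalizer hW) ?_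
      intro b hb hb1
      exact (hW.2.2.2 b hb hb1).trans (le_iSup (fun b : {b : G // b ∈ E ∧ b ≠ 1} => θ (b : G)) ⟨b, hb, hb1⟩)
    · exact iSup_le fun ⟨b, hb, hb1⟩ => hWE b hb hb1
  have hAW : A ≤ normalizer (W : Set G) := by
    rw [hWeq]
    exact iSup_le_normalizer fun ⟨b, hb, hb1⟩ => theta_normalizer hθ.1 (hEA hb) hb1
  refine ⟨W, ⟨hW.1, hW.2.1, le_normalizer_iff.1 hAW, ?_⟩, ?_⟩
  · intro a ha ha1
    have hEa : E ≤ normalizer ((W ⊓ centralizer ({a} : Set G) : Subgroup G) : Set G) := by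
      apply le_normalizer_inf (fam_normalizer hW)
      refine le_trans ?_ le_normalizer
      intro x hx
      rw [mem_centralizer_singleton_iff]
      exact elemAb_comm hA (hEA hx) ha
    apply gen hEe (by omega) (fun hd => hW.2.1 (hd.trans (Subgroup.card_dvd_of_le inf_le_left))) hEa
    intro e he he1
    refine le_trans ?_ (hθ.1.2.2.2 e (hEA he) he1 a ha ha1)
    refine le_inf ?_ (inf_le_left.trans inf_le_right)
    exact (inf_le_inf_right _ inf_le_left).trans (hW.2.2.2 e he he1)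
  · intro a ha ha1
    apply gen hEe (by omega) (hθ.1.2.1 a ha ha1) (hEA.trans (theta_normalizer hθ.1 ha ha1))
    intro e he he1
    exact (hθ.1.2.2.2 a ha ha1 e (hEA he) he1).trans (hWE e he he1)

end Cfsg.Agent.Lib.SSF2
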