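import Cfsg.Agent.Lib.SSF2Base

/-!
# Solvable signalizer functors for `p = 2`: the subgroups `N_c`, the members `G_v` (helper46)
-/

set_option autoImplicit false
set_option linter.unusedSectionVars false

namespace Cfsg.Agent.Lib.SSF2

open Subgroup Cfsg
open Cfsg.Agent.Lib.LocBase (pCoreOf_le isPGroup_pCoreOf le_normalizer_pCoreOf normalizer_le_normalizer_pCoreOf
  commutator_le_left_of_le commutator_le_right_of_le le_normalizer_inf le_normalizer_centralizer le_normalizer_sup
  le_pCoreOf le_normalizer_commutator)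
open Cfsg.Agent.Lib.SigCon (oOf oOf_le le_oOf coprime_card_oOf le_normalizer_oOf)
open Cfsg.Agent.Lib.BG08 (fittingOf_le inf_centralizer_fittingOf_le le_centralizer_of_inf_eq_bot
  inf_eq_bot_of_isPGroup pCoreOf_le_centralizer_pCoreOf le_pCoreOf_of_le_fittingOf le_centralizer_fittingOf
  fittingOf_le_of_forall pCoreOf_le_fittingOf le_normalizer_fittingOf)
open Cfsg.Agent.Lib.Signalizer Cfsg.Agent.Lib.CoprimeHyper
open scoped commutatorElement

universe u

variable {G : Type u} [Group G] [Finite G] {A : Subgroup G} {θ : G → Subgroup G}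

attribute [local instance] fact2

theorem iSup_le_normalizer {ι : Type*} {f : ι → Subgroup G} {K : Subgroup G}
    (h : ∀ i, K ≤ normalizer (f i : Set G)) : K ≤ normalizer ((⨆ i, f i : Subgroup G) : Set G) := by
  intro k hk
  rw [mem_normalizer_iff_map_conj_eq, Subgroup.map_iSup]
  congr 1
  funext i
  exact mem_normalizer_iff_map_conj_eq.mp (h i hk)

theorem sSup_le_normalizer {S : Set (Subgroup G)} {K : Subgroup G}
    (h : ∀ Y ∈ S, K ≤ normalizer (Y : Set G)) : K ≤ normalizer ((sSup S : Subgroup G) : Set G) := by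
  rw [sSup_eq_iSup']
  exact iSup_le_normalizer fun ⟨Y, hY⟩ => h Y hY

theorem le_normalizer_zpowers_of_centralizer {K : Subgroup G} {c : G} (h : K ≤ centralizer ({c} : Set G)) :
    K ≤ normalizer (zpowers c : Set G) := by
  refine le_trans h ?_
  rw [centralizer_singleton_eq]
  exact centralizer_le_normalizer _

namespace MinCE

variable (h : MinCE A θ)

include h

theorem theta_le_normalizer_Nc {c : G} (hc : c ∈ A) (hc1 : c ≠ 1) {d : G} (hd : d ∈ A) (hd1 : d ≠ 1) :
    θ d ≤ normalizer (Nc A θ c : Set G) := by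
  have hmem := theta_mem h.func hd hd1
  apply le_of_hyper h.elem hmem.2.1 (fam_normalizer hmem)
  intro B hBA hBi
  have hXle : ∀ y ∈ B, y ≠ 1 → θ d ⊓ centralizer (B : Set G) ≤ θ y := by
    intro y hy hy1
    refine le_trans (inf_le_inf_left _ (centralizer_le ?_)) (hmem.2.2.2 y (hBA hy) hy1)
    intro x hx
    rw [Set.mem_singleton_iff] at hx
    rw [hx]; exact hy
  have hcardB : 4 ≤ Nat.card B := by
    have h1 := SubgroupTools.card_mul_relIndex_of_le hBA
    rw [h.card] at h1
    have : B.relIndex A ≤ 2 := hBi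
    nlinarith
  by_cases hcB : c ∈ B
  · -- a second element of `B`
    obtain ⟨y, hyB, hy1, hyc⟩ : ∃ y ∈ B, y ≠ 1 ∧ y ≠ c := by
      by_contra hcon
      push Not at hcon
      have h1 : (B : Set G) ⊆ {1, c} := by
        intro y hy
        by_cases hy1 : y = 1
        · exact Or.inl hy1
        · exact Or.inr (hcon y hy hy1)
      have h2 : Nat.card B ≤ 2 := by
        have h3 := Set.ncard_le_ncard h1 (Set.toFinite _)
        have h4 : ({1, c} : Set G).ncard ≤ 2 := (Set.ncard_insert_le 1 {c}).trans (by rw [Set.ncard_singleton])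
        exact h3.trans h4
      omega
    have hcy : c * y ≠ 1 := by
      intro h1
      apply hyc
      have := h.sq hc
      rw [← this] at h1
      exact (mul_left_cancel h1)
    have hyA := hBA hyB
    have hN : Nc A θ c = ⁅θ y, zpowers c⁆ ⊔ ⁅θ (c * y), zpowers c⁆ := by
      apply le_antisymm
      · exact h.Nc_le_of_line hc hyA hy1 hcy le_sup_left le_sup_right
      · exact sup_le (le_Nc hyA hy1) (le_Nc (mul_mem hc hyA) hcy)
    rw [hN]
    have hXc : θ d ⊓ centralizer (B : Set G) ≤ normalizer (zpowers c : Set G) := by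
      apply le_normalizer_zpowers_of_centralizer
      refine inf_le_right.trans (centralizer_le ?_)
      intro x hx
      rw [Set.mem_singleton_iff] at hx
      rw [hx]; exact hcB
    apply le_normalizer_sup
    · exact le_normalizer_commutator ((hXle y hyB hy1).trans le_normalizer) hXc
    · exact le_normalizer_commutator ((hXle (c * y) (mul_mem hcB hyB) hcy).trans le_normalizer) hXc
  · -- `c ∉ B`: `A = B ⟨c⟩`
    have hAB : A ≤ B ⊔ zpowers c := by
      have h1 : B ⊔ zpowers c ≤ A := sup_le hBA (zpowers_le.2 hc)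
      have h2 := Subgroup.relIndex_mul_relIndex B (B ⊔ zpowers c) A le_sup_left h1
      have h3 : B.relIndex (B ⊔ zpowers c) ≠ 1 := by
        intro h4
        rw [relIndex_eq_one] at h4
        exact hcB (h4 ((le_sup_right : zpowers c ≤ _) (mem_zpowers c)))
      have h5 : B.relIndex (B ⊔ zpowers c) ≠ 0 := index_ne_zero_of_finite
      have h6 : (B ⊔ zpowers c).relIndex A ≠ 0 := index_ne_zero_of_finite
      have h7 : (B ⊔ zpowers c).relIndex A = 1 := by
        have : B.relIndex A ≤ 2 := hBi
        rw [← h2] at this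
        by_contra h8
        have h9 : 2 ≤ (B ⊔ zpowers c).relIndex A := by omega
        have h10 : 2 ≤ B.relIndex (B ⊔ zpowers c) := by omega
        nlinarith
      exact relIndex_eq_one.1 h7
    set X := θ d ⊓ centralizer (B : Set G) with hX
    have hXA : A ≤ normalizer (X : Set G) := le_normalizer_inf_centralizer h.elem hBA (fam_normalizer hmem)
    have hXm : X ∈ signalizerFamily 2 A θ := mem_of_le hmem inf_le_left hXA
    have hcz : IsPGroup 2 (zpowers c) := elemAb_isPGroup (elemAb_zpowers (h.elem.2 c hc))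
    have hcop : (Nat.card (zpowers c)).Coprime (Nat.card X) := elemAb_coprime (elemAb_zpowers (h.elem.2 c hc)) hXm.2.1
    have hdec := CoprimeAction2.commutator_sup_centralizer (A := zpowers c) (K := X)
      (zpowers_le_normalizer hc hXA) hcop (Or.inr hXm.1)
    rw [← hdec]
    apply sup_le
    · refine le_trans ?_ le_normalizer
      exact (commutator_mono inf_le_left le_rfl).trans (le_Nc hd hd1)
    · -- `C_X(c) ≤ D`
      have h1 : X ⊓ centralizer (zpowers c : Set G) ≤ signalizerInf A θ := by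
        refine le_trans ?_ (fam_fixed_le hXm)
        refine le_inf inf_le_left ?_
        refine le_trans ?_ (centralizer_le hAB)
        rw [le_centralizer_iff]
        apply sup_le
        · rw [← le_centralizer_iff]
          exact inf_le_left.trans inf_le_right
        · rw [← le_centralizer_iff]
          exact inf_le_right
      refine h1.trans ?_
      apply iSup_le_normalizer
      rintro ⟨b, hb, hb1⟩
      apply le_normalizer_commutator
      · exact (signalizerInf_le hb hb1).trans le_normalizer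
      · apply le_normalizer_zpowers_of_centralizer
        refine (signalizerInf_le_centralizer h.func.1 le_rfl).trans (centralizer_le ?_)
        intro x hx
        rw [Set.mem_singleton_iff] at hx
        rw [hx]; exact hc

/-- no member contains `N_c` -/
theorem not_Nc_le {c : G} (hc : c ∈ A) (hc1 : c ≠ 1) {M : Subgroup G} (hM : M ∈ signalizerFamily 2 A θ)
    (hle : Nc A θ c ≤ M) : False := by
  have hAN : A ≤ normalizer (Nc A θ c : Set G) :=
    iSup_le_normalizer fun ⟨b, hb, hb1⟩ => h.A_le_normalizer_comm hb hb1 hc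
  have hmem : Nc A θ c ∈ signalizerFamily 2 A θ := mem_of_le hM hle hAN
  by_cases h0 : Nc A θ c = ⊥
  · apply h.not_all_le (theta_mem h.func hc hc1)
    intro b hb hb1
    have h1 : ⁅θ b, zpowers c⁆ ≤ ⊥ := by rw [← h0]; exact le_Nc hb hb1
    rw [le_bot_iff, commutator_eq_bot_iff_le_centralizer, ← centralizer_singleton_eq] at h1
    exact (le_inf le_rfl h1).trans (h.func.1.2.2.2 b hb hb1 c hc hc1)
  · obtain ⟨a, ha, ha1, hn⟩ := h.quot _ hmem h0
    exact hn (h.theta_le_normalizer_Nc hc hc1 ha ha1)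

/-- no element of `A#` has all its commutators in a member. -/
theorem not_comm_le {c : G} (hc : c ∈ A) (hc1 : c ≠ 1) {M : Subgroup G} (hM : M ∈ signalizerFamily 2 A θ)
    (hle : ∀ b ∈ A, b ≠ 1 → ⁅θ b, zpowers c⁆ ≤ M) : False :=
  h.not_Nc_le hc hc1 hM (iSup_le fun ⟨b, hb, hb1⟩ => hle b hb hb1)

/-- `|P_M| ≤ 1` -/
theorem eq_of_theta_le {M : Subgroup G} (hM : M ∈ signalizerFamily 2 A θ) {a b : G} (ha : a ∈ A) (ha1 : a ≠ 1)
    (hb : b ∈ A) (hb1 : b ≠ 1) (haM : θ a ≤ M) (hbM : θ b ≤ M) : a = b := by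
  by_contra hab
  set c := a * b with hc
  have hcA : c ∈ A := mul_mem ha hb
  have hc1 : c ≠ 1 := by
    intro h1
    apply hab
    have := h.sq hb
    rw [← this] at h1
    exact mul_right_cancel h1
  have hcb : c * b = a := by rw [hc, mul_assoc, h.sq hb, mul_one]
  apply h.not_Nc_le hcA hc1 hM
  apply h.Nc_le_of_line hcA hb hb1 (by rw [hcb]; exact ha1)
  · exact (commutator_le_left_of_le ((zpowers_le.2 hcA).trans (theta_normalizer h.func.1 hb hb1))).trans hbM
  · rw [hcb]
    exact (commutator_le_left_of_le ((zpowers_le.2 hcA).trans (theta_normalizer h.func.1 ha ha1))).trans haM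

end MinCE

/-! ### the functors `θ_{v'}` -/

/-- the largest `AD`-invariant `v'`-subgroup of `θ a` -/
def thetaV (A : Subgroup G) (θ : G → Subgroup G) (v : ℕ) (a : G) : Subgroup G :=
  sSup {Y | Y ≤ θ a ∧ A ≤ normalizer (Y : Set G) ∧ signalizerInf A θ ≤ normalizer (Y : Set G) ∧
    (Nat.card Y).Coprime v}

theorem thetaV_le {v : ℕ} {a : G} : thetaV A θ v a ≤ θ a := sSup_le fun _ hY => hY.1

namespace MinCE

variable (h : MinCE A θ)

include h

theorem thetaV_coprime {v : ℕ} (hv : v.Prime) {a : G} (ha : a ∈ A) (ha1 : a ≠ 1) :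
    (Nat.card (thetaV A θ v a)).Coprime v := by
  have hmem := theta_mem h.func ha ha1
  have hAX := fam_normalizer hmem
  have hcop := elemAb_coprime h.elem hmem.2.1
  obtain ⟨H, hH, hAH⟩ := CopHall.exists_invariant_hall hAX hcop hmem.1 {p | p ≠ v}
  have hle : thetaV A θ v a ≤ H := by
    apply sSup_le
    rintro Y ⟨hY1, hY2, hY3, hY4⟩
    obtain ⟨H', hH', hAH', hYH'⟩ := CopHall.exists_invariant_hall_ge hAX hcop hmem.1 {p | p ≠ v} Y hY1 hY2 (by
      intro p hp hpY
      rintro rfl
      have : p ∣ 1 := by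
        rw [← hY4]; exact Nat.dvd_gcd hpY dvd_rfl
      exact hp.one_lt.ne' (Nat.dvd_one.1 this))
    obtain ⟨c, hc, hcH⟩ := CopHall.invariant_hall_conj hAX hcop hmem.1 hH' hAH' hH hAH
    have hcD : c ∈ signalizerInf A θ := fam_fixed_le hmem hc
    rw [hcH]
    have h1 : Y = Y.map (MulAut.conj c).toMonoidHom := (LocBase.map_conj_eq_of_mem (hY3 hcD)).symm
    rw [h1]
    exact Subgroup.map_mono hYH'
  have hHv : (Nat.card H).Coprime v := by
    rw [Nat.coprime_comm, hv.coprime_iff_not_dvd]
    intro hd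
    have := hH.2.1 v hv hd
    exact this rfl
  exact Nat.Coprime.coprime_dvd_left (Subgroup.card_dvd_of_le hle) hHv

omit h in
theorem le_thetaV {v : ℕ} {a : G} {Y : Subgroup G} (h1 : Y ≤ θ a) (h2 : A ≤ normalizer (Y : Set G))
    (h3 : signalizerInf A θ ≤ normalizer (Y : Set G)) (h4 : (Nat.card Y).Coprime v) : Y ≤ thetaV A θ v a :=
  le_sSup ⟨h1, h2, h3, h4⟩

theorem thetaV_functor {v : ℕ} (hv : v.Prime) : IsSolvableSignalizerFunctor 2 A (thetaV A θ v) := by
  have hθ := h.func
  have hAn : ∀ a, A ≤ normalizer (thetaV A θ v a : Set G) := fun a => sSup_le_normalizer fun Y hY => hY.2.1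
  have hDn : ∀ a, signalizerInf A θ ≤ normalizer (thetaV A θ v a : Set G) :=
    fun a => sSup_le_normalizer fun Y hY => hY.2.2.1
  refine ⟨⟨?_, ?_, ?_, ?_⟩, ?_⟩
  · intro a ha ha1
    exact thetaV_le.trans (hθ.1.1 a ha ha1)
  · intro a ha ha1 hd
    exact hθ.1.2.1 a ha ha1 (hd.trans (Subgroup.card_dvd_of_le thetaV_le))
  · intro a ha ha1 b hb x hx
    exact conj_mem_of_mem_normalizer (hAn a hb) x hx
  · intro a ha ha1 b hb hb1
    apply le_thetaV
    · exact (inf_le_inf_right _ thetaV_le).trans (hθ.1.2.2.2 a ha ha1 b hb hb1)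
    · apply le_normalizer_inf (hAn a)
      refine le_trans ?_ le_normalizer
      intro x hx
      rw [mem_centralizer_singleton_iff]
      exact h.comm hx hb
    · apply le_normalizer_inf (hDn a)
      refine le_trans ?_ le_normalizer
      refine (signalizerInf_le_centralizer h.func.1 le_rfl).trans (centralizer_le ?_)
      intro x hx
      rw [Set.mem_singleton_iff] at hx
      rw [hx]; exact hb
    · exact Nat.Coprime.coprime_dvd_left (Subgroup.card_dvd_of_le inf_le_left) (h.thetaV_coprime hv ha ha1)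
  · intro a ha ha1
    exact SubgroupTools.isSolvable_of_le thetaV_le (hθ.2 a ha ha1)

/-- for `v ∈ π` there is `G_v ∈ MM` containing all the `D`-invariant `v'`-members -/
theorem exists_Gv {v : ℕ} (hv : v.Prime) (hvπ : ∃ a ∈ A, a ≠ 1 ∧ v ∣ Nat.card (θ a)) :
    ∃ M, MM A θ M ∧ ∀ Y ∈ signalizerFamily 2 A θ, signalizerInf A θ ≤ normalizer (Y : Set G) →
      (Nat.card Y).Coprime v → Y ≤ M := by
  obtain ⟨a, ha, ha1, hva⟩ := hvπ
  obtain ⟨W, hW, hWa⟩ := h.sub (thetaV A θ v) (h.thetaV_functor hv) (fun a _ _ => thetaV_le) ⟨a, ha, ha1, by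
    intro heq
    have h1 := h.thetaV_coprime hv ha ha1
    rw [heq, Nat.coprime_comm, hv.coprime_iff_not_dvd] at h1
    exact h1 hva⟩
  have hWm : W ∈ signalizerFamily 2 A θ :=
    ⟨hW.1, hW.2.1, hW.2.2.1, fun a ha ha1 => (hW.2.2.2 a ha ha1).trans thetaV_le⟩
  -- `W` is generated by the `thetaV a`, so `D` normalizes it
  have hWeq : W = ⨆ b : {b : G // b ∈ A ∧ b ≠ 1}, thetaV A θ v (b : G) := by
    apply le_antisymm
    · refine gen h.elem (by rw [h.card]; norm_num) hW.2.1 (fam_normalizer hW) ?_
      intro b hb hb1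
      exact (hW.2.2.2 b hb hb1).trans
        (le_iSup (fun b : {b : G // b ∈ A ∧ b ≠ 1} => thetaV A θ v (b : G)) ⟨b, hb, hb1⟩)
    · exact iSup_le fun ⟨b, hb, hb1⟩ => hWa b hb hb1
  have hDW : signalizerInf A θ ≤ normalizer (W : Set G) := by
    rw [hWeq]
    exact iSup_le_normalizer fun b => sSup_le_normalizer fun Y hY => hY.2.2.1
  obtain ⟨M, hM, hWM⟩ := h.exists_ge hWm hDW
  refine ⟨M, hM, ?_⟩
  intro Y hY hDY hYv
  refine le_trans ?_ hWM
  refine gen h.elem (by rw [h.card]; norm_num) hY.2.1 (fam_normalizer hY) ?_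
  intro b hb hb1
  refine le_trans ?_ (hWa b hb hb1)
  apply le_thetaV (hY.2.2.2 b hb hb1)
  · apply le_normalizer_inf (fam_normalizer hY)
    refine le_trans ?_ le_normalizer
    intro x hx
    rw [mem_centralizer_singleton_iff]
    exact h.comm hx hb
  · apply le_normalizer_inf hDY
    refine le_trans ?_ le_normalizer
    refine (signalizerInf_le_centralizer h.func.1 le_rfl).trans (centralizer_le ?_)
    intro x hx
    rw [Set.mem_singleton_iff] at hx
    rw [hx]; exact hb
  · exact Nat.Coprime.coprime_dvd_left (Subgroup.card_dvd_of_le inf_le_left) hYv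

end MinCE

end Cfsg.Agent.Lib.SSF2
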