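import Cfsg.Agent.Lib.SSF2Grow

/-!
# Solvable signalizer functors for `p = 2`: terminal members (helper46)
-/

set_option autoImplicit false
set_option linter.unusedSectionVars false

namespace Cfsg.Agent.Lib.SSF2

open Subgroup Cfsg
open Cfsg.Agent.Lib.LocBase (pCoreOf_le isPGroup_pCoreOf le_normalizer_pCoreOf normalizer_le_normalizer_pCoreOf
  commutator_le_left_of_le commutator_le_right_of_le le_normalizer_inf le_normalizer_centralizer le_normalizer_sup
  le_pCoreOf le_normalizer_commutator)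
open Cfsg.Agent.Lib.SigCon (oOf oOf_le le_oOf coprime_card_oOf le_normalizer_oOf)
open Cfsg.Agent.Lib.BG08 (fittingOf_le inf_centralizer_fittingOf_le le_centralizer_of_inf_eq_bot
  inf_eq_bot_of_isPGroup pCoreOf_le_centralizer_pCoreOf le_pCoreOf_of_le_fittingOf le_centralizer_fittingOf
  fittingOf_le_of_forall pCoreOf_le_fittingOf le_normalizer_fittingOf)
open Cfsg.Agent.Lib.Signalizer Cfsg.Agent.Lib.CoprimeHyper
open scoped commutatorElement Pointwise

universe u

variable {G : Type u} [Group G] [Finite G] {A : Subgroup G} {θ : G → Subgroup G}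

attribute [local instance] fact2

/-- at least two primes `t` with `O_t(M) ≠ 1` -/
def Mixed (M : Subgroup G) : Prop :=
  ∃ s r : ℕ, s.Prime ∧ r.Prime ∧ r ≠ s ∧ pCoreOf s M ≠ ⊥ ∧ pCoreOf r M ≠ ⊥

def Pure (w : ℕ) (M : Subgroup G) : Prop := ∀ u : ℕ, u.Prime → u ≠ w → pCoreOf u M = ⊥

/-- mixed terminal -/
def Term (A : Subgroup G) (θ : G → Subgroup G) (N : Subgroup G) : Prop :=
  Mixed N ∧ ∀ H, MM A θ H → fittingOf N ≤ H → H = N

/-- `H` contains all the `D`-invariant `w`-members -/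
def ContW (A : Subgroup G) (θ : G → Subgroup G) (w : ℕ) (H : Subgroup G) : Prop :=
  ∀ Y ∈ signalizerFamily 2 A θ, IsPGroup w Y → signalizerInf A θ ≤ normalizer (Y : Set G) → Y ≤ H

/-- strongly pure of type `w` -/
def SPure (A : Subgroup G) (θ : G → Subgroup G) (w : ℕ) (N : Subgroup G) : Prop :=
  Pure w N ∧ ∀ H, MM A θ H → ContW A θ w H → Pure w H

theorem fitting_le_of_pure {w : ℕ} {M K : Subgroup G} (hM : Pure w M) (h : pCoreOf w M ≤ K) : fittingOf M ≤ K := by
  apply fittingOf_le_of_forall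
  intro u hu
  by_cases huw : u = w
  · subst huw; exact h
  · rw [hM u hu huw]; exact bot_le

namespace MinCE

variable (h : MinCE A θ)

include h

theorem D_inv {M : Subgroup G} (hM : MM A θ M) (t : ℕ) :
    signalizerInf A θ ≤ normalizer (pCoreOf t M : Set G) :=
  hM.D_le.trans (le_normalizer_pCoreOf t M)

theorem mixed_or_pure {M : Subgroup G} (hM : MM A θ M) : Mixed M ∨ ∃ w : ℕ, w.Prime ∧ Pure w M := by
  obtain ⟨w, hw, hwM⟩ := h.exists_pCoreOf_ne hM
  by_cases hp : Pure w M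
  · exact Or.inr ⟨w, hw, hp⟩
  · left
    unfold Pure at hp
    push Not at hp
    obtain ⟨u, hu, huw, hu1⟩ := hp
    exact ⟨w, u, hw, hu, huw, hwM, hu1⟩

theorem not_pure_of_mixed {M : Subgroup G} (hM : Mixed M) {w : ℕ} (hp : Pure w M) : False := by
  obtain ⟨s, r, hs, hr, hrs, h1, h2⟩ := hM
  by_cases hsw : s = w
  · subst hsw
    exact h2 (hp r hr hrs)
  · exact h1 (hp s hs hsw)

/-- the members `N_b` -/
theorem exists_good {b : G} (hb : b ∈ A) (hb1 : b ≠ 1) :
    ∃ N, MM A θ N ∧ θ b ≤ N ∧ (Term A θ N ∨ ∃ w : ℕ, w.Prime ∧ SPure A θ w N) := by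
  have hbm := theta_mem h.func hb hb1
  obtain ⟨M₀, hM₀, hbM₀⟩ := h.exists_ge hbm ((signalizerInf_le hb hb1).trans le_normalizer)
  obtain ⟨N, ⟨hN, hbN⟩, hmax⟩ := Set.Finite.exists_maximalFor (fun M : Subgroup G => (tauF b M).card)
    {M : Subgroup G | MM A θ M ∧ θ b ≤ M} (Set.toFinite _) ⟨M₀, hM₀, hbM₀⟩
  have hno : ∀ L, MM A θ L → θ b ≤ L → ¬ tauF b N ⊂ tauF b L := by
    intro L hL hbL hlt
    have h1 := Finset.card_lt_card hlt
    have h2 := hmax ⟨hL, hbL⟩ h1.le
    exact absurd h1 (not_lt.2 h2)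
  refine ⟨N, hN, hbN, ?_⟩
  rcases h.mixed_or_pure hN with hmix | ⟨w, hw, hp⟩
  · left
    refine ⟨hmix, ?_⟩
    intro H hH hNH
    by_contra hne
    obtain ⟨s, r, hs, hr, hrs, hsN, hrN⟩ := hmix
    have : Fact s.Prime := ⟨hs⟩
    have : Fact r.Prime := ⟨hr⟩
    obtain ⟨t, ht, htH, htN⟩ := h.exists_new_prime hN hH hrs hsN hrN hNH hne
    have : Fact t.Prime := ⟨ht⟩
    obtain ⟨L, hL, hbL, hlt⟩ := h.growth hN hH hb hb1 hbN hNH htH htN (Or.inl ⟨s, r, hs, hr, hrs, hsN, hrN⟩)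
    exact hno L hL hbL hlt
  · right
    refine ⟨w, hw, hp, ?_⟩
    intro H hH hwH t ht htw
    by_contra htH
    have : Fact t.Prime := ⟨ht⟩
    obtain ⟨L, hL, hbL, hlt⟩ := h.growth hN hH hb hb1 hbN
      (fitting_le_of_pure hp (hwH _ (pCoreOf_mem hN.mem w) (isPGroup_pCoreOf w N) (h.D_inv hN w)))
      htH (hp t ht htw) (Or.inr ⟨w, hw, hp, hwH⟩)
    exact hno L hL hbL hlt

/-- (Q_t) -/
theorem le_of_Qt {N : Subgroup G} (hN : MM A θ N) (hT : Term A θ N) {b : G} (hb : b ∈ A) (hb1 : b ≠ 1)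
    (hbN : θ b ≤ N) {t : ℕ} [ht : Fact t.Prime] (htN : ¬ pCoreOf t N ≤ centralizer ({b} : Set G)) {s : ℕ}
    [hs : Fact s.Prime] (hst : s ≠ t) {Y : Subgroup G} (hY : Y ∈ signalizerFamily 2 A θ) (hYs : IsPGroup s Y)
    (htY : pCoreOf t N ≤ normalizer (Y : Set G)) : Y ≤ N := by
  obtain ⟨hZ1, hZm, hZF, hZθ, hZc⟩ := h.Z_facts hN hb hb1 hbN t
  set Z := ⁅pCoreOf t N, zpowers b⁆ with hZ
  have hZne : Z ≠ ⊥ := by
    intro h0
    apply htN
    apply hZc
    rw [h0]; exact bot_le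
  have hZY : Z ≤ centralizer (Y : Set G) := by
    refine h.hh_mem hY (pCoreOf_mem hN.mem t) hst hYs (isPGroup_pCoreOf t N) hb htY ?_
    have h1 : Y ⊓ centralizer ({b} : Set G) ≤ Y ⊓ N := le_inf inf_le_left ((hY.2.2.2 b hb hb1).trans hbN)
    refine h1.trans ?_
    rw [← commutator_eq_bot_iff_le_centralizer, eq_bot_iff,
      ← inf_eq_bot_of_isPGroup hst hYs (isPGroup_pCoreOf t N)]
    apply le_inf
    · exact (commutator_mono inf_le_left le_rfl).trans (commutator_le_left_of_le htY)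
    · exact (commutator_mono inf_le_right le_rfl).trans (commutator_le_right_of_le (le_normalizer_pCoreOf t N))
  have hNm := h.NT_mem hZm hZne
  have hbNT : θ b ≤ NT A θ Z := h.le_NT (theta_mem h.func hb hb1) hZθ
  have hDN : signalizerInf A θ ≤ NT A θ Z := (signalizerInf_le hb hb1).trans hbNT
  obtain ⟨L, hL, hNL⟩ := h.exists_ge hNm (hDN.trans le_normalizer)
  have hLN : L = N := by
    apply hT.2 L hL
    apply fittingOf_le_of_forall
    intro u hu
    exact (h.le_NT (pCoreOf_mem hN.mem u) ((pCoreOf_le_fittingOf hu N).trans hZF)).trans hNL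
  rw [← hLN]
  exact (h.le_NT hY ((le_centralizer_iff.1 hZY).trans (centralizer_le_normalizer _))).trans hNL

/-- (UNIQ) there is at most one pure element of `MM` of type `w`. -/
theorem pure_unique {w : ℕ} [hw : Fact w.Prime] {M M' : Subgroup G} (hM : MM A θ M) (hM' : MM A θ M')
    (hp : Pure w M) (hp' : Pure w M') : M = M' := by
  have hw2 : w ≠ 2 := by
    rintro rfl
    obtain ⟨u, hu, hu1⟩ := h.exists_pCoreOf_ne hM
    apply hu1
    by_cases hu2 : u = 2
    · subst hu2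
      exact h.fam_pCoreOf_bot_of_two hM.mem
    · exact hp u hu hu2
  -- a Sylow `w`-subgroup of `M` which is a maximal `w`-member
  have key : ∀ M : Subgroup G, MM A θ M → Pure w M → ∃ S, IsMaxMember 2 A θ w S ∧ S ≠ ⊥ ∧
      M ≤ normalizer (ZJElem.ZC w S : Set G) ∧ S ≤ M := by
    intro M hM hp
    have hwM : pCoreOf w M ≠ ⊥ := by
      obtain ⟨u, hu, hu1⟩ := h.exists_pCoreOf_ne hM
      by_cases huw : u = w
      · subst huw; exact hu1
      · exact absurd (hp u hu huw) hu1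
    obtain ⟨S, hSM, hSw, hSi, hSA⟩ := CoprimeAction.exists_invariant_sylow (fam_normalizer hM.mem)
      (elemAb_coprime h.elem hM.mem.2.1) (Or.inl (elemAb_solvable h.elem)) w
    have hSm : S ∈ signalizerFamily 2 A θ := mem_of_le hM.mem hSM hSA
    have hO := oOf_eq_bot_of_pure hM.mem.1 hp
    have hZ := le_normalizer_ZC hw2 hM.mem.1 (fam_odd hM.mem) hO hSM hSw hSi
    have hS1 : S ≠ ⊥ := by
      rintro rfl
      rw [relIndex_bot_left] at hSi
      apply hSi
      rcases (isPGroup_pCoreOf w M).card_eq_or_dvd with h1 | h1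
      · exact absurd (Subgroup.card_eq_one.1 h1) hwM
      · exact h1.trans (Subgroup.card_dvd_of_le (pCoreOf_le M))
    have hZ1 := ZC_ne_bot hSw hS1
    have hZm : ZJElem.ZC w S ∈ signalizerFamily 2 A θ :=
      mem_of_le hSm (ZJElem.ZC_le S) (hSA.trans (ZJElem.normalizer_le_ZC S))
    obtain ⟨R, hR, hSR⟩ := exists_isMaxMember_ge hSm hSw
    have hSeq : S = R := by
      by_contra hne
      -- normalizers grow
      have hnil : Group.IsNilpotent ↥R := hR.2.1.isNilpotent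
      have hlt : S.subgroupOf R < ⊤ := by
        rw [lt_top_iff_ne_top]
        intro h2
        rw [subgroupOf_eq_top] at h2
        exact hne (le_antisymm hSR h2)
      have h2 := Group.normalizerCondition_of_isNilpotent (G := ↥R) (S.subgroupOf R) hlt
      obtain ⟨x, hx, hxS⟩ := SetLike.exists_of_lt h2
      rw [← subgroupOf_normalizer_eq hSR] at hx
      -- `N_R(S) ≤ M`
      have hNm : R ⊓ normalizer (S : Set G) ∈ signalizerFamily 2 A θ :=
        mem_of_le hR.1 inf_le_left (le_normalizer_inf (fam_normalizer hR.1) (hSA.trans le_normalizer))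
      have hNM : R ⊓ normalizer (S : Set G) ≤ M :=
        h.le_of_normalizer hM hZm hZ1 hZ hNm (inf_le_right.trans (ZJElem.normalizer_le_ZC S))
      have hNp : IsPGroup w ↥(R ⊓ normalizer (S : Set G) : Subgroup G) := hR.2.1.to_le inf_le_left
      have hSN : S ≤ R ⊓ normalizer (S : Set G) := le_inf hSR le_normalizer
      have hsyl : LocBase.IsSyl w S M := ⟨hSM, hSw, hSi⟩
      have h3 := hsyl.eq_of_le hNp hNM hSN
      apply hxS
      rw [mem_subgroupOf, h3]
      exact ⟨x.2, hx⟩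
    rw [← hSeq] at hR
    exact ⟨S, hR, hS1, hZ, hSM⟩
  obtain ⟨S, hS, hS1, hMZ, hSM⟩ := key M hM hp
  obtain ⟨S', hS', hS1', hMZ', hSM'⟩ := key M' hM' hp'
  obtain ⟨c, hc, hcS⟩ := transitivity h.elem h.card3 h.func hS hS'
  have hcM : c ∈ M := hM.D_le hc
  have hcS' : S.map (MulAut.conj c).toMonoidHom = S' := hcS
  -- `ZC(S') = ZC(S)^c` is normal in `M^c = M`
  have h1 : M ≤ normalizer (ZJElem.ZC w S' : Set G) := by
    rw [← hcS', ZC_conj, ← LocBase.map_conj_normalizer]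
    have h2 : M.map (MulAut.conj c).toMonoidHom = M :=
      LocBase.map_conj_eq_of_mem (le_normalizer hcM)
    calc M = M.map (MulAut.conj c).toMonoidHom := h2.symm
      _ ≤ _ := Subgroup.map_mono hMZ
  have hZm : ZJElem.ZC w S' ∈ signalizerFamily 2 A θ :=
    mem_of_le hS'.1 (ZJElem.ZC_le S') ((fam_normalizer hS'.1).trans (ZJElem.normalizer_le_ZC S'))
  have h3 : M' ≤ M := h.le_of_normalizer hM hZm (ZC_ne_bot hS'.2.1 hS1') h1 hM'.mem hMZ'
  exact hM'.max M hM.mem h3

end MinCE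

end Cfsg.Agent.Lib.SSF2
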