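import Cfsg.Agent.Lib.SSF2Two

/-!
# Solvable signalizer functors for `p = 2`: at least three primes (helper46)
-/

set_option autoImplicit false
set_option linter.unusedSectionVars false

namespace Cfsg.Agent.Lib.SSF2

open Subgroup Cfsg
open Cfsg.Agent.Lib.LocBase (pCoreOf_le isPGroup_pCoreOf le_normalizer_pCoreOf normalizer_le_normalizer_pCoreOf
  commutator_le_left_of_le commutator_le_right_of_le le_normalizer_inf le_normalizer_centralizer le_normalizer_sup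
  le_pCoreOf le_normalizer_commutator)
open Cfsg.Agent.Lib.SigCon (oOf oOf_le le_oOf coprime_card_oOf le_normalizer_oOf)
open Cfsg.Agent.Lib.BG08 (fittingOf_le inf_centralizer_fittingOf_le le_centralizer_of_inf_eq_bot
  inf_eq_bot_of_isPGroup pCoreOf_le_centralizer_pCoreOf le_pCoreOf_of_le_fittingOf le_centralizer_fittingOf
  fittingOf_le_of_forall pCoreOf_le_fittingOf le_normalizer_fittingOf)
open Cfsg.Agent.Lib.Signalizer Cfsg.Agent.Lib.CoprimeHyper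
open scoped commutatorElement Pointwise

universe u

variable {G : Type u} [Group G] [Finite G] {A : Subgroup G} {θ : G → Subgroup G}

attribute [local instance] fact2

/-- `v ∈ π` -/
def InPi (A : Subgroup G) (θ : G → Subgroup G) (v : ℕ) : Prop :=
  v.Prime ∧ ∃ a ∈ A, a ≠ 1 ∧ v ∣ Nat.card (θ a)

/-- `H` contains the `D`-invariant `v'`-members -/
def ContV (A : Subgroup G) (θ : G → Subgroup G) (v : ℕ) (H : Subgroup G) : Prop :=
  ∀ Y ∈ signalizerFamily 2 A θ, signalizerInf A θ ≤ normalizer (Y : Set G) → (Nat.card Y).Coprime v → Y ≤ H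

/-- `|π| ≥ 3` -/
def Three (A : Subgroup G) (θ : G → Subgroup G) : Prop := ∀ x y : ℕ, ∃ v, InPi A θ v ∧ v ≠ x ∧ v ≠ y

theorem ContV.contW {v w : ℕ} [hv : Fact v.Prime] [hw : Fact w.Prime] (hvw : w ≠ v) {H : Subgroup G}
    (h : ContV A θ v H) : ContW A θ w H :=
  fun Y hY hYw hD => h Y hY hD (isPGroup_coprime hvw hYw)

namespace MinCE

variable (h : MinCE A θ)

include h

theorem inPi_of_pCoreOf {M : Subgroup G} (hM : MM A θ M) {t : ℕ} (ht : t.Prime) (h0 : pCoreOf t M ≠ ⊥) :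
    InPi A θ t := by
  have : Fact t.Prime := ⟨ht⟩
  exact ⟨ht, h.dvd_theta_of_pCoreOf hM.mem h0⟩

theorem exists_ContV {v : ℕ} (hv : InPi A θ v) : ∃ H, MM A θ H ∧ ContV A θ v H := h.exists_Gv hv.1 hv.2

theorem fitting_le_of_ContV {v : ℕ} (hv : v.Prime) {M H : Subgroup G} (hM : MM A θ M) (hH : ContV A θ v H)
    (hvH : pCoreOf v M ≤ H) : fittingOf M ≤ H := by
  have : Fact v.Prime := ⟨hv⟩
  apply fittingOf_le_of_forall
  intro t ht
  have : Fact t.Prime := ⟨ht⟩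
  by_cases htv : t = v
  · subst htv; exact hvH
  · exact hH _ (pCoreOf_mem hM.mem t) (h.D_inv hM t) (isPGroup_coprime htv (isPGroup_pCoreOf t M))

theorem pCoreOf_le_of_ContV {v : ℕ} (hv : v.Prime) {M H : Subgroup G} (hM : MM A θ M) (hH : ContV A θ v H)
    {t : ℕ} (ht : t.Prime) (htv : t ≠ v) : pCoreOf t M ≤ H := by
  have : Fact v.Prime := ⟨hv⟩
  have : Fact t.Prime := ⟨ht⟩
  exact hH _ (pCoreOf_mem hM.mem t) (h.D_inv hM t) (isPGroup_coprime htv (isPGroup_pCoreOf t M))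

/-- a member of `MM` containing all `D`-invariant `v'`- and `v''`-members contains all `F(M)`. -/
theorem fitting_le_of_two {v v' : ℕ} (hv : v.Prime) (hv' : v'.Prime) (hne : v ≠ v') {M H : Subgroup G}
    (hM : MM A θ M) (h1 : ContV A θ v H) (h2 : ContV A θ v' H) : fittingOf M ≤ H :=
  h.fitting_le_of_ContV hv hM h1 (h.pCoreOf_le_of_ContV hv' hM h2 hv hne)

/-- no element `N` of `MM` containing some `θ b` has `F(N_c) ≤ N` for all good members `N_c` -/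
theorem contra_of_all {N : Subgroup G} (hN : MM A θ N) (hall : ∀ M, MM A θ M → Term A θ M → M = N)
    (hpure : ∀ w : ℕ, w.Prime → ∀ M, MM A θ M → SPure A θ w M → M = N) : False := by
  obtain ⟨a, b, c, d, ha, hb, hc, hd, ha1, hb1, hc1, hd1, hab, hac, had, hbc, hbd, hcd⟩ := h.exists_four
  obtain ⟨N₁, hN₁, h₁, g₁⟩ := h.exists_good ha ha1
  obtain ⟨N₂, hN₂, h₂, g₂⟩ := h.exists_good hb hb1
  have e₁ : N₁ = N := by
    rcases g₁ with g | ⟨w, hw, g⟩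
    · exact hall _ hN₁ g
    · exact hpure w hw _ hN₁ g
  have e₂ : N₂ = N := by
    rcases g₂ with g | ⟨w, hw, g⟩
    · exact hall _ hN₂ g
    · exact hpure w hw _ hN₂ g
  rw [e₁] at h₁
  rw [e₂] at h₂
  exact hab (h.eq_of_theta_le hN.mem ha ha1 hb hb1 h₁ h₂)

/-- an element of `MM` containing all the `F(M)` -/
theorem contra_of_cont {N : Subgroup G} (hN : MM A θ N) {v v' : ℕ} (hv : v.Prime) (hv' : v'.Prime) (hne : v ≠ v')
    (h1 : ContV A θ v N) (h2 : ContV A θ v' N) : False := by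
  apply h.contra_of_all hN
  · intro M hM hT
    exact (hT.2 N hN (h.fitting_le_of_two hv hv' hne hM h1 h2)).symm
  · intro w hw M hM hS
    have : Fact w.Prime := ⟨hw⟩
    have : Fact v.Prime := ⟨hv⟩
    have : Fact v'.Prime := ⟨hv'⟩
    have hcw : ContW A θ w N := by
      by_cases hwv : w = v
      · subst hwv
        exact h2.contW hne
      · exact h1.contW hwv
    exact h.pure_unique hM hN hS.1 (hS.2 N hN hcw)

/-- no strongly pure members when `|π| ≥ 3` -/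
theorem no_SPure (h3 : Three A θ) {w : ℕ} (hw : w.Prime) {N : Subgroup G} (hN : MM A θ N) (hS : SPure A θ w N) :
    False := by
  have hwf : Fact w.Prime := ⟨hw⟩
  have key : ∀ v, InPi A θ v → v ≠ w → ContV A θ v N := by
    intro v hv hvw
    have : Fact v.Prime := ⟨hv.1⟩
    obtain ⟨H, hH, hHv⟩ := h.exists_ContV hv
    have h1 := hS.2 H hH (hHv.contW hvw.symm)
    have h2 := h.pure_unique hH hN h1 hS.1
    rw [← h2]; exact hHv
  obtain ⟨v, hv, hvw, -⟩ := h3 w w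
  obtain ⟨v', hv', hvw', hvv'⟩ := h3 w v
  exact h.contra_of_cont hN hv.1 hv'.1 hvv'.symm (key v hv hvw) (key v' hv' hvw')

theorem exists_term (h3 : Three A θ) {b : G} (hb : b ∈ A) (hb1 : b ≠ 1) :
    ∃ N, MM A θ N ∧ θ b ≤ N ∧ Term A θ N := by
  obtain ⟨N, hN, hbN, hT | ⟨w, hw, hS⟩⟩ := h.exists_good hb hb1
  · exact ⟨N, hN, hbN, hT⟩
  · exact (h.no_SPure h3 hw hN hS).elim

/-- (B1) -/
theorem ContV_of_term {v : ℕ} (hv : InPi A θ v) {N : Subgroup G} (hN : MM A θ N) (hT : Term A θ N)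
    (h0 : pCoreOf v N = ⊥) : ContV A θ v N := by
  obtain ⟨H, hH, hHv⟩ := h.exists_ContV hv
  have h1 : fittingOf N ≤ H := h.fitting_le_of_ContV hv.1 hN hHv (by rw [h0]; exact bot_le)
  rw [← hT.2 H hH h1]
  exact hHv

/-- (B2) -/
theorem ne_bot_of_term {v v' : ℕ} (hv : InPi A θ v) (hv' : InPi A θ v') (hne : v ≠ v') {N : Subgroup G}
    (hN : MM A θ N) (hT : Term A θ N) (h0 : pCoreOf v N = ⊥) : pCoreOf v' N ≠ ⊥ := fun h0' =>
  h.contra_of_cont hN hv.1 hv'.1 hne (h.ContV_of_term hv hN hT h0) (h.ContV_of_term hv' hN hT h0')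

/-- (B3) -/
theorem V_unique {v : ℕ} (hv : InPi A θ v) {N N' : Subgroup G} (hN : MM A θ N) (hT : Term A θ N)
    (h0 : pCoreOf v N = ⊥) (hN' : MM A θ N') (hT' : Term A θ N') (h0' : pCoreOf v N' = ⊥) : N = N' :=
  hT'.2 N hN (h.fitting_le_of_ContV hv.1 hN' (h.ContV_of_term hv hN hT h0) (by rw [h0']; exact bot_le))

/-- (B4) -/
theorem V_two {w v t : ℕ} (hw : InPi A θ w) (hv : InPi A θ v) (ht : t.Prime) {N N' : Subgroup G}
    (hN : MM A θ N) (hT : Term A θ N) (h0 : pCoreOf w N = ⊥) {b : G} (hb : b ∈ A) (hb1 : b ≠ 1) (hbN : θ b ≤ N)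
    (htN : ¬ pCoreOf t N ≤ centralizer ({b} : Set G))
    (hN' : MM A θ N') (hT' : Term A θ N') (h0' : pCoreOf v N' = ⊥) (hne : N ≠ N') : v = t := by
  by_contra hvt
  apply hne
  have : Fact t.Prime := ⟨ht⟩
  have : Fact w.Prime := ⟨hw.1⟩
  have htw : t ≠ w := by
    rintro rfl
    apply htN
    rw [h0]; exact bot_le
  have h1 : pCoreOf t N ≤ N' :=
    h.pCoreOf_le_of_ContV hv.1 hN (h.ContV_of_term hv hN' hT' h0') ht (Ne.symm hvt)
  have h2 : pCoreOf w N' ≤ N :=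
    h.le_of_Qt hN hT hb hb1 hbN htN htw.symm (pCoreOf_mem hN'.mem w) (isPGroup_pCoreOf w N')
      (h1.trans (le_normalizer_pCoreOf w N'))
  exact hT'.2 N hN (h.fitting_le_of_ContV hw.1 hN' (h.ContV_of_term hw hN hT h0) h2)

/-- the members `H = G_v` and full terminal members -/
theorem fitting_le_full (h3 : Three A θ) {v t : ℕ} (hv : v.Prime) (ht : InPi A θ t) (hvt : v ≠ t) {N H : Subgroup G}
    (hN : MM A θ N) (hT : Term A θ N) (hfull : ∀ u, InPi A θ u → pCoreOf u N ≠ ⊥) {b : G} (hb : b ∈ A)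
    (hb1 : b ≠ 1) (hbN : θ b ≤ N) (htN : ¬ pCoreOf t N ≤ centralizer ({b} : Set G))
    (hH : H ∈ signalizerFamily 2 A θ) (hNH : ∀ u : ℕ, u.Prime → u ≠ v → pCoreOf u N ≤ H) : fittingOf H ≤ N := by
  have htf : Fact t.Prime := ⟨ht.1⟩
  have htH := hNH t ht.1 hvt.symm
  apply fittingOf_le_of_forall
  intro s hs
  have : Fact s.Prime := ⟨hs⟩
  by_cases hst : s = t
  · subst hst
    obtain ⟨r, hr, hrs, hrv⟩ := h3 s v
    have : Fact r.Prime := ⟨hr.1⟩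
    exact h.pCoreOf_le_of_mixed hN hH hrs (hfull s ht) (hfull r hr) htH (hNH r hr.1 hrv)
  · exact h.le_of_Qt hN hT hb hb1 hbN htN hst (pCoreOf_mem hH s) (isPGroup_pCoreOf s H)
      (htH.trans (le_normalizer_pCoreOf s H))

/-- at most one full terminal member -/
theorem full_unique (h3 : Three A θ) {N N' : Subgroup G} (hN : MM A θ N) (hT : Term A θ N)
    (hfull : ∀ u, InPi A θ u → pCoreOf u N ≠ ⊥) {b : G} (hb : b ∈ A) (hb1 : b ≠ 1) (hbN : θ b ≤ N)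
    (hN' : MM A θ N') (hT' : Term A θ N') (hfull' : ∀ u, InPi A θ u → pCoreOf u N' ≠ ⊥) {b' : G} (hb' : b' ∈ A)
    (hb1' : b' ≠ 1) (hbN' : θ b' ≤ N') (hne : N ≠ N') : False := by
  obtain ⟨t, ht, htN⟩ := h.exists_tau hb hb1 hN
  obtain ⟨t', ht', htN'⟩ := h.exists_tau hb' hb1' hN'
  have htf : Fact t.Prime := ⟨ht⟩
  have htf' : Fact t'.Prime := ⟨ht'⟩
  have htπ : InPi A θ t := h.inPi_of_pCoreOf hN ht (by
    intro h0; apply htN; rw [h0]; exact bot_le)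
  have htπ' : InPi A θ t' := h.inPi_of_pCoreOf hN' ht' (by
    intro h0; apply htN'; rw [h0]; exact bot_le)
  obtain ⟨v, hv, hvt, hvt'⟩ := h3 t t'
  have hvf : Fact v.Prime := ⟨hv.1⟩
  obtain ⟨H, hH, hHv⟩ := h.exists_ContV hv
  have hNH : ∀ u : ℕ, u.Prime → u ≠ v → pCoreOf u N ≤ H := fun u hu huv =>
    h.pCoreOf_le_of_ContV hv.1 hN hHv hu huv
  have hNH' : ∀ u : ℕ, u.Prime → u ≠ v → pCoreOf u N' ≤ H := fun u hu huv =>
    h.pCoreOf_le_of_ContV hv.1 hN' hHv hu huv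
  have hFN : fittingOf H ≤ N := h.fitting_le_full h3 hv.1 htπ hvt hN hT hfull hb hb1 hbN htN hH.mem hNH
  have hFN' : fittingOf H ≤ N' := h.fitting_le_full h3 hv.1 htπ' hvt' hN' hT' hfull' hb' hb1' hbN' htN' hH.mem hNH'
  -- `[O_u(N'), O_s(H)] = 1`
  have hcomm : ∀ N : Subgroup G, (∀ u : ℕ, u.Prime → u ≠ v → pCoreOf u N ≤ H) → fittingOf H ≤ N →
      ∀ u s : ℕ, u.Prime → s.Prime → u ≠ v → u ≠ s → pCoreOf u N ≤ centralizer (pCoreOf s H : Set G) := by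
    intro N hNH hFN u s hu hs huv hus
    have : Fact u.Prime := ⟨hu⟩
    have : Fact s.Prime := ⟨hs⟩
    apply le_centralizer_of_inf_eq_bot ((hNH u hu huv).trans (le_normalizer_pCoreOf s H))
      (((pCoreOf_le_fittingOf hs H).trans hFN).trans (le_normalizer_pCoreOf u N))
    exact inf_eq_bot_of_isPGroup hus (isPGroup_pCoreOf u N) (isPGroup_pCoreOf s H)
  have hc1 := hcomm N hNH hFN
  have hc1' := hcomm N' hNH' hFN'
  -- `W_s`
  have hW : ∀ s : ℕ, InPi A θ s → s ≠ v →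
      ∃ W, W ≤ pCoreOf s H ∧ NT A θ W ≤ N' := by
    intro s hs hsv
    have hsf : Fact s.Prime := ⟨hs.1⟩
    set W := pCoreOf s N' ⊓ centralizer (pCoreOf s H : Set G) with hW
    have hsH := hNH' s hs.1 hsv
    have hAW : A ≤ normalizer (W : Set G) :=
      le_normalizer_inf (fam_normalizer (pCoreOf_mem hN'.mem s))
        (le_normalizer_centralizer (fam_normalizer (pCoreOf_mem hH.mem s)))
    have hWm : W ∈ signalizerFamily 2 A θ := mem_of_le (pCoreOf_mem hN'.mem s) inf_le_left hAW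
    have hW1 : W ≠ ⊥ := PAct.inf_centralizer_ne_bot (isPGroup_pCoreOf s H) (isPGroup_pCoreOf s N') (hfull' s hs)
      (((pCoreOf_le_fittingOf hs.1 H).trans hFN').trans (le_normalizer_pCoreOf s N'))
    have hWF : W ≤ centralizer (fittingOf H : Set G) := by
      apply le_centralizer_fittingOf
      intro r hr
      by_cases hrs : s = r
      · subst hrs; exact inf_le_right
      · exact inf_le_left.trans (hc1' s r hs.1 hr hsv hrs)
    have hWH : W ≤ pCoreOf s H :=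
      le_pCoreOf_of_centralizes hH.mem.1 ((isPGroup_pCoreOf s N').to_le inf_le_left) (inf_le_left.trans hsH) hWF
    refine ⟨W, hWH, ?_⟩
    have hDW : signalizerInf A θ ≤ normalizer (W : Set G) :=
      le_normalizer_inf (h.D_inv hN' s) (le_normalizer_centralizer (h.D_inv hH s))
    have hNm := h.NT_mem hWm hW1
    have hDN : signalizerInf A θ ≤ NT A θ W := h.le_NT h.D_mem hDW
    obtain ⟨L, hL, hNL⟩ := h.exists_ge hNm (hDN.trans le_normalizer)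
    have hLN : L = N' := by
      apply hT'.2 L hL
      apply fittingOf_le_of_forall
      intro u hu
      have : Fact u.Prime := ⟨hu⟩
      refine (h.le_NT (pCoreOf_mem hN'.mem u) ?_).trans hNL
      by_cases hus : u = s
      · subst hus
        exact le_normalizer_inf le_normalizer
          (le_normalizer_centralizer (hsH.trans (le_normalizer_pCoreOf u H)))
      · exact ((pCoreOf_le_centralizer_pCoreOf hus N').trans (centralizer_le inf_le_left)).trans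
          (centralizer_le_normalizer _)
    rw [← hLN]; exact hNL
  -- `O_u(N) ≤ N'` for `u ≠ v`
  have hNN' : ∀ u : ℕ, u.Prime → u ≠ v → pCoreOf u N ≤ N' := by
    intro u hu huv
    obtain ⟨s, hs, hsu, hsv⟩ := h3 u v
    obtain ⟨W, hWH, hWN⟩ := hW s hs hsv
    refine le_trans (h.le_NT (pCoreOf_mem hN.mem u) ?_) hWN
    exact ((hc1 u s hu hs.1 huv hsu.symm).trans (centralizer_le hWH)).trans (centralizer_le_normalizer _)
  have hfin : fittingOf N' ≤ N := h.fitting_le_full h3 hv.1 htπ hvt hN hT hfull hb hb1 hbN htN hN'.mem hNN'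
  exact hne (hT'.2 N hN hfin)

/-- the case of at least three primes -/
theorem false_of_three (h3 : Three A θ) : False := by
  -- the data attached to each point
  have hdata : ∀ b ∈ A, b ≠ 1 → ∃ N, MM A θ N ∧ θ b ≤ N ∧ Term A θ N := fun b hb hb1 => h.exists_term h3 hb hb1
  have hinj : ∀ {a b : G} {N : Subgroup G}, MM A θ N → a ∈ A → a ≠ 1 → b ∈ A → b ≠ 1 → a ≠ b → θ a ≤ N →
      θ b ≤ N → False := fun hN ha ha1 hb hb1 hab h1 h2 => hab (h.eq_of_theta_le hN.mem ha ha1 hb hb1 h1 h2)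
  -- two V-type members determine the prime
  have hV3 : ∀ {a b c : G} {N₁ N₂ N₃ : Subgroup G} {v₁ v₂ v₃ : ℕ}, a ∈ A → a ≠ 1 → b ∈ A → b ≠ 1 → c ∈ A → c ≠ 1 →
      a ≠ b → a ≠ c → b ≠ c → MM A θ N₁ → MM A θ N₂ → MM A θ N₃ → θ a ≤ N₁ → θ b ≤ N₂ → θ c ≤ N₃ →
      Term A θ N₁ → Term A θ N₂ → Term A θ N₃ → InPi A θ v₁ → InPi A θ v₂ → InPi A θ v₃ →
      pCoreOf v₁ N₁ = ⊥ → pCoreOf v₂ N₂ = ⊥ → pCoreOf v₃ N₃ = ⊥ → False := by
    intro a b c N₁ N₂ N₃ v₁ v₂ v₃ ha ha1 hb hb1 hc hc1 hab hac hbc hN₁ hN₂ hN₃ h₁ h₂ h₃ T₁ T₂ T₃ p₁ p₂ p₃ e₁ e₂ e₃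
    obtain ⟨t, ht, htN⟩ := h.exists_tau ha ha1 hN₁
    have n12 : N₁ ≠ N₂ := by rintro rfl; exact hinj hN₁ ha ha1 hb hb1 hab h₁ h₂
    have n13 : N₁ ≠ N₃ := by rintro rfl; exact hinj hN₁ ha ha1 hc hc1 hac h₁ h₃
    have n23 : N₂ ≠ N₃ := by rintro rfl; exact hinj hN₂ hb hb1 hc hc1 hbc h₂ h₃
    have q2 := h.V_two p₁ p₂ ht hN₁ T₁ e₁ ha ha1 h₁ htN hN₂ T₂ e₂ n12
    have q3 := h.V_two p₁ p₃ ht hN₁ T₁ e₁ ha ha1 h₁ htN hN₃ T₃ e₃ n13
    subst q2
    subst q3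
    exact n23 (h.V_unique p₂ hN₂ T₂ e₂ hN₃ T₃ e₃)
  have hF2 : ∀ {a b : G} {N₁ N₂ : Subgroup G}, a ∈ A → a ≠ 1 → b ∈ A → b ≠ 1 → a ≠ b →
      MM A θ N₁ → MM A θ N₂ → θ a ≤ N₁ → θ b ≤ N₂ → Term A θ N₁ → Term A θ N₂ →
      (∀ u, InPi A θ u → pCoreOf u N₁ ≠ ⊥) → (∀ u, InPi A θ u → pCoreOf u N₂ ≠ ⊥) → False := by
    intro a b N₁ N₂ ha ha1 hb hb1 hab hN₁ hN₂ h₁ h₂ T₁ T₂ f₁ f₂
    have n12 : N₁ ≠ N₂ := by rintro rfl; exact hinj hN₁ ha ha1 hb hb1 hab h₁ h₂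
    exact h.full_unique h3 hN₁ T₁ f₁ ha ha1 h₁ hN₂ T₂ f₂ hb hb1 h₂ n12
  have htype : ∀ N : Subgroup G, (∃ v, InPi A θ v ∧ pCoreOf v N = ⊥) ∨ (∀ u, InPi A θ u → pCoreOf u N ≠ ⊥) := by
    intro N
    by_cases hx : ∃ v, InPi A θ v ∧ pCoreOf v N = ⊥
    · exact Or.inl hx
    · right
      push Not at hx
      exact hx
  obtain ⟨a, b, c, d, ha, hb, hc, hd, ha1, hb1, hc1, hd1, hab, hac, had, hbc, hbd, hcd⟩ := h.exists_four
  obtain ⟨N₁, hN₁, h₁, T₁⟩ := hdata a ha ha1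
  obtain ⟨N₂, hN₂, h₂, T₂⟩ := hdata b hb hb1
  obtain ⟨N₃, hN₃, h₃, T₃⟩ := hdata c hc hc1
  obtain ⟨N₄, hN₄, h₄, T₄⟩ := hdata d hd hd1
  rcases htype N₁ with ⟨v₁, p₁, e₁⟩ | f₁
  · rcases htype N₂ with ⟨v₂, p₂, e₂⟩ | f₂
    · rcases htype N₃ with ⟨v₃, p₃, e₃⟩ | f₃
      · exact hV3 ha ha1 hb hb1 hc hc1 hab hac hbc hN₁ hN₂ hN₃ h₁ h₂ h₃ T₁ T₂ T₃ p₁ p₂ p₃ e₁ e₂ e₃
      · rcases htype N₄ with ⟨v₄, p₄, e₄⟩ | f₄
        · exact hV3 ha ha1 hb hb1 hd hd1 hab had hbd hN₁ hN₂ hN₄ h₁ h₂ h₄ T₁ T₂ T₄ p₁ p₂ p₄ e₁ e₂ e₄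
        · exact hF2 hc hc1 hd hd1 hcd hN₃ hN₄ h₃ h₄ T₃ T₄ f₃ f₄
    · rcases htype N₃ with ⟨v₃, p₃, e₃⟩ | f₃
      · rcases htype N₄ with ⟨v₄, p₄, e₄⟩ | f₄
        · exact hV3 ha ha1 hc hc1 hd hd1 hac had hcd hN₁ hN₃ hN₄ h₁ h₃ h₄ T₁ T₃ T₄ p₁ p₃ p₄ e₁ e₃ e₄
        · exact hF2 hb hb1 hd hd1 hbd hN₂ hN₄ h₂ h₄ T₂ T₄ f₂ f₄
      · exact hF2 hb hb1 hc hc1 hbc hN₂ hN₃ h₂ h₃ T₂ T₃ f₂ f₃
  · rcases htype N₂ with ⟨v₂, p₂, e₂⟩ | f₂
    · rcases htype N₃ with ⟨v₃, p₃, e₃⟩ | f₃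
      · rcases htype N₄ with ⟨v₄, p₄, e₄⟩ | f₄
        · exact hV3 hb hb1 hc hc1 hd hd1 hbc hbd hcd hN₂ hN₃ hN₄ h₂ h₃ h₄ T₂ T₃ T₄ p₂ p₃ p₄ e₂ e₃ e₄
        · exact hF2 ha ha1 hd hd1 had hN₁ hN₄ h₁ h₄ T₁ T₄ f₁ f₄
      · exact hF2 ha ha1 hc hc1 hac hN₁ hN₃ h₁ h₃ T₁ T₃ f₁ f₃
    · exact hF2 ha ha1 hb hb1 hab hN₁ hN₂ h₁ h₂ T₁ T₂ f₁ f₂

/-- **there is no minimal counterexample** -/
theorem false : False := by
  by_cases h3 : Three A θ
  · exact h.false_of_three h3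
  · unfold Three at h3
    push Not at h3
    obtain ⟨x, y, hxy⟩ := h3
    have hπ : ∀ u : ℕ, u.Prime → (∃ a ∈ A, a ≠ 1 ∧ u ∣ Nat.card (θ a)) → u = x ∨ u = y := by
      intro u hu ha
      by_cases hux : u = x
      · exact Or.inl hux
      · exact Or.inr (hxy u ⟨hu, ha⟩ hux)
    -- replace `x`, `y` by primes
    obtain ⟨q, hq, hqx⟩ : ∃ q : ℕ, q.Prime ∧ (x.Prime → q = x) := by
      by_cases hx : x.Prime
      · exact ⟨x, hx, fun _ => rfl⟩
      · exact ⟨2, Nat.prime_two, fun hx' => absurd hx' hx⟩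
    obtain ⟨s, hs, hqs, hsy⟩ : ∃ s : ℕ, s.Prime ∧ q ≠ s ∧ (y.Prime → y ≠ q → s = y) := by
      by_cases hy : y.Prime
      · by_cases hyq : y = q
        · obtain ⟨s, hs1, hs2⟩ := Nat.exists_infinite_primes (q + 1)
          exact ⟨s, hs2, by omega, fun _ hne => absurd hyq hne⟩
        · exact ⟨y, hy, Ne.symm hyq, fun _ _ => rfl⟩
      · obtain ⟨s, hs1, hs2⟩ := Nat.exists_infinite_primes (q + 1)
        exact ⟨s, hs2, by omega, fun hy' => absurd hy' hy⟩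
    apply h.false_of_two hq hs hqs
    intro u hu ha
    rcases hπ u hu ha with h1 | h1
    · left; rw [hqx (h1 ▸ hu), h1]
    · by_cases huq : u = q
      · exact Or.inl huq
      · right; rw [hsy (h1 ▸ hu) (h1 ▸ huq), h1]

end MinCE

end Cfsg.Agent.Lib.SSF2
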