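import Cfsg.Agent.Lib.SSF2Term

/-!
# Solvable signalizer functors for `p = 2`: at most two primes (helper46)
-/

set_option autoImplicit false
set_option linter.unusedSectionVars false

namespace Cfsg.Agent.Lib.SSF2

open Subgroup Cfsg
open Cfsg.Agent.Lib.LocBase (pCoreOf_le isPGroup_pCoreOf le_normalizer_pCoreOf normalizer_le_normalizer_pCoreOf
  commutator_le_left_of_le commutator_le_right_of_le le_normalizer_inf le_normalizer_centralizer le_normalizer_sup
  le_pCoreOf le_normalizer_commutator)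
open Cfsg.Agent.Lib.SigCon (oOf oOf_le le_oOf coprime_card_oOf le_normalizer_oOf)
open Cfsg.Agent.Lib.BG08 (fittingOf_le inf_centralizer_fittingOf_le le_centralizer_of_inf_eq_bot
  inf_eq_bot_of_isPGroup pCoreOf_le_centralizer_pCoreOf le_pCoreOf_of_le_fittingOf le_centralizer_fittingOf
  fittingOf_le_of_forall pCoreOf_le_fittingOf le_normalizer_fittingOf)
open Cfsg.Agent.Lib.Signalizer Cfsg.Agent.Lib.CoprimeHyper
open scoped commutatorElement Pointwise

universe u

variable {G : Type u} [Group G] [Finite G] {A : Subgroup G} {θ : G → Subgroup G}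

attribute [local instance] fact2

theorem exists_ne_one_of_ne_bot {K : Subgroup G} (h : K ≠ ⊥) : ∃ x ∈ K, x ≠ 1 := by
  by_contra hcon
  push Not at hcon
  exact h ((Subgroup.eq_bot_iff_forall K).mpr hcon)

theorem isPGroup_of_forall_dvd {s : ℕ} [hs : Fact s.Prime] {Y : Subgroup G}
    (h : ∀ u : ℕ, u.Prime → u ∣ Nat.card Y → u = s) : IsPGroup s Y := by
  rw [IsPGroup.iff_card]
  refine ⟨(Nat.card Y).primeFactorsList.length, ?_⟩
  exact Nat.eq_prime_pow_of_unique_prime_dvd Nat.card_pos.ne' (fun {d} hd hdv => h d hd hdv)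

namespace MinCE

variable (h : MinCE A θ)

include h

theorem exists_not_mem (F : Finset G) (hF : F.card < 8) : ∃ a ∈ A, a ∉ F := by
  by_contra hcon
  push Not at hcon
  have h1 : (A : Set G) ⊆ (F : Set G) := fun a ha => hcon a ha
  have h2 := Set.ncard_le_ncard h1 (Set.toFinite _)
  rw [Set.ncard_coe_finset] at h2
  have h3 : (A : Set G).ncard = 8 := h.card
  omega

theorem exists_four : ∃ a b c d : G, a ∈ A ∧ b ∈ A ∧ c ∈ A ∧ d ∈ A ∧ a ≠ 1 ∧ b ≠ 1 ∧ c ≠ 1 ∧ d ≠ 1 ∧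
    a ≠ b ∧ a ≠ c ∧ a ≠ d ∧ b ≠ c ∧ b ≠ d ∧ c ≠ d := by
  classical
  obtain ⟨a, ha, ha'⟩ := h.exists_not_mem {1} (by simp)
  obtain ⟨b, hb, hb'⟩ := h.exists_not_mem {1, a} (lt_of_le_of_lt Finset.card_le_two (by norm_num))
  obtain ⟨c, hc, hc'⟩ := h.exists_not_mem {1, a, b} (lt_of_le_of_lt Finset.card_le_three (by norm_num))
  obtain ⟨d, hd, hd'⟩ := h.exists_not_mem {1, a, b, c} (lt_of_le_of_lt Finset.card_le_four (by norm_num))
  simp only [Finset.mem_singleton, Finset.mem_insert, not_or] at ha' hb' hc' hd'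
  exact ⟨a, b, c, d, ha, hb, hc, hd, ha', hb'.1, hc'.1, hd'.1, Ne.symm hb'.2, Ne.symm hc'.2.1, Ne.symm hd'.2.1,
    Ne.symm hc'.2.2, Ne.symm hd'.2.2.1, Ne.symm hd'.2.2.2⟩

/-- the prime divisors of members, when `π ⊆ {q, s}` -/
theorem isPGroup_of_coprime {q s : ℕ} [hq : Fact q.Prime] [hs : Fact s.Prime]
    (hπ : ∀ u : ℕ, u.Prime → (∃ a ∈ A, a ≠ 1 ∧ u ∣ Nat.card (θ a)) → u = q ∨ u = s) {Y : Subgroup G}
    (hY : Y ∈ signalizerFamily 2 A θ) (hc : (Nat.card Y).Coprime q) : IsPGroup s Y := by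
  apply isPGroup_of_forall_dvd
  intro u hu hd
  have : Fact u.Prime := ⟨hu⟩
  rcases hπ u hu (h.dvd_theta hY hd) with h1 | h1
  · exfalso
    subst h1
    have h2 : u ∣ 1 := by rw [← hc]; exact Nat.dvd_gcd hd dvd_rfl
    exact hu.one_lt.ne' (Nat.dvd_one.1 h2)
  · exact h1

theorem oOf_le_pCoreOf {q s : ℕ} [hq : Fact q.Prime] [hs : Fact s.Prime]
    (hπ : ∀ u : ℕ, u.Prime → (∃ a ∈ A, a ≠ 1 ∧ u ∣ Nat.card (θ a)) → u = q ∨ u = s) {M : Subgroup G}
    (hM : M ∈ signalizerFamily 2 A θ) : oOf q M ≤ pCoreOf s M :=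
  le_pCoreOf (oOf_le M) (le_normalizer_oOf M) (h.isPGroup_of_coprime hπ (oOf_mem hM q) (coprime_card_oOf M))

/-- the E-lemma -/
theorem NT_le {q s : ℕ} [hq : Fact q.Prime] [hs : Fact s.Prime] (hqs : q ≠ s)
    (hπ : ∀ u : ℕ, u.Prime → (∃ a ∈ A, a ≠ 1 ∧ u ∣ Nat.card (θ a)) → u = q ∨ u = s) {H : Subgroup G}
    (hH : MM A θ H) (hqH : pCoreOf q H ≠ ⊥) (hsH : pCoreOf s H ≠ ⊥) :
    ∀ (n : ℕ) (X : Subgroup G), Nat.card (pCoreOf q H) - Nat.card X ≤ n → X ∈ signalizerFamily 2 A θ → X ≠ ⊥ →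
      X ≤ pCoreOf q H → NT A θ X ≤ H := by
  intro n
  induction n using Nat.strong_induction_on with
  | _ n ih =>
  intro X hn hX hX1 hXR
  set R := pCoreOf q H with hR
  set R' := pCoreOf s H with hR'
  have hRm : R ∈ signalizerFamily 2 A θ := pCoreOf_mem hH.mem q
  have hRm' : R' ∈ signalizerFamily 2 A θ := pCoreOf_mem hH.mem s
  by_cases hXeq : X = R
  · rw [hXeq]
    exact h.le_of_normalizer_pCoreOf hH hqH (h.NT_mem hRm hqH) (NT_le_normalizer _)
  have hLm := h.NT_mem hX hX1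
  set L := NT A θ X with hL
  have hLX : L ≤ normalizer (X : Set G) := NT_le_normalizer _
  have hXL : X ≤ L := h.le_NT hX le_normalizer
  -- `X' = N_R(X)`
  set X' := R ⊓ normalizer (X : Set G) with hX'
  have hX'm : X' ∈ signalizerFamily 2 A θ :=
    mem_of_le hRm inf_le_left (le_normalizer_inf (fam_normalizer hRm) ((fam_normalizer hX).trans le_normalizer))
  have hXX' : X < X' := by
    refine lt_of_le_of_ne (le_inf hXR le_normalizer) ?_
    intro heq
    have hnil : Group.IsNilpotent ↥R := (isPGroup_pCoreOf q H).isNilpotent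
    have hlt : X.subgroupOf R < ⊤ := by
      rw [lt_top_iff_ne_top]
      intro h2
      rw [subgroupOf_eq_top] at h2
      exact hXeq (le_antisymm hXR h2)
    have h2 := Group.normalizerCondition_of_isNilpotent (G := ↥R) (X.subgroupOf R) hlt
    obtain ⟨x, hx, hxX⟩ := SetLike.exists_of_lt h2
    rw [← subgroupOf_normalizer_eq hXR] at hx
    apply hxX
    rw [mem_subgroupOf, heq]
    exact ⟨x.2, hx⟩
  have hX'1 : X' ≠ ⊥ := by
    intro h0
    rw [h0] at hXX'
    exact not_lt_bot hXX'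
  have hcard : Nat.card X < Nat.card X' := by
    rcases (Subgroup.card_le_of_le hXX'.le).lt_or_eq with h' | h'
    · exact h'
    · exact absurd (Subgroup.eq_of_le_of_card_ge hXX'.le h'.ge) hXX'.ne
  have hcard' : Nat.card X' ≤ Nat.card R := Subgroup.card_le_of_le inf_le_left
  have hNX' : NT A θ X' ≤ H :=
    ih (Nat.card R - Nat.card X') (by omega) X' le_rfl hX'm hX'1 inf_le_left
  have hX'L : X' ≤ L := h.le_NT hX'm inf_le_right
  have hRR' : R' ≤ centralizer (R : Set G) := pCoreOf_le_centralizer_pCoreOf hqs.symm H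
  have hR'L : R' ≤ L := h.le_NT hRm' ((hRR'.trans (centralizer_le hXR)).trans (centralizer_le_normalizer _))
  -- `R' ≤ O_{q'}(L)`
  have hX'q : IsPGroup q X' := (isPGroup_pCoreOf q H).to_le inf_le_left
  have hR'E : R' ≤ oOf q L := by
    refine le_oOf_of_centralizer hLm.1 hX'q hX'L hR'L (hRR'.trans (centralizer_le inf_le_left)) ?_
      (isPGroup_coprime hqs.symm (isPGroup_pCoreOf s H))
    refine le_trans ?_ (le_normalizer_pCoreOf s H)
    refine le_trans (h.le_NT ?_ ?_) hNX'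
    · exact mem_of_le hLm inf_le_left (le_normalizer_inf (fam_normalizer hLm)
        (le_normalizer_centralizer (fam_normalizer hX'm)))
    · exact inf_le_right.trans (centralizer_le_normalizer _)
  set E := oOf q L with hE
  have hEm : E ∈ signalizerFamily 2 A θ := oOf_mem hLm q
  have hEs : IsPGroup s E := h.isPGroup_of_coprime hπ hEm (coprime_card_oOf L)
  have hXq : IsPGroup q X := (isPGroup_pCoreOf q H).to_le hXR
  have hEX : E ≤ centralizer (X : Set G) := by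
    apply le_centralizer_of_inf_eq_bot ((oOf_le L).trans hLX) (hXL.trans (le_normalizer_oOf L))
    exact SigCon.disj_of_coprime hXq (coprime_card_oOf L)
  have hEH : E ⊓ H ≤ R' := by
    refine le_trans ?_ (h.oOf_le_pCoreOf hπ hH.mem)
    refine le_oOf_of_centralizer hH.mem.1 hXq (hXR.trans (pCoreOf_le H)) inf_le_right (inf_le_left.trans hEX) ?_
      (Nat.Coprime.coprime_dvd_left (Subgroup.card_dvd_of_le inf_le_left) (coprime_card_oOf L))
    have h1 : H ⊓ centralizer (X : Set G) ≤ L := by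
      apply h.le_NT
      · exact mem_of_le hH.mem inf_le_left (le_normalizer_inf (fam_normalizer hH.mem)
          (le_normalizer_centralizer (fam_normalizer hX)))
      · exact inf_le_right.trans (centralizer_le_normalizer _)
    exact le_normalizer_inf (h1.trans (le_normalizer_oOf L)) (inf_le_left.trans le_normalizer)
  have hEq : R' = E := by
    by_contra hne
    have hnil : Group.IsNilpotent ↥E := hEs.isNilpotent
    have hlt : R'.subgroupOf E < ⊤ := by
      rw [lt_top_iff_ne_top]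
      intro h2
      rw [subgroupOf_eq_top] at h2
      exact hne (le_antisymm hR'E h2)
    have h2 := Group.normalizerCondition_of_isNilpotent (G := ↥E) (R'.subgroupOf E) hlt
    obtain ⟨x, hx, hxX⟩ := SetLike.exists_of_lt h2
    rw [← subgroupOf_normalizer_eq hR'E] at hx
    have h3 : E ⊓ normalizer (R' : Set G) ≤ H := by
      apply h.le_of_normalizer_pCoreOf hH hsH _ inf_le_right
      exact mem_of_le hEm inf_le_left (le_normalizer_inf (fam_normalizer hEm)
        ((fam_normalizer hRm').trans le_normalizer))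
    apply hxX
    rw [mem_subgroupOf]
    exact hEH ⟨x.2, h3 ⟨x.2, hx⟩⟩
  apply h.le_of_normalizer_pCoreOf hH hsH hLm
  rw [← hR', hEq]
  exact le_normalizer_oOf L

theorem NT_le' {q s : ℕ} [hq : Fact q.Prime] [hs : Fact s.Prime] (hqs : q ≠ s)
    (hπ : ∀ u : ℕ, u.Prime → (∃ a ∈ A, a ≠ 1 ∧ u ∣ Nat.card (θ a)) → u = q ∨ u = s) {H : Subgroup G}
    (hH : MM A θ H) (hqH : pCoreOf q H ≠ ⊥) (hsH : pCoreOf s H ≠ ⊥) {X : Subgroup G}
    (hX : X ∈ signalizerFamily 2 A θ) (hX1 : X ≠ ⊥) (hXH : X ≤ pCoreOf q H) : NT A θ X ≤ H :=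
  h.NT_le hqs hπ hH hqH hsH _ X le_rfl hX hX1 hXH

/-- half of the main step for two primes -/
theorem half {q s : ℕ} [hq : Fact q.Prime] [hs : Fact s.Prime] (hqs : q ≠ s)
    (hπ : ∀ u : ℕ, u.Prime → (∃ a ∈ A, a ≠ 1 ∧ u ∣ Nat.card (θ a)) → u = q ∨ u = s) {H N : Subgroup G}
    (hH : MM A θ H) (hqH : pCoreOf q H ≠ ⊥) (hsH : pCoreOf s H ≠ ⊥) (hN : MM A θ N)
    (h1 : pCoreOf q H ⊓ N ≠ ⊥) (h2 : pCoreOf s H ⊓ N ≠ ⊥) : pCoreOf q N ≤ H ∧ pCoreOf s N ≠ ⊥ := by
  have hπ' : ∀ u : ℕ, u.Prime → (∃ a ∈ A, a ≠ 1 ∧ u ∣ Nat.card (θ a)) → u = s ∨ u = q :=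
    fun u hu ha => (hπ u hu ha).symm
  set Xq := pCoreOf q H ⊓ N with hXq
  set Xs := pCoreOf s H ⊓ N with hXs
  have hXqm : Xq ∈ signalizerFamily 2 A θ := mem_of_le hN.mem inf_le_right
    (le_normalizer_inf (fam_normalizer (pCoreOf_mem hH.mem q)) (fam_normalizer hN.mem))
  have hXsm : Xs ∈ signalizerFamily 2 A θ := mem_of_le hN.mem inf_le_right
    (le_normalizer_inf (fam_normalizer (pCoreOf_mem hH.mem s)) (fam_normalizer hN.mem))
  have hNq : NT A θ Xq ≤ H := h.NT_le' hqs hπ hH hqH hsH hXqm h1 inf_le_left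
  have hNs : NT A θ Xs ≤ H := h.NT_le' hqs.symm hπ' hH hsH hqH hXsm h2 inf_le_left
  have h3 : Xs ≤ oOf q N := by
    refine le_oOf_of_centralizer hN.mem.1 ((isPGroup_pCoreOf q H).to_le (inf_le_left : Xq ≤ _)) inf_le_right
      inf_le_right ?_ ?_ (isPGroup_coprime hqs.symm ((isPGroup_pCoreOf s H).to_le inf_le_left))
    · exact (inf_le_left.trans (pCoreOf_le_centralizer_pCoreOf hqs.symm H)).trans (centralizer_le inf_le_left)
    · have h4 : N ⊓ centralizer (Xq : Set G) ≤ H := by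
        refine le_trans (h.le_NT ?_ ?_) hNq
        · exact mem_of_le hN.mem inf_le_left (le_normalizer_inf (fam_normalizer hN.mem)
            (le_normalizer_centralizer (fam_normalizer hXqm)))
        · exact inf_le_right.trans (centralizer_le_normalizer _)
      exact le_normalizer_inf (h4.trans (le_normalizer_pCoreOf s H)) (inf_le_left.trans le_normalizer)
  constructor
  · refine le_trans (h.le_NT (pCoreOf_mem hN.mem q) ?_) hNs
    exact ((pCoreOf_le_centralizer_oOf N).trans (centralizer_le h3)).trans (centralizer_le_normalizer _)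
  · intro h0
    apply h2
    rw [eq_bot_iff, ← h0]
    exact h3.trans (h.oOf_le_pCoreOf hπ hN.mem)

/-- for two primes there are no mixed members in `MM` -/
theorem no_mixed {q s : ℕ} [hq : Fact q.Prime] [hs : Fact s.Prime] (hqs : q ≠ s)
    (hπ : ∀ u : ℕ, u.Prime → (∃ a ∈ A, a ≠ 1 ∧ u ∣ Nat.card (θ a)) → u = q ∨ u = s) {H : Subgroup G}
    (hH : MM A θ H) (hqH : pCoreOf q H ≠ ⊥) (hsH : pCoreOf s H ≠ ⊥) : False := by
  have hπ' : ∀ u : ℕ, u.Prime → (∃ a ∈ A, a ≠ 1 ∧ u ∣ Nat.card (θ a)) → u = s ∨ u = q :=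
    fun u hu ha => (hπ u hu ha).symm
  have key : ∀ N, MM A θ N → N ≠ H → pCoreOf q H ⊓ N ≠ ⊥ → pCoreOf s H ⊓ N ≠ ⊥ → False := by
    intro N hN hNH h1 h2
    obtain ⟨h3, h4⟩ := h.half hqs hπ hH hqH hsH hN h1 h2
    obtain ⟨h5, h6⟩ := h.half hqs.symm hπ' hH hsH hqH hN h2 h1
    have h7 : fittingOf N ≤ H := by
      apply fittingOf_le_of_forall
      intro u hu
      have : Fact u.Prime := ⟨hu⟩
      by_cases h0 : pCoreOf u N = ⊥
      · rw [h0]; exact bot_le
      · rcases hπ u hu (h.dvd_theta_of_pCoreOf hN.mem h0) with h8 | h8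
        · subst h8; exact h3
        · subst h8; exact h5
    obtain ⟨t, ht, htH, htN⟩ := h.exists_new_prime hN hH hqs h4 h6 h7 (Ne.symm hNH)
    have : Fact t.Prime := ⟨ht⟩
    rcases hπ t ht (h.dvd_theta_of_pCoreOf hH.mem htH) with h8 | h8
    · subst h8; exact h6 htN
    · subst h8; exact h4 htN
  -- common points lie in `P_H`
  have hpt : ∀ a ∈ A, a ≠ 1 → pCoreOf q H ⊓ centralizer ({a} : Set G) ≠ ⊥ →
      pCoreOf s H ⊓ centralizer ({a} : Set G) ≠ ⊥ → θ a ≤ H := by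
    intro a ha ha1 h1 h2
    have ham := theta_mem h.func ha ha1
    obtain ⟨N, hN, haN⟩ := h.exists_ge ham ((signalizerInf_le ha ha1).trans le_normalizer)
    by_cases hNH : N = H
    · rw [← hNH]; exact haN
    · exfalso
      apply key N hN hNH
      · intro h0
        apply h1
        rw [eq_bot_iff, ← h0]
        exact le_inf inf_le_left (((pCoreOf_mem hH.mem q).2.2.2 a ha ha1).trans haN)
      · intro h0
        apply h2
        rw [eq_bot_iff, ← h0]
        exact le_inf inf_le_left (((pCoreOf_mem hH.mem s).2.2.2 a ha ha1).trans haN)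
  -- lines
  have hline : ∀ B C : Subgroup G, B ≤ A → B.relIndex A ≤ 2 → C ≤ A → C.relIndex A ≤ 2 →
      ∃ a ∈ B ⊓ C, a ≠ 1 := by
    intro B C hB hBi hC hCi
    apply exists_ne_one_of_ne_bot
    intro h0
    have h1 : (B ⊓ C).relIndex A ≤ B.relIndex A * C.relIndex A := Subgroup.relIndex_inf_le
    rw [h0, relIndex_bot_left, h.card] at h1
    nlinarith
  have hex : ∀ V : Subgroup G, V ∈ signalizerFamily 2 A θ → V ≠ ⊥ →
      ∃ B : Subgroup G, B ≤ A ∧ B.relIndex A ≤ 2 ∧ V ⊓ centralizer (B : Set G) ≠ ⊥ := by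
    intro V hV hV1
    by_contra hcon
    push Not at hcon
    apply hV1
    rw [eq_bot_iff]
    apply le_of_hyper h.elem hV.2.1 (fam_normalizer hV)
    intro B hB hBi
    exact (hcon B hB hBi).le
  have hmono : ∀ (V B : Subgroup G) (a : G), a ∈ B → V ⊓ centralizer (B : Set G) ≠ ⊥ →
      V ⊓ centralizer ({a} : Set G) ≠ ⊥ := by
    intro V B a ha hne h0
    apply hne
    rw [eq_bot_iff, ← h0]
    apply inf_le_inf_left
    apply centralizer_le
    intro x hx
    rw [Set.mem_singleton_iff] at hx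
    rw [hx]; exact ha
  obtain ⟨B, hB, hBi, hBV⟩ := hex _ (pCoreOf_mem hH.mem q) hqH
  obtain ⟨C, hC, hCi, hCV⟩ := hex _ (pCoreOf_mem hH.mem s) hsH
  obtain ⟨c, hc, hc1⟩ := hline B C hB hBi hC hCi
  obtain ⟨hcB, hcC⟩ := mem_inf.1 hc
  have hcA := hB hcB
  have hcH := hpt c hcA hc1 (hmono _ B c hcB hBV) (hmono _ C c hcC hCV)
  -- `c` centralizes `O_q(H)` and `O_s(H)`
  have hcent : ∀ (V W C : Subgroup G), V ∈ signalizerFamily 2 A θ → W ∈ signalizerFamily 2 A θ → C ≤ A →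
      C.relIndex A ≤ 2 → W ⊓ centralizer (C : Set G) ≠ ⊥ →
      (∀ a ∈ A, a ≠ 1 → V ⊓ centralizer ({a} : Set G) ≠ ⊥ → W ⊓ centralizer ({a} : Set G) ≠ ⊥ → θ a ≤ H) →
      V ≤ centralizer ({c} : Set G) := by
    intro V W C hV hW hC hCi hCW hVW
    apply le_of_hyper h.elem hV.2.1 (fam_normalizer hV)
    intro B' hB' hBi'
    by_cases h0 : V ⊓ centralizer (B' : Set G) = ⊥
    · rw [h0]; exact bot_le
    · obtain ⟨a, ha, ha1⟩ := hline B' C hB' hBi' hC hCi
      obtain ⟨haB, haC⟩ := mem_inf.1 ha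
      have haH := hVW a (hB' haB) ha1 (hmono _ B' a haB h0) (hmono _ C a haC hCW)
      have hac := h.eq_of_theta_le hH.mem (hB' haB) ha1 hcA hc1 haH hcH
      subst hac
      refine inf_le_right.trans (centralizer_le ?_)
      intro x hx
      rw [Set.mem_singleton_iff] at hx
      rw [hx]; exact haB
  have h1 := hcent _ _ C (pCoreOf_mem hH.mem q) (pCoreOf_mem hH.mem s) hC hCi hCV hpt
  have h2 := hcent _ _ B (pCoreOf_mem hH.mem s) (pCoreOf_mem hH.mem q) hB hBi hBV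
    (fun a ha ha1 h3 h4 => hpt a ha ha1 h4 h3)
  apply h.not_centralizes_fitting hcA hc1 hH
  apply fittingOf_le_of_forall
  intro u hu
  have : Fact u.Prime := ⟨hu⟩
  by_cases h0 : pCoreOf u H = ⊥
  · rw [h0]; exact bot_le
  · rcases hπ u hu (h.dvd_theta_of_pCoreOf hH.mem h0) with h8 | h8
    · subst h8; exact h1
    · subst h8; exact h2

/-- the case of at most two primes -/
theorem false_of_two {q s : ℕ} (hq : q.Prime) (hs : s.Prime) (hqs : q ≠ s)
    (hπ : ∀ u : ℕ, u.Prime → (∃ a ∈ A, a ≠ 1 ∧ u ∣ Nat.card (θ a)) → u = q ∨ u = s) : False := by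
  have : Fact q.Prime := ⟨hq⟩
  have : Fact s.Prime := ⟨hs⟩
  have htype : ∀ M, MM A θ M → Pure q M ∨ Pure s M := by
    intro M hM
    rcases h.mixed_or_pure hM with ⟨s', r', hs', hr', hrs, h1, h2⟩ | ⟨w, hw, hp⟩
    · exfalso
      have : Fact s'.Prime := ⟨hs'⟩
      have : Fact r'.Prime := ⟨hr'⟩
      rcases hπ s' hs' (h.dvd_theta_of_pCoreOf hM.mem h1) with h3 | h3 <;>
        rcases hπ r' hr' (h.dvd_theta_of_pCoreOf hM.mem h2) with h4 | h4
      · exact hrs (h4.trans h3.symm)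
      · rw [h3] at h1; rw [h4] at h2
        exact h.no_mixed hqs hπ hM h1 h2
      · rw [h3] at h1; rw [h4] at h2
        exact h.no_mixed hqs hπ hM h2 h1
      · exact hrs (h4.trans h3.symm)
    · obtain ⟨t, ht, ht1⟩ := h.exists_pCoreOf_ne hM
      have : Fact t.Prime := ⟨ht⟩
      have htw : t = w := by
        by_contra hne
        exact ht1 (hp t ht hne)
      rcases hπ t ht (h.dvd_theta_of_pCoreOf hM.mem ht1) with h3 | h3
      · left; rw [← h3, htw]; exact hp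
      · right; rw [← h3, htw]; exact hp
  have hex : ∀ b ∈ A, b ≠ 1 → ∃ M, MM A θ M ∧ θ b ≤ M := fun b hb hb1 =>
    h.exists_ge (theta_mem h.func hb hb1) ((signalizerInf_le hb hb1).trans le_normalizer)
  obtain ⟨a, b, c, d, ha, hb, hc, hd, ha1, hb1, hc1, hd1, hab, hac, had, hbc, hbd, hcd⟩ := h.exists_four
  obtain ⟨M₁, hM₁, h₁⟩ := hex a ha ha1
  obtain ⟨M₂, hM₂, h₂⟩ := hex b hb hb1
  obtain ⟨M₃, hM₃, h₃⟩ := hex c hc hc1
  have n12 : M₁ ≠ M₂ := by
    rintro rfl; exact hab (h.eq_of_theta_le hM₁.mem ha ha1 hb hb1 h₁ h₂)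
  have n13 : M₁ ≠ M₃ := by
    rintro rfl; exact hac (h.eq_of_theta_le hM₁.mem ha ha1 hc hc1 h₁ h₃)
  have n23 : M₂ ≠ M₃ := by
    rintro rfl; exact hbc (h.eq_of_theta_le hM₂.mem hb hb1 hc hc1 h₂ h₃)
  rcases htype M₁ hM₁ with t1 | t1 <;> rcases htype M₂ hM₂ with t2 | t2 <;> rcases htype M₃ hM₃ with t3 | t3
  · exact n12 (h.pure_unique hM₁ hM₂ t1 t2)
  · exact n12 (h.pure_unique hM₁ hM₂ t1 t2)
  · exact n13 (h.pure_unique hM₁ hM₃ t1 t3)
  · exact n23 (h.pure_unique hM₂ hM₃ t2 t3)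
  · exact n23 (h.pure_unique hM₂ hM₃ t2 t3)
  · exact n13 (h.pure_unique hM₁ hM₃ t1 t3)
  · exact n12 (h.pure_unique hM₁ hM₂ t1 t2)
  · exact n12 (h.pure_unique hM₁ hM₂ t1 t2)

end MinCE

end Cfsg.Agent.Lib.SSF2
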