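import Mathlib
import Cfsg.Agent.Lib.SU3Syl
import Cfsg.Agent.Lib.Cores

/-!
# The automorphism group of the Sylow 2-subgroup of SU(3,2^n) (helper51)
-/

set_option autoImplicit false

namespace Cfsg.Agent.Lib.SU3AutGrp

open Cfsg Cfsg.Agent.Lib.ClUnitary Cfsg.Agent.Lib.HermMat Cfsg.Agent.Lib.SylU3 Cfsg.Agent.Lib.SU3Core
  Cfsg.Agent.Lib.SU3Aut Cfsg.Agent.Lib.SU3Syl

variable {F : Type*} [Field F] [Fintype F] {q : ℕ}

theorem card_addHom (V W : Type*) [AddCommGroup V] [AddCommGroup W] [Module (ZMod 2) V] [Module (ZMod 2) W]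
    [Finite V] [Finite W] : Nat.card (V →+ W) = 2 ^ (Module.finrank (ZMod 2) V * Module.finrank (ZMod 2) W) := by
  have : Module.Finite (ZMod 2) V := Module.Finite.of_finite
  have : Module.Finite (ZMod 2) W := Module.Finite.of_finite
  have e : (V →+ W) ≃ (V →ₗ[ZMod 2] W) :=
    { toFun := fun f => f.toZModLinearMap 2
      invFun := fun f => f.toAddMonoidHom
      left_inv := fun f => rfl
      right_inv := fun f => rfl }
  rw [Nat.card_congr e, Module.natCard_eq_pow_finrank (K := ZMod 2), Module.finrank_linearMap, Nat.card_zmod]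

/-- the fixed field, additively -/
def Kq (hF : Fintype.card F = q ^ 2) : AddSubgroup F where
  carrier := {z | z ^ q = z}
  zero_mem' := by
    have := two_le_q hF
    change (0 : F) ^ q = 0
    exact zero_pow (by omega)
  add_mem' := fun {a b} ha hb => by
    change (a + b) ^ q = a + b
    rw [add_pow_q hF]
    exact congrArg₂ (· + ·) ha hb
  neg_mem' := fun {a} ha => by
    change (-a) ^ q = -a
    rw [neg_pow_q hF]
    exact congrArg Neg.neg ha

variable [CharP F 2]

theorem card_Kq (hF : Fintype.card F = q ^ 2) : Nat.card (Kq hF) = q := by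
  have hq := two_le_q hF
  refine Eq.trans ?_ (card_fiber hF (0 : F) (zero_pow (by omega)))
  apply Nat.card_congr
  refine Equiv.subtypeEquivRight (fun b => ?_)
  constructor
  · intro h
    have : b ^ q = b := h
    rw [this, add_self]
  · intro h
    exact fixed_of_tr h

theorem card_hom (hF : Fintype.card F = q ^ 2) {n : ℕ} (hq : q = 2 ^ n) :
    Nat.card (F →+ Kq hF) = 2 ^ (2 * n ^ 2) := by
  let _ : Module (ZMod 2) F := AddCommGroup.zmodModule (fun x => by rw [two_nsmul, add_self])
  let _ : Module (ZMod 2) (Kq hF) := AddCommGroup.zmodModule (fun x => by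
    apply Subtype.ext
    rw [two_nsmul]
    exact add_self _)
  have : Module.Finite (ZMod 2) F := Module.Finite.of_finite
  have : Module.Finite (ZMod 2) (Kq hF) := Module.Finite.of_finite
  rw [card_addHom]
  have h1 : Nat.card F = Nat.card (ZMod 2) ^ Module.finrank (ZMod 2) F := Module.natCard_eq_pow_finrank
  have h2 : Nat.card (Kq hF) = Nat.card (ZMod 2) ^ Module.finrank (ZMod 2) (Kq hF) :=
    Module.natCard_eq_pow_finrank
  rw [Nat.card_zmod, Nat.card_eq_fintype_card, hF, hq, ← pow_mul] at h1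
  rw [Nat.card_zmod, card_Kq] at h2
  have h3 := Nat.pow_right_injective (le_refl 2) h1
  have h4 := Nat.pow_right_injective (le_refl 2) (hq.symm.trans h2)
  rw [← h3, ← h4]
  congr 1
  ring

/-- lifting semilinear maps -/
theorem exists_lift (hF : Fintype.card F = q ^ 2) (c : Fˣ) (φ : F ≃+* F) :
    ∃ ψ : MulAut (U3 hF), ∀ g, pa (ψ g) = c * φ (pa g) := by
  have hrel : ∀ g : U3 hF, ((c : F) * (c : F) ^ q * φ (pb g)) + ((c : F) * (c : F) ^ q * φ (pb g)) ^ q =
      (c * φ (pa g)) * (c * φ (pa g)) ^ q := by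
    intro g
    have h := congrArg φ (rel g)
    rw [map_add, map_mul, map_pow, map_pow] at h
    rw [mul_pow, mul_pow, mul_pow, pow_q_pow_q hF]
    linear_combination ((c : F) * (c : F) ^ q) * h
  let f : U3 hF →* U3 hF :=
    { toFun := fun g => mk hF (c * φ (pa g)) ((c : F) * (c : F) ^ q * φ (pb g)) (hrel g)
      map_one' := by
        apply ext'
        · rw [pa_mk, pa_one, map_zero, mul_zero]
        · rw [pb_mk, pb_one, map_zero, mul_zero]
      map_mul' := fun g h => by
        apply ext'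
        · rw [pa_mk, pa_mul, pa_mul, pa_mk, pa_mk, map_add, mul_add]
        · rw [pb_mk, pb_mul, pb_mul, pb_mk, pb_mk, pa_mk, pa_mk, map_add, map_add, map_mul, map_pow, mul_pow]
          ring }
  have hf1 : ∀ g, pa (f g) = c * φ (pa g) := fun g => rfl
  have hf2 : ∀ g, pb (f g) = (c : F) * (c : F) ^ q * φ (pb g) := fun g => rfl
  have hinj : Function.Injective f := by
    rw [injective_iff_map_eq_one]
    intro g hg
    apply ext'
    · have := hf1 g
      rw [hg, pa_one] at this
      rw [pa_one]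
      rcases mul_eq_zero.mp this.symm with h | h
      · exact absurd h c.ne_zero
      · exact (map_eq_zero φ).mp h
    · have := hf2 g
      rw [hg, pb_one] at this
      rw [pb_one]
      rcases mul_eq_zero.mp this.symm with h | h
      · exact absurd h (mul_ne_zero c.ne_zero (pow_ne_zero _ c.ne_zero))
      · exact (map_eq_zero φ).mp h
  have hfin : Finite (U3 hF) := inferInstance
  exact ⟨MulEquiv.ofBijective f ⟨hinj, Finite.surjective_of_injective hinj⟩, hf1⟩

/-- the action on the first coordinate -/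
noncomputable def rho (hF : Fintype.card F = q ^ 2) : MulAut (U3 hF) →* Equiv.Perm F where
  toFun ψ := (Ae ψ).toEquiv
  map_one' := by ext a; exact Af_one a
  map_mul' ψ χ := by ext a; exact Af_mul ψ χ a

theorem rho_pa {hF : Fintype.card F = q ^ 2} (ψ : MulAut (U3 hF)) (g : U3 hF) : rho hF ψ (pa g) = pa (ψ g) :=
  Af_pa ψ g

theorem mem_ker {hF : Fintype.card F = q ^ 2} (ψ : MulAut (U3 hF)) : ψ ∈ (rho hF).ker ↔ ∀ g, pa (ψ g) = pa g := by
  rw [MonoidHom.mem_ker]
  constructor
  · intro h g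
    rw [← rho_pa, h]; rfl
  · intro h
    ext a
    obtain ⟨g, rfl⟩ := exists_pa hF a
    rw [rho_pa, h]; rfl

/-- the central automorphisms -/
def cent (hF : Fintype.card F = q ^ 2) (h : F →+ Kq hF) : MulAut (U3 hF) where
  toFun g := mk hF (pa g) (pb g + h (pa g)) (by
    have := (h (pa g)).2
    have h2 : (h (pa g) : F) ^ q = h (pa g) := this
    rw [add_pow_q hF, h2, ← rel g]
    linear_combination (h (pa g) : F) * CharTwo.two_eq_zero (R := F))
  invFun g := mk hF (pa g) (pb g + h (pa g)) (by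
    have := (h (pa g)).2
    have h2 : (h (pa g) : F) ^ q = h (pa g) := this
    rw [add_pow_q hF, h2, ← rel g]
    linear_combination (h (pa g) : F) * CharTwo.two_eq_zero (R := F))
  left_inv g := by
    apply ext'
    · rfl
    · rw [pb_mk, pb_mk, pa_mk, add_assoc, add_self, add_zero]
  right_inv g := by
    apply ext'
    · rfl
    · rw [pb_mk, pb_mk, pa_mk, add_assoc, add_self, add_zero]
  map_mul' g g' := by
    apply ext'
    · rw [pa_mk, pa_mul, pa_mul, pa_mk, pa_mk]
    · rw [pb_mk, pb_mul, pb_mul, pb_mk, pb_mk, pa_mk, pa_mk, pa_mul, map_add, AddSubgroup.coe_add]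
      ring

theorem pa_cent {hF : Fintype.card F = q ^ 2} (h : F →+ Kq hF) (g : U3 hF) : pa (cent hF h g) = pa g := rfl
theorem pb_cent {hF : Fintype.card F = q ^ 2} (h : F →+ Kq hF) (g : U3 hF) :
    pb (cent hF h g) = pb g + h (pa g) := rfl

theorem cent_add {hF : Fintype.card F = q ^ 2} (h h' : F →+ Kq hF) : cent hF (h + h') = cent hF h * cent hF h' := by
  ext1 g
  apply ext'
  · rfl
  · change pb (cent hF (h + h') g) = pb (cent hF h (cent hF h' g))
    rw [pb_cent, pb_cent, pb_cent, pa_cent, AddMonoidHom.add_apply, AddSubgroup.coe_add]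
    ring

/-- the embedding of the central automorphisms -/
noncomputable def centHom (hF : Fintype.card F = q ^ 2) : Multiplicative (F →+ Kq hF) →* MulAut (U3 hF) where
  toFun h := cent hF h.toAdd
  map_one' := by
    ext1 g
    apply ext'
    · rfl
    · change pb (cent hF 0 g) = pb g
      rw [pb_cent]; simp
  map_mul' h h' := cent_add _ _

theorem centHom_inj (hF : Fintype.card F = q ^ 2) : Function.Injective (centHom hF) := by
  intro h h' he
  apply Multiplicative.toAdd.injective
  ext a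
  obtain ⟨g, rfl⟩ := exists_pa hF a
  have := congrArg (fun ψ : MulAut (U3 hF) => pb (ψ g)) he
  change pb (cent hF h.toAdd g) = pb (cent hF h'.toAdd g) at this
  rw [pb_cent, pb_cent] at this
  exact add_left_cancel this

theorem ker_eq (hF : Fintype.card F = q ^ 2) : (rho hF).ker = (centHom hF).range := by
  apply le_antisymm
  · intro ψ hψ
    rw [mem_ker] at hψ
    obtain ⟨c, φ, hc, h1, h2⟩ := aut_structure ψ
    have h3 : ∀ x, c * φ x = x := by
      intro x
      obtain ⟨g, rfl⟩ := exists_pa hF x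
      rw [← h1, hψ]
    have hc1 : c = 1 := by
      have := h3 1
      rwa [map_one, mul_one] at this
    have hφ : ∀ x, φ x = x := by
      intro x
      have := h3 x
      rwa [hc1, one_mul] at this
    have h4 : ∀ g, pa g = 0 → pb (ψ g) = pb g := by
      intro g hg
      rw [h2 g hg, hc1, hφ, one_pow, one_mul, one_mul]
    have h5 : ∀ g, (pb (ψ g) + pb g) ^ q = pb (ψ g) + pb g := by
      intro g
      have e1 := rel (ψ g)
      rw [hψ g, ← rel g] at e1
      rw [add_pow_q hF]
      linear_combination e1 - (pb (ψ g) - pb g ^ q) * CharTwo.two_eq_zero (R := F)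
    have h6 : ∀ g h, pb (ψ (g * h)) + pb (g * h) = (pb (ψ g) + pb g) + (pb (ψ h) + pb h) := by
      intro g h
      rw [map_mul, pb_mul, pb_mul, hψ, hψ]
      linear_combination (pa g * pa h ^ q) * CharTwo.two_eq_zero (R := F)
    have h7 : ∀ g h, pa g = pa h → pb (ψ g) + pb g = pb (ψ h) + pb h := by
      intro g h hgh
      have e : g = (g * h⁻¹) * h := by group
      have e1 : pa (g * h⁻¹) = 0 := by rw [pa_mul, pa_inv, hgh, add_self]
      rw [e, h6, h4 _ e1, add_self, zero_add]
    refine ⟨Multiplicative.ofAdd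
      { toFun := fun a => ⟨pb (ψ (sec hF a)) + pb (sec hF a), h5 _⟩
        map_zero' := ?_
        map_add' := ?_ }, ?_⟩
    · apply Subtype.ext
      change pb (ψ (sec hF 0)) + pb (sec hF 0) = 0
      rw [h7 _ 1 (by rw [pa_sec, pa_one]), map_one, add_self]
    · intro a b
      apply Subtype.ext
      change pb (ψ (sec hF (a + b))) + pb (sec hF (a + b)) = _
      rw [h7 _ (sec hF a * sec hF b) (by rw [pa_sec, pa_mul, pa_sec, pa_sec]), h6]
      rfl
    · ext1 g
      apply ext'
      · exact (hψ g).symm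
      · change pb g + (pb (ψ (sec hF (pa g))) + pb (sec hF (pa g))) = _
        rw [h7 _ g (pa_sec _ _)]
        linear_combination pb g * CharTwo.two_eq_zero (R := F)
  · rintro _ ⟨h, rfl⟩
    rw [mem_ker]
    intro g
    rfl

theorem card_ker (hF : Fintype.card F = q ^ 2) {n : ℕ} (hq : q = 2 ^ n) :
    Nat.card (rho hF).ker = 2 ^ (2 * n ^ 2) := by
  rw [ker_eq, ← card_hom hF hq]
  exact (Nat.card_congr (MonoidHom.ofInjective (centHom_inj hF)).toEquiv).symm

theorem ker_elementary (hF : Fintype.card F = q ^ 2) : IsElementaryAbelian 2 (rho hF).ker := by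
  rw [ker_eq]
  refine ⟨⟨⟨?_⟩⟩, ?_⟩
  · rintro ⟨_, h, rfl⟩ ⟨_, h', rfl⟩
    apply Subtype.ext
    change centHom hF h * centHom hF h' = centHom hF h' * centHom hF h
    rw [← map_mul, ← map_mul, mul_comm]
  · rintro _ ⟨h, rfl⟩
    rw [← map_pow]
    have : h ^ 2 = 1 := by
      apply Multiplicative.toAdd.injective
      rw [toAdd_pow]
      ext a
      rw [two_nsmul]
      exact add_self _
    rw [this, map_one]

/-- the image -/
noncomputable def sl (c : Fˣ) (φ : F ≃+* F) : Equiv.Perm F where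
  toFun a := c * φ a
  invFun a := φ.symm (c⁻¹ * a)
  left_inv a := by simp
  right_inv a := by simp

theorem sl_inj {c d : Fˣ} {φ χ : F ≃+* F} (h : sl c φ = sl d χ) : c = d ∧ φ = χ := by
  have h1 : ∀ a, (c : F) * φ a = d * χ a := fun a => DFunLike.congr_fun h a
  have h2 : c = d := by
    apply Units.ext
    have := h1 1
    rwa [map_one, map_one, mul_one, mul_one] at this
  subst h2
  refine ⟨rfl, ?_⟩
  ext a
  exact mul_left_cancel₀ c.ne_zero (h1 a)

theorem card_range (hF : Fintype.card F = q ^ 2) :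
    Nat.card (rho hF).range = (q ^ 2 - 1) * Nat.card (F ≃+* F) := by
  have e : Nat.card (Fˣ × (F ≃+* F)) = Nat.card (rho hF).range := by
    refine Nat.card_eq_of_bijective (fun x => ⟨sl x.1 x.2, ?_⟩) ⟨?_, ?_⟩
    · obtain ⟨ψ, hψ⟩ := exists_lift hF x.1 x.2
      refine ⟨ψ, ?_⟩
      ext a
      obtain ⟨g, rfl⟩ := exists_pa hF a
      rw [rho_pa, hψ]; rfl
    · rintro ⟨c, φ⟩ ⟨d, χ⟩ h
      obtain ⟨rfl, rfl⟩ := sl_inj (congrArg Subtype.val h)
      rfl
    · rintro ⟨_, ψ, rfl⟩
      obtain ⟨c, φ, hc, h1, h2⟩ := aut_structure ψ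
      refine ⟨(Units.mk0 c hc, φ), ?_⟩
      apply Subtype.ext
      ext a
      obtain ⟨g, rfl⟩ := exists_pa hF a
      change c * φ (pa g) = rho hF ψ (pa g)
      rw [rho_pa, h1]
  rw [← e, Nat.card_prod, Nat.card_units, Nat.card_eq_fintype_card, hF]

theorem card_aut (hF : Fintype.card F = q ^ 2) {n : ℕ} (hq : q = 2 ^ n) :
    Nat.card (MulAut (U3 hF)) = 2 ^ (2 * n ^ 2) * ((q ^ 2 - 1) * Nat.card (F ≃+* F)) := by
  rw [← card_ker hF hq, ← card_range hF, Subgroup.card_eq_card_quotient_mul_card_subgroup (rho hF).ker, mul_comm,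
    Nat.card_congr (QuotientGroup.quotientKerEquivRange (rho hF)).toEquiv]

/-- a 2-element acting as a scalar is in the kernel -/
theorem scalar_two {hF : Fintype.card F = q ^ 2} (ψ : MulAut (U3 hF)) (c : F) (h : ∀ g, pa (ψ g) = c * pa g) {k : ℕ}
    (hk : ψ ^ (2 ^ k) = 1) : c = 1 := by
  have h1 : ∀ (m : ℕ) (g : U3 hF), pa ((ψ ^ m) g) = c ^ m * pa g := by
    intro m
    induction m with
    | zero => intro g; rw [pow_zero, pow_zero, one_mul]; rfl
    | succ m ih =>
      intro g
      rw [pow_succ, MulAut.mul_apply, ih, h, pow_succ]; ring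
  obtain ⟨g, hg⟩ := exists_pa hF (1 : F)
  have h2 := h1 (2 ^ k) g
  rw [hk, hg, mul_one, MulAut.one_apply, hg] at h2
  exact iterateFrobenius_inj F 2 k (by rw [iterateFrobenius_def, iterateFrobenius_def, one_pow, ← h2])

theorem pCore_eq (hF : Fintype.card F = q ^ 2) : pCore 2 (MulAut (U3 hF)) = (rho hF).ker := by
  have hp2 : Fact (Nat.Prime 2) := ⟨Nat.prime_two⟩
  apply le_antisymm
  · intro x hx
    have hpg := Cores.isPGroup_pCore 2 (MulAut (U3 hF))
    have hnorm : (pCore 2 (MulAut (U3 hF))).Normal := by infer_instance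
    have h2el : ∀ y ∈ pCore 2 (MulAut (U3 hF)), ∃ k : ℕ, y ^ (2 ^ k) = 1 := by
      intro y hy
      obtain ⟨k, hk⟩ := hpg ⟨y, hy⟩
      exact ⟨k, congrArg Subtype.val hk⟩
    obtain ⟨c, φ, hc, h1, h2⟩ := aut_structure x
    have hφ : ∀ d : Fˣ, φ d = d := by
      intro d
      obtain ⟨m, hm⟩ := exists_lift hF d (RingEquiv.refl F)
      have hy : x * m * x⁻¹ * m⁻¹ ∈ pCore 2 (MulAut (U3 hF)) := by
        have e : x * m * x⁻¹ * m⁻¹ = x * (m * x⁻¹ * m⁻¹) := by group
        rw [e]
        exact mul_mem hx (hnorm.conj_mem _ (inv_mem hx) m)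
      obtain ⟨k, hk⟩ := h2el _ hy
      have h3 : ∀ g, pa ((x * m * x⁻¹ * m⁻¹) g) = (φ d * (d : F)⁻¹) * pa g := by
        intro g
        obtain ⟨u, rfl⟩ := (m * x).surjective g
        have e1 : (x * m * x⁻¹ * m⁻¹) ((m * x) u) = x (m u) := by
          rw [← MulAut.mul_apply, ← MulAut.mul_apply]
          congr 1
          group
        rw [e1, h1, hm, MulAut.mul_apply, hm, h1]
        simp only [RingEquiv.refl_apply, map_mul]
        have hd : (d : F) ≠ 0 := d.ne_zero
        field_simp
      have h4 := scalar_two _ _ h3 hk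
      have hd : (d : F) ≠ 0 := d.ne_zero
      field_simp at h4
      exact h4
    have hφ' : ∀ a, φ a = a := by
      intro a
      by_cases ha : a = 0
      · rw [ha, map_zero]
      · exact hφ (Units.mk0 a ha)
    obtain ⟨k, hk⟩ := h2el x hx
    have hc1 := scalar_two x c (fun g => by rw [h1, hφ']) hk
    rw [mem_ker]
    intro g
    rw [h1, hφ', hc1, one_mul]
  · apply Cores.le_pCore inferInstance
    intro ψ
    refine ⟨1, ?_⟩
    apply Subtype.ext
    rw [pow_one]
    exact (ker_elementary hF).2 _ ψ.2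

theorem main {S : Type*} [Group S] (hF : Fintype.card F = q ^ 2) {n : ℕ} (hq : q = 2 ^ n) (e : S ≃* U3 hF) :
    IsElementaryAbelian 2 (pCore 2 (MulAut S)) ∧ Nat.card ↥(pCore 2 (MulAut S)) = 2 ^ (2 * n ^ 2) ∧
      Nat.card (MulAut S) = 2 ^ (2 * n ^ 2) * ((q ^ 2 - 1) * Nat.card (F ≃+* F)) := by
  let E : MulAut S ≃* MulAut (U3 hF) := MulAut.congr e
  have hmap : (pCore 2 (MulAut S)).map E.toMonoidHom = pCore 2 (MulAut (U3 hF)) := Cores.map_pCore_equiv 2 E
  refine ⟨⟨⟨⟨?_⟩⟩, ?_⟩, ?_, ?_⟩
  · rintro ⟨x, hx⟩ ⟨y, hy⟩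
    apply Subtype.ext
    apply E.injective
    have hx' : E x ∈ (rho hF).ker := by
      rw [← pCore_eq hF, ← hmap]; exact Subgroup.mem_map_of_mem _ hx
    have hy' : E y ∈ (rho hF).ker := by
      rw [← pCore_eq hF, ← hmap]; exact Subgroup.mem_map_of_mem _ hy
    have h1 := (ker_elementary hF).1.1.1 ⟨E x, hx'⟩ ⟨E y, hy'⟩
    have h2 := congrArg Subtype.val h1
    change E (x * y) = E (y * x)
    rw [map_mul, map_mul]
    exact h2
  · intro x hx
    apply E.injective
    have hx' : E x ∈ (rho hF).ker := by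
      rw [← pCore_eq hF, ← hmap]; exact Subgroup.mem_map_of_mem _ hx
    rw [map_pow, map_one]
    exact (ker_elementary hF).2 _ hx'
  · rw [← card_ker hF hq, ← pCore_eq hF, ← hmap]
    exact (Nat.card_congr ((pCore 2 (MulAut S)).equivMapOfInjective E.toMonoidHom E.injective).toEquiv)
  · rw [← card_aut hF hq]
    exact Nat.card_congr E.toEquiv

end Cfsg.Agent.Lib.SU3AutGrp
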