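import Mathlib

set_option autoImplicit false
set_option linter.unusedSectionVars false

/-!
# Suzuki's theorem, the unitary case: the algebra (helper24)

A partial binary operation on `F²∖0` (`F` finite of characteristic two), which is an elementary abelian two-group
operation, and of which all the translations `T a` map lines to lines not through the origin, is
`1/T(u,v) = 1/u + 1/v` for a suitable structure of a field on `F²`.
-/

namespace Cfsg.Agent.Lib.SUAlg

variable {F : Type*} [Field F]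

/-- the determinant -/
def dt (u v : F × F) : F := u.1 * v.2 - u.2 * v.1

/-- the operation -/
structure Op (T : F × F → F × F → F × F) : Prop where
  ne0 : ∀ u v, u ≠ 0 → v ≠ 0 → u ≠ v → T u v ≠ 0
  symm : ∀ u v, u ≠ 0 → v ≠ 0 → u ≠ v → T u v = T v u
  invl : ∀ u v, u ≠ 0 → v ≠ 0 → u ≠ v → T u (T u v) = v
  ne1 : ∀ u v, u ≠ 0 → v ≠ 0 → u ≠ v → T u v ≠ u
  ne2 : ∀ u v, u ≠ 0 → v ≠ 0 → u ≠ v → T u v ≠ v
  hom : ∀ (k : F) u v, k ≠ 0 → u ≠ 0 → v ≠ 0 → u ≠ v → T (k • u) (k • v) = k • T u v
  frm : ∀ a d, dt a d ≠ 0 → ∃ (θ : F ≃+* F) (h : F × F), dt a h ≠ 0 ∧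
    ∀ ε : F, ε ≠ 0 → T a (a + ε • d) = a + (θ ε)⁻¹ • h

section aut

variable [Finite F] [CharP F 2]

theorem add_self' (x : F) : x + x = 0 := CharTwo.add_self_eq_zero x

/-- the key lemma on three distinct indices -/
theorem three {θ : F → (F ≃+* F)} {r p : F → F} (hr : ∀ x, r x ≠ 0)
    (E1 : ∀ x y, x ≠ y → r x * θ y (x + y) = r y * θ x (x + y))
    (E2 : ∀ x y, x ≠ y → x + y = (θ x (x + y))⁻¹ * p x + (θ y (x + y))⁻¹ * p y)
    {x1 x2 x3 w : F} (h12 : x1 ≠ x2) (h13 : x1 ≠ x3) (h23 : x2 ≠ x3) (hw : x3 + x1 = w * (x2 + x1)) :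
    w * (1 + θ x2 w) = θ x2 w * (1 + θ x3 w) := by
  have h2 : (2 : F) = 0 := CharTwo.two_eq_zero
  have hne : ∀ x y : F, x ≠ y → x + y ≠ 0 := by
    intro x y hxy h
    exact hxy (by linear_combination h - y * h2)
  have hstar : ∀ x y, x ≠ y → r x * (p x / r x + p y / r y) = (x + y) * θ x (x + y) := by
    intro x y hxy
    have a1 : θ x (x + y) ≠ 0 := by
      rw [Ne, map_eq_zero_iff _ (θ x).injective]; exact hne x y hxy
    have a2 : θ y (x + y) ≠ 0 := by
      rw [Ne, map_eq_zero_iff _ (θ y).injective]; exact hne x y hxy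
    have e1 := E1 x y hxy
    have e2 := E2 x y hxy
    have hx := hr x
    have hy := hr y
    generalize θ x (x + y) = A at *
    generalize θ y (x + y) = B at *
    generalize x + y = z at *
    have e3 : z * (A * B) = B * p x + A * p y := by
      rw [e2]
      field_simp
    have e4 : r x * (p x / r x + p y / r y) = p x + r x * p y / r y := by field_simp
    rw [e4]
    have e5 : r x = r y * A / B := by
      rw [eq_div_iff a2]; exact e1
    have e6 : r x * p y / r y = A * p y / B := by
      rw [e5]; field_simp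
    rw [e6]
    field_simp
    linear_combination -e3
  obtain ⟨u, hu⟩ : ∃ u, u = x2 + x1 := ⟨_, rfl⟩
  rw [← hu] at hw
  have hu0 : u ≠ 0 := by rw [hu]; exact hne x2 x1 h12.symm
  have hx3 : x3 = w * u + x1 := by linear_combination hw - x1 * h2
  have hw0 : w ≠ 0 := by
    rintro rfl
    apply h13
    rw [hx3]; ring
  have hw1 : w ≠ 1 := by
    rintro rfl
    apply h23
    rw [hx3, hu]; linear_combination -x1 * h2
  have s23 : x2 + x3 = u * (1 + w) := by rw [hx3, hu]; ring
  have s12 : x1 + x2 = u := by rw [hu]; ring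
  have s13 : x1 + x3 = u * w := by rw [hx3]; linear_combination x1 * h2
  have e12 := E1 x1 x2 h12
  have e13 := E1 x1 x3 h13
  have e23 := E1 x2 x3 h23
  have f12 := hstar x1 x2 h12
  have f13 := hstar x1 x3 h13
  have f21 := hstar x2 x1 h12.symm
  have f23 := hstar x2 x3 h23
  rw [s12] at e12 f12
  rw [s13, map_mul, map_mul] at e13
  rw [s13, map_mul] at f13
  rw [s23, map_mul, map_mul, map_add, map_add, map_one, map_one] at e23
  rw [s23, map_mul, map_add, map_one] at f23
  rw [← hu] at f21
  have a1 : θ x1 u ≠ 0 := by rw [Ne, map_eq_zero_iff _ (θ x1).injective]; exact hu0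
  have a2 : θ x2 u ≠ 0 := by rw [Ne, map_eq_zero_iff _ (θ x2).injective]; exact hu0
  have a3 : θ x3 u ≠ 0 := by rw [Ne, map_eq_zero_iff _ (θ x3).injective]; exact hu0
  have c3 : 1 + θ x3 w ≠ 0 := by
    intro h
    have : θ x3 w = 1 := by linear_combination h - h2
    rw [← map_one (θ x3)] at this
    exact hw1 ((θ x3).injective this)
  generalize θ x1 u = A1 at *
  generalize θ x2 u = A2 at *
  generalize θ x3 u = A3 at *
  generalize θ x1 w = B1 at *
  generalize θ x2 w = B2 at *
  generalize θ x3 w = B3 at *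
  generalize p x1 / r x1 = P1 at *
  generalize p x2 / r x2 = P2 at *
  generalize p x3 / r x3 = P3 at *
  have hr1 := hr x1
  have hr2 := hr x2
  have hr3 := hr x3
  generalize r x1 = R1 at *
  generalize r x2 = R2 at *
  generalize r x3 = R3 at *
  -- A
  have hA : B1 * (1 + B3) = B3 * (1 + B2) := by
    have : R1 * A2 * A3 ≠ 0 := mul_ne_zero (mul_ne_zero hr1 a2) a3
    apply mul_left_cancel₀ this
    linear_combination A3 * B1 * (1 + B3) * e12 + A1 * B1 * e23 - A2 * (1 + B2) * e13
  have hB : w * B1 = w + B2 + w * B2 := by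
    have : R2 * A1 * u ≠ 0 := mul_ne_zero (mul_ne_zero hr2 a1) hu0
    apply mul_left_cancel₀ this
    linear_combination -R2 * f13 + R1 * f23 - R1 * f21 + (w + B2 + w * B2) * u * e12 + R1 * R2 * P1 * h2
  linear_combination w * hA - (1 + B3) * hB - B2 * (1 + B3) * h2

/-- all the automorphisms are trivial -/
theorem aut_trivial {θ : F → (F ≃+* F)} {r p : F → F} (hr : ∀ x, r x ≠ 0)
    (E1 : ∀ x y, x ≠ y → r x * θ y (x + y) = r y * θ x (x + y))
    (E2 : ∀ x y, x ≠ y → x + y = (θ x (x + y))⁻¹ * p x + (θ y (x + y))⁻¹ * p y) :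
    ∀ x z, θ x z = z := by
  classical
  have := Fintype.ofFinite F
  have h2 : (2 : F) = 0 := CharTwo.two_eq_zero
  have key : ∀ x2 x3 w : F, x2 ≠ x3 → w ≠ 0 → w ≠ 1 → w * (1 + θ x2 w) = θ x2 w * (1 + θ x3 w) := by
    intro x2 x3 w h23 hw0 hw1
    have hw1' : 1 + w ≠ 0 := fun h => hw1 (by linear_combination h - h2)
    have e1 : x3 + (x3 + w * x2) / (1 + w) = w * (x2 + (x3 + w * x2) / (1 + w)) := by
      field_simp
      linear_combination (x3 - w ^ 2 * x2) * h2
    have e2 : x2 + (x3 + w * x2) / (1 + w) ≠ 0 := by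
      intro h
      have h3 : x2 + x3 = 0 := by
        have h4 : (1 + w) * (x2 + (x3 + w * x2) / (1 + w)) = 0 := by rw [h, mul_zero]
        have h5 : (1 + w) * (x2 + (x3 + w * x2) / (1 + w)) = (1 + w) * x2 + (x3 + w * x2) := by
          field_simp
        rw [h5] at h4
        linear_combination h4 - w * x2 * h2
      exact h23 (by linear_combination h3 - x3 * h2)
    have e3 : (x3 + w * x2) / (1 + w) ≠ x2 := by
      intro h
      apply e2
      rw [h]
      linear_combination x2 * h2
    have e4 : (x3 + w * x2) / (1 + w) ≠ x3 := by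
      intro h
      rw [h] at e1 e2
      have e5 : w * (x2 + x3) = 0 := by rw [← e1]; linear_combination x3 * h2
      exact (mul_ne_zero hw0 e2) e5
    exact three hr E1 E2 e3 e4 h23 e1
  obtain ⟨g, hg⟩ := IsCyclic.exists_generator (α := Fˣ)
  have hext : ∀ τ τ' : F ≃+* F, τ (g : F) = τ' (g : F) → τ = τ' := by
    intro τ τ' h
    ext z
    by_cases hz : z = 0
    · rw [hz, map_zero, map_zero]
    · obtain ⟨k, hk⟩ := Subgroup.mem_zpowers_iff.1 (hg (Units.mk0 z hz))
      have : z = (g : F) ^ k := by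
        rw [← Units.val_zpow_eq_zpow_val, hk]; rfl
      rw [this, map_zpow₀, map_zpow₀, h]
  obtain ⟨x2, x3, h23, he⟩ : ∃ x2 x3 : F, x2 ≠ x3 ∧ θ x2 = θ x3 := by
    by_contra hcon
    push Not at hcon
    have hinj : Function.Injective (fun x : F => θ x (g : F)) := by
      intro x y hxy
      by_contra hne
      exact hcon x y hne (hext _ _ hxy)
    obtain ⟨x, hx⟩ := Finite.surjective_of_injective hinj (0 : F)
    have hx' : θ x (g : F) = 0 := hx
    rw [map_eq_zero_iff _ (θ x).injective] at hx'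
    exact g.ne_zero hx'
  have hid : ∀ z, θ x2 z = z := by
    intro z
    by_cases hz0 : z = 0
    · rw [hz0, map_zero]
    by_cases hz1 : z = 1
    · rw [hz1, map_one]
    have h3 := key x2 x3 z h23 hz0 hz1
    rw [← he] at h3
    have h4 : 1 + θ x2 z ≠ 0 := by
      intro h
      have : θ x2 z = 1 := by linear_combination h - h2
      rw [← map_one (θ x2)] at this
      exact hz1 ((θ x2).injective this)
    exact (mul_right_cancel₀ h4 h3).symm
  intro x z
  by_cases hx : x = x2
  · rw [hx]; exact hid z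
  by_cases hz0 : z = 0
  · rw [hz0, map_zero]
  by_cases hz1 : z = 1
  · rw [hz1, map_one]
  have h3 := key x2 x z (Ne.symm hx) hz0 hz1
  rw [hid] at h3
  have h4 := mul_left_cancel₀ hz0 h3
  linear_combination -h4

end aut

section op

variable [Finite F] [CharP F 2]

theorem dt_add_smul (e d : F × F) (x : F) : dt (e + x • d) d = dt e d := by
  simp only [dt, Prod.fst_add, Prod.snd_add, Prod.smul_fst, Prod.smul_snd, smul_eq_mul]; ring

theorem ne_zero_of_dt {e d : F × F} (h : dt e d ≠ 0) : e ≠ 0 := by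
  rintro rfl
  apply h
  simp [dt]

theorem ne_add_of_dt {e d : F × F} (h : dt e d ≠ 0) {x : F} (hx : x ≠ 0) : e ≠ e + x • d := by
  intro h1
  have h2 : x • d = 0 := by
    have := h1
    rwa [left_eq_add] at this
  rcases smul_eq_zero.1 h2 with h3 | h3
  · exact hx h3
  · apply h; rw [h3]; simp [dt]

theorem coords {e d : F × F} (hed : dt e d ≠ 0) (h : F × F) :
    h = (dt h d / dt e d) • e + (dt e h / dt e d) • d := by
  have h1 : dt h d * e.1 + dt e h * d.1 = h.1 * dt e d := by unfold dt; ring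
  have h2 : dt h d * e.2 + dt e h * d.2 = h.2 * dt e d := by unfold dt; ring
  apply Prod.ext
  · simp only [Prod.fst_add, Prod.smul_fst, smul_eq_mul]
    field_simp
    linear_combination -h1
  · simp only [Prod.snd_add, Prod.smul_snd, smul_eq_mul]
    field_simp
    linear_combination -h2

theorem vec_double (u : F × F) : u + u = 0 := by
  apply Prod.ext
  · exact CharTwo.add_self_eq_zero u.1
  · exact CharTwo.add_self_eq_zero u.2

variable {T : F × F → F × F → F × F}

/-- the transform of a line -/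
theorem line (hT : Op T) {e d : F × F} (hed : dt e d ≠ 0) :
    (∀ ε : F, ε ≠ 0 → T e (e + ε • d) = e + ε⁻¹ • (T e (e + d) + e)) ∧
    (∀ x : F, T (e + x • d) (e + x • d + d) + (e + x • d) = (T e (e + d) + e) + x ^ 2 • d) ∧
    dt (T e (e + d) + e) d ≠ 0 := by
  have h2 : (2 : F) = 0 := CharTwo.two_eq_zero
  have hex := fun x : F => hT.frm (e + x • d) d (by rw [dt_add_smul]; exact hed)
  choose θ h hh hfrm using hex
  obtain ⟨r, hr⟩ : ∃ r : F → F, ∀ x, r x = dt (h x) d / dt e d := ⟨_, fun x => rfl⟩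
  obtain ⟨p, hp⟩ : ∃ p : F → F, ∀ x, p x = dt e (h x) / dt e d := ⟨_, fun x => rfl⟩
  have hc : ∀ x, h x = r x • e + p x • d := fun x => by rw [hr, hp]; exact coords hed (h x)
  have hne : ∀ x y : F, x ≠ y → x + y ≠ 0 := by
    intro x y hxy h
    exact hxy (by linear_combination h - y * h2)
  have hn0 : ∀ x : F, e + x • d ≠ 0 := fun x => ne_zero_of_dt (d := d) (by rw [dt_add_smul]; exact hed)
  have hnx : ∀ x y : F, x ≠ y → e + x • d ≠ e + y • d := by
    intro x y hxy h
    apply hxy
    have h1 : (x - y) • d = 0 := by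
      rw [sub_smul, sub_eq_zero]
      exact add_left_cancel h
    rcases smul_eq_zero.1 h1 with h3 | h3
    · exact sub_eq_zero.1 h3
    · exact absurd (by rw [h3]; simp [dt]) hed
  have hsum : ∀ x y : F, e + y • d = e + x • d + (x + y) • d := by
    intro x y
    apply Prod.ext
    · simp only [Prod.fst_add, Prod.smul_fst, smul_eq_mul]
      linear_combination -(x * d.1) * h2
    · simp only [Prod.snd_add, Prod.smul_snd, smul_eq_mul]
      linear_combination -(x * d.2) * h2
  have hT2 : ∀ x y : F, x ≠ y → T (e + x • d) (e + y • d) =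
      (1 + (θ x (x + y))⁻¹ * r x) • e + (x + (θ x (x + y))⁻¹ * p x) • d := by
    intro x y hxy
    rw [hsum x y, hfrm x (x + y) (hne x y hxy), hc]
    module
  have huniq : ∀ a b a' b' : F, a • e + b • d = a' • e + b' • d → a = a' ∧ b = b' := by
    intro a b a' b' hab
    have e1 : dt (a • e + b • d) d = dt (a' • e + b' • d) d := by rw [hab]
    have e2 : dt e (a • e + b • d) = dt e (a' • e + b' • d) := by rw [hab]
    have f1 : ∀ a b : F, dt (a • e + b • d) d = a * dt e d := by
      intro a b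
      simp only [dt, Prod.fst_add, Prod.snd_add, Prod.smul_fst, Prod.smul_snd, smul_eq_mul]; ring
    have f2 : ∀ a b : F, dt e (a • e + b • d) = b * dt e d := by
      intro a b
      simp only [dt, Prod.fst_add, Prod.snd_add, Prod.smul_fst, Prod.smul_snd, smul_eq_mul]; ring
    rw [f1, f1] at e1
    rw [f2, f2] at e2
    exact ⟨mul_right_cancel₀ hed e1, mul_right_cancel₀ hed e2⟩
  have hE : ∀ x y : F, x ≠ y → (θ x (x + y))⁻¹ * r x = (θ y (x + y))⁻¹ * r y ∧
      x + (θ x (x + y))⁻¹ * p x = y + (θ y (x + y))⁻¹ * p y := by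
    intro x y hxy
    have h1 := hT2 x y hxy
    rw [hT.symm _ _ (hn0 x) (hn0 y) (hnx x y hxy), hT2 y x hxy.symm] at h1
    obtain ⟨h3, h4⟩ := huniq _ _ _ _ h1
    rw [add_comm y x] at h3 h4
    exact ⟨(add_left_cancel h3).symm, h4.symm⟩
  have hθ0 : ∀ x z : F, z ≠ 0 → θ x z ≠ 0 := by
    intro x z hz
    rw [Ne, map_eq_zero_iff _ (θ x).injective]; exact hz
  have hr0 : ∀ x, r x ≠ 0 := by
    intro x hx
    have hp0 : p x ≠ 0 := by
      intro hp0
      apply hh x
      rw [hc, hx, hp0]; simp [dt]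
    have e1 : ∀ ε : F, ε ≠ 0 → T (e + x • d) (e + x • d + ε • d) = e + x • d + ((θ x ε)⁻¹ * p x) • d := by
      intro ε hε
      rw [hfrm x ε hε, hc, hx, zero_smul, zero_add, smul_smul]
    have hxd : dt (e + x • d) d ≠ 0 := by rw [dt_add_smul]; exact hed
    have hy0 : ∀ ε : F, e + x • d + ε • d ≠ 0 := by
      intro ε
      exact ne_zero_of_dt (d := d) (by rw [dt_add_smul]; exact hxd)
    have e2 := hT.invl (e + x • d) (e + x • d + (1 : F) • d) (hn0 x) (hy0 1) (ne_add_of_dt hxd one_ne_zero)
    rw [e1 1 one_ne_zero, map_one, inv_one, one_mul, e1 _ hp0] at e2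
    have e3 : ((θ x (p x))⁻¹ * p x) • d = (1 : F) • d := add_left_cancel e2
    have hd0 : d ≠ 0 := by rintro rfl; apply hed; simp [dt]
    have e4 : (θ x (p x))⁻¹ * p x = 1 := by
      have : ((θ x (p x))⁻¹ * p x - 1) • d = 0 := by rw [sub_smul, e3, sub_self]
      rcases smul_eq_zero.1 this with h | h
      · exact sub_eq_zero.1 h
      · exact absurd h hd0
    have e5 : θ x (p x) = p x := by
      have h6 := hθ0 x _ hp0
      field_simp at e4
      exact e4.symm
    obtain ⟨s, hs⟩ : ∃ s : F, s ^ 2 = p x := by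
      have : Function.Surjective (frobenius F 2) := Finite.surjective_of_injective (frobenius_inj F 2)
      obtain ⟨s, hs⟩ := this (p x)
      exact ⟨s, hs⟩
    have hs0 : s ≠ 0 := by
      rintro rfl
      apply hp0
      rw [← hs]; ring
    have e6 : θ x s = s := by
      have h7 : (θ x s) ^ 2 = s ^ 2 := by rw [← map_pow, hs, e5]
      have h8 : (θ x s - s) ^ 2 = 0 := by linear_combination h7 + (s ^ 2 - θ x s * s) * h2
      exact sub_eq_zero.1 (pow_eq_zero_iff (two_ne_zero) |>.1 h8)
    have e7 := e1 s hs0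
    rw [e6, ← hs] at e7
    have e8 : s⁻¹ * s ^ 2 = s := by field_simp
    rw [e8] at e7
    exact hT.ne2 _ _ (hn0 x) (hy0 s) (ne_add_of_dt hxd hs0) e7
  have hid : ∀ x z, θ x z = z := by
    apply aut_trivial hr0 (p := p)
    · intro x y hxy
      have h1 := (hE x y hxy).1
      have a1 := hθ0 x _ (hne x y hxy)
      have a2 := hθ0 y _ (hne x y hxy)
      field_simp at h1
      linear_combination h1
    · intro x y hxy
      have h1 := (hE x y hxy).2
      linear_combination h1 + (y - (θ x (x + y))⁻¹ * p x) * h2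
  have hrc : ∀ x, r x = r 0 := by
    intro x
    by_cases hx : x = 0
    · rw [hx]
    have h1 := (hE x 0 hx).1
    rw [hid, hid] at h1
    exact mul_left_cancel₀ (inv_ne_zero (hne x 0 hx)) h1
  have hpc : ∀ x, p x = p 0 + x ^ 2 := by
    intro x
    by_cases hx : x = 0
    · rw [hx]; ring
    have h1 := (hE x 0 hx).2
    rw [hid, hid, add_zero] at h1
    field_simp at h1
    linear_combination h1 - x ^ 2 * h2
  have hH : ∀ x : F, T (e + x • d) (e + x • d + d) + (e + x • d) = h x := by
    intro x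
    have := hfrm x 1 one_ne_zero
    rw [map_one, inv_one, one_smul, one_smul] at this
    rw [this, add_comm, ← add_assoc, vec_double, zero_add]
  have hH0 := hH 0
  rw [zero_smul, add_zero] at hH0
  refine ⟨?_, ?_, ?_⟩
  · intro ε hε
    rw [hH0]
    have := hfrm 0 ε hε
    rw [zero_smul, add_zero, hid] at this
    exact this
  · intro x
    rw [hH, hH0, hc x, hc 0, hrc x, hpc x]
    module
  · rw [hH0, hc 0]
    have : dt (r 0 • e + p 0 • d) d = r 0 * dt e d := by
      simp only [dt, Prod.fst_add, Prod.snd_add, Prod.smul_fst, Prod.smul_snd, smul_eq_mul]; ring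
    rw [this]
    exact mul_ne_zero (hr0 0) hed

end op

end Cfsg.Agent.Lib.SUAlg
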