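import Cfsg.Agent.Lib.SUAlg

set_option autoImplicit false
set_option linter.unusedSectionVars false

/-!
# Suzuki's theorem, the unitary case: the algebra, second part (helper24)
-/

namespace Cfsg.Agent.Lib.SUAlg

variable {F : Type*} [Field F] [Finite F] [CharP F 2] {T : F × F → F × F → F × F}

/-- the function `H` -/
def Hf (T : F × F → F × F → F × F) (a d : F × F) : F × F := T a (a + d) + a

theorem Hf_T (T : F × F → F × F → F × F) (a d : F × F) : T a (a + d) = a + Hf T a d := by
  rw [Hf, add_comm (T a (a + d)) a, ← add_assoc, vec_double, zero_add]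

theorem Hf_eps (hT : Op T) {e d : F × F} (hed : dt e d ≠ 0) {ε : F} (hε : ε ≠ 0) :
    T e (e + ε • d) = e + ε⁻¹ • Hf T e d := (line hT hed).1 ε hε

theorem Hf_add (hT : Op T) {e d : F × F} (hed : dt e d ≠ 0) (x : F) :
    Hf T (e + x • d) d = Hf T e d + x ^ 2 • d := (line hT hed).2.1 x

theorem Hf_dt (hT : Op T) {e d : F × F} (hed : dt e d ≠ 0) : dt (Hf T e d) d ≠ 0 := (line hT hed).2.2

theorem Hf_dt' (hT : Op T) {e d : F × F} (hed : dt e d ≠ 0) : dt e (Hf T e d) ≠ 0 := by
  obtain ⟨θ, h, hh, hfrm⟩ := hT.frm e d hed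
  have h1 := hfrm 1 one_ne_zero
  rw [map_one, inv_one, one_smul, one_smul, Hf_T T e d] at h1
  rw [add_left_cancel h1]
  exact hh

theorem dt_smul_smul (k : F) (u v : F × F) : dt (k • u) (k • v) = k ^ 2 * dt u v := by
  simp only [dt, Prod.smul_fst, Prod.smul_snd, smul_eq_mul]; ring

theorem Hf_zsmul (hT : Op T) {e d : F × F} (hed : dt e d ≠ 0) {z : F} (hz : z ≠ 0) :
    Hf T e (z • d) = z⁻¹ • Hf T e d := by
  have h1 : Hf T e (z • d) = T e (e + z • d) + e := rfl
  rw [h1, Hf_eps hT hed hz, add_comm, ← add_assoc, vec_double, zero_add]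

theorem Hf_ksmul (hT : Op T) {e d : F × F} (hed : dt e d ≠ 0) {k : F} (hk : k ≠ 0) :
    Hf T (k • e) (k • d) = k • Hf T e d := by
  have he := ne_zero_of_dt hed
  have hy : e + d ≠ 0 := by
    apply ne_zero_of_dt (d := d)
    have := dt_add_smul e d 1
    rw [one_smul] at this
    rwa [this]
  have hne : e ≠ e + d := by
    have := ne_add_of_dt hed one_ne_zero
    rwa [one_smul] at this
  have h1 := hT.hom k e (e + d) hk he hy hne
  rw [smul_add] at h1
  rw [Hf, h1, Hf, smul_add]

theorem Hf_Hf (hT : Op T) {e d : F × F} (hed : dt e d ≠ 0) : Hf T e (Hf T e d) = d := by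
  have he := ne_zero_of_dt hed
  have hy : e + d ≠ 0 := by
    apply ne_zero_of_dt (d := d)
    have := dt_add_smul e d 1
    rw [one_smul] at this
    rwa [this]
  have hne : e ≠ e + d := by
    have := ne_add_of_dt hed one_ne_zero
    rwa [one_smul] at this
  have h1 := hT.invl e (e + d) he hy hne
  rw [Hf_T T e d, Hf_T T e (Hf T e d)] at h1
  exact add_left_cancel h1

theorem Hf_comb (hT : Op T) {e d : F × F} (hed : dt e d ≠ 0) {y : F} (hy : y ≠ 0) (x : F) :
    Hf T (y • e + x • d) d = y ^ 2 • Hf T e d + x ^ 2 • d := by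
  have e1 : y • e + x • d = y • (e + (x / y) • d) := by
    rw [smul_add, smul_smul, mul_div_cancel₀ x hy]
  have e2 : d = y • (y⁻¹ • d) := by rw [smul_smul, mul_inv_cancel₀ hy, one_smul]
  have h1 : dt (e + (x / y) • d) d ≠ 0 := by rw [dt_add_smul]; exact hed
  have h2 : dt (e + (x / y) • d) (y⁻¹ • d) ≠ 0 := by
    have : dt (e + (x / y) • d) (y⁻¹ • d) = y⁻¹ * dt (e + (x / y) • d) d := by
      simp only [dt, Prod.smul_fst, Prod.smul_snd, smul_eq_mul]; ring
    rw [this]
    exact mul_ne_zero (inv_ne_zero hy) h1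
  have h3 : Hf T (y • e + x • d) d = Hf T (y • (e + (x / y) • d)) (y • (y⁻¹ • d)) := by
    rw [← e1, ← e2]
  rw [h3, Hf_ksmul hT h2 hy, Hf_zsmul hT h1 (inv_ne_zero hy), Hf_add hT hed, inv_inv, smul_smul, smul_add, smul_smul]
  congr 2
  · ring
  · field_simp

theorem exists_sqrt (c : F) : ∃ s : F, s ^ 2 = c := by
  have : Function.Surjective (frobenius F 2) := Finite.surjective_of_injective (frobenius_inj F 2)
  obtain ⟨s, hs⟩ := this c
  exact ⟨s, hs⟩

/-- the identification of `F²` with the quadratic extension -/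
def phi (α β : F) (z : F × F) : QuadraticAlgebra F β α := ⟨z.1, z.2⟩

omit [Finite F] [CharP F 2] in
theorem phi_add (α β : F) (u v : F × F) : phi α β (u + v) = phi α β u + phi α β v := rfl

omit [Finite F] [CharP F 2] in
theorem phi_smul (α β : F) (c : F) (v : F × F) : phi α β (c • v) = c • phi α β v := rfl

theorem main (hT : Op T) : ∃ α β : F, α ≠ 0 ∧ (∀ x : F, x ^ 2 ≠ β + α * x) ∧
    ∀ u v : F × F, dt u v ≠ 0 → phi α β (T u v) * (phi α β u + phi α β v) = phi α β u * phi α β v := by
  have h2 : (2 : F) = 0 := CharTwo.two_eq_zero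
  obtain ⟨d0, hd0⟩ : ∃ d0 : F × F, d0 = (1, 0) := ⟨_, rfl⟩
  obtain ⟨e0, he0⟩ : ∃ e0 : F × F, e0 = (0, 1) := ⟨_, rfl⟩
  have h00 : dt e0 d0 ≠ 0 := by rw [he0, hd0]; simp [dt]
  obtain ⟨α, β, hab⟩ : ∃ α β : F, Hf T e0 d0 = (β, α) := ⟨(Hf T e0 d0).2, (Hf T e0 d0).1, rfl⟩
  have hα : α ≠ 0 := by
    have := Hf_dt hT h00
    rw [hab, hd0] at this
    simpa [dt] using this
  have hd : ∀ a : F × F, dt a d0 = -a.2 := by intro a; rw [hd0]; simp [dt]
  have hsum : ∀ a : F × F, a = a.2 • e0 + a.1 • d0 := by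
    intro a; rw [he0, hd0]; ext <;> simp
  have hH0 : ∀ a : F × F, a.2 ≠ 0 → Hf T a d0 = (a.1 ^ 2 + β * a.2 ^ 2, α * a.2 ^ 2) := by
    intro a ha
    conv_lhs => rw [hsum a]
    rw [Hf_comb hT h00 ha, hab, hd0]
    ext
    · simp; ring
    · simp; ring
  have hsq : ∀ a : F × F, phi α β a * phi α β a = phi α β (a.1 ^ 2 + β * a.2 ^ 2, α * a.2 ^ 2) := by
    intro a
    unfold phi
    ext
    · simp only [QuadraticAlgebra.re_mul]; ring
    · simp only [QuadraticAlgebra.im_mul]; linear_combination a.1 * a.2 * h2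
  have hirr : ∀ x : F, x ^ 2 ≠ β + α * x := by
    intro x hx
    have hx0 : dt (e0 + x • d0) d0 ≠ 0 := by rw [dt_add_smul]; exact h00
    have h3 := Hf_eps hT hx0 hα
    have h4 : Hf T (e0 + x • d0) d0 = (x ^ 2 + β, α) := by
      rw [hH0 _ (by rw [he0, hd0]; simp)]
      rw [he0, hd0]
      ext <;> simp
    rw [h4] at h3
    refine hT.ne0 _ _ (ne_zero_of_dt hx0) (ne_zero_of_dt (d := d0) ?_) (ne_add_of_dt hx0 hα) (h3.trans ?_)
    · rw [dt_add_smul]; exact hx0
    · rw [he0, hd0]
      ext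
      · simp
        field_simp
        linear_combination hx + (β + α * x) * h2
      · simp
        field_simp
        linear_combination h2
  refine ⟨α, β, hα, hirr, ?_⟩
  have hgen : ∀ a D : F × F, dt a D ≠ 0 → phi α β (Hf T a D) * phi α β D = phi α β a * phi α β a := by
    intro a D haD
    by_cases hD : D.2 = 0
    · have hD1 : D.1 ≠ 0 := by
        intro h
        apply haD
        simp [dt, hD, h]
      have hDd : D = D.1 • d0 := by
        rw [hd0]; ext <;> simp [hD]
      have ha2 : a.2 ≠ 0 := by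
        intro h
        apply haD
        simp [dt, hD, h]
      have ha : dt a d0 ≠ 0 := by rw [hd]; exact neg_ne_zero.2 ha2
      have h5 : Hf T a D = D.1⁻¹ • Hf T a d0 := by
        conv_lhs => rw [hDd]
        exact Hf_zsmul hT ha hD1
      rw [h5, hH0 a ha2, hsq]
      unfold phi
      ext
      · simp only [QuadraticAlgebra.re_mul, Prod.smul_fst, Prod.smul_snd, smul_eq_mul, hD]
        field_simp
        ring
      · simp only [QuadraticAlgebra.im_mul, Prod.smul_fst, Prod.smul_snd, smul_eq_mul, hD]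
        field_simp
        ring
    · obtain ⟨s2, hs2⟩ := exists_sqrt (D.2 / α)
      obtain ⟨s1, hs1⟩ := exists_sqrt (D.1 + β * s2 ^ 2)
      obtain ⟨s, hs⟩ : ∃ s : F × F, s = (s1, s2) := ⟨_, rfl⟩
      have hs20 : s.2 ≠ 0 := by
        rw [hs]
        intro h
        have h' : s2 = 0 := h
        rw [h'] at hs2
        have : D.2 / α = 0 := by rw [← hs2]; ring
        exact (div_ne_zero hD hα) this
      have hHs : Hf T s d0 = D := by
        rw [hH0 s hs20, hs]
        ext
        · show s1 ^ 2 + β * s2 ^ 2 = D.1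
          rw [hs1]; linear_combination (β * s2 ^ 2) * h2
        · show α * s2 ^ 2 = D.2
          rw [hs2]; field_simp
      have hsd : dt s d0 ≠ 0 := by rw [hd]; exact neg_ne_zero.2 hs20
      have hsD : dt s D ≠ 0 := by rw [← hHs]; exact Hf_dt' hT hsd
      have hHsD : Hf T s D = d0 := by
        conv_lhs => rw [← hHs]
        exact Hf_Hf hT hsd
      have hφD : phi α β D = phi α β s * phi α β s := by
        rw [hsq, ← hH0 s hs20, hHs]
      have hco := coords hsD a
      obtain ⟨y, hy⟩ : ∃ y, y = dt a D / dt s D := ⟨_, rfl⟩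
      obtain ⟨x, hx⟩ : ∃ x, x = dt s a / dt s D := ⟨_, rfl⟩
      rw [← hy, ← hx] at hco
      have hy0 : y ≠ 0 := by rw [hy]; exact div_ne_zero haD hsD
      have h6 : Hf T a D = y ^ 2 • d0 + x ^ 2 • D := by
        conv_lhs => rw [hco]
        rw [Hf_comb hT hsD hy0, hHsD]
      have hone : phi α β d0 = 1 := by
        rw [hd0]; rfl
      rw [h6, phi_add, phi_smul, phi_smul, hone]
      conv_rhs => rw [hco]
      rw [phi_add, phi_smul, phi_smul]
      have h22 : (2 : QuadraticAlgebra F β α) = 0 := by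
        ext
        · show (2 : F) = 0
          exact h2
        · show (0 : F) = 0
          rfl
      rw [hφD]
      simp only [Algebra.smul_def, map_pow]
      linear_combination (-(algebraMap F (QuadraticAlgebra F β α) y * algebraMap F (QuadraticAlgebra F β α) x * phi α β s ^ 3)) * h22
  intro u v huv
  have h7 : dt u (u + v) ≠ 0 := by
    have : dt u (u + v) = dt u v := by
      simp only [dt, Prod.fst_add, Prod.snd_add]; ring
    rwa [this]
  have h8 : T u v = u + Hf T u (u + v) := by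
    rw [← Hf_T T u (u + v), ← add_assoc, vec_double, zero_add]
  have h9 := hgen u (u + v) h7
  rw [phi_add] at h9
  rw [h8, phi_add, add_mul, h9]
  have h22 : (2 : QuadraticAlgebra F β α) = 0 := by
    ext
    · show (2 : F) = 0
      exact h2
    · show (0 : F) = 0
      rfl
  linear_combination (phi α β u * phi α β u) * h22

end Cfsg.Agent.Lib.SUAlg
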