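import Cfsg.Agent.Lib.SUModel

set_option autoImplicit false
set_option linter.unusedSectionVars false

/-!
# Suzuki's theorem, the unitary case: identification of `⟨Q, t⟩` with `PSU₃(q)`, II (helper24)
-/

namespace Cfsg.Agent.Lib.SUModel

open Matrix Cfsg Cfsg.Agent.Lib.ClUnitary Cfsg.Agent.Lib.HermMat Cfsg.Agent.Lib.SylU3
open scoped MatrixGroups

variable {G Ω K : Type*} [Group G] [MulAction G Ω] {a : Ω} {t : G} {Q : Subgroup G} [Field K] [Fintype K] {q : ℕ}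
  {l m : G → K}

/-- the matrix in the other basis -/
def cj (q : ℕ) (A : GL (Fin 3) K) : SU 3 K q →* GL (Fin 3) K :=
  ((MulAut.conj A⁻¹).toMonoidHom.comp Matrix.SpecialLinearGroup.toGL).comp (SU 3 K q).subtype

theorem cj_apply (A : GL (Fin 3) K) (M : SU 3 K q) (u : Fin 3 → K) :
    (cj q A M).1 *ᵥ u = (A⁻¹).1 *ᵥ (M.1.1 *ᵥ (A.1 *ᵥ u)) := by
  have : (cj q A M).1 = (A⁻¹).1 * M.1.1 * A.1 := by
    change (A⁻¹ * Matrix.SpecialLinearGroup.toGL M.1 * A⁻¹⁻¹).1 = _
    rw [inv_inv]; rfl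
  rw [this, ← mulVec_mulVec, ← mulVec_mulVec]

theorem A_inv (A : GL (Fin 3) K) (u : Fin 3 → K) : A.1 *ᵥ ((A⁻¹).1 *ᵥ u) = u := by
  rw [mulVec_mulVec, ← Units.val_mul, mul_inv_cancel, Units.val_one, one_mulVec]

theorem inv_A (A : GL (Fin 3) K) (u : Fin 3 → K) : (A⁻¹).1 *ᵥ (A.1 *ᵥ u) = u := by
  rw [mulVec_mulVec, ← Units.val_mul, inv_mul_cancel, Units.val_one, one_mulVec]

theorem cj_apply' (A : GL (Fin 3) K) (M : SU 3 K q) (u : Fin 3 → K) :
    A.1 *ᵥ ((cj q A M).1 *ᵥ u) = M.1.1 *ᵥ (A.1 *ᵥ u) := by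
  rw [cj_apply, A_inv]

section

variable (C : Co a t Q q l m) {A : GL (Fin 3) K} (hA : ∀ u v, hermForm 3 K q (A.1 *ᵥ u) (A.1 *ᵥ v) = hf q u v)

include hA in
theorem cj_hf (M : SU 3 K q) (u v : Fin 3 → K) : hf q ((cj q A M).1 *ᵥ u) ((cj q A M).1 *ᵥ v) = hf q u v := by
  rw [← hA, cj_apply', cj_apply', ← hA]
  exact M.2 _ _

include hA in
/-- every isometry of determinant one is in the image -/
theorem exists_cj (U : GL (Fin 3) K) (hU : U.1.det = 1) (hf' : ∀ u v, hf q (U.1 *ᵥ u) (U.1 *ᵥ v) = hf q u v) :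
    ∃ M : SU 3 K q, cj q A M = U := by
  have hdet : ((A * U * A⁻¹ : GL (Fin 3) K) : Matrix (Fin 3) (Fin 3) K).det = 1 := by
    rw [Units.val_mul, Units.val_mul, det_mul, det_mul, mul_right_comm, ← det_mul, ← Units.val_mul,
      mul_inv_cancel, Units.val_one, det_one, one_mul, hU]
  have hA' : ∀ u v, hf q ((A⁻¹).1 *ᵥ u) ((A⁻¹).1 *ᵥ v) = hermForm 3 K q u v := by
    intro u v
    rw [← hA, A_inv, A_inv]
  have hmem : (⟨_, hdet⟩ : Matrix.SpecialLinearGroup (Fin 3) K) ∈ SU 3 K q := by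
    intro u v
    change hermForm 3 K q ((A * U * A⁻¹ : GL (Fin 3) K).1 *ᵥ u) ((A * U * A⁻¹ : GL (Fin 3) K).1 *ᵥ v) = hermForm 3 K q u v
    rw [Units.val_mul, Units.val_mul, ← mulVec_mulVec, ← mulVec_mulVec, ← mulVec_mulVec, ← mulVec_mulVec, hA, hf', hA']
  refine ⟨⟨_, hmem⟩, ?_⟩
  apply Co.gl_ext
  intro u
  rw [cj_apply]
  change (A⁻¹).1 *ᵥ ((A * U * A⁻¹ : GL (Fin 3) K).1 *ᵥ (A.1 *ᵥ u)) = _
  rw [Units.val_mul, Units.val_mul, ← mulVec_mulVec, ← mulVec_mulVec, inv_A, inv_A]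

include C hA in
theorem exists_rel (hq : q ≠ 2) {N : Subgroup G} (hQN : Q ≤ N) (htN : t ∈ N) (M : SU 3 K q) :
    ∃ g ∈ N, Rel a t Q l m g (cj q A M) := by
  have htop : M ∈ (⊤ : Subgroup (SU 3 K q)) := trivial
  rw [← Cfsg.Agent.S0780.result C.hK 3 le_rfl (fun h => hq h.2)] at htop
  refine Subgroup.closure_induction (p := fun M _ => ∃ g ∈ N, Rel a t Q l m g (cj q A M)) ?_ ?_ ?_ ?_ htop
  · rintro T ⟨v, c, hv, hT⟩
    apply C.exists_rel_trans hQN htN (w := (A⁻¹).1 *ᵥ v) (c := c)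
    · rw [← hA, A_inv, hv]
    · intro u
      rw [cj_apply]
      have h1 : T.1.1 *ᵥ (A.1 *ᵥ u) = A.1 *ᵥ u + (c * hermForm 3 K q (A.1 *ᵥ u) v) • v := by
        rw [show T.1.1 = unitaryTransvection 3 q v c from hT, unitaryTransvection_mulVec]
      rw [h1, mulVec_add, inv_A, mulVec_smul, ← hA, A_inv]
    · exact cj_hf hA T
  · exact ⟨1, N.one_mem, by rw [map_one]; exact C.rel_one⟩
  · rintro x y - - ⟨g, hg, h1⟩ ⟨h, hh, h2⟩
    exact ⟨g * h, N.mul_mem hg hh, by rw [map_mul]; exact Co.rel_mul h1 h2⟩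
  · rintro x - ⟨g, hg, h1⟩
    exact ⟨g⁻¹, N.inv_mem hg, by rw [map_inv]; exact C.rel_inv h1⟩

include C in
theorem rel_unique [FaithfulSMul G Ω] {g g' : G} {M : GL (Fin 3) K} (h : Rel a t Q l m g M)
    (h' : Rel a t Q l m g' M) : g = g' := by
  apply eq_of_smul_eq_smul (α := Ω)
  intro ω
  obtain ⟨v, hv⟩ := C.exists_Rp ω
  exact C.Rp_inj (h _ _ hv) (h' _ _ hv)

include C hA in
/-- the identification -/
theorem model_aux [FaithfulSMul G Ω] (hq : q ≠ 2) :
    Nonempty (↥(Subgroup.closure ((Q : Set G) ∪ {t})) ≃* PSU 3 K q) := by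
  classical
  obtain ⟨N, hN⟩ : ∃ N, N = Subgroup.closure ((Q : Set G) ∪ {t}) := ⟨_, rfl⟩
  rw [← hN]
  have hQN : Q ≤ N := by
    rw [hN]; exact fun x hx => Subgroup.subset_closure (Or.inl hx)
  have htN : t ∈ N := by
    rw [hN]; exact Subgroup.subset_closure (Or.inr rfl)
  have hex := exists_rel C hA hq hQN htN
  choose ρ0 hρN hρ using hex
  obtain ⟨ρ, hρρ⟩ : ∃ ρ : SU 3 K q →* N, ∀ M, Rel a t Q l m (ρ M).1 (cj q A M) := by
    refine ⟨MonoidHom.mk' (fun M => ⟨ρ0 M, hρN M⟩) ?_, fun M => hρ M⟩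
    intro x y
    apply Subtype.ext
    apply rel_unique C (hρ (x * y))
    rw [map_mul]
    exact Co.rel_mul (hρ x) (hρ y)
  have hρu : ∀ M g, Rel a t Q l m g (cj q A M) → (ρ M).1 = g := fun M g h => rel_unique C (hρρ M) h
  have hQr : ∀ x ∈ Q, ∃ M, (ρ M).1 = x := by
    intro x hx
    obtain ⟨M, hM⟩ := exists_cj hA _ (by rw [ug_val]; exact um_det _ _ _) (C.hf_Q hx)
    exact ⟨M, hρu M x (by rw [hM]; exact C.rel_Q hx)⟩
  have htr : ∃ M, (ρ M).1 = t := by
    obtain ⟨M, hM⟩ := exists_cj hA (Co.Jg) (by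
      change (Co.Jm : Matrix (Fin 3) (Fin 3) K).det = 1
      rw [Co.Jm, det_fin_three]
      simp
      exact C.neg_eq 1) (fun u v => Co.hf_J u v)
    exact ⟨M, hρu M t (by rw [hM]; exact C.rel_t)⟩
  have hsurj : Function.Surjective ρ := by
    rintro ⟨g, hg⟩
    have hg' : g ∈ Subgroup.closure ((Q : Set G) ∪ {t}) := by rw [← hN]; exact hg
    have : ∃ M, (ρ M).1 = g := by
      refine Subgroup.closure_induction (p := fun g _ => ∃ M, (ρ M).1 = g) ?_ ?_ ?_ ?_ hg'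
      · rintro x (hx | hx)
        · exact hQr x hx
        · rw [Set.mem_singleton_iff.1 hx]; exact htr
      · exact ⟨1, by rw [map_one]; rfl⟩
      · rintro x y - - ⟨M, rfl⟩ ⟨M', rfl⟩
        exact ⟨M * M', by rw [map_mul]; rfl⟩
      · rintro x - ⟨M, rfl⟩
        exact ⟨M⁻¹, by rw [map_inv]; rfl⟩
    obtain ⟨M, hM⟩ := this
    exact ⟨M, Subtype.ext hM⟩
  have hker : ρ.ker = Subgroup.center (SU 3 K q) := by
    apply le_antisymm
    · intro M hM
      have hM1 : (ρ M).1 = 1 := by rw [MonoidHom.mem_ker.1 hM]; rfl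
      have hR := hρρ M
      rw [hM1] at hR
      -- all the isotropic vectors are eigenvectors
      have heig : ∀ z, hermForm 3 K q z z = 0 → z ≠ 0 → ∃ c : K, (Matrix.toLin' M.1.1) z = c • z := by
        intro z hz hz0
        have hw0 : (A⁻¹).1 *ᵥ z ≠ 0 := by
          intro h
          apply hz0
          rw [← A_inv A z, h, mulVec_zero]
        obtain ⟨ω, hω⟩ := C.exists_point hw0 (by rw [← hA, A_inv, hz])
        have h1 := hR _ _ hω
        rw [one_smul] at h1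
        obtain ⟨c, hc, h2⟩ := C.Rp_unique hω h1
        refine ⟨c, ?_⟩
        rw [Matrix.toLin'_apply]
        have h3 := congrArg (fun w => A.1 *ᵥ w) h2
        rw [cj_apply', mulVec_smul, A_inv] at h3
        exact h3
      obtain ⟨z0, hz0, hzz0⟩ := ClUnSimple.exists_iso C.hK (n := 3) (by norm_num)
      obtain ⟨c, hc⟩ := ClUnSimple.scalar_of_eigen (UnBridge.herm_HS 3 C.hK) (UnBridge.herm_nd 3 C.hK) hz0 hzz0
        (Matrix.toLin' M.1.1) heig
      rw [Subgroup.mem_center_iff]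
      intro M'
      apply Subtype.ext
      apply Subtype.ext
      change M'.1.1 * M.1.1 = M.1.1 * M'.1.1
      apply Matrix.mulVec_injective
      funext u
      rw [← mulVec_mulVec, ← mulVec_mulVec]
      have h1 : ∀ v, M.1.1 *ᵥ v = c • v := fun v => by rw [← Matrix.toLin'_apply]; exact hc v
      rw [h1, h1, mulVec_smul]
    · intro M hM
      rw [MonoidHom.mem_ker]
      have hcomm : ∀ g : N, (ρ M).1 * g.1 = g.1 * (ρ M).1 := by
        intro g
        obtain ⟨M', rfl⟩ := hsurj g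
        have := Subgroup.mem_center_iff.1 hM M'
        have h1 := congrArg (fun x => (ρ x).1) this
        simp only [map_mul] at h1
        exact h1.symm
      obtain ⟨g, hg⟩ : ∃ g, g = (ρ M).1 := ⟨_, rfl⟩
      rw [← hg] at hcomm
      have hga : g • a = a := by
        by_contra h1
        obtain ⟨y, hy, hyω⟩ := C.Qtr _ h1
        have hall : ∀ x ∈ Q, x = 1 := by
          intro x hx
          have h2 : x • g • a = g • a := by
            rw [← mul_smul, ← hcomm ⟨x, hQN hx⟩, mul_smul, C.Qa x hx]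
          rw [hyω, ← mul_smul] at h2
          have h3 := C.Qreg (Q.mul_mem hx hy) hy h2
          exact mul_eq_right.1 h3
        obtain ⟨x, hx, hl, hm⟩ := C.surj 0 1 (by rw [one_pow, zero_mul]; linear_combination C.two)
        rw [hall x hx, C.m_one] at hm
        exact zero_ne_one hm
      have hg1 : g = 1 := by
        apply eq_of_smul_eq_smul (α := Ω)
        intro ω
        rw [one_smul]
        by_cases h : ω = a
        · rw [h, hga]
        · obtain ⟨x, hx, rfl⟩ := C.Qtr ω h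
          rw [← mul_smul, hcomm ⟨x, hQN hx⟩, mul_smul, ← mul_smul g t, hcomm ⟨t, htN⟩, mul_smul t g, hga]
      apply Subtype.ext
      rw [← hg, hg1]; rfl
  exact ⟨((QuotientGroup.quotientMulEquivOfEq hker.symm).trans
    (QuotientGroup.quotientKerEquivOfSurjective ρ hsurj)).symm⟩

end

/-- **Identification with `PSU₃(q)`** -/
theorem model [FaithfulSMul G Ω] (C : Co a t Q q l m) (hq : q ≠ 2) :
    Nonempty (↥(Subgroup.closure ((Q : Set G) ∪ {t})) ≃* PSU 3 K q) := by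
  obtain ⟨s, hs⟩ := exists_trace C.hK (c := (-1 : K)) (by rw [neg_pow_q C.hK, one_pow])
  have h1 : (1 : K) * 1 ^ q = -1 := by rw [one_pow, mul_one, C.neg_eq]
  let A : GL (Fin 3) K := GeneralLinearGroup.mkOfDetNeZero (am 1 s) (by rw [am_det]; exact one_ne_zero)
  exact model_aux C (A := A) (fun u v => am_herm C.hK 1 s h1 hs u v) hq

end Cfsg.Agent.Lib.SUModel
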