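import Cfsg.Agent.Lib.SUSys6
import Cfsg.Agent.Lib.SUModel2

set_option autoImplicit false
set_option linter.unusedSectionVars false

/-!
# Suzuki's theorem, the unitary case: conclusion (helper24)
-/

namespace Cfsg.Agent.Lib.SUSys

open Matrix
open scoped MatrixGroups

/-- **The unitary case** -/
theorem Sys.psu {F : Type} {G Ω : Type*} [Field F] [Fintype F] [CharP F 2] [Group G] [MulAction G Ω]
    [FaithfulSMul G Ω] {a : Ω} {t : G} {Q : Subgroup G} {σ : SL(2, F) →* G} {o : Ω} (S : Sys a t Q σ o)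
    (hF : Fintype.card F ≠ 2) :
    ∃ (K : Type) (_ : Field K) (_ : Fintype K), Fintype.card K = Fintype.card F ^ 2 ∧
      Nonempty (↥(Subgroup.closure ((Q : Set G) ∪ {t})) ≃* Cfsg.PSU 3 K (Fintype.card F)) := by
  obtain ⟨K, i1, i2, hK, h2, l, m, h3, h4, h5, h6, h7, h8⟩ := S.coordinates
  exact ⟨K, i1, i2, hK, SUModel.model (l := l) (m := m)
    ⟨S.tt, S.tab, S.Qa, S.Qtr, S.Qfr, hK, h2, h3, h4, h5, h6, h7, h8⟩ hF⟩

end Cfsg.Agent.Lib.SUSys
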