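import Cfsg.Agent.Lib.SuzS7c
import Cfsg.Agent.Lib.SUZBlk2
import Cfsg.Agent.Lib.SUFin
import Cfsg.Agent.Lib.HigmanCard
import Cfsg.Agent.Lib.ClSL2

set_option autoImplicit false
set_option linter.unusedSectionVars false
set_option linter.unusedVariables false

/-!
# Suzuki's theorem, the unitary case: application to the rank one set-up (helper24)
-/

namespace Cfsg.Agent.Lib.SUApp

open MulAction Cfsg.Agent.Lib.RankOne Cfsg.Agent.Lib.RankOneC Cfsg.Agent.Lib.SuzS1 Cfsg.Agent.Lib.SuzS7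
open scoped MatrixGroups

variable {G Ω : Type*} [Group G] [Finite G] [MulAction G Ω] {a : Ω} {t : G} {Q K : Subgroup G} {s r : G}

section
variable (X : Env a t Q K s r) (hrr : r * r = 1)
include X hrr

theorem card_L : Nat.card (L X (cl_E X hrr)) = Nat.card X.E * (Nat.card X.E ^ 2 - 1) := by
  obtain ⟨F, iF, iFt, hchar, σ, -, -, -, -, -, -, hcard⟩ := exists_iso X hrr
  rw [← Nat.card_congr σ.toEquiv, ClSL2.card_SL2 rfl, hcard]

theorem exists_A {x : G} (hx : x ∈ Q) (hxE : x ∉ X.E) : ∃ A : Subgroup G, X.E ≤ A ∧ A ≤ Q ∧ x ∈ A ∧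
    Nat.card A = Nat.card X.E ^ 3 ∧
    ∀ z ∈ Q, z ∈ A ↔ z ∈ X.E ∨ ∃ l ∈ L X (cl_E X hrr), l • x • t • a = z • t • a := by
  obtain ⟨A, h1, h2, h3, h4, h5⟩ := (blk X (cl_E X hrr)).exists_subgroup hx hxE
  refine ⟨A, h1, h2, h3, ?_, h5⟩
  rw [h4, card_L X hrr]
  have h6 := card_E_gt X
  obtain ⟨m, hm⟩ : ∃ m, Nat.card X.E ^ 2 = m + 1 := ⟨Nat.card X.E ^ 2 - 1, by
    have : 1 ≤ Nat.card X.E ^ 2 := Nat.one_le_pow _ _ (by omega)
    omega⟩
  rw [hm, Nat.add_sub_cancel, pow_succ, hm]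
  ring

theorem isPGroup : IsPGroup 2 Q := by
  intro x
  by_cases hxE : (x : G) ∈ X.E
  · refine ⟨1, Subtype.ext ?_⟩
    have := hxE.2
    rw [pow_one, pow_two]
    exact this
  · obtain ⟨A, -, -, hxA, hcard, -⟩ := exists_A X hrr x.2 hxE
    obtain ⟨n, -, hn⟩ := exists_card_E X
    refine ⟨n * 3, Subtype.ext ?_⟩
    have h1 : (⟨x, hxA⟩ : A) ^ Nat.card A = 1 := pow_card_eq_one'
    rw [hcard, hn, ← pow_mul] at h1
    exact congrArg (fun z : A => (z : G)) h1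

end

/-- the action of `K` on `Q` -/
def act (X : Env a t Q K s r) : K →* MulAut Q where
  toFun k :=
    { toFun := fun y => ⟨k * y * (k : G)⁻¹, X.hS.conj_mem k (mem_stabilizer_iff.2 (X.Ka k.2)) y y.2⟩
      invFun := fun y => ⟨(k : G)⁻¹ * y * k, by
        have := X.hS.conj_mem (k : G)⁻¹ (mem_stabilizer_iff.2 (X.Ka (K.inv_mem k.2))) y y.2
        rwa [inv_inv] at this⟩
      left_inv := fun y => Subtype.ext (by
        show (k : G)⁻¹ * (k * y * (k : G)⁻¹) * k = y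
        group)
      right_inv := fun y => Subtype.ext (by
        show (k : G) * ((k : G)⁻¹ * y * k) * (k : G)⁻¹ = y
        group)
      map_mul' := fun y z => Subtype.ext (by
        show (k : G) * (y * z) * (k : G)⁻¹ = k * y * (k : G)⁻¹ * (k * z * (k : G)⁻¹)
        group) }
  map_one' := by
    ext y
    show (1 : G) * y * (1 : G)⁻¹ = y
    group
  map_mul' k l := by
    ext y
    show ((k : G) * l) * y * ((k : G) * l)⁻¹ = k * (l * y * (l : G)⁻¹) * (k : G)⁻¹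
    group

theorem act_apply (X : Env a t Q K s r) (k : K) (y : Q) : ((act X k y : Q) : G) = k * y * (k : G)⁻¹ := rfl

/-- `K` is regular on the involutions -/
theorem act_reg (X : Env a t Q K s r) (x y : Q) (hx1 : x ≠ 1) (hx : x * x = 1) (hy1 : y ≠ 1) (hy : y * y = 1) :
    ∃! k : K, act X k x = y := by
  have hxa : (x : G) • a = a := Q_fix X.hS x.2
  have hya : (y : G) • a = a := Q_fix X.hS y.2
  obtain ⟨k, hk, hkx⟩ := X.exists_k hxa (fun h => hx1 (Subtype.ext h)) (congrArg Subtype.val hx)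
  obtain ⟨l, hl, hly⟩ := X.exists_k hya (fun h => hy1 (Subtype.ext h)) (congrArg Subtype.val hy)
  refine ⟨⟨l⁻¹ * k, K.mul_mem (K.inv_mem hl) hk⟩, ?_, ?_⟩
  · apply Subtype.ext
    rw [act_apply]
    show l⁻¹ * k * x * (l⁻¹ * k)⁻¹ = y
    rw [hkx, hly]
    group
  · rintro ⟨k', hk'⟩ h
    have h1 := congrArg Subtype.val h
    rw [act_apply] at h1
    have h2 : k' * x * k'⁻¹ = y := h1
    apply Subtype.ext
    show k' = l⁻¹ * k
    by_contra hne
    have h3 : (l⁻¹ * k)⁻¹ * k' ∈ K := K.mul_mem (K.inv_mem (K.mul_mem (K.inv_mem hl) hk)) hk'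
    have h4 : (l⁻¹ * k)⁻¹ * k' * x * ((l⁻¹ * k)⁻¹ * k')⁻¹ = x := by
      calc (l⁻¹ * k)⁻¹ * k' * x * ((l⁻¹ * k)⁻¹ * k')⁻¹ = (l⁻¹ * k)⁻¹ * (k' * x * k'⁻¹) * (l⁻¹ * k) := by group
        _ = (l⁻¹ * k)⁻¹ * (l⁻¹ * s * l) * (l⁻¹ * k) := by rw [h2, hly]
        _ = k⁻¹ * s * k := by group
        _ = x := hkx.symm
    have h5 : (l⁻¹ * k)⁻¹ * k' ≠ 1 := by
      intro h
      apply hne
      rw [inv_mul_eq_one] at h
      exact h.symm
    exact hx1 (Subtype.ext (X.fpf h3 h5 x.2 h4))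

theorem K_comm (X : Env a t Q K s r) (k l : K) : k * l = l * k := Subtype.ext (X.Kcomm k k.2 l l.2)

/-- the consequences of Higman's theorem -/
theorem higman (X : Env a t Q K s r) (hP : IsPGroup 2 Q) (hna : ∃ x ∈ Q, ∃ y ∈ Q, x * y ≠ y * x) :
    (∀ x ∈ Q, x * x ∈ X.E) ∧ (Nat.card Q = Nat.card X.E ^ 2 ∨ Nat.card Q = Nat.card X.E ^ 3) := by
  letI : CommGroup K := { (inferInstance : Group K) with mul_comm := K_comm X }
  have h : HigmanBase.Hyp (P := Q) (K := K) (act X) := by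
    refine ⟨hP, ?_, fun x y h1 h2 h3 h4 => act_reg X x y h1 h2 h3 h4⟩
    obtain ⟨s₁, h1, s₂, h2, hne⟩ := exists_two_invol X.hS X.h2
    have hE' : ∀ x ∈ Cfsg.involutionsIn (stabilizer G a : Set G), x ∈ X.E := fun x hx => ⟨hx.1, hx.2.2⟩
    refine ⟨⟨s₁, X.EQ (hE' _ h1)⟩, ⟨s₂, X.EQ (hE' _ h2)⟩, ?_, ?_, ?_, ?_, ?_⟩
    · intro h; exact hne (congrArg Subtype.val h)
    · intro h; exact h1.2.1 (congrArg Subtype.val h)
    · exact Subtype.ext h1.2.2
    · intro h; exact h2.2.1 (congrArg Subtype.val h)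
    · exact Subtype.ext h2.2.2
  have hna' : ∃ x y : Q, x * y ≠ y * x := by
    obtain ⟨x, hx, y, hy, hxy⟩ := hna
    exact ⟨⟨x, hx⟩, ⟨y, hy⟩, fun h => hxy (congrArg Subtype.val h)⟩
  have hZ : Nat.card h.Z = Nat.card X.E := by
    refine Nat.card_congr ⟨fun z => ⟨z, Q_fix X.hS (z : Q).2, congrArg Subtype.val z.2⟩,
      fun z => ⟨⟨z, X.EQ z.2⟩, Subtype.ext z.2.2⟩, fun z => rfl, fun z => rfl⟩
  constructor
  · intro x hx
    have := h.sq_mem hna' ⟨x, hx⟩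
    refine ⟨?_, congrArg Subtype.val this⟩
    rw [mul_smul, Q_fix X.hS hx, Q_fix X.hS hx]
  · obtain ⟨F, _, ι, χ, _, _, f⟩ := h.exists_fld
    rw [← hZ, f.card_Z h]
    exact h.card_eq hna' f

section
variable (X : Env a t Q K s r) (hrr : r * r = 1)
include X hrr

theorem card_Q (hna : ∃ x ∈ Q, ∃ y ∈ Q, x * y ≠ y * x) {x : G} (hx : x ∈ Q) (hxE : x ∉ X.E) :
    Nat.card Q = Nat.card X.E ^ 3 := by
  obtain ⟨A, h1, h2, h3, h4, -⟩ := exists_A X hrr hx hxE
  have h5 := Subgroup.card_le_of_le h2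
  rw [h4] at h5
  rcases (higman X (isPGroup X hrr) hna).2 with h | h
  · exfalso
    rw [h] at h5
    have h6 := card_E_gt X
    have h7 : Nat.card X.E ^ 2 < Nat.card X.E ^ 3 := Nat.pow_lt_pow_right (by omega) (by norm_num)
    omega
  · exact h

/-- `L` is transitive outside the circle -/
theorem trans_out (hna : ∃ x ∈ Q, ∃ y ∈ Q, x * y ≠ y * x) {x : G} (hx : x ∈ Q) (hxE : x ∉ X.E)
    {z : G} (hz : z ∈ Q) (hzE : z ∉ X.E) : ∃ l ∈ L X (cl_E X hrr), l • x • t • a = z • t • a := by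
  obtain ⟨A, h1, h2, h3, h4, h5⟩ := exists_A X hrr hx hxE
  have h6 : A = Q := by
    apply Subgroup.eq_of_le_of_card_ge h2
    rw [h4, card_Q X hrr hna hx hxE]
  have h7 := (h5 z hz).1 (by rw [h6]; exact hz)
  exact h7.resolve_left hzE

end

theorem uu_eq {F : Type} [Field F] (b : F) : SUSys.uu b = up b := rfl

theorem ww_eq {F : Type} [Field F] [CharP F 2] : (SUSys.ww : SL(2, F)) = wm F := by
  apply SUSys.sl_ext
  intro i j
  fin_cases i <;> fin_cases j <;> simp [SUSys.ww_v, wm, CharTwo.neg_eq]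

theorem dd_eq {F : Type} [Field F] (k : Fˣ) : SUSys.dd k = dg (k : F) k.ne_zero := by
  apply SUSys.sl_ext
  intro i j
  fin_cases i <;> fin_cases j <;> simp [SUSys.dd_v, dg]

/-- the elements of `D` act on `E` by semilinear maps -/
theorem semi (X : Env a t Q K s r) {F : Type} [Field F] [Finite F] [CharP F 2] {σ : SL(2, F) →* G}
    (hinj : Function.Injective σ)
    (h1 : ∀ b, σ (SUSys.uu b) ∈ X.E) (h2 : ∀ e ∈ X.E, ∃ b, σ (SUSys.uu b) = e)
    (h3 : ∀ k, σ (SUSys.dd k) ∈ K) (h4 : ∀ k ∈ K, ∃ x, σ (SUSys.dd x) = k)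
    {d : G} (hd : d • a = a ∧ d • t • a = t • a) :
    ∃ (θ : F ≃+* F) (m : F), m ≠ 0 ∧ ∀ η, d * σ (SUSys.uu η) * d⁻¹ = σ (SUSys.uu (m * θ η)) := by
  have hτ := fun b => h2 _ (X.E_conj hd.1 (h1 b))
  choose τ hτ using hτ
  have hχ := fun k => h4 _ (X.Knorm d hd.1 hd.2 _ (h3 k))
  choose χ hχ using hχ
  have huinj : ∀ x y : F, σ (SUSys.uu x) = σ (SUSys.uu y) → x = y := by
    intro x y h
    have := hinj h
    have h5 := congrArg (fun l => SUSys.r1 l) this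
    exact congrArg Prod.snd h5
  have hadd : ∀ x y, τ (x + y) = τ x + τ y := by
    intro x y
    apply huinj
    rw [← SUSys.uu_add, map_mul, hτ, hτ, hτ, ← SUSys.uu_add, map_mul]
    group
  have htinj : Function.Injective τ := by
    intro x y hxy
    apply huinj
    have h5 := hτ x
    rw [hxy, hτ y] at h5
    exact (mul_left_cancel (mul_right_cancel h5)).symm
  have h0 : τ 0 = 0 := by
    have := hadd 0 0
    rw [add_zero] at this
    exact left_eq_add.1 this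
  have hm : τ 1 ≠ 0 := by
    intro h
    rw [← h0] at h
    exact one_ne_zero (htinj h)
  have hmul : ∀ (k : Fˣ) (b : F), τ ((k : F) * k * b) = (χ k : F) * χ k * τ b := by
    intro k b
    apply huinj
    rw [hτ, ← SUSys.dd_uu, map_mul, map_mul, map_inv, ← SUSys.dd_uu, map_mul, map_mul, map_inv, hχ, hτ]
    group
  have hmul' : ∀ c b : F, τ (c * b) * τ 1 = τ c * τ b := by
    intro c b
    by_cases hc : c = 0
    · rw [hc, zero_mul, h0, zero_mul, zero_mul]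
    obtain ⟨x, hx⟩ := SUAlg.exists_sqrt c
    have hx0 : x ≠ 0 := by
      rintro rfl
      apply hc
      rw [← hx]; ring
    have h5 := hmul (Units.mk0 x hx0) b
    have h6 := hmul (Units.mk0 x hx0) 1
    rw [Units.val_mk0, mul_one, ← pow_two, hx] at h6
    rw [Units.val_mk0, ← pow_two, hx] at h5
    rw [h5, h6]
    ring
  let θ0 : F →+* F :=
    { toFun := fun x => τ x / τ 1
      map_one' := div_self hm
      map_mul' := fun x y => by
        rw [div_mul_div_comm, ← hmul' x y, mul_div_mul_right _ _ hm]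
      map_zero' := by rw [h0, zero_div]
      map_add' := fun x y => by rw [hadd, add_div] }
  have hθ0 : Function.Bijective θ0 := Finite.injective_iff_bijective.1 θ0.injective
  refine ⟨RingEquiv.ofBijective θ0 hθ0, τ 1, hm, fun η => ?_⟩
  rw [← hτ]
  congr 2
  show τ η = τ 1 * (τ η / τ 1)
  rw [mul_div_cancel₀ _ hm]

/-- the data of the unitary case -/
theorem exists_sys (X : Env a t Q K s r) (hrr : r * r = 1) (hna : ∃ x ∈ Q, ∃ y ∈ Q, x * y ≠ y * x) {x : G}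
    (hx : x ∈ Q) (hxE : x ∉ X.E) : ∃ (F : Type) (_ : Field F) (_ : Fintype F) (_ : CharP F 2) (σ : SL(2, F) →* G),
    Nat.card X.E = Fintype.card F ∧ SUSys.Sys a t Q σ (x • t • a) := by
  obtain ⟨F, iF, iFt, hchar, σ0, u1, u2, k1, k2, w1, -, hcard⟩ := exists_iso X hrr
  have B := blk X (cl_E X hrr)
  obtain ⟨σ, hσ⟩ : ∃ σ : SL(2, F) →* G, ∀ l, σ l = σ0 l := ⟨(L X (cl_E X hrr)).subtype.comp σ0.toMonoidHom, fun l => rfl⟩
  have hinj : Function.Injective σ := by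
    intro l l' h
    rw [hσ, hσ] at h
    exact σ0.injective (Subtype.ext h)
  have hu1 : ∀ b, σ (SUSys.uu b) ∈ X.E := fun b => by rw [hσ]; exact u1 b
  have hu2 : ∀ e ∈ X.E, ∃ b, σ (SUSys.uu b) = e := fun e he => by
    obtain ⟨b, hb⟩ := u2 e he
    exact ⟨b, by rw [hσ]; exact hb⟩
  have hk1 : ∀ k, σ (SUSys.dd k) ∈ K := fun k => by rw [hσ, dd_eq]; exact k1 _ _
  have hk2 : ∀ k ∈ K, ∃ x, σ (SUSys.dd x) = k := fun k hk => by
    obtain ⟨y, hy, h⟩ := k2 k hk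
    refine ⟨Units.mk0 y hy, ?_⟩
    rw [hσ, dd_eq]
    exact h
  have hL : ∀ l, σ l ∈ L X (cl_E X hrr) := fun l => by rw [hσ]; exact (σ0 l).2
  have hCst : ∀ ω, ω ∈ SUSys.Cst a t σ ↔ ω ∈ SUZBlk.Blk.C a t X.E := by
    intro ω
    constructor
    · rintro (h | ⟨η, h⟩)
      · exact Or.inl h
      · exact Or.inr ⟨_, hu1 η, h⟩
    · rintro (h | ⟨y, hy, h⟩)
      · exact Or.inl h
      · obtain ⟨b, hb⟩ := hu2 y hy
        exact Or.inr ⟨b, by rw [hb]; exact h⟩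
  refine ⟨F, iF, iFt, hchar, σ, hcard, ?_⟩
  refine ⟨X.tt, ta_ne X.hS, fun x hx => Q_fix X.hS hx, ?_, ?_, ?_, ?_, ?_, ?_, ?_, ?_, ?_, ?_, ?_, ?_, ?_, ?_⟩
  · intro ω hω
    obtain ⟨y, hy, h⟩ := Q_trans X.hS hω
    exact ⟨y, hy, h.symm⟩
  · intro y hy h
    by_contra hy1
    exact ta_ne X.hS (Q_free X.hS hy hy1 h)
  · rw [hσ, ww_eq]; exact w1
  · intro η
    exact X.EQ (hu1 η)
  · intro η h
    have h5 : SUSys.uu η = (1 : SL(2, F)) := hinj (by rw [h, map_one])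
    have h6 := congrArg (fun l => SUSys.r1 l) h5
    have h7 := congrArg Prod.snd h6
    simpa [SUSys.r1, SUSys.uu] using h7
  · intro η y hy
    exact X.E_central (hu1 η) hy
  · intro y hy
    obtain ⟨b, hb⟩ := hu2 _ ((higman X (isPGroup X hrr) hna).1 y hy)
    exact ⟨b, hb.symm⟩
  · intro k
    exact X.Ka (hk1 k)
  · intro k y hy
    exact X.hS.conj_mem _ (mem_stabilizer_iff.2 (X.Ka (hk1 k))) y hy
  · rw [hCst, B.mem_C_iff hx]
    exact hxE
  · intro l ω hω h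
    rw [hCst] at hω h
    exact hω (B.C_L' (hL l) h)
  · intro ω hω
    rw [hCst] at hω
    have hωa : ω ≠ a := fun h => hω (Or.inl h)
    obtain ⟨z, hz, rfl⟩ := Q_trans X.hS hωa
    rw [B.mem_C_iff hz] at hω
    obtain ⟨l, hl, h⟩ := trans_out X hrr hna hx hxE hz hω
    refine ⟨σ0.symm ⟨l, hl⟩, ?_⟩
    rw [hσ, MulEquiv.apply_symm_apply]
    exact h.symm
  · intro l h
    have h5 := B.free hx hxE (hL l) h
    exact hinj (by rw [h5, map_one])
  · intro d hd1 hd2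
    exact semi X hinj hu1 hu2 hk1 hk2 ⟨hd1, hd2⟩

end Cfsg.Agent.Lib.SUApp
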