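import Cfsg.Agent.Lib.SUApp

set_option autoImplicit false
set_option linter.unusedSectionVars false
set_option linter.unusedVariables false

/-!
# Suzuki's theorem, the unitary case: conclusion for the rank one set-up (helper24)
-/

namespace Cfsg.Agent.Lib.SUApp

open MulAction Cfsg.Agent.Lib.RankOne Cfsg.Agent.Lib.RankOneC Cfsg.Agent.Lib.SuzS1 Cfsg.Agent.Lib.SuzS7
open scoped MatrixGroups

variable {G Ω : Type*} [Group G] [Finite G] [MulAction G Ω] {a : Ω} {t : G} {Q K : Subgroup G} {s r : G}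

/-- a subgroup containing `Q`, `t` and normalised by `D` is normal of odd index -/
theorem normal_odd (X : Env a t Q K s r) {N : Subgroup G} (hQ : Q ≤ N) (ht : t ∈ N)
    (hD : ∀ d : G, (d • a = a ∧ d • t • a = t • a) → ∀ x ∈ N, d * x * d⁻¹ ∈ N) : N.Normal ∧ Odd N.index := by
  have hex : ∀ g : G, ∃ x ∈ N, ∃ d : G, (d • a = a ∧ d • t • a = t • a) ∧ g = x * d := by
    intro g
    by_cases hg : g ∈ stabilizer G a
    · obtain ⟨y, hy, d, hd, rfl⟩ := exists_mul X.hS hg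
      exact ⟨y, hQ hy, d, ⟨hd.1, hd.2⟩, rfl⟩
    · obtain ⟨⟨p, f⟩, ⟨hp, hf, he⟩, -⟩ := canonical X.hS hg
      dsimp only at hp hf he
      obtain ⟨y, hy, d, hd, rfl⟩ := exists_mul X.hS hp
      have hd' : d • a = a ∧ d • t • a = t • a := ⟨hd.1, hd.2⟩
      refine ⟨y * (d * (t * f) * d⁻¹), N.mul_mem (hQ hy) (hD d hd' _ (N.mul_mem ht (hQ hf))), d, hd', ?_⟩
      rw [he]; group
  have hn : N.Normal := by
    constructor
    intro x hx g
    obtain ⟨y, hy, d, hd, rfl⟩ := hex g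
    have h1 := hD d hd x hx
    have h2 : y * d * x * (y * d)⁻¹ = y * (d * x * d⁻¹) * y⁻¹ := by group
    rw [h2]
    exact N.mul_mem (N.mul_mem hy h1) (N.inv_mem hy)
  refine ⟨hn, ?_⟩
  let f : ↥(stabilizer G a ⊓ stabilizer G (t • a)) →* G ⧸ N :=
    (QuotientGroup.mk' N).comp (stabilizer G a ⊓ stabilizer G (t • a)).subtype
  have hf : Function.Surjective f := by
    intro q
    obtain ⟨g, rfl⟩ := QuotientGroup.mk'_surjective _ q
    obtain ⟨x, hx, d, hd, rfl⟩ := hex g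
    refine ⟨⟨d, hd.1, hd.2⟩, ?_⟩
    show QuotientGroup.mk' N d = QuotientGroup.mk' N (x * d)
    rw [map_mul]
    have : QuotientGroup.mk' N x = 1 := (QuotientGroup.eq_one_iff x).mpr hx
    rw [this, one_mul]
  have h1 : Nat.card (G ⧸ N) ∣ Nat.card ↥(stabilizer G a ⊓ stabilizer G (t • a)) :=
    Subgroup.card_dvd_of_surjective f hf
  exact X.hS.odd_card.of_dvd_nat h1

theorem closure_normal (X : Env a t Q K s r) (hrr : r * r = 1) :
    (Subgroup.closure ((Q : Set G) ∪ {t})).Normal ∧ Odd (Subgroup.closure ((Q : Set G) ∪ {t})).index := by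
  obtain ⟨N, hN⟩ : ∃ N, N = Subgroup.closure ((Q : Set G) ∪ {t}) := ⟨_, rfl⟩
  rw [← hN]
  have hQN : Q ≤ N := by
    rw [hN]; exact fun x hx => Subgroup.subset_closure (Or.inl hx)
  have htN : t ∈ N := by
    rw [hN]; exact Subgroup.subset_closure (Or.inr rfl)
  have hKN : K ≤ N := by
    intro k hk
    obtain ⟨x, hx, -, g, hg, f, hf, h⟩ := h_surj X (cl_E X hrr) hk
    have h1 : k = g⁻¹ * (t * x * t) * f⁻¹ * t⁻¹ := by
      rw [h]; group
    rw [h1]
    exact N.mul_mem (N.mul_mem (N.mul_mem (N.inv_mem (hQN (X.EQ hg))) (N.mul_mem (N.mul_mem htN (hQN (X.EQ hx))) htN))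
      (N.inv_mem (hQN (X.EQ hf)))) (N.inv_mem htN)
  apply normal_odd X hQN htN
  intro d hd x hx
  rw [hN] at hx
  refine Subgroup.closure_induction (p := fun x _ => d * x * d⁻¹ ∈ N) ?_ ?_ ?_ ?_ hx
  · rintro y (hy | hy)
    · exact hQN (X.hS.conj_mem d (mem_stabilizer_iff.2 hd.1) y hy)
    · rw [Set.mem_singleton_iff.1 hy]
      obtain ⟨z, hz, h⟩ := conj_t X hd
      rw [h]
      exact N.mul_mem (hKN hz) htN
  · rw [mul_one, mul_inv_cancel]; exact N.one_mem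
  · intro x y _ _ h1 h2
    have : d * (x * y) * d⁻¹ = (d * x * d⁻¹) * (d * y * d⁻¹) := by group
    rw [this]
    exact N.mul_mem h1 h2
  · intro x _ h1
    have : d * x⁻¹ * d⁻¹ = (d * x * d⁻¹)⁻¹ := by group
    rw [this]
    exact N.inv_mem h1

/-- **Case `r ∈ E`, `Q` not abelian** -/
theorem concl_PSU [FaithfulSMul G Ω] (X : Env a t Q K s r) (hrr : r * r = 1)
    (hna : ∃ x ∈ Q, ∃ y ∈ Q, x * y ≠ y * x) :
    ∃ L : Subgroup G, L.Normal ∧ Odd L.index ∧ ∃ (F : Type) (_ : Field F) (_ : Fintype F) (n : ℕ), 2 ≤ n ∧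
      Fintype.card F = (2 ^ n) ^ 2 ∧ Nonempty (L ≃* Cfsg.PSU 3 F (2 ^ n)) := by
  obtain ⟨x, hx, hxE⟩ : ∃ x ∈ Q, x ∉ X.E := by
    obtain ⟨x, hx, y, hy, hxy⟩ := hna
    exact ⟨x, hx, fun h => hxy (X.E_central h hy)⟩
  obtain ⟨F, i1, i2, i3, σ, hcard, S⟩ := exists_sys X hrr hna hx hxE
  obtain ⟨n, hn, hE⟩ := exists_card_E X
  rw [hcard] at hE
  have hF : Fintype.card F ≠ 2 := by
    rw [hE]
    have : 2 ^ 2 ≤ 2 ^ n := Nat.pow_le_pow_right (by norm_num) hn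
    omega
  obtain ⟨K', j1, j2, h1, h2⟩ := S.psu hF
  obtain ⟨hn1, hn2⟩ := closure_normal X hrr
  rw [hE] at h1 h2
  exact ⟨_, hn1, hn2, K', j1, j2, n, hn, h1, h2⟩

end Cfsg.Agent.Lib.SUApp
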