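import Cfsg.Agent.S0283
import Cfsg.Agent.Lib.SylU3

set_option autoImplicit false
set_option linter.unusedSectionVars false

/-!
# Suzuki's theorem, the unitary case: identification of `⟨Q, t⟩` with `PSU₃(q)` (helper24)
-/

namespace Cfsg.Agent.Lib.SUModel

open Matrix Cfsg Cfsg.Agent.Lib.ClUnitary Cfsg.Agent.Lib.HermMat Cfsg.Agent.Lib.SylU3
open scoped MatrixGroups

/-- coordinates for the group `Q` -/
structure Co {G Ω K : Type*} [Group G] [MulAction G Ω] (a : Ω) (t : G) (Q : Subgroup G) [Field K] [Fintype K] (q : ℕ)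
    (l m : G → K) : Prop where
  tt : t * t = 1
  tab : t • a ≠ a
  Qa : ∀ x ∈ Q, x • a = a
  Qtr : ∀ ω, ω ≠ a → ∃ x ∈ Q, ω = x • t • a
  Qfr : ∀ x ∈ Q, x • t • a = t • a → x = 1
  hK : Fintype.card K = q ^ 2
  two : (2 : K) = 0
  nm : ∀ x ∈ Q, m x + m x ^ q = l x * l x ^ q
  lm : ∀ x ∈ Q, ∀ y ∈ Q, l (x * y) = l x + l y
  mm : ∀ x ∈ Q, ∀ y ∈ Q, m (x * y) = m x + m y + l x ^ q * l y
  inj : ∀ x ∈ Q, l x = 0 → m x = 0 → x = 1
  surj : ∀ u v : K, v + v ^ q = u * u ^ q → ∃ x ∈ Q, l x = u ∧ m x = v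
  tc : ∀ x ∈ Q, x ≠ 1 → ∃ f ∈ Q, t • x • t • a = f • t • a ∧ l f * m x = l x ∧ m f * m x = 1

variable {G Ω K : Type*} [Group G] [MulAction G Ω] {a : Ω} {t : G} {Q : Subgroup G} [Field K] [Fintype K] {q : ℕ}
  {l m : G → K}

/-- the vector of a point -/
def pt (l m : G → K) (x : G) : Fin 3 → K := ![m x, l x, 1]
/-- the vector of the point `a` -/
def ei : Fin 3 → K := ![1, 0, 0]
/-- the hermitian form -/
def hf (q : ℕ) (u v : Fin 3 → K) : K := u 0 * v 2 ^ q + u 1 * v 1 ^ q + u 2 * v 0 ^ q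

/-- the vector `v` represents the point `ω` -/
def Rp (a : Ω) (t : G) (Q : Subgroup G) (l m : G → K) (ω : Ω) (v : Fin 3 → K) : Prop :=
  (ω = a ∧ ∃ c : K, c ≠ 0 ∧ v = c • ei) ∨ (∃ x ∈ Q, ω = x • t • a ∧ ∃ c : K, c ≠ 0 ∧ v = c • pt l m x)

/-- the group element and the matrix act in the same way -/
def Rel (a : Ω) (t : G) (Q : Subgroup G) (l m : G → K) (g : G) (M : GL (Fin 3) K) : Prop :=
  ∀ ω v, Rp a t Q l m ω v → Rp a t Q l m (g • ω) (M.1 *ᵥ v)

namespace Co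

variable (C : Co a t Q q l m)
include C

theorem l_one : l 1 = 0 := by
  have := C.lm 1 Q.one_mem 1 Q.one_mem
  rw [mul_one] at this
  linear_combination -this

theorem m_one : m 1 = 0 := by
  have := C.mm 1 Q.one_mem 1 Q.one_mem
  rw [mul_one, C.l_one, mul_zero, add_zero] at this
  linear_combination -this

theorem eq_of {x y : G} (hx : x ∈ Q) (hy : y ∈ Q) (hl : l x = l y) (hm : m x = m y) : x = y := by
  have hz : x⁻¹ * y ∈ Q := Q.mul_mem (Q.inv_mem hx) hy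
  have h1 := C.lm x hx _ hz
  have h2 := C.mm x hx _ hz
  rw [mul_inv_cancel_left] at h1 h2
  have h3 : l (x⁻¹ * y) = 0 := by linear_combination -hl - h1
  rw [h3, mul_zero, add_zero] at h2
  have h4 : m (x⁻¹ * y) = 0 := by linear_combination -hm - h2
  exact inv_mul_eq_one.1 (C.inj _ hz h3 h4)

theorem Qreg {x y : G} (hx : x ∈ Q) (hy : y ∈ Q) (h : x • t • a = y • t • a) : x = y := by
  have h1 : (y⁻¹ * x) • t • a = t • a := by
    rw [mul_smul y⁻¹ x, h, ← mul_smul y⁻¹ y, inv_mul_cancel, one_smul]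
  have h2 := C.Qfr _ (Q.mul_mem (Q.inv_mem hy) hx) h1
  exact (inv_mul_eq_one.1 h2).symm

theorem ne_a {x : G} (hx : x ∈ Q) : x • t • a ≠ a := by
  intro h
  apply C.tab
  have : x⁻¹ • x • t • a = x⁻¹ • a := by rw [h]
  rwa [inv_smul_smul, C.Qa _ (Q.inv_mem hx)] at this

theorem tta (ω : Ω) : t • t • ω = ω := by rw [← mul_smul, C.tt, one_smul]

theorem exists_Rp (ω : Ω) : ∃ v, Rp a t Q l m ω v := by
  by_cases h : ω = a
  · exact ⟨ei, Or.inl ⟨h, 1, one_ne_zero, by rw [one_smul]⟩⟩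
  · obtain ⟨x, hx, hω⟩ := C.Qtr ω h
    exact ⟨pt l m x, Or.inr ⟨x, hx, hω, 1, one_ne_zero, by rw [one_smul]⟩⟩

omit C in
theorem Rp_smul {ω : Ω} {v : Fin 3 → K} (h : Rp a t Q l m ω v) {c : K} (hc : c ≠ 0) : Rp a t Q l m ω (c • v) := by
  rcases h with ⟨h1, d, hd, rfl⟩ | ⟨x, hx, h1, d, hd, rfl⟩
  · exact Or.inl ⟨h1, c * d, mul_ne_zero hc hd, by rw [smul_smul]⟩
  · exact Or.inr ⟨x, hx, h1, c * d, mul_ne_zero hc hd, by rw [smul_smul]⟩

theorem Rp_unique {ω : Ω} {v w : Fin 3 → K} (h : Rp a t Q l m ω v) (h' : Rp a t Q l m ω w) :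
    ∃ c : K, c ≠ 0 ∧ w = c • v := by
  rcases h with ⟨h1, d, hd, rfl⟩ | ⟨x, hx, h1, d, hd, rfl⟩
  · rcases h' with ⟨h2, e, he, rfl⟩ | ⟨y, hy, h2, e, he, rfl⟩
    · exact ⟨e / d, div_ne_zero he hd, by rw [smul_smul, div_mul_cancel₀ _ hd]⟩
    · exact absurd (h2.symm.trans h1) (C.ne_a hy)
  · rcases h' with ⟨h2, e, he, rfl⟩ | ⟨y, hy, h2, e, he, rfl⟩
    · exact absurd (h1.symm.trans h2) (C.ne_a hx)
    · have := C.Qreg hx hy (h1.symm.trans h2)
      rw [this]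
      exact ⟨e / d, div_ne_zero he hd, by rw [smul_smul, div_mul_cancel₀ _ hd]⟩

theorem Rp_inj {ω ω' : Ω} {v : Fin 3 → K} (h : Rp a t Q l m ω v) (h' : Rp a t Q l m ω' v) : ω = ω' := by
  rcases h with ⟨h1, d, hd, rfl⟩ | ⟨x, hx, h1, d, hd, rfl⟩
  · rcases h' with ⟨h2, e, he, hv⟩ | ⟨y, hy, h2, e, he, hv⟩
    · rw [h1, h2]
    · have := congrFun hv 2
      simp [ei, pt] at this
      exact absurd this.symm he
  · rcases h' with ⟨h2, e, he, hv⟩ | ⟨y, hy, h2, e, he, hv⟩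
    · have := congrFun hv 2
      simp [ei, pt] at this
      exact absurd this hd
    · have e2 := congrFun hv 2
      have e1 := congrFun hv 1
      have e0 := congrFun hv 0
      simp [pt] at e2 e1 e0
      rw [e2] at e1 e0
      rw [h1, h2, C.eq_of hx hy (mul_left_cancel₀ he e1) (mul_left_cancel₀ he e0)]

/-- every isotropic vector represents a point -/
theorem exists_point {v : Fin 3 → K} (hv : v ≠ 0) (h : hf q v v = 0) : ∃ ω, Rp a t Q l m ω v := by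
  have hK := C.hK
  by_cases h2 : v 2 = 0
  · have hq := two_le_q hK
    have h1 : v 1 = 0 := by
      simp only [hf, h2, zero_pow (show q ≠ 0 by omega), mul_zero, zero_mul, add_zero, zero_add, ← pow_succ'] at h
      exact pow_eq_zero_iff (by omega) |>.1 h
    refine ⟨a, Or.inl ⟨rfl, v 0, ?_, ?_⟩⟩
    · intro h0
      apply hv
      ext i
      fin_cases i
      · exact h0
      · exact h1
      · exact h2
    · ext i
      fin_cases i
      · simp [ei]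
      · simp [ei, h1]
      · simp [ei, h2]
  · obtain ⟨x, hx, hl, hm⟩ := C.surj (v 1 / v 2) (v 0 / v 2) (by
      have hq2 : v 2 ^ q ≠ 0 := pow_ne_zero _ h2
      rw [div_pow, div_pow]
      field_simp
      simp only [hf] at h
      have h22 := C.two
      linear_combination h - (v 1 * v 1 ^ q) * h22)
    refine ⟨x • t • a, Or.inr ⟨x, hx, rfl, v 2, h2, ?_⟩⟩
    ext i
    fin_cases i
    · simp [pt, hm]; field_simp
    · simp [pt, hl]; field_simp
    · simp [pt]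

theorem rel_one : Rel a t Q l m 1 (1 : GL (Fin 3) K) := by
  intro ω v h
  rw [one_smul, Units.val_one, one_mulVec]
  exact h

omit C in
theorem rel_mul {g h : G} {M N : GL (Fin 3) K} (h1 : Rel a t Q l m g M) (h2 : Rel a t Q l m h N) :
    Rel a t Q l m (g * h) (M * N) := by
  intro ω v hv
  rw [mul_smul, Units.val_mul, ← mulVec_mulVec]
  exact h1 _ _ (h2 _ _ hv)

theorem rel_inv {g : G} {M : GL (Fin 3) K} (h1 : Rel a t Q l m g M) : Rel a t Q l m g⁻¹ M⁻¹ := by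
  intro ω v hv
  obtain ⟨w, hw⟩ := C.exists_Rp (g⁻¹ • ω)
  have h2 := h1 _ _ hw
  rw [smul_inv_smul] at h2
  obtain ⟨c, hc, rfl⟩ := C.Rp_unique h2 hv
  have e1 : (M⁻¹).1 *ᵥ (c • M.1 *ᵥ w) = c • w := by
    rw [mulVec_smul, mulVec_mulVec, ← Units.val_mul, inv_mul_cancel, Units.val_one, one_mulVec]
  rw [e1]
  exact Rp_smul hw hc

theorem qpow {x : K} : (x ^ q) ^ q = x := pow_q_pow_q C.hK x

theorem neg_eq (x : K) : -x = x := by
  have := C.two
  linear_combination (-x) * this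

/-- the matrix of `x ∈ Q` -/
theorem rel_Q {x : G} (hx : x ∈ Q) : Rel a t Q l m x (ug (l x ^ q) (m x) (l x)) := by
  intro ω v hv
  rw [ug_val]
  rcases hv with ⟨rfl, c, hc, rfl⟩ | ⟨y, hy, rfl, c, hc, rfl⟩
  · refine Or.inl ⟨C.Qa x hx, c, hc, ?_⟩
    rw [mulVec_smul]
    congr 1
    ext i; fin_cases i <;> simp [um, ei, Matrix.mulVec, dotProduct, Fin.sum_univ_three]
  · refine Or.inr ⟨x * y, Q.mul_mem hx hy, by rw [mul_smul], c, hc, ?_⟩
    rw [mulVec_smul]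
    congr 1
    ext i; fin_cases i
    · simp [um, pt, Matrix.mulVec, dotProduct, Fin.sum_univ_three, C.mm x hx y hy]; ring
    · simp [um, pt, Matrix.mulVec, dotProduct, Fin.sum_univ_three, C.lm x hx y hy]; ring
    · simp [um, pt, Matrix.mulVec, dotProduct, Fin.sum_univ_three]

omit C in
/-- the Weyl element -/
def Jm : Matrix (Fin 3) (Fin 3) K := !![0, 0, 1; 0, 1, 0; 1, 0, 0]

omit C in
theorem Jm_mul : (Jm : Matrix (Fin 3) (Fin 3) K) * Jm = 1 := by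
  ext i j; fin_cases i <;> fin_cases j <;> simp [Jm, Matrix.mul_apply, Fin.sum_univ_three]

omit C in
def Jg : GL (Fin 3) K := ⟨Jm, Jm, Jm_mul, Jm_mul⟩

omit C in
theorem Jm_vec (v : Fin 3 → K) : Jm *ᵥ v = ![v 2, v 1, v 0] := by
  ext i; fin_cases i <;> simp [Jm, Matrix.mulVec, dotProduct, Fin.sum_univ_three]

theorem rel_t : Rel a t Q l m t (Jg : GL (Fin 3) K) := by
  intro ω v hv
  change Rp a t Q l m (t • ω) (Jm *ᵥ v)
  have h1 : (pt l m 1 : Fin 3 → K) = ![0, 0, 1] := by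
    rw [pt, C.l_one, C.m_one]
  rcases hv with ⟨rfl, c, hc, rfl⟩ | ⟨x, hx, rfl, c, hc, rfl⟩
  · refine Or.inr ⟨1, Q.one_mem, by rw [one_smul], c, hc, ?_⟩
    rw [mulVec_smul, Jm_vec, h1]
    rfl
  · by_cases hx1 : x = 1
    · subst hx1
      refine Or.inl ⟨by rw [one_smul, C.tta], c, hc, ?_⟩
      rw [mulVec_smul, Jm_vec, h1]
      rfl
    · obtain ⟨f, hf', h2, h3, h4⟩ := C.tc x hx hx1
      have hm0 : m x ≠ 0 := by
        intro h
        rw [h, mul_zero] at h4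
        exact zero_ne_one h4
      refine Or.inr ⟨f, hf', h2, c * m x, mul_ne_zero hc hm0, ?_⟩
      rw [mulVec_smul, Jm_vec, ← smul_smul]
      congr 1
      ext i; fin_cases i
      · simp [pt]; rw [mul_comm]; exact h4.symm
      · simp [pt]; rw [mul_comm]; exact h3.symm
      · simp [pt]

omit C in
theorem hf_J (u v : Fin 3 → K) : hf q (Jm *ᵥ u) (Jm *ᵥ v) = hf q u v := by
  rw [Jm_vec, Jm_vec]; simp [hf]; ring

theorem hf_Q {x : G} (hx : x ∈ Q) (u v : Fin 3 → K) :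
    hf q ((ug (l x ^ q) (m x) (l x)).1 *ᵥ u) ((ug (l x ^ q) (m x) (l x)).1 *ᵥ v) = hf q u v := by
  rw [ug_val]
  have h1 : l x = -(l x ^ q) ^ q := by rw [C.qpow, C.neg_eq]
  have h2 : Cd q (l x ^ q) (m x) := by
    unfold Cd
    rw [C.qpow]
    have := C.nm x hx
    have h22 := C.two
    linear_combination this + (l x * l x ^ q) * h22
  have h3 := um_herm C.hK h2 u v
  rw [← h1] at h3
  exact h3

theorem hf_smul_right (c : K) (u v : Fin 3 → K) : hf q u (c • v) = c ^ q * hf q u v := by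
  simp only [hf, Pi.smul_apply, smul_eq_mul, mul_pow]; ring

/-- there is an element moving `a` to any given point -/
theorem exists_move {N : Subgroup G} (hQN : Q ≤ N) (htN : t ∈ N) (ω : Ω) : ∃ (g : G) (M : GL (Fin 3) K), g ∈ N ∧
    Rel a t Q l m g M ∧ (∀ u v, hf q (M.1 *ᵥ u) (M.1 *ᵥ v) = hf q u v) ∧ g • a = ω := by
  by_cases h : ω = a
  · refine ⟨1, 1, N.one_mem, C.rel_one, fun u v => ?_, by rw [one_smul, h]⟩
    rw [Units.val_one, one_mulVec, one_mulVec]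
  · obtain ⟨x, hx, hω⟩ := C.Qtr ω h
    refine ⟨x * t, _, N.mul_mem (hQN hx) htN, rel_mul (C.rel_Q hx) C.rel_t, fun u v => ?_, by rw [hω, mul_smul]⟩
    rw [Units.val_mul, ← mulVec_mulVec, ← mulVec_mulVec, C.hf_Q hx]
    exact hf_J u v

omit C in
theorem gl_ext {M N : GL (Fin 3) K} (h : ∀ u, M.1 *ᵥ u = N.1 *ᵥ u) : M = N := by
  apply Units.ext
  exact Matrix.mulVec_injective (funext h)

theorem exists_rel_trans {N : Subgroup G} (hQN : Q ≤ N) (htN : t ∈ N) {M : GL (Fin 3) K} {w : Fin 3 → K} {c : K}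
    (hw : hf q w w = 0) (hM : ∀ u, M.1 *ᵥ u = u + (c * hf q u w) • w)
    (hMf : ∀ u v, hf q (M.1 *ᵥ u) (M.1 *ᵥ v) = hf q u v) : ∃ g ∈ N, Rel a t Q l m g M := by
  by_cases hw0 : w = 0
  · refine ⟨1, N.one_mem, ?_⟩
    have : M = 1 := by
      apply gl_ext
      intro u
      rw [hM, hw0, smul_zero, add_zero, Units.val_one, one_mulVec]
    rw [this]
    exact C.rel_one
  obtain ⟨ω, hω⟩ := C.exists_point hw0 hw
  obtain ⟨g0, M0, hg0, hR0, hf0, hga⟩ := C.exists_move hQN htN ω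
  have h1 := hR0 a ei (Or.inl ⟨rfl, 1, one_ne_zero, by rw [one_smul]⟩)
  rw [hga] at h1
  obtain ⟨d, hd, hdw⟩ := C.Rp_unique h1 hω
  obtain ⟨b, hb⟩ : ∃ b, b = c * d * d ^ q := ⟨_, rfl⟩
  have hei : ∀ u : Fin 3 → K, hf q u ei = u 2 := by
    intro u
    have hq := two_le_q C.hK
    simp [hf, ei, zero_pow (show q ≠ 0 by omega)]
  have hconj : ∀ u, (M0⁻¹ * M * M0).1 *ᵥ u = u + (b * u 2) • ei := by
    intro u
    rw [Units.val_mul, Units.val_mul, ← mulVec_mulVec, ← mulVec_mulVec, hM, hdw, C.hf_smul_right, hf0, hei,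
      mulVec_add, mulVec_smul, mulVec_smul, mulVec_mulVec, mulVec_mulVec, ← Units.val_mul, inv_mul_cancel,
      Units.val_one, one_mulVec, one_mulVec, smul_smul, hb]
    congr 2
    ring
  have hf0' : ∀ u v, hf q ((M0⁻¹).1 *ᵥ u) ((M0⁻¹).1 *ᵥ v) = hf q u v := by
    intro u v
    rw [← hf0, mulVec_mulVec, mulVec_mulVec, ← Units.val_mul, mul_inv_cancel, Units.val_one, one_mulVec, one_mulVec]
  have hbb : b + b ^ q = 0 := by
    have hq := two_le_q C.hK
    have h2 : hf q ((M0⁻¹ * M * M0).1 *ᵥ ![0, 0, 1]) ((M0⁻¹ * M * M0).1 *ᵥ ![0, 0, 1]) =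
        hf q (![0, 0, 1] : Fin 3 → K) ![0, 0, 1] := by
      rw [Units.val_mul, Units.val_mul, ← mulVec_mulVec, ← mulVec_mulVec, hf0', hMf, hf0]
    rw [hconj] at h2
    simpa [hf, ei, zero_pow (show q ≠ 0 by omega)] using h2
  obtain ⟨x, hx, hl, hm⟩ := C.surj 0 b (by rw [hbb, zero_mul])
  have hux : M0⁻¹ * M * M0 = ug (l x ^ q) (m x) (l x) := by
    apply gl_ext
    intro u
    have hq := two_le_q C.hK
    rw [hconj, ug_val, hl, hm, zero_pow (show q ≠ 0 by omega)]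
    ext i; fin_cases i <;> simp [um, ei, Matrix.mulVec, dotProduct, Fin.sum_univ_three]
  refine ⟨g0 * x * g0⁻¹, N.mul_mem (N.mul_mem hg0 (hQN hx)) (N.inv_mem hg0), ?_⟩
  have : M = M0 * ug (l x ^ q) (m x) (l x) * M0⁻¹ := by
    rw [← hux]; group
  rw [this]
  exact rel_mul (rel_mul hR0 (C.rel_Q hx)) (C.rel_inv hR0)

end Co

end Cfsg.Agent.Lib.SUModel
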