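import Cfsg.Agent.Lib.SzId8

/-!
Identification of the Suzuki groups (helper13).

`SzIso.main`: in the split rank one set-up `Env a t Q K s r` (structure equation `t s t = r⁻¹ t r`) with `r² ≠ 1` and
`|Q| = |Ω₁(Q)|²` the group generated by `Q`, `K` and `t` is a Suzuki group.
-/

set_option autoImplicit false
set_option linter.unusedSectionVars false

namespace Cfsg.Agent.Lib.SzIso

open MulAction Cfsg.Agent.Lib.RankOne Cfsg.Agent.Lib.RankOneC Cfsg.Agent.Lib.SuzS1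
open Cfsg.Agent.Lib.HigmanBase Cfsg.Agent.Lib.SzId Cfsg.Agent.Lib.SuzukiOvoid

variable {G Ω : Type*} [Group G] [MulAction G Ω] {a : Ω} {t : G} {Q K : Subgroup G} {s r : G}

theorem card_two_pow [Finite G] (X : Env a t Q K s r) : ∃ n : ℕ, Nat.card {x : Q // x * x = 1} = 2 ^ n := by
  have h1 : Nat.card {x : Q // x * x = 1} = Nat.card X.E := by
    refine Nat.card_congr ⟨fun x => ⟨x.1, Q_fix X.hS x.1.2, congrArg Subtype.val x.2⟩,
      fun x => ⟨⟨x.1, X.EQ x.2⟩, Subtype.ext x.2.2⟩, fun x => rfl, fun x => rfl⟩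
  haveI : Fact (Nat.Prime 2) := ⟨Nat.prime_two⟩
  have h2 : IsPGroup 2 X.E := by
    intro x
    refine ⟨1, ?_⟩
    rw [pow_one, pow_two]
    exact Subtype.ext x.2.2
  obtain ⟨n, hn⟩ := IsPGroup.iff_card.1 h2
  exact ⟨n, h1.trans hn⟩

set_option maxHeartbeats 1000000 in
/-- **Identification of the Suzuki groups.** -/
theorem main [Finite G] [FaithfulSMul G Ω] (X : Env a t Q K s r) (hr2 : r * r ≠ 1)
    (hcard : Nat.card Q = Nat.card {x : Q // x * x = 1} ^ 2) :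
    Cfsg.Lie.IsoSuzuki (Subgroup.closure ((Q : Set G) ∪ K ∪ {t})) := by
  classical
  haveI : Fact (Nat.Prime 2) := ⟨Nat.prime_two⟩
  obtain ⟨n, hn⟩ := card_two_pow X
  have h2 : IsPGroup 2 Q := IsPGroup.of_card (n := n * 2) (by rw [hcard, hn, ← pow_mul])
  letI := commK X
  have h : Hyp (phi X) := hyp X h2
  have hZ : Nat.card h.Z = Nat.card {x : Q // x * x = 1} := rfl
  obtain ⟨F, _, ι, χ, hFfin, hF2, f⟩ := h.exists_fld
  have hFc : Nat.card F = 2 ^ n := by rw [← f.card_Z h, hZ, hn]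
  have hss : (⟨s, X.sQ⟩ : Q) * ⟨s, X.sQ⟩ = 1 := Subtype.ext X.ss
  have hs1 : (⟨s, X.sQ⟩ : Q) ≠ 1 := fun e => X.s_ne (congrArg Subtype.val e)
  by_cases hab : ∀ x y : Q, x * y = y * x
  · exfalso
    have h4 : ((⟨r, X.hr⟩ : Q) * ⟨r, X.hr⟩) * (⟨r, X.hr⟩ * ⟨r, X.hr⟩) = 1 :=
      pow_four h hab (by rw [hcard, hZ])
    exact not_comm h (sys X (congrArg Subtype.val h4) hr2) hs1 hss hab
  push Not at hab
  obtain ⟨E, _, _, _, ψ, α, b, lam, hE, hψ, hinj, c⟩ := exists_coord h hab f (by rw [hcard, hn, hFc])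
  have hE2 : Fintype.card E = 2 ^ n := by rw [hE, hFc]
  set rr : Q := ⟨r, X.hr⟩ with hrr
  have hαrr : α (rr * rr) = 0 := by rw [c.add, CharTwo.add_self_eq_zero]
  have hr4 : (rr * rr) * (rr * rr) = 1 := by
    apply c.ext
    · rw [c.add, hαrr, add_zero, c.one]
    · rw [c.coc, hαrr, map_zero, zero_mul, add_zero, CharTwo.add_self_eq_zero, c.bone]
  have hα : α rr ≠ 0 := by
    intro h0
    apply hr2
    have : rr * rr = 1 := by
      apply c.ext
      · rw [hαrr, c.one]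
      · rw [c.coc, h0, map_zero, zero_mul, add_zero, CharTwo.add_self_eq_zero, c.bone]
    exact congrArg Subtype.val this
  have S := sys X (congrArg Subtype.val hr4) hr2
  have c' := c.scale hα
  have hr1 : (fun x => (α rr)⁻¹ * α x) ⟨r, X.hr⟩ = 1 := inv_mul_cancel₀ hα
  obtain ⟨ψ', b', c'', hinj', hbr, hψψ⟩ := param' c' hψ hinj S hr1
  have hn2 : 2 ≤ n := by
    obtain ⟨d, hd0, hd1⟩ := f.exists_ne h
    by_contra hlt
    have h3 : Nat.card F ≤ 2 := by
      rw [hFc]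
      calc 2 ^ n ≤ 2 ^ 1 := Nat.pow_le_pow_right (by norm_num) (by omega)
        _ = 2 := by norm_num
    have h4 : 3 ≤ Nat.card F := by
      haveI : Fintype F := Fintype.ofFinite F
      rw [Nat.card_eq_fintype_card]
      have h5 : ({0, 1, d} : Finset F).card = 3 := by
        rw [Finset.card_eq_three]
        exact ⟨0, 1, d, zero_ne_one, hd0.symm, hd1.symm, rfl⟩
      rw [← h5]
      exact Finset.card_le_univ _
    omega
  obtain ⟨m, hm, hEm, hψm⟩ := tits ψ' hψψ hn2 hE2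
  have hne : ∃ x, ψ' x ≠ x ^ 2 := by
    rw [hψm]
    exact SuzukiFin.th_ne hm hEm
  obtain ⟨e⟩ := main_coord X c'' hψψ hne (fun x y hx hR => formula c'' hinj' S hr1 hbr hψψ hx hR rfl)
  refine SuzukiLie.isoSuzuki_iff.2 ⟨E, inferInstance, inferInstance, m, hm, hEm, ⟨?_⟩⟩
  rw [hψm] at e
  exact e.trans (MulEquiv.subgroupCongr (SuzukiFin.Sz_eq m).symm)

end Cfsg.Agent.Lib.SzIso
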