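import Cfsg.Agent.Lib.SUApp2
import Cfsg.Agent.Lib.SzIso
import Cfsg.Agent.S1131
import Cfsg.Prelude.Def_LieRecognition

set_option autoImplicit false
set_option linter.unusedSectionVars false
set_option linter.unusedVariables false

/-!
# Suzuki's theorem S1136: assembly (helper24)
-/

namespace Cfsg.Agent.Lib.SUS10

open MulAction Cfsg.Agent.Lib.RankOne Cfsg.Agent.Lib.RankOneC Cfsg.Agent.Lib.SuzS1 Cfsg.Agent.Lib.SuzS7
open scoped MatrixGroups

universe u v

variable {G : Type u} {Ω : Type v} [Group G] [Finite G] [MulAction G Ω] [FaithfulSMul G Ω] {a : Ω} {t : G}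
  {Q K : Subgroup G} {s r : G}

/-- the conclusion -/
def Concl (G : Type u) [Group G] : Prop :=
  ∃ L : Subgroup G, L.Normal ∧ Odd L.index ∧
      ((∃ (F : Type) (_ : Field F) (_ : Fintype F), (∃ n : ℕ, 2 ≤ n ∧ Fintype.card F = 2 ^ n) ∧
          Nonempty (L ≃* Matrix.ProjectiveSpecialLinearGroup (Fin 2) F)) ∨
        Cfsg.Lie.IsoSuzuki L ∨
        (∃ (F : Type) (_ : Field F) (_ : Fintype F) (n : ℕ), 2 ≤ n ∧ Fintype.card F = (2 ^ n) ^ 2 ∧
          Nonempty (L ≃* Cfsg.PSU 3 F (2 ^ n))))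

/-- the case `r ∈ E` -/
theorem case_r (X : Env a t Q K s r) (hrr : r * r = 1)
    (hP : (∀ x ∈ Q, ∀ y ∈ Q, x * y = y * x) → IsPGroup 2 Q → Nat.card Q ≤ Nat.card X.E ^ 2) : Concl G := by
  by_cases hab : ∀ x ∈ Q, ∀ y ∈ Q, x * y = y * x
  · have h1 := hP hab (SUApp.isPGroup X hrr)
    have hQE : Q = X.E := by
      apply le_antisymm
      · intro x hx
        by_contra hxE
        obtain ⟨A, -, h2, -, h3, -⟩ := SUApp.exists_A X hrr hx hxE
        have h4 := Subgroup.card_le_of_le h2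
        have h6 := card_E_gt X
        have h7 : Nat.card X.E ^ 2 < Nat.card X.E ^ 3 := Nat.pow_lt_pow_right (by omega) (by norm_num)
        omega
      · exact X.EQ
    obtain ⟨L, h2, h3, h4⟩ := concl_PSL X hrr hQE
    exact ⟨L, h2, h3, Or.inl h4⟩
  · push Not at hab
    obtain ⟨L, h2, h3, h4⟩ := SUApp.concl_PSU X hrr hab
    exact ⟨L, h2, h3, Or.inr (Or.inr h4)⟩

/-- the case `r ∉ E` -/
theorem case_nr (X : Env a t Q K s r) (hrr : r * r ≠ 1) (hcard : Nat.card Q = Nat.card X.E ^ 2) : Concl G := by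
  have C := cl_Q X hcard hrr
  have h1 : Nat.card {x : Q // x * x = 1} = Nat.card X.E := by
    refine Nat.card_congr ⟨fun x => ⟨x.1, Q_fix X.hS x.1.2, congrArg Subtype.val x.2⟩,
      fun x => ⟨⟨x.1, X.EQ x.2⟩, Subtype.ext x.2.2⟩, fun x => rfl, fun x => rfl⟩
  have h2 := SzIso.main X hrr (by rw [hcard, h1])
  have h3 : Subgroup.closure ((Q : Set G) ∪ K ∪ {t}) = L X C := by
    apply le_antisymm
    · rw [Subgroup.closure_le]
      rintro x ((hx | hx) | hx)
      · exact S_le X C hx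
      · exact K_le X C hx
      · rw [Set.mem_singleton_iff.1 hx]; exact t_mem X C
    · apply L_le_of X C
      · exact fun x hx => Subgroup.subset_closure (Or.inl (Or.inl hx))
      · exact fun x hx => Subgroup.subset_closure (Or.inl (Or.inr hx))
      · exact Subgroup.subset_closure (Or.inr rfl)
  refine ⟨L X C, L_normal X C, L_index_odd X C, Or.inr (Or.inl ?_)⟩
  rw [← h3]
  exact h2

/-- `Concl` from `P(G)` -/
theorem concl (hS : Cfsg.IsRankOneSetup G Ω a t Q)
    (h2 : ∃ x y : G, x ≠ 1 ∧ y ≠ 1 ∧ x ≠ y ∧ x * x = 1 ∧ y * y = 1 ∧ x * y = y * x)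
    (hP : (∀ s r : G, s ∈ Cfsg.involutionsIn (stabilizer G a : Set G) → r ∈ Q → t * s * t = r⁻¹ * t * r → r * r ≠ 1 →
        Nat.card Q = (Nat.card (Cfsg.involutionsIn (stabilizer G a : Set G)) + 1) ^ 2) ∧
      ((∀ x ∈ Q, ∀ y ∈ Q, x * y = y * x) → IsPGroup 2 Q →
        Nat.card Q ≤ (Nat.card (Cfsg.involutionsIn (stabilizer G a : Set G)) + 1) ^ 2)) : Concl G := by
  obtain ⟨K, s, r, -, X⟩ := exists_env hS h2 (Cfsg.Agent.S1131.result hS h2)
  have hE : Nat.card (Cfsg.involutionsIn (stabilizer G a : Set G)) + 1 = Nat.card X.E := by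
    have h3 : (X.E : Set G) = insert 1 (Cfsg.involutionsIn (stabilizer G a : Set G)) := by
      ext x
      constructor
      · intro hx
        by_cases h : x = 1
        · exact Or.inl h
        · exact Or.inr ⟨hx.1, h, hx.2⟩
      · rintro (hx | hx)
        · rw [hx]; exact X.E.one_mem
        · exact ⟨hx.1, hx.2.2⟩
    have h4 : Nat.card X.E = Set.ncard (X.E : Set G) := rfl
    rw [h4, h3, Set.ncard_insert_of_notMem (fun h => h.2.1 rfl) (Set.toFinite _)]
    rfl
  rw [hE] at hP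
  by_cases hrr : r * r = 1
  · exact case_r X hrr hP.2
  · exact case_nr X hrr (hP.1 s r X.hs X.hr X.hsr hrr)

end Cfsg.Agent.Lib.SUS10
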