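import Cfsg.Agent.Lib.SUS10
import Cfsg.Agent.Lib.H26SuzP
import Cfsg.Agent.Lib.H26SuzN

set_option autoImplicit false
set_option linter.unusedSectionVars false
set_option linter.unusedVariables false

/-!
# Suzuki's theorem S1136: final assembly (helper24)
-/

namespace Cfsg.Agent.Lib.SUSMain

open MulAction Cfsg.Agent.Lib.RankOne Cfsg.Agent.Lib.RankOneC Cfsg.Agent.Lib.SuzS1 Cfsg.Agent.Lib.H26SuzPP
open Cfsg.Agent.Lib.H26SuzP

universe u v

/-- `P(G)` for all groups, from the inputs -/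
theorem pp (hin : ∀ (G : Type u) (Ω : Type v) [Group G] [Finite G] [MulAction G Ω] [FaithfulSMul G Ω] (a : Ω) (t : G)
      (Q : Subgroup G) (hS : Cfsg.IsRankOneSetup G Ω a t Q),
      (∃ x y : G, x ≠ 1 ∧ y ≠ 1 ∧ x ≠ y ∧ x * x = 1 ∧ y * y = 1 ∧ x * y = y * x) → Inputs hS) : ∀ n : ℕ, IH.{u, v} n := by
  intro n
  induction n using Nat.strong_induction_on with
  | _ n ih =>
    intro G Ω _ _ _ _ a t Q hS h2 hn
    exact step hS h2 (ih _ hn) (hin G Ω a t Q hS h2)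

variable {G : Type u} {Ω : Type v} [Group G] [Finite G] [MulAction G Ω] [FaithfulSMul G Ω] {a : Ω} {t : G}
  {Q : Subgroup G}

theorem concl_of_PP (hS : Cfsg.IsRankOneSetup G Ω a t Q)
    (h2 : ∃ x y : G, x ≠ 1 ∧ y ≠ 1 ∧ x ≠ y ∧ x * x = 1 ∧ y * y = 1 ∧ x * y = y * x)
    (hP : PP t Q) : SUS10.Concl G := by
  obtain ⟨K, s, r, -, X⟩ := exists_env hS h2 (Cfsg.Agent.S1131.result hS h2)
  have h1 : qq Q = Nat.card X.E := by
    refine Nat.card_congr ⟨fun x => ⟨x.1, Q_fix X.hS x.1.2, congrArg Subtype.val x.2⟩,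
      fun x => ⟨⟨x.1, X.EQ x.2⟩, Subtype.ext x.2.2⟩, fun x => rfl, fun x => rfl⟩
  rw [PP, h1] at hP
  by_cases hrr : r * r = 1
  · exact SUS10.case_r X hrr hP.2
  · exact SUS10.case_nr X hrr (hP.1 s X.sQ r X.hr X.s_ne X.ss X.hsr hrr)

end Cfsg.Agent.Lib.SUSMain
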