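import Cfsg.Agent.Lib.SUAlg2

set_option autoImplicit false
set_option linter.unusedSectionVars false

/-!
# Suzuki's theorem, the unitary case: the groups (helper24)
-/

namespace Cfsg.Agent.Lib.SUSys

open Matrix Cfsg.Agent.Lib.SUAlg
open scoped MatrixGroups

section SL

variable {F : Type*} [Field F]

/-- upper unitriangular -/
def uu (x : F) : SL(2, F) := ⟨!![1, x; 0, 1], by simp [Matrix.det_fin_two]⟩
/-- lower unitriangular -/
def vv (x : F) : SL(2, F) := ⟨!![1, 0; x, 1], by simp [Matrix.det_fin_two]⟩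
/-- the Weyl element -/
def ww : SL(2, F) := ⟨!![0, 1; -1, 0], by simp [Matrix.det_fin_two]⟩
/-- diagonal -/
def dd (k : Fˣ) : SL(2, F) := ⟨!![(k : F), 0; 0, ((k⁻¹ : Fˣ) : F)], by simp [Matrix.det_fin_two]⟩

/-- the rows -/
def r1 (l : SL(2, F)) : F × F := (l.1 0 0, l.1 0 1)
def r2 (l : SL(2, F)) : F × F := (l.1 1 0, l.1 1 1)

theorem ext_rows {l l' : SL(2, F)} (h1 : r1 l = r1 l') (h2 : r2 l = r2 l') : l = l' := by
  apply Subtype.ext
  have h3 := congrArg Prod.fst h1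
  have h4 := congrArg Prod.snd h1
  have h5 := congrArg Prod.fst h2
  have h6 := congrArg Prod.snd h2
  ext i j
  fin_cases i <;> fin_cases j
  · exact h3
  · exact h4
  · exact h5
  · exact h6

theorem dt_rows (l : SL(2, F)) : dt (r1 l) (r2 l) = 1 := by
  have h := l.2
  rw [Matrix.det_fin_two] at h
  simp only [dt, r1, r2]
  exact h

theorem ent (l l' : SL(2, F)) (i j : Fin 2) : (l * l').1 i j = l.1 i 0 * l'.1 0 j + l.1 i 1 * l'.1 1 j := by
  rw [show (l * l').1 = l.1 * l'.1 from rfl, Matrix.mul_apply, Fin.sum_univ_two]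

theorem uu_v (x : F) : (uu x).1 = !![1, x; 0, 1] := rfl
theorem vv_v (x : F) : (vv x).1 = !![1, 0; x, 1] := rfl
theorem ww_v : (ww : SL(2, F)).1 = !![0, 1; -1, 0] := rfl
theorem dd_v (k : Fˣ) : (dd k).1 = !![(k : F), 0; 0, ((k⁻¹ : Fˣ) : F)] := rfl

theorem r1_uu (x : F) (l : SL(2, F)) : r1 (uu x * l) = r1 l + x • r2 l := by
  ext <;> simp [r1, r2, ent, uu_v]
theorem r2_uu (x : F) (l : SL(2, F)) : r2 (uu x * l) = r2 l := by
  ext <;> simp [r2, ent, uu_v]
theorem r1_vv (x : F) (l : SL(2, F)) : r1 (vv x * l) = r1 l := by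
  ext <;> simp [r1, ent, vv_v]
theorem r2_vv (x : F) (l : SL(2, F)) : r2 (vv x * l) = r2 l + x • r1 l := by
  ext <;> simp [r1, r2, ent, vv_v] <;> ring
theorem r1_dd (k : Fˣ) (l : SL(2, F)) : r1 (dd k * l) = (k : F) • r1 l := by
  ext <;> simp [r1, ent, dd_v]
theorem r2_dd (k : Fˣ) (l : SL(2, F)) : r2 (dd k * l) = (k : F)⁻¹ • r2 l := by
  ext <;> simp [r2, ent, dd_v]
theorem r1_ww (l : SL(2, F)) : r1 (ww * l) = r2 l := by
  ext <;> simp [r1, r2, ent, ww_v]
theorem r2_ww [CharP F 2] (l : SL(2, F)) : r2 (ww * l) = r1 l := by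
  ext <;> simp [r1, r2, ent, ww_v, CharTwo.neg_eq]

theorem r2_ne (l : SL(2, F)) : r2 l ≠ 0 := by
  intro h
  have := dt_rows l
  rw [h] at this
  simp [dt] at this

theorem exists_r2 {u : F × F} (hu : u ≠ 0) : ∃ l : SL(2, F), r2 l = u := by
  by_cases h1 : u.1 = 0
  · have h2 : u.2 ≠ 0 := fun h => hu (Prod.ext h1 h)
    refine ⟨⟨!![u.2⁻¹, 0; u.1, u.2], ?_⟩, rfl⟩
    rw [Matrix.det_fin_two]; simp [h2]
  · refine ⟨⟨!![0, -u.1⁻¹; u.1, u.2], ?_⟩, rfl⟩
    rw [Matrix.det_fin_two]; simp [h1]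

theorem eq_uu_of_r2 [Finite F] [CharP F 2] {l l' : SL(2, F)} (h : r2 l = r2 l') : ∃ x, l' = uu x * l := by
  refine ⟨dt (r1 l) (r1 l'), ?_⟩
  have e1 := dt_rows l
  have e2 := dt_rows l'
  rw [← h] at e2
  apply ext_rows
  · rw [r1_uu]
    have hc := coords (e := r1 l) (d := r2 l) (by rw [e1]; exact one_ne_zero) (r1 l')
    rw [e1, e2, div_one, div_one, one_smul] at hc
    exact hc
  · rw [r2_uu]; exact h.symm

theorem sl_ext {l l' : SL(2, F)} (h : ∀ i j, l.1 i j = l'.1 i j) : l = l' := by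
  apply Subtype.ext; ext i j; exact h i j

theorem uu_zero : uu (0 : F) = 1 := by
  apply sl_ext; intro i j; fin_cases i <;> fin_cases j <;> simp [uu_v]
theorem uu_add (x y : F) : uu x * uu y = uu (x + y) := by
  apply sl_ext; intro i j; fin_cases i <;> fin_cases j <;> simp [uu_v, ent, add_comm]
theorem ww_uu_ww [CharP F 2] (x : F) : ww * uu x * ww = vv x := by
  apply sl_ext; intro i j; fin_cases i <;> fin_cases j <;> simp [uu_v, vv_v, ww_v, ent, CharTwo.neg_eq]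
theorem ww_vv_ww [CharP F 2] (x : F) : ww * vv x * ww = uu x := by
  apply sl_ext; intro i j; fin_cases i <;> fin_cases j <;> simp [uu_v, vv_v, ww_v, ent, CharTwo.neg_eq]
theorem dd_uu (k : Fˣ) (x : F) : dd k * uu x * (dd k)⁻¹ = uu (k * k * x) := by
  have h : dd k * uu x = uu (k * k * x) * dd k := by
    apply sl_ext; intro i j; fin_cases i <;> fin_cases j <;> simp [uu_v, dd_v, ent]
    field_simp
  rw [h, mul_inv_cancel_right]
theorem dd_ww (k : Fˣ) : dd k * ww = ww * dd k⁻¹ := by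
  apply sl_ext; intro i j; fin_cases i <;> fin_cases j <;> simp [ww_v, dd_v, ent]
/-- `u(x) w = v(1/x)` times an upper triangular matrix -/
theorem uu_ww_eq [CharP F 2] {x : F} (hx : x ≠ 0) :
    uu x * ww = vv x⁻¹ * (uu x * dd (Units.mk0 x hx)) := by
  apply sl_ext; intro i j
  fin_cases i <;> fin_cases j <;> simp [uu_v, ww_v, vv_v, dd_v, ent, CharTwo.neg_eq, hx]
  exact (CharTwo.add_self_eq_zero _).symm
/-- `w u(x) w = u(1/x) w` times an upper triangular matrix -/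
theorem ww_uu_eq [CharP F 2] {x : F} (hx : x ≠ 0) :
    ww * uu x * ww = uu x⁻¹ * ww * (uu x * dd (Units.mk0 x hx))  := by
  apply sl_ext; intro i j
  fin_cases i <;> fin_cases j <;> simp [uu_v, ww_v, vv_v, dd_v, ent, CharTwo.neg_eq, hx]
  exact (CharTwo.add_self_eq_zero _).symm

end SL

end Cfsg.Agent.Lib.SUSys
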