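import Cfsg.Agent.Lib.SUSys

set_option autoImplicit false
set_option linter.unusedSectionVars false

/-!
# Suzuki's theorem, the unitary case: the group data and the operation (helper24)
-/

namespace Cfsg.Agent.Lib.SUSys

open Matrix Cfsg.Agent.Lib.SUAlg
open scoped MatrixGroups

/-- the circle of `a` and `t • a` -/
def Cst {F G Ω : Type*} [Field F] [Group G] [MulAction G Ω] (a : Ω) (t : G) (σ : SL(2, F) →* G) : Set Ω :=
  {ω | ω = a ∨ ∃ η, ω = σ (uu η) • t • a}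

/-- the data: the action of `SL(2,F)` in a rank one group with `SL(2,F)` regular outside a circle -/
structure Sys {F G Ω : Type*} [Field F] [Group G] [MulAction G Ω] (a : Ω) (t : G) (Q : Subgroup G)
    (σ : SL(2, F) →* G) (o : Ω) : Prop where
  tt : t * t = 1
  tab : t • a ≠ a
  Qa : ∀ x ∈ Q, x • a = a
  Qtr : ∀ ω, ω ≠ a → ∃ x ∈ Q, ω = x • t • a
  Qfr : ∀ x ∈ Q, x • t • a = t • a → x = 1
  st : σ ww = t
  su : ∀ η, σ (uu η) ∈ Q
  si : ∀ η, σ (uu η) = 1 → η = 0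
  cent : ∀ η, ∀ x ∈ Q, σ (uu η) * x = x * σ (uu η)
  sq : ∀ x ∈ Q, ∃ η, x * x = σ (uu η)
  sa : ∀ k : Fˣ, σ (dd k) • a = a
  sQ : ∀ k : Fˣ, ∀ x ∈ Q, σ (dd k) * x * (σ (dd k))⁻¹ ∈ Q
  oC : o ∉ Cst a t σ
  invC : ∀ l ω, ω ∉ Cst a t σ → σ l • ω ∉ Cst a t σ
  trC : ∀ ω, ω ∉ Cst a t σ → ∃ l, ω = σ l • o
  frC : ∀ l, σ l • o = o → l = 1
  semi : ∀ d : G, d • a = a → d • t • a = t • a → ∃ (θ : F ≃+* F) (m : F), m ≠ 0 ∧
    ∀ η, d * σ (uu η) * d⁻¹ = σ (uu (m * θ η))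

variable {F G Ω : Type*} [Field F] [Group G] [MulAction G Ω] {a : Ω} {t : G} {Q : Subgroup G}
  {σ : SL(2, F) →* G} {o : Ω}

/-- the central subgroup -/
def inE (σ : SL(2, F) →* G) (x : G) : Prop := ∃ η, x = σ (uu η)

namespace Sys

variable (S : Sys a t Q σ o)
include S

theorem sb (k : Fˣ) : σ (dd k) • t • a = t • a := by
  rw [← S.st, ← mul_smul, ← map_mul, dd_ww, map_mul, mul_smul, S.sa]

theorem Qreg {x y : G} (hx : x ∈ Q) (hy : y ∈ Q) (h : x • t • a = y • t • a) : x = y := by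
  have h1 : (y⁻¹ * x) • t • a = t • a := by
    rw [mul_smul y⁻¹ x, h, ← mul_smul y⁻¹ y, inv_mul_cancel, one_smul]
  have h2 := S.Qfr _ (Q.mul_mem (Q.inv_mem hy) hx) h1
  exact (inv_mul_eq_one.1 h2).symm

theorem uumul (x y : F) : σ (uu x) * σ (uu y) = σ (uu (x + y)) := by
  rw [← map_mul, uu_add]

theorem mem_Q {x : G} (h : inE σ x) : x ∈ Q := by
  obtain ⟨η, rfl⟩ := h
  exact S.su η

/-- `x b` is outside of the circle -/
theorem out {x : G} (hx : x ∈ Q) (hxE : ¬ inE σ x) : x • t • a ∉ Cst a t σ := by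
  rintro (h | ⟨η, h⟩)
  · apply S.tab
    have : x⁻¹ • x • t • a = x⁻¹ • a := by rw [h]
    rwa [inv_smul_smul, S.Qa _ (Q.inv_mem hx)] at this
  · exact hxE ⟨η, S.Qreg hx (S.su η) h⟩

theorem of_out {ω : Ω} (h : ω ∉ Cst a t σ) : ∃ x ∈ Q, ¬ inE σ x ∧ ω = x • t • a := by
  obtain ⟨x, hx, rfl⟩ := S.Qtr ω (fun h1 => h (Or.inl h1))
  refine ⟨x, hx, ?_, rfl⟩
  rintro ⟨η, rfl⟩
  exact h (Or.inr ⟨η, rfl⟩)

omit S in
open Classical in
/-- the matrix of `x` -/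
noncomputable def mat (a : Ω) (t : G) (σ : SL(2, F) →* G) (o : Ω) (x : G) : SL(2, F) :=
  if h : ∃ l, x • t • a = σ l • o then h.choose else 1

theorem mat_spec {x : G} (hx : x ∈ Q) (hxE : ¬ inE σ x) : x • t • a = σ (mat a t σ o x) • o := by
  have h : ∃ l, x • t • a = σ l • o := S.trC _ (S.out hx hxE)
  rw [mat, dif_pos h]
  exact h.choose_spec

theorem reg {l l' : SL(2, F)} (h : σ l • o = σ l' • o) : l = l' := by
  have h1 : σ (l'⁻¹ * l) • o = o := by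
    rw [map_mul, mul_smul, h, ← mul_smul, ← map_mul, inv_mul_cancel, map_one, one_smul]
  exact (inv_mul_eq_one.1 (S.frC _ h1)).symm

theorem mat_eq {x : G} (hx : x ∈ Q) (hxE : ¬ inE σ x) {l : SL(2, F)} (h : x • t • a = σ l • o) :
    mat a t σ o x = l := S.reg ((S.mat_spec hx hxE).symm.trans h)

/-- `σ l x b = y b` -/
theorem mat_mul {x y : G} (hx : x ∈ Q) (hxE : ¬ inE σ x) (hy : y ∈ Q) (hyE : ¬ inE σ y) {l : SL(2, F)}
    (h : y • t • a = σ l • x • t • a) : mat a t σ o y = l * mat a t σ o x := by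
  apply S.mat_eq hy hyE
  rw [h, S.mat_spec hx hxE, map_mul, mul_smul]

theorem exists_mul {x : G} (hx : x ∈ Q) (hxE : ¬ inE σ x) (l : SL(2, F)) :
    ∃ y ∈ Q, ¬ inE σ y ∧ y • t • a = σ l • x • t • a := by
  obtain ⟨y, hy, hyE, h⟩ := S.of_out (S.invC l _ (S.out hx hxE))
  exact ⟨y, hy, hyE, h.symm⟩

theorem inE_mul {x : G} (η : F) : inE σ (σ (uu η) * x) ↔ inE σ x := by
  constructor
  · rintro ⟨η', h⟩
    refine ⟨-η + η', ?_⟩
    rw [← S.uumul, ← h, ← mul_assoc, S.uumul, neg_add_cancel, uu_zero, map_one, one_mul]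
  · rintro ⟨η', rfl⟩
    exact ⟨η + η', S.uumul _ _⟩

theorem mat_E {x : G} (hx : x ∈ Q) (hxE : ¬ inE σ x) (η : F) :
    mat a t σ o (σ (uu η) * x) = uu η * mat a t σ o x := by
  apply S.mat_mul hx hxE (Q.mul_mem (S.su η) hx)
  · rwa [S.inE_mul]
  · rw [mul_smul]

theorem conj_E {x : G} (k : Fˣ) : inE σ (σ (dd k) * x * (σ (dd k))⁻¹) ↔ inE σ x := by
  constructor
  · rintro ⟨η, h⟩
    refine ⟨((k⁻¹ : Fˣ) : F) * ((k⁻¹ : Fˣ) : F) * η, ?_⟩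
    have e1 : (dd k⁻¹ : SL(2, F)) = (dd k)⁻¹ := by
      rw [eq_inv_iff_mul_eq_one]
      apply sl_ext; intro i j; fin_cases i <;> fin_cases j <;> simp [dd_v, ent]
    rw [← dd_uu, e1, inv_inv, map_mul, map_mul, map_inv, ← h]
    group
  · rintro ⟨η, rfl⟩
    refine ⟨(k : F) * (k : F) * η, ?_⟩
    rw [← dd_uu, map_mul, map_mul, map_inv]

theorem mat_K {x : G} (hx : x ∈ Q) (hxE : ¬ inE σ x) (k : Fˣ) :
    mat a t σ o (σ (dd k) * x * (σ (dd k))⁻¹) = dd k * mat a t σ o x := by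
  apply S.mat_mul hx hxE (S.sQ k x hx)
  · rwa [S.conj_E]
  · rw [mul_smul, mul_smul]
    congr 2
    rw [inv_smul_eq_iff, S.sb]

theorem inv_E {x : G} (h : inE σ x) : inE σ x⁻¹ := by
  obtain ⟨η, rfl⟩ := h
  refine ⟨-η, ?_⟩
  rw [inv_eq_iff_mul_eq_one, S.uumul, add_neg_cancel, uu_zero, map_one]

theorem inv_E' {x : G} (h : ¬ inE σ x) : ¬ inE σ x⁻¹ := fun h' => h (by simpa using S.inv_E h')

/-- `x⁻¹ = e x` -/
theorem inv_eq {x : G} (hx : x ∈ Q) : ∃ η, x⁻¹ = σ (uu η) * x := by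
  obtain ⟨η, h⟩ := S.sq x hx
  refine ⟨-η, ?_⟩
  have e1 : σ (uu (-η)) * (x * x) = 1 := by rw [h, S.uumul, neg_add_cancel, uu_zero, map_one]
  rw [inv_eq_iff_mul_eq_one, ← mul_assoc, ← S.cent _ x hx, mul_assoc]
  exact e1

/-- commutators -/
theorem comm_eq {x y : G} (hx : x ∈ Q) (hy : y ∈ Q) : ∃ η, y * x = σ (uu η) * (x * y) := by
  obtain ⟨α, hα⟩ := S.inv_eq hx
  obtain ⟨β, hβ⟩ := S.inv_eq hy
  obtain ⟨γ, hγ⟩ := S.sq (x * y) (Q.mul_mem hx hy)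
  refine ⟨γ + (α + β), ?_⟩
  have e1 : y * x = x⁻¹ * (x * y * (x * y)) * y⁻¹ := by group
  rw [e1, hγ, ← S.cent _ _ (Q.inv_mem hx), mul_assoc, hα, hβ, ← S.uumul γ, ← S.uumul α, mul_assoc (σ (uu γ)),
    mul_assoc (σ (uu α)) x, ← mul_assoc x, ← S.cent β x hx, mul_assoc (σ (uu β)), mul_assoc (σ (uu α))]

end Sys

end Cfsg.Agent.Lib.SUSys
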