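import Cfsg.Agent.Lib.SUSys2

set_option autoImplicit false
set_option linter.unusedSectionVars false

/-!
# Suzuki's theorem, the unitary case: the operation on the rows (helper24)
-/

namespace Cfsg.Agent.Lib.SUSys

open Matrix Cfsg.Agent.Lib.SUAlg
open scoped MatrixGroups

variable {F G Ω : Type*} [Field F] [Finite F] [CharP F 2] [Group G] [MulAction G Ω] {a : Ω} {t : G} {Q : Subgroup G}
  {σ : SL(2, F) →* G} {o : Ω}

namespace Sys

variable (S : Sys a t Q σ o)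
include S

theorem t_inv : t⁻¹ = t := inv_eq_of_mul_eq_one_left S.tt

theorem t_uu (η : F) : t * σ (uu η) * t = σ (vv η) := by
  rw [← S.st, ← map_mul, ← map_mul, ww_uu_ww]

theorem tta (ω : Ω) : t • t • ω = ω := by rw [← mul_smul, S.tt, one_smul]

/-- the rule -/
theorem rule {x : G} (hx : x ∈ Q) (hxE : ¬ inE σ x) : ∃ (θ : F ≃+* F) (m : F), m ≠ 0 ∧ ∀ ε : F, ε ≠ 0 →
    x⁻¹ • σ (vv ε) • x • t • a = σ (vv (m * θ ε⁻¹)) • x⁻¹ • t • a := by
  have h1 : t • x • t • a ≠ a := by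
    intro h
    apply hxE
    have h2 : x • t • a = t • a := by
      rw [← S.tta (x • t • a), h]
    rw [S.Qfr x hx h2]
    exact ⟨0, by rw [uu_zero, map_one]⟩
  obtain ⟨f, hf, hfx⟩ := S.Qtr _ h1
  obtain ⟨n, hn⟩ : ∃ n, n = f⁻¹ * t * x := ⟨_, rfl⟩
  have hnb : n • t • a = t • a := by
    rw [hn, mul_smul, mul_smul, hfx, inv_smul_smul]
  have hnb' : n⁻¹ • t • a = t • a := by rw [inv_smul_eq_iff, hnb]
  obtain ⟨g, hg⟩ : ∃ g, g = t * n⁻¹ * t := ⟨_, rfl⟩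
  have hga : g • a = a := by
    rw [hg, mul_smul, mul_smul, hnb', S.tta]
  have h2 : g • t • a ≠ a := by
    intro h
    apply S.tab
    have : g • t • a = g • a := by rw [h, hga]
    exact MulAction.injective g this
  obtain ⟨y, hy, hgy⟩ := S.Qtr _ h2
  obtain ⟨θ, m, hm, hθ⟩ := S.semi (y⁻¹ * g) (by rw [mul_smul, hga, S.Qa _ (Q.inv_mem hy)])
    (by rw [mul_smul, hgy, inv_smul_smul])
  have hgθ : ∀ η, g * σ (uu η) * g⁻¹ = σ (uu (m * θ η)) := by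
    intro η
    have h3 := hθ η
    have h4 : g * σ (uu η) * g⁻¹ = y * (y⁻¹ * g * σ (uu η) * (y⁻¹ * g)⁻¹) * y⁻¹ := by group
    rw [h4, h3, ← S.cent _ y hy, mul_inv_cancel_right]
  have hnθ : ∀ η, n⁻¹ * σ (vv η) * n = σ (vv (m * θ η)) := by
    intro η
    rw [← S.t_uu, ← S.t_uu (m * θ η), ← hgθ, hg]
    simp only [_root_.mul_inv_rev, inv_inv, S.t_inv]
    have : t * (t * n⁻¹ * t * σ (uu η) * (t * (n * t))) * t = (t * t) * (n⁻¹ * (t * σ (uu η) * t) * n) * (t * t) := by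
      group
    rw [this, S.tt, one_mul, mul_one]
  refine ⟨θ, m, hm, fun ε hε => ?_⟩
  have hxi : x⁻¹ = n⁻¹ * f⁻¹ * t := by
    rw [hn]
    simp only [_root_.mul_inv_rev, inv_inv, S.t_inv]
    have : x⁻¹ * (t * f) * f⁻¹ * t = x⁻¹ * (t * t) := by group
    rw [this, S.tt, mul_one]
  have e1 : x⁻¹ • t • a = n⁻¹ • a := by
    rw [hxi, mul_smul, mul_smul, S.tta, S.Qa _ (Q.inv_mem hf)]
  have e2 : σ (uu ε) • t • a = σ (vv ε⁻¹) • a := by
    rw [← S.st, ← mul_smul, ← map_mul, uu_ww_eq hε, map_mul, map_mul, mul_smul, mul_smul, S.sa, S.Qa _ (S.su ε)]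
  rw [e1]
  have e3 : x⁻¹ • σ (vv ε) • x • t • a = n⁻¹ • σ (uu ε) • t • a := by
    have : σ (vv ε) • x • t • a = t • σ (uu ε) • t • x • t • a := by
      rw [← S.t_uu, mul_smul, mul_smul]
    rw [this, hfx, hxi, mul_smul, mul_smul, S.tta, ← mul_smul f⁻¹, ← mul_smul (f⁻¹ * σ (uu ε))]
    congr 1
    congr 1
    rw [mul_assoc, S.cent _ f hf, inv_mul_cancel_left]
  rw [e3, e2, ← hnθ, mul_smul, mul_smul, smul_inv_smul]

omit S in
/-- the invariant of the cosets of `E` -/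
noncomputable def psi (a : Ω) (t : G) (σ : SL(2, F) →* G) (o : Ω) (x : G) : F × F := r2 (mat a t σ o x)

theorem psi_E {x : G} (hx : x ∈ Q) (hxE : ¬ inE σ x) (η : F) :
    psi a t σ o (σ (uu η) * x) = psi a t σ o x := by
  rw [psi, S.mat_E hx hxE, r2_uu, psi]

theorem psi_eq {x y : G} (hx : x ∈ Q) (hxE : ¬ inE σ x) (hy : y ∈ Q) (hyE : ¬ inE σ y)
    (h : psi a t σ o x = psi a t σ o y) : ∃ η, y = σ (uu η) * x := by
  obtain ⟨η, hη⟩ := eq_uu_of_r2 h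
  refine ⟨η, ?_⟩
  apply S.Qreg hy (Q.mul_mem (S.su η) hx)
  rw [S.mat_spec hy hyE, hη, map_mul, mul_smul, ← S.mat_spec hx hxE, mul_smul]

theorem exists_psi {u : F × F} (hu : u ≠ 0) : ∃ x ∈ Q, ¬ inE σ x ∧ psi a t σ o x = u := by
  obtain ⟨l, hl⟩ := exists_r2 hu
  obtain ⟨x, hx, hxE, h⟩ := S.of_out (S.invC l _ S.oC)
  refine ⟨x, hx, hxE, ?_⟩
  rw [psi, S.mat_eq hx hxE h.symm, hl]

theorem mul_out {x y : G} (hx : x ∈ Q) (hxE : ¬ inE σ x) (hy : y ∈ Q) (hyE : ¬ inE σ y)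
    (h : psi a t σ o x ≠ psi a t σ o y) : ¬ inE σ (x * y) := by
  rintro ⟨η, hη⟩
  apply h
  have h1 : y = σ (uu η) * x⁻¹ := by
    rw [S.cent _ _ (Q.inv_mem hx), ← hη, inv_mul_cancel_left]
  obtain ⟨η', hη'⟩ := S.inv_eq hx
  rw [h1, hη', ← mul_assoc, S.uumul, S.psi_E hx hxE]

omit S in
open Classical in
/-- a section -/
noncomputable def sec (a : Ω) (t : G) (Q : Subgroup G) (σ : SL(2, F) →* G) (o : Ω) (u : F × F) : G :=
  if h : ∃ x ∈ Q, ¬ inE σ x ∧ psi a t σ o x = u then h.choose else 1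

theorem sec_spec {u : F × F} (hu : u ≠ 0) : sec a t Q σ o u ∈ Q ∧ ¬ inE σ (sec a t Q σ o u) ∧
    psi a t σ o (sec a t Q σ o u) = u := by
  have h := S.exists_psi hu
  rw [sec, dif_pos h]
  exact h.choose_spec

omit S in
/-- the operation -/
noncomputable def opT (a : Ω) (t : G) (Q : Subgroup G) (σ : SL(2, F) →* G) (o : Ω) (u v : F × F) : F × F :=
  psi a t σ o (sec a t Q σ o u * sec a t Q σ o v)

theorem psi_ne {x : G} : psi a t σ o x ≠ 0 := r2_ne _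

theorem T_eq {x y : G} (hx : x ∈ Q) (hxE : ¬ inE σ x) (hy : y ∈ Q) (hyE : ¬ inE σ y)
    (h : psi a t σ o x ≠ psi a t σ o y) :
    opT a t Q σ o (psi a t σ o x) (psi a t σ o y) = psi a t σ o (x * y) := by
  obtain ⟨h1, h2, h3⟩ := S.sec_spec (S.psi_ne (x := x))
  obtain ⟨h4, h5, h6⟩ := S.sec_spec (S.psi_ne (x := y))
  obtain ⟨η, hη⟩ := S.psi_eq hx hxE h1 h2 h3.symm
  obtain ⟨η', hη'⟩ := S.psi_eq hy hyE h4 h5 h6.symm
  rw [opT, hη, hη']
  have e1 : σ (uu η) * x * (σ (uu η') * y) = σ (uu (η + η')) * (x * y) := by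
    rw [← S.uumul, mul_assoc, ← mul_assoc x, ← S.cent _ x hx]
    group
  rw [e1, S.psi_E (Q.mul_mem hx hy) (S.mul_out hx hxE hy hyE h)]

theorem psi_K {x : G} (hx : x ∈ Q) (hxE : ¬ inE σ x) (k : Fˣ) :
    psi a t σ o (σ (dd k) * x * (σ (dd k))⁻¹) = (k : F)⁻¹ • psi a t σ o x := by
  rw [psi, S.mat_K hx hxE, r2_dd, psi]

theorem one_inE : inE σ (1 : G) := ⟨0, by rw [uu_zero, map_one]⟩

theorem isOp : Op (opT a t Q σ o) := by
  have hsymm : ∀ u v : F × F, u ≠ 0 → v ≠ 0 → u ≠ v → opT a t Q σ o u v = opT a t Q σ o v u := by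
    intro u v hu hv huv
    obtain ⟨x, hx, hxE, rfl⟩ := S.exists_psi hu
    obtain ⟨y, hy, hyE, rfl⟩ := S.exists_psi hv
    rw [S.T_eq hx hxE hy hyE huv, S.T_eq hy hyE hx hxE huv.symm]
    obtain ⟨η, hη⟩ := S.comm_eq hx hy
    rw [hη, S.psi_E (Q.mul_mem hx hy) (S.mul_out hx hxE hy hyE huv)]
  have hne1 : ∀ u v : F × F, u ≠ 0 → v ≠ 0 → u ≠ v → opT a t Q σ o u v ≠ u := by
    intro u v hu hv huv
    obtain ⟨x, hx, hxE, rfl⟩ := S.exists_psi hu
    obtain ⟨y, hy, hyE, rfl⟩ := S.exists_psi hv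
    rw [S.T_eq hx hxE hy hyE huv]
    intro h
    obtain ⟨η, hη⟩ := S.psi_eq hx hxE (Q.mul_mem hx hy) (S.mul_out hx hxE hy hyE huv) h.symm
    apply hyE
    rw [S.cent _ x hx] at hη
    exact ⟨η, mul_left_cancel hη⟩
  refine ⟨fun u v _ _ _ => S.psi_ne, hsymm, ?_, hne1, ?_, ?_, ?_⟩
  · intro u v hu hv huv
    obtain ⟨x, hx, hxE, rfl⟩ := S.exists_psi hu
    obtain ⟨y, hy, hyE, rfl⟩ := S.exists_psi hv
    have h1 := hne1 _ _ hu hv huv
    rw [S.T_eq hx hxE hy hyE huv] at h1 ⊢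
    rw [S.T_eq hx hxE (Q.mul_mem hx hy) (S.mul_out hx hxE hy hyE huv) h1.symm]
    obtain ⟨η, hη⟩ := S.sq x hx
    rw [← mul_assoc, hη, S.psi_E hy hyE]
  · intro u v hu hv huv
    rw [hsymm u v hu hv huv]
    exact hne1 v u hv hu huv.symm
  · intro k u v hk hu hv huv
    obtain ⟨x, hx, hxE, rfl⟩ := S.exists_psi hu
    obtain ⟨y, hy, hyE, rfl⟩ := S.exists_psi hv
    obtain ⟨k', hk'⟩ : ∃ k' : Fˣ, (k' : F) = k⁻¹ := ⟨Units.mk0 k⁻¹ (inv_ne_zero hk), rfl⟩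
    have e1 : ∀ z ∈ Q, ¬ inE σ z → k • psi a t σ o z = psi a t σ o (σ (dd k') * z * (σ (dd k'))⁻¹) := by
      intro z hz hzE
      rw [S.psi_K hz hzE, hk', inv_inv]
    have e2 : k • psi a t σ o x ≠ k • psi a t σ o y := fun h => huv (smul_right_injective _ hk h)
    rw [e1 x hx hxE, e1 y hy hyE] at e2 ⊢
    rw [S.T_eq (S.sQ _ _ hx) (by rwa [S.conj_E]) (S.sQ _ _ hy) (by rwa [S.conj_E]) e2, S.T_eq hx hxE hy hyE huv,
      e1 _ (Q.mul_mem hx hy) (S.mul_out hx hxE hy hyE huv)]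
    congr 1
    group
  · intro u d hud
    have hu : u ≠ 0 := ne_zero_of_dt hud
    obtain ⟨x0, hx0, hx0E, hxu⟩ := S.exists_psi hu
    -- a representative whose first row is parallel to `d`
    obtain ⟨x, hx, hxE, c, hc, hxu, hxd⟩ : ∃ x ∈ Q, ¬ inE σ x ∧ ∃ c : F, c ≠ 0 ∧ psi a t σ o x = u ∧
        d = c • r1 (mat a t σ o x) := by
      have e1 := dt_rows (mat a t σ o x0)
      have hco := coords (e := r1 (mat a t σ o x0)) (d := r2 (mat a t σ o x0)) (by rw [e1]; exact one_ne_zero) d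
      rw [e1, div_one, div_one] at hco
      obtain ⟨c, hcd⟩ : ∃ c, c = dt d (r2 (mat a t σ o x0)) := ⟨_, rfl⟩
      obtain ⟨c', hcd'⟩ : ∃ c', c' = dt (r1 (mat a t σ o x0)) d := ⟨_, rfl⟩
      rw [← hcd, ← hcd'] at hco
      have hc : c ≠ 0 := by
        rw [hcd]
        intro h
        apply hud
        rw [← hxu]
        have : dt (psi a t σ o x0) d = - dt d (r2 (mat a t σ o x0)) := by
          simp only [dt, psi]; ring
        rw [this, h, neg_zero]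
      refine ⟨σ (uu (c' / c)) * x0, Q.mul_mem (S.su _) hx0, by rwa [S.inE_mul], c, hc, ?_, ?_⟩
      · rw [S.psi_E hx0 hx0E, hxu]
      · rw [S.mat_E hx0 hx0E, r1_uu, smul_add, smul_smul, mul_div_cancel₀ _ hc]
        exact hco
    obtain ⟨θ, m, hm, hrule⟩ := S.rule hx hxE
    have hxi : x⁻¹ ∈ Q := Q.inv_mem hx
    have hxiE := S.inv_E' hxE
    have hpi : psi a t σ o x⁻¹ = u := by
      obtain ⟨η, hη⟩ := S.inv_eq hx
      rw [hη, S.psi_E hx hxE, hxu]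
    refine ⟨θ, (m * θ c⁻¹) • r1 (mat a t σ o x⁻¹), ?_, ?_⟩
    · have e1 := dt_rows (mat a t σ o x⁻¹)
      have e2 : dt u ((m * θ c⁻¹) • r1 (mat a t σ o x⁻¹)) = -((m * θ c⁻¹) * dt (r1 (mat a t σ o x⁻¹)) (r2 (mat a t σ o x⁻¹))) := by
        rw [← hpi]
        simp only [dt, psi, Prod.smul_fst, Prod.smul_snd, smul_eq_mul]; ring
      rw [e2, e1, mul_one, neg_ne_zero]
      apply mul_ne_zero hm
      rw [Ne, map_eq_zero_iff _ θ.injective]
      exact inv_ne_zero hc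
    · intro ε hε
      obtain ⟨y, hy, hyE, hxy⟩ := S.exists_mul hx hxE (vv (c * ε))
      have hcε : c * ε ≠ 0 := mul_ne_zero hc hε
      have e1 := S.mat_mul hx hxE hy hyE hxy
      have e2 : psi a t σ o y = u + ε • d := by
        rw [psi, e1, r2_vv, ← hxu, psi, hxd, smul_smul, mul_comm c]
      have hne : psi a t σ o x⁻¹ ≠ psi a t σ o y := by
        rw [hpi, e2]
        exact ne_add_of_dt hud hε
      have e3 : (x⁻¹ * y) • t • a = σ (vv (m * θ (c * ε)⁻¹)) • x⁻¹ • t • a := by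
        rw [mul_smul, hxy, hrule _ hcε]
      have e4 := S.mat_mul hxi hxiE (Q.mul_mem hxi hy) (S.mul_out hxi hxiE hy hyE hne) e3
      rw [← e2]
      conv_lhs => rw [← hpi]
      rw [S.T_eq hxi hxiE hy hyE hne, psi, e4, r2_vv, ← hpi, psi, smul_smul]
      congr 2
      rw [mul_inv, map_mul, map_inv₀ θ ε]
      ring

end Sys

end Cfsg.Agent.Lib.SUSys
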