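import Cfsg.Agent.Lib.SUSys3

set_option autoImplicit false
set_option linter.unusedSectionVars false

/-!
# Suzuki's theorem, the unitary case: the coordinates (helper24)
-/

namespace Cfsg.Agent.Lib.SUSys

open Matrix Cfsg.Agent.Lib.SUAlg Sys
open scoped MatrixGroups

/-- a quadratic extension `K` of `F`, identified with `F × F` -/
structure Ext {F K : Type*} [Field F] [Field K] [Algebra F K] (P : F × F → K) (st : K →+* K) (α : F) : Prop where
  add : ∀ u v, P (u + v) = P u + P v
  smul : ∀ (c : F) u, P (c • u) = algebraMap F K c * P u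
  ne : ∀ u, u ≠ 0 → P u ≠ 0
  surj : ∀ z, ∃ u, P u = z
  stst : ∀ z, st (st z) = z
  fix : ∀ z, st z = z → ∃ c : F, z = algebraMap F K c
  fx : ∀ c : F, st (algebraMap F K c) = algebraMap F K c
  pair : ∀ u v, P u * st (P v) + st (P u) * P v = algebraMap F K (α * dt u v)
  two : (2 : K) = 0
  hα : α ≠ 0

variable {F G Ω : Type*} [Field F] [Finite F] [CharP F 2] [Group G] [MulAction G Ω] {a : Ω} {t : G} {Q : Subgroup G}
  {σ : SL(2, F) →* G} {o : Ω} {K : Type*} [Field K] [Algebra F K]

open Classical in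
/-- first coordinate -/
noncomputable def lam (a : Ω) (t : G) (σ : SL(2, F) →* G) (o : Ω) (P : F × F → K) (c : K) (x : G) : K :=
  if inE σ x then 0 else c / P (r2 (mat a t σ o x))

open Classical in
/-- second coordinate -/
noncomputable def mu (a : Ω) (t : G) (σ : SL(2, F) →* G) (o : Ω) (P : F × F → K) (x : G) : K :=
  if h : inE σ x then algebraMap F K h.choose else P (r1 (mat a t σ o x)) / P (r2 (mat a t σ o x))

/-- the alternating form -/
def Bf (st : K →+* K) (A B : K) : K := A * st B + st A * B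

section

variable (S : Sys a t Q σ o) {P : F × F → K} {st : K →+* K} {α : F} (X : Ext P st α) {c : K}
  (hc : c * st c = algebraMap F K α)
  (hop : ∀ u v : F × F, dt u v ≠ 0 → P (opT a t Q σ o u v) * (P u + P v) = P u * P v)

include S in
theorem mu_E (η : F) : mu a t σ o P (σ (uu η)) = algebraMap F K η := by
  have h : inE σ (σ (uu η)) := ⟨η, rfl⟩
  rw [mu, dif_pos h]
  congr 1
  have h1 := h.choose_spec
  have h2 : σ (uu (-h.choose + η)) = 1 := by
    rw [← S.uumul]
    nth_rw 2 [h1]
    rw [S.uumul, neg_add_cancel, uu_zero, map_one]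
  have h3 := S.si _ h2
  exact neg_add_eq_zero.1 h3

theorem lam_E {x : G} (h : inE σ x) : lam a t σ o P c x = 0 := by rw [lam, if_pos h]

theorem lam_out {x : G} (h : ¬ inE σ x) : lam a t σ o P c x = c / P (r2 (mat a t σ o x)) := by rw [lam, if_neg h]

theorem mu_out {x : G} (h : ¬ inE σ x) : mu a t σ o P x = P (r1 (mat a t σ o x)) / P (r2 (mat a t σ o x)) := by
  rw [mu, dif_neg h]

include X hc in
theorem c_ne : c ≠ 0 := by
  rintro rfl
  rw [zero_mul] at hc
  have := (map_eq_zero_iff _ (algebraMap F K).injective).1 hc.symm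
  exact X.hα this

include X hc in
theorem lam_eq_zero {x : G} : lam a t σ o P c x = 0 ↔ inE σ x := by
  constructor
  · intro h
    by_contra hx
    rw [lam_out hx] at h
    exact div_ne_zero (c_ne X hc) (X.ne _ (r2_ne _)) h
  · exact lam_E

include S in
theorem lam_mul_E {x : G} (hx : x ∈ Q) (η : F) : lam a t σ o P c (σ (uu η) * x) = lam a t σ o P c x := by
  by_cases h : inE σ x
  · rw [lam_E h, lam_E ((S.inE_mul η).2 h)]
  · rw [lam_out h, lam_out (fun h' => h ((S.inE_mul η).1 h')), S.mat_E hx h, r2_uu]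

include S X in
theorem mu_mul_E {x : G} (hx : x ∈ Q) (η : F) :
    mu a t σ o P (σ (uu η) * x) = mu a t σ o P x + algebraMap F K η := by
  by_cases h : inE σ x
  · obtain ⟨η', rfl⟩ := h
    rw [S.uumul, mu_E S, mu_E S, map_add, add_comm]
  · rw [mu_out h, mu_out (fun h' => h ((S.inE_mul η).1 h')), S.mat_E hx h, r1_uu, r2_uu, X.add, X.smul]
    have := X.ne _ (r2_ne (mat a t σ o x))
    field_simp

include S X hc in
/-- `μ + μ̄ = λ λ̄` -/
theorem mu_add {x : G} (hx : x ∈ Q) : mu a t σ o P x + st (mu a t σ o P x) =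
    lam a t σ o P c x * st (lam a t σ o P c x) := by
  by_cases h : inE σ x
  · rw [lam_E h]
    obtain ⟨η, rfl⟩ := h
    rw [mu_E S, X.fx, zero_mul, ← two_mul, X.two, zero_mul]
  · rw [mu_out h, lam_out h, map_div₀, map_div₀]
    have h1 := X.pair (r1 (mat a t σ o x)) (r2 (mat a t σ o x))
    rw [dt_rows, mul_one, ← hc] at h1
    have h2 := X.ne _ (r2_ne (mat a t σ o x))
    have h3 : st (P (r2 (mat a t σ o x))) ≠ 0 := by
      rw [Ne, map_eq_zero_iff _ st.injective]; exact h2
    field_simp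
    linear_combination h1

include X in
theorem Bf_alt (A : K) : Bf st A A = 0 := by
  rw [Bf]; linear_combination (A * st A) * X.two

include S X hc in
theorem dt_ne {x y : G} (hx : ¬ inE σ x) (hy : ¬ inE σ y)
    (h : Bf st (lam a t σ o P c x) (lam a t σ o P c y) ≠ 0) :
    dt (psi a t σ o x) (psi a t σ o y) ≠ 0 := by
  intro h1
  apply h
  have h2 := X.pair (psi a t σ o x) (psi a t σ o y)
  rw [h1, mul_zero, map_zero] at h2
  rw [lam_out hx, lam_out hy, Bf, map_div₀, map_div₀]
  change c / P (psi a t σ o x) * (st c / st (P (psi a t σ o y))) + st c / st (P (psi a t σ o x)) * (c / P (psi a t σ o y)) = 0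
  have n1 : P (psi a t σ o x) ≠ 0 := X.ne _ S.psi_ne
  have n2 : P (psi a t σ o y) ≠ 0 := X.ne _ S.psi_ne
  have n3 : st (P (psi a t σ o x)) ≠ 0 := by rw [Ne, map_eq_zero_iff _ st.injective]; exact n1
  have n4 : st (P (psi a t σ o y)) ≠ 0 := by rw [Ne, map_eq_zero_iff _ st.injective]; exact n2
  field_simp
  linear_combination (c * st c) * h2

include S X hc in
theorem out_of_B {x y : G} (h : Bf st (lam a t σ o P c x) (lam a t σ o P c y) ≠ 0) :
    ¬ inE σ x ∧ ¬ inE σ y := by
  constructor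
  · intro h1
    apply h
    rw [lam_E h1, Bf, map_zero]; ring
  · intro h1
    apply h
    rw [lam_E h1, Bf, map_zero]; ring

include S X hc hop in
theorem lam_mul_gen {x y : G} (hx : x ∈ Q) (hy : y ∈ Q)
    (h : Bf st (lam a t σ o P c x) (lam a t σ o P c y) ≠ 0) :
    lam a t σ o P c (x * y) = lam a t σ o P c x + lam a t σ o P c y := by
  obtain ⟨hxE, hyE⟩ := out_of_B S X hc h
  have hd := dt_ne S X hc hxE hyE h
  have hne : psi a t σ o x ≠ psi a t σ o y := by
    intro h1
    apply hd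
    rw [h1, dt]; ring
  have h1 := hop _ _ hd
  rw [S.T_eq hx hxE hy hyE hne] at h1
  rw [lam_out hxE, lam_out hyE, lam_out (S.mul_out hx hxE hy hyE hne)]
  change c / P (psi a t σ o (x * y)) = c / P (psi a t σ o x) + c / P (psi a t σ o y)
  have n1 : P (psi a t σ o x) ≠ 0 := X.ne _ S.psi_ne
  have n2 : P (psi a t σ o y) ≠ 0 := X.ne _ S.psi_ne
  have n3 : P (psi a t σ o (x * y)) ≠ 0 := X.ne _ S.psi_ne
  field_simp
  linear_combination -c * h1

include X in
theorem Bf_trans {A B C : K} (hA : A ≠ 0) (hB : B ≠ 0) (hAB : Bf st A B = 0) (hAC : Bf st A C ≠ 0) :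
    Bf st B C ≠ 0 := by
  intro hBC
  apply hAC
  have n1 : st B ≠ 0 := by rw [Ne, map_eq_zero_iff _ st.injective]; exact hB
  have : (B * st B) * Bf st A C = 0 := by
    unfold Bf at *
    linear_combination (B * st C) * hAB - (st A * B) * hBC + (st A * B * st B * C) * X.two
  rcases mul_eq_zero.1 this with h | h
  · exact absurd h (mul_ne_zero hB n1)
  · exact h

include S X hc in
theorem exists_lam (l : K) : ∃ x ∈ Q, lam a t σ o P c x = l := by
  by_cases hl : l = 0
  · exact ⟨1, Q.one_mem, by rw [hl]; exact lam_E S.one_inE⟩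
  · obtain ⟨u, hu⟩ := X.surj (c / l)
    have hc0 := c_ne X hc
    have hu0 : u ≠ 0 := by
      rintro rfl
      have h0 : P (0 : F × F) = 0 := by
        have := X.smul (0 : F) (0 : F × F)
        rwa [zero_smul, map_zero, zero_mul] at this
      rw [h0] at hu
      exact div_ne_zero hc0 hl hu.symm
    obtain ⟨x, hx, hxE, h⟩ := S.exists_psi hu0
    refine ⟨x, hx, ?_⟩
    rw [lam_out hxE]
    change c / P (psi a t σ o x) = l
    rw [h, hu]
    field_simp

include S X hc in
theorem exists_B {A : K} (hA : A ≠ 0) : ∃ z ∈ Q, Bf st A (lam a t σ o P c z) ≠ 0 := by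
  obtain ⟨u, hu⟩ := X.surj A
  have hu0 : u ≠ 0 := by
    rintro rfl
    apply hA
    have := X.smul (0 : F) (0 : F × F)
    rwa [zero_smul, map_zero, zero_mul, hu] at this
  obtain ⟨v, hv⟩ : ∃ v : F × F, dt u v ≠ 0 := by
    by_cases h1 : u.1 = 0
    · have h2 : u.2 ≠ 0 := fun h => hu0 (Prod.ext h1 h)
      exact ⟨(1, 0), by simpa [dt] using h2⟩
    · exact ⟨(0, 1), by simpa [dt] using h1⟩
  obtain ⟨z, hz, hzl⟩ := exists_lam S X hc (P v)
  refine ⟨z, hz, ?_⟩
  rw [hzl, ← hu, Bf, X.pair, Ne, map_eq_zero_iff _ (algebraMap F K).injective]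
  exact mul_ne_zero X.hα hv

include S X hc hop in
/-- `λ` is additive -/
theorem lam_mul {x y : G} (hx : x ∈ Q) (hy : y ∈ Q) :
    lam a t σ o P c (x * y) = lam a t σ o P c x + lam a t σ o P c y := by
  have hleft : ∀ e z : G, inE σ e → z ∈ Q → lam a t σ o P c (e * z) = lam a t σ o P c z := by
    rintro e z ⟨η, rfl⟩ hz
    exact lam_mul_E S hz η
  have hright : ∀ e z : G, inE σ e → z ∈ Q → lam a t σ o P c (z * e) = lam a t σ o P c z := by
    rintro e z ⟨η, rfl⟩ hz
    rw [← S.cent _ _ hz]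
    exact lam_mul_E S hz η
  by_cases hxE : inE σ x
  · rw [hleft x y hxE hy, lam_E hxE, zero_add]
  by_cases hyE : inE σ y
  · rw [hright y x hyE hx, lam_E hyE, add_zero]
  have lx : lam a t σ o P c x ≠ 0 := fun h => hxE ((lam_eq_zero X hc).1 h)
  have ly : lam a t σ o P c y ≠ 0 := fun h => hyE ((lam_eq_zero X hc).1 h)
  by_cases hB : Bf st (lam a t σ o P c x) (lam a t σ o P c y) = 0
  swap
  · exact lam_mul_gen S X hc hop hx hy hB
  have hxy := Q.mul_mem hx hy
  by_cases hxyE : inE σ (x * y)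
  · rw [lam_E hxyE]
    obtain ⟨η, hη⟩ := S.inv_eq hx
    have e1 : y = σ (uu η) * x * (x * y) := by
      rw [← hη, inv_mul_cancel_left]
    have e2 : lam a t σ o P c y = lam a t σ o P c x := by
      conv_lhs => rw [e1]
      rw [hright _ _ hxyE (Q.mul_mem (S.su η) hx), lam_mul_E S hx]
    rw [e2, ← two_mul, X.two, zero_mul]
  have lxy : lam a t σ o P c (x * y) ≠ 0 := fun h => hxyE ((lam_eq_zero X hc).1 h)
  by_cases hB2 : Bf st (lam a t σ o P c x) (lam a t σ o P c (x * y)) = 0
  swap
  · have h1 := lam_mul_gen S X hc hop hx hxy hB2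
    rw [← mul_assoc, hleft (x * x) y (S.sq x hx) hy] at h1
    rw [h1]
    linear_combination -(lam a t σ o P c x) * X.two
  obtain ⟨z, hz, hBz⟩ := exists_B S X hc lx
  have hBy := Bf_trans X lx ly hB hBz
  have hBxy := Bf_trans X lx lxy hB2 hBz
  have h1 := lam_mul_gen S X hc hop hxy hz hBxy
  have h2 := lam_mul_gen S X hc hop hy hz hBy
  have h3 : Bf st (lam a t σ o P c x) (lam a t σ o P c (y * z)) ≠ 0 := by
    rw [h2]
    have : Bf st (lam a t σ o P c x) (lam a t σ o P c y + lam a t σ o P c z) =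
        Bf st (lam a t σ o P c x) (lam a t σ o P c y) + Bf st (lam a t σ o P c x) (lam a t σ o P c z) := by
      unfold Bf; rw [map_add]; ring
    rw [this, hB, zero_add]
    exact hBz
  have h4 := lam_mul_gen S X hc hop hx (Q.mul_mem hy hz) h3
  rw [← mul_assoc, h1, h2] at h4
  linear_combination h4

end

end Cfsg.Agent.Lib.SUSys
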