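import Cfsg.Agent.Lib.SUSys4

set_option autoImplicit false
set_option linter.unusedSectionVars false

/-!
# Suzuki's theorem, the unitary case: the second coordinate (helper24)
-/

namespace Cfsg.Agent.Lib.SUSys

open Matrix Cfsg.Agent.Lib.SUAlg Sys
open scoped MatrixGroups

variable {F G Ω : Type*} [Field F] [Finite F] [CharP F 2] [Group G] [MulAction G Ω] {a : Ω} {t : G} {Q : Subgroup G}
  {σ : SL(2, F) →* G} {o : Ω} {K : Type*} [Field K] [Algebra F K]

variable (S : Sys a t Q σ o) {P : F × F → K} {st : K →+* K} {α : F} (X : Ext P st α) {c : K}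
  (hc : c * st c = algebraMap F K α)
  (hop : ∀ u v : F × F, dt u v ≠ 0 → P (opT a t Q σ o u v) * (P u + P v) = P u * P v)

include S X in
theorem coords_vv {x y : G} (hx : x ∈ Q) (hxE : ¬ inE σ x) (hy : y ∈ Q) (hyE : ¬ inE σ y) {ε : F}
    (h : y • t • a = σ (vv ε) • x • t • a) :
    mu a t σ o P y * (1 + algebraMap F K ε * mu a t σ o P x) = mu a t σ o P x ∧
    lam a t σ o P c y * (1 + algebraMap F K ε * mu a t σ o P x) = lam a t σ o P c x ∧
    1 + algebraMap F K ε * mu a t σ o P x ≠ 0 := by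
  have h1 := S.mat_mul hx hxE hy hyE h
  have n1 := X.ne _ (r2_ne (mat a t σ o x))
  have n2 := X.ne _ (r2_ne (mat a t σ o y))
  rw [mu_out hyE, mu_out hxE, lam_out hyE, lam_out hxE]
  rw [h1, r2_vv, X.add, X.smul] at n2 ⊢
  rw [r1_vv]
  have hfac : P (r2 (mat a t σ o x)) + algebraMap F K ε * P (r1 (mat a t σ o x)) =
      P (r2 (mat a t σ o x)) * (1 + algebraMap F K ε * (P (r1 (mat a t σ o x)) / P (r2 (mat a t σ o x)))) := by
    field_simp
  have hW : 1 + algebraMap F K ε * (P (r1 (mat a t σ o x)) / P (r2 (mat a t σ o x))) ≠ 0 := by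
    intro h2
    apply n2
    rw [hfac, h2, mul_zero]
  refine ⟨?_, ?_, hW⟩
  · rw [hfac, div_mul_eq_mul_div, mul_div_mul_right _ _ hW]
  · rw [hfac, div_mul_eq_mul_div, mul_div_mul_right _ _ hW]

include S X hc hop in
/-- the law for the special pairs -/
theorem mu_rule {x y : G} (hx : x ∈ Q) (hxE : ¬ inE σ x) (hy : y ∈ Q) (hyE : ¬ inE σ y) {ε : F} (hε : ε ≠ 0)
    (h : y • t • a = σ (vv ε) • x • t • a) :
    mu a t σ o P (x⁻¹ * y) = mu a t σ o P x⁻¹ + mu a t σ o P y + st (lam a t σ o P c x⁻¹) * lam a t σ o P c y := by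
  obtain ⟨θ, m, hm, hrule⟩ := S.rule hx hxE
  have hxi : x⁻¹ ∈ Q := Q.inv_mem hx
  have hxiE := S.inv_E' hxE
  obtain ⟨ε', hε', hrule'⟩ : ∃ ε' : F, ε' ≠ 0 ∧ (x⁻¹ * y) • t • a = σ (vv ε') • x⁻¹ • t • a := by
    refine ⟨m * θ ε⁻¹, mul_ne_zero hm ?_, ?_⟩
    · rw [Ne, map_eq_zero_iff _ θ.injective]; exact inv_ne_zero hε
    · rw [mul_smul, h, hrule _ hε]
  obtain ⟨η', hη'⟩ := S.inv_eq hx
  have hout : ¬ inE σ (x⁻¹ * y) := by
    apply S.mul_out hxi hxiE hy hyE
    rw [hη', S.psi_E hx hxE, psi, psi, S.mat_mul hx hxE hy hyE h, r2_vv]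
    intro h1
    have h2 : ε • r1 (mat a t σ o x) = 0 := by
      rwa [left_eq_add] at h1
    rcases smul_eq_zero.1 h2 with h3 | h3
    · exact hε h3
    · have := dt_rows (mat a t σ o x)
      rw [h3] at this
      simp [dt] at this
  obtain ⟨f1, f2, f0⟩ := coords_vv (c := c) S X hx hxE hy hyE h
  obtain ⟨f3, f4, f0'⟩ := coords_vv (c := c) S X hxi hxiE (Q.mul_mem hxi hy) hout hrule'
  have f5 := lam_mul S X hc hop hxi hy
  have f6 := mu_add S X hc hx
  have f7 : mu a t σ o P x⁻¹ = mu a t σ o P x + algebraMap F K η' := by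
    rw [hη', mu_mul_E S X hx]
  have f8 : lam a t σ o P c x⁻¹ = lam a t σ o P c x := by
    rw [hη', lam_mul_E S hx]
  have hL : lam a t σ o P c x ≠ 0 := fun h' => hxE ((lam_eq_zero X hc).1 h')
  rw [f8] at f4 f5 ⊢
  have s1 := X.fx ε
  have s2 := X.fx ε'
  have s3 := X.fx η'
  have e0 : algebraMap F K ε ≠ 0 := by
    rw [Ne, map_eq_zero_iff _ (algebraMap F K).injective]; exact hε
  have e0' : algebraMap F K ε' ≠ 0 := by
    rw [Ne, map_eq_zero_iff _ (algebraMap F K).injective]; exact hε'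
  have h22 := X.two
  clear hrule hrule' hη' hout h hxi hxiE
  generalize mu a t σ o P x⁻¹ = A' at *
  generalize mu a t σ o P x = A at *
  generalize mu a t σ o P y = M at *
  generalize mu a t σ o P (x⁻¹ * y) = M' at *
  generalize lam a t σ o P c (x⁻¹ * y) = L' at *
  generalize lam a t σ o P c x = L at *
  generalize lam a t σ o P c y = L1 at *
  generalize algebraMap F K ε = e at *
  generalize algebraMap F K ε' = e' at *
  generalize algebraMap F K η' = H at *
  have k1 : e * e' * A * A' = 1 := by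
    apply mul_left_cancel₀ hL
    rw [f5] at f4
    linear_combination (1 + e * A) * f4 - (1 + e' * A') * f2 - (L + L * e' * A') * h22
  have k2 : e * e' * st A * st A' = 1 := by
    have := congrArg st k1
    rw [map_mul, map_mul, map_mul, map_one, s1, s2] at this
    exact this
  have hN : L * st L ≠ 0 := by
    apply mul_ne_zero hL
    rw [Ne, map_eq_zero_iff _ st.injective]; exact hL
  have k3 : A * A' = st A * st A' := by
    apply mul_left_cancel₀ (mul_ne_zero e0 e0')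
    linear_combination k1 - k2
  have k4 : H = L * st L := by
    rw [f7, map_add, s3] at k3
    have : (L * st L) * (L * st L + H) = 0 := by
      rw [← f6]
      linear_combination (-1 : K) * k3 + (A * A + A * H + A * st A) * h22
    rcases mul_eq_zero.1 this with h' | h'
    · exact absurd h' hN
    · linear_combination h' - (L * st L) * h22
  have k5 : A' = A + L * st L := by rw [f7, k4]
  have k6 : M' * ((1 + e' * A') * (1 + e * A)) = (A' + M + st L * L1) * ((1 + e' * A') * (1 + e * A)) := by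
    linear_combination (1 + e * A) * f3 - (1 + e' * A') * f1 - st L * (1 + e' * A') * f2 + (1 + e' * A') * k5 - A' * k1
      - (A' + A' * e' * A') * h22
  exact mul_right_cancel₀ (mul_ne_zero f0' f0) k6

include S X hc hop in
/-- the law for the generic pairs -/
theorem mu_mul_gen {x y : G} (hx : x ∈ Q) (hy : y ∈ Q)
    (hB : Bf st (lam a t σ o P c x) (lam a t σ o P c y) ≠ 0) :
    mu a t σ o P (x * y) = mu a t σ o P x + mu a t σ o P y + st (lam a t σ o P c x) * lam a t σ o P c y := by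
  obtain ⟨hxE, hyE⟩ := out_of_B S X hc hB
  have hd := dt_ne S X hc hxE hyE hB
  have hxi : x⁻¹ ∈ Q := Q.inv_mem hx
  have hxiE := S.inv_E' hxE
  have hpi : psi a t σ o x⁻¹ = psi a t σ o x := by
    obtain ⟨η, hη⟩ := S.inv_eq hx
    rw [hη, S.psi_E hx hxE]
  have e1 := dt_rows (mat a t σ o x⁻¹)
  have hco := coords (e := r1 (mat a t σ o x⁻¹)) (d := r2 (mat a t σ o x⁻¹)) (by rw [e1]; exact one_ne_zero)
    (psi a t σ o y)
  rw [e1, div_one, div_one] at hco
  obtain ⟨A, hA⟩ : ∃ A, A = dt (psi a t σ o y) (r2 (mat a t σ o x⁻¹)) := ⟨_, rfl⟩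
  obtain ⟨B, hBB⟩ : ∃ B, B = dt (r1 (mat a t σ o x⁻¹)) (psi a t σ o y) := ⟨_, rfl⟩
  rw [← hA, ← hBB] at hco
  have hA0 : A ≠ 0 := by
    intro h
    apply hd
    rw [← hpi]
    have : dt (psi a t σ o x⁻¹) (psi a t σ o y) = - dt (psi a t σ o y) (r2 (mat a t σ o x⁻¹)) := by
      simp only [dt, psi]; ring
    rw [this, ← hA, h, neg_zero]
  obtain ⟨η, hη⟩ : ∃ η, η = (B - 1) / A := ⟨_, rfl⟩
  obtain ⟨x', hx'⟩ : ∃ x', x' = σ (uu η) * x⁻¹ := ⟨_, rfl⟩
  have hx'Q : x' ∈ Q := by rw [hx']; exact Q.mul_mem (S.su η) hxi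
  have hx'E : ¬ inE σ x' := by rw [hx']; rwa [S.inE_mul]
  have hmat : mat a t σ o x' = uu η * mat a t σ o x⁻¹ := by rw [hx', S.mat_E hxi hxiE]
  obtain ⟨y0, hy0, hy0E, hy0x⟩ := S.exists_mul hx'Q hx'E (vv A)
  have hpsi : psi a t σ o y0 = psi a t σ o y := by
    rw [psi, S.mat_mul hx'Q hx'E hy0 hy0E hy0x, r2_vv, hmat, r1_uu, r2_uu, hco, hη, smul_add, smul_smul,
      mul_div_cancel₀ _ hA0, sub_smul, one_smul]
    abel
  obtain ⟨η2, hη2⟩ := S.psi_eq hy0 hy0E hy hyE hpsi
  have hrule := mu_rule S X hc hop hx'Q hx'E hy0 hy0E hA0 hy0x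
  have hx'i : x'⁻¹ ∈ Q := Q.inv_mem hx'Q
  have e2 : x = σ (uu η) * x'⁻¹ := by
    rw [hx', _root_.mul_inv_rev, inv_inv, ← mul_assoc, S.cent η x hx, mul_inv_cancel_right]
  have e3 : x * y = σ (uu (η + η2)) * (x'⁻¹ * y0) := by
    rw [e2, hη2, ← S.uumul, mul_assoc, ← mul_assoc x'⁻¹, ← S.cent η2 _ hx'i]
    group
  have f1 : mu a t σ o P x = mu a t σ o P x'⁻¹ + algebraMap F K η := by
    conv_lhs => rw [e2]
    rw [mu_mul_E S X hx'i]
  have f2 : mu a t σ o P y = mu a t σ o P y0 + algebraMap F K η2 := by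
    conv_lhs => rw [hη2]
    rw [mu_mul_E S X hy0]
  have f3 : lam a t σ o P c x = lam a t σ o P c x'⁻¹ := by
    conv_lhs => rw [e2]
    rw [lam_mul_E S hx'i]
  have f4 : lam a t σ o P c y = lam a t σ o P c y0 := by
    conv_lhs => rw [hη2]
    rw [lam_mul_E S hy0]
  rw [f1, f2, f3, f4, e3, mu_mul_E S X (Q.mul_mem hx'i hy0), hrule, map_add]
  ring

include S X hc hop in
/-- the law -/
theorem mu_mul {x y : G} (hx : x ∈ Q) (hy : y ∈ Q) :
    mu a t σ o P (x * y) = mu a t σ o P x + mu a t σ o P y + st (lam a t σ o P c x) * lam a t σ o P c y := by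
  have hleft : ∀ e z : G, inE σ e → z ∈ Q → mu a t σ o P (e * z) = mu a t σ o P e + mu a t σ o P z := by
    rintro e z ⟨η, rfl⟩ hz
    rw [mu_mul_E S X hz, mu_E S, add_comm]
  by_cases hxE : inE σ x
  · rw [hleft x y hxE hy, lam_E hxE, map_zero]; ring
  by_cases hyE : inE σ y
  · rw [lam_E hyE]
    have : x * y = y * x := by
      obtain ⟨η, rfl⟩ := hyE
      exact (S.cent η x hx).symm
    rw [this, hleft y x hyE hx]; ring
  have lx : lam a t σ o P c x ≠ 0 := fun h => hxE ((lam_eq_zero X hc).1 h)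
  have ly : lam a t σ o P c y ≠ 0 := fun h => hyE ((lam_eq_zero X hc).1 h)
  by_cases hB : Bf st (lam a t σ o P c x) (lam a t σ o P c y) = 0
  swap
  · exact mu_mul_gen S X hc hop hx hy hB
  have hxy := Q.mul_mem hx hy
  obtain ⟨z, hz, hBz⟩ := exists_B S X hc lx
  have hadd : ∀ A B C : K, Bf st A (B + C) = Bf st A B + Bf st A C := by
    intro A B C
    unfold Bf; rw [map_add]; ring
  have h1 : mu a t σ o P (x * y * z) = mu a t σ o P (x * y) + mu a t σ o P z +
      st (lam a t σ o P c (x * y)) * lam a t σ o P c z := by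
    by_cases hxyE : inE σ (x * y)
    · rw [hleft _ _ hxyE hz, lam_E hxyE, map_zero]; ring
    · have lxy : lam a t σ o P c (x * y) ≠ 0 := fun h => hxyE ((lam_eq_zero X hc).1 h)
      apply mu_mul_gen S X hc hop hxy hz
      apply Bf_trans X lx lxy _ hBz
      rw [lam_mul S X hc hop hx hy, hadd, hB, Bf_alt X, add_zero]
  have h2 := mu_mul_gen S X hc hop hy hz (Bf_trans X lx ly hB hBz)
  have h3 : Bf st (lam a t σ o P c x) (lam a t σ o P c (y * z)) ≠ 0 := by
    rw [lam_mul S X hc hop hy hz, hadd, hB, zero_add]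
    exact hBz
  have h4 := mu_mul_gen S X hc hop hx (Q.mul_mem hy hz) h3
  rw [← mul_assoc, h1, h2, lam_mul S X hc hop hy hz, lam_mul S X hc hop hx hy, map_add] at h4
  linear_combination h4

include S X hc in
/-- the action of `t` -/
theorem t_coords {x : G} (hx : x ∈ Q) (hx1 : x ≠ 1) : ∃ f ∈ Q, t • x • t • a = f • t • a ∧
    lam a t σ o P c f * mu a t σ o P x = lam a t σ o P c x ∧ mu a t σ o P f * mu a t σ o P x = 1 := by
  by_cases hxE : inE σ x
  · obtain ⟨η, rfl⟩ := hxE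
    have hη : η ≠ 0 := by
      rintro rfl
      apply hx1
      rw [uu_zero, map_one]
    refine ⟨σ (uu η⁻¹), S.su _, ?_, ?_, ?_⟩
    · have : t • σ (uu η) • t • a = σ (ww * uu η * ww) • a := by
        rw [map_mul, map_mul, S.st, mul_smul, mul_smul]
      rw [this, ww_uu_eq hη, map_mul, map_mul, map_mul, mul_smul, mul_smul, mul_smul, S.sa, S.Qa _ (S.su η), S.st]
    · rw [lam_E ⟨_, rfl⟩, lam_E ⟨_, rfl⟩, zero_mul]
    · rw [mu_E S, mu_E S, ← map_mul, inv_mul_cancel₀ hη, map_one]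
  · obtain ⟨f, hf, hfE, h⟩ := S.exists_mul hx hxE ww
    refine ⟨f, hf, by rw [h, S.st], ?_, ?_⟩
    · have h1 := S.mat_mul hx hxE hf hfE h
      have n1 := X.ne _ (r2_ne (mat a t σ o x))
      have n2 := X.ne _ (r2_ne (mat a t σ o f))
      rw [lam_out hfE, mu_out hxE, lam_out hxE]
      rw [h1, r2_ww] at n2 ⊢
      field_simp
    · have h1 := S.mat_mul hx hxE hf hfE h
      have n1 := X.ne _ (r2_ne (mat a t σ o x))
      have n2 := X.ne _ (r2_ne (mat a t σ o f))
      rw [mu_out hfE, mu_out hxE]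
      rw [h1, r2_ww] at n2 ⊢
      rw [r1_ww]
      field_simp

include S X hc in
theorem coords_inj {x : G} (hl : lam a t σ o P c x = 0) (hm : mu a t σ o P x = 0) : x = 1 := by
  obtain ⟨η, rfl⟩ := (lam_eq_zero X hc).1 hl
  rw [mu_E S, map_eq_zero_iff _ (algebraMap F K).injective] at hm
  rw [hm, uu_zero, map_one]

include S X hc in
theorem coords_surj {l m : K} (h : m + st m = l * st l) : ∃ x ∈ Q, lam a t σ o P c x = l ∧ mu a t σ o P x = m := by
  obtain ⟨x, hx, hxl⟩ := exists_lam S X hc l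
  have h1 := mu_add S X hc hx
  rw [hxl] at h1
  obtain ⟨η, hη⟩ := X.fix (m + mu a t σ o P x) (by
    rw [map_add]
    linear_combination h + h1 - (m + mu a t σ o P x) * X.two + (l * st l) * X.two)
  refine ⟨σ (uu η) * x, Q.mul_mem (S.su η) hx, ?_, ?_⟩
  · rw [lam_mul_E S hx, hxl]
  · rw [mu_mul_E S X hx, ← hη]
    linear_combination (mu a t σ o P x) * X.two

end Cfsg.Agent.Lib.SUSys
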