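import Cfsg.Agent.Lib.SUSys5

set_option autoImplicit false
set_option linter.unusedSectionVars false

/-!
# Suzuki's theorem, the unitary case: the coordinates over the field of order `q²` (helper24)
-/

namespace Cfsg.Agent.Lib.SUSys

open Matrix Cfsg.Agent.Lib.SUAlg Sys
open scoped MatrixGroups

section quad

variable {F : Type*} [Field F] [Finite F] [CharP F 2] {α β : F} [hf : Fact (∀ r : F, r ^ 2 ≠ β + α * r)]

theorem quad_ext (hα : α ≠ 0) : Ext (phi α β) (starRingEnd (QuadraticAlgebra F β α)) α := by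
  have h2 : (2 : F) = 0 := CharTwo.two_eq_zero
  refine ⟨fun u v => rfl, ?_, ?_, ?_, ?_, ?_, ?_, ?_, ?_, hα⟩
  · intro c u
    ext
    · simp [phi]
    · simp [phi]
  · intro u hu h
    apply hu
    exact Prod.ext (congrArg QuadraticAlgebra.re h) (congrArg QuadraticAlgebra.im h)
  · intro z
    exact ⟨(z.re, z.im), rfl⟩
  · intro z
    exact star_star z
  · intro z hz
    refine ⟨z.re, ?_⟩
    have h1 := congrArg QuadraticAlgebra.re hz
    have h3 : z.re + α * z.im = z.re := h1
    have h4 : α * z.im = 0 := by linear_combination h3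
    ext
    · rfl
    · exact (mul_eq_zero.1 h4).resolve_left hα
  · intro c
    ext
    · show c + α * 0 = c
      ring
    · show -(0 : F) = 0
      ring
  · intro u v
    simp only [starRingEnd_apply]
    ext
    · simp only [phi, QuadraticAlgebra.re_add, QuadraticAlgebra.re_mul, QuadraticAlgebra.re_star, QuadraticAlgebra.im_star,
        QuadraticAlgebra.algebraMap_re, dt]
      linear_combination (u.1 * v.1 + α * u.2 * v.1 - β * u.2 * v.2) * h2
    · simp only [phi, QuadraticAlgebra.im_add, QuadraticAlgebra.im_mul, QuadraticAlgebra.re_star, QuadraticAlgebra.im_star,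
        QuadraticAlgebra.algebraMap_im, dt]
      ring
  · ext
    · show (2 : F) = 0
      exact h2
    · show (0 : F) = 0
      rfl

/-- an element fixed by the `q`-power is in `F` -/
theorem mem_of_pow {L : Type*} [Field L] [Algebra F L] [Fintype F] {z : L} (hz : z ^ Fintype.card F = z) :
    ∃ c : F, z = algebraMap F L c := by
  classical
  by_contra hcon
  push Not at hcon
  have hq := Fintype.one_lt_card (α := F)
  have hp : (Polynomial.X ^ Fintype.card F - Polynomial.X : Polynomial L) ≠ 0 :=
    FiniteField.X_pow_card_sub_X_ne_zero L hq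
  have hsub : insert z (Finset.univ.image (algebraMap F L)) ⊆
      (Polynomial.X ^ Fintype.card F - Polynomial.X : Polynomial L).roots.toFinset := by
    intro w hw
    rw [Multiset.mem_toFinset, Polynomial.mem_roots hp, Polynomial.IsRoot.def, Polynomial.eval_sub,
      Polynomial.eval_pow, Polynomial.eval_X, sub_eq_zero]
    rw [Finset.mem_insert, Finset.mem_image] at hw
    rcases hw with rfl | ⟨c, -, rfl⟩
    · exact hz
    · rw [← map_pow, FiniteField.pow_card]
  have h1 := (Finset.card_le_card hsub).trans ((Multiset.toFinset_card_le _).trans (Polynomial.card_roots' _))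
  rw [FiniteField.X_pow_card_sub_X_natDegree_eq L hq, Finset.card_insert_of_notMem,
    Finset.card_image_of_injective _ (algebraMap F L).injective, Finset.card_univ] at h1
  · omega
  · rw [Finset.mem_image]
    rintro ⟨c, -, hc⟩
    exact hcon c hc.symm

theorem star_eq_pow [Fintype F] (hα : α ≠ 0) (z : QuadraticAlgebra F β α) :
    starRingEnd (QuadraticAlgebra F β α) z = z ^ Fintype.card F := by
  have X := quad_ext (β := β) hα
  obtain ⟨φ, hφ⟩ : ∃ φ, φ = FiniteField.frobeniusAlgHom F (QuadraticAlgebra F β α) := ⟨_, rfl⟩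
  have hφz : ∀ w, φ w = w ^ Fintype.card F := by intro w; rw [hφ]; rfl
  obtain ⟨τ, hτ⟩ := X.fix (z + starRingEnd _ z) (by rw [map_add, X.stst, add_comm])
  obtain ⟨ν, hν⟩ := X.fix (z * starRingEnd _ z) (by rw [map_mul, X.stst, mul_comm])
  have h1 : z * z - (z + starRingEnd _ z) * z + z * starRingEnd _ z = 0 := by ring
  rw [hτ, hν] at h1
  have h2 := congrArg φ h1
  rw [map_add, map_sub, map_mul, map_mul, AlgHom.commutes, AlgHom.commutes, map_zero, ← hτ, ← hν] at h2
  have h3 : (φ z - z) * (φ z - starRingEnd _ z) = 0 := by linear_combination h2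
  rcases mul_eq_zero.1 h3 with h4 | h4
  · have h5 : z ^ Fintype.card F = z := by rw [← hφz]; exact sub_eq_zero.1 h4
    obtain ⟨c, hc⟩ := mem_of_pow h5
    rw [h5, hc, X.fx]
  · rw [← hφz]; exact (sub_eq_zero.1 h4).symm

end quad

/-- **Coordinates**: `Q` is the unipotent group of `SU₃(q)`, with the right action of `t` -/
theorem Sys.coordinates {F : Type} {G Ω : Type*} [Field F] [Fintype F] [CharP F 2] [Group G] [MulAction G Ω] {a : Ω}
    {t : G} {Q : Subgroup G} {σ : SL(2, F) →* G} {o : Ω} (S : Sys a t Q σ o) :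
    ∃ (K : Type) (_ : Field K) (_ : Fintype K), Fintype.card K = Fintype.card F ^ 2 ∧ (2 : K) = 0 ∧
    ∃ l m : G → K, (∀ x ∈ Q, m x + m x ^ Fintype.card F = l x * l x ^ Fintype.card F) ∧
      (∀ x ∈ Q, ∀ y ∈ Q, l (x * y) = l x + l y) ∧
      (∀ x ∈ Q, ∀ y ∈ Q, m (x * y) = m x + m y + l x ^ Fintype.card F * l y) ∧
      (∀ x ∈ Q, l x = 0 → m x = 0 → x = 1) ∧
      (∀ u v : K, v + v ^ Fintype.card F = u * u ^ Fintype.card F → ∃ x ∈ Q, l x = u ∧ m x = v) ∧
      (∀ x ∈ Q, x ≠ 1 → ∃ f ∈ Q, t • x • t • a = f • t • a ∧ l f * m x = l x ∧ m f * m x = 1) := by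
  classical
  obtain ⟨α, β, hα, hirr, hop⟩ := main S.isOp
  have : Fact (∀ r : F, r ^ 2 ≠ β + α * r) := ⟨hirr⟩
  have : Fintype (QuadraticAlgebra F β α) := Fintype.ofEquiv _ (QuadraticAlgebra.equivProd β α).symm
  have X := quad_ext (β := β) hα
  obtain ⟨s, hs⟩ := exists_sqrt α
  have hc : (algebraMap F (QuadraticAlgebra F β α) s) * starRingEnd _ (algebraMap F (QuadraticAlgebra F β α) s) =
      algebraMap F (QuadraticAlgebra F β α) α := by
    rw [X.fx, ← map_mul, ← hs, pow_two]
  refine ⟨QuadraticAlgebra F β α, inferInstance, inferInstance, ?_, X.two,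
    lam a t σ o (phi α β) (algebraMap F (QuadraticAlgebra F β α) s), mu a t σ o (phi α β), ?_, ?_, ?_, ?_, ?_, ?_⟩
  · rw [Fintype.card_congr (QuadraticAlgebra.equivProd β α), Fintype.card_prod, pow_two]
  · intro x hx
    rw [← star_eq_pow hα, ← star_eq_pow hα]
    exact mu_add S X hc hx
  · intro x hx y hy
    exact lam_mul S X hc hop hx hy
  · intro x hx y hy
    rw [← star_eq_pow hα]
    exact mu_mul S X hc hop hx hy
  · intro x hx h1 h2
    exact coords_inj S X hc h1 h2
  · intro u v h
    rw [← star_eq_pow hα, ← star_eq_pow hα] at h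
    exact coords_surj S X hc h
  · intro x hx h
    exact t_coords S X hc hx h

end Cfsg.Agent.Lib.SUSys
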