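import Mathlib

/-!
The abstract geometric lemma of the SUZ project (helper24): a finite group `V` with a fixed point free group of
automorphisms `K` and a `K`-invariant index function `i` on `V \ {1}` such that `s⁻¹ N(s) ⊆ N(s⁻¹)`, where `N(s)` is the set of
elements with the same index as `s` outside the `K`-orbit of `s`.  Then all the fibres of `i`, with `1` added, are subgroups.
-/

set_option autoImplicit false

namespace Cfsg.Agent.Lib.SUZGeo

open MulAction

variable {V K ι : Type*} [Group V] [Finite V] [Group K] [Finite K] [MulDistribMulAction K V]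

/-- `N(s)` -/
def Nset (K : Type*) [Group K] [MulDistribMulAction K V] (i : V → ι) (s : V) : Set V :=
  {v | v ≠ 1 ∧ i v = i s ∧ v ∉ orbit K s}

structure Data (K : Type*) [Group K] [MulDistribMulAction K V] (i : V → ι) : Prop where
  nontrivial : ∃ k : K, k ≠ 1
  fpf : ∀ k : K, k ≠ 1 → ∀ x : V, k • x = x → x = 1
  inv : ∀ (k : K) (x : V), x ≠ 1 → i (k • x) = i x
  ne : ∀ s : V, s ≠ 1 → (Nset K i s).Nonempty
  rule : ∀ s : V, s ≠ 1 → ∀ v ∈ Nset K i s, s⁻¹ * v ∈ Nset K i s⁻¹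

namespace Data

set_option linter.unusedSectionVars false

variable {i : V → ι} (D : Data K i)
include D

omit [Finite V] [Finite K] in
theorem inj {x : V} (hx : x ≠ 1) : Function.Injective fun k : K => k • x := by
  intro k l h
  by_contra hkl
  apply hx
  apply D.fpf (l⁻¹ * k) (fun h' => hkl (by rw [← mul_one l, ← h', mul_inv_cancel_left])) x
  simp only at h
  rw [mul_smul, h, inv_smul_smul]

omit [Finite V] [Finite K] in
theorem inj' {l : K} (hl : l ≠ 1) {w w' : V} (h : w * (l • w⁻¹) = w' * (l • w'⁻¹)) : w = w' := by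
  have h1 : l • (w'⁻¹ * w) = w'⁻¹ * w := by
    rw [smul_mul', smul_inv'] at *
    rw [smul_inv'] at h
    have h2 : w'⁻¹ * w = (l • w')⁻¹ * (l • w) := by
      have : w'⁻¹ * (w * (l • w)⁻¹) = (l • w')⁻¹ := by rw [h, inv_mul_cancel_left]
      rw [← this]; group
    rw [h2]
  have h2 := D.fpf l hl _ h1
  exact (inv_mul_eq_one.1 h2).symm

omit [Finite V] [Finite K] D in
theorem symm {s v : V} (hs : s ≠ 1) (h : v ∈ Nset K i s) : s ∈ Nset K i v :=
  ⟨hs, h.2.1.symm, fun h' => h.2.2 (orbit_eq_iff.1 (orbit_eq_iff.2 h').symm)⟩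

omit [Finite V] [Finite K] in
/-- Claim 1 -/
theorem claim1 {s v : V} (hs : s ≠ 1) (h : v ∈ Nset K i s) :
    s⁻¹ * v ≠ 1 ∧ i (s⁻¹ * v) = i s⁻¹ ∧ i (s⁻¹ * v)⁻¹ = i v⁻¹ := by
  have h1 := D.rule s hs v h
  have h2 := D.rule v h.1 s (symm hs h)
  refine ⟨h1.1, h1.2.1, ?_⟩
  rw [mul_inv_rev, inv_inv]
  exact h2.2.1

omit [Finite V] [Finite K] in
theorem inv_inv' (k : K) {x : V} (hx : x ≠ 1) : i (k • x)⁻¹ = i x⁻¹ := by
  rw [← smul_inv']; exact D.inv k _ (inv_ne_one.2 hx)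

omit [Finite V] [Finite K] in
theorem nmem_orbit {s v : V} (hs : s ≠ 1) (h : i v⁻¹ ≠ i s⁻¹) : v ∉ orbit K s := by
  rintro ⟨k, rfl⟩
  exact h (D.inv_inv' k hs)

omit [Finite V] [Finite K] in
theorem smul_ne_one (k : K) {x : V} (hx : x ≠ 1) : k • x ≠ 1 := fun h => hx (by
  rw [← smul_one k] at h
  exact smul_left_cancel k h)

omit [Finite V] [Finite K] in
/-- multiplying `u` on the left by an element `s` with `i u = i s⁻¹` -/
theorem claim2 {s u : V} (hs : s ≠ 1) (hu : u ≠ 1) (h : i u = i s⁻¹) (h' : i u⁻¹ ≠ i s) :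
    s * u ≠ 1 ∧ i (s * u) = i s ∧ i (s * u)⁻¹ = i u⁻¹ ∧ s * u ∉ orbit K s := by
  have h0 : u ∈ Nset K i s⁻¹ := ⟨hu, h, D.nmem_orbit (inv_ne_one.2 hs) (by rw [inv_inv]; exact h')⟩
  have h1 := D.claim1 (inv_ne_one.2 hs) h0
  have h2 := D.rule s⁻¹ (inv_ne_one.2 hs) u h0
  rw [inv_inv] at h1 h2
  exact ⟨h1.1, h1.2.1, h1.2.2, h2.2.2⟩

omit [Finite V] in
/-- a finite set mapping injectively into `K \ {1}` and stable under `K` is empty -/
theorem empty_of_inj {A : Set V} (hA : ∀ x ∈ A, x ≠ 1) (hK : ∀ k : K, ∀ x ∈ A, k • x ∈ A) (f : V → K)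
    (hf1 : ∀ x ∈ A, f x ≠ 1) (hf : ∀ x ∈ A, ∀ y ∈ A, f x = f y → x = y) : A = ∅ := by
  by_contra hne
  obtain ⟨x, hx⟩ := Set.nonempty_iff_ne_empty.2 hne
  have hinj : Function.Injective fun k : K => f (k • x) := by
    intro k l h
    exact D.inj (hA x hx) (hf _ (hK k x hx) _ (hK l x hx) h)
  obtain ⟨k, hk⟩ := Finite.surjective_of_injective hinj 1
  exact hf1 _ (hK k x hx) hk

omit [Finite V] in
/-- Step A: if `i s ≠ i s⁻¹` there is no `u ≠ 1` with `i u = i u⁻¹ = i s⁻¹` -/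
theorem stepA {s : V} (hs : s ≠ 1) (hij : i s ≠ i s⁻¹) (u : V) (hu : u ≠ 1) (h1 : i u = i s⁻¹) (h2 : i u⁻¹ = i s⁻¹) : False := by
  classical
  obtain ⟨k, hk⟩ := D.nontrivial
  set A : Set V := {u | u ≠ 1 ∧ i u = i s⁻¹ ∧ i u⁻¹ = i s⁻¹} with hA
  set y := s⁻¹ * (k • s) with hy
  have hy1 : y ≠ 1 := by
    intro h
    exact hs (D.fpf k hk s (inv_mul_eq_one.1 h).symm)
  -- `y ∉ A`
  have hyA : y ∉ A := by
    rintro ⟨-, h3, h4⟩
    have := (D.claim2 hs hy1 h3 (by rw [h4]; exact hij.symm)).2.2.2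
    rw [hy, mul_inv_cancel_left] at this
    exact this ⟨k, rfl⟩
  have key : ∀ u ∈ A, ∃ l : K, l • u⁻¹ = u⁻¹ * y := by
    rintro u ⟨hu, h1, h2⟩
    obtain ⟨h3, h4, h5, h6⟩ := D.claim2 hs hu h1 (by rw [h2]; exact hij.symm)
    -- `k • s ∈ N (s u)`
    have hN : k • s ∈ Nset K i (s * u) := by
      refine ⟨D.smul_ne_one k hs, by rw [h4]; exact D.inv k s hs, ?_⟩
      intro h
      apply h6
      rw [← orbit_eq_iff] at h ⊢
      rw [← h]
      exact orbit_eq_iff.2 ⟨k, rfl⟩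
    obtain ⟨h7, h8, h9⟩ := D.claim1 h3 hN
    have he : (s * u)⁻¹ * (k • s) = u⁻¹ * y := by rw [hy]; group
    rw [he] at h7 h8 h9
    by_contra hno
    have hno' : u⁻¹ * y ∈ Nset K i u⁻¹ := by
      refine ⟨h7, ?_, ?_⟩
      · rw [h8, h5]
      · rintro ⟨l, hl⟩; exact hno ⟨l, hl⟩
    obtain ⟨h10, h11, h12⟩ := D.claim1 (inv_ne_one.2 hu) hno'
    rw [inv_inv, mul_inv_cancel_left] at h10 h11 h12
    refine hyA ⟨h10, by rw [h11, h1], ?_⟩
    rw [h12, h9]
    exact D.inv_inv' k hs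
  have hAe : A = ∅ := by
    refine D.empty_of_inj (A := A) (fun x hx => hx.1) ?_ (fun u => if h : ∃ l : K, l • u⁻¹ = u⁻¹ * y then h.choose else 1) ?_ ?_
    · rintro k x ⟨h1, h2, h3⟩
      exact ⟨D.smul_ne_one k h1, by rw [D.inv k x h1, h2], by rw [D.inv_inv' k h1, h3]⟩
    · intro x hx
      have h := key x hx
      simp only [h, dite_true]
      intro h'
      have := h.choose_spec
      rw [h', one_smul] at this
      exact hy1 (by simpa using this.symm)
    · intro x hx z hz h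
      have h1 := key x hx
      have h2 := key z hz
      simp only [h1, h2, dite_true] at h
      have h3 := h1.choose_spec
      have h4 := h2.choose_spec
      rw [← h] at h4
      have hl : h1.choose ≠ 1 := by
        intro h'
        rw [h', one_smul] at h3
        exact hy1 (by simpa using h3.symm)
      apply D.inj' hl
      rw [h3, h4, mul_inv_cancel_left, mul_inv_cancel_left]
  have : u ∈ A := ⟨hu, h1, h2⟩
  rw [hAe] at this
  exact this

/-- the index of `s` and of `s⁻¹` coincide -/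
theorem index_inv {s : V} (hs : s ≠ 1) : i s⁻¹ = i s := by
  by_contra hij'
  have hij : i s ≠ i s⁻¹ := fun h => hij' h.symm
  have hs' := inv_ne_one.2 hs
  -- choose `v` with the index of `s`
  obtain ⟨v, hv, hvi, hvo⟩ := D.ne s hs
  have hvj : i v⁻¹ ≠ i s⁻¹ := by
    intro h
    obtain ⟨h1, h2, h3⟩ := D.claim1 hs ⟨hv, hvi, hvo⟩
    exact D.stepA hs hij _ h1 h2 (by rw [h3, h])
  have hvi' : i v⁻¹ ≠ i s := by
    intro h
    exact D.stepA hs' (by rw [inv_inv]; exact hij.symm) v hv (by rw [inv_inv]; exact hvi) (by rw [inv_inv]; exact h)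
  have hvv : i v ≠ i v⁻¹ := by rw [hvi]; exact hvi'.symm
  -- `A_il` is the orbit of `v`
  have hAil : ∀ x : V, x ≠ 1 → i x = i s → i x⁻¹ = i v⁻¹ → x ∈ orbit K v := by
    intro x hx h1 h2
    by_contra hno
    obtain ⟨h3, h4, h5⟩ := D.claim1 hv ⟨hx, by rw [h1, hvi], hno⟩
    exact D.stepA hv hvv _ h3 h4 (by rw [h5, h2])
  set B : Set V := {u | u ≠ 1 ∧ i u = i s⁻¹ ∧ i u⁻¹ = i v⁻¹} with hB
  -- from `B` to `A_il` and back
  have hBA : ∀ s' : V, s' ≠ 1 → i s' = i s → i s'⁻¹ = i s⁻¹ → ∀ u ∈ B, s' * u ≠ 1 ∧ i (s' * u) = i s ∧ i (s' * u)⁻¹ = i v⁻¹ := by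
    rintro s' hs1 hs2 hs3 u ⟨h1, h2, h3⟩
    obtain ⟨h4, h5, h6, -⟩ := D.claim2 hs1 h1 (by rw [h2, hs3]) (by rw [h3, hs2]; exact hvi')
    exact ⟨h4, by rw [h5, hs2], by rw [h6, h3]⟩
  have hAB : ∀ s' : V, s' ≠ 1 → i s' = i s → i s'⁻¹ = i s⁻¹ → ∀ x : V, x ≠ 1 → i x = i s → i x⁻¹ = i v⁻¹ → s'⁻¹ * x ∈ B := by
    intro s' hs1 hs2 hs3 x hx h1 h2
    obtain ⟨h3, h4, h5⟩ := D.claim1 hs1 (v := x) ⟨hx, by rw [h1, hs2], D.nmem_orbit hs1 (by rw [h2, hs3]; exact hvj)⟩
    exact ⟨h3, by rw [h4, hs3], by rw [h5, h2]⟩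
  obtain ⟨k, hk⟩ := D.nontrivial
  set y := s⁻¹ * (k • s) with hy
  have hy1 : y ≠ 1 := by
    intro h
    exact hs (D.fpf k hk s (inv_mul_eq_one.1 h).symm)
  set Y : Set V := {y | ∀ u ∈ B, y * u ∈ B} with hY
  have hyY : y ∈ Y := by
    intro u hu
    obtain ⟨h1, h2, h3⟩ := hBA (k • s) (D.smul_ne_one k hs) (D.inv k s hs) (D.inv_inv' k hs) u hu
    have := hAB s hs rfl rfl _ h1 h2 h3
    rwa [hy, mul_assoc]
  have hBK : ∀ k : K, ∀ u ∈ B, k • u ∈ B := by
    rintro k x ⟨h1, h2, h3⟩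
    exact ⟨D.smul_ne_one k h1, by rw [D.inv k x h1, h2], by rw [D.inv_inv' k h1, h3]⟩
  have hYK : ∀ k : K, ∀ y ∈ Y, k • y ∈ Y := by
    intro k y hy u hu
    have := hBK k _ (hy _ (hBK k⁻¹ u hu))
    rwa [smul_mul', smul_inv_smul] at this
  obtain ⟨u1, hu1⟩ : B.Nonempty := ⟨_, hAB s hs rfl rfl v hv hvi rfl⟩
  -- an injection from `Option K` to `K`
  have h1 : ∀ z ∈ Y, ∃ l : K, l • v = s * (z * u1) := by
    intro z hz
    obtain ⟨h1, h2, h3⟩ := hBA s hs rfl rfl _ (hz u1 hu1)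
    exact hAil _ h1 h2 h3
  have hone : (1 : V) ∈ Y := fun u hu => by rwa [one_mul]
  classical
  let f : Option K → V := fun o => o.elim 1 (fun k => k • y)
  have hfY : ∀ o, f o ∈ Y := by
    rintro (_ | k)
    · exact hone
    · exact hYK k y hyY
  have hf : Function.Injective f := by
    rintro (_ | k) (_ | l) h
    · rfl
    · exact absurd h.symm (D.smul_ne_one l hy1)
    · exact absurd h (D.smul_ne_one k hy1)
    · exact congrArg some (D.inj hy1 h)
  let g : Option K → K := fun o => (h1 (f o) (hfY o)).choose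
  have hg : Function.Injective g := by
    intro o o' h
    apply hf
    have h2 := (h1 (f o) (hfY o)).choose_spec
    have h3 := (h1 (f o') (hfY o')).choose_spec
    change g o • v = _ at h2
    change g o' • v = _ at h3
    rw [h, h3] at h2
    exact mul_right_cancel (mul_left_cancel h2).symm
  have h2 := Nat.card_le_card_of_injective g hg
  have h3 : Nat.card (Option K) = Nat.card K + 1 := Finite.card_option
  omega

/-- the fibres of the index function, with `1` added, are closed under `x, y ↦ x⁻¹ y` -/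
theorem closed {x y : V} (hx : x ≠ 1) (hy : y ≠ 1) (h : i y = i x) (hne : x⁻¹ * y ≠ 1) : i (x⁻¹ * y) = i x := by
  by_cases hp : y ∈ orbit K x
  · obtain ⟨k, rfl⟩ := hp
    simp only at hne hy h ⊢
    have hkx : k • x ≠ x := fun h' => hne (by rw [h', inv_mul_cancel])
    -- a good `w`
    by_contra hcon
    have hbad : ∀ w ∈ Nset K i x, ∃ l : K, l • (w⁻¹ * x) = w⁻¹ * (k • x) := by
      intro w hw
      by_contra hno
      apply hcon
      have hxw : x ∈ Nset K i w := symm hx hw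
      have hkw : k • x ∈ Nset K i w := by
        refine ⟨hy, by rw [h]; exact hw.2.1.symm, fun h' => hxw.2.2 ?_⟩
        rw [← orbit_eq_iff] at h' ⊢
        rw [← h']
        exact (orbit_eq_iff.2 ⟨k, rfl⟩).symm
      obtain ⟨h1, h2, h3⟩ := D.claim1 hw.1 hxw
      obtain ⟨h4, h5, h6⟩ := D.claim1 hw.1 hkw
      have h7 : w⁻¹ * (k • x) ∈ Nset K i (w⁻¹ * x) := ⟨h4, by rw [h5, h2], fun ⟨l, hl⟩ => hno ⟨l, hl⟩⟩
      obtain ⟨h8, h9, -⟩ := D.claim1 h1 h7
      have he : (w⁻¹ * x)⁻¹ * (w⁻¹ * (k • x)) = x⁻¹ * (k • x) := by group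
      rw [he] at h9
      rw [h9, D.index_inv h1, h2, D.index_inv hw.1]
      exact hw.2.1
    classical
    have hNe : Nset K i x = ∅ := by
      have hlne : ∀ w ∈ Nset K i x, ∀ l : K, l • (w⁻¹ * x) = w⁻¹ * (k • x) → l ≠ 1 := by
        rintro w hw l hl rfl
        rw [one_smul] at hl
        exact hkx (mul_left_cancel hl).symm
      refine D.empty_of_inj (A := Nset K i x) (fun w hw => hw.1) ?_
        (fun w => if h : ∃ l : K, l • (w⁻¹ * x) = w⁻¹ * (k • x) then h.choose else 1) ?_ ?_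
      · rintro l w ⟨h1, h2, h3⟩
        refine ⟨D.smul_ne_one l h1, by rw [D.inv l w h1, h2], fun h' => h3 ?_⟩
        rw [← orbit_eq_iff] at h' ⊢
        rw [← h']
        exact (orbit_eq_iff.2 ⟨l, rfl⟩).symm
      · intro w hw
        have h := hbad w hw
        simp only [h, dite_true]
        exact hlne w hw _ h.choose_spec
      · intro w hw w' hw' heq
        have h1 := hbad w hw
        have h2 := hbad w' hw'
        simp only [h1, h2, dite_true] at heq
        have h3 := h1.choose_spec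
        have h4 := h2.choose_spec
        have hl := hlne w hw _ h3
        rw [← heq] at h4
        apply D.inj' hl
        rw [smul_mul'] at h3 h4
        have h5 : w * (h1.choose • w⁻¹) = (k • x) * (h1.choose • x)⁻¹ := by
          rw [eq_mul_inv_iff_mul_eq, mul_assoc, h3, mul_inv_cancel_left]
        have h6 : w' * (h1.choose • w'⁻¹) = (k • x) * (h1.choose • x)⁻¹ := by
          rw [eq_mul_inv_iff_mul_eq, mul_assoc, h4, mul_inv_cancel_left]
        rw [h5, h6]
    obtain ⟨w, hw⟩ := D.ne x hx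
    rw [hNe] at hw
    exact hw
  · obtain ⟨-, h2, -⟩ := D.claim1 hx ⟨hy, h, hp⟩
    rw [h2, D.index_inv hx]

/-- the fibre of `i` through `s`, with `1` added, as a subgroup -/
theorem exists_subgroup (s : V) : ∃ A : Subgroup V, ∀ v : V, v ∈ A ↔ v = 1 ∨ i v = i s ∧ v ≠ 1 := by
  classical
  refine ⟨{ carrier := {v | v = 1 ∨ i v = i s ∧ v ≠ 1}, one_mem' := Or.inl rfl, mul_mem' := ?_, inv_mem' := ?_ }, fun v => Iff.rfl⟩
  · rintro x y (rfl | ⟨hx, hx1⟩) hy
    · rwa [one_mul]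
    · rcases hy with rfl | ⟨hy, hy1⟩
      · rw [mul_one]; exact Or.inr ⟨hx, hx1⟩
      · by_cases h : x * y = 1
        · exact Or.inl h
        · right
          refine ⟨?_, h⟩
          have hx' := inv_ne_one.2 hx1
          have hix : i x⁻¹ = i s := by rw [D.index_inv hx1, hx]
          have := D.closed (x := x⁻¹) (y := y) hx' hy1 (by rw [hy, hix]) (by rwa [inv_inv])
          rwa [inv_inv, hix] at this
  · rintro x (rfl | ⟨hx, hx1⟩)
    · left; exact inv_one
    · right; exact ⟨by rw [D.index_inv hx1, hx], inv_ne_one.2 hx1⟩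

end Data

end Cfsg.Agent.Lib.SUZGeo
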