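import Cfsg.Agent.Lib.RankOneC
import Cfsg.Agent.Lib.SUZGeo

/-!
Blocks in the split rank one set-up (helper24, SUZ project, piece S2).
-/

set_option autoImplicit false

namespace Cfsg.Agent.Lib.SUZBlk

open MulAction Cfsg.Agent.Lib.RankOne

variable {G Ω : Type*} [Group G] [MulAction G Ω] {a : Ω} {t : G} {Q S K L : Subgroup G}

/-- `S ≤ Q` normal in `G_a`, `L = S K ∪ S K t S` a subgroup preserving `{a} ∪ S (t a)`. -/
structure Blk (a : Ω) (t : G) (Q S K L : Subgroup G) : Prop where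
  hS : Cfsg.IsRankOneSetup G Ω a t Q
  SQ : S ≤ Q
  Sn : ∀ h : G, h • a = a → ∀ y ∈ S, h * y * h⁻¹ ∈ S
  KD : ∀ k ∈ K, k • a = a ∧ k • t • a = t • a
  K1 : ∃ k ∈ K, k ≠ 1
  Kfpf : ∀ k ∈ K, k ≠ 1 → ∀ x ∈ Q, x⁻¹ * (k * x * k⁻¹) ∈ S → x ∈ S
  SL : S ≤ L
  KL : K ≤ L
  tL : t ∈ L
  cov : ∀ l ∈ L, l • a = a → ∃ y ∈ S, ∃ k ∈ K, l = y * k
  dec : ∀ l ∈ L, l • a ≠ a → ∃ y₁ ∈ S, ∃ y ∈ S, ∃ y₂ ∈ S, y ≠ 1 ∧ l = y₁ * (t * y * t) * y₂
  inv : ∀ y ∈ S, y ≠ 1 → ∃ z ∈ S, t • y • t • a = z • t • a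

namespace Blk

variable (B : Blk a t Q S K L)
include B

theorem Sa {y : G} (hy : y ∈ S) : y • a = a := Q_fix B.hS (B.SQ hy)

theorem Sn' {h : G} (hh : h • a = a) {y : G} (hy : y ∈ S) : h⁻¹ * y * h ∈ S := by
  have := B.Sn h⁻¹ (by rw [inv_smul_eq_iff, hh]) y hy
  rwa [inv_inv] at this

/-- the basic block -/
def C (a : Ω) (t : G) (S : Subgroup G) : Set Ω := {c | c = a ∨ ∃ y ∈ S, c = y • t • a}

theorem C_S {y : G} (hy : y ∈ S) {c : Ω} (hc : c ∈ C a t S) : y • c ∈ C a t S := by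
  rcases hc with rfl | ⟨z, hz, rfl⟩
  · left; exact B.Sa hy
  · right; exact ⟨y * z, S.mul_mem hy hz, by rw [mul_smul]⟩

theorem C_D {d : G} (hd : d • a = a) (hd' : d • t • a = t • a) {c : Ω} (hc : c ∈ C a t S) : d • c ∈ C a t S := by
  rcases hc with rfl | ⟨z, hz, rfl⟩
  · left; exact hd
  · right
    refine ⟨d * z * d⁻¹, B.Sn d hd z hz, ?_⟩
    have : d⁻¹ • t • a = t • a := by rw [inv_smul_eq_iff, hd']
    rw [mul_smul, mul_smul, this]

theorem C_t {c : Ω} (hc : c ∈ C a t S) : t • c ∈ C a t S := by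
  rcases hc with rfl | ⟨z, hz, rfl⟩
  · right; exact ⟨1, S.one_mem, by rw [one_smul]⟩
  · by_cases hz1 : z = 1
    · left; rw [hz1, one_smul, tta B.hS]
    · right; exact B.inv z hz hz1

theorem C_L {l : G} (hl : l ∈ L) {c : Ω} (hc : c ∈ C a t S) : l • c ∈ C a t S := by
  by_cases h : l • a = a
  · obtain ⟨y, hy, k, hk, rfl⟩ := B.cov l hl h
    rw [mul_smul]
    exact B.C_S hy (B.C_D (B.KD k hk).1 (B.KD k hk).2 hc)
  · obtain ⟨y₁, h1, y, h2, y₂, h3, -, rfl⟩ := B.dec l hl h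
    rw [mul_smul, mul_smul, mul_smul, mul_smul]
    exact B.C_S h1 (B.C_t (B.C_S h2 (B.C_t (B.C_S h3 hc))))

theorem C_L' {l : G} (hl : l ∈ L) {c : Ω} (hc : l • c ∈ C a t S) : c ∈ C a t S := by
  have := B.C_L (L.inv_mem hl) hc
  rwa [inv_smul_smul] at this

theorem mem_C_iff {x : G} (hx : x ∈ Q) : x • t • a ∈ C a t S ↔ x ∈ S := by
  constructor
  · rintro (h | ⟨y, hy, h⟩)
    · exfalso
      have h1 : t • a = x⁻¹ • a := by rw [eq_inv_smul_iff]; exact h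
      rw [Q_fix B.hS (Q.inv_mem hx)] at h1
      exact ta_ne B.hS h1
    · rw [Q_eq B.hS hx (B.SQ hy) (ta_ne B.hS) h]; exact hy
  · intro h; exact Or.inr ⟨x, h, rfl⟩

/-- symmetry of the blocks -/
theorem symm {g g' : G} (h1 : g • a = g' • t • a) (h2 : g • t • a = g' • a) {c : Ω} (hc : c ∈ C a t S) :
    ∃ c' ∈ C a t S, g • c = g' • c' := by
  refine ⟨g'⁻¹ • g • c, ?_, by rw [smul_inv_smul]⟩
  have h3 : (t * (g'⁻¹ * g)) • a = a := by
    rw [mul_smul, mul_smul, h1, inv_smul_smul, tta B.hS]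
  have h4 : (t * (g'⁻¹ * g)) • t • a = t • a := by
    rw [mul_smul, mul_smul, h2, inv_smul_smul]
  have h5 := B.C_t (B.C_D h3 h4 hc)
  have h6 : g'⁻¹ • g • c = t • (t * (g'⁻¹ * g)) • c := by
    rw [mul_smul, smul_smul t t, B.hS.mul_self, one_smul, mul_smul]
  rw [h6]; exact h5

/-- the rule -/
theorem rule {x y : G} (hx : x • a = a) (hxb : x • t • a ≠ t • a) (hy : y ∈ S) (hy1 : y ≠ 1) :
    ∃ y' ∈ S, y' ≠ 1 ∧ x⁻¹ • (t * y * t) • x • t • a = (t * y' * t) • x⁻¹ • t • a := by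
  have hb := ta_ne B.hS
  obtain ⟨g, hg1, hg2⟩ := two_trans B.hS hb.symm hxb.symm
  have hxb' : x⁻¹ • t • a ≠ t • a := fun h => hxb (by rw [inv_smul_eq_iff] at h; exact h.symm)
  obtain ⟨g2, hg3, hg4⟩ := two_trans B.hS hb.symm hxb'.symm
  -- `h₁ = t g`
  have h1a : (t * g) • a = a := by rw [mul_smul, hg1, tta B.hS]
  have h2a : (t * g2) • a = a := by rw [mul_smul, hg3, tta B.hS]
  set z := (t * g)⁻¹ * y * (t * g) with hz
  have hzS : z ∈ S := B.Sn' h1a hy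
  have hz1 : z ≠ 1 := by
    intro h
    apply hy1
    have : y = (t * g) * z * (t * g)⁻¹ := by rw [hz]; group
    rw [this, h]; group
  have hp : (t * y * t) • x • t • a = g • z • t • a := by
    rw [← hg2, ← mul_smul (t * y * t) g, ← mul_smul g z]
    congr 1
    rw [hz, mul_inv_rev, t_inv B.hS]
    group
  -- move by `x⁻¹`
  have h3 : (x⁻¹ * g) • a = g2 • t • a := by rw [mul_smul, hg1, hg4]
  have h4 : (x⁻¹ * g) • t • a = g2 • a := by rw [mul_smul, hg2, inv_smul_smul, hg3]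
  obtain ⟨c', hc', h5⟩ := B.symm h3 h4 (c := z • t • a) (Or.inr ⟨z, hzS, rfl⟩)
  rw [mul_smul] at h5
  rcases hc' with hc'' | ⟨z', hz', rfl⟩
  · exfalso
    subst c'
    -- `x⁻¹ g z b = g2 a = b = x⁻¹ g b`
    rw [hg3] at h5
    have h6 : x⁻¹ • g • z • t • a = x⁻¹ • g • t • a := by rw [h5, hg2, inv_smul_smul]
    have h7 : z • t • a = t • a := smul_left_cancel g (smul_left_cancel x⁻¹ h6)
    exact hb (Q_free B.hS (B.SQ hzS) hz1 h7)
  · refine ⟨(t * g2) * z' * (t * g2)⁻¹, B.Sn _ h2a z' hz', ?_, ?_⟩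
    · intro h
      have hz'1 : z' = 1 := by
        have : z' = (t * g2)⁻¹ * ((t * g2) * z' * (t * g2)⁻¹) * (t * g2) := by group
        rw [this, h]; group
      rw [hz'1, one_smul, hg4] at h5
      have h6 : g • z • t • a = g • a := by rw [hg1]; exact smul_left_cancel x⁻¹ h5
      have h7 := smul_left_cancel g h6
      have h8 : z • t • a = z • a := by rw [h7, B.Sa hzS]
      exact hb (smul_left_cancel z h8)
    · rw [hp, h5, ← hg4, ← mul_smul g2 z', ← mul_smul _ g2]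
      congr 1
      rw [mul_inv_rev, t_inv B.hS]
      have := B.hS.mul_self
      calc g2 * z' = (t * t) * g2 * z' * g2⁻¹ * (t * t) * g2 := by rw [this]; group
        _ = t * (t * g2 * z' * (g2⁻¹ * t)) * t * g2 := by group

/-- the point of `Q` -/
theorem pt_ne_a {x : G} (hx : x ∈ Q) : x • t • a ≠ a := by
  intro h
  have h1 : t • a = x⁻¹ • a := by rw [eq_inv_smul_iff]; exact h
  rw [Q_fix B.hS (Q.inv_mem hx)] at h1
  exact ta_ne B.hS h1

theorem pt_ne_b {x : G} (hx : x ∈ Q) (hx1 : x ≠ 1) : x • t • a ≠ t • a := fun h => ta_ne B.hS (Q_free B.hS hx hx1 h)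

theorem exists_pt {c : Ω} (hc : c ≠ a) : ∃ x ∈ Q, x • t • a = c := Q_trans B.hS hc

theorem Qn {h : G} (hh : h • a = a) {x : G} (hx : x ∈ Q) : h * x * h⁻¹ ∈ Q := B.hS.conj_mem h hh x hx

theorem Qn' {h : G} (hh : h • a = a) {x : G} (hx : x ∈ Q) : h⁻¹ * x * h ∈ Q := by
  have := B.Qn (h := h⁻¹) (by rw [inv_smul_eq_iff, hh]) hx
  rwa [inv_inv] at this

theorem K_pt {k x : G} (hk : k ∈ K) : k • x • t • a = (k * x * k⁻¹) • t • a := by
  have : k⁻¹ • t • a = t • a := by rw [inv_smul_eq_iff, (B.KD k hk).2]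
  rw [mul_smul, mul_smul, this]

/-- a point outside `C` moved by `l ∈ L` with `l a ≠ a` -/
theorem key {x l z : G} (hx : x ∈ Q) (hxS : x ∉ S) (hl : l ∈ L) (hla : l • a ≠ a) (hz : z ∈ Q)
    (h : l • x • t • a = z • t • a) {k : G} (hk : k ∈ K) : z * (k * x * k⁻¹)⁻¹ ∉ S := by
  intro hy0
  set y0 := z * (k * x * k⁻¹)⁻¹ with hy0'
  have hzb : z • t • a = (y0 * k) • x • t • a := by
    rw [mul_smul y0 k, B.K_pt hk, ← mul_smul y0]
    congr 1
    rw [hy0']; group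
  have hy0k : y0 * k ∈ L := L.mul_mem (B.SL hy0) (B.KL hk)
  set l' := (y0 * k)⁻¹ * l with hl'
  have hl'L : l' ∈ L := L.mul_mem (L.inv_mem hy0k) hl
  have hfix : l' • x • t • a = x • t • a := by
    rw [hl', mul_smul _ l, h, hzb, inv_smul_smul]
  have hl'a : l' • a ≠ a := by
    intro h'
    apply hla
    rw [hl', mul_smul, inv_smul_eq_iff, mul_smul, (B.KD k hk).1, B.Sa hy0] at h'
    exact h'
  obtain ⟨y₁, h1, y, h2, y₂, h3, hy, hdec⟩ := B.dec l' hl'L hl'a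
  have hx' : y₂ * x ∈ Q := Q.mul_mem (B.SQ h3) hx
  have hx'S : y₂ * x ∉ S := fun h' => hxS ((S.mul_mem_cancel_left h3).1 h')
  have hx'a : (y₂ * x) • a = a := Q_fix B.hS hx'
  have hx'1 : y₂ * x ≠ 1 := fun h' => hx'S (by rw [h']; exact S.one_mem)
  obtain ⟨y', hy', hy'1, hrule⟩ := B.rule hx'a (B.pt_ne_b hx' hx'1) h2 hy
  -- `(t y t) x' b = y₁⁻¹ y₂⁻¹ x' b`
  have h4 : (t * y * t) • (y₂ * x) • t • a = (y₁⁻¹ * y₂⁻¹) • (y₂ * x) • t • a := by
    have h5 : y₁ • (t * y * t) • (y₂ * x) • t • a = x • t • a := by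
      rw [mul_smul y₂ x, ← mul_smul (t * y * t) y₂, ← mul_smul y₁, ← mul_assoc, ← hdec, hfix]
    rw [mul_smul y₁⁻¹ y₂⁻¹, mul_smul y₂ x, inv_smul_smul, eq_inv_smul_iff, ← mul_smul y₂ x, h5]
  rw [h4] at hrule
  -- the left hand side is in `C`
  have h6 : (y₂ * x)⁻¹ • (y₁⁻¹ * y₂⁻¹) • (y₂ * x) • t • a ∈ C a t S := by
    right
    refine ⟨(y₂ * x)⁻¹ * (y₁⁻¹ * y₂⁻¹) * (y₂ * x), B.Sn' hx'a (S.mul_mem (S.inv_mem h1) (S.inv_mem h3)), ?_⟩
    rw [← mul_smul, ← mul_smul, ← mul_assoc]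
  rw [hrule] at h6
  have h7 := B.C_L' (L.mul_mem (L.mul_mem B.tL (B.SL hy')) B.tL) h6
  rw [B.mem_C_iff (Q.inv_mem hx')] at h7
  exact hx'S (by simpa using S.inv_mem h7)

/-- `L` is regular on the orbits outside `C` -/
theorem free {x l : G} (hx : x ∈ Q) (hxS : x ∉ S) (hl : l ∈ L) (h : l • x • t • a = x • t • a) : l = 1 := by
  by_cases hla : l • a = a
  · obtain ⟨y, hy, k, hk, rfl⟩ := B.cov l hl hla
    rw [mul_smul, B.K_pt hk, ← mul_smul] at h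
    have h1 := Q_eq B.hS (Q.mul_mem (B.SQ hy) (B.Qn (B.KD k hk).1 hx)) hx (ta_ne B.hS) h
    have h2 : x⁻¹ * (k * x * k⁻¹) ∈ S := by
      have h3 : x⁻¹ * (k * x * k⁻¹) = x⁻¹ * y⁻¹ * x := by
        rw [mul_assoc x⁻¹, ← eq_inv_mul_iff_mul_eq.2 h1]
      rw [h3]
      exact B.Sn' (Q_fix B.hS hx) (S.inv_mem hy)
    have hk1 : k = 1 := by
      by_contra hk1
      exact hxS (B.Kfpf k hk hk1 x hx h2)
    subst hk1
    have : y = 1 := by simpa using h1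
    rw [this, one_mul]
  · exfalso
    refine B.key hx hxS hl hla hx h (k := 1) K.one_mem ?_
    have : x * (1 * x * 1⁻¹)⁻¹ = 1 := by group
    rw [this]; exact S.one_mem

end Blk

end Cfsg.Agent.Lib.SUZBlk
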