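import Cfsg.Agent.Lib.SelfCentA

set_option autoImplicit false
set_option linter.all false

/-!
# Groups all of whose noncyclic subgroups are self-centralizing (helper6), part 2
-/

namespace Cfsg.Agent.Lib.SelfCent

open Subgroup SylowRel StrongEmbPt Cfsg.Agent.Lib.CIT

variable {G : Type*} [Group G] [Finite G]

theorem V4_card_le {s t : G} (hs : s * s = 1) (ht : t * t = 1) (hst : t * s = s * t) :
    Nat.card (V4 s t hs ht hst) ≤ 4 := by
  have hV4 : ((V4 s t hs ht hst : Subgroup G) : Set G) = {1, s, t, s * t} := by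
    ext x
    show (x = 1 ∨ x = s ∨ x = t ∨ x = s * t) ↔ _
    simp
  rw [← SetLike.coe_sort_coe, Nat.card_coe_set_eq, hV4]
  refine (Set.ncard_insert_le _ _).trans ?_
  refine (Nat.add_le_add_right (Set.ncard_insert_le _ _) 1).trans ?_
  refine (Nat.add_le_add_right (Nat.add_le_add_right (Set.ncard_insert_le _ _) 1) 1).trans ?_
  rw [Set.ncard_singleton]

/-- an elementary abelian subgroup contains `s ≠ t` -/
theorem exists_pair {A : Subgroup G} (h : 4 ≤ Nat.card A) : ∃ s ∈ A, ∃ t ∈ A, s ≠ 1 ∧ t ≠ 1 ∧ s ≠ t := by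
  classical
  have hb : A ≠ ⊥ := by
    rintro rfl
    rw [Subgroup.card_bot] at h; omega
  obtain ⟨s, hs, hs1⟩ := exists_mem_ne_one hb
  by_contra hcon
  push Not at hcon
  have h1 : (A : Set G) ⊆ {1, s} := by
    intro x hx
    by_cases hx1 : x = 1
    · exact Or.inl hx1
    · right
      exact (hcon s hs x hx hs1 hx1).symm
  have h2 := Set.ncard_le_ncard h1 (Set.toFinite _)
  have h3 : (A : Set G).ncard = Nat.card A := by rw [← Nat.card_coe_set_eq]; rfl
  have h4 := Set.ncard_insert_le (1 : G) ({s} : Set G)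
  rw [Set.ncard_singleton] at h4
  omega

theorem SC.le_four (hP : SC G) {A H : Subgroup G} (h2 : ∀ x ∈ A, x * x = 1) (h4 : 4 ≤ Nat.card A)
    (hAH : ∀ x ∈ A, ∀ y ∈ H, y * x = x * y) : Nat.card H ≤ 4 := by
  obtain ⟨s, hs, t, ht, hs1, ht1, hne⟩ := exists_pair h4
  have hso : orderOf s = 2 := orderOf_two (h2 s hs) hs1
  have hto : orderOf t = 2 := orderOf_two (h2 t ht) ht1
  have hst : t * s = s * t := by
    have h3 := h2 _ (A.mul_mem hs ht)
    have h5 : s * t = (s * t)⁻¹ := eq_inv_of_mul_eq_one_left h3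
    rw [h5, mul_inv_rev, inv_eq_self hso, inv_eq_self hto]
  have hle : H ≤ V4 s t (h2 s hs) (h2 t ht) hst := by
    intro y hy
    exact hP.four hso hto hst hne (hAH s hs y hy) (hAH t ht y hy)
  exact (Subgroup.card_le_of_le hle).trans (V4_card_le _ _ _)

theorem SC.no_eab (hP : SC G) {A : Subgroup G} (h2 : ∀ x ∈ A, x * x = 1) : Nat.card A ≤ 4 := by
  by_contra h
  push Not at h
  have := hP.le_four h2 h.le (H := A) (by
    intro x hx y hy
    have h3 := h2 _ (A.mul_mem hy hx)
    have h5 : y * x = (y * x)⁻¹ := eq_inv_of_mul_eq_one_left h3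
    have h6 : x⁻¹ = x := inv_eq_of_mul_eq_one_left (h2 x hx)
    have h7 : y⁻¹ = y := inv_eq_of_mul_eq_one_left (h2 y hy)
    rw [h5, mul_inv_rev, h6, h7])
  omega

theorem SC.forward [IsSimpleGroup G] (hna : ¬ ∀ a b : G, a * b = b * a) (hP : SC G) :
    ∃ (F : Type) (_ : Field F) (_ : Fintype F),
      (Fintype.card F = 4 ∨ Fintype.card F = 9 ∨ ((Fintype.card F).Prime ∧ ∃ k : ℕ, Fintype.card F = 2 ^ k + 1 ∨ Fintype.card F = 2 ^ k - 1)) ∧
      Nonempty (G ≃* Matrix.ProjectiveSpecialLinearGroup (Fin 2) F) := by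
  classical
  haveI : Fact (Nat.Prime 2) := ⟨Nat.prime_two⟩
  have hG := hP.isCIT hna
  have hns := not_solvable_of_simple hna
  by_cases hTI : TI2 G
  · obtain ⟨P, n, hPS, hPb, hn1, hSE, hz⟩ := hG.zdata_of_ti hns (pCore_bot_of_simple hna) hTI
    have hPM : P ≤ NN P := le_normalizer
    have hSyl : IsSyl 2 P (NN P) := ⟨hPM, hPS.isPGroup, fun Q hQ h1 h2 => hPS.eq_of_le hQ h1 le_top⟩
    have hcG : Nat.card G = Nat.card P * n * (Nat.card P + 1) := by
      have h1 := card_eq_card_quotient_mul_card_subgroup (NN P)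
      rw [hz.card, ← card_mul_rel hPM, hz.se.relIndex P hSyl] at h1
      rw [h1]; ring
    have hzb := zeta_ne_bot hPS.isPGroup hPb
    obtain ⟨z, hz1, hz2⟩ := exists_mem_ne_one hzb
    have hzo : orderOf z = 2 := orderOf_two (mem_zeta.1 hz1).2.1 hz2
    have hinv : ∀ t : G, t ∈ NN P → orderOf t = 2 → t ∈ zeta P := by
      intro t ht hto
      obtain ⟨m, hm, hmz⟩ := hz.se.conj z t (hPM (zeta_le P hz1)) hzo ht hto
      rw [← hmz]
      exact (mem_normalizer_iff.1 (le_normalizer_zeta P hm) z).1 hz1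
    have hn2 : n + 1 = Nat.card (zeta P) := by
      haveI : Fintype (zeta P) := Fintype.ofFinite _
      have h1 : Nat.card {t : G // t ∈ NN P ∧ orderOf t = 2} = Nat.card {x : zeta P // x ≠ 1} := by
        refine Nat.card_congr ⟨fun t => ⟨⟨t.1, hinv _ t.2.1 t.2.2⟩, ?_⟩, fun x => ⟨x.1.1, hPM (zeta_le P x.1.2), ?_⟩, ?_, ?_⟩
        · intro h
          have h2 := t.2.2
          have h3 : t.1 = 1 := congrArg Subtype.val h
          rw [h3, orderOf_one] at h2; omega
        · exact orderOf_two (mem_zeta.1 x.1.2).2.1 (fun h => x.2 (Subtype.ext h))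
        · intro t; rfl
        · intro x; rfl
      rw [hz.se.card_inv] at h1
      rw [h1, Nat.card_eq_fintype_card, Fintype.card_subtype_compl]
      have h2 : 0 < Fintype.card (zeta P) := Fintype.card_pos
      simp
      omega
    have hno := hz.se.odd
    have h4 : 4 ≤ Nat.card (zeta P) := by
      rw [← hn2]
      obtain ⟨c, hc⟩ := hno
      omega
    have hz4 : Nat.card P ≤ 4 := hP.le_four (A := zeta P) (H := P)
      (fun x hx => (mem_zeta.1 hx).2.1) h4
      (fun x hx y hy => ((mem_zeta.1 hx).2.2 y hy).symm)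
    have hzP : Nat.card (zeta P) ≤ Nat.card P := Subgroup.card_le_of_le (zeta_le P)
    have hP4 : Nat.card P = 4 := by omega
    have hn3 : n = 3 := by omega
    rw [hP4, hn3] at hcG
    rcases ti_main hna hG hTI with ⟨F, i1, i2, hch, h4F, ⟨e⟩⟩ | h
    · refine ⟨F, i1, i2, Or.inl ?_, ⟨e⟩⟩
      obtain ⟨k, hk⟩ := card_eq_two_pow (F := F)
      have h1 := ClSLn.card_PSL_formula (F := F) hk 2 (by norm_num)
      rw [← Nat.card_congr e.toEquiv, hcG] at h1
      set q := 2 ^ k with hq
      rw [hk] at h4F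
      have hev : Even q := by
        rw [hq]
        refine (Nat.even_pow' ?_).2 (by decide)
        rintro rfl
        rw [hq, pow_zero] at h4F; omega
      have hg : Nat.gcd 2 (q - 1) = 1 := by
        have : Odd (q - 1) := Nat.Even.sub_odd (by omega) hev odd_one
        exact (Nat.coprime_two_left.2 this)
      rw [hg, one_mul] at h1
      norm_num [Finset.prod_range_succ] at h1
      obtain ⟨r, hr⟩ : ∃ r, q = r + 1 := ⟨q - 1, by omega⟩
      rw [hr] at h1
      have h4' : r + 1 - 1 = r := by omega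
      have h5 : (r + 1) ^ 2 - 1 = r * (r + 2) := by
        have : (r + 1) ^ 2 = r * (r + 2) + 1 := by ring
        omega
      rw [h4', h5] at h1
      have hr0 : 0 < r := by omega
      have h6 : 60 = (r + 1) * (r * (r + 2)) := by
        apply Nat.eq_of_mul_eq_mul_left hr0
        rw [mul_comm r 60]
        linarith [h1]
      have hr3 : r = 3 := by
        have h7 : r < 4 := by
          by_contra h8
          push Not at h8
          nlinarith [Nat.mul_le_mul h8 h8]
        interval_cases r <;> omega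
      rw [hk, hr, hr3]
    · exfalso
      apply not_three_dvd_suzuki h
      rw [hcG]; norm_num
  · have hna' : ¬ IsMulCommutative G := fun h => hna (fun a b => mul_comm' a b)
    have hP2 := p2_all hG
    obtain ⟨A, B, T, e⟩ := exists_edge hG hP2 (pCore_bot_of_simple hna) hTI
    by_cases h1 : ∃ (A B T : Subgroup G), NatEdge A B T 1
    · obtain ⟨A, B, T, N⟩ := h1
      obtain ⟨F, i1, i2, ho, ⟨h⟩⟩ := N.psl2 hna' hG
      refine ⟨F, i1, i2, ?_, ⟨h⟩⟩
      rcases psl2_restrict ho (hG.equiv h) with h | ⟨h, k, h2⟩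
      · exact Or.inr (Or.inl h)
      · refine Or.inr (Or.inr ⟨h, k, ?_⟩)
        rcases h2 with h2 | h2
        · exact Or.inl h2
        · right; omega
    · push Not at h1
      have h3 : ∀ (A B T : Subgroup G) (n : ℕ), NatEdge A B T n → n = 3 := by
        intro A B T n N
        rcases N.n_eq hG hP2 with rfl | h
        · exact absurd N (h1 A B T)
        · exact h
      obtain ⟨n, N⟩ := e.natural hG hP2
      obtain rfl := h3 _ _ _ _ N
      exfalso
      have := hP.no_eab N.sqA
      rw [N.cardA] at this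
      norm_num at this

end Cfsg.Agent.Lib.SelfCent
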