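import Cfsg.Agent.Lib.SelfCentB
import Cfsg.Agent.Lib.BinPslE

set_option autoImplicit false
set_option linter.all false

/-!
# Groups all of whose noncyclic subgroups are self-centralizing (helper6), part 3: `PSL₂(q)`
-/

namespace Cfsg.Agent.Lib.SelfCent

open Matrix Cfsg.Agent.Lib.SL2Basic Cfsg.Agent.Lib.SL2Tori Cfsg.Agent.Lib.ClSL2
  Cfsg.Agent.Lib.BinPslA Cfsg.Agent.Lib.MobCount Cfsg.Agent.Lib.BinPslE
open scoped MatrixGroups

/-- noncyclic subgroup of a group of order `r²` -/
theorem eq_of_card_sq {G : Type*} [Group G] [Finite G] {H C : Subgroup G} (hH : ¬ IsCyclic H) (hle : H ≤ C)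
    {r : ℕ} (hr : r.Prime) (hC : Nat.card C = r ^ 2) : H = C := by
  apply Subgroup.eq_of_le_of_card_ge hle
  have h1 : Nat.card H ∣ r ^ 2 := by rw [← hC]; exact Subgroup.card_dvd_of_le hle
  obtain ⟨i, hi, h2⟩ := (Nat.dvd_prime_pow hr).1 h1
  interval_cases i
  · exfalso; apply hH
    rw [pow_zero] at h2
    rw [Subgroup.card_eq_one] at h2
    rw [h2]; infer_instance
  · exfalso; apply hH
    rw [pow_one] at h2
    haveI : Fact r.Prime := ⟨hr⟩
    exact isCyclic_of_prime_card h2
  · rw [h2, hC]

theorem not_cyc_of_le {G : Type*} [Group G] {H C : Subgroup G} (hH : ¬ IsCyclic H) (hle : H ≤ C) : ¬ IsCyclic C := by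
  intro hc
  apply hH
  exact isCyclic_of_injective (Subgroup.inclusion hle) (Subgroup.inclusion_injective hle)

/-- a noncyclic subgroup of a 2-group with a cyclic subgroup of index 2 meets it -/
theorem meets {G : Type*} [Group G] [Finite G] {H C : Subgroup G} (hH : ¬ IsCyclic H) (hle : H ≤ C)
    {x : G} (hx : x ∈ C) (hxo : 2 * orderOf x = Nat.card C) :
    ∃ y ∈ H, y ∈ Subgroup.zpowers x ∧ y ≠ 1 := by
  by_contra hcon
  push Not at hcon
  set R := (Subgroup.zpowers x).subgroupOf C with hR
  have hRi : R.index = 2 := by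
    have h1 : Nat.card R * R.index = Nat.card C := R.card_mul_index
    have h2 : Nat.card R = orderOf x := by
      rw [hR, Nat.card_congr (Subgroup.subgroupOfEquivOfLe (by rw [Subgroup.zpowers_le]; exact hx)).toEquiv,
        Nat.card_zpowers]
    rw [h2, ← hxo, mul_comm] at h1
    exact Nat.eq_of_mul_eq_mul_right (orderOf_pos x) h1
  have key : ∀ a ∈ H, ∀ b ∈ H, a ≠ 1 → b ≠ 1 → a * b = 1 := by
    intro a ha b hb ha1 hb1
    have h1 : (⟨a, hle ha⟩ : C) ∉ R := fun h => ha1 (hcon a ha h)
    have h2 : (⟨b, hle hb⟩ : C) ∉ R := fun h => hb1 (hcon b hb h)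
    have h3 : (⟨a, hle ha⟩ : C) * ⟨b, hle hb⟩ ∈ R := by
      rw [Subgroup.mul_mem_iff_of_index_two hRi]
      exact ⟨fun h => absurd h h1, fun h => absurd h h2⟩
    exact hcon _ (H.mul_mem ha hb) h3
  apply hH
  by_cases hb : H = ⊥
  · rw [hb]; infer_instance
  · obtain ⟨g, hg, hg1⟩ := Cfsg.Agent.Lib.CIT.exists_mem_ne_one hb
    refine ⟨⟨⟨g, hg⟩, ?_⟩⟩
    rintro ⟨y, hy⟩
    by_cases hy1 : y = 1
    · subst hy1
      exact (Subgroup.zpowers (⟨g, hg⟩ : H)).one_mem
    · have h1 := key g hg g hg hg1 hg1
      have h2 := key g hg y hy hg1 hy1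
      have h3 : y = g := mul_left_cancel (h2.trans h1.symm)
      subst h3
      exact Subgroup.mem_zpowers _

universe u

variable {F : Type u} [Field F] [Fintype F]

local notation "SL2" => Matrix.SpecialLinearGroup (Fin 2) F
local notation "M2" => Matrix (Fin 2) (Fin 2) F
local notation "PSL2" => Matrix.ProjectiveSpecialLinearGroup (Fin 2) F

theorem sq_one_of_tr_zero {A : SL2} (h : tr A = 0) : mk A * mk A = 1 := by
  rw [← mk_mul, mk_eq_one]
  right
  apply Subtype.ext
  have := sq_eq A
  rw [h, zero_smul, zero_sub] at this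
  rw [Matrix.SpecialLinearGroup.coe_mul, Matrix.SpecialLinearGroup.coe_neg, this]
  rfl

theorem cen_cyclic {A : SL2} (h : (2 : F) = 0 ∨ tr A ≠ 0) (h4 : tr A ^ 2 ≠ 4) : IsCyclic (cen (mk A)) := by
  have h1 := PSL2ClassSize.comap_of_tr_ne A h
  have h2 : IsCyclic (Subgroup.centralizer ({A} : Set SL2)) := by
    by_cases hr : ∀ x : F, x ^ 2 - tr A * x + 1 ≠ 0
    · exact (centralizer_of_no_root hr).1
    · push Not at hr
      obtain ⟨c, hc⟩ := hr
      exact (centralizer_of_root h4 hc).1
  have h3 : (Subgroup.centralizer ({A} : Set SL2)).map (QuotientGroup.mk' (Subgroup.center SL2)) = cen (mk A) := by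
    rw [← h1]
    exact Subgroup.map_comap_eq_self_of_surjective (QuotientGroup.mk'_surjective _) _
  rw [← h3]
  exact isCyclic_of_surjective ((QuotientGroup.mk' (Subgroup.center SL2)).subgroupMap _)
    ((QuotientGroup.mk' (Subgroup.center SL2)).subgroupMap_surjective _)

theorem cen_card_unip {A : SL2} (hA : A ∉ Subgroup.center SL2) (h4 : tr A ^ 2 = 4) :
    Nat.card (cen (mk A)) = Fintype.card F := by
  have hG := card_P2 (F := F) rfl
  have hidx := Subgroup.card_mul_index (cen (mk A))
  have hq1 : 1 < Fintype.card F := Fintype.one_lt_card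
  have hq2 : 0 < Fintype.card F ^ 2 - 1 := by
    have : 2 ^ 2 ≤ Fintype.card F ^ 2 := Nat.pow_le_pow_left hq1 2
    omega
  by_cases h2 : (2 : F) = 0
  · have h5 := PSL2ClassSize.index_unip_two h2 hA h4
    have hev : Even (Fintype.card F) := by
      by_contra ho
      exact two_ne (Nat.not_even_iff_odd.1 ho) h2
    have hgcd : Nat.gcd 2 (Fintype.card F - 1) = 1 := by
      have : Odd (Fintype.card F - 1) := Nat.Even.sub_odd hq1.le hev odd_one
      exact (Nat.coprime_two_left.2 this)
    rw [hgcd, one_mul] at hG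
    have h6 : Nat.card (cen (mk A)) * (Fintype.card F ^ 2 - 1) = Fintype.card F * (Fintype.card F ^ 2 - 1) := by
      rw [← h5, hidx, h5, ← hG]
    exact Nat.eq_of_mul_eq_mul_right hq2 h6
  · have h5 := PSL2ClassSize.index_unip_odd h2 hA h4
    have hodd : Odd (Fintype.card F) := by
      by_contra hev
      rw [Nat.not_odd_iff_even] at hev
      apply h2
      obtain ⟨p, hchar⟩ := CharP.exists F
      obtain ⟨f, hp, hpf⟩ := FiniteField.card F p
      have hp2 : p = 2 := by
        rw [hpf] at hev
        exact (hp.even_iff).1 (Nat.even_pow.1 hev).1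
      subst hp2
      exact_mod_cast CharP.cast_eq_zero F 2
    have hgcd : Nat.gcd 2 (Fintype.card F - 1) = 2 := by
      have : Even (Fintype.card F - 1) := Nat.Odd.sub_odd hodd odd_one
      exact Nat.gcd_eq_left this.two_dvd
    rw [hgcd] at hG
    have h7 : (Fintype.card F ^ 2 - 1) / 2 * 2 = Fintype.card F ^ 2 - 1 := by
      apply Nat.div_mul_cancel
      have : Even (Fintype.card F ^ 2 - 1) := Nat.Odd.sub_odd hodd.pow odd_one
      exact this.two_dvd
    have h6 : Nat.card (cen (mk A)) * (Fintype.card F ^ 2 - 1) = Fintype.card F * (Fintype.card F ^ 2 - 1) := by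
      rw [← hG]
      have h8 : Nat.card (MobCount.P2 F) = Nat.card (cen (mk A)) * ((Fintype.card F ^ 2 - 1) / 2) := by
        rw [← h5]; exact hidx.symm
      rw [h8]
      nth_rewrite 1 [← h7]
      ring
    exact Nat.eq_of_mul_eq_mul_right hq2 h6

/-- **converse** -/
theorem psl_SC (hF : Fintype.card F = 4 ∨ Fintype.card F = 9 ∨
    ((Fintype.card F).Prime ∧ ∃ k : ℕ, Fintype.card F = 2 ^ k + 1 ∨ Fintype.card F = 2 ^ k - 1)) : SC PSL2 := by
  classical
  intro H hH x hx
  by_cases hx1 : x = 1
  · rw [hx1]; exact one_mem _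
  have hHC : H ≤ cen x := by
    intro h hh
    rw [mem_cen]
    exact Subgroup.mem_centralizer_iff.1 hx h hh
  have hxC : x ∈ cen x := mem_cen.2 rfl
  obtain ⟨A, rfl⟩ := mk_surj x
  have hA := noncentral hx1
  by_cases h0 : (2 : F) = 0 ∨ tr A ≠ 0
  · by_cases h4 : tr A ^ 2 = 4
    · have hc := cen_card_unip hA h4
      rcases hF with h | h | ⟨h, -⟩
      · rw [eq_of_card_sq hH hHC Nat.prime_two (by rw [hc, h]; norm_num)]
        exact hxC
      · rw [eq_of_card_sq hH hHC Nat.prime_three (by rw [hc, h]; norm_num)]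
        exact hxC
      · exfalso
        haveI : Fact (Fintype.card F).Prime := ⟨h⟩
        exact not_cyc_of_le hH hHC (isCyclic_of_prime_card hc)
    · exact absurd (cen_cyclic h0 h4) (not_cyc_of_le hH hHC)
  · push Not at h0
    obtain ⟨h2, ht⟩ := h0
    have hodd : Odd (Fintype.card F) := by
      by_contra hev
      rw [Nat.not_odd_iff_even] at hev
      apply h2
      obtain ⟨p, hchar⟩ := CharP.exists F
      obtain ⟨f, hp, hpf⟩ := FiniteField.card F p
      have hp2 : p = 2 := by
        rw [hpf] at hev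
        exact (hp.even_iff).1 (Nat.even_pow.1 hev).1
      subst hp2
      exact_mod_cast CharP.cast_eq_zero F 2
    have hq1 : 1 < Fintype.card F := Fintype.one_lt_card
    have hq3 : 3 ≤ Fintype.card F := by
      obtain ⟨c, hc⟩ := hodd
      omega
    have hxx := sq_one_of_tr_zero ht
    obtain ⟨hd4, hcc, y, hy, hyo⟩ := cen_facts hodd hq3 hx1 hxx
    -- the order of the centralizer is a power of two
    have hpow : ∃ m : ℕ, Nat.card (cen (mk A)) = 2 ^ m := by
      rcases hF with h | h | ⟨h, k, hk⟩
      · exfalso; rw [h] at hodd; exact absurd hodd (by decide)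
      · rw [h] at hcc
        exact ⟨3, by omega⟩
      · have h2k : ∀ j : ℕ, 2 ≤ j → 4 ∣ 2 ^ j := fun j hj => by
          obtain ⟨i, rfl⟩ := Nat.exists_eq_add_of_le hj
          rw [pow_add]; exact dvd_mul_right _ _
        rcases hk with hk | hk
        · rcases hcc with hcc | hcc
          · exact ⟨k, by omega⟩
          · rcases Nat.lt_or_ge k 2 with h5 | h5
            · interval_cases k
              · simp at hk; omega
              · exact ⟨2, by omega⟩
            · exfalso
              have := h2k k h5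
              omega
        · rcases hcc with hcc | hcc
          · rcases Nat.lt_or_ge k 2 with h5 | h5
            · exfalso
              have h6 : k = 0 ∨ k = 1 := by omega
              rcases h6 with rfl | rfl
              · rw [pow_zero] at hk; omega
              · rw [pow_one] at hk; omega
            · exfalso
              have := h2k k h5
              omega
          · exact ⟨k, by omega⟩
    obtain ⟨m, hm⟩ := hpow
    obtain ⟨z, hzH, hzy, hz1⟩ := meets hH hHC hy hyo
    -- the involution of `⟨z⟩`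
    have hzo : ∃ i, orderOf z = 2 ^ (i + 1) := by
      have h5 : orderOf z ∣ 2 ^ m := by
        rw [← hm]
        exact Subgroup.orderOf_dvd_natCard _ (hHC hzH)
      obtain ⟨i, -, hi⟩ := (Nat.dvd_prime_pow Nat.prime_two).1 h5
      rcases i with _ | i
      · rw [pow_zero] at hi; exact absurd (orderOf_eq_one_iff.1 hi) hz1
      · exact ⟨i, hi⟩
    obtain ⟨i, hi⟩ := hzo
    set w := z ^ (2 ^ i) with hw
    have hww : w * w = 1 := by
      rw [hw, ← pow_add, ← two_mul, ← pow_succ', ← hi, pow_orderOf_eq_one]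
    have hw1 : w ≠ 1 := by
      intro h
      have h5 := orderOf_dvd_of_pow_eq_one h
      rw [hi] at h5
      have h6 := Nat.le_of_dvd (by positivity) h5
      rw [pow_succ] at h6
      have : 0 < 2 ^ i := by positivity
      omega
    have hwH : w ∈ H := H.pow_mem hzH _
    by_cases hwA : w = mk A
    · rw [← hwA]; exact hwH
    · have hwy : w ∈ Subgroup.zpowers y := pow_mem hzy _
      have hyw : y * w = w * y := by
        obtain ⟨j, hj⟩ := Subgroup.mem_zpowers_iff.1 hwy
        rw [← hj]
        exact (Commute.refl y).zpow_right j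
      have hyy := sq_of_comm_two h2 hw1 hww hx1 hxx hwA (mem_cen.1 (hHC hwH)) hyw (mem_cen.1 hy)
      have h5 : orderOf y ∣ 2 := orderOf_dvd_of_pow_eq_one (by rw [pow_two, hyy])
      have h6 := Nat.le_of_dvd (by norm_num) h5
      have h7 : Nat.card (cen (mk A)) = 2 ^ 2 := by
        have h8 : 0 < Nat.card (cen (mk A)) := Nat.card_pos
        have := Nat.le_of_dvd h8 hd4
        omega
      rw [eq_of_card_sq hH hHC Nat.prime_two h7]
      exact hxC

end Cfsg.Agent.Lib.SelfCent
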