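import Mathlib
import Cfsg.Agent.Lib.InvSub
import Cfsg.Agent.Lib.PrimeOrd

/-! Reflexive sesquilinear forms over finite fields: orthogonal complements. (helper99) -/

set_option autoImplicit false

namespace Cfsg.Agent.Lib.Sesq

open Polynomial Module Cfsg.Agent.Lib.InvSub Cfsg.Agent.Lib.PrimeOrd

variable {F V : Type*} [Field F] [AddCommGroup V] [Module F V] {σ : F →+* F}

/-- reflexive forms -/
def Refl (B : V →ₗ[F] V →ₛₗ[σ] F) : Prop := ∀ u v, B u v = 0 → B v u = 0

/-- the orthogonal complement -/
def perp (B : V →ₗ[F] V →ₛₗ[σ] F) (W : Submodule F V) : Submodule F V where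
  carrier := {v | ∀ w ∈ W, B w v = 0}
  add_mem' := fun {a b} ha hb w hw => by rw [map_add, ha w hw, hb w hw, add_zero]
  zero_mem' := fun w _ => map_zero _
  smul_mem' := fun c a ha w hw => by rw [LinearMap.map_smulₛₗ, ha w hw, smul_zero]

lemma mem_perp {B : V →ₗ[F] V →ₛₗ[σ] F} {W : Submodule F V} {v : V} : v ∈ perp B W ↔ ∀ w ∈ W, B w v = 0 := Iff.rfl

/-- nondegenerate subspaces -/
def ND (B : V →ₗ[F] V →ₛₗ[σ] F) (W : Submodule F V) : Prop := ∀ w ∈ W, (∀ w' ∈ W, B w w' = 0) → w = 0

/-- totally isotropic subspaces -/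
def TI (B : V →ₗ[F] V →ₛₗ[σ] F) (W : Submodule F V) : Prop := ∀ u ∈ W, ∀ v ∈ W, B u v = 0

lemma perp_mono {B : V →ₗ[F] V →ₛₗ[σ] F} {W W' : Submodule F V} (h : W ≤ W') : perp B W' ≤ perp B W :=
  fun _ hv w hw => hv w (h hw)

lemma perp_bot (B : V →ₗ[F] V →ₛₗ[σ] F) : perp B ⊥ = ⊤ := by
  rw [eq_top_iff]
  intro v _ w hw
  rw [(Submodule.mem_bot F).mp hw, map_zero]; rfl

lemma ti_iff {B : V →ₗ[F] V →ₛₗ[σ] F} {W : Submodule F V} : TI B W ↔ W ≤ perp B W :=
  ⟨fun h v hv w hw => h w hw v hv, fun h u hu v hv => h hv u hu⟩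

variable {B : V →ₗ[F] V →ₛₗ[σ] F}

lemma nd_iff (hB : Refl B) {W : Submodule F V} : ND B W ↔ W ⊓ perp B W = ⊥ := by
  constructor
  · intro h
    rw [eq_bot_iff]
    rintro v ⟨hv, hv'⟩
    exact (Submodule.mem_bot F).mpr (h v hv (fun w hw => hB _ _ (hv' w hw)))
  · intro h v hv hv'
    have : v ∈ W ⊓ perp B W := ⟨hv, fun w hw => hB _ _ (hv' w hw)⟩
    rw [h] at this
    exact (Submodule.mem_bot F).mp this

lemma le_perp_perp (hB : Refl B) (W : Submodule F V) : W ≤ perp B (perp B W) :=
  fun _ hv _ hw => hB _ _ (hw _ hv)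

lemma perp_sup (B : V →ₗ[F] V →ₛₗ[σ] F) (U W : Submodule F V) : perp B (U ⊔ W) = perp B U ⊓ perp B W := by
  apply le_antisymm
  · exact le_inf (perp_mono le_sup_left) (perp_mono le_sup_right)
  · rintro v ⟨h1, h2⟩ w hw
    obtain ⟨a, ha, b, hb, rfl⟩ := Submodule.mem_sup.mp hw
    rw [map_add, LinearMap.add_apply, h1 a ha, h2 b hb, add_zero]

section dim

variable [Finite F] [FiniteDimensional F V]

theorem finrank_le_add_perp (B : V →ₗ[F] V →ₛₗ[σ] F) (W : Submodule F V) :
    finrank F V ≤ finrank F W + finrank F (perp B W) := by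
  classical
  have hFf : Fintype F := Fintype.ofFinite F
  have hVfin : Finite V := Module.finite_of_finite F
  have hWfin : Finite W := Module.finite_of_finite F
  have hDfin : Finite (Module.Dual F W) := Module.finite_of_finite F
  let Φ : V →+ Module.Dual F W :=
    { toFun := fun v =>
        { toFun := fun w => B w v
          map_add' := fun a b => by
            rw [Submodule.coe_add, map_add]; rfl
          map_smul' := fun c a => by
            rw [Submodule.coe_smul, map_smul]; rfl }
      map_zero' := by apply LinearMap.ext; intro w; exact map_zero (B (w : V))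
      map_add' := fun a b => by apply LinearMap.ext; intro w; exact map_add (B (w : V)) a b }
  have hΦ : ∀ v w, Φ v w = B (w : V) v := fun v w => rfl
  have hker : Φ.ker = (perp B W).toAddSubgroup := by
    ext v
    rw [AddMonoidHom.mem_ker]
    constructor
    · intro h w hw
      have := congrArg (fun f : Module.Dual F W => f ⟨w, hw⟩) h
      exact this
    · intro h
      apply LinearMap.ext
      intro w
      exact h w w.2
  have h1 : Nat.card V = Nat.card Φ.ker * Nat.card Φ.range := by
    rw [Nat.card_congr (QuotientAddGroup.quotientKerEquivRange Φ).toEquiv.symm, mul_comm]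
    exact (AddSubgroup.card_eq_card_quotient_mul_card_addSubgroup Φ.ker)
  have h2 : Nat.card Φ.range ≤ Nat.card (Module.Dual F W) := Nat.card_le_card_of_injective _ Subtype.val_injective
  have hq : 1 < Nat.card F := Finite.one_lt_card
  have h3 : Nat.card Φ.ker = Nat.card F ^ finrank F (perp B W) := by
    rw [hker]
    exact Module.natCard_eq_pow_finrank (K := F) (V := perp B W)
  rw [h3, Module.natCard_eq_pow_finrank (K := F) (V := V)] at h1
  rw [Module.natCard_eq_pow_finrank (K := F) (V := Module.Dual F W), Subspace.dual_finrank_eq] at h2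
  have h4 : Nat.card F ^ finrank F V ≤ Nat.card F ^ (finrank F W + finrank F (perp B W)) := by
    rw [h1, pow_add, mul_comm]
    exact Nat.mul_le_mul_right _ h2
  exact (Nat.pow_le_pow_iff_right hq).mp h4

theorem finrank_add_perp (hB : ND B ⊤) (W : Submodule F V) :
    finrank F W + finrank F (perp B W) = finrank F V := by
  classical
  apply le_antisymm _ (finrank_le_add_perp B W)
  have hFf : Fintype F := Fintype.ofFinite F
  have hVfin : Finite V := Module.finite_of_finite F
  have hWfin : Finite W := Module.finite_of_finite F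
  let τ : F ≃+* F := RingEquiv.ofBijective σ (Finite.injective_iff_bijective.mp σ.injective)
  have hτ : ∀ a, τ a = σ a := fun a => rfl
  -- functionals
  let X := V ⧸ perp B W
  have hXfin : Finite (Module.Dual F X) := Module.finite_of_finite F
  let ψ : W → Module.Dual F X := fun w => (perp B W).liftQ
    { toFun := fun v => τ.symm (B w v)
      map_add' := fun a b => by rw [map_add, map_add]
      map_smul' := fun c a => by
        rw [LinearMap.map_smulₛₗ, smul_eq_mul, map_mul, ← hτ, RingEquiv.symm_apply_apply]; rfl }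
    (by
      intro v hv
      rw [LinearMap.mem_ker]
      change τ.symm (B w v) = 0
      rw [hv w w.2, map_zero])
  have hψ : ∀ w v, ψ w (Submodule.Quotient.mk v) = τ.symm (B (w : V) v) := fun w v => rfl
  have hinj : Function.Injective ψ := by
    intro a b hab
    have h1 : ∀ v, B (a : V) v = B (b : V) v := by
      intro v
      have := congrArg (fun f : Module.Dual F X => f (Submodule.Quotient.mk v)) hab
      simp only [hψ] at this
      exact τ.symm.injective this
    apply Subtype.ext
    have h2 : (a : V) - b = 0 := by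
      apply hB _ Submodule.mem_top
      intro v _
      rw [map_sub, LinearMap.sub_apply, h1, sub_self]
    exact sub_eq_zero.mp h2
  have h2 := Nat.card_le_card_of_injective ψ hinj
  rw [Module.natCard_eq_pow_finrank (K := F) (V := W), Module.natCard_eq_pow_finrank (K := F) (V := Module.Dual F X),
    Subspace.dual_finrank_eq] at h2
  have hq : 1 < Nat.card F := Finite.one_lt_card
  have h3 := (Nat.pow_le_pow_iff_right hq).mp h2
  have h4 : finrank F X + finrank F (perp B W) = finrank F V := Submodule.finrank_quotient_add_finrank (perp B W)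
  omega

theorem isCompl_perp (hr : Refl B) {W : Submodule F V} (hW : ND B W) : IsCompl W (perp B W) := by
  have h1 := (nd_iff hr).mp hW
  refine ⟨disjoint_iff.mpr h1, codisjoint_iff.mpr ?_⟩
  apply Submodule.eq_top_of_finrank_eq
  have h2 := Submodule.finrank_sup_add_finrank_inf_eq W (perp B W)
  rw [h1, finrank_bot] at h2
  have h3 := finrank_le_add_perp B W
  have h4 := Submodule.finrank_le (W ⊔ perp B W)
  omega

theorem perp_perp (hr : Refl B) (hB : ND B ⊤) (W : Submodule F V) : perp B (perp B W) = W := by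
  symm
  apply Submodule.eq_of_le_of_finrank_eq (le_perp_perp hr W)
  have h1 := finrank_add_perp hB W
  have h2 := finrank_add_perp hB (perp B W)
  omega

theorem nd_perp (hr : Refl B) (hB : ND B ⊤) {W : Submodule F V} (hW : ND B W) : ND B (perp B W) := by
  rw [nd_iff hr, perp_perp hr hB, inf_comm]
  exact (nd_iff hr).mp hW

end dim

/-- orthogonal sums of nondegenerate subspaces -/
theorem nd_sup (hr : Refl B) {U W : Submodule F V} (hU : ND B U) (hW : ND B W) (h : ∀ u ∈ U, ∀ w ∈ W, B u w = 0) :
    ND B (U ⊔ W) := by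
  intro v hv hv'
  obtain ⟨a, ha, b, hb, rfl⟩ := Submodule.mem_sup.mp hv
  have h1 : a = 0 := by
    apply hU a ha
    intro u hu
    have := hv' u (Submodule.mem_sup_left hu)
    rwa [map_add, LinearMap.add_apply, hr _ _ (h u hu b hb), add_zero] at this
  have h2 : b = 0 := by
    apply hW b hb
    intro u hu
    have := hv' u (Submodule.mem_sup_right hu)
    rwa [map_add, LinearMap.add_apply, h a ha u hu, zero_add] at this
  rw [h1, h2, add_zero]

/-- if `U ⊔ W` is nondegenerate and `U ⊥ W` then `U` is nondegenerate -/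
theorem nd_left {U W : Submodule F V} (hUW : ND B (U ⊔ W)) (h : ∀ u ∈ U, ∀ w ∈ W, B u w = 0) : ND B U := by
  intro u hu hu'
  apply hUW u (Submodule.mem_sup_left hu)
  intro v hv
  obtain ⟨a, ha, b, hb, rfl⟩ := Submodule.mem_sup.mp hv
  rw [map_add, hu' a ha, h u hu b hb, add_zero]

/-- isometries -/
def Iso (B : V →ₗ[F] V →ₛₗ[σ] F) (T : Module.End F V) : Prop := ∀ u v, B (T u) (T v) = B u v

lemma Iso.mul {S T : Module.End F V} (hS : Iso B S) (hT : Iso B T) : Iso B (S * T) :=
  fun u v => by rw [Module.End.mul_apply, Module.End.mul_apply, hS, hT]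

lemma Iso.one : Iso B 1 := fun _ _ => rfl

lemma Iso.pow {T : Module.End F V} (hT : Iso B T) (k : ℕ) : Iso B (T ^ k) := by
  induction k with
  | zero => exact Iso.one
  | succ k ih => rw [pow_succ]; exact ih.mul hT

lemma Iso.injective (hB : ND B ⊤) {T : Module.End F V} (hT : Iso B T) : Function.Injective T := by
  rw [← LinearMap.ker_eq_bot, eq_bot_iff]
  intro v hv
  rw [LinearMap.mem_ker] at hv
  apply (Submodule.mem_bot F).mpr
  apply hB v Submodule.mem_top
  intro w _
  rw [← hT, hv, map_zero]; rfl

lemma Iso.map_eq [FiniteDimensional F V] (hB : ND B ⊤) {T : Module.End F V} (hT : Iso B T) {W : Submodule F V} (hW : Inv T W) :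
    W.map T = W := by
  apply Submodule.eq_of_le_of_finrank_eq
  · exact inv_iff_map_le.mp hW
  · exact (LinearEquiv.finrank_eq (Submodule.equivMapOfInjective T (hT.injective hB) W)).symm

/-- the complement of an invariant subspace is invariant -/
theorem Iso.inv_perp [FiniteDimensional F V] (hB : ND B ⊤) {T : Module.End F V} (hT : Iso B T) {W : Submodule F V} (hW : Inv T W) :
    Inv T (perp B W) := by
  intro v hv w hw
  have h1 : w ∈ W.map T := by rw [hT.map_eq hB hW]; exact hw
  obtain ⟨w', hw', rfl⟩ := h1
  rw [hT]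
  exact hv w' hw'

end Cfsg.Agent.Lib.Sesq
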