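import Mathlib
import Cfsg.Agent.Lib.Sesq

/-! Splitting off nondegenerate invariant subspaces; systems of planes in symplectic spaces. (helper99) -/

set_option autoImplicit false

namespace Cfsg.Agent.Lib.Sesq

open Polynomial Module Cfsg.Agent.Lib.InvSub Cfsg.Agent.Lib.PrimeOrd

section general

variable {F V : Type*} [Field F] [AddCommGroup V] [Module F V] {σ : F →+* F} {B : V →ₗ[F] V →ₛₗ[σ] F}

section dim
variable [Finite F] [FiniteDimensional F V]

/-- splitting a nondegenerate subspace -/
theorem split_nd (hr : Refl B) {W H : Submodule F V} (hW : ND B W) (hH : ND B H) (hHW : H ≤ W) :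
    H ⊔ (W ⊓ perp B H) = W ∧ Disjoint H (W ⊓ perp B H) ∧ finrank F H + finrank F ↥(W ⊓ perp B H) = finrank F W ∧
      ND B (W ⊓ perp B H) := by
  have hc := isCompl_perp hr hH
  have h1 : H ⊔ (W ⊓ perp B H) = W := by
    rw [inf_comm, ← sup_inf_assoc_of_le _ hHW, hc.sup_eq_top, top_inf_eq]
  have h2 : Disjoint H (W ⊓ perp B H) := hc.disjoint.mono_right inf_le_right
  refine ⟨h1, h2, ?_, ?_⟩
  · have h3 := Submodule.finrank_sup_add_finrank_inf_eq H (W ⊓ perp B H)
    rw [h1, disjoint_iff.mp h2, finrank_bot] at h3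
    omega
  · have h4 : ND B ((W ⊓ perp B H) ⊔ H) := by rw [sup_comm, h1]; exact hW
    exact nd_left h4 (fun u hu w hw => hr _ _ (hu.2 w hw))

end dim

lemma inv_inf {T : Module.End F V} {U W : Submodule F V} (hU : Inv T U) (hW : Inv T W) : Inv T (U ⊓ W) :=
  fun x hx => ⟨hU x hx.1, hW x hx.2⟩

lemma inv_sup {T : Module.End F V} {U W : Submodule F V} (hU : Inv T U) (hW : Inv T W) : Inv T (U ⊔ W) := by
  intro x hx
  obtain ⟨a, ha, b, hb, rfl⟩ := Submodule.mem_sup.mp hx
  rw [map_add]
  exact Submodule.add_mem_sup (hU a ha) (hW b hb)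

end general

section alt

variable {F V : Type*} [Field F] [AddCommGroup V] [Module F V] {B : V →ₗ[F] V →ₗ[F] F}

/-- alternating forms -/
def Alt (B : V →ₗ[F] V →ₗ[F] F) : Prop := ∀ v, B v v = 0

lemma Alt.skew (hB : Alt B) (u v : V) : B u v = - B v u := by
  have h := hB (u + v)
  simp only [map_add, LinearMap.add_apply, hB u, hB v, zero_add, add_zero] at h
  exact eq_neg_of_add_eq_zero_right h

lemma Alt.refl (hB : Alt B) : Refl (σ := RingHom.id F) B := fun u v h => by rw [hB.skew, h, neg_zero]

lemma nd_pair (hB : Alt B) {v w : V} (h : B v w ≠ 0) : ND (σ := RingHom.id F) B (Submodule.span F {v, w}) := by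
  intro x hx hx'
  obtain ⟨a, b, rfl⟩ := Submodule.mem_span_pair.mp hx
  have h1 := hx' v (Submodule.subset_span (by simp))
  have h2 := hx' w (Submodule.subset_span (by simp))
  rw [map_add, LinearMap.add_apply, map_smul, map_smul, LinearMap.smul_apply, LinearMap.smul_apply, hB, smul_zero, zero_add,
    hB.skew, smul_eq_mul] at h1
  rw [map_add, LinearMap.add_apply, map_smul, map_smul, LinearMap.smul_apply, LinearMap.smul_apply, hB, smul_zero, add_zero,
    smul_eq_mul] at h2
  have hb : b = 0 := (mul_eq_zero.mp h1).resolve_right (neg_ne_zero.mpr h)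
  have ha : a = 0 := (mul_eq_zero.mp h2).resolve_right h
  rw [ha, hb, zero_smul, zero_smul, add_zero]

lemma li_pair (hB : Alt B) {v w : V} (h : B v w ≠ 0) : LinearIndependent F ![v, w] := by
  rw [LinearIndependent.pair_iff]
  intro a b hab
  have h1 := congrArg (fun x => B x w) hab
  have h2 := congrArg (fun x => B v x) hab
  simp only [map_add, LinearMap.add_apply, map_smul, LinearMap.smul_apply, hB v, hB w, mul_zero, zero_add, add_zero, map_zero,
    LinearMap.zero_apply, smul_eq_mul] at h1 h2
  exact ⟨(mul_eq_zero.mp h1).resolve_right h, (mul_eq_zero.mp h2).resolve_right h⟩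

lemma finrank_pair (hB : Alt B) {v w : V} (h : B v w ≠ 0) : finrank F (Submodule.span F {v, w}) = 2 := by
  have := finrank_span_eq_card (li_pair hB h)
  rw [Fintype.card_fin] at this
  have h2 : Set.range ![v, w] = {v, w} := by
    rw [Matrix.range_cons, Matrix.range_cons, Matrix.range_empty, Set.union_empty, Set.singleton_union]
  rw [h2] at this
  exact this

/-- a system of orthogonal planes -/
structure PSys (B : V →ₗ[F] V →ₗ[F] F) (P : V → V → Prop) {m : ℕ} (v w : Fin m → V) : Prop where
  ne : ∀ j, B (v j) (w j) ≠ 0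
  p : ∀ j, P (v j) (w j)
  vv : ∀ j k, B (v j) (v k) = 0
  ww : ∀ j k, B (w j) (w k) = 0
  vw : ∀ j k, j ≠ k → B (v j) (w k) = 0

theorem exists_psys_aux [Finite F] [FiniteDimensional F V] (hB : Alt B) (hnd : ND (σ := RingHom.id F) B ⊤) {T : Module.End F V}
    (hT : Iso (σ := RingHom.id F) B T) {P : V → V → Prop}
    (hP : ∀ v w, P v w → T v ∈ Submodule.span F {v, w} ∧ T w ∈ Submodule.span F {v, w})
    (H : ∀ W, Inv T W → ND (σ := RingHom.id F) B W → W ≠ ⊥ → ∃ v ∈ W, ∃ w ∈ W, B v w ≠ 0 ∧ P v w) (m : ℕ) :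
    ∀ W : Submodule F V, Inv T W → ND (σ := RingHom.id F) B W → finrank F W = 2 * m → 
      ∃ v w : Fin m → V, (∀ j, v j ∈ W) ∧ (∀ j, w j ∈ W) ∧ PSys B P v w := by
  induction m with
  | zero =>
    intro W _ _ _
    exact ⟨Fin.elim0, Fin.elim0, fun j => j.elim0, fun j => j.elim0, ⟨fun j => j.elim0, fun j => j.elim0,
      fun j => j.elim0, fun j => j.elim0, fun j => j.elim0⟩⟩
  | succ m ih =>
    intro W hW hWnd hfin
    have hne : W ≠ ⊥ := by
      rintro rfl
      rw [finrank_bot] at hfin; omega
    obtain ⟨v, hv, w, hw, hvw, hPvw⟩ := H W hW hWnd hne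
    have hHnd := nd_pair hB hvw
    have hHW : Submodule.span F {v, w} ≤ W := by
      rw [Submodule.span_le]
      rintro x (rfl | rfl)
      · exact hv
      · exact hw
    have hHinv : Inv T (Submodule.span F {v, w}) := by
      intro x hx
      obtain ⟨a, b, rfl⟩ := Submodule.mem_span_pair.mp hx
      rw [map_add, map_smul, map_smul]
      exact Submodule.add_mem _ (Submodule.smul_mem _ _ (hP v w hPvw).1) (Submodule.smul_mem _ _ (hP v w hPvw).2)
    obtain ⟨-, -, h3, h4⟩ := split_nd hB.refl hWnd hHnd hHW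
    rw [finrank_pair hB hvw] at h3
    obtain ⟨v', w', hv', hw', hs⟩ := ih _ (inv_inf hW (hT.inv_perp hnd hHinv)) h4 (by omega)
    have hvH : v ∈ Submodule.span F {v, w} := Submodule.subset_span (by simp)
    have hwH : w ∈ Submodule.span F {v, w} := Submodule.subset_span (by simp)
    refine ⟨Fin.cons v v', Fin.cons w w', ?_, ?_, ?_, ?_, ?_, ?_, ?_⟩
    · intro j; refine Fin.cases hv (fun j => (hv' j).1) j
    · intro j; refine Fin.cases hw (fun j => (hw' j).1) j
    · intro j; refine Fin.cases hvw (fun j => hs.ne j) j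
    · intro j; refine Fin.cases hPvw (fun j => hs.p j) j
    · intro j k
      refine Fin.cases ?_ (fun j => ?_) j <;> refine Fin.cases ?_ (fun k => ?_) k
      · exact hB v
      · exact (hv' k).2 v hvH
      · change B (v' j) v = 0
        rw [hB.skew]; rw [(hv' j).2 v hvH, neg_zero]
      · exact hs.vv j k
    · intro j k
      refine Fin.cases ?_ (fun j => ?_) j <;> refine Fin.cases ?_ (fun k => ?_) k
      · exact hB w
      · exact (hw' k).2 w hwH
      · change B (w' j) w = 0
        rw [hB.skew]; rw [(hw' j).2 w hwH, neg_zero]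
      · exact hs.ww j k
    · intro j k
      refine Fin.cases ?_ (fun j => ?_) j <;> refine Fin.cases ?_ (fun k => ?_) k
      · intro h; exact absurd rfl h
      · intro _; exact (hw' k).2 v hvH
      · intro _
        change B (v' j) w = 0
        rw [hB.skew]; rw [(hv' j).2 w hwH, neg_zero]
      · intro h; exact hs.vw j k (fun h' => h (by rw [h']))

theorem exists_psys [Finite F] [FiniteDimensional F V] (hB : Alt B) (hnd : ND (σ := RingHom.id F) B ⊤) {T : Module.End F V}
    (hT : Iso (σ := RingHom.id F) B T) {P : V → V → Prop}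
    (hP : ∀ v w, P v w → T v ∈ Submodule.span F {v, w} ∧ T w ∈ Submodule.span F {v, w})
    (H : ∀ W, Inv T W → ND (σ := RingHom.id F) B W → W ≠ ⊥ → ∃ v ∈ W, ∃ w ∈ W, B v w ≠ 0 ∧ P v w) {m : ℕ}
    (hm : finrank F V = 2 * m) : ∃ v w : Fin m → V, PSys B P v w := by
  obtain ⟨v, w, -, -, h⟩ := exists_psys_aux hB hnd hT hP H m ⊤ inv_top hnd (by rw [finrank_top, hm])
  exact ⟨v, w, h⟩

variable {P : V → V → Prop} {m : ℕ} {v w : Fin m → V}

lemma PSys.li (h : PSys B P v w) : LinearIndependent F (Sum.elim v w) := by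
  rw [Fintype.linearIndependent_iff]
  intro g hg
  rw [Fintype.sum_sum_type] at hg
  simp only [Sum.elim_inl, Sum.elim_inr] at hg
  intro i
  rcases i with j | j
  · have h1 := congrArg (fun x => B x (w j)) hg
    simp only [map_add, LinearMap.add_apply, map_sum, LinearMap.sum_apply, map_smul, LinearMap.smul_apply, map_zero,
      LinearMap.zero_apply, smul_eq_mul, h.ww, mul_zero, Finset.sum_const_zero, add_zero] at h1
    rw [Finset.sum_eq_single j (fun k _ hk => by rw [h.vw k j hk, mul_zero]) (fun hj => absurd (Finset.mem_univ j) hj)] at h1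
    exact (mul_eq_zero.mp h1).resolve_right (h.ne j)
  · have h1 := congrArg (fun x => B (v j) x) hg
    simp only [map_add, map_sum, map_smul, map_zero, smul_eq_mul, h.vv, mul_zero, Finset.sum_const_zero, zero_add] at h1
    rw [Finset.sum_eq_single j (fun k _ hk => by rw [h.vw j k (Ne.symm hk), mul_zero])
      (fun hj => absurd (Finset.mem_univ j) hj)] at h1
    exact (mul_eq_zero.mp h1).resolve_right (h.ne j)

/-- the basis given by a full system of planes -/
noncomputable def PSys.basis (h : PSys B P v w) [FiniteDimensional F V] (hm : finrank F V = 2 * m) :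
    Basis (Fin m ⊕ Fin m) F V :=
  basisOfLinearIndependentOfCardEqFinrank' _ h.li (by
    rw [hm, Fintype.card_sum, Fintype.card_fin]; ring)

lemma PSys.basis_inl (h : PSys B P v w) [FiniteDimensional F V] (hm : finrank F V = 2 * m) (j : Fin m) :
    h.basis hm (Sum.inl j) = v j := by
  simp [PSys.basis]

lemma PSys.basis_inr (h : PSys B P v w) [FiniteDimensional F V] (hm : finrank F V = 2 * m) (j : Fin m) :
    h.basis hm (Sum.inr j) = w j := by
  simp [PSys.basis]

end alt

end Cfsg.Agent.Lib.Sesq
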