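import Mathlib
import Cfsg.Agent.Lib.Sesq2
import Cfsg.Agent.Lib.AltSim4
import Cfsg.Prelude.Def_ClassicalGeometry

/-! Involutions of symplectic groups in odd characteristic. (helper99) -/

set_option autoImplicit false

namespace Cfsg.Agent.Lib.Sesq

open Polynomial Module Cfsg.Agent.Lib.InvSub Cfsg.Agent.Lib.PrimeOrd

variable {F V : Type*} [Field F] [AddCommGroup V] [Module F V] {B : V →ₗ[F] V →ₗ[F] F}

lemma ti_span {σ : F →+* F} {B : V →ₗ[F] V →ₛₗ[σ] F} {s : Set V} (h : ∀ a ∈ s, ∀ b ∈ s, B a b = 0) :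
    TI B (Submodule.span F s) := by
  intro u hu
  induction hu using Submodule.span_induction with
  | mem a ha =>
    intro v hv
    induction hv using Submodule.span_induction with
    | mem b hb => exact h a ha b hb
    | zero => exact map_zero _
    | add b c _ _ hb hc => rw [map_add, hb, hc, add_zero]
    | smul c b _ hb => rw [LinearMap.map_smulₛₗ, hb, smul_zero]
  | zero => intro v _; rw [map_zero]; rfl
  | add a b _ _ ha hb => intro v hv; rw [map_add, LinearMap.add_apply, ha v hv, hb v hv, add_zero]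
  | smul c a _ ha => intro v hv; rw [map_smul, LinearMap.smul_apply, ha v hv, smul_zero]

section sys

variable {P : V → V → Prop} {m : ℕ} {v w : Fin m → V}

lemma PSys.isCompl (h : PSys B P v w) [FiniteDimensional F V] (hm : finrank F V = 2 * m) :
    IsCompl (Submodule.span F (Set.range v)) (Submodule.span F (Set.range w)) := by
  have hl := h.li
  have hv : Set.range v = Sum.elim v w '' (Set.range Sum.inl) := by
    rw [← Set.range_comp]; rfl
  have hw : Set.range w = Sum.elim v w '' (Set.range Sum.inr) := by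
    rw [← Set.range_comp]; rfl
  constructor
  · rw [hv, hw]
    exact hl.disjoint_span_image Set.isCompl_range_inl_range_inr.disjoint
  · rw [codisjoint_iff, ← Submodule.span_union]
    have h1 : Set.range v ∪ Set.range w = Set.range (h.basis hm) := by
      ext x
      constructor
      · rintro (⟨j, rfl⟩ | ⟨j, rfl⟩)
        · exact ⟨Sum.inl j, h.basis_inl hm j⟩
        · exact ⟨Sum.inr j, h.basis_inr hm j⟩
      · rintro ⟨j | j, rfl⟩
        · left; exact ⟨j, (h.basis_inl hm j).symm⟩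
        · right; exact ⟨j, (h.basis_inr hm j).symm⟩
    rw [h1]
    exact (h.basis hm).span_eq

lemma PSys.ti_v (h : PSys B P v w) : TI (σ := RingHom.id F) B (Submodule.span F (Set.range v)) :=
  ti_span (by rintro _ ⟨j, rfl⟩ _ ⟨k, rfl⟩; exact h.vv j k)

lemma PSys.ti_w (h : PSys B P v w) : TI (σ := RingHom.id F) B (Submodule.span F (Set.range w)) :=
  ti_span (by rintro _ ⟨j, rfl⟩ _ ⟨k, rfl⟩; exact h.ww j k)

end sys

/-- involutory isometries -/
theorem plane_one (h2 : (2 : F) ≠ 0) {T : Module.End F V} (hT : Iso (σ := RingHom.id F) B T) (hTT : T * T = 1)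
    {W : Submodule F V} (hW : Inv T W) (hWnd : ND (σ := RingHom.id F) B W) (hne : W ≠ ⊥) :
    ∃ v ∈ W, ∃ w ∈ W, B v w ≠ 0 ∧ ∃ ε : F, ε ^ 2 = 1 ∧ T v = ε • v ∧ T w = ε • w := by
  have hTTv : ∀ u, T (T u) = u := fun u => congrArg (fun f : Module.End F V => f u) hTT
  obtain ⟨u, hu, hu0⟩ := Submodule.exists_mem_ne_zero_of_ne_bot hne
  have : ∃ v ∈ W, v ≠ 0 ∧ ∃ ε : F, ε ^ 2 = 1 ∧ T v = ε • v := by
    by_cases h : u + T u = 0
    · refine ⟨u, hu, hu0, -1, by ring, ?_⟩
      rw [neg_smul, one_smul]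
      exact eq_neg_of_add_eq_zero_right h
    · refine ⟨u + T u, W.add_mem hu (hW u hu), h, 1, by ring, ?_⟩
      rw [map_add, hTTv, one_smul, add_comm]
  obtain ⟨v, hv, hv0, ε, hε, hTv⟩ := this
  have : ∃ w' ∈ W, B v w' ≠ 0 := by
    by_contra hcon
    push Not at hcon
    exact hv0 (hWnd v hv hcon)
  obtain ⟨w', hw', hvw'⟩ := this
  refine ⟨v, hv, w' + ε • T w', W.add_mem hw' (W.smul_mem _ (hW w' hw')), ?_, ε, hε, hTv, ?_⟩
  · have h1 : B v (T w') = ε * B v w' := by
      have h3 := hT v w'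
      rw [hTv, map_smul, LinearMap.smul_apply, smul_eq_mul] at h3
      rw [← h3]
      linear_combination (-(B v) (T w')) * hε
    rw [map_add, map_smul, smul_eq_mul, h1]
    have h3 : B v w' + ε * (ε * B v w') = 2 * B v w' := by linear_combination (B v w') * hε
    rw [h3]
    exact mul_ne_zero h2 hvw'
  · rw [map_add, map_smul, hTTv, smul_add, smul_smul, ← pow_two, hε, one_smul, add_comm]

theorem plane_neg (hB : Alt B) (h2 : (2 : F) ≠ 0) {T : Module.End F V} (hT : Iso (σ := RingHom.id F) B T) (hTT : T * T = -1)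
    {W : Submodule F V} (hW : Inv T W) (hWnd : ND (σ := RingHom.id F) B W) (hne : W ≠ ⊥) :
    ∃ v ∈ W, ∃ w ∈ W, B v w ≠ 0 ∧ T v = w ∧ T w = -v := by
  have hTTv : ∀ u, T (T u) = -u := fun u => congrArg (fun f : Module.End F V => f u) hTT
  by_contra hcon
  push Not at hcon
  have h0 : ∀ v ∈ W, B v (T v) = 0 := by
    intro v hv
    by_contra h
    exact hcon v hv (T v) (hW v hv) h rfl (hTTv v)
  obtain ⟨v, hv, hv0⟩ := Submodule.exists_mem_ne_zero_of_ne_bot hne
  have h1 : ∀ u ∈ W, B (T v) u = 0 := by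
    intro u hu
    have h3 := h0 (u + v) (W.add_mem hu hv)
    simp only [map_add, LinearMap.add_apply] at h3
    rw [h0 u hu, h0 v hv, zero_add, add_zero] at h3
    have h4 : B v (T u) = B u (T v) := by
      rw [← hT v (T u), hTTv, map_neg, hB.skew, neg_neg]
    rw [h4] at h3
    have h5 : (2 : F) * B u (T v) = 0 := by linear_combination h3
    rw [hB.skew, (mul_eq_zero.mp h5).resolve_left h2, neg_zero]
  have h6 := hWnd (T v) (hW v hv) h1
  apply hv0
  have := hTTv v
  rw [h6, map_zero] at this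
  exact neg_eq_zero.mp this.symm

lemma jb_alt (m : ℕ) : Alt (Cfsg.Agent.Lib.AltSim.JB (F := F) m) := Cfsg.Agent.Lib.AltSim.JB_alt m

lemma jb_nd (m : ℕ) : ND (σ := RingHom.id F) (Cfsg.Agent.Lib.AltSim.JB (F := F) m) ⊤ :=
  fun w _ h => Cfsg.Agent.Lib.AltSim.JB_nondeg m w (fun v => h v Submodule.mem_top)

lemma jb_eq (m : ℕ) (u v : Fin m ⊕ Fin m → F) : Cfsg.Agent.Lib.AltSim.JB m u v = Cfsg.sympForm m F u v := rfl

lemma jb_iso {m : ℕ} {A : Matrix (Fin m ⊕ Fin m) (Fin m ⊕ Fin m) F} (hA : A ∈ Matrix.symplecticGroup (Fin m) F) :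
    Iso (σ := RingHom.id F) (Cfsg.Agent.Lib.AltSim.JB (F := F) m) (Matrix.toLin' A) := by
  intro u v
  rw [Matrix.toLin'_apply, Matrix.toLin'_apply]
  exact Cfsg.Agent.Lib.AltSim.JB_symp m hA u v

lemma finrank_jb (m : ℕ) : finrank F (Fin m ⊕ Fin m → F) = 2 * m := by
  rw [finrank_pi, Fintype.card_sum, Fintype.card_fin]; ring

/-- the scalar of `x²` is `±1` -/
lemma sq_scalar (hnd : ND (σ := RingHom.id F) B ⊤) [Nontrivial V] {T : Module.End F V} (hT : Iso (σ := RingHom.id F) B T)
    {z : F} {k : ℕ} (h : T ^ k = z • (1 : Module.End F V)) : z ^ 2 = 1 := by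
  obtain ⟨v, hv⟩ := exists_ne (0 : V)
  have : ∃ w, B v w ≠ 0 := by
    by_contra hcon
    push Not at hcon
    exact hv (hnd v Submodule.mem_top (fun w _ => hcon w))
  obtain ⟨w, hw⟩ := this
  have h1 := hT.pow k v w
  rw [h] at h1
  simp only [LinearMap.smul_apply, Module.End.one_apply, map_smul, smul_eq_mul] at h1
  have h2 : (z ^ 2 - 1) * B v w = 0 := by linear_combination h1
  exact sub_eq_zero.mp ((mul_eq_zero.mp h2).resolve_right hw)

lemma inv_span {T : Module.End F V} {s : Set V} (h : ∀ a ∈ s, T a ∈ Submodule.span F s) : Inv T (Submodule.span F s) := by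
  intro x hx
  induction hx using Submodule.span_induction with
  | mem a ha => exact h a ha
  | zero => rw [map_zero]; exact Submodule.zero_mem _
  | add a b _ _ ha hb => rw [map_add]; exact Submodule.add_mem _ ha hb
  | smul c a _ ha => rw [map_smul]; exact Submodule.smul_mem _ _ ha

lemma two_ne_zero_of_odd [Fintype F] (h : Odd (Fintype.card F)) : (2 : F) ≠ 0 := by
  intro h2
  have h1 : CharP F 2 := CharTwo.of_one_ne_zero_of_two_eq_zero one_ne_zero h2
  have h3 := FiniteField.even_card_of_char_two (F := F) (ringChar.eq F 2)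
  rw [Nat.odd_iff] at h
  omega

end Cfsg.Agent.Lib.Sesq
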