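import Mathlib
import Cfsg.Agent.Lib.Sesq3

/-! Involutions of symplectic groups in characteristic two; permuted planes. (helper99) -/

set_option autoImplicit false

namespace Cfsg.Agent.Lib.Sesq

open Polynomial Module Cfsg.Agent.Lib.InvSub Cfsg.Agent.Lib.PrimeOrd

section comb

variable {α : Type*} [Fintype α] [DecidableEq α]

/-- moved points come in pairs: choose representatives -/
lemma exists_half_moved (τ : Equiv.Perm α) (hτ : ∀ a, τ (τ a) = a) (S : Finset α) (hS : ∀ a ∈ S, τ a ∈ S) :
    ∃ A : Finset α, A ⊆ S ∧ (∀ a ∈ A, τ a ∉ A) ∧ (∀ a ∈ S, τ a ≠ a → a ∈ A ∨ τ a ∈ A) ∧ (∀ a ∈ A, τ a ≠ a) := by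
  classical
  induction' hn : S.card using Nat.strong_induction_on with n ih generalizing S
  by_cases h : ∃ a ∈ S, τ a ≠ a
  · obtain ⟨a, ha, hne⟩ := h
    have hS' : ∀ b ∈ (S.erase a).erase (τ a), τ b ∈ (S.erase a).erase (τ a) := by
      intro b hb
      rw [Finset.mem_erase, Finset.mem_erase] at hb ⊢
      refine ⟨fun h => hb.2.1 (τ.injective h), fun h => hb.1 (by rw [← h, hτ]), hS b hb.2.2⟩
    have hlt : ((S.erase a).erase (τ a)).card < n := by
      rw [← hn]
      exact lt_of_le_of_lt (Finset.card_erase_le) (Finset.card_erase_lt_of_mem ha)
    obtain ⟨A, hA, h1, h2, h3⟩ := ih _ hlt _ hS' rfl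
    refine ⟨insert a A, ?_, ?_, ?_, ?_⟩
    · intro b hb
      rcases Finset.mem_insert.mp hb with rfl | hb
      · exact ha
      · exact Finset.mem_of_mem_erase (Finset.mem_of_mem_erase (hA hb))
    · intro b hb h
      rcases Finset.mem_insert.mp hb with rfl | hb
      · rcases Finset.mem_insert.mp h with h | h
        · exact hne h
        · have := hA h
          rw [Finset.mem_erase] at this
          exact this.1 rfl
      · rcases Finset.mem_insert.mp h with h | h
        · have := hA hb
          rw [Finset.mem_erase] at this
          apply this.1
          rw [← h, hτ]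
        · exact h1 b hb h
    · intro b hb hbne
      by_cases hba : b = a
      · left; rw [hba]; exact Finset.mem_insert_self _ _
      · by_cases hbt : b = τ a
        · right; rw [hbt, hτ]; exact Finset.mem_insert_self _ _
        · rcases h2 b (Finset.mem_erase.mpr ⟨hbt, Finset.mem_erase.mpr ⟨hba, hb⟩⟩) hbne with h | h
          · left; exact Finset.mem_insert_of_mem h
          · right; exact Finset.mem_insert_of_mem h
    · intro b hb
      rcases Finset.mem_insert.mp hb with rfl | hb
      · exact hne
      · exact h3 b hb
  · push Not at h
    exact ⟨∅, Finset.empty_subset _, fun a ha => absurd ha (Finset.notMem_empty _),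
      fun a ha hne => absurd (h a ha) hne, fun a ha => absurd ha (Finset.notMem_empty _)⟩

/-- an involution preserves some partition into `t` blocks of size `k` -/
theorem exists_blocks (τ : Equiv.Perm α) (hτ : ∀ a, τ (τ a) = a) (k : ℕ) (hk : 0 < k) (t : ℕ) : 
    ∀ S : Finset α, (∀ a ∈ S, τ a ∈ S) → S.card = t * k →
      ∃ f : α → ℕ, (∀ a ∈ S, f a < t) ∧ (∀ l < t, (S.filter fun a => f a = l).card = k) ∧
        ∃ π : Equiv.Perm ℕ, (∀ l < t, π l < t) ∧ ∀ a ∈ S, f (τ a) = π (f a) := by
  classical
  induction' t using Nat.strong_induction_on with t ih
  intro S hS hcard
  rcases Nat.lt_or_ge t 2 with ht | ht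
  · -- t ≤ 1
    refine ⟨fun _ => 0, ?_, ?_, 1, fun l hl => hl, fun _ _ => rfl⟩
    · intro a ha
      change 0 < t
      by_contra hcon
      have : t = 0 := by omega
      rw [this, zero_mul, Finset.card_eq_zero] at hcard
      rw [hcard] at ha; exact absurd ha (Finset.notMem_empty _)
    · intro l hl
      have h1 : t = 1 := by omega
      have h0 : l = 0 := by omega
      subst h0
      rw [Finset.filter_true_of_mem (fun _ _ => rfl), hcard, h1, one_mul]
  · obtain ⟨A, hA, h1, h2, h3⟩ := exists_half_moved τ hτ S hS
    have himg : (A.image τ).card = A.card := Finset.card_image_of_injective _ τ.injective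
    have hdisj : Disjoint A (A.image τ) := by
      rw [Finset.disjoint_left]
      intro a ha ha'
      obtain ⟨b, hb, rfl⟩ := Finset.mem_image.mp ha'
      exact h1 b hb ha
    have himgS : A.image τ ⊆ S := by
      intro a ha
      obtain ⟨b, hb, rfl⟩ := Finset.mem_image.mp ha
      exact hS b (hA hb)
    by_cases hkA : k ≤ A.card
    · -- a swapped pair of blocks
      obtain ⟨C, hCA, hC⟩ := Finset.exists_subset_card_eq hkA
      have hCS : C ⊆ S := hCA.trans hA
      have hC' : (C.image τ).card = k := by rw [Finset.card_image_of_injective _ τ.injective, hC]
      have hCS' : C.image τ ⊆ S := (Finset.image_subset_image hCA).trans himgS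
      have hCd : Disjoint C (C.image τ) := Disjoint.mono hCA (Finset.image_subset_image hCA) hdisj
      set S' := S \ (C ∪ C.image τ) with hS'def
      have hτC : ∀ a, a ∈ C ∪ C.image τ ↔ τ a ∈ C ∪ C.image τ := by
        intro a
        rw [Finset.mem_union, Finset.mem_union, Finset.mem_image, Finset.mem_image]
        constructor
        · rintro (h | ⟨b, hb, rfl⟩)
          · right; exact ⟨a, h, rfl⟩
          · left; rw [hτ]; exact hb
        · rintro (h | ⟨b, hb, h⟩)
          · right; exact ⟨τ a, h, hτ a⟩
          · left; rw [← τ.injective h]; exact hb
      have hS'inv : ∀ a ∈ S', τ a ∈ S' := by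
        intro a ha
        rw [hS'def, Finset.mem_sdiff] at ha ⊢
        exact ⟨hS a ha.1, fun h => ha.2 ((hτC a).mpr h)⟩
      have hS'card : S'.card = (t - 2) * k := by
        rw [hS'def, Finset.card_sdiff_of_subset (Finset.union_subset hCS hCS'), Finset.card_union_of_disjoint hCd, hC, hC', hcard,
          Nat.sub_mul]
        omega
      obtain ⟨f, hf1, hf2, π, hπ, hf3⟩ := ih (t - 2) (by omega) S' hS'inv hS'card
      -- new labelling
      let f' : α → ℕ := fun a => if a ∈ C then t - 2 else if a ∈ C.image τ then t - 1 else f a
      have hfC : ∀ a ∈ C, f' a = t - 2 := fun a ha => if_pos ha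
      have hfC' : ∀ a ∈ C.image τ, f' a = t - 1 := fun a ha => by
        change (if a ∈ C then t - 2 else if a ∈ C.image τ then t - 1 else f a) = t - 1
        rw [if_neg (fun h => (Finset.disjoint_left.mp hCd) h ha), if_pos ha]
      have hfS : ∀ a ∈ S', f' a = f a := fun a ha => by
        rw [hS'def, Finset.mem_sdiff, Finset.mem_union, not_or] at ha
        change (if a ∈ C then t - 2 else if a ∈ C.image τ then t - 1 else f a) = f a
        rw [if_neg ha.2.1, if_neg ha.2.2]
      have hcases : ∀ a ∈ S, a ∈ C ∨ a ∈ C.image τ ∨ a ∈ S' := by
        intro a ha
        by_cases h : a ∈ C ∪ C.image τ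
        · rcases Finset.mem_union.mp h with h | h
          · left; exact h
          · right; left; exact h
        · right; right; rw [hS'def, Finset.mem_sdiff]; exact ⟨ha, h⟩
      let π' : Equiv.Perm ℕ :=
        { toFun := fun l => if l < t - 2 then π l else if l = t - 2 then t - 1 else if l = t - 1 then t - 2 else l
          invFun := fun l => if l < t - 2 then π.symm l else if l = t - 2 then t - 1 else if l = t - 1 then t - 2 else l
          left_inv := by
            intro l
            dsimp only
            by_cases h : l < t - 2
            · rw [if_pos h, if_pos (hπ l h), Equiv.symm_apply_apply]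
            · rw [if_neg h]
              by_cases h' : l = t - 2
              · rw [if_pos h', if_neg (by omega), if_neg (by omega), if_pos rfl, h']
              · rw [if_neg h']
                by_cases h'' : l = t - 1
                · rw [if_pos h'', if_neg (by omega), if_pos rfl, h'']
                · rw [if_neg h'', if_neg h, if_neg h', if_neg h'']
          right_inv := by
            intro l
            dsimp only
            have hπs : ∀ l, l < t - 2 → π.symm l < t - 2 := by
              -- π preserves the finite set
              have hmaps : ∀ l ∈ Finset.range (t - 2), π l ∈ Finset.range (t - 2) := by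
                intro l hl; rw [Finset.mem_range] at hl ⊢; exact hπ l hl
              have hsurj := Finset.surjOn_of_injOn_of_card_le π hmaps (fun a _ b _ h => π.injective h) le_rfl
              intro l hl
              obtain ⟨a, ha, rfl⟩ := hsurj (Finset.mem_coe.mpr (Finset.mem_range.mpr hl))
              rw [Equiv.symm_apply_apply]
              exact Finset.mem_range.mp (Finset.mem_coe.mp ha)
            by_cases h : l < t - 2
            · rw [if_pos h, if_pos (hπs l h), Equiv.apply_symm_apply]
            · rw [if_neg h]
              by_cases h' : l = t - 2
              · rw [if_pos h', if_neg (by omega), if_neg (by omega), if_pos rfl, h']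
              · rw [if_neg h']
                by_cases h'' : l = t - 1
                · rw [if_pos h'', if_neg (by omega), if_pos rfl, h'']
                · rw [if_neg h'', if_neg h, if_neg h', if_neg h''] }
      have hπ'1 : ∀ l < t - 2, π' l = π l := fun l hl => if_pos hl
      have hπ'2 : π' (t - 2) = t - 1 := by
        change (if t - 2 < t - 2 then π (t - 2) else if t - 2 = t - 2 then t - 1 else _) = _
        rw [if_neg (lt_irrefl _), if_pos rfl]
      have hπ'3 : π' (t - 1) = t - 2 := by
        change (if t - 1 < t - 2 then π (t - 1) else if t - 1 = t - 2 then t - 1 else if t - 1 = t - 1 then t - 2 else t - 1) = _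
        rw [if_neg (by omega), if_neg (by omega), if_pos rfl]
      refine ⟨f', ?_, ?_, π', ?_, ?_⟩
      · intro a ha
        rcases hcases a ha with h | h | h
        · rw [hfC a h]; omega
        · rw [hfC' a h]; omega
        · rw [hfS a h]
          have := hf1 a h
          omega
      · intro l hl
        by_cases h : l < t - 2
        · rw [← hf2 l h]
          congr 1
          ext a
          rw [Finset.mem_filter, Finset.mem_filter]
          constructor
          · rintro ⟨ha, hfa⟩
            rcases hcases a ha with h' | h' | h'
            · rw [hfC a h'] at hfa; omega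
            · rw [hfC' a h'] at hfa; omega
            · exact ⟨h', by rw [← hfS a h']; exact hfa⟩
          · rintro ⟨ha, hfa⟩
            exact ⟨(Finset.mem_sdiff.mp ha).1, by rw [hfS a ha]; exact hfa⟩
        · by_cases h' : l = t - 2
          · rw [← hC]
            congr 1
            ext a
            rw [Finset.mem_filter]
            constructor
            · rintro ⟨ha, hfa⟩
              rcases hcases a ha with h'' | h'' | h''
              · exact h''
              · rw [hfC' a h''] at hfa; omega
              · rw [hfS a h''] at hfa
                have := hf1 a h''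
                omega
            · intro ha
              exact ⟨hCS ha, by rw [hfC a ha, h']⟩
          · have h'' : l = t - 1 := by omega
            rw [← hC']
            congr 1
            ext a
            rw [Finset.mem_filter]
            constructor
            · rintro ⟨ha, hfa⟩
              rcases hcases a ha with h3 | h3 | h3
              · rw [hfC a h3] at hfa; omega
              · exact h3
              · rw [hfS a h3] at hfa
                have := hf1 a h3
                omega
            · intro ha
              exact ⟨hCS' ha, by rw [hfC' a ha, h'']⟩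
      · intro l hl
        by_cases h : l < t - 2
        · rw [hπ'1 l h]
          have := hπ l h
          omega
        · by_cases h' : l = t - 2
          · rw [h', hπ'2]; omega
          · have h'' : l = t - 1 := by omega
            rw [h'', hπ'3]; omega
      · intro a ha
        rcases hcases a ha with h | h | h
        · rw [hfC a h, hπ'2, hfC' (τ a) (Finset.mem_image_of_mem _ h)]
        · rw [hfC' a h, hπ'3]
          obtain ⟨b, hb, rfl⟩ := Finset.mem_image.mp h
          rw [hτ, hfC b hb]
        · rw [hfS a h, hπ'1 _ (hf1 a h), hfS (τ a) (hS'inv a h), hf3 a h]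
    · -- an invariant block
      push Not at hkA
      -- fixed points of S
      set Fx := S.filter (fun a => τ a = a) with hFx
      have hsplit : S.card = 2 * A.card + Fx.card := by
        have h4 : S = (A ∪ A.image τ) ∪ Fx := by
          ext a
          rw [Finset.mem_union, Finset.mem_union, hFx, Finset.mem_filter]
          constructor
          · intro ha
            by_cases h : τ a = a
            · right; exact ⟨ha, h⟩
            · left
              rcases h2 a ha h with h | h
              · left; exact h
              · right; rw [Finset.mem_image]; exact ⟨τ a, h, hτ a⟩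
          · rintro ((h | h) | h)
            · exact hA h
            · exact himgS h
            · exact h.1
        have h5 : Disjoint (A ∪ A.image τ) Fx := by
          rw [Finset.disjoint_left]
          intro a ha haF
          rw [hFx, Finset.mem_filter] at haF
          rcases Finset.mem_union.mp ha with h | h
          · exact h3 a h haF.2
          · obtain ⟨b, hb, rfl⟩ := Finset.mem_image.mp h
            rw [hτ] at haF
            exact h3 b hb haF.2.symm
        conv_lhs => rw [h4]
        rw [Finset.card_union_of_disjoint h5, Finset.card_union_of_disjoint hdisj, himg]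
        ring
      -- sizes
      obtain ⟨y, z, hy, hz, hyz⟩ : ∃ y z : ℕ, y ≤ A.card ∧ z ≤ Fx.card ∧ 2 * y + z = k := by
        have h6 : 2 * k ≤ 2 * A.card + Fx.card := by
          rw [← hsplit, hcard]
          exact Nat.mul_le_mul_right k ht
        by_cases h7 : A.card ≤ k / 2
        · exact ⟨A.card, k - 2 * A.card, le_rfl, by omega, by omega⟩
        · exact ⟨k / 2, k - 2 * (k / 2), by omega, by omega, by omega⟩
      obtain ⟨C, hCA, hC⟩ := Finset.exists_subset_card_eq hy
      obtain ⟨Z, hZF, hZ⟩ := Finset.exists_subset_card_eq hz
      set D := (C ∪ C.image τ) ∪ Z with hD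
      have hZfix : ∀ a ∈ Z, τ a = a := fun a ha => (Finset.mem_filter.mp (hZF ha)).2
      have hDS : D ⊆ S := by
        rw [hD]
        apply Finset.union_subset (Finset.union_subset (hCA.trans hA) ((Finset.image_subset_image hCA).trans himgS))
        exact hZF.trans (Finset.filter_subset _ _)
      have hτD : ∀ a, a ∈ D → τ a ∈ D := by
        intro a ha
        rw [hD, Finset.mem_union, Finset.mem_union] at ha ⊢
        rcases ha with (h | h) | h
        · left; right; exact Finset.mem_image_of_mem _ h
        · obtain ⟨b, hb, rfl⟩ := Finset.mem_image.mp h
          left; left; rw [hτ]; exact hb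
        · right; rw [hZfix a h]; exact h
      have hDcard : D.card = k := by
        have h8 : Disjoint (C ∪ C.image τ) Z := by
          rw [Finset.disjoint_left]
          intro a ha haZ
          have h9 := hZfix a haZ
          rcases Finset.mem_union.mp ha with h | h
          · exact h3 a (hCA h) h9
          · obtain ⟨b, hb, rfl⟩ := Finset.mem_image.mp h
            rw [hτ] at h9
            exact h3 b (hCA hb) h9.symm
        rw [hD, Finset.card_union_of_disjoint h8, Finset.card_union_of_disjoint
          (Disjoint.mono hCA (Finset.image_subset_image hCA) hdisj), Finset.card_image_of_injective _ τ.injective, hC, hZ]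
        omega
      set S' := S \ D with hS'def
      have hS'inv : ∀ a ∈ S', τ a ∈ S' := by
        intro a ha
        rw [hS'def, Finset.mem_sdiff] at ha ⊢
        refine ⟨hS a ha.1, fun h => ha.2 ?_⟩
        have := hτD _ h
        rwa [hτ] at this
      have hS'card : S'.card = (t - 1) * k := by
        rw [hS'def, Finset.card_sdiff_of_subset hDS, hDcard, hcard, Nat.sub_mul]
        omega
      obtain ⟨f, hf1, hf2, π, hπ, hf3⟩ := ih (t - 1) (by omega) S' hS'inv hS'card
      let f' : α → ℕ := fun a => if a ∈ D then t - 1 else f a
      have hfD : ∀ a ∈ D, f' a = t - 1 := fun a ha => if_pos ha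
      have hfS : ∀ a ∈ S', f' a = f a := fun a ha => if_neg (Finset.mem_sdiff.mp ha).2
      have hcases : ∀ a ∈ S, a ∈ D ∨ a ∈ S' := by
        intro a ha
        by_cases h : a ∈ D
        · left; exact h
        · right; exact Finset.mem_sdiff.mpr ⟨ha, h⟩
      have hπs : ∀ l, l < t - 1 → π.symm l < t - 1 := by
        have hmaps : ∀ l ∈ Finset.range (t - 1), π l ∈ Finset.range (t - 1) := by
          intro l hl; rw [Finset.mem_range] at hl ⊢; exact hπ l hl
        have hsurj := Finset.surjOn_of_injOn_of_card_le π hmaps (fun a _ b _ h => π.injective h) le_rfl
        intro l hl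
        obtain ⟨a, ha, rfl⟩ := hsurj (Finset.mem_coe.mpr (Finset.mem_range.mpr hl))
        rw [Equiv.symm_apply_apply]
        exact Finset.mem_range.mp (Finset.mem_coe.mp ha)
      let π' : Equiv.Perm ℕ :=
        { toFun := fun l => if l < t - 1 then π l else l
          invFun := fun l => if l < t - 1 then π.symm l else l
          left_inv := by
            intro l
            dsimp only
            by_cases h : l < t - 1
            · rw [if_pos h, if_pos (hπ l h), Equiv.symm_apply_apply]
            · rw [if_neg h, if_neg h]
          right_inv := by
            intro l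
            dsimp only
            by_cases h : l < t - 1
            · rw [if_pos h, if_pos (hπs l h), Equiv.apply_symm_apply]
            · rw [if_neg h, if_neg h] }
      have hπ'1 : ∀ l < t - 1, π' l = π l := fun l hl => if_pos hl
      have hπ'2 : π' (t - 1) = t - 1 := by
        change (if t - 1 < t - 1 then π (t - 1) else t - 1) = _
        rw [if_neg (lt_irrefl _)]
      refine ⟨f', ?_, ?_, π', ?_, ?_⟩
      · intro a ha
        rcases hcases a ha with h | h
        · rw [hfD a h]; omega
        · rw [hfS a h]
          have := hf1 a h
          omega
      · intro l hl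
        by_cases h : l < t - 1
        · rw [← hf2 l h]
          congr 1
          ext a
          rw [Finset.mem_filter, Finset.mem_filter]
          constructor
          · rintro ⟨ha, hfa⟩
            rcases hcases a ha with h' | h'
            · rw [hfD a h'] at hfa; omega
            · exact ⟨h', by rw [← hfS a h']; exact hfa⟩
          · rintro ⟨ha, hfa⟩
            exact ⟨(Finset.mem_sdiff.mp ha).1, by rw [hfS a ha]; exact hfa⟩
        · have h' : l = t - 1 := by omega
          rw [← hDcard]
          congr 1
          ext a
          rw [Finset.mem_filter]
          constructor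
          · rintro ⟨ha, hfa⟩
            rcases hcases a ha with h'' | h''
            · exact h''
            · rw [hfS a h''] at hfa
              have := hf1 a h''
              omega
          · intro ha
            exact ⟨hDS ha, by rw [hfD a ha, h']⟩
      · intro l hl
        by_cases h : l < t - 1
        · rw [hπ'1 l h]
          have := hπ l h
          omega
        · have h' : l = t - 1 := by omega
          rw [h', hπ'2]; omega
      · intro a ha
        rcases hcases a ha with h | h
        · rw [hfD a h, hπ'2, hfD (τ a) (hτD a h)]
        · rw [hfS a h, hπ'1 _ (hf1 a h), hfS (τ a) (hS'inv a h), hf3 a h]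

end comb

end Cfsg.Agent.Lib.Sesq
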