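import Mathlib
import Cfsg.Agent.Lib.Sesq4
import Cfsg.Agent.Lib.ImpDec

/-! Systems of orthogonal planes permuted by an involution; grouping them. (helper99) -/

set_option autoImplicit false

namespace Cfsg.Agent.Lib.Sesq

open Polynomial Module Cfsg.Agent.Lib.InvSub Cfsg.Agent.Lib.PrimeOrd

variable {F V : Type*} [Field F] [AddCommGroup V] [Module F V]

lemma orth_span {σ : F →+* F} {B : V →ₗ[F] V →ₛₗ[σ] F} {s t : Set V} (h : ∀ a ∈ s, ∀ b ∈ t, B a b = 0) :
    ∀ u ∈ Submodule.span F s, ∀ v ∈ Submodule.span F t, B u v = 0 := by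
  intro u hu
  induction hu using Submodule.span_induction with
  | mem a ha =>
    intro v hv
    induction hv using Submodule.span_induction with
    | mem b hb => exact h a ha b hb
    | zero => exact map_zero _
    | add b c _ _ hb hc => rw [map_add, hb, hc, add_zero]
    | smul c b _ hb => rw [LinearMap.map_smulₛₗ, hb, smul_zero]
  | zero => intro v _; rw [map_zero]; rfl
  | add a b _ _ ha hb => intro v hv; rw [map_add, LinearMap.add_apply, ha v hv, hb v hv, add_zero]
  | smul c a _ ha => intro v hv; rw [map_smul, LinearMap.smul_apply, ha v hv, smul_zero]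

variable {B : V →ₗ[F] V →ₗ[F] F}

/-- a system of orthogonal planes permuted by `T` -/
structure MSys (B : V →ₗ[F] V →ₗ[F] F) (T : Module.End F V) {m : ℕ} (v w : Fin m → V) (τ : Equiv.Perm (Fin m)) : Prop where
  ne : ∀ j, B (v j) (w j) ≠ 0
  vv : ∀ j k, B (v j) (v k) = 0
  ww : ∀ j k, B (w j) (w k) = 0
  vw : ∀ j k, j ≠ k → B (v j) (w k) = 0
  invol : ∀ j, τ (τ j) = j
  tv : ∀ j, T (v j) ∈ Submodule.span F {v (τ j), w (τ j)}
  tw : ∀ j, T (w j) ∈ Submodule.span F {v (τ j), w (τ j)}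

lemma MSys.psys {T : Module.End F V} {m : ℕ} {v w : Fin m → V} {τ : Equiv.Perm (Fin m)} (h : MSys B T v w τ) :
    PSys B (fun _ _ => True) v w := ⟨h.ne, fun _ => trivial, h.vv, h.ww, h.vw⟩

lemma PSys.msys {T : Module.End F V} {m : ℕ} {v w : Fin m → V} {P : V → V → Prop} (h : PSys B P v w)
    (hP : ∀ v w, P v w → T v ∈ Submodule.span F {v, w} ∧ T w ∈ Submodule.span F {v, w}) : MSys B T v w 1 :=
  ⟨h.ne, h.vv, h.ww, h.vw, fun _ => rfl, fun j => (hP _ _ (h.p j)).1, fun j => (hP _ _ (h.p j)).2⟩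

/-- extending a permutation of `Fin m` by a fixed point -/
def ext1 {m : ℕ} (τ : Equiv.Perm (Fin m)) : Equiv.Perm (Fin (m + 1)) :=
  Equiv.Perm.decomposeFin.symm (0, τ)

lemma ext1_zero {m : ℕ} (τ : Equiv.Perm (Fin m)) : ext1 τ 0 = 0 := by
  simp [ext1]

lemma ext1_succ {m : ℕ} (τ : Equiv.Perm (Fin m)) (j : Fin m) : ext1 τ j.succ = (τ j).succ := by
  simp [ext1]

/-- adding one plane -/
lemma MSys.cons1 (hB : Alt B) {T : Module.End F V} {m : ℕ} {v w : Fin m → V} {τ : Equiv.Perm (Fin m)} (h : MSys B T v w τ)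
    {a b : V} (hab : B a b ≠ 0) (hTa : T a ∈ Submodule.span F {a, b}) (hTb : T b ∈ Submodule.span F {a, b})
    (hv : ∀ j, B a (v j) = 0 ∧ B b (v j) = 0) (hw : ∀ j, B a (w j) = 0 ∧ B b (w j) = 0) :
    MSys B T (Fin.cons a v : Fin (m + 1) → V) (Fin.cons b w) (ext1 τ) := by
  refine ⟨?_, ?_, ?_, ?_, ?_, ?_, ?_⟩
  · intro j; refine Fin.cases hab (fun j => h.ne j) j
  · intro j k
    refine Fin.cases ?_ (fun j => ?_) j <;> refine Fin.cases ?_ (fun k => ?_) k
    · exact hB a
    · exact (hv k).1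
    · change B (v j) a = 0
      rw [hB.skew, (hv j).1, neg_zero]
    · exact h.vv j k
  · intro j k
    refine Fin.cases ?_ (fun j => ?_) j <;> refine Fin.cases ?_ (fun k => ?_) k
    · exact hB b
    · exact (hw k).2
    · change B (w j) b = 0
      rw [hB.skew, (hw j).2, neg_zero]
    · exact h.ww j k
  · intro j k
    refine Fin.cases ?_ (fun j => ?_) j <;> refine Fin.cases ?_ (fun k => ?_) k
    · intro h; exact absurd rfl h
    · intro _; exact (hw k).1
    · intro _
      change B (v j) b = 0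
      rw [hB.skew, (hv j).2, neg_zero]
    · intro h'; exact h.vw j k (fun h'' => h' (by rw [h'']))
  · intro j
    refine Fin.cases ?_ (fun j => ?_) j
    · rw [ext1_zero, ext1_zero]
    · rw [ext1_succ, ext1_succ, h.invol]
  · intro j
    refine Fin.cases ?_ (fun j => ?_) j
    · rw [ext1_zero]; exact hTa
    · rw [ext1_succ]; exact h.tv j
  · intro j
    refine Fin.cases ?_ (fun j => ?_) j
    · rw [ext1_zero]; exact hTb
    · rw [ext1_succ]; exact h.tw j

/-- adding two swapped planes -/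
lemma MSys.cons2 (hB : Alt B) {T : Module.End F V} {m : ℕ} {v w : Fin m → V} {τ : Equiv.Perm (Fin m)} (h : MSys B T v w τ)
    {a b c d : V} (hab : B a b ≠ 0) (hcd : B c d ≠ 0) (hac : B a c = 0) (had : B a d = 0) (hbc : B b c = 0) (hbd : B b d = 0)
    (hTa : T a ∈ Submodule.span F {c, d}) (hTb : T b ∈ Submodule.span F {c, d})
    (hTc : T c ∈ Submodule.span F {a, b}) (hTd : T d ∈ Submodule.span F {a, b})
    (hv : ∀ j, B a (v j) = 0 ∧ B b (v j) = 0 ∧ B c (v j) = 0 ∧ B d (v j) = 0)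
    (hw : ∀ j, B a (w j) = 0 ∧ B b (w j) = 0 ∧ B c (w j) = 0 ∧ B d (w j) = 0) :
    MSys B T (Fin.cons a (Fin.cons c v : Fin (m + 1) → V) : Fin (m + 2) → V) (Fin.cons b (Fin.cons d w))
      (ext1 (ext1 τ) * Equiv.swap 0 1) := by
  have hsw0 : (ext1 (ext1 τ) * Equiv.swap (0 : Fin (m + 2)) 1) 0 = 1 := by
    rw [Equiv.Perm.mul_apply, Equiv.swap_apply_left]
    exact ext1_succ (ext1 τ) 0 |>.trans (by rw [ext1_zero]; rfl)
  have hsw1 : (ext1 (ext1 τ) * Equiv.swap (0 : Fin (m + 2)) 1) 1 = 0 := by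
    rw [Equiv.Perm.mul_apply, Equiv.swap_apply_right, ext1_zero]
  have hsw2 : ∀ j : Fin m, (ext1 (ext1 τ) * Equiv.swap (0 : Fin (m + 2)) 1) j.succ.succ = (τ j).succ.succ := by
    intro j
    rw [Equiv.Perm.mul_apply, Equiv.swap_apply_of_ne_of_ne (Fin.succ_ne_zero _) (by
      intro h
      have h1 : (j.succ.succ : Fin (m + 2)) = (0 : Fin (m + 1)).succ := h
      exact Fin.succ_ne_zero _ (Fin.succ_injective _ h1)), ext1_succ, ext1_succ]
  have hP : ∀ j : Fin (m + 2), j = 0 ∨ j = 1 ∨ ∃ k : Fin m, j = k.succ.succ := by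
    intro j
    refine Fin.cases (Or.inl rfl) (fun j => ?_) j
    right
    refine Fin.cases (Or.inl rfl) (fun j => ?_) j
    exact Or.inr ⟨j, rfl⟩
  have sk : ∀ x y, B x y = 0 → B y x = 0 := fun x y hxy => by rw [hB.skew, hxy, neg_zero]
  refine ⟨?_, ?_, ?_, ?_, ?_, ?_, ?_⟩
  · intro j
    rcases hP j with rfl | rfl | ⟨j, rfl⟩
    · exact hab
    · exact hcd
    · exact h.ne j
  · intro j k
    rcases hP j with rfl | rfl | ⟨j, rfl⟩ <;> rcases hP k with rfl | rfl | ⟨k, rfl⟩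
    · exact hB a
    · exact hac
    · exact (hv k).1
    · exact sk _ _ hac
    · exact hB c
    · exact (hv k).2.2.1
    · exact sk _ _ (hv j).1
    · exact sk _ _ (hv j).2.2.1
    · exact h.vv j k
  · intro j k
    rcases hP j with rfl | rfl | ⟨j, rfl⟩ <;> rcases hP k with rfl | rfl | ⟨k, rfl⟩
    · exact hB b
    · exact hbd
    · exact (hw k).2.1
    · exact sk _ _ hbd
    · exact hB d
    · exact (hw k).2.2.2
    · exact sk _ _ (hw j).2.1
    · exact sk _ _ (hw j).2.2.2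
    · exact h.ww j k
  · intro j k
    rcases hP j with rfl | rfl | ⟨j, rfl⟩ <;> rcases hP k with rfl | rfl | ⟨k, rfl⟩
    · intro h; exact absurd rfl h
    · intro _; exact had
    · intro _; exact (hw k).1
    · intro _; exact sk _ _ hbc
    · intro h; exact absurd rfl h
    · intro _; exact (hw k).2.2.1
    · intro _; exact sk _ _ (hv j).2.1
    · intro _; exact sk _ _ (hv j).2.2.2
    · intro h'; exact h.vw j k (fun h'' => h' (by rw [h'']))
  · intro j
    rcases hP j with rfl | rfl | ⟨j, rfl⟩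
    · rw [hsw0, hsw1]
    · rw [hsw1, hsw0]
    · rw [hsw2, hsw2, h.invol]
  · intro j
    rcases hP j with rfl | rfl | ⟨j, rfl⟩
    · rw [hsw0]; exact hTa
    · rw [hsw1]; exact hTc
    · rw [hsw2]; exact h.tv j
  · intro j
    rcases hP j with rfl | rfl | ⟨j, rfl⟩
    · rw [hsw0]; exact hTb
    · rw [hsw1]; exact hTd
    · rw [hsw2]; exact h.tw j

end Cfsg.Agent.Lib.Sesq
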