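import Mathlib
import Cfsg.Agent.Lib.Sesq5

/-! Involutions in characteristic two: orthogonal planes; grouping planes into blocks. (helper99) -/

set_option autoImplicit false

namespace Cfsg.Agent.Lib.Sesq

open Polynomial Module Cfsg.Agent.Lib.InvSub Cfsg.Agent.Lib.PrimeOrd

variable {F V : Type*} [Field F] [AddCommGroup V] [Module F V] {B : V →ₗ[F] V →ₗ[F] F}

lemma pair_mem {a b x : V} (W : Submodule F V) (ha : a ∈ W) (hb : b ∈ W) (hx : x ∈ Submodule.span F {a, b}) : x ∈ W := by
  have h : Submodule.span F {a, b} ≤ W := by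
    rw [Submodule.span_le]
    rintro y (rfl | rfl)
    · exact ha
    · exact hb
  exact h hx

/-- double planes -/
theorem exists_double (hB : Alt B) [CharP F 2] {T : Module.End F V} (hT : Iso (σ := RingHom.id F) B T) (hTT : T * T = 1)
    {W : Submodule F V} (hW : Inv T W) (hWnd : ND (σ := RingHom.id F) B W) (ha : ∀ v ∈ W, B v (T v) = 0)
    (hne : ∃ u ∈ W, T u ≠ u) : ∃ e ∈ W, ∃ f ∈ W, B e f ≠ 0 ∧ B e (T f) = 0 := by
  have hTTv : ∀ u, T (T u) = u := fun u => congrArg (fun f : Module.End F V => f u) hTT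
  have h2 : (2 : F) = 0 := CharTwo.two_eq_zero
  obtain ⟨u, hu, hTu⟩ := hne
  have : ∃ u' ∈ W, B (T u - u) u' ≠ 0 := by
    by_contra hcon
    push Not at hcon
    exact hTu (sub_eq_zero.mp (hWnd _ (W.sub_mem (hW u hu) hu) hcon))
  obtain ⟨u', hu', hB'⟩ := this
  have hst : B (T u) u' - B u u' ≠ 0 := by
    rw [map_sub, LinearMap.sub_apply] at hB'; exact hB'
  have htt : B u (T u') = B (T u) u' := by
    rw [← hT u (T u'), hTTv]
  -- e = u, f = s u' + t T u'
  refine ⟨u, hu, B u u' • u' + B (T u) u' • T u', W.add_mem (W.smul_mem _ hu') (W.smul_mem _ (hW u' hu')), ?_, ?_⟩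
  · rw [map_add, map_smul, map_smul, htt, smul_eq_mul, smul_eq_mul]
    have : B u u' * B u u' + B (T u) u' * B (T u) u' = (B (T u) u' - B u u') ^ 2 := by
      linear_combination (B u u' * B (T u) u') * h2
    rw [this]
    exact pow_ne_zero 2 hst
  · rw [map_add, map_smul, map_smul, hTTv, map_add, map_smul, map_smul, htt, smul_eq_mul, smul_eq_mul]
    linear_combination (B u u' * B (T u) u') * h2

theorem exists_msys_two_aux [Finite F] [FiniteDimensional F V] (hB : Alt B) [CharP F 2] (hnd : ND (σ := RingHom.id F) B ⊤)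
    {T : Module.End F V} (hT : Iso (σ := RingHom.id F) B T) (hTT : T * T = 1) (m : ℕ) :
    ∀ W : Submodule F V, Inv T W → ND (σ := RingHom.id F) B W → finrank F W = 2 * m →
      ∃ (v w : Fin m → V) (τ : Equiv.Perm (Fin m)), (∀ j, v j ∈ W) ∧ (∀ j, w j ∈ W) ∧ MSys B T v w τ := by
  have hTTv : ∀ u, T (T u) = u := fun u => congrArg (fun f : Module.End F V => f u) hTT
  induction' m using Nat.strong_induction_on with m ih
  intro W hW hWnd hfin
  rcases Nat.eq_zero_or_pos m with rfl | hm
  · exact ⟨Fin.elim0, Fin.elim0, 1, fun j => j.elim0, fun j => j.elim0, ⟨fun j => j.elim0, fun j => j.elim0,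
      fun j => j.elim0, fun j => j.elim0, fun j => j.elim0, fun j => j.elim0, fun j => j.elim0⟩⟩
  obtain ⟨m, rfl⟩ : ∃ m', m = m' + 1 := ⟨m - 1, by omega⟩
  have hne : W ≠ ⊥ := by
    rintro rfl
    rw [finrank_bot] at hfin; omega
  -- adding one plane
  have one : ∀ a ∈ W, ∀ b ∈ W, B a b ≠ 0 → T a ∈ Submodule.span F {a, b} → T b ∈ Submodule.span F {a, b} →
      ∃ (v w : Fin (m + 1) → V) (τ : Equiv.Perm (Fin (m + 1))), (∀ j, v j ∈ W) ∧ (∀ j, w j ∈ W) ∧ MSys B T v w τ := by
    intro a ha b hb hab hTa hTb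
    have hHnd := nd_pair hB hab
    have hHW : Submodule.span F {a, b} ≤ W := fun x hx => pair_mem W ha hb hx
    have hHinv : Inv T (Submodule.span F {a, b}) := by
      intro x hx
      obtain ⟨s, t, rfl⟩ := Submodule.mem_span_pair.mp hx
      rw [map_add, map_smul, map_smul]
      exact Submodule.add_mem _ (Submodule.smul_mem _ _ hTa) (Submodule.smul_mem _ _ hTb)
    obtain ⟨-, -, h3, h4⟩ := split_nd hB.refl hWnd hHnd hHW
    rw [finrank_pair hB hab] at h3
    obtain ⟨v, w, τ, hv, hw, hs⟩ := ih m (by omega) _ (inv_inf hW (hT.inv_perp hnd hHinv)) h4 (by omega)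
    have haH : a ∈ Submodule.span F {a, b} := Submodule.subset_span (by simp)
    have hbH : b ∈ Submodule.span F {a, b} := Submodule.subset_span (by simp)
    refine ⟨_, _, _, ?_, ?_, hs.cons1 hB hab hTa hTb (fun j => ⟨(hv j).2 a haH, (hv j).2 b hbH⟩)
      (fun j => ⟨(hw j).2 a haH, (hw j).2 b hbH⟩)⟩
    · intro j; refine Fin.cases ha (fun j => (hv j).1) j
    · intro j; refine Fin.cases hb (fun j => (hw j).1) j
  by_cases h1 : ∃ v ∈ W, B v (T v) ≠ 0
  · obtain ⟨v, hv, hvv⟩ := h1
    exact one v hv (T v) (hW v hv) hvv (Submodule.subset_span (by simp)) (by rw [hTTv]; exact Submodule.subset_span (by simp))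
  · push Not at h1
    by_cases h2 : ∃ u ∈ W, T u ≠ u
    · -- a double plane
      obtain ⟨e, he, f, hf, hef, heTf⟩ := exists_double hB hT hTT hW hWnd h1 h2
      have hTef : B (T e) (T f) ≠ 0 := by rw [hT]; exact hef
      have hTe : T e ∈ W := hW e he
      have hTf : T f ∈ W := hW f hf
      have hfTe : B f (T e) = 0 := by
        rw [← hT f (T e), hTTv, hB.skew, heTf, neg_zero]
      have heTe := h1 e he
      have hfTf := h1 f hf
      have hHnd : ND (σ := RingHom.id F) B (Submodule.span F {e, f} ⊔ Submodule.span F {T e, T f}) := by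
        apply nd_sup hB.refl (nd_pair hB hef) (nd_pair hB hTef)
        apply orth_span
        rintro a (rfl | rfl) b (rfl | rfl)
        · exact heTe
        · exact heTf
        · exact hfTe
        · exact hfTf
      have hHW : Submodule.span F {e, f} ⊔ Submodule.span F {T e, T f} ≤ W :=
        sup_le (fun x hx => pair_mem W he hf hx) (fun x hx => pair_mem W hTe hTf hx)
      have hHinv : Inv T (Submodule.span F {e, f} ⊔ Submodule.span F {T e, T f}) := by
        intro x hx
        obtain ⟨y, hy, z, hz, rfl⟩ := Submodule.mem_sup.mp hx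
        rw [map_add, add_comm]
        apply Submodule.add_mem_sup
        · obtain ⟨s, t, rfl⟩ := Submodule.mem_span_pair.mp hz
          rw [map_add, map_smul, map_smul, hTTv, hTTv]
          exact Submodule.mem_span_pair.mpr ⟨s, t, rfl⟩
        · obtain ⟨s, t, rfl⟩ := Submodule.mem_span_pair.mp hy
          rw [map_add, map_smul, map_smul]
          exact Submodule.mem_span_pair.mpr ⟨s, t, rfl⟩
      obtain ⟨-, -, h3, h4⟩ := split_nd hB.refl hWnd hHnd hHW
      have h5 : finrank F ↥(Submodule.span F {e, f} ⊔ Submodule.span F {T e, T f}) = 4 := by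
        have hd : Submodule.span F {e, f} ⊓ Submodule.span F {T e, T f} = ⊥ := by
          rw [eq_bot_iff]
          rintro x ⟨hx, hx'⟩
          apply (Submodule.mem_bot F).mpr
          apply nd_pair hB hef x hx
          intro y hy
          have horth : ∀ u ∈ Submodule.span F {T e, T f}, ∀ v ∈ Submodule.span F {e, f}, B u v = 0 := by
            apply orth_span
            rintro a (rfl | rfl) b (rfl | rfl)
            · rw [hB.skew, heTe, neg_zero]
            · rw [hB.skew, hfTe, neg_zero]
            · rw [hB.skew, heTf, neg_zero]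
            · rw [hB.skew, hfTf, neg_zero]
          exact horth x hx' y hy
        have := Submodule.finrank_sup_add_finrank_inf_eq (Submodule.span F {e, f}) (Submodule.span F {T e, T f})
        rw [hd, finrank_bot, finrank_pair hB hef, finrank_pair hB hTef] at this
        omega
      rw [h5] at h3
      obtain ⟨m, rfl⟩ : ∃ m', m = m' + 1 := ⟨m - 1, by omega⟩
      obtain ⟨v, w, τ, hv, hw, hs⟩ := ih m (by omega) _ (inv_inf hW (hT.inv_perp hnd hHinv)) h4 (by omega)
      have heH : e ∈ Submodule.span F {e, f} ⊔ Submodule.span F {T e, T f} :=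
        Submodule.mem_sup_left (Submodule.subset_span (by simp))
      have hfH : f ∈ Submodule.span F {e, f} ⊔ Submodule.span F {T e, T f} :=
        Submodule.mem_sup_left (Submodule.subset_span (by simp))
      have hTeH : T e ∈ Submodule.span F {e, f} ⊔ Submodule.span F {T e, T f} :=
        Submodule.mem_sup_right (Submodule.subset_span (by simp))
      have hTfH : T f ∈ Submodule.span F {e, f} ⊔ Submodule.span F {T e, T f} :=
        Submodule.mem_sup_right (Submodule.subset_span (by simp))
      refine ⟨_, _, _, ?_, ?_, hs.cons2 hB hef hTef heTe heTf hfTe hfTf (Submodule.subset_span (by simp))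
        (Submodule.subset_span (by simp)) (by rw [hTTv]; exact Submodule.subset_span (by simp))
        (by rw [hTTv]; exact Submodule.subset_span (by simp))
        (fun j => ⟨(hv j).2 e heH, (hv j).2 f hfH, (hv j).2 _ hTeH, (hv j).2 _ hTfH⟩)
        (fun j => ⟨(hw j).2 e heH, (hw j).2 f hfH, (hw j).2 _ hTeH, (hw j).2 _ hTfH⟩)⟩
      · intro j
        refine Fin.cases he (fun j => ?_) j
        refine Fin.cases hTe (fun j => (hv j).1) j
      · intro j
        refine Fin.cases hf (fun j => ?_) j
        refine Fin.cases hTf (fun j => (hw j).1) j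
    · -- trivial planes
      push Not at h2
      obtain ⟨a, ha, ha0⟩ := Submodule.exists_mem_ne_zero_of_ne_bot hne
      have : ∃ b ∈ W, B a b ≠ 0 := by
        by_contra hcon
        push Not at hcon
        exact ha0 (hWnd a ha hcon)
      obtain ⟨b, hb, hab⟩ := this
      exact one a ha b hb hab (by rw [h2 a ha]; exact Submodule.subset_span (by simp))
        (by rw [h2 b hb]; exact Submodule.subset_span (by simp))

theorem exists_msys_two [Finite F] [FiniteDimensional F V] (hB : Alt B) [CharP F 2] (hnd : ND (σ := RingHom.id F) B ⊤)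
    {T : Module.End F V} (hT : Iso (σ := RingHom.id F) B T) (hTT : T * T = 1) {m : ℕ} (hm : finrank F V = 2 * m) :
    ∃ (v w : Fin m → V) (τ : Equiv.Perm (Fin m)), MSys B T v w τ := by
  obtain ⟨v, w, τ, -, -, h⟩ := exists_msys_two_aux hB hnd hT hTT m ⊤ inv_top hnd (by rw [finrank_top, hm])
  exact ⟨v, w, τ, h⟩

/-- all involutions, any characteristic -/
theorem exists_msys [Finite F] [FiniteDimensional F V] (hB : Alt B) {p : ℕ} [Fact p.Prime] [CharP F p] (hnd : ND (σ := RingHom.id F) B ⊤)
    {T : Module.End F V} (hT : Iso (σ := RingHom.id F) B T) {z : F} (hTT : T * T = z • (1 : Module.End F V)) {m : ℕ}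
    (hm : finrank F V = 2 * m) (hm0 : 0 < m) : ∃ (v w : Fin m → V) (τ : Equiv.Perm (Fin m)), MSys B T v w τ := by
  have hnt : Nontrivial V := Module.nontrivial_of_finrank_pos (R := F) (by omega)
  have hz2 : z ^ 2 = 1 := sq_scalar hnd hT (k := 2) (by rw [pow_two]; exact hTT)
  have hz3 : z = 1 ∨ z = -1 := by
    rw [pow_two] at hz2
    exact mul_self_eq_one_iff.mp hz2
  by_cases hp : p = 2
  · subst hp
    have hz1 : z = 1 := by
      rcases hz3 with h | h
      · exact h
      · rw [h]; exact CharTwo.neg_eq 1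
    rw [hz1, one_smul] at hTT
    exact exists_msys_two hB hnd hT hTT hm
  · have h2F : (2 : F) ≠ 0 := by
      have : Fact (Nat.Prime 2) := ⟨Nat.prime_two⟩
      have := cast_ne_zero (F := F) (p := p) (r := 2) (Ne.symm hp)
      exact_mod_cast this
    rcases hz3 with rfl | rfl
    · rw [one_smul] at hTT
      have hP : ∀ v w, (∃ ε : F, ε ^ 2 = 1 ∧ T v = ε • v ∧ T w = ε • w) →
          T v ∈ Submodule.span F {v, w} ∧ T w ∈ Submodule.span F {v, w} := by
        rintro v w ⟨ε, -, h1, h3⟩
        rw [h1, h3]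
        exact ⟨Submodule.smul_mem _ _ (Submodule.subset_span (by simp)), Submodule.smul_mem _ _ (Submodule.subset_span (by simp))⟩
      obtain ⟨v, w, hs⟩ := exists_psys hB hnd hT (P := fun v w => ∃ ε : F, ε ^ 2 = 1 ∧ T v = ε • v ∧ T w = ε • w) hP
        (fun W hW hWnd hne => plane_one h2F hT hTT hW hWnd hne) hm
      exact ⟨v, w, 1, hs.msys hP⟩
    · have hTT' : T * T = -1 := by rw [hTT]; apply LinearMap.ext; intro v; simp
      have hP : ∀ v w, (T v = w ∧ T w = -v) → T v ∈ Submodule.span F {v, w} ∧ T w ∈ Submodule.span F {v, w} := by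
        rintro v w ⟨h1, h3⟩
        rw [h1, h3]
        exact ⟨Submodule.subset_span (by simp), Submodule.neg_mem _ (Submodule.subset_span (by simp))⟩
      obtain ⟨v, w, hs⟩ := exists_psys hB hnd hT (P := fun v w => T v = w ∧ T w = -v) hP
        (fun W hW hWnd hne => plane_neg hB h2F hT hTT' hW hWnd hne) hm
      exact ⟨v, w, 1, hs.msys hP⟩

section group

variable {m : ℕ} {v w : Fin m → V}

/-- the span of the planes with label `l` -/
def blockS (F : Type*) {V : Type*} [Field F] [AddCommGroup V] [Module F V] {m : ℕ} (v w : Fin m → V) (f : Fin m → ℕ) (l : ℕ) :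
    Submodule F V :=
  Submodule.span F {x | ∃ j, f j = l ∧ (x = v j ∨ x = w j)}

lemma v_mem_block (f : Fin m → ℕ) (j : Fin m) : v j ∈ blockS F v w f (f j) :=
  Submodule.subset_span ⟨j, rfl, Or.inl rfl⟩

lemma w_mem_block (f : Fin m → ℕ) (j : Fin m) : w j ∈ blockS F v w f (f j) :=
  Submodule.subset_span ⟨j, rfl, Or.inr rfl⟩

variable {P : V → V → Prop}

lemma PSys.block_orth (h : PSys B P v w) (hB : Alt B) (f : Fin m → ℕ) {l l' : ℕ} (hl : l ≠ l') :
    ∀ x ∈ blockS F v w f l, ∀ y ∈ blockS F v w f l', B x y = 0 := by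
  apply orth_span
  rintro a ⟨j, hj, ha⟩ b ⟨k, hk, hb⟩
  have hjk : j ≠ k := by rintro rfl; exact hl (hj.symm.trans hk)
  rcases ha with rfl | rfl <;> rcases hb with rfl | rfl
  · exact h.vv j k
  · exact h.vw j k hjk
  · rw [hB.skew, h.vw k j hjk.symm, neg_zero]
  · exact h.ww j k

lemma PSys.finrank_block (h : PSys B P v w) (f : Fin m → ℕ) (l : ℕ) :
    finrank F (blockS F v w f l) = 2 * (Finset.univ.filter fun j => f j = l).card := by
  classical
  let s : Finset (Fin m ⊕ Fin m) := Finset.univ.filter fun x => f (Sum.elim id id x) = l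
  have hli := h.li.comp (fun i : s => (i : Fin m ⊕ Fin m)) Subtype.val_injective
  have h1 := finrank_span_eq_card hli
  have h2 : Set.range (Sum.elim v w ∘ fun i : s => (i : Fin m ⊕ Fin m)) = {x | ∃ j, f j = l ∧ (x = v j ∨ x = w j)} := by
    ext x
    constructor
    · rintro ⟨⟨i, hi⟩, rfl⟩
      have hi' := (Finset.mem_filter.mp hi).2
      rcases i with j | j
      · exact ⟨j, hi', Or.inl rfl⟩
      · exact ⟨j, hi', Or.inr rfl⟩
    · rintro ⟨j, hj, rfl | rfl⟩
      · exact ⟨⟨Sum.inl j, Finset.mem_filter.mpr ⟨Finset.mem_univ _, hj⟩⟩, rfl⟩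
      · exact ⟨⟨Sum.inr j, Finset.mem_filter.mpr ⟨Finset.mem_univ _, hj⟩⟩, rfl⟩
  rw [h2] at h1
  unfold blockS
  rw [h1, Fintype.card_coe]
  have h3 : s = (Finset.univ.filter fun j => f j = l).disjSum (Finset.univ.filter fun j => f j = l) := by
    ext x
    rcases x with j | j <;> simp [s]
  rw [h3, Finset.card_disjSum]
  ring

lemma PSys.iSup_block (h : PSys B P v w) [FiniteDimensional F V] (hm : finrank F V = 2 * m) (f : Fin m → ℕ) {t : ℕ}
    (hf : ∀ j, f j < t) : ⨆ l : Fin t, blockS F v w f l = ⊤ := by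
  rw [eq_top_iff, ← (h.basis hm).span_eq, Submodule.span_le]
  rintro x ⟨i, rfl⟩
  rcases i with j | j
  · rw [h.basis_inl]
    exact Submodule.mem_iSup_of_mem ⟨f j, hf j⟩ (v_mem_block f j)
  · rw [h.basis_inr]
    exact Submodule.mem_iSup_of_mem ⟨f j, hf j⟩ (w_mem_block f j)

lemma PSys.nd_block (h : PSys B P v w) (hB : Alt B) (f : Fin m → ℕ) (l : ℕ) : ND (σ := RingHom.id F) B (blockS F v w f l) := by
  -- explicit coordinates
  have key : ∀ x ∈ blockS F v w f l, ∃ a b : Fin m → F, (∀ j, f j ≠ l → a j = 0 ∧ b j = 0) ∧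
      x = ∑ j, a j • v j + ∑ j, b j • w j := by
    intro x hx
    induction hx using Submodule.span_induction with
    | mem x hx =>
      obtain ⟨j, hj, rfl | rfl⟩ := hx
      · refine ⟨Pi.single j 1, 0, fun k hk => ⟨?_, rfl⟩, ?_⟩
        · rw [Pi.single_eq_of_ne]; rintro rfl; exact hk hj
        · rw [Finset.sum_eq_single j (fun k _ hk => by rw [Pi.single_eq_of_ne hk, zero_smul])
            (fun hj => absurd (Finset.mem_univ j) hj), Pi.single_eq_same, one_smul]
          simp
      · refine ⟨0, Pi.single j 1, fun k hk => ⟨rfl, ?_⟩, ?_⟩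
        · rw [Pi.single_eq_of_ne]; rintro rfl; exact hk hj
        · rw [Finset.sum_eq_single (s := Finset.univ) (f := fun k => (Pi.single j (1 : F) : Fin m → F) k • w k) j
            (fun k _ hk => by rw [Pi.single_eq_of_ne hk, zero_smul])
            (fun hj => absurd (Finset.mem_univ j) hj), Pi.single_eq_same, one_smul]
          simp
    | zero => exact ⟨0, 0, fun _ _ => ⟨rfl, rfl⟩, by simp⟩
    | add x y _ _ hx hy =>
      obtain ⟨a, b, h1, rfl⟩ := hx
      obtain ⟨a', b', h1', rfl⟩ := hy
      refine ⟨a + a', b + b', fun j hj => ⟨by rw [Pi.add_apply, (h1 j hj).1, (h1' j hj).1, add_zero],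
        by rw [Pi.add_apply, (h1 j hj).2, (h1' j hj).2, add_zero]⟩, ?_⟩
      simp only [Pi.add_apply, add_smul, Finset.sum_add_distrib]
      abel
    | smul c x _ hx =>
      obtain ⟨a, b, h1, rfl⟩ := hx
      refine ⟨c • a, c • b, fun j hj => ⟨by rw [Pi.smul_apply, (h1 j hj).1, smul_zero],
        by rw [Pi.smul_apply, (h1 j hj).2, smul_zero]⟩, ?_⟩
      simp only [Pi.smul_apply, smul_assoc, Finset.smul_sum, smul_add]
  intro x hx hx'
  obtain ⟨a, b, hab, rfl⟩ := key x hx
  have ha : ∀ j, a j = 0 := by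
    intro j
    by_cases hj : f j = l
    · have h1 := hx' (w j) (by rw [← hj]; exact w_mem_block f j)
      simp only [map_add, LinearMap.add_apply, map_sum, LinearMap.sum_apply, map_smul, LinearMap.smul_apply, smul_eq_mul, h.ww,
        mul_zero, Finset.sum_const_zero, add_zero] at h1
      rw [Finset.sum_eq_single j (fun k _ hk => by rw [h.vw k j hk, mul_zero]) (fun hj => absurd (Finset.mem_univ j) hj)] at h1
      exact (mul_eq_zero.mp h1).resolve_right (h.ne j)
    · exact (hab j hj).1
  have hb : ∀ j, b j = 0 := by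
    intro j
    by_cases hj : f j = l
    · have h1 := hx' (v j) (by rw [← hj]; exact v_mem_block f j)
      simp only [map_add, LinearMap.add_apply, map_sum, LinearMap.sum_apply, map_smul, LinearMap.smul_apply, smul_eq_mul, h.vv,
        mul_zero, Finset.sum_const_zero, zero_add] at h1
      rw [Finset.sum_eq_single j (fun k _ hk => by rw [hB.skew, h.vw j k hk.symm, neg_zero, mul_zero])
        (fun hj => absurd (Finset.mem_univ j) hj)] at h1
      have h2 : B (w j) (v j) ≠ 0 := by rw [hB.skew]; exact neg_ne_zero.mpr (h.ne j)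
      exact (mul_eq_zero.mp h1).resolve_right h2
    · exact (hab j hj).2
  simp [ha, hb]

end group

end Cfsg.Agent.Lib.Sesq
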