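import Mathlib
import Cfsg.Agent.Lib.Sesq6
import Cfsg.Agent.Lib.PrimeOrd2

/-! Isometries of odd prime order `r ≠ p` of symplectic spaces. (helper99) -/

set_option autoImplicit false

namespace Cfsg.Agent.Lib.Sesq

open Polynomial Module Cfsg.Agent.Lib.InvSub Cfsg.Agent.Lib.PrimeOrd

section general

variable {F V : Type*} [Field F] [AddCommGroup V] [Module F V] {σ : F →+* F} {B : V →ₗ[F] V →ₛₗ[σ] F}

lemma inv_pow {T : Module.End F V} {W : Submodule F V} (hW : Inv T W) (k : ℕ) : Inv (T ^ k) W := by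
  induction k with
  | zero => intro x hx; exact hx
  | succ k ih => intro x hx; rw [pow_succ, Module.End.mul_apply]; exact ih _ (hW x hx)

/-- the fixed space in an invariant nondegenerate subspace is nondegenerate -/
theorem nd_inf_E {T : Module.End F V} (hT : Iso B T) {r : ℕ} (hr : (r : F) ≠ 0) (hTr : T ^ r = 1) {W : Submodule F V}
    (hW : Inv T W) (hWnd : ND B W) : ND B (W ⊓ E T 1) := by
  intro u hu hu'
  apply hWnd u hu.1
  intro v hv
  have hTu : T u = u := by
    have := Module.End.mem_eigenspace_iff.mp hu.2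
    rwa [one_smul] at this
  have hTku : ∀ k : ℕ, (T ^ k) u = u := by
    intro k
    induction k with
    | zero => rfl
    | succ k ih => rw [pow_succ, Module.End.mul_apply, hTu, ih]
  have h1 : ∀ k : ℕ, B u ((T ^ k) v) = B u v := by
    intro k
    conv_lhs => rw [← hTku k]
    exact hT.pow k u v
  have h2 : (∑ k ∈ Finset.range r, (T ^ k) v) ∈ W ⊓ E T 1 := by
    refine Submodule.mem_inf.mpr ⟨Submodule.sum_mem _ (fun k _ => inv_pow hW k v hv), ?_⟩
    rw [Module.End.mem_eigenspace_iff, one_smul, map_sum]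
    have h3 : ∀ k, T ((T ^ k) v) = (T ^ (k + 1)) v := fun k => by rw [pow_succ', Module.End.mul_apply]
    simp only [h3]
    have h4 := Finset.sum_range_succ' (fun k => (T ^ k) v) r
    have h5 := Finset.sum_range_succ (fun k => (T ^ k) v) r
    rw [h5, hTr, pow_zero] at h4
    exact (add_right_cancel h4).symm
  have h3 := hu' _ h2
  rw [map_sum, Finset.sum_congr rfl (fun k _ => h1 k), Finset.sum_const, Finset.card_range, nsmul_eq_mul] at h3
  exact (mul_eq_zero.mp h3).resolve_left hr

end general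

section alt

variable {F V : Type*} [Field F] [AddCommGroup V] [Module F V] {B : V →ₗ[F] V →ₗ[F] F}

/-- adjoint of a polynomial in `T` -/
lemma adj_poly {T T' : Module.End F V} (h : ∀ u v, B (T u) v = B u (T' v)) (f : F[X]) :
    ∀ u v, B (aeval T f u) v = B u (aeval T' f v) := by
  have hpow : ∀ k : ℕ, ∀ u v, B ((T ^ k) u) v = B u ((T' ^ k) v) := by
    intro k
    induction k with
    | zero => intro u v; rfl
    | succ k ih => intro u v; rw [pow_succ, Module.End.mul_apply, ih, h, ← Module.End.mul_apply, ← pow_succ']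
  induction f using Polynomial.induction_on' with
  | add p q hp hq => intro u v; rw [map_add, map_add, LinearMap.add_apply, LinearMap.add_apply, map_add, map_add,
      LinearMap.add_apply, hp, hq]
  | monomial k a =>
    intro u v
    rw [← C_mul_X_pow_eq_monomial, map_mul, map_mul, aeval_C, aeval_C, map_pow, map_pow, aeval_X, aeval_X]
    change B (a • ((T ^ k) u)) v = B u (a • ((T' ^ k) v))
    rw [map_smul, map_smul, LinearMap.smul_apply, hpow]

/-- Frobenius and polynomials over the field with `q` elements -/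
lemma aeval_pow_card [Fintype F] (T : Module.End F V) (f : F[X]) (k : ℕ) :
    aeval (T ^ (Fintype.card F ^ k)) f = (aeval T f) ^ (Fintype.card F ^ k) := by
  induction k with
  | zero => rw [pow_zero, pow_one, pow_one]
  | succ k ih =>
    rw [pow_succ, pow_mul, pow_mul, ← ih]
    generalize T ^ (Fintype.card F ^ k) = S
    have h1 := congrArg (aeval S) (FiniteField.expand_card f)
    rw [expand_aeval, map_pow] at h1
    exact h1

lemma ord_half {q r i : ℕ} (hr : r.Prime) (hi : i = orderOf (q : ZMod r)) (he : Even i) (hi0 : 0 < i) :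
    ((q ^ (i / 2) : ℕ) : ZMod r) = -1 := by
  have : Fact r.Prime := ⟨hr⟩
  obtain ⟨j, hj⟩ := he
  have h1 : i / 2 = j := by omega
  have h2 : ((q : ZMod r) ^ j) ^ 2 = 1 := by
    rw [← pow_mul, show j * 2 = i by omega, hi]; exact pow_orderOf_eq_one _
  have h3 : (q : ZMod r) ^ j ≠ 1 := by
    intro h
    have := orderOf_dvd_of_pow_eq_one h
    rw [← hi] at this
    have := Nat.le_of_dvd (by omega) this
    omega
  rw [h1]
  push_cast
  rw [pow_two] at h2
  exact (mul_self_eq_one_iff.mp h2).resolve_left h3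

lemma pow_eq_of_mod {T : Module.End F V} {r : ℕ} (hT : T ^ r = 1) {a b : ℕ} (h : ((a : ℕ) : ZMod r) = b) : T ^ a = T ^ b := by
  have h1 : a % r = b % r := (ZMod.natCast_eq_natCast_iff' a b r).mp h
  have h2 : ∀ a, T ^ a = T ^ (a % r) := by
    intro a
    conv_lhs => rw [← Nat.div_add_mod a r, pow_add, pow_mul, hT, one_pow, one_mul]
  rw [h2 a, h2 b, h1]

/-- for `i` even, `f(T) = 0` implies `f(T⁻¹) = 0` -/
lemma aeval_inv [Fintype F] {T : Module.End F V} {r : ℕ} (hr : r.Prime) (hT : T ^ r = 1) {i : ℕ}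
    (hi : i = orderOf ((Fintype.card F : ℕ) : ZMod r)) (he : Even i) (hi0 : 0 < i) {f : F[X]} {v : V} (h : aeval T f v = 0) :
    aeval (T ^ (r - 1)) f v = 0 := by
  have h1 : T ^ (r - 1) = T ^ (Fintype.card F ^ (i / 2)) := by
    apply pow_eq_of_mod hT
    rw [ord_half hr hi he hi0, Nat.cast_sub hr.one_le]
    simp
  rw [h1, aeval_pow_card]
  obtain ⟨m, hm⟩ : ∃ m, Fintype.card F ^ (i / 2) = m + 1 :=
    ⟨Fintype.card F ^ (i / 2) - 1, by have : 0 < Fintype.card F ^ (i / 2) := Nat.pow_pos Fintype.card_pos; omega⟩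
  rw [hm, pow_succ, Module.End.mul_apply, h, map_zero]

lemma iso_adj {σ : F →+* F} {B : V →ₗ[F] V →ₛₗ[σ] F} {T : Module.End F V} (hT : Iso B T) {r : ℕ} (hr : 0 < r) (hTr : T ^ r = 1)
    (u v : V) : B (T u) v = B u ((T ^ (r - 1)) v) := by
  rw [← hT u ((T ^ (r - 1)) v), ← Module.End.mul_apply T, ← pow_succ', Nat.sub_add_cancel hr, hTr]
  rfl

end alt

end Cfsg.Agent.Lib.Sesq
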