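import Mathlib
import Cfsg.Agent.Lib.Sesq7
import Cfsg.Agent.Lib.AltForm

/-! Atoms: minimal nondegenerate invariant subspaces. (helper99) -/

set_option autoImplicit false

namespace Cfsg.Agent.Lib.Sesq

open Polynomial Module Cfsg.Agent.Lib.InvSub Cfsg.Agent.Lib.PrimeOrd

section general

variable {F V : Type*} [Field F] [AddCommGroup V] [Module F V] {σ : F →+* F} {B : V →ₗ[F] V →ₛₗ[σ] F}

/-- a cyclic subspace (irreducible) which is not totally isotropic is nondegenerate -/
theorem nd_cyclic [FiniteDimensional F V] (hr : Refl B) (hnd : ND B ⊤) {T : Module.End F V} (hT : Iso B T) {f : F[X]}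
    (hf : Irreducible f) {u : V} (hu : u ≠ 0) (hfu : aeval T f u = 0) {W : Submodule F V} (hW : Inv T W) (huW : u ∈ W)
    (hfW : ∀ w ∈ W, aeval T f w = 0) (hne : ∃ x y, x ∈ W ∧ y ∈ W ∧ (∀ W', Inv T W' → u ∈ W' → x ∈ W' ∧ y ∈ W') ∧ B x y ≠ 0) :
    ∃ U ≤ W, Inv T U ∧ ND B U ∧ finrank F U = f.natDegree ∧ u ∈ U := by
  obtain ⟨U, hU, hUf, huU, hUmin⟩ := cyclic_aux hf hu hfu
  refine ⟨U, hUmin W hW huW, hU, ?_, hUf, huU⟩
  rw [nd_iff hr]
  by_contra hR
  obtain ⟨x, hx, hx0⟩ := Submodule.exists_mem_ne_zero_of_ne_bot hR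
  have hRinv : Inv T (U ⊓ perp B U) := inv_inf hU (hT.inv_perp hnd hU)
  obtain ⟨X, hX, hXf, hxX, hXmin⟩ := cyclic_aux hf hx0 (hfW x (hUmin W hW huW hx.1))
  have h1 : X ≤ U ⊓ perp B U := hXmin _ hRinv hx
  have h2 : X = U := Submodule.eq_of_le_of_finrank_eq (h1.trans inf_le_left) (by rw [hXf, hUf])
  obtain ⟨a, b, -, -, hab, hBab⟩ := hne
  obtain ⟨ha, hb⟩ := hab U hU huU
  apply hBab
  rw [← h2] at hb
  exact (h1 hb).2 a ha

/-- the dimension of `W ⊓ U^⊥` -/
lemma finrank_inf_perp [Finite F] [FiniteDimensional F V] (hr : Refl B) (hnd : ND B ⊤) {W U : Submodule F V} (hW : ND B W)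
    (hUW : U ≤ W) : finrank F U + finrank F ↥(W ⊓ perp B U) = finrank F W := by
  have h1 := isCompl_perp hr hW
  have h2 : perp B U = (W ⊓ perp B U) ⊔ perp B W := by
    rw [inf_comm, inf_sup_assoc_of_le _ (perp_mono hUW), h1.sup_eq_top, inf_top_eq]
  have h3 := finrank_add_perp hnd U
  have h4 := finrank_add_perp hnd W
  have h5 := Submodule.finrank_sup_add_finrank_inf_eq (W ⊓ perp B U) (perp B W)
  rw [← h2] at h5
  have h6 : (W ⊓ perp B U) ⊓ perp B W = ⊥ := by
    rw [eq_bot_iff]
    calc (W ⊓ perp B U) ⊓ perp B W ≤ W ⊓ perp B W := inf_le_inf_right _ inf_le_left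
      _ = ⊥ := (nd_iff hr).mp hW
      _ ≤ ⊥ := le_rfl
  rw [h6, finrank_bot] at h5
  omega

/-- a totally isotropic invariant subspace is contained in a nondegenerate one of twice the dimension -/
theorem exists_double_nd [Finite F] [FiniteDimensional F V] (hr : Refl B) (hnd : ND B ⊤) {T : Module.End F V} (hT : Iso B T)
    (hcompl : ∀ W, Inv T W → ∃ W', Inv T W' ∧ IsCompl W W') {W U : Submodule F V} (hW : Inv T W) (hWnd : ND B W)
    (hU : Inv T U) (hUW : U ≤ W) (hti : TI B U) : ∃ H ≤ W, Inv T H ∧ ND B H ∧ finrank F H = 2 * finrank F U ∧ U ≤ H := by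
  have hP : Inv T (W ⊓ perp B U) := inv_inf hW (hT.inv_perp hnd hU)
  obtain ⟨W'', hW'', hc⟩ := hcompl _ hP
  have hfr := finrank_inf_perp hr hnd hWnd hUW
  set P := W ⊓ perp B U with hPdef
  set X := W ⊓ W'' with hXdef
  have hPX : P ⊔ X = W := by
    rw [hXdef, inf_comm, ← sup_inf_assoc_of_le _ (inf_le_left : P ≤ W), hc.sup_eq_top, top_inf_eq]
  have hPXd : P ⊓ X = ⊥ := by
    rw [eq_bot_iff]
    exact (inf_le_inf_left _ inf_le_right).trans (by rw [hc.inf_eq_bot])
  have hXf : finrank F X = finrank F U := by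
    have h1 := Submodule.finrank_sup_add_finrank_inf_eq P X
    rw [hPX, hPXd, finrank_bot] at h1
    omega
  have hUP : U ≤ P := le_inf hUW (ti_iff.mp hti)
  refine ⟨U ⊔ X, sup_le hUW inf_le_left, inv_sup hU (inv_inf hW hW''), ?_, ?_, le_sup_left⟩
  · intro x hx hx'
    obtain ⟨a, ha, b, hb, rfl⟩ := Submodule.mem_sup.mp hx
    have hb0 : b = 0 := by
      have h1 : b ∈ P := by
        refine Submodule.mem_inf.mpr ⟨hb.1, fun y hy => ?_⟩
        have h2 := hx' y (Submodule.mem_sup_left hy)
        rw [map_add, LinearMap.add_apply, hti a ha y hy, zero_add] at h2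
        exact hr _ _ h2
      have : b ∈ P ⊓ X := ⟨h1, hb⟩
      rw [hPXd] at this
      exact (Submodule.mem_bot F).mp this
    rw [hb0, add_zero]
    rw [hb0, add_zero] at hx'
    apply hWnd a (hUW ha)
    intro w hw
    rw [← hPX] at hw
    obtain ⟨c, hc, e, he, rfl⟩ := Submodule.mem_sup.mp hw
    rw [map_add, hc.2 a ha, hx' e (Submodule.mem_sup_right he), add_zero]
  · have h1 := Submodule.finrank_sup_add_finrank_inf_eq U X
    have h2 : U ⊓ X = ⊥ := by
      rw [eq_bot_iff, ← hPXd]
      exact inf_le_inf_right _ hUP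
    rw [h2, finrank_bot] at h1
    omega

end general

section alt

variable {F V : Type*} [Field F] [AddCommGroup V] [Module F V] {B : V →ₗ[F] V →ₗ[F] F}

lemma even_of_nd [FiniteDimensional F V] (hB : Alt B) {U : Submodule F V} (hU : ND (σ := RingHom.id F) B U) : Even (finrank F U) := by
  apply Cfsg.Agent.Lib.AltForm.even_finrank (B.domRestrict₁₂ U U)
  · intro v; exact hB v
  · intro v hv
    apply Subtype.ext
    exact hU v v.2 (fun w hw => hv ⟨w, hw⟩)

/-- on a nondegenerate invariant subspace without fixed vectors, `B(Tu,u) ≠ 0` for some `u` -/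
theorem exists_ne_self (hB : Alt B) (hnd : ND (σ := RingHom.id F) B ⊤) [FiniteDimensional F V] {T : Module.End F V}
    (hT : Iso (σ := RingHom.id F) B T) {r : ℕ} (hr : Odd r) (hTr : T ^ r = 1) {M : Submodule F V} (hM : Inv T M)
    (hMnd : ND (σ := RingHom.id F) B M) (hne : M ≠ ⊥) (hE : M ⊓ E T 1 = ⊥) : ∃ u ∈ M, B (T u) u ≠ 0 := by
  by_contra hcon
  push Not at hcon
  have h1 : ∀ u ∈ M, ∀ v ∈ M, B (T u) v = B u (T v) := by
    intro u hu v hv
    have := hcon (u + v) (M.add_mem hu hv)
    simp only [map_add, LinearMap.add_apply] at this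
    rw [hcon u hu, hcon v hv, zero_add, add_zero] at this
    rw [eq_neg_of_add_eq_zero_right this, hB.skew, neg_neg]
  have h2 : ∀ v ∈ M, T (T v) = v := by
    intro v hv
    have h3 : T (T v) - v = 0 := by
      apply hMnd _ (M.sub_mem (hM _ (hM v hv)) hv)
      intro w hw
      have h4 : w ∈ M.map T := by rw [hT.map_eq hnd hM]; exact hw
      obtain ⟨u, hu, rfl⟩ := h4
      rw [map_sub, LinearMap.sub_apply, hT (T v) u, h1 v hv u hu, sub_self]
    exact sub_eq_zero.mp h3
  obtain ⟨v, hv, hv0⟩ := Submodule.exists_mem_ne_zero_of_ne_bot hne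
  apply hv0
  have h3 : ∀ k : ℕ, (T ^ (2 * k)) v = v := by
    intro k
    induction k with
    | zero => rfl
    | succ k ih =>
      rw [show 2 * (k + 1) = 2 * k + 1 + 1 from by ring, pow_succ, pow_succ, Module.End.mul_apply, Module.End.mul_apply, h2 v hv, ih]
  obtain ⟨k, hk⟩ := hr
  have h4 : T v = v := by
    have h5 : (T ^ r) v = v := by rw [hTr]; rfl
    rw [hk, pow_succ', Module.End.mul_apply, h3] at h5
    exact h5
  have : v ∈ M ⊓ E T 1 := ⟨hv, by
    change v ∈ E T 1
    rw [Module.End.mem_eigenspace_iff, one_smul]; exact h4⟩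
  rw [hE] at this
  exact (Submodule.mem_bot F).mp this

/-- the size of the atoms -/
def csize (i : ℕ) : ℕ := if Even i then i else 2 * i

theorem exists_atom [Fintype F] [FiniteDimensional F V] {p r : ℕ} [Fact p.Prime] [CharP F p] [Fact r.Prime] (hrp : r ≠ p)
    (hr2 : Odd r) (hB : Alt B) (hnd : ND (σ := RingHom.id F) B ⊤) {T : Module.End F V} (hT : Iso (σ := RingHom.id F) B T)
    (hTr : T ^ r = 1) {W : Submodule F V} (hW : Inv T W) (hWnd : ND (σ := RingHom.id F) B W) (hne : W ≠ ⊥) (hE : W ⊓ E T 1 = ⊥) :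
    ∃ U ≤ W, Inv T U ∧ ND (σ := RingHom.id F) B U ∧
      finrank F U = csize (orderOf ((Fintype.card F : ℕ) : ZMod r)) := by
  have hr : r.Prime := Fact.out
  have hrF : (r : F) ≠ 0 := cast_ne_zero (F := F) (p := p) hrp
  set i := orderOf ((Fintype.card F : ℕ) : ZMod r) with hi
  have hi0 : 0 < i := order_pos (F := F) (p := p) hrp
  have hss : SS T 1 i := ssB (p := p) hrp one_ne_zero (by rw [one_pow, one_smul]; exact hTr)
  by_cases he : Even i
  · rw [csize, if_pos he]
    -- an irreducible factor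
    have hX0 : (X ^ r - 1 : F[X]) ≠ 0 := X_pow_sub_C_ne_zero hr.pos 1
    have hTT : aeval T (X ^ r - 1 : F[X]) = 0 := by rw [map_sub, map_pow, aeval_X, map_one, hTr, sub_self]
    obtain ⟨f, hf, hfd, w, hw, hw0, hfw⟩ := exists_irred_factor hX0 hTT hW hne
    -- degree
    have hfc : f ∣ cyclotomic r F := by
      rw [← cyclotomic_prime_mul_X_sub_one F r] at hfd
      rcases (hf.prime.dvd_or_dvd hfd) with h | h
      · exact h
      · exfalso
        obtain ⟨g, hg⟩ := h
        have h1 : aeval T (X - 1 : F[X]) w = 0 := by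
          rw [hg, mul_comm, map_mul, Module.End.mul_apply, hfw, map_zero]
        rw [map_sub, aeval_X, map_one, LinearMap.sub_apply, sub_eq_zero] at h1
        have : w ∈ W ⊓ E T 1 := ⟨hw, by
          change w ∈ E T 1
          rw [Module.End.mem_eigenspace_iff, one_smul]; exact h1⟩
        rw [hE] at this
        exact hw0 ((Submodule.mem_bot F).mp this)
    have hdeg : f.natDegree = i := natDegree_irred_cyclotomic hrp hf hfc
    -- the component M
    let M : Submodule F V := W ⊓ LinearMap.ker (aeval T f)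
    have hMinv : Inv T M := by
      apply inv_inf hW
      intro x hx
      rw [LinearMap.mem_ker] at hx ⊢
      have : aeval T f (T x) = T (aeval T f x) := by
        have h1 : aeval T (f * X) = aeval T (X * f) := by rw [mul_comm]
        rw [map_mul, map_mul, aeval_X] at h1
        exact congrArg (fun g : Module.End F V => g x) h1
      rw [this, hx, map_zero]
    obtain ⟨g, hg⟩ := hfd
    have hsep : (X ^ r - 1 : F[X]).Separable := by
      have := separable_X_pow_sub_C (1 : F) hrF one_ne_zero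
      rwa [C_1] at this
    have hcop : IsCoprime f g := by
      rw [hg] at hsep
      exact hsep.isCoprime
    obtain ⟨a, b, hab⟩ := hcop
    have hadj := adj_poly (fun u v => iso_adj hT hr.pos hTr u v) f
    have hWpoly : ∀ (P : F[X]) (x : V), x ∈ W → aeval T P x ∈ W := by
      intro P x hx
      induction P using Polynomial.induction_on' with
      | add p q hp hq => rw [map_add]; exact W.add_mem hp hq
      | monomial k c =>
        rw [← C_mul_X_pow_eq_monomial, map_mul, aeval_C, map_pow, aeval_X]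
        exact W.smul_mem c (inv_pow hW k x hx)
    have hMnd : ND (σ := RingHom.id F) B M := by
      intro m hm hm'
      apply hWnd m hm.1
      intro x hx
      have hx1 : x = aeval T (b * g) x + aeval T f (aeval T a x) := by
        have : aeval T (b * g) x + aeval T f (aeval T a x) = aeval T (a * f + b * g) x := by
          rw [mul_comm a f, map_add, map_mul (aeval T) f a, LinearMap.add_apply, Module.End.mul_apply, add_comm]
        rw [this, hab, map_one]; rfl
      have h1 : aeval T (b * g) x ∈ M := by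
        refine Submodule.mem_inf.mpr ⟨hWpoly _ x hx, ?_⟩
        rw [LinearMap.mem_ker, ← Module.End.mul_apply, ← map_mul, show f * (b * g) = b * (f * g) by ring, ← hg, map_mul, hTT,
          mul_zero]
        rfl
      rw [hx1, map_add, hm' _ h1, zero_add]
      -- B m (f(T) y) = - B (f(T) y) m = - B y (f(T') m)
      rw [hB.skew, hadj, aeval_inv hr hTr hi he hi0 (by exact hm.2), map_zero, neg_zero]
    have hMne : M ≠ ⊥ := by
      intro h
      have : w ∈ M := Submodule.mem_inf.mpr ⟨hw, hfw⟩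
      rw [h] at this
      exact hw0 ((Submodule.mem_bot F).mp this)
    have hME : M ⊓ E T 1 = ⊥ := by
      rw [eq_bot_iff, ← hE]
      exact inf_le_inf_right _ inf_le_left
    obtain ⟨u, hu, huu⟩ := exists_ne_self hB hnd hT hr2 hTr hMinv hMnd hMne hME
    have hu0 : u ≠ 0 := by
      rintro rfl
      rw [map_zero] at huu
      exact huu rfl
    obtain ⟨U, hUM, hU, hUnd, hUf, -⟩ := nd_cyclic hB.refl hnd hT hf hu0 hu.2 hMinv hu (fun m hm => hm.2)
      ⟨T u, u, hMinv u hu, hu, fun W' hW' huW' => ⟨hW' u huW', huW'⟩, huu⟩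
    exact ⟨U, hUM.trans inf_le_left, hU, hUnd, by rw [hUf, hdeg]⟩
  · rw [csize, if_neg he]
    have hdisj : Disjoint (E T 1) W := by rw [disjoint_iff, inf_comm]; exact hE
    obtain ⟨U, hUW, hU, hUf⟩ := hss.ex W hW hne hdisj
    -- U is totally isotropic
    have hti : TI (σ := RingHom.id F) B U := by
      rw [ti_iff]
      by_contra hnle
      have hR : Inv T (U ⊓ perp (σ := RingHom.id F) B U) := inv_inf hU (hT.inv_perp hnd hU)
      have hR0 : U ⊓ perp (σ := RingHom.id F) B U = ⊥ := by
        by_contra hRne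
        obtain ⟨U', hU'R, -, hU'f⟩ := hss.ex _ hR hRne (by
          rw [disjoint_iff, eq_bot_iff, ← hE, inf_comm]
          exact inf_le_inf_right _ (inf_le_left.trans hUW))
        have : U' = U := Submodule.eq_of_le_of_finrank_eq (hU'R.trans inf_le_left) (by rw [hU'f, hUf])
        apply hnle
        rw [this] at hU'R
        exact hU'R.trans inf_le_right
      have := even_of_nd hB ((nd_iff hB.refl).mpr hR0)
      rw [hUf] at this
      exact he this
    obtain ⟨H, hHW, hH, hHnd, hHf, -⟩ := exists_double_nd hB.refl hnd hT hss.compl hW hWnd hU hUW hti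
    exact ⟨H, hHW, hH, hHnd, by rw [hHf, hUf]⟩

end alt

end Cfsg.Agent.Lib.Sesq
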