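import Mathlib
import Cfsg.Agent.Lib.SpTrans

set_option autoImplicit false

/-!
Overgroups, in the symplectic group, of subspace stabilisers and of stabilisers of orthogonal decompositions.
-/

namespace Cfsg.Agent.Lib.SpMax

open Cfsg.Agent.Lib.SpTrans

variable {F V : Type*} [Field F] [AddCommGroup V] [Module F V]

/-! ### Components of a direct sum decomposition -/

theorem exists_comps {t : ℕ} {D : Fin t → Submodule F V} (hi : iSupIndep D) (hs : iSup D = ⊤) :
    ∃ π : Fin t → V →ₗ[F] V, (∀ i x, π i x ∈ D i) ∧ (∀ i, ∀ x ∈ D i, π i x = x) ∧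
      (∀ i j, i ≠ j → ∀ x ∈ D i, π j x = 0) ∧ ∀ x, ∑ i, π i x = x := by
  classical
  have hI : DirectSum.IsInternal D := DirectSum.isInternal_submodule_of_iSupIndep_of_iSup_eq_top hi hs
  let e : (DirectSum (Fin t) fun i => D i) ≃ₗ[F] V := LinearEquiv.ofBijective (DirectSum.coeLinearMap D) hI
  have he : ∀ i (x : D i), e (DirectSum.lof F (Fin t) (fun i => D i) i x) = (x : V) := by
    intro i x
    exact DirectSum.coeLinearMap_lof D i x
  refine ⟨fun i => (D i).subtype ∘ₗ (DirectSum.component F (Fin t) (fun i => D i) i) ∘ₗ e.symm.toLinearMap,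
    ?_, ?_, ?_, ?_⟩
  · intro i x
    simp
  · intro i x hx
    have : e.symm x = DirectSum.lof F (Fin t) (fun i => D i) i ⟨x, hx⟩ := by
      rw [LinearEquiv.symm_apply_eq, he]
    simp [this]
  · intro i j hij x hx
    have : e.symm x = DirectSum.lof F (Fin t) (fun i => D i) i ⟨x, hx⟩ := by
      rw [LinearEquiv.symm_apply_eq, he]
    simp only [LinearMap.comp_apply, LinearEquiv.coe_coe, this, Submodule.subtype_apply]
    rw [DirectSum.component.of]
    simp [hij]
  · intro x
    obtain ⟨y, rfl⟩ := e.surjective x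
    simp only [LinearMap.comp_apply, LinearEquiv.coe_coe, LinearEquiv.symm_apply_apply,
      Submodule.subtype_apply]
    have h1 : e y = ∑ i, e (DirectSum.lof F (Fin t) (fun i => D i) i (DirectSum.component F (Fin t) (fun i => D i) i y)) := by
      rw [← map_sum]
      congr 1
      exact (DirectSum.sum_univ_of y).symm
    rw [h1]
    exact Finset.sum_congr rfl fun i _ => (he i _).symm

/-! ### Totally singular and nondegenerate subspaces -/

section
variable {B : V →ₗ[F] V →ₗ[F] F} (hB : B.IsAlt)

/-- The orthogonal complement of `W` (for an alternating form). -/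
def perp (B : V →ₗ[F] V →ₗ[F] F) (W : Submodule F V) : Submodule F V where
  carrier := {x | ∀ w ∈ W, B x w = 0}
  add_mem' {a b} ha hb := by intro w hw; simp [ha w hw, hb w hw]
  zero_mem' := by intro w _; simp
  smul_mem' c x hx := by intro w hw; simp [hx w hw]

theorem mem_perp {W : Submodule F V} {x : V} : x ∈ perp B W ↔ ∀ w ∈ W, B x w = 0 := Iff.rfl

variable [FiniteDimensional F V]

theorem ndOn_perp (hnd : NdOn B ⊤) {W : Submodule F V} (hW : NdOn B W) : NdOn B (perp B W) := by
  intro x hx hx0
  obtain ⟨y, -, hy⟩ := hnd x trivial hx0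
  obtain ⟨w, hw, hw'⟩ := exists_decomp hW y
  refine ⟨y - w, hw', ?_⟩
  rw [map_sub, hx w hw, sub_zero]; exact hy

include hB in
/-- If an isometry maps `perp W` into itself (`W` nondegenerate) it maps `W` into itself. -/
theorem map_mem_of_map_perp (hnd : NdOn B ⊤) {W : Submodule F V} (hW : NdOn B W)
    {g : V ≃ₗ[F] V} (hg : g ∈ isom (fun x y => B x y)) (h : ∀ x ∈ perp B W, g x ∈ perp B W) :
    ∀ w ∈ W, g w ∈ W := by
  intro w hw
  have heq : (perp B W).map (g : V →ₗ[F] V) = perp B W := by
    apply Submodule.eq_of_le_of_finrank_eq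
    · rintro _ ⟨x, hx, rfl⟩; exact h x hx
    · exact LinearEquiv.finrank_map_eq _ _
  obtain ⟨w1, hw1, hp⟩ := exists_decomp hW (g w)
  have hp' : g w - w1 ∈ perp B W := hp
  have : g w - w1 = 0 := by
    by_contra hne
    obtain ⟨y, hy, hy'⟩ := ndOn_perp hnd hW _ hp' hne
    apply hy'
    have hy2 := hy
    rw [← heq] at hy2
    obtain ⟨z, hz, hzy⟩ := hy2
    have hzy' : g z = y := hzy
    have e1 : B (g w) y = 0 := by
      have := hg w z
      simp only at this
      rw [← hzy', this, alt_neg hB, hz w hw, neg_zero]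
    have e2 : B w1 y = 0 := by rw [alt_neg hB, hy w1 hw1, neg_zero]
    rw [map_sub, LinearMap.sub_apply, e1, e2, sub_zero]
  rw [sub_eq_zero.1 this]; exact hw1

theorem finrank_perp {W : Submodule F V} (hW : NdOn B W) :
    Module.finrank F W + Module.finrank F (perp B W) = Module.finrank F V := by
  have h1 : W ⊓ perp B W = ⊥ := by
    rw [eq_bot_iff]
    rintro x ⟨hx, hx'⟩
    by_contra hne
    obtain ⟨y, hy, hy'⟩ := hW x hx (by simpa using hne)
    exact hy' (hx' y hy)
  have h2 : W ⊔ perp B W = ⊤ := by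
    rw [eq_top_iff]
    intro x _
    obtain ⟨w, hw, hw'⟩ := exists_decomp hW x
    rw [Submodule.mem_sup]
    exact ⟨w, hw, x - w, hw', by abel⟩
  have := Submodule.finrank_sup_add_finrank_inf_eq W (perp B W)
  rw [h1, h2, finrank_bot, add_zero, finrank_top] at this
  exact this.symm

/-- Two nonzero parts: from one mixed centre to all centres. -/
theorem centres_eq_of_mixed (hnd : NdOn B ⊤) {W : Submodule F V} (hW : NdOn B W)
    {M : Subgroup (V ≃ₗ[F] V)} (hM : M ≤ isom (fun x y => B x y))
    (h1 : tgrp hB W ≤ M) (h2 : tgrp hB (perp B W) ≤ M) {w p : V} (hw : w ∈ W) (hw0 : w ≠ 0)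
    (hp : p ∈ perp B W) (hp0 : p ≠ 0) (hc : w + p ∈ centres hB M) : ∀ v, v ∈ centres hB M := by
  intro v
  obtain ⟨w', hw', hp'⟩ := exists_decomp hW v
  have hp'' : v - w' ∈ perp B W := hp'
  have hv : v = w' + (v - w') := by abel
  by_cases hw'0 : w' = 0
  · intro a
    refine h2 (tv_mem_tgrp hB ?_ a)
    rw [hw'0, sub_zero] at hp''; exact hp''
  by_cases hp'0 : v - w' = 0
  · intro a
    refine h1 (tv_mem_tgrp hB ?_ a)
    rw [sub_eq_zero.1 hp'0]; exact hw'
  obtain ⟨s, hs, hsw⟩ := exists_move hB hW hw hw' hw0 hw'0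
  obtain ⟨t, ht, htp⟩ := exists_move hB (ndOn_perp hnd hW) hp hp'' hp0 hp'0
  have e1 : s p = p := tgrp_fix hB hs hp
  have e2 : t w' = w' := tgrp_fix hB ht (by intro x hx; rw [alt_neg hB, hx w' hw', neg_zero])
  have := centres_map hB hM (centres_map hB hM hc (h1 hs)) (h2 ht)
  rw [map_add, hsw, e1, map_add, e2, htp, ← hv] at this
  exact this

include hB in
/-- Overgroups of the stabiliser of a nondegenerate subspace of less than half the dimension. -/
theorem nd_stab_max (hnd : NdOn B ⊤) {W : Submodule F V} (hW : NdOn B W)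
    (hdim : 2 * Module.finrank F W < Module.finrank F V)
    {M : Subgroup (V ≃ₗ[F] V)} (hM : M ≤ isom (fun x y => B x y))
    (hH : ∀ g ∈ isom (fun x y => B x y), (∀ w ∈ W, g w ∈ W) → g ∈ M)
    (hex : ∃ g ∈ M, ∃ w ∈ W, g w ∉ W) : isom (fun x y => B x y) ≤ M := by
  have h1 : tgrp hB W ≤ M := by
    intro t ht
    exact hH t (tgrp_le_isom hB W ht) fun w hw => tgrp_mem_of_mem hB ht hw
  have h2 : tgrp hB (perp B W) ≤ M := by
    intro t ht
    refine hH t (tgrp_le_isom hB _ ht) fun w hw => ?_
    rw [tgrp_fix hB ht (by intro x hx; rw [alt_neg hB, hx w hw, neg_zero])]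
    exact hw
  obtain ⟨g, hgM, w, hw, hgw⟩ := hex
  have hperp : ¬ ∀ x ∈ perp B W, g x ∈ perp B W := fun h =>
    hgw (map_mem_of_map_perp hB hnd hW (hM hgM) h w hw)
  have hperp2 : ¬ ∀ x ∈ perp B W, g x ∈ W := by
    intro h
    have hle : (perp B W).map (g : V →ₗ[F] V) ≤ W := by
      rintro _ ⟨x, hx, rfl⟩; exact h x hx
    have := Submodule.finrank_mono hle
    have e : Module.finrank F ((perp B W).map (g : V →ₗ[F] V)) = Module.finrank F (perp B W) :=
      LinearEquiv.finrank_map_eq _ _
    have := finrank_perp hW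
    omega
  -- find x in perp W with g x outside both
  obtain ⟨x, hx, hxW, hxP⟩ : ∃ x ∈ perp B W, g x ∉ W ∧ g x ∉ perp B W := by
    by_contra hcon
    push Not at hcon hperp hperp2
    obtain ⟨x, hx, hx1⟩ := hperp
    obtain ⟨y, hy, hy1⟩ := hperp2
    have hx2 : g x ∈ W := by
      by_contra h; exact hx1 (hcon x hx h)
    have hy2 : g y ∈ perp B W := hcon y hy hy1
    by_cases h : g (x + y) ∈ W
    · rw [map_add] at h
      exact hy1 ((Submodule.add_mem_iff_right _ hx2).1 h)
    · have := hcon (x + y) (Submodule.add_mem _ hx hy) h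
      rw [map_add] at this
      exact hx1 ((Submodule.add_mem_iff_left _ hy2).1 this)
  have hcx : g x ∈ centres hB M :=
    centres_map hB hM (fun a => h2 (tv_mem_tgrp hB hx a)) hgM
  obtain ⟨w1, hw1, hp1⟩ := exists_decomp hW (g x)
  have hp1' : g x - w1 ∈ perp B W := hp1
  have hw10 : w1 ≠ 0 := by
    rintro rfl; rw [sub_zero] at hp1'; exact hxP hp1'
  have hp10 : g x - w1 ≠ 0 := by
    intro h; rw [sub_eq_zero.1 h] at hxW; exact hxW hw1
  refine isom_le_of_tv_mem hB hnd fun v a => ?_
  refine centres_eq_of_mixed hB hnd hW hM h1 h2 hw1 hw10 hp1' hp10 ?_ v a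
  convert hcx using 1; abel

include hB in
/-- Overgroups of the stabiliser of a totally singular subspace. -/
theorem ts_stab_max (hnd : NdOn B ⊤) {W : Submodule F V} (hW : ∀ u ∈ W, ∀ v ∈ W, B u v = 0)
    {M : Subgroup (V ≃ₗ[F] V)} (hM : M ≤ isom (fun x y => B x y))
    (hH : ∀ g ∈ isom (fun x y => B x y), (∀ w ∈ W, g w ∈ W) → g ∈ M)
    (hex : ∃ g ∈ M, ∃ w ∈ W, g w ∉ W)
    (hpp : ∀ x, (∀ y, (∀ w ∈ W, B y w = 0) → B x y = 0) → x ∈ W) : isom (fun x y => B x y) ≤ M := by
  have hc1 : ∀ y ∈ perp B W, y ∈ centres hB M := by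
    intro y hy a
    refine hH _ (tv_mem_isom hB y a) fun w hw => ?_
    rw [tv_apply, alt_neg hB w y, hy w hw]; simpa using hw
  obtain ⟨g, hgM, w, hw, hgw⟩ := hex
  -- a centre outside perp W
  obtain ⟨u, hu, huP⟩ : ∃ u ∈ centres hB M, u ∉ perp B W := by
    by_contra hcon
    push Not at hcon
    apply hgw
    have heq : (perp B W).map (g : V →ₗ[F] V) = perp B W := by
      apply Submodule.eq_of_le_of_finrank_eq
      · rintro _ ⟨x, hx, rfl⟩; exact hcon _ (centres_map hB hM (hc1 x hx) hgM)
      · exact LinearEquiv.finrank_map_eq _ _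
    apply hpp
    intro y hy
    have hy2 : y ∈ perp B W := hy
    rw [← heq] at hy2
    obtain ⟨z, hz, hzy⟩ := hy2
    have hzy' : g z = y := hzy
    have := hM hgM w z
    simp only at this
    rw [← hzy', this, alt_neg hB, hz w hw, neg_zero]
  -- u + perp W consists of centres
  have hadd : ∀ u ∈ centres hB M, u ∉ perp B W → ∀ y ∈ perp B W, u + y ∈ centres hB M := by
    intro u hu huP y hy
    by_cases h : B u y = 0
    · have : ∃ w ∈ W, B u w ≠ 0 := by
        by_contra hcon
        push Not at hcon
        exact huP hcon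
      obtain ⟨w, hw, hw'⟩ := this
      have hwP : w ∈ perp B W := fun v hv => hW w hw v hv
      have e1 : u + w ∈ centres hB M := by
        have := centres_add hB hM hu (hc1 w hwP) hw' 1
        rwa [one_smul] at this
      have e2 : B (u + w) (y - w) ≠ 0 := by
        have h3 : B w y = 0 := by rw [alt_neg hB, hy w hw, neg_zero]
        have h4 : B w w = 0 := hB w
        simp [h, h3, h4, hw']
      have := centres_add hB hM e1 (hc1 _ (Submodule.sub_mem _ hy hwP)) e2 1
      rw [one_smul] at this
      convert this using 1; abel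
    · have := centres_add hB hM hu (hc1 y hy) h 1
      rwa [one_smul] at this
  -- the Siegel-type elements
  have hsieg : ∀ w ∈ W, ∀ y, B w y = 0 → ∀ u ∈ centres hB M,
      u + B u w • y + B u y • w ∈ centres hB M := by
    intro w hw y hwy u hu
    have hyw : B y w = 0 := by rw [alt_neg hB, hwy, neg_zero]
    set s : V ≃ₗ[F] V := tv B hB (w + y) 1 * (tv B hB w (-1) * tv B hB y (-1)) with hs
    have hsx : ∀ x, s x = x + B x w • y + B x y • w := by
      intro x
      have e1 : tv B hB y (-1) x = x - B x y • y := by rw [tv_apply]; module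
      have e2 : tv B hB w (-1) (x - B x y • y) = x - B x y • y - B x w • w := by
        rw [tv_apply, map_sub, LinearMap.sub_apply, map_smul, LinearMap.smul_apply, hyw]
        simp only [smul_zero, sub_zero]
        module
      have e3 : tv B hB (w + y) 1 (x - B x y • y - B x w • w) = x + B x w • y + B x y • w := by
        have h5 : B w w = 0 := hB w
        have h6 : B y y = 0 := hB y
        rw [tv_apply]
        have : B (x - B x y • y - B x w • w) (w + y) = B x w + B x y := by
          simp [h5, h6, hwy, hyw]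
        rw [this]
        module
      rw [hs, LinearEquiv.mul_apply, LinearEquiv.mul_apply, e1, e2, e3]
    have hsM : s ∈ M := by
      refine hH s ?_ ?_
      · rw [hs]
        exact mul_mem (tv_mem_isom hB _ _) (mul_mem (tv_mem_isom hB _ _) (tv_mem_isom hB _ _))
      · intro v hv
        rw [hsx, hW v hv w hw, zero_smul, add_zero]
        exact W.add_mem hv (W.smul_mem _ hw)
    have := centres_map hB hM hu hsM
    rwa [hsx] at this
  refine isom_le_of_tv_mem hB hnd fun v => ?_
  by_cases hv : v ∈ perp B W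
  · exact hc1 v hv
  -- functional of u on W is nonzero
  obtain ⟨w0, hw0, hw0'⟩ : ∃ w ∈ W, B u w ≠ 0 := by
    by_contra hcon
    push Not at hcon
    exact huP hcon
  obtain ⟨w1, hw1, hw1'⟩ : ∃ w ∈ W, B v w ≠ 0 := by
    by_contra hcon
    push Not at hcon
    exact hv hcon
  -- y = v - u modulo perp; need w in W with B u w = 1, B w y = 0
  by_cases hprop : ∃ c : F, v - c • u ∈ perp B W
  · obtain ⟨c, hc⟩ := hprop
    have hc0 : c ≠ 0 := by
      rintro rfl
      rw [zero_smul, sub_zero] at hc
      exact hv hc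
    have := hadd (c • u) (centres_smul hB hu c)
      (fun h => huP (by simpa [hc0] using (Submodule.smul_mem_iff _ hc0).1 h)) _ hc
    have e : c • u + (v - c • u) = v := by abel
    rwa [e] at this
  · -- find w with B u w ≠ 0 and B (v - u) w = 0
    have : ∃ w ∈ W, B u w ≠ 0 ∧ B (v - u) w = 0 := by
      by_contra hcon
      push Not at hcon
      -- then ker(v-u)|W ⊆ ker u |W
      apply hprop
      by_cases hz : ∀ w ∈ W, B (v - u) w = 0
      · exact ⟨1, by rw [one_smul]; exact hz⟩
      · push Not at hz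
        obtain ⟨w2, hw2, hw2'⟩ := hz
        -- B u w = (B u w2 / B (v-u) w2) * B (v-u) w for all w∈W
        set c := B u w2 / B (v - u) w2 with hcdef
        have hc : ∀ w ∈ W, B u w = c * B (v - u) w := by
          intro w hw
          have h3 : B (v - u) (w - (B (v - u) w / B (v - u) w2) • w2) = 0 := by
            rw [map_sub, map_smul, smul_eq_mul, div_mul_cancel₀ _ hw2', sub_self]
          have h4 : B u (w - (B (v - u) w / B (v - u) w2) • w2) = 0 := by
            by_contra hne
            exact hcon _ (W.sub_mem hw (W.smul_mem _ hw2)) hne h3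
          rw [map_sub, map_smul, smul_eq_mul, sub_eq_zero] at h4
          rw [h4, hcdef]; field_simp
        have hc0 : c ≠ 0 := by
          intro h0
          apply hw0'
          rw [hc w0 hw0, h0, zero_mul]
        refine ⟨1 + c⁻¹, ?_⟩
        intro w hw
        have := hc w hw
        rw [map_sub, LinearMap.sub_apply] at this
        rw [map_sub, LinearMap.sub_apply, map_smul, LinearMap.smul_apply, smul_eq_mul]
        have h6 : c⁻¹ * B u w = B v w - B u w := by
          calc c⁻¹ * B u w = c⁻¹ * (c * (B v w - B u w)) := by rw [← this]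
            _ = B v w - B u w := by rw [← mul_assoc, inv_mul_cancel₀ hc0, one_mul]
        have h5 : B v w = B u w + c⁻¹ * B u w := by rw [h6]; ring
        rw [h5]; ring
    obtain ⟨w, hw, hw', hw''⟩ := this
    set w3 := (B u w)⁻¹ • w with hw3
    have hw3W : w3 ∈ W := W.smul_mem _ hw
    have h7 : B u w3 = 1 := by rw [hw3, map_smul, smul_eq_mul, inv_mul_cancel₀ hw']
    have h8 : B w3 (v - u) = 0 := by
      rw [alt_neg hB, hw3, map_smul, hw'']; simp
    have h9 := hsieg w3 hw3W (v - u) h8 u hu
    rw [h7, one_smul] at h9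
    have e : u + (v - u) + B u (v - u) • w3 = v + B u (v - u) • w3 := by abel
    rw [e] at h9
    have h10 : v + B u (v - u) • w3 ∉ perp B W := by
      intro h
      apply hv
      have h11 : B u (v - u) • w3 ∈ perp B W := Submodule.smul_mem _ _ (fun z hz => hW _ hw3W z hz)
      exact (Submodule.add_mem_iff_left _ h11).1 h
    have := hadd _ h9 h10 (-(B u (v - u) • w3))
      (Submodule.neg_mem _ (Submodule.smul_mem _ _ (fun z hz => hW _ hw3W z hz)))
    rwa [add_neg_cancel_right] at this

/-- The double orthogonal complement. -/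
theorem mem_of_perp_perp (hnd : NdOn B ⊤) {W : Submodule F V} {x : V}
    (h : ∀ y, (∀ w ∈ W, B y w = 0) → B y x = 0) : x ∈ W := by
  by_contra hx
  obtain ⟨φ, hφx, hφW⟩ := Submodule.exists_le_ker_of_notMem hx
  have hinj : Function.Injective B := by
    rw [injective_iff_map_eq_zero]
    intro y hy
    by_contra hne
    obtain ⟨z, -, hz⟩ := hnd y trivial hne
    exact hz (by rw [hy]; rfl)
  have hsurj : Function.Surjective B :=
    (LinearMap.injective_iff_surjective_of_finrank_eq_finrank
      (Subspace.dual_finrank_eq (K := F) (V := V)).symm).1 hinj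
  obtain ⟨y, rfl⟩ := hsurj φ
  exact hφx (h y fun w hw => hφW hw)

end

end Cfsg.Agent.Lib.SpMax
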