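import Mathlib
import Cfsg.Agent.Lib.SpMax

set_option autoImplicit false

/-!
Symplectic bases, isometries permuting the members of an orthogonal decomposition, and overgroups of the
stabiliser of a nondegenerate orthogonal decomposition in the symplectic group.
-/

namespace Cfsg.Agent.Lib.SpDecomp

open Cfsg.Agent.Lib.SpTrans Cfsg.Agent.Lib.SpMax

variable {F V : Type*} [Field F] [AddCommGroup V] [Module F V]

/-- the standard symplectic Gram matrix -/
def jj {α : Type*} [DecidableEq α] (F : Type*) [Field F] : (α ⊕ α) → (α ⊕ α) → F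
  | .inl i, .inr j => if i = j then 1 else 0
  | .inr i, .inl j => if i = j then -1 else 0
  | _, _ => 0

section
variable {B : V →ₗ[F] V →ₗ[F] F} (hB : B.IsAlt)

include hB in
theorem exists_sympl_family [FiniteDimensional F V] : ∀ (n : ℕ) (W : Submodule F V),
    Module.finrank F W = n → NdOn B W →
    ∃ (r : ℕ) (e f : Fin r → V), (∀ i, e i ∈ W) ∧ (∀ i, f i ∈ W) ∧ (∀ i j, B (e i) (e j) = 0) ∧
      (∀ i j, B (f i) (f j) = 0) ∧ (∀ i j, B (e i) (f j) = if i = j then 1 else 0) ∧
      W ≤ Submodule.span F (Set.range e ∪ Set.range f) := by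
  intro n
  induction n using Nat.strong_induction_on with
  | _ n ih =>
  intro W hn hW
  by_cases hbot : W = ⊥
  · exact ⟨0, Fin.elim0, Fin.elim0, fun i => i.elim0, fun i => i.elim0, fun i => i.elim0,
      fun i => i.elim0, fun i => i.elim0, by rw [hbot]; exact bot_le⟩
  obtain ⟨u, hu, hu0⟩ := W.ne_bot_iff.1 hbot
  obtain ⟨y, hy, hy'⟩ := hW u hu hu0
  obtain ⟨v, hvW, huv⟩ : ∃ v ∈ W, B u v = 1 :=
    ⟨(B u y)⁻¹ • y, W.smul_mem _ hy, by rw [map_smul, smul_eq_mul, inv_mul_cancel₀ hy']⟩
  let W' : Submodule F V := W ⊓ LinearMap.ker (B u) ⊓ LinearMap.ker (B v)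
  have hW'W : W' ≤ W := inf_le_left.trans inf_le_left
  have memW' : ∀ w, w ∈ W' ↔ w ∈ W ∧ B u w = 0 ∧ B v w = 0 := by
    intro w; simp [W', and_assoc]
  have hproj : ∀ w : V, B u (w - (B u w) • v - (B w v) • u) = 0 ∧
      B v (w - (B u w) • v - (B w v) • u) = 0 := by
    intro w
    constructor
    · simp [hB u, huv]
    · have e1 : B v v = 0 := hB v
      have e2 : B v u = -1 := by rw [alt_neg hB, huv]
      simp [e1, e2, alt_neg hB v w]
  have hW' : NdOn B W' := by
    intro x hx hx0
    obtain ⟨hxW, hxu, hxv⟩ := (memW' x).1 hx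
    obtain ⟨y, hy, hxy⟩ := hW x hxW hx0
    refine ⟨y - (B u y) • v - (B y v) • u, ?_, ?_⟩
    · rw [memW']
      exact ⟨W.sub_mem (W.sub_mem hy (W.smul_mem _ hvW)) (W.smul_mem _ hu), hproj y⟩
    · have e1 : B x v = 0 := by rw [alt_neg hB, hxv, neg_zero]
      have e2 : B x u = 0 := by rw [alt_neg hB, hxu, neg_zero]
      simpa [e1, e2] using hxy
  have hlt : Module.finrank F W' < n := by
    rw [← hn]
    apply Submodule.finrank_lt_finrank_of_lt
    refine lt_of_le_of_ne hW'W ?_
    intro he
    have : v ∈ W' := by rw [he]; exact hvW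
    have := ((memW' v).1 this).2.1
    rw [huv] at this
    exact one_ne_zero this
  obtain ⟨r, e, f, he, hf, hee, hff, hef, hspan⟩ := ih _ hlt W' rfl hW'
  refine ⟨r + 1, Fin.cons u e, Fin.cons v f, ?_, ?_, ?_, ?_, ?_, ?_⟩
  · intro i; refine Fin.cases ?_ (fun i => ?_) i
    · simpa using hu
    · simpa using hW'W (he i)
  · intro i; refine Fin.cases ?_ (fun i => ?_) i
    · simpa using hvW
    · simpa using hW'W (hf i)
  · intro i j
    refine Fin.cases ?_ (fun i => ?_) i <;> refine Fin.cases ?_ (fun j => ?_) j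
    · simpa using hB u
    · simpa using ((memW' _).1 (he j)).2.1
    · have := ((memW' _).1 (he i)).2.1
      simp only [Fin.cons_succ, Fin.cons_zero]
      rw [alt_neg hB, this, neg_zero]
    · simpa using hee i j
  · intro i j
    refine Fin.cases ?_ (fun i => ?_) i <;> refine Fin.cases ?_ (fun j => ?_) j
    · simpa using hB v
    · simpa using ((memW' _).1 (hf j)).2.2
    · have := ((memW' _).1 (hf i)).2.2
      simp only [Fin.cons_succ, Fin.cons_zero]
      rw [alt_neg hB, this, neg_zero]
    · simpa using hff i j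
  · intro i j
    refine Fin.cases ?_ (fun i => ?_) i <;> refine Fin.cases ?_ (fun j => ?_) j
    · simpa using huv
    · have := ((memW' _).1 (hf j)).2.1
      simp only [Fin.cons_succ, Fin.cons_zero]
      rw [this, if_neg (Fin.succ_ne_zero j).symm]
    · have := ((memW' _).1 (he i)).2.2
      simp only [Fin.cons_succ, Fin.cons_zero]
      rw [alt_neg hB, this, neg_zero, if_neg (Fin.succ_ne_zero i)]
    · simpa using hef i j
  · intro w hw
    have hwW' : w - (B u w) • v - (B w v) • u ∈ W' := by
      rw [memW']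
      exact ⟨W.sub_mem (W.sub_mem hw (W.smul_mem _ hvW)) (W.smul_mem _ hu), hproj w⟩
    have hmono : Submodule.span F (Set.range e ∪ Set.range f) ≤
        Submodule.span F (Set.range (Fin.cons u e : Fin (r+1) → V) ∪ Set.range (Fin.cons v f : Fin (r+1) → V)) := by
      apply Submodule.span_mono
      rintro x (⟨i, rfl⟩ | ⟨i, rfl⟩)
      · exact Or.inl ⟨i.succ, by simp⟩
      · exact Or.inr ⟨i.succ, by simp⟩
    have h1 := hmono (hspan hwW')
    have h2 : u ∈ Submodule.span F (Set.range (Fin.cons u e : Fin (r+1) → V) ∪ Set.range (Fin.cons v f : Fin (r+1) → V)) :=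
      Submodule.subset_span (Or.inl ⟨0, by simp⟩)
    have h3 : v ∈ Submodule.span F (Set.range (Fin.cons u e : Fin (r+1) → V) ∪ Set.range (Fin.cons v f : Fin (r+1) → V)) :=
      Submodule.subset_span (Or.inr ⟨0, by simp⟩)
    have h4 := Submodule.add_mem _ (Submodule.add_mem _ h1 (Submodule.smul_mem _ (B u w) h3))
      (Submodule.smul_mem _ (B w v) h2)
    convert h4 using 1
    abel

include hB in
/-- A nondegenerate subspace has a symplectic basis. -/
theorem exists_sympl_basis [FiniteDimensional F V] {W : Submodule F V} (hW : NdOn B W) :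
    ∃ (r : ℕ) (b : Module.Basis (Fin r ⊕ Fin r) F W), ∀ x y, B (b x) (b y) = jj F x y := by
  obtain ⟨r, e, f, he, hf, hee, hff, hef, hspan⟩ := exists_sympl_family hB _ W rfl hW
  let b : Fin r ⊕ Fin r → W := Sum.elim (fun i => ⟨e i, he i⟩) (fun i => ⟨f i, hf i⟩)
  have hb : ∀ x y, B (b x) (b y) = jj F x y := by
    rintro (i | i) (j | j)
    · exact hee i j
    · exact hef i j
    · show B (f i) (e j) = _
      rw [alt_neg hB, hef]
      simp only [jj]
      by_cases h : i = j
      · simp [h]
      · simp [h, Ne.symm h]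
    · exact hff i j
  have hli : LinearIndependent F b := by
    rw [Fintype.linearIndependent_iff]
    intro c hc
    have key : ∀ y, ∑ x, c x * jj F x y = 0 := by
      intro y
      have h1 : B ((∑ x, c x • b x : W) : V) (b y) = 0 := by rw [hc]; simp
      rw [Submodule.coe_sum] at h1
      simp only [map_sum, LinearMap.sum_apply, Submodule.coe_smul, map_smul, LinearMap.smul_apply,
        smul_eq_mul, hb] at h1
      exact h1
    rintro (i | i)
    · have := key (.inr i)
      simpa [Fintype.sum_sum_type, jj] using this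
    · have := key (.inl i)
      simpa [Fintype.sum_sum_type, jj] using this
  have hsp : ⊤ ≤ Submodule.span F (Set.range b) := by
    rintro ⟨w, hw⟩ -
    have h1 : Submodule.map W.subtype (Submodule.span F (Set.range b)) =
        Submodule.span F (Set.range e ∪ Set.range f) := by
      rw [Submodule.map_span]
      congr 1
      ext x
      constructor
      · rintro ⟨_, ⟨(i | i), rfl⟩, rfl⟩
        · exact Or.inl ⟨i, rfl⟩
        · exact Or.inr ⟨i, rfl⟩
      · rintro (⟨i, rfl⟩ | ⟨i, rfl⟩)
        · exact ⟨b (.inl i), ⟨_, rfl⟩, rfl⟩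
        · exact ⟨b (.inr i), ⟨_, rfl⟩, rfl⟩
    have h2 := hspan hw
    rw [← h1] at h2
    obtain ⟨x, hx, hxw⟩ := h2
    have : x = ⟨w, hw⟩ := Subtype.ext hxw
    rwa [← this]
  exact ⟨r, Module.Basis.mk hli hsp, by simpa using hb⟩

/-- The data of an orthogonal decomposition into nondegenerate subspaces of equal dimension. -/
structure OD (B : V →ₗ[F] V →ₗ[F] F) {t : ℕ} (k : ℕ) (D : Fin t → Submodule F V) : Prop where
  indep : iSupIndep D
  sup : iSup D = ⊤
  nd : ∀ i, NdOn B (D i)
  orth : ∀ i j, i ≠ j → ∀ u ∈ D i, ∀ v ∈ D j, B u v = 0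
  rank : ∀ i, Module.finrank F (D i) = k
  pos : 0 < k

variable [FiniteDimensional F V] {t k : ℕ} {D : Fin t → Submodule F V}

include hB in
/-- A basis adapted to an orthogonal decomposition. -/
theorem exists_adapted_basis (hD : OD B k D) :
    ∃ (r : ℕ) (b : Module.Basis (Fin t × (Fin r ⊕ Fin r)) F V), (∀ p, b p ∈ D p.1) ∧
      ∀ p q, B (b p) (b q) = if p.1 = q.1 then jj F p.2 q.2 else 0 := by
  have h1 : ∀ i, ∃ (r : ℕ) (b : Module.Basis (Fin r ⊕ Fin r) F (D i)), ∀ x y, B (b x) (b y) = jj F x y :=
    fun i => exists_sympl_basis hB (hD.nd i)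
  have h2 : ∃ r : ℕ, ∀ i, ∃ b : Module.Basis (Fin r ⊕ Fin r) F (D i), ∀ x y, B (b x) (b y) = jj F x y := by
    refine ⟨k / 2, fun i => ?_⟩
    obtain ⟨r, b, hb⟩ := h1 i
    have hr : r + r = k := by
      have := Module.finrank_eq_card_basis b
      rw [hD.rank i] at this
      simpa using this.symm
    have : r = k / 2 := by omega
    subst this
    exact ⟨b, hb⟩
  obtain ⟨r, hr⟩ := h2
  choose b hb using hr
  have hI : DirectSum.IsInternal D :=
    DirectSum.isInternal_submodule_of_iSupIndep_of_iSup_eq_top hD.indep hD.sup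
  let c : Module.Basis (Fin t × (Fin r ⊕ Fin r)) F V :=
    (hI.collectedBasis b).reindex (Equiv.sigmaEquivProd _ _)
  have hc : ∀ p, c p = (b p.1 p.2 : V) := by
    intro p
    obtain ⟨i, x⟩ := p
    simp [c, Equiv.sigmaEquivProd]
  refine ⟨r, c, ?_, ?_⟩
  · intro p; rw [hc]; exact (b p.1 p.2).2
  · intro p q
    rw [hc, hc]
    by_cases h : p.1 = q.1
    · rw [if_pos h]
      obtain ⟨i, x⟩ := p
      obtain ⟨j, y⟩ := q
      obtain rfl : i = j := h
      exact hb i x y
    · rw [if_neg h]
      exact hD.orth _ _ h _ (b p.1 p.2).2 _ (b q.1 q.2).2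

omit [FiniteDimensional F V] in
theorem isom_of_basis {ι : Type*} (b : Module.Basis ι F V) {g : V ≃ₗ[F] V}
    (h : ∀ p q, B (g (b p)) (g (b q)) = B (b p) (b q)) : g ∈ isom (fun x y => B x y) := by
  have : (B.compl₁₂ (g : V →ₗ[F] V) (g : V →ₗ[F] V)) = B := by
    refine b.ext fun p => b.ext fun q => ?_
    simpa using h p q
  intro x y
  have := LinearMap.congr_fun (LinearMap.congr_fun this x) y
  simpa using this

include hB in
/-- every permutation of the members is induced by an isometry -/
theorem exists_perm_isom (hD : OD B k D) (σ : Equiv.Perm (Fin t)) :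
    ∃ g ∈ isom (fun x y => B x y), ∀ i, (D i).map (g : V →ₗ[F] V) = D (σ i) := by
  classical
  obtain ⟨r, b, hbm, hb⟩ := exists_adapted_basis hB hD
  obtain ⟨π, hπ1, hπ2, hπ3, hπ4⟩ := exists_comps hD.indep hD.sup
  let g : V ≃ₗ[F] V := b.equiv b (Equiv.prodCongr σ (Equiv.refl _))
  have hg : ∀ p, g (b p) = b (σ p.1, p.2) := by
    intro p
    simp only [g, Module.Basis.equiv_apply]
    rfl
  refine ⟨g, ?_, ?_⟩
  · apply isom_of_basis b
    intro p q
    rw [hg, hg, hb, hb]
    by_cases h : p.1 = q.1
    · simp [h]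
    · simp [h]
  · have hcomm : ∀ i, (g : V →ₗ[F] V) ∘ₗ π i = π (σ i) ∘ₗ (g : V →ₗ[F] V) := by
      intro i
      refine b.ext fun p => ?_
      simp only [LinearMap.comp_apply, LinearEquiv.coe_coe, hg]
      by_cases h : p.1 = i
      · subst h
        rw [hπ2 _ _ (hbm p), hg, hπ2 (σ p.1) _ (hbm (σ p.1, p.2))]
      · rw [hπ3 p.1 i h _ (hbm p), map_zero,
          hπ3 (σ p.1) (σ i) (fun hc => h (σ.injective hc)) _ (hbm (σ p.1, p.2))]
    intro i
    apply Submodule.eq_of_le_of_finrank_eq
    · rintro _ ⟨x, hx, rfl⟩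
      have h1 := LinearMap.congr_fun (hcomm i) x
      simp only [LinearMap.comp_apply, LinearEquiv.coe_coe] at h1
      rw [hπ2 i x hx] at h1
      show g x ∈ _
      rw [h1]
      exact hπ1 _ _
    · rw [LinearEquiv.finrank_map_eq, hD.rank, hD.rank]

end

/-- 2-transitivity of the symmetric group, in the form used below. -/
theorem exists_perm_two {α : Type*} [DecidableEq α] {i j i' j' : α} (h : i ≠ j) (h' : i' ≠ j') :
    ∃ σ : Equiv.Perm α, σ i = i' ∧ σ j = j' := by
  refine ⟨Equiv.swap (Equiv.swap i i' j) j' * Equiv.swap i i', ?_, ?_⟩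
  · rw [Equiv.Perm.mul_apply, Equiv.swap_apply_left]
    apply Equiv.swap_apply_of_ne_of_ne _ h'
    intro hc
    have : Equiv.swap i i' i = Equiv.swap i i' j := by rw [Equiv.swap_apply_left]; exact hc
    exact h ((Equiv.swap i i').injective this)
  · rw [Equiv.Perm.mul_apply, Equiv.swap_apply_left]

section
variable {B : V →ₗ[F] V →ₗ[F] F} (hB : B.IsAlt) [FiniteDimensional F V] {t k : ℕ}
  {D : Fin t → Submodule F V}

include hB in
/-- in a nondegenerate subspace of dimension `k`, not `(k, |F|) = (2, 2)`, each vector `a ≠ 0` has an orthogonal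
vector `d ≠ 0, a`. -/
theorem exists_aux [Fintype F] {W : Submodule F V} (hW : NdOn B W)
    (hex : ¬ (Module.finrank F W = 2 ∧ Fintype.card F = 2)) {a : V} (ha : a ∈ W) (ha0 : a ≠ 0) :
    ∃ d ∈ W, B d a = 0 ∧ d ≠ 0 ∧ d ≠ a := by
  classical
  by_cases hF : Fintype.card F = 2
  · have hk : Module.finrank F W ≠ 2 := fun h => hex ⟨h, hF⟩
    -- finrank ≥ 2
    obtain ⟨y, hy, hay⟩ := hW a ha ha0
    -- finrank ≥ 2 since a, y independent; so ≥ 3
    have hlt1 : 1 < Module.finrank F W := by
      by_contra hcon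
      have h1 : Module.finrank F W ≤ 1 := by omega
      obtain ⟨v, hv⟩ := finrank_le_one_iff.1 h1
      obtain ⟨c, hc⟩ := hv ⟨a, ha⟩
      obtain ⟨d, hd⟩ := hv ⟨y, hy⟩
      have e1 : (a : V) = c • (v : V) := by
        have := congrArg Subtype.val hc; simpa using this.symm
      have e2 : (y : V) = d • (v : V) := by
        have := congrArg Subtype.val hd; simpa using this.symm
      apply hay
      have e3 : B (v : V) v = 0 := hB v
      rw [e1, e2]; simp [e3]
    have h3 : 3 ≤ Module.finrank F W := by omega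
    let K : Submodule F V := W ⊓ LinearMap.ker (B a)
    have hKrank : 2 ≤ Module.finrank F K := by
      have h4 := Submodule.finrank_sup_add_finrank_inf_eq W (LinearMap.ker (B a))
      have h5 : Module.finrank F (W ⊔ LinearMap.ker (B a) : Submodule F V) ≤ Module.finrank F V :=
        Submodule.finrank_le _
      have h6 := LinearMap.finrank_range_add_finrank_ker (B a)
      have h7 : Module.finrank F (LinearMap.range (B a)) ≤ 1 := by
        have := Submodule.finrank_le (LinearMap.range (B a))
        simpa using this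
      have : Module.finrank F K = Module.finrank F (W ⊓ LinearMap.ker (B a) : Submodule F V) := rfl
      omega
    have hnot : ¬ K ≤ Submodule.span F {a} := by
      intro hle
      have := Submodule.finrank_mono hle
      have h8 := finrank_span_singleton (K := F) ha0
      omega
    obtain ⟨d, hdK, hd⟩ := Set.not_subset.1 hnot
    refine ⟨d, hdK.1, ?_, ?_, ?_⟩
    · have : B a d = 0 := hdK.2
      rw [alt_neg hB, this, neg_zero]
    · rintro rfl; exact hd (Submodule.zero_mem _)
    · rintro rfl; exact hd (Submodule.mem_span_singleton_self _)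
  · have : ∃ c : F, c ≠ 0 ∧ c ≠ 1 := by
      by_contra hcon
      push Not at hcon
      have huniv : (Finset.univ : Finset F) = {0, 1} := by
        ext c; simp only [Finset.mem_univ, Finset.mem_insert, Finset.mem_singleton, true_iff]
        by_cases h : c = 0
        · exact Or.inl h
        · exact Or.inr (hcon c h)
      apply hF
      rw [← Finset.card_univ, huniv, Finset.card_pair zero_ne_one]
    obtain ⟨c, hc0, hc1⟩ := this
    refine ⟨c • a, W.smul_mem _ ha, ?_, ?_, ?_⟩
    · rw [map_smul, LinearMap.smul_apply, hB a, smul_zero]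
    · simp [hc0, ha0]
    · intro h
      apply hc1
      have : (c - 1) • a = 0 := by rw [sub_smul, one_smul, h, sub_self]
      rcases smul_eq_zero.1 this with h | h
      · exact sub_eq_zero.1 h
      · exact absurd h ha0

include hB in
/-- Overgroups of the stabiliser of a nondegenerate orthogonal decomposition. -/
theorem decomp_stab_max [Fintype F] (hnd : NdOn B ⊤) (hD : OD B k D)
    (hk : ¬ (k = 2 ∧ Fintype.card F = 2))
    {M : Subgroup (V ≃ₗ[F] V)} (hM : M ≤ isom (fun x y => B x y))
    (hH : ∀ g ∈ isom (fun x y => B x y),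
      (∃ σ : Equiv.Perm (Fin t), ∀ i, (D i).map (g : V →ₗ[F] V) = D (σ i)) → g ∈ M)
    (hex : ∃ g ∈ M, ¬ ∃ σ : Equiv.Perm (Fin t), ∀ i, (D i).map (g : V →ₗ[F] V) = D (σ i)) :
    isom (fun x y => B x y) ≤ M := by
  classical
  obtain ⟨π, hπ1, hπ2, hπ3, hπ4⟩ := exists_comps hD.indep hD.sup
  set C := centres hB M with hC
  have hBπ : ∀ i (c : V), ∀ w ∈ D i, B c w = B (π i c) w := by
    intro i c w hw
    conv_lhs => rw [← hπ4 c]
    rw [map_sum, LinearMap.sum_apply]
    rw [Finset.sum_eq_single i]
    · intro j _ hj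
      exact hD.orth j i hj _ (hπ1 j c) _ hw
    · simp
  -- transvection groups of the members are in M
  have hTM : ∀ i, tgrp hB (D i) ≤ M := by
    intro i s hs
    refine hH s (tgrp_le_isom hB _ hs) ⟨1, fun j => ?_⟩
    apply Submodule.eq_of_le_of_finrank_eq
    · rintro _ ⟨x, hx, rfl⟩
      rw [Equiv.Perm.one_apply]
      by_cases h : i = j
      · subst h; exact tgrp_mem_of_mem hB hs hx
      · show s x ∈ _
        rw [tgrp_fix hB hs (fun w hw => hD.orth j i (Ne.symm h) _ hx _ hw)]
        exact hx
    · rw [LinearEquiv.finrank_map_eq]; rfl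
  have hDC : ∀ i, ∀ x ∈ D i, x ∈ C := fun i x hx a => hTM i (tv_mem_tgrp hB hx a)
  -- existence of a centre with two nonzero components
  have hmixed : ∃ c ∈ C, ∃ i j, i ≠ j ∧ π i c ≠ 0 ∧ π j c ≠ 0 := by
    by_contra hcon
    push Not at hcon
    obtain ⟨g, hg, hgn⟩ := hex
    apply hgn
    have hgC : ∀ i, ∀ x ∈ D i, g x ∈ C := fun i x hx => centres_map hB hM (hDC i x hx) hg
    have hone : ∀ i, ∃ j, ∀ x ∈ D i, g x ∈ D j := by
      intro i
      have hne : D i ≠ ⊥ := by
        intro h
        have := hD.rank i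
        rw [h, finrank_bot] at this
        exact absurd this.symm hD.pos.ne'
      obtain ⟨x0, hx0, hx00⟩ := (D i).ne_bot_iff.1 hne
      have hgx0 : g x0 ≠ 0 := by simpa using hx00
      obtain ⟨j, hj⟩ : ∃ j, π j (g x0) ≠ 0 := by
        by_contra h
        push Not at h
        apply hgx0
        rw [← hπ4 (g x0)]
        exact Finset.sum_eq_zero fun j _ => h j
      refine ⟨j, fun x hx => ?_⟩
      by_contra hxj
      obtain ⟨l, hlj, hl⟩ : ∃ l, l ≠ j ∧ π l (g x) ≠ 0 := by
        by_contra h
        push Not at h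
        apply hxj
        rw [← hπ4 (g x), Finset.sum_eq_single j]
        · exact hπ1 _ _
        · intro l _ hl; exact h l hl
        · simp
      have h1 : π j (g x) = 0 := by
        by_contra h
        exact hcon (g x) (hgC i x hx) l j hlj hl |> fun h' => h h'
      have h2 : π l (g x0) = 0 := by
        by_contra h
        exact hj (hcon (g x0) (hgC i x0 hx0) l j hlj h)
      have h3 := hcon (g (x + x0)) (hgC i _ ((D i).add_mem hx hx0)) l j hlj (by
        rw [map_add, map_add, h2, add_zero]; exact hl)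
      rw [map_add, map_add, h1, zero_add] at h3
      exact hj h3
    choose σ hσ using hone
    have hmap : ∀ i, (D i).map (g : V →ₗ[F] V) = D (σ i) := by
      intro i
      apply Submodule.eq_of_le_of_finrank_eq
      · rintro _ ⟨x, hx, rfl⟩; exact hσ i x hx
      · rw [LinearEquiv.finrank_map_eq, hD.rank, hD.rank]
    have hinj : Function.Injective σ := by
      intro i j hij
      by_contra hne
      have h1 : (D i).map (g : V →ₗ[F] V) = (D j).map (g : V →ₗ[F] V) := by rw [hmap, hmap, hij]
      have h2 : D i = D j := Submodule.map_injective_of_injective g.injective h1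
      have h3 : Disjoint (D i) (D j) := hD.indep.pairwiseDisjoint hne
      rw [h2, disjoint_self] at h3
      have := hD.rank j
      rw [h3, finrank_bot] at this
      exact absurd this.symm hD.pos.ne'
    exact ⟨Equiv.ofBijective σ (Finite.injective_iff_bijective.1 hinj), hmap⟩
  -- pairs
  obtain ⟨c, hc, i0, j0, hij0, hci, hcj⟩ := hmixed
  have hpair0 : ∀ a ∈ D i0, a ≠ 0 → ∀ b ∈ D j0, b ≠ 0 → a + b ∈ C := by
    set r := c - π i0 c - π j0 c with hr
    have hri : ∀ w ∈ D i0, B r w = 0 := by
      intro w hw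
      rw [hr, map_sub, map_sub, LinearMap.sub_apply, LinearMap.sub_apply, hBπ i0 c w hw,
        hD.orth j0 i0 (Ne.symm hij0) _ (hπ1 _ _) _ hw]
      ring
    have hrj : ∀ w ∈ D j0, B r w = 0 := by
      intro w hw
      rw [hr, map_sub, map_sub, LinearMap.sub_apply, LinearMap.sub_apply, hBπ j0 c w hw,
        hD.orth i0 j0 hij0 _ (hπ1 _ _) _ hw]
      ring
    have hall : ∀ d1 ∈ D i0, d1 ≠ 0 → ∀ d2 ∈ D j0, d2 ≠ 0 → d1 + d2 + r ∈ C := by
      intro d1 hd1 hd10 d2 hd2 hd20
      obtain ⟨s, hs, hs1⟩ := exists_move hB (hD.nd i0) (hπ1 i0 c) hd1 hci hd10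
      obtain ⟨u, hu, hu1⟩ := exists_move hB (hD.nd j0) (hπ1 j0 c) hd2 hcj hd20
      have e1 : s r = r := tgrp_fix hB hs hri
      have e2 : u r = r := tgrp_fix hB hu hrj
      have e3 : s (π j0 c) = π j0 c := tgrp_fix hB hs (hD.orth j0 i0 (Ne.symm hij0) _ (hπ1 _ _))
      have e4 : u d1 = d1 := tgrp_fix hB hu (hD.orth i0 j0 hij0 _ hd1)
      have h1 := centres_map hB hM (centres_map hB hM hc (hTM i0 hs)) (hTM j0 hu)
      have h2 : c = π i0 c + π j0 c + r := by rw [hr]; abel
      have h3 : u (s c) = d1 + d2 + r := by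
        conv_lhs => rw [h2]
        simp only [map_add, hs1, e3, e1, e4, hu1, e2]
      rw [h3] at h1
      exact h1
    intro a ha ha0 b hb hb0
    obtain ⟨d1, hd1, hd1'⟩ := hD.nd i0 a ha ha0
    obtain ⟨d2, hd2, hd2a, hd20, hd2b⟩ := exists_aux hB (hD.nd j0)
      (by rw [hD.rank]; exact hk) hb hb0
    have hd10 : d1 ≠ 0 := by rintro rfl; exact hd1' (by simp)
    have hd1a : d1 - a ≠ 0 := by
      intro h
      rw [sub_eq_zero] at h
      rw [h] at hd1'
      exact hd1' (hB a)
    have h1 := hall d1 hd1 hd10 d2 hd2 hd20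
    have h2 := hall (d1 - a) ((D i0).sub_mem hd1 ha) hd1a (d2 - b) ((D j0).sub_mem hd2 hb)
      (sub_ne_zero.2 hd2b)
    have h3 : B (d1 + d2 + r) (d1 - a + (d2 - b) + r) ≠ 0 := by
      have e1 : (d1 - a + (d2 - b) + r) = (d1 + d2 + r) - a - b := by abel
      have e2 : B (d1 + d2 + r) a = B d1 a := by
        rw [map_add, map_add, LinearMap.add_apply, LinearMap.add_apply, hri a ha,
          hD.orth j0 i0 (Ne.symm hij0) _ hd2 _ ha]
        ring
      have e3 : B (d1 + d2 + r) b = B d2 b := by
        rw [map_add, map_add, LinearMap.add_apply, LinearMap.add_apply, hrj b hb,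
          hD.orth i0 j0 hij0 _ hd1 _ hb]
        ring
      rw [e1, map_sub, map_sub, hB, e2, e3, hd2a, alt_neg hB d1 a]
      simpa using hd1'
    have h4 := centres_add hB hM h1 h2 h3 (-1)
    convert h4 using 1
    module
  have hpair : ∀ i j, i ≠ j → ∀ a ∈ D i, a ≠ 0 → ∀ b ∈ D j, b ≠ 0 → a + b ∈ C := by
    intro i j hij a ha ha0 b hb hb0
    obtain ⟨σ, hσi, hσj⟩ := exists_perm_two hij0 hij
    obtain ⟨g, hg, hgD⟩ := exists_perm_isom hB hD σ
    have hgM : g ∈ M := hH g hg ⟨σ, hgD⟩
    have h1 : a ∈ (D i0).map (g : V →ₗ[F] V) := by rw [hgD, hσi]; exact ha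
    have h2 : b ∈ (D j0).map (g : V →ₗ[F] V) := by rw [hgD, hσj]; exact hb
    obtain ⟨a', ha', rfl⟩ := h1
    obtain ⟨b', hb', rfl⟩ := h2
    have h3 := hpair0 a' ha' (by rintro rfl; exact ha0 (by simp)) b' hb'
      (by rintro rfl; exact hb0 (by simp))
    have := centres_map hB hM h3 hgM
    rw [map_add] at this
    exact this
  -- all vectors
  have hall : ∀ (n : ℕ) (v : V), (Finset.univ.filter fun i => π i v ≠ 0).card = n → v ∈ C := by
    intro n
    induction n with
    | zero =>
      intro v hv
      rw [Finset.card_eq_zero, Finset.filter_eq_empty_iff] at hv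
      have : v = 0 := by
        rw [← hπ4 v]
        exact Finset.sum_eq_zero fun i hi => by simpa using hv hi
      rw [this]; exact centres_zero hB M
    | succ n ih =>
      intro v hv
      by_cases hn : n = 0
      · subst hn
        obtain ⟨i, hi⟩ := Finset.card_eq_one.1 hv
        have : v = π i v := by
          conv_lhs => rw [← hπ4 v]
          rw [Finset.sum_eq_single i]
          · intro j _ hj
            by_contra h
            have : j ∈ (Finset.univ.filter fun i => π i v ≠ 0) := by simp [h]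
            rw [hi, Finset.mem_singleton] at this
            exact hj this
          · simp
        rw [this]; exact hDC i _ (hπ1 _ _)
      · obtain ⟨i, hi, j, hj, hij⟩ := Finset.one_lt_card.1 (by omega :
          1 < (Finset.univ.filter fun i => π i v ≠ 0).card)
        simp only [Finset.mem_filter, Finset.mem_univ, true_and] at hi hj
        obtain ⟨p, hp, hp'⟩ := hD.nd i _ (hπ1 i v) hi
        have hp0 : p ≠ 0 := by rintro rfl; exact hp' (by simp)
        set x := p + π j v with hx
        have hxC : x ∈ C := hpair i j hij p hp hp0 _ (hπ1 _ _) hj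
        have hπx : ∀ l, π l (v - x) = if l = i then π i v - p else if l = j then 0 else π l v := by
          intro l
          rw [map_sub, hx, map_add]
          by_cases h1 : l = i
          · subst h1
            rw [if_pos rfl, hπ2 _ _ hp, hπ3 j l (Ne.symm hij) _ (hπ1 _ _), add_zero]
          · rw [if_neg h1, hπ3 i l (Ne.symm h1) _ hp]
            by_cases h2 : l = j
            · subst h2
              rw [if_pos rfl, hπ2 _ _ (hπ1 _ _)]; abel
            · rw [if_neg h2, hπ3 j l (Ne.symm h2) _ (hπ1 _ _)]; abel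
        have hne : π i v - p ≠ 0 := by
          intro h
          rw [sub_eq_zero] at h
          rw [h] at hp'
          exact hp' (hB p)
        have hy : v - x ∈ C := by
          apply ih
          have : (Finset.univ.filter fun l => π l (v - x) ≠ 0) =
              (Finset.univ.filter fun l => π l v ≠ 0).erase j := by
            ext l
            simp only [Finset.mem_filter, Finset.mem_univ, true_and, Finset.mem_erase, hπx]
            by_cases h1 : l = i
            · subst h1; simp [hne, hi, hij]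
            · by_cases h2 : l = j
              · subst h2; simp [h1]
              · simp [h1, h2]
          rw [this, Finset.card_erase_of_mem (by simp [hj]), hv]; rfl
        have h3 : B (v - x) x ≠ 0 := by
          have e1 : B (v - x) x = B v x := by
            rw [map_sub, LinearMap.sub_apply, hB x, sub_zero]
          rw [e1, hx, map_add, hBπ i v p hp, hBπ j v _ (hπ1 _ _), hB (π j v), add_zero]
          exact hp'
        have := centres_add hB hM hy hxC h3 1
        rw [one_smul, sub_add_cancel] at this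
        exact this
  exact isom_le_of_tv_mem hB hnd fun v => hall _ v rfl

end

end Cfsg.Agent.Lib.SpDecomp
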