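import Mathlib
import Cfsg.Agent.Lib.Sesq8
import Cfsg.Agent.Lib.ClSympOrd
import Cfsg.Agent.Lib.SpDecomp

/-! Counting configurations in symplectic spaces through hyperbolic families. (helper99) -/

set_option autoImplicit false

namespace Cfsg.Agent.Lib.Sesq

open Polynomial Module Cfsg.Agent.Lib.InvSub Cfsg.Agent.Lib.PrimeOrd

variable {F V : Type*} [Field F] [AddCommGroup V] [Module F V] {B : V →ₗ[F] V →ₗ[F] F}

/-- restriction of a bilinear form -/
def rB (B : V →ₗ[F] V →ₗ[F] F) (W : Submodule F V) : W →ₗ[F] W →ₗ[F] F := B.compl₁₂ W.subtype W.subtype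

lemma rB_apply (W : Submodule F V) (x y : W) : rB B W x y = B x y := rfl

lemma rB_alt (hB : Alt B) (W : Submodule F V) : Alt (rB B W) := fun x => hB x

lemma rB_nd {W : Submodule F V} (hW : ND (σ := RingHom.id F) B W) : ND (σ := RingHom.id F) (rB B W) ⊤ := by
  intro x _ h
  exact Subtype.ext (hW x x.2 (fun y hy => h ⟨y, hy⟩ Submodule.mem_top))

/-- the order of `Sp_{2k}(q)` -/
def spc (q k : ℕ) : ℕ := q ^ (k ^ 2) * ∏ i ∈ Finset.range k, (q ^ (2 * (i + 1)) - 1)

lemma card_iso [Fintype F] [FiniteDimensional F V] (hB : Alt B) (hnd : ND (σ := RingHom.id F) B ⊤) {d : ℕ}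
    (hd : finrank F V = 2 * d) : Nat.card (ClIso.isoGrp F (fun u v => B u v)) = spc (Fintype.card F) d := by
  have h1 := ClSymp2.isSymp_sympForm (l := Fin d) (F := F)
  obtain ⟨g, hg⟩ := AltForm.exists_isometry B hB (fun v h => hnd v trivial (fun w _ => h w)) (ClIso.sympForm (Fin d) F) h1.alt
    (fun v h => by
      by_contra hv
      obtain ⟨w, hw⟩ := h1.nondeg v hv
      exact hw (h w)) (by rw [hd]; simp; ring)
  rw [Nat.card_congr (ClIso.isoGrpCongr (f := fun u v => B u v) (f' := fun u v => ClIso.sympForm (Fin d) F u v) g hg).toEquiv]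
  exact ClSympOrd.card_Spg d

/-- hyperbolic families -/
@[ext]
structure Hyp (B : V →ₗ[F] V →ₗ[F] F) (ι : Type*) [DecidableEq ι] where
  v : ι → V
  w : ι → V
  vv : ∀ i j, B (v i) (v j) = 0
  ww : ∀ i j, B (w i) (w j) = 0
  vw : ∀ i j, B (v i) (w j) = if i = j then 1 else 0

section hyp
variable {ι : Type*} [DecidableEq ι]

lemma Hyp.wv (hB : Alt B) (p : Hyp B ι) (i j : ι) : B (p.w i) (p.v j) = if i = j then -1 else 0 := by
  rw [hB.skew, p.vw]
  by_cases h : i = j
  · simp [h]
  · simp [h, Ne.symm h]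

instance [Finite V] [Finite ι] : Finite (Hyp B ι) :=
  Finite.of_injective (fun p => (p.v, p.w)) (fun _ _ h => Hyp.ext (congrArg Prod.fst h) (congrArg Prod.snd h))

variable [Fintype ι]

lemma Hyp.li (hB : Alt B) (p : Hyp B ι) : LinearIndependent F (Sum.elim p.v p.w) := by
  rw [Fintype.linearIndependent_iff]
  intro g hg
  rw [Fintype.sum_sum_type] at hg
  simp only [Sum.elim_inl, Sum.elim_inr] at hg
  rintro (k | k)
  · have := congrArg (fun x => B x (p.w k)) hg
    simp only [map_add, map_sum, LinearMap.add_apply, LinearMap.sum_apply, map_smul, LinearMap.smul_apply, p.ww, p.vw, smul_eq_mul,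
      mul_zero, Finset.sum_const_zero, add_zero, map_zero, LinearMap.zero_apply] at this
    simpa using this
  · have := congrArg (fun x => B x (p.v k)) hg
    simp only [map_add, map_sum, LinearMap.add_apply, LinearMap.sum_apply, map_smul, LinearMap.smul_apply, p.vv, p.wv hB, smul_eq_mul,
      mul_zero, Finset.sum_const_zero, zero_add, map_zero, LinearMap.zero_apply] at this
    simpa using this

noncomputable def Hyp.basis (hB : Alt B) (p : Hyp B ι) [FiniteDimensional F V] (hd : finrank F V = 2 * Fintype.card ι) :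
    Basis (ι ⊕ ι) F V :=
  basisOfLinearIndependentOfCardEqFinrank' _ (p.li hB) (by rw [hd, Fintype.card_sum]; ring)

lemma Hyp.basis_inl (hB : Alt B) (p : Hyp B ι) [FiniteDimensional F V] (hd : finrank F V = 2 * Fintype.card ι) (j : ι) :
    p.basis hB hd (Sum.inl j) = p.v j := by simp [Hyp.basis]

lemma Hyp.basis_inr (hB : Alt B) (p : Hyp B ι) [FiniteDimensional F V] (hd : finrank F V = 2 * Fintype.card ι) (j : ι) :
    p.basis hB hd (Sum.inr j) = p.w j := by simp [Hyp.basis]

omit [Fintype ι] in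
lemma iso_apply (g : ClIso.isoGrp F (fun u v => B u v)) (x y : V) : B (g.1 x) (g.1 y) = B x y := g.2 x y

/-- action of isometries on hyperbolic families -/
def Hyp.map (p : Hyp B ι) (g : ClIso.isoGrp F (fun u v => B u v)) : Hyp B ι where
  v := fun i => g.1 (p.v i)
  w := fun i => g.1 (p.w i)
  vv := fun i j => by rw [iso_apply]; exact p.vv i j
  ww := fun i j => by rw [iso_apply]; exact p.ww i j
  vw := fun i j => by rw [iso_apply]; exact p.vw i j

lemma Hyp.exists_equiv (hB : Alt B) (p p' : Hyp B ι) [FiniteDimensional F V] (hd : finrank F V = 2 * Fintype.card ι) :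
    ∃ g : ClIso.isoGrp F (fun u v => B u v), p.map g = p' := by
  let g := (p.basis hB hd).equiv (p'.basis hB hd) (Equiv.refl _)
  have hg1 : ∀ i, g (p.v i) = p'.v i := by
    intro i
    rw [← p.basis_inl hB hd, ← p'.basis_inl hB hd]
    exact Basis.equiv_apply _ _ _ _
  have hg2 : ∀ i, g (p.w i) = p'.w i := by
    intro i
    rw [← p.basis_inr hB hd, ← p'.basis_inr hB hd]
    exact Basis.equiv_apply _ _ _ _
  have hiso : ∀ x y, B (g x) (g y) = B x y := by
    have h0 : (B.compl₁₂ (g : V →ₗ[F] V) (g : V →ₗ[F] V)) = B := by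
      refine (p.basis hB hd).ext fun a => (p.basis hB hd).ext fun b => ?_
      rw [LinearMap.compl₁₂_apply, LinearEquiv.coe_coe]
      rcases a with a | a <;> rcases b with b | b <;>
        simp only [p.basis_inl hB hd, p.basis_inr hB hd, hg1, hg2, p.vv, p'.vv, p.ww, p'.ww, p.vw, p'.vw, p.wv hB, p'.wv hB]
    intro x y
    exact LinearMap.congr_fun (LinearMap.congr_fun h0 x) y
  exact ⟨⟨g, hiso⟩, Hyp.ext (funext hg1) (funext hg2)⟩

lemma Hyp.map_bijective (hB : Alt B) (p : Hyp B ι) [FiniteDimensional F V] (hd : finrank F V = 2 * Fintype.card ι) :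
    Function.Bijective p.map := by
  constructor
  · intro g h hgh
    apply Subtype.ext
    apply LinearEquiv.toLinearMap_injective
    apply (p.basis hB hd).ext
    rintro (i | i)
    · rw [p.basis_inl hB hd]
      exact congrFun (congrArg Hyp.v hgh) i
    · rw [p.basis_inr hB hd]
      exact congrFun (congrArg Hyp.w hgh) i
  · intro p'
    exact p.exists_equiv hB p' hd

lemma Hyp.nonempty (hB : Alt B) (hnd : ND (σ := RingHom.id F) B ⊤) [FiniteDimensional F V]
    (hd : finrank F V = 2 * Fintype.card ι) : Nonempty (Hyp B ι) := by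
  obtain ⟨r, b, hb⟩ := SpDecomp.exists_sympl_basis (B := B) hB (W := ⊤) (by
    intro u hu hu0
    by_contra hcon
    push Not at hcon
    exact hu0 (hnd u hu (fun w hw => hcon w hw)))
  have hr : Fintype.card ι = r := by
    have := Module.finrank_eq_card_basis b
    rw [finrank_top, hd] at this
    simp only [Fintype.card_sum, Fintype.card_fin] at this
    omega
  let e : ι ≃ Fin r := Fintype.equivFinOfCardEq hr
  refine ⟨⟨fun i => (b (Sum.inl (e i)) : V), fun i => (b (Sum.inr (e i)) : V), fun i j => ?_, fun i j => ?_, fun i j => ?_⟩⟩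
  · rw [hb]; rfl
  · rw [hb]; rfl
  · rw [hb]
    change (if e i = e j then (1 : F) else 0) = _
    simp only [EmbeddingLike.apply_eq_iff_eq]

theorem Hyp.card [Fintype F] [FiniteDimensional F V] (hB : Alt B) (hnd : ND (σ := RingHom.id F) B ⊤)
    (hd : finrank F V = 2 * Fintype.card ι) : Nat.card (Hyp B ι) = spc (Fintype.card F) (Fintype.card ι) := by
  obtain ⟨p⟩ := Hyp.nonempty hB hnd hd
  rw [← card_iso hB hnd hd]
  exact (Nat.card_congr (Equiv.ofBijective _ (p.map_bijective hB hd))).symm

end hyp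

end Cfsg.Agent.Lib.Sesq
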