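import Mathlib
import Cfsg.Agent.Lib.Sesq9
import Cfsg.Agent.Lib.Sesq6

/-! Numbers of orthogonal decompositions and of pairs of complementary totally isotropic subspaces. (helper99) -/

set_option autoImplicit false

namespace Cfsg.Agent.Lib.Sesq

open Polynomial Module Cfsg.Agent.Lib.InvSub Cfsg.Agent.Lib.PrimeOrd

variable {F V : Type*} [Field F] [AddCommGroup V] [Module F V] {B : V →ₗ[F] V →ₗ[F] F}

section hyp
variable {ι : Type*} [DecidableEq ι] [Fintype ι]

/-- the span of a hyperbolic family -/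
def Hyp.sp (p : Hyp B ι) : Submodule F V := Submodule.span F (Set.range (Sum.elim p.v p.w))

omit [Fintype ι] in
lemma Hyp.v_mem (p : Hyp B ι) (i : ι) : p.v i ∈ p.sp := Submodule.subset_span ⟨Sum.inl i, rfl⟩
omit [Fintype ι] in
lemma Hyp.w_mem (p : Hyp B ι) (i : ι) : p.w i ∈ p.sp := Submodule.subset_span ⟨Sum.inr i, rfl⟩

lemma Hyp.finrank_sp (hB : Alt B) (p : Hyp B ι) : finrank F p.sp = 2 * Fintype.card ι := by
  rw [Hyp.sp, finrank_span_eq_card (p.li hB), Fintype.card_sum]; ring

lemma Hyp.exists_coord (p : Hyp B ι) {x : V} (hx : x ∈ p.sp) : ∃ a b : ι → F, x = ∑ i, a i • p.v i + ∑ i, b i • p.w i := by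
  obtain ⟨c, hc⟩ := (Submodule.mem_span_range_iff_exists_fun F).mp hx
  refine ⟨fun i => c (Sum.inl i), fun i => c (Sum.inr i), ?_⟩
  rw [← hc, Fintype.sum_sum_type]
  rfl

lemma Hyp.nd_sp (hB : Alt B) (p : Hyp B ι) : ND (σ := RingHom.id F) B p.sp := by
  intro x hx h
  obtain ⟨a, b, rfl⟩ := p.exists_coord hx
  have ha : ∀ i, a i = 0 := by
    intro i
    have := h _ (p.w_mem i)
    simpa [p.vw, p.ww] using this
  have hb : ∀ i, b i = 0 := by
    intro i
    have := h _ (p.v_mem i)
    simpa [p.vv, p.wv hB] using this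
  simp [ha, hb]

omit [Fintype ι] in
lemma Hyp.sp_le (p : Hyp B ι) {W : Submodule F V} (hv : ∀ i, p.v i ∈ W) (hw : ∀ i, p.w i ∈ W) : p.sp ≤ W := by
  rw [Hyp.sp, Submodule.span_le]
  rintro _ ⟨i | i, rfl⟩
  · exact hv i
  · exact hw i

/-- pushing a hyperbolic family of a subspace -/
def Hyp.push {W : Submodule F V} (p : Hyp (rB B W) ι) : Hyp B ι where
  v := fun i => (p.v i : V)
  w := fun i => (p.w i : V)
  vv := p.vv
  ww := p.ww
  vw := p.vw

lemma Hyp.push_sp (hB : Alt B) [FiniteDimensional F V] {W : Submodule F V} (p : Hyp (rB B W) ι)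
    (hW : finrank F W = 2 * Fintype.card ι) : p.push.sp = W := by
  apply Submodule.eq_of_le_of_finrank_eq
  · exact p.push.sp_le (fun i => (p.v i).2) (fun i => (p.w i).2)
  · rw [hW]; exact Hyp.finrank_sp hB _

end hyp

/-- orthogonal decompositions with given half-dimensions -/
@[ext]
structure ODS (B : V →ₗ[F] V →ₗ[F] F) {t : ℕ} (κ : Fin t → ℕ) where
  D : Fin t → Submodule F V
  rank : ∀ j, finrank F (D j) = 2 * κ j
  nd : ∀ j, ND (σ := RingHom.id F) B (D j)
  orth : ∀ j j', j ≠ j' → ∀ u ∈ D j, ∀ v ∈ D j', B u v = 0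

instance [Finite V] {t : ℕ} (κ : Fin t → ℕ) : Finite (ODS B κ) :=
  Finite.of_injective (fun D => (fun j => (D.D j : Set V))) (fun _ _ h => ODS.ext (funext fun j => SetLike.coe_injective (congrFun h j)))

/-- gluing hyperbolic families along an orthogonal decomposition -/
def ODS.glue {t : ℕ} {κ : Fin t → ℕ} (x : Σ D : ODS B κ, ∀ j, Hyp (rB B (D.D j)) (Fin (κ j))) : Hyp B (Σ j : Fin t, Fin (κ j)) where
  v := fun i => ((x.2 i.1).v i.2 : V)
  w := fun i => ((x.2 i.1).w i.2 : V)
  vv := by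
    rintro ⟨j, i⟩ ⟨j', i'⟩
    by_cases h : j = j'
    · subst h; exact (x.2 j).vv i i'
    · exact x.1.orth j j' h _ (Subtype.prop _) _ (Subtype.prop _)
  ww := by
    rintro ⟨j, i⟩ ⟨j', i'⟩
    by_cases h : j = j'
    · subst h; exact (x.2 j).ww i i'
    · exact x.1.orth j j' h _ (Subtype.prop _) _ (Subtype.prop _)
  vw := by
    rintro ⟨j, i⟩ ⟨j', i'⟩
    by_cases h : j = j'
    · subst h
      have := (x.2 j).vw i i'
      rw [rB_apply] at this
      rw [this]
      by_cases h2 : i = i'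
      · subst h2; simp
      · rw [if_neg h2, if_neg]
        intro h3
        simp only [Sigma.mk.injEq, heq_eq_eq, true_and] at h3
        exact h2 h3
    · rw [if_neg]
      · exact x.1.orth j j' h _ (Subtype.prop _) _ (Subtype.prop _)
      · intro h3
        exact h (congrArg Sigma.fst h3)

lemma ODS.glue_bijective (hB : Alt B) [FiniteDimensional F V] {t : ℕ} (κ : Fin t → ℕ) :
    Function.Bijective (ODS.glue (B := B) (κ := κ)) := by
  constructor
  · rintro ⟨D, f⟩ ⟨D', f'⟩ h
    have h1 : ∀ j i, ((f j).v i : V) = (f' j).v i := fun j i => congrFun (congrArg Hyp.v h) ⟨j, i⟩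
    have h2 : ∀ j i, ((f j).w i : V) = (f' j).w i := fun j i => congrFun (congrArg Hyp.w h) ⟨j, i⟩
    obtain rfl : D = D' := by
      apply ODS.ext
      funext j
      rw [← (f j).push_sp hB (by rw [D.rank, Fintype.card_fin]), ← (f' j).push_sp hB (by rw [D'.rank, Fintype.card_fin])]
      congr 1
      exact Hyp.ext (funext (h1 j)) (funext (h2 j))
    congr 1
    funext j
    exact Hyp.ext (funext fun i => Subtype.ext (h1 j i)) (funext fun i => Subtype.ext (h2 j i))
  · intro p
    let q : ∀ j, Hyp B (Fin (κ j)) := fun j => ⟨fun i => p.v ⟨j, i⟩, fun i => p.w ⟨j, i⟩, fun i i' => p.vv _ _, fun i i' => p.ww _ _,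
      fun i i' => by rw [p.vw]; simp⟩
    let D : ODS B κ := ⟨fun j => (q j).sp, fun j => by rw [(q j).finrank_sp hB, Fintype.card_fin], fun j => (q j).nd_sp hB, by
      intro j j' hj u hu v hv
      obtain ⟨a, b, rfl⟩ := (q j).exists_coord hu
      obtain ⟨c, e, rfl⟩ := (q j').exists_coord hv
      have h1 : ∀ i i', B (p.v ⟨j, i⟩) (p.w ⟨j', i'⟩) = 0 := fun i i' => by
        rw [p.vw, if_neg (fun h => hj (congrArg Sigma.fst h))]
      have h2 : ∀ i i', B (p.w ⟨j, i⟩) (p.v ⟨j', i'⟩) = 0 := fun i i' => by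
        rw [p.wv hB, if_neg (fun h => hj (congrArg Sigma.fst h))]
      simp [q, p.vv, p.ww, h1, h2]⟩
    refine ⟨⟨D, fun j => ⟨fun i => ⟨p.v ⟨j, i⟩, (q j).v_mem i⟩, fun i => ⟨p.w ⟨j, i⟩, (q j).w_mem i⟩, (q j).vv, (q j).ww, (q j).vw⟩⟩, ?_⟩
    rfl

theorem ODS.card [Fintype F] [FiniteDimensional F V] (hB : Alt B) (hnd : ND (σ := RingHom.id F) B ⊤) {t : ℕ} (κ : Fin t → ℕ)
    (hκ : finrank F V = 2 * ∑ j, κ j) :
    Nat.card (ODS B κ) * ∏ j, spc (Fintype.card F) (κ j) = spc (Fintype.card F) (∑ j, κ j) := by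
  have hfin : Finite V := Module.finite_of_finite F
  have h1 := Nat.card_congr (Equiv.ofBijective _ (ODS.glue_bijective hB κ))
  have hc : Fintype.card (Σ j : Fin t, Fin (κ j)) = ∑ j, κ j := by simp
  rw [Hyp.card hB hnd (by rw [hc, hκ]), hc] at h1
  rw [← h1]
  have : Fintype (ODS B κ) := Fintype.ofFinite _
  rw [Nat.card_sigma]
  have h2 : ∀ D : ODS B κ, Nat.card (∀ j, Hyp (rB B (D.D j)) (Fin (κ j))) = ∏ j, spc (Fintype.card F) (κ j) := by
    intro D
    rw [Nat.card_pi]
    apply Finset.prod_congr rfl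
    intro j _
    rw [Hyp.card (rB_alt hB _) (rB_nd (D.nd j)) (by rw [D.rank, Fintype.card_fin]), Fintype.card_fin]
  rw [Finset.sum_congr rfl (fun D _ => h2 D), Finset.sum_const, Finset.card_univ, Nat.card_eq_fintype_card, smul_eq_mul]

lemma card_of_fiber {α β : Type*} [Finite α] [Finite β] (f : α → β) (c : ℕ) (h : ∀ b, Nat.card {a // f a = b} = c) :
    Nat.card α = Nat.card β * c := by
  have : Fintype β := Fintype.ofFinite _
  rw [Nat.card_congr (Equiv.sigmaFiberEquiv f).symm, Nat.card_sigma, Finset.sum_congr rfl (fun b _ => h b), Finset.sum_const,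
    Finset.card_univ, Nat.card_eq_fintype_card, smul_eq_mul]

/-- complementary totally isotropic subspaces have the same dimension -/
lemma finrank_ti_pair [Finite F] [FiniteDimensional F V] (hB : Alt B) (hnd : ND (σ := RingHom.id F) B ⊤) {d : ℕ}
    (hd : finrank F V = 2 * d) {U W : Submodule F V} (h : IsCompl U W) (hU : TI (σ := RingHom.id F) B U)
    (hW : TI (σ := RingHom.id F) B W) : finrank F U = d ∧ finrank F W = d := by
  have h1 := finrank_add_perp (σ := RingHom.id F) hnd U
  have h2 := finrank_add_perp (σ := RingHom.id F) hnd W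
  have h3 := Submodule.finrank_mono (ti_iff.mp hU)
  have h4 := Submodule.finrank_mono (ti_iff.mp hW)
  have h5 := Submodule.finrank_add_eq_of_isCompl h
  omega

/-- dual bases in a pair of complementary totally isotropic subspaces -/
lemma exists_dual [FiniteDimensional F V] (hnd : ND (σ := RingHom.id F) B ⊤) (hB : Alt B) {d : ℕ}
    {U W : Submodule F V} (h : IsCompl U W) (hfU : finrank F U = d) (hfW : finrank F W = d)
    (hW : TI (σ := RingHom.id F) B W) {s : Fin d → V} (hs : LinearIndependent F s) (hsU : ∀ i, s i ∈ U) :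
    Submodule.span F (Set.range s) = U ∧
    ∃ w : Fin d → V, (∀ i, w i ∈ W) ∧ ∀ i j, B (s i) (w j) = if i = j then 1 else 0 := by
  have hsp : Submodule.span F (Set.range s) = U := by
    apply Submodule.eq_of_le_of_finrank_eq
    · rw [Submodule.span_le]; rintro _ ⟨i, rfl⟩; exact hsU i
    · rw [finrank_span_eq_card hs, hfU, Fintype.card_fin]
  refine ⟨hsp, ?_⟩
  let φ : W →ₗ[F] (Fin d → F) := LinearMap.pi (fun i => (B (s i)) ∘ₗ W.subtype)
  have hφ : Function.Injective φ := by
    rw [← LinearMap.ker_eq_bot, LinearMap.ker_eq_bot']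
    intro w hw
    apply Subtype.ext
    have h1 : ∀ i, B (s i) (w : V) = 0 := fun i => congrFun hw i
    refine hnd w trivial ?_
    intro x _
    have hx : x ∈ U ⊔ W := by rw [h.sup_eq_top]; trivial
    obtain ⟨u, hu, w', hw', rfl⟩ := Submodule.mem_sup.mp hx
    rw [map_add, hW _ w.2 _ hw', add_zero]
    rw [← hsp] at hu
    obtain ⟨c, rfl⟩ := (Submodule.mem_span_range_iff_exists_fun F).mp hu
    simp only [map_sum, map_smul]
    apply Finset.sum_eq_zero
    intro i _
    rw [hB.refl _ _ (h1 i), smul_zero]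
  have hsurj : Function.Surjective φ := by
    rw [← LinearMap.injective_iff_surjective_of_finrank_eq_finrank]
    · exact hφ
    · rw [hfW]; simp
  choose w hw using fun j => hsurj (Pi.single j 1)
  refine ⟨fun j => (w j : V), fun j => (w j).2, fun i j => ?_⟩
  have := congrFun (hw j) i
  simp only [φ, LinearMap.pi_apply, LinearMap.comp_apply, Submodule.subtype_apply] at this
  rw [this, Pi.single_apply]

theorem card_ti_pairs [Fintype F] [FiniteDimensional F V] (hB : Alt B) (hnd : ND (σ := RingHom.id F) B ⊤) {d : ℕ}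
    (hd : finrank F V = 2 * d) :
    Nat.card {P : Submodule F V × Submodule F V // IsCompl P.1 P.2 ∧ (∀ u ∈ P.1, ∀ v ∈ P.1, B u v = 0) ∧
      (∀ u ∈ P.2, ∀ v ∈ P.2, B u v = 0)} * ∏ i : Fin d, (Fintype.card F ^ d - Fintype.card F ^ i.val) = spc (Fintype.card F) d := by
  have hfin : Finite V := Module.finite_of_finite F
  have hfs : Finite (Submodule F V) := Finite.of_injective (fun W => (W : Set V)) SetLike.coe_injective
  have hcard := Hyp.card (ι := Fin d) hB hnd (by rw [hd, Fintype.card_fin])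
  rw [Fintype.card_fin] at hcard
  rw [← hcard]
  symm
  let f : Hyp B (Fin d) → {P : Submodule F V × Submodule F V // IsCompl P.1 P.2 ∧ (∀ u ∈ P.1, ∀ v ∈ P.1, B u v = 0) ∧
      (∀ u ∈ P.2, ∀ v ∈ P.2, B u v = 0)} := fun p => ⟨(Submodule.span F (Set.range p.v), Submodule.span F (Set.range p.w)), by
    have hps : PSys B (fun _ _ => True) p.v p.w := ⟨fun j => by rw [p.vw, if_pos rfl]; exact one_ne_zero, fun _ => trivial, p.vv, p.ww,
      fun j k hjk => by rw [p.vw, if_neg hjk]⟩
    exact ⟨hps.isCompl hd, hps.ti_v, hps.ti_w⟩⟩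
  apply card_of_fiber f
  rintro ⟨⟨U, W⟩, hc, hU, hW⟩
  obtain ⟨hfU, hfW⟩ := finrank_ti_pair hB hnd hd hc hU hW
  have hF : Fintype U := Fintype.ofFinite _
  have h1 := card_linearIndependent (K := F) (V := U) (k := d) (by rw [hfU])
  rw [hfU] at h1
  rw [← h1]
  have hmem : ∀ p : {p : Hyp B (Fin d) // f p = ⟨(U, W), hc, hU, hW⟩}, ∀ i, p.1.v i ∈ U := by
    rintro ⟨p, hp⟩ i
    have : Submodule.span F (Set.range p.v) = U := congrArg (fun x => x.1.1) hp
    exact this.le (Submodule.subset_span ⟨i, rfl⟩)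
  have hmemw : ∀ p : {p : Hyp B (Fin d) // f p = ⟨(U, W), hc, hU, hW⟩}, ∀ i, p.1.w i ∈ W := by
    rintro ⟨p, hp⟩ i
    have : Submodule.span F (Set.range p.w) = W := congrArg (fun x => x.1.2) hp
    exact this.le (Submodule.subset_span ⟨i, rfl⟩)
  let g : {p : Hyp B (Fin d) // f p = ⟨(U, W), hc, hU, hW⟩} → {s : Fin d → U // LinearIndependent F s} := fun p =>
    ⟨fun i => ⟨p.1.v i, hmem p i⟩, by
      have h2 : LinearIndependent F p.1.v := by
        have := (p.1.li hB).comp Sum.inl Sum.inl_injective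
        exact this
      exact LinearIndependent.of_comp U.subtype h2⟩
  apply Nat.card_congr (Equiv.ofBijective g _)
  constructor
  · intro p p' h
    have hv : ∀ i, p.1.v i = p'.1.v i := fun i => congrArg Subtype.val (congrFun (congrArg Subtype.val h) i)
    apply Subtype.ext
    apply Hyp.ext (funext hv)
    funext i
    rw [← sub_eq_zero]
    refine hnd _ trivial ?_
    intro x _
    have hx : x ∈ U ⊔ W := by rw [hc.sup_eq_top]; trivial
    obtain ⟨u, hu, w', hw', rfl⟩ := Submodule.mem_sup.mp hx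
    rw [map_add, hW _ (W.sub_mem (hmemw p i) (hmemw p' i)) _ hw', add_zero]
    have hsp : Submodule.span F (Set.range p.1.v) = U := congrArg (fun x => x.1.1) p.2
    rw [← hsp] at hu
    obtain ⟨c, rfl⟩ := (Submodule.mem_span_range_iff_exists_fun F).mp hu
    simp only [map_sum, map_smul]
    apply Finset.sum_eq_zero
    intro j _
    rw [map_sub, LinearMap.sub_apply, p.1.wv hB, hv j, p'.1.wv hB, sub_self, smul_zero]
  · rintro ⟨s, hs⟩
    have hs' : LinearIndependent F (fun i => (s i : V)) := hs.map' U.subtype (Submodule.ker_subtype U)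
    obtain ⟨hsp, w, hw, hsw⟩ := exists_dual hnd hB hc hfU hfW hW hs' (fun i => (s i).2)
    let p : Hyp B (Fin d) := ⟨fun i => (s i : V), w, fun i j => hU _ (s i).2 _ (s j).2, fun i j => hW _ (hw i) _ (hw j), hsw⟩
    refine ⟨⟨p, ?_⟩, rfl⟩
    apply Subtype.ext
    apply Prod.ext
    · exact hsp
    · apply Submodule.eq_of_le_of_finrank_eq
      · change Submodule.span F (Set.range p.w) ≤ W
        rw [Submodule.span_le]; rintro _ ⟨i, rfl⟩; exact hw i
      · change finrank F (Submodule.span F (Set.range p.w)) = finrank F W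
        have h2 : LinearIndependent F p.w := by
          have := (p.li hB).comp Sum.inr Sum.inr_injective
          exact this
        rw [finrank_span_eq_card h2, hfW, Fintype.card_fin]

end Cfsg.Agent.Lib.Sesq
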