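import Mathlib
import Cfsg.Agent.Lib.Sesq10
import Cfsg.Agent.Lib.ExtField5

/-! Types of invariant nondegenerate subspaces; existence of isometries with a given number of atoms. (helper99) -/

set_option autoImplicit false

namespace Cfsg.Agent.Lib.Sesq

open Polynomial Module Cfsg.Agent.Lib.InvSub Cfsg.Agent.Lib.PrimeOrd

section gen

variable {F V : Type*} [Field F] [AddCommGroup V] [Module F V] {B : V →ₗ[F] V →ₗ[F] F}

lemma finrank_E_add [FiniteDimensional F V] {T : Module.End F V} {y : F} {W W' W'' : Submodule F V} (h : W' ⊔ W'' = W)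
    (hd : Disjoint W' W'') (h' : Inv T W') (h'' : Inv T W'') :
    finrank F ↥(W ⊓ E T y) = finrank F ↥(W' ⊓ E T y) + finrank F ↥(W'' ⊓ E T y) := by
  have h1 : W ⊓ E T y = (W' ⊓ E T y) ⊔ (W'' ⊓ E T y) := by
    apply le_antisymm
    · intro x hx
      obtain ⟨hxW, hxE⟩ := hx
      rw [← h] at hxW
      obtain ⟨a, ha, b, hb, rfl⟩ := Submodule.mem_sup.mp hxW
      have hE : T (a + b) = y • (a + b) := Module.End.mem_eigenspace_iff.mp hxE
      rw [map_add, smul_add] at hE
      have h2 : T a - y • a = y • b - T b := by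
        rw [sub_eq_sub_iff_add_eq_add, hE]; abel
      have h3 : T a - y • a ∈ W' ⊓ W'' := ⟨W'.sub_mem (h' a ha) (W'.smul_mem _ ha), by
        rw [h2]; exact W''.sub_mem (W''.smul_mem _ hb) (h'' b hb)⟩
      rw [disjoint_iff.mp hd, Submodule.mem_bot] at h3
      have h4 : T a = y • a := sub_eq_zero.mp h3
      have h5 : T b = y • b := by
        rw [h3] at h2
        exact (sub_eq_zero.mp h2.symm).symm
      exact Submodule.add_mem_sup ⟨ha, Module.End.mem_eigenspace_iff.mpr h4⟩ ⟨hb, Module.End.mem_eigenspace_iff.mpr h5⟩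
    · refine sup_le (inf_le_inf_right _ ?_) (inf_le_inf_right _ ?_)
      · rw [← h]; exact le_sup_left
      · rw [← h]; exact le_sup_right
  have h2 := Submodule.finrank_sup_add_finrank_inf_eq (W' ⊓ E T y) (W'' ⊓ E T y)
  have h3 : (W' ⊓ E T y) ⊓ (W'' ⊓ E T y) = ⊥ := by
    rw [eq_bot_iff, ← disjoint_iff.mp hd]
    exact inf_le_inf inf_le_left inf_le_left
  rw [h3, finrank_bot, ← h1] at h2
  omega

lemma inf_perp_inv [FiniteDimensional F V] (hnd : ND (σ := RingHom.id F) B ⊤) {T : Module.End F V}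
    (hT : Iso (σ := RingHom.id F) B T) {W U : Submodule F V} (hW : Inv T W) (hU : Inv T U) :
    Inv T (W ⊓ perp (σ := RingHom.id F) B U) := inv_inf hW (hT.inv_perp hnd hU)

/-- nondegenerate invariant subspaces of multiple dimension from atoms -/
theorem exists_mult [Finite F] [FiniteDimensional F V] (hB : Alt B) (hnd : ND (σ := RingHom.id F) B ⊤) {T : Module.End F V}
    (hT : Iso (σ := RingHom.id F) B T) {c : ℕ} (hc : 0 < c) {C : Submodule F V}
    (hat : ∀ W ≤ C, Inv T W → ND (σ := RingHom.id F) B W → W ≠ ⊥ → ∃ U ≤ W, Inv T U ∧ ND (σ := RingHom.id F) B U ∧ finrank F U = c) :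
    ∀ (k : ℕ) (W : Submodule F V), W ≤ C → Inv T W → ND (σ := RingHom.id F) B W → k * c ≤ finrank F W →
      ∃ U ≤ W, Inv T U ∧ ND (σ := RingHom.id F) B U ∧ finrank F U = k * c := by
  intro k
  induction k with
  | zero =>
    intro W _ _ _ _
    exact ⟨⊥, bot_le, fun x hx => by rw [(Submodule.mem_bot F).mp hx, map_zero]; exact Submodule.zero_mem _,
      fun u hu _ => (Submodule.mem_bot F).mp hu, by rw [finrank_bot, Nat.zero_mul]⟩
  | succ k ih =>
    intro W hWC hW hWnd hk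
    have hne : W ≠ ⊥ := by
      rintro rfl
      rw [finrank_bot] at hk
      have : 0 < (k + 1) * c := Nat.mul_pos (Nat.succ_pos k) hc
      omega
    obtain ⟨U, hUW, hU, hUnd, hUf⟩ := hat W hWC hW hWnd hne
    obtain ⟨h1, h2, h3, h4⟩ := split_nd hB.refl hWnd hUnd hUW
    obtain ⟨U', hU'W, hU', hU'nd, hU'f⟩ := ih (W ⊓ perp (σ := RingHom.id F) B U) (inf_le_left.trans hWC) (inf_perp_inv hnd hT hW hU) h4
      (by rw [Nat.succ_mul] at hk; omega)
    refine ⟨U ⊔ U', sup_le hUW (hU'W.trans inf_le_left), inv_sup hU hU', ?_, ?_⟩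
    · exact nd_sup hB.refl hUnd hU'nd (fun u hu v hv => (hU'W hv).2 u hu)
    · have h5 := Submodule.finrank_sup_add_finrank_inf_eq U U'
      rw [disjoint_iff.mp (h2.mono_right hU'W), finrank_bot] at h5
      rw [Nat.succ_mul]; omega

lemma exists_plane [FiniteDimensional F V] (hB : Alt B) {W : Submodule F V} (hW : ND (σ := RingHom.id F) B W) (hne : W ≠ ⊥) :
    ∃ U ≤ W, ND (σ := RingHom.id F) B U ∧ finrank F U = 2 := by
  obtain ⟨u, hu, hu0⟩ := Submodule.exists_mem_ne_zero_of_ne_bot hne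
  have : ∃ v ∈ W, B u v ≠ 0 := by
    by_contra hcon
    push Not at hcon
    exact hu0 (hW u hu hcon)
  obtain ⟨v, hv, huv⟩ := this
  refine ⟨Submodule.span F {u, v}, ?_, nd_pair hB huv, finrank_pair hB huv⟩
  rw [Submodule.span_le]
  rintro x (rfl | rfl)
  · exact hu
  · exact hv

/-- nondegenerate subspaces of the fixed space -/
theorem exists_fixed_sub [Finite F] [FiniteDimensional F V] (hB : Alt B) (hnd : ND (σ := RingHom.id F) B ⊤) {T : Module.End F V}
    (hT : Iso (σ := RingHom.id F) B T) {W : Submodule F V} (hW : W ≤ E T 1) (hWnd : ND (σ := RingHom.id F) B W) {e : ℕ}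
    (he : Even e) (heW : e ≤ finrank F W) : ∃ U ≤ W, Inv T U ∧ ND (σ := RingHom.id F) B U ∧ finrank F U = e := by
  have hinv : ∀ U ≤ E T 1, Inv T U := by
    intro U hU x hx
    have := Module.End.mem_eigenspace_iff.mp (hU hx)
    rw [this, one_smul]; exact hx
  obtain ⟨k, hk⟩ := he
  obtain ⟨U, hUW, h1, h2, h3⟩ := exists_mult hB hnd hT (c := 2) (by norm_num) (C := E T 1) (by
    intro W hW _ hWnd hne
    obtain ⟨U, hU, h1, h2⟩ := exists_plane hB hWnd hne
    exact ⟨U, hU, hinv U (hU.trans hW), h1, h2⟩) k W hW (hinv W hW) hWnd (by omega)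
  exact ⟨U, hUW, h1, h2, by omega⟩

end gen

section types

variable {F V : Type*} [Field F] [AddCommGroup V] [Module F V] {B : V →ₗ[F] V →ₗ[F] F}

/-- the type of an invariant nondegenerate subspace: `e` fixed dimensions and `s` atoms of size `c` -/
structure TyS (B : V →ₗ[F] V →ₗ[F] F) (T : Module.End F V) (c : ℕ) (W : Submodule F V) (e s : ℕ) : Prop where
  inv : Inv T W
  nd : ND (σ := RingHom.id F) B W
  fE : finrank F ↥(W ⊓ E T 1) = e
  f : finrank F W = e + s * c

/-- the data used for isometries of odd prime order -/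
structure PO (F : Type*) [Field F] [Fintype F] {V : Type*} [AddCommGroup V] [Module F V] (p r : ℕ) (B : V →ₗ[F] V →ₗ[F] F)
    (T : Module.End F V) : Prop where
  hp : p.Prime
  hc : CharP F p
  hr : r.Prime
  hrp : r ≠ p
  odd : Odd r
  alt : Alt B
  nd : ND (σ := RingHom.id F) B ⊤
  iso : Iso (σ := RingHom.id F) B T
  pow : T ^ r = 1

variable [Fintype F] [FiniteDimensional F V] {p r : ℕ} {T : Module.End F V}

lemma PO.cast (h : PO F p r B T) : (r : F) ≠ 0 := by
  have := h.hp; have := h.hc; have := h.hr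
  haveI : Fact p.Prime := ⟨h.hp⟩
  haveI : Fact r.Prime := ⟨h.hr⟩
  exact cast_ne_zero (F := F) (p := p) h.hrp

lemma PO.ne (h : PO F p r B T) : (r : F) ≠ 0 := h.cast

/-- size of the atoms -/
noncomputable def csz (F : Type*) [Fintype F] (r : ℕ) : ℕ := csize (orderOf ((Fintype.card F : ℕ) : ZMod r))

omit [FiniteDimensional F V] in
lemma PO.csz_pos (h : PO F p r B T) : 0 < csz F r := by
  have := h.hc
  haveI : Fact p.Prime := ⟨h.hp⟩
  haveI : Fact r.Prime := ⟨h.hr⟩
  have := order_pos (F := F) (p := p) h.hrp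
  unfold csz csize
  split_ifs <;> omega

lemma csz_even : Even (csz F r) := by
  unfold csz csize
  split_ifs with h
  · exact h
  · exact even_two_mul _

theorem PO.exists_atom (h : PO F p r B T) {W : Submodule F V} (hW : Inv T W) (hWnd : ND (σ := RingHom.id F) B W) (hne : W ≠ ⊥)
    (hE : W ⊓ E T 1 = ⊥) : ∃ U ≤ W, Inv T U ∧ ND (σ := RingHom.id F) B U ∧ finrank F U = csz F r := by
  have := h.hc
  haveI : Fact p.Prime := ⟨h.hp⟩
  haveI : Fact r.Prime := ⟨h.hr⟩
  exact Sesq.exists_atom (p := p) h.hrp h.odd h.alt h.nd h.iso h.pow hW hWnd hne hE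

theorem PO.csz_dvd (h : PO F p r B T) : ∀ (n : ℕ) {W : Submodule F V}, finrank F W = n → Inv T W →
    ND (σ := RingHom.id F) B W → W ⊓ E T 1 = ⊥ → csz F r ∣ finrank F W := by
  intro n
  induction n using Nat.strong_induction_on with
  | _ n ih =>
    intro W hn hW hWnd hE
    by_cases hne : W = ⊥
    · rw [hne, finrank_bot]; exact dvd_zero _
    obtain ⟨U, hUW, hU, hUnd, hUf⟩ := h.exists_atom hW hWnd hne hE
    obtain ⟨h1, h2, h3, h4⟩ := split_nd h.alt.refl hWnd hUnd hUW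
    have hpos := h.csz_pos
    have h5 := ih (finrank F ↥(W ⊓ perp (σ := RingHom.id F) B U)) (by omega) rfl (inf_perp_inv h.nd h.iso hW hU) h4 (by
      rw [eq_bot_iff, ← hE]; exact inf_le_inf_right _ inf_le_left)
    rw [← h3, hUf]
    exact (Nat.dvd_add_right dvd_rfl).mpr h5

/-- splitting off the fixed points -/
theorem PO.split_E (h : PO F p r B T) {W : Submodule F V} (hW : Inv T W) (hWnd : ND (σ := RingHom.id F) B W) :
    Inv T (W ⊓ E T 1) ∧ ND (σ := RingHom.id F) B (W ⊓ E T 1) ∧ Inv T (W ⊓ perp (σ := RingHom.id F) B (W ⊓ E T 1)) ∧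
    ND (σ := RingHom.id F) B (W ⊓ perp (σ := RingHom.id F) B (W ⊓ E T 1)) ∧
    (W ⊓ perp (σ := RingHom.id F) B (W ⊓ E T 1)) ⊓ E T 1 = ⊥ ∧
    finrank F ↥(W ⊓ E T 1) + finrank F ↥(W ⊓ perp (σ := RingHom.id F) B (W ⊓ E T 1)) = finrank F W := by
  have h1 := nd_inf_E h.iso h.ne h.pow hW hWnd
  have h0 : Inv T (W ⊓ E T 1) := by
    intro x hx
    have := Module.End.mem_eigenspace_iff.mp hx.2
    rw [this, one_smul]; exact hx
  obtain ⟨h2, h3, h4, h5⟩ := split_nd h.alt.refl hWnd h1 inf_le_left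
  refine ⟨h0, h1, inf_perp_inv h.nd h.iso hW h0, h5, ?_, h4⟩
  rw [eq_bot_iff, ← disjoint_iff.mp h3]
  exact le_inf (le_inf (inf_le_left.trans inf_le_left) inf_le_right) inf_le_left

theorem PO.exists_ty (h : PO F p r B T) {W : Submodule F V} (hW : Inv T W) (hWnd : ND (σ := RingHom.id F) B W) :
    ∃ s, TyS B T (csz F r) W (finrank F ↥(W ⊓ E T 1)) s := by
  obtain ⟨h0, h1, h2, h3, h4, h5⟩ := h.split_E hW hWnd
  obtain ⟨s, hs⟩ := h.csz_dvd _ rfl h2 h3 h4
  exact ⟨s, hW, hWnd, rfl, by rw [← h5, hs, Nat.mul_comm]⟩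

lemma TyS.even_e (h : PO F p r B T) {c e s : ℕ} {W : Submodule F V} (ht : TyS B T c W e s) : Even e := by
  rw [← ht.fE]
  exact even_of_nd h.alt (nd_inf_E h.iso h.ne h.pow ht.inv ht.nd)

theorem TyS.split (h : PO F p r B T) {e s e' s' : ℕ} {W : Submodule F V} (ht : TyS B T (csz F r) W e s) (he : e' ≤ e) (hs : s' ≤ s)
    (hev : Even e') : ∃ W' ≤ W, TyS B T (csz F r) W' e' s' ∧
      TyS B T (csz F r) (W ⊓ perp (σ := RingHom.id F) B W') (e - e') (s - s') := by
  obtain ⟨h0, h1, h2, h3, h4, h5⟩ := h.split_E ht.inv ht.nd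
  have hpos := h.csz_pos
  obtain ⟨U, hU, hUi, hUnd, hUf⟩ := exists_fixed_sub h.alt h.nd h.iso (inf_le_right : W ⊓ E T 1 ≤ E T 1) h1 hev
    (by rw [ht.fE]; exact he)
  obtain ⟨X, hX, hXi, hXnd, hXf⟩ := exists_mult h.alt h.nd h.iso hpos (C := W ⊓ perp (σ := RingHom.id F) B (W ⊓ E T 1)) (by
    intro Y hY hYi hYnd hYne
    exact h.exists_atom hYi hYnd hYne (by rw [eq_bot_iff, ← h4]; exact inf_le_inf_right _ hY)) s' _ le_rfl h2 h3 (by
      have : finrank F ↥(W ⊓ perp (σ := RingHom.id F) B (W ⊓ E T 1)) = s * csz F r := by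
        have h6 := ht.f; have h7 := ht.fE; omega
      rw [this]; exact Nat.mul_le_mul_right _ hs)
  have horth : ∀ u ∈ U, ∀ x ∈ X, B u x = 0 := fun u hu x hx => (hX hx).2 u (hU hu)
  have hdisj : U ⊓ X = ⊥ := by
    rw [eq_bot_iff, ← h4]
    exact le_inf (inf_le_right.trans hX) (inf_le_left.trans (hU.trans inf_le_right))
  have hnd' := nd_sup h.alt.refl hUnd hXnd horth
  have hle : U ⊔ X ≤ W := sup_le (hU.trans inf_le_left) (hX.trans inf_le_left)
  have hXE : X ⊓ E T 1 = ⊥ := by rw [eq_bot_iff, ← h4]; exact inf_le_inf_right _ hX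
  have hUE : U ⊓ E T 1 = U := inf_eq_left.mpr (hU.trans inf_le_right)
  have hE1 := finrank_E_add (T := T) (y := 1) (W := U ⊔ X) rfl (disjoint_iff.mpr hdisj) hUi hXi
  rw [hXE, hUE, finrank_bot, hUf, add_zero] at hE1
  have hf1 := Submodule.finrank_sup_add_finrank_inf_eq U X
  rw [hdisj, finrank_bot, hUf, hXf, add_zero] at hf1
  have hinv' := inv_sup hUi hXi
  obtain ⟨g1, g2, g3, g4⟩ := split_nd h.alt.refl ht.nd hnd' hle
  have hinv'' := inf_perp_inv h.nd h.iso ht.inv hinv'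
  have hE2 := finrank_E_add (T := T) (y := 1) g1 g2 hinv' hinv''
  refine ⟨U ⊔ X, hle, ⟨hinv', hnd', hE1, hf1⟩, ⟨hinv'', g4, ?_, ?_⟩⟩
  · have := ht.fE; omega
  · have h6 := ht.f
    have h7 : (s - s') * csz F r = s * csz F r - s' * csz F r := Nat.sub_mul _ _ _
    have h8 : s' * csz F r ≤ s * csz F r := Nat.mul_le_mul_right _ hs
    omega

end types

end Cfsg.Agent.Lib.Sesq
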