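import Mathlib
import Cfsg.Agent.Lib.Sesq11

/-! Existence of isometries of odd prime order with a given number of atoms. (helper99) -/

set_option autoImplicit false

namespace Cfsg.Agent.Lib.Sesq

open Polynomial Module Cfsg.Agent.Lib.InvSub Cfsg.Agent.Lib.PrimeOrd

universe u

section glue

variable {F V : Type*} [Field F] [AddCommGroup V] [Module F V] {B : V →ₗ[F] V →ₗ[F] F}

/-- gluing an isometry on `U` and one on its orthogonal complement -/
lemma exists_glue_iso [FiniteDimensional F V] [Finite F] (hB : Alt B) {U : Submodule F V} (hU : ND (σ := RingHom.id F) B U)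
    (T₁ : Module.End F V) (h1 : Inv T₁ U) (h1' : ∀ u ∈ U, ∀ v ∈ U, B (T₁ u) (T₁ v) = B u v)
    (T₂ : Module.End F ↥(perp (σ := RingHom.id F) B U)) (h2 : Iso (σ := RingHom.id F) (rB B (perp (σ := RingHom.id F) B U)) T₂) :
    ∃ J : Module.End F V, (∀ u ∈ U, J u = T₁ u) ∧ (∀ w : perp (σ := RingHom.id F) B U, J w = (T₂ w : V)) ∧ Iso (σ := RingHom.id F) B J := by
  obtain ⟨J, hJ1, hJ2⟩ := ExtField.exists_glue (isCompl_perp hB.refl hU) (T₁ ∘ₗ U.subtype) ((perp (σ := RingHom.id F) B U).subtype ∘ₗ T₂)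
  have hJ1' : ∀ u ∈ U, J u = T₁ u := fun u hu => hJ1 ⟨u, hu⟩
  have hJ2' : ∀ w : perp (σ := RingHom.id F) B U, J w = (T₂ w : V) := hJ2
  refine ⟨J, hJ1', hJ2', ?_⟩
  intro x y
  have hx : x ∈ U ⊔ perp (σ := RingHom.id F) B U := by rw [(isCompl_perp hB.refl hU).sup_eq_top]; trivial
  have hy : y ∈ U ⊔ perp (σ := RingHom.id F) B U := by rw [(isCompl_perp hB.refl hU).sup_eq_top]; trivial
  obtain ⟨a, ha, b, hb, rfl⟩ := Submodule.mem_sup.mp hx
  obtain ⟨c, hc, e, he, rfl⟩ := Submodule.mem_sup.mp hy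
  have e1 : B (T₁ a) (T₂ ⟨e, he⟩ : V) = 0 := (T₂ ⟨e, he⟩).2 _ (h1 a ha)
  have e2 : B (T₂ ⟨b, hb⟩ : V) (T₁ c) = 0 := hB.refl _ _ ((T₂ ⟨b, hb⟩).2 _ (h1 c hc))
  have e3 : B a e = 0 := he a ha
  have e4 : B b c = 0 := hB.refl _ _ (hb c hc)
  have e5 : B (T₂ ⟨b, hb⟩ : V) (T₂ ⟨e, he⟩ : V) = B b e := h2 ⟨b, hb⟩ ⟨e, he⟩
  rw [map_add J a b, map_add J c e, hJ1' a ha, hJ1' c hc, hJ2' ⟨b, hb⟩, hJ2' ⟨e, he⟩]
  simp only [map_add, LinearMap.add_apply, e1, e2, e3, e4, e5, h1' a ha c hc, add_zero, zero_add]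

lemma glue_pow [FiniteDimensional F V] [Finite F] {U : Submodule F V}
    {T₁ : Module.End F V} (h1 : Inv T₁ U) {T₂ : Module.End F ↥(perp (σ := RingHom.id F) B U)}
    {J : Module.End F V} (hJ1 : ∀ u ∈ U, J u = T₁ u) (hJ2 : ∀ w : perp (σ := RingHom.id F) B U, J w = (T₂ w : V)) (k : ℕ) :
    (∀ u ∈ U, (J ^ k) u = (T₁ ^ k) u) ∧ (∀ w : perp (σ := RingHom.id F) B U, (J ^ k) w = ((T₂ ^ k) w : V)) := by
  induction k with
  | zero => exact ⟨fun u _ => rfl, fun w => rfl⟩
  | succ k ih =>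
    refine ⟨fun u hu => ?_, fun w => ?_⟩
    · rw [pow_succ, pow_succ, Module.End.mul_apply, Module.End.mul_apply, hJ1 u hu]
      exact ih.1 _ (h1 u hu)
    · rw [pow_succ, pow_succ, Module.End.mul_apply, Module.End.mul_apply, hJ2 w]
      exact ih.2 _

end glue

/-- the identity as a (trivial) element -/
lemma po_one {F : Type*} [Field F] [Fintype F] {V : Type*} [AddCommGroup V] [Module F V] {p r : ℕ} {B : V →ₗ[F] V →ₗ[F] F}
    (hp : p.Prime) (hc : CharP F p) (hr : r.Prime) (hrp : r ≠ p) (odd : Odd r) (alt : Alt B) (nd : ND (σ := RingHom.id F) B ⊤) :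
    PO F p r B 1 := ⟨hp, hc, hr, hrp, odd, alt, nd, Iso.one, one_pow r⟩

section numbers

variable {F : Type*} [Fintype F] {r : ℕ}

lemma order_dvd_csz : orderOf ((Fintype.card F : ℕ) : ZMod r) ∣ csz F r := by
  unfold csz csize
  split_ifs
  · exact dvd_rfl
  · exact Dvd.intro_left 2 rfl

lemma csz_dvd_iff {k : ℕ} : csz F r ∣ 2 * k ↔ orderOf ((Fintype.card F : ℕ) : ZMod r) ∣ 2 * k := by
  refine ⟨fun h => order_dvd_csz.trans h, fun h => ?_⟩
  unfold csz csize
  split_ifs with he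
  · exact h
  · have hc : Nat.Coprime (orderOf ((Fintype.card F : ℕ) : ZMod r)) 2 := by
      rw [Nat.coprime_comm, Nat.coprime_two_left]
      exact Nat.not_even_iff_odd.mp he
    exact Nat.mul_dvd_mul_left 2 (hc.dvd_of_dvd_mul_left h)

lemma csz_dvd_sub_one [Field F] {p : ℕ} [Fact p.Prime] [CharP F p] [Fact r.Prime] (hrp : r ≠ p) (ho : Odd r) : csz F r ∣ r - 1 := by
  obtain ⟨k, hk⟩ := ho
  have h1 : r - 1 = 2 * k := by omega
  rw [h1, csz_dvd_iff, ← h1]
  apply orderOf_dvd_of_pow_eq_one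
  have h2 : ((Fintype.card F : ℕ) : ZMod r) ≠ 0 := by
    intro h
    rw [ZMod.natCast_eq_zero_iff] at h
    obtain ⟨n, hn, hc⟩ := FiniteField.card F p
    rw [hc] at h
    have h3 := (Fact.out : r.Prime).dvd_of_dvd_pow h
    exact hrp ((Nat.prime_dvd_prime_iff_eq Fact.out Fact.out).mp h3)
  exact ZMod.pow_card_sub_one_eq_one h2

lemma r_dvd_spc [Field F] (hr : r.Prime) {p : ℕ} [Fact p.Prime] [CharP F p] (hrp : r ≠ p) {d : ℕ}
    (h : csz F r ≤ 2 * d) : r ∣ spc (Fintype.card F) d := by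
  haveI : Fact r.Prime := ⟨hr⟩
  have h0 := order_pos (F := F) (p := p) hrp
  obtain ⟨k, hk⟩ := csz_even (F := F) (r := r)
  have h1 : 0 < k := by
    have : 0 < csz F r := by unfold csz csize; split_ifs <;> omega
    omega
  have h2 : r ∣ Fintype.card F ^ (2 * k) - 1 := by
    apply SubspaceCount.dvd_of_orderOf_dvd Fintype.card_pos
    rw [← csz_dvd_iff]
    exact ⟨1, by omega⟩
  unfold spc
  apply Dvd.dvd.mul_left
  refine h2.trans ?_
  have h3 : k - 1 ∈ Finset.range d := Finset.mem_range.mpr (by omega)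
  have h4 := Finset.dvd_prod_of_mem (fun i => Fintype.card F ^ (2 * (i + 1)) - 1) h3
  have h5 : k - 1 + 1 = k := by omega
  simpa only [h5] using h4

lemma csz_le_of_dvd [Field F] (hr : r.Prime) {p : ℕ} [Fact p.Prime] [CharP F p] (hrp : r ≠ p) {d : ℕ}
    (h : r ∣ spc (Fintype.card F) d) : csz F r ≤ 2 * d := by
  unfold spc at h
  rcases (Nat.Prime.dvd_mul hr).mp h with h1 | h1
  · exfalso
    have h2 := hr.dvd_of_dvd_pow h1
    obtain ⟨n, hn, hc⟩ := FiniteField.card F p
    rw [hc] at h2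
    have h3 := hr.dvd_of_dvd_pow h2
    exact hrp ((Nat.prime_dvd_prime_iff_eq hr Fact.out).mp h3)
  · obtain ⟨j, hj, h2⟩ := (Prime.dvd_finset_prod_iff hr.prime _).mp h1
    rw [Finset.mem_range] at hj
    have h3 := SubspaceCount.orderOf_dvd_of_dvd Fintype.card_pos h2
    rw [← csz_dvd_iff] at h3
    have := Nat.le_of_dvd (by omega) h3
    omega

end numbers

/-- existence of isometries of order `r` with `s` atoms -/
theorem exists_po {F : Type*} [Field F] [Fintype F] {p r : ℕ} (hp : p.Prime) (hc : CharP F p) (hr : r.Prime) (hrp : r ≠ p) (odd : Odd r) :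
    ∀ (s : ℕ) {V : Type u} [AddCommGroup V] [Module F V] [FiniteDimensional F V] {B : V →ₗ[F] V →ₗ[F] F}
      (_ : Alt B) (_ : ND (σ := RingHom.id F) B ⊤), s * csz F r ≤ finrank F V →
      ∃ T : Module.End F V, PO F p r B T ∧ finrank F (E T 1) + s * csz F r = finrank F V := by
  haveI : Fact p.Prime := ⟨hp⟩
  haveI : Fact r.Prime := ⟨hr⟩
  intro s
  induction s with
  | zero =>
    intro V _ _ _ B hB hnd _
    refine ⟨1, po_one hp hc hr hrp odd hB hnd, ?_⟩
    have : E (1 : Module.End F V) 1 = ⊤ := by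
      rw [eq_top_iff]
      intro x _
      rw [Module.End.mem_eigenspace_iff, one_smul]; rfl
    rw [this, finrank_top, Nat.zero_mul, add_zero]
  | succ s ih =>
    intro V _ _ _ B hB hnd hs
    have hcs : csz F r ≤ finrank F V := by rw [Nat.succ_mul] at hs; omega
    obtain ⟨d, hd⟩ := even_of_nd hB hnd
    rw [finrank_top] at hd
    have hd' : finrank F V = 2 * d := by omega
    have hcard := card_iso hB hnd hd'
    have hdvd : r ∣ Nat.card (ClIso.isoGrp F (fun u v => B u v)) := by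
      rw [hcard]; exact r_dvd_spc hr hrp (by omega)
    have hfinV : Finite V := Module.finite_of_finite F
    have hfin : Finite (ClIso.isoGrp F (fun u v => B u v)) := by
      have : Finite (V ≃ₗ[F] V) := Finite.of_injective (fun g => (g : V → V)) DFunLike.coe_injective
      infer_instance
    obtain ⟨g, hg⟩ := exists_prime_orderOf_dvd_card' r hdvd
    let T₀ : Module.End F V := ((g : V ≃ₗ[F] V) : V →ₗ[F] V)
    have hT₀ : Iso (σ := RingHom.id F) B T₀ := fun x y => g.2 x y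
    have hpow : ∀ k : ℕ, T₀ ^ k = (((g ^ k : ClIso.isoGrp F (fun u v => B u v)) : V ≃ₗ[F] V) : V →ₗ[F] V) := by
      intro k
      induction k with
      | zero => rfl
      | succ k ihk => rw [pow_succ, ihk, pow_succ]; rfl
    have hTr : T₀ ^ r = 1 := by rw [hpow, ← hg, pow_orderOf_eq_one]; rfl
    have hT1 : T₀ ≠ 1 := by
      intro h
      have : g = 1 := by
        apply Subtype.ext
        apply LinearEquiv.toLinearMap_injective
        exact h
      rw [this, orderOf_one] at hg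
      exact hr.one_lt.ne hg
    have hpo : PO F p r B T₀ := ⟨hp, hc, hr, hrp, odd, hB, hnd, hT₀, hTr⟩
    obtain ⟨h0, h1, h2, h3, h4, h5⟩ := hpo.split_E (W := ⊤) (fun _ _ => trivial) hnd
    obtain ⟨U, hU, hUi, hUnd, hUf⟩ := hpo.exists_atom h2 h3 (by
      intro hbot
      rw [hbot, finrank_bot, add_zero, finrank_top, top_inf_eq] at h5
      have : E T₀ 1 = ⊤ := Submodule.eq_top_of_finrank_eq h5
      apply hT1
      apply LinearMap.ext
      intro x
      have hx : x ∈ E T₀ 1 := by rw [this]; trivial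
      rw [Module.End.mem_eigenspace_iff, one_smul] at hx
      exact hx) h4
    have hUE : U ⊓ E T₀ 1 = ⊥ := by rw [eq_bot_iff, ← h4]; exact inf_le_inf_right _ hU
    have hPnd := nd_perp hB.refl hnd hUnd
    have hPf := finrank_add_perp (σ := RingHom.id F) hnd U
    obtain ⟨T₂, hT₂, hT₂f⟩ := ih (rB_alt hB (perp (σ := RingHom.id F) B U)) (rB_nd hPnd) (by
      rw [Nat.succ_mul] at hs; omega)
    obtain ⟨J, hJ1, hJ2, hJ⟩ := exists_glue_iso hB hUnd T₀ hUi (fun u _ v _ => hT₀ u v) T₂ hT₂.iso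
    obtain ⟨hp1, hp2⟩ := glue_pow hUi hJ1 hJ2 r
    have hcompl := isCompl_perp hB.refl hUnd
    have hJr : J ^ r = 1 := by
      apply LinearMap.ext
      intro x
      have hx : x ∈ U ⊔ perp (σ := RingHom.id F) B U := by rw [hcompl.sup_eq_top]; trivial
      obtain ⟨a, ha, b, hb, rfl⟩ := Submodule.mem_sup.mp hx
      rw [map_add, hp1 a ha, hTr, hp2 ⟨b, hb⟩, hT₂.pow]
      rfl
    have hPinv : Inv J (perp (σ := RingHom.id F) B U) := fun w hw => by
      rw [hJ2 ⟨w, hw⟩]; exact (T₂ ⟨w, hw⟩).2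
    have hUinv : Inv J U := fun w hw => by rw [hJ1 w hw]; exact hUi w hw
    refine ⟨J, ⟨hp, hc, hr, hrp, odd, hB, hnd, hJ, hJr⟩, ?_⟩
    have hE := finrank_E_add (T := J) (y := 1) hcompl.sup_eq_top hcompl.disjoint hUinv hPinv
    rw [top_inf_eq] at hE
    have hE1 : U ⊓ E J 1 = ⊥ := by
      rw [eq_bot_iff, ← hUE]
      intro x hx
      refine ⟨hx.1, ?_⟩
      have := Module.End.mem_eigenspace_iff.mp hx.2
      rw [hJ1 x hx.1] at this
      exact Module.End.mem_eigenspace_iff.mpr this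
    have hE2 : finrank F ↥(perp (σ := RingHom.id F) B U ⊓ E J 1) = finrank F (E T₂ 1) := by
      have : perp (σ := RingHom.id F) B U ⊓ E J 1 = (E T₂ 1).map (perp (σ := RingHom.id F) B U).subtype := by
        ext x
        constructor
        · intro hx
          have h6 := Module.End.mem_eigenspace_iff.mp hx.2
          rw [hJ2 ⟨x, hx.1⟩, one_smul] at h6
          refine ⟨⟨x, hx.1⟩, ?_, rfl⟩
          change (⟨x, hx.1⟩ : perp (σ := RingHom.id F) B U) ∈ E T₂ 1
          rw [Module.End.mem_eigenspace_iff, one_smul]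
          exact Subtype.ext h6
        · rintro ⟨y, hy, rfl⟩
          refine ⟨y.2, ?_⟩
          have h6 := Module.End.mem_eigenspace_iff.mp hy
          change (y : V) ∈ E J 1
          rw [Module.End.mem_eigenspace_iff, one_smul, hJ2 y, h6, one_smul]
      rw [this]
      exact Submodule.finrank_map_subtype_eq _ _
    rw [hE1, finrank_bot, hE2, zero_add] at hE
    rw [hE, Nat.succ_mul]
    omega

end Cfsg.Agent.Lib.Sesq
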