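import Mathlib
import Cfsg.Agent.Lib.Sesq12
import Cfsg.Agent.Lib.Sesq3
import Cfsg.Agent.Lib.AltSim4

/-! From symplectic matrices to isometries of odd prime order and back. (helper99) -/

set_option autoImplicit false

namespace Cfsg.Agent.Lib.Sesq

open Polynomial Module Cfsg.Agent.Lib.InvSub Cfsg.Agent.Lib.PrimeOrd

variable {F : Type*} [Field F] {d : ℕ}

lemma exists_symp {T : Module.End F (Fin d ⊕ Fin d → F)} (hT : Iso (σ := RingHom.id F) (AltSim.JB (F := F) d) T) :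
    ∃ x : ↥(Matrix.symplecticGroup (Fin d) F), Matrix.toLin' (x : Matrix (Fin d ⊕ Fin d) (Fin d ⊕ Fin d) F) = T := by
  refine ⟨⟨LinearMap.toMatrix' T, ?_⟩, Matrix.toLin'_toMatrix' T⟩
  rw [ClIso.mem_symplecticGroup_iff]
  intro u v
  have h1 : ∀ u, (LinearMap.toMatrix' T).mulVec u = T u := fun u => by
    rw [← Matrix.toLin'_apply, Matrix.toLin'_toMatrix']
  rw [h1, h1]
  have h2 : ∀ u v, ClIso.sympForm (Fin d) F u v = AltSim.JB (F := F) d u v := fun u v => by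
    rw [ClIso.sympForm, Matrix.toBilin'_apply', AltSim.JB_apply]
  rw [h2, h2]
  exact hT u v

lemma toLin_pow (x : ↥(Matrix.symplecticGroup (Fin d) F)) (k : ℕ) :
    Matrix.toLin' ((x ^ k : ↥(Matrix.symplecticGroup (Fin d) F)) : Matrix (Fin d ⊕ Fin d) (Fin d ⊕ Fin d) F) =
      (Matrix.toLin' (x : Matrix (Fin d ⊕ Fin d) (Fin d ⊕ Fin d) F)) ^ k := by
  induction k with
  | zero => rw [pow_zero, pow_zero]; exact Matrix.toLin'_one
  | succ k ih =>
    rw [pow_succ, pow_succ, ← ih]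
    exact Matrix.toLin'_mul _ _

lemma scalar_iff (M : Matrix (Fin d ⊕ Fin d) (Fin d ⊕ Fin d) F) (z : F) :
    M = z • (1 : Matrix (Fin d ⊕ Fin d) (Fin d ⊕ Fin d) F) ↔ Matrix.toLin' M = z • (1 : Module.End F (Fin d ⊕ Fin d → F)) := by
  constructor
  · rintro rfl
    rw [map_smul, Matrix.toLin'_one]; rfl
  · intro h
    apply Matrix.toLin'.injective
    rw [h, map_smul, Matrix.toLin'_one]; rfl

variable [Fintype F] {p r : ℕ}

lemma PO.eq_one {V : Type*} [AddCommGroup V] [Module F V] [FiniteDimensional F V] [Nontrivial V] {B : V →ₗ[F] V →ₗ[F] F}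
    {T : Module.End F V} (h : PO F p r B T) {z : F} (hz : T = z • (1 : Module.End F V)) : T = 1 := by
  have h1 : z ^ r = 1 := by
    have := h.pow
    rw [hz, _root_.smul_pow, one_pow] at this
    obtain ⟨v, hv⟩ := exists_ne (0 : V)
    have h2 := congrArg (fun f : Module.End F V => f v) this
    simp only [LinearMap.smul_apply, Module.End.one_apply] at h2
    have h3 : (z ^ r - 1) • v = 0 := by rw [sub_smul, one_smul, h2, sub_self]
    rcases smul_eq_zero.mp h3 with h4 | h4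
    · exact sub_eq_zero.mp h4
    · exact absurd h4 hv
  have h2 : z ^ 2 = 1 := by
    obtain ⟨v, hv⟩ := exists_ne (0 : V)
    obtain ⟨w, hw⟩ : ∃ w, B v w ≠ 0 := by
      by_contra hcon
      push Not at hcon
      exact hv (h.nd v trivial (fun w _ => hcon w))
    have h3 := h.iso v w
    rw [hz] at h3
    simp only [LinearMap.smul_apply, Module.End.one_apply, map_smul, smul_eq_mul] at h3
    have h4 : (z ^ 2 - 1) * B v w = 0 := by linear_combination h3
    rcases mul_eq_zero.mp h4 with h5 | h5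
    · exact sub_eq_zero.mp h5
    · exact absurd h5 hw
  have h3 : z = 1 := by
    obtain ⟨k, hk⟩ := h.odd
    rw [hk, pow_succ, pow_mul, h2, one_pow, one_mul] at h1
    exact h1
  rw [hz, h3, one_smul]

/-- an element of odd prime order of `PSp` as an isometry of order `r` -/
theorem exists_po_of_symp [Fact p.Prime] [CharP F p] [Fact r.Prime] (hrp : r ≠ p) (ho : Odd r) (hd : 1 ≤ d)
    (x : ↥(Matrix.symplecticGroup (Fin d) F))
    (hx1 : ∃ z : F, ((x ^ r : ↥(Matrix.symplecticGroup (Fin d) F)) : Matrix (Fin d ⊕ Fin d) (Fin d ⊕ Fin d) F) = z • (1 : Matrix (Fin d ⊕ Fin d) (Fin d ⊕ Fin d) F))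
    (hx2 : ∀ z : F, (x : Matrix (Fin d ⊕ Fin d) (Fin d ⊕ Fin d) F) ≠ z • (1 : Matrix (Fin d ⊕ Fin d) (Fin d ⊕ Fin d) F)) :
    ∃ T : Module.End F (Fin d ⊕ Fin d → F), PO F p r (AltSim.JB (F := F) d) T ∧ T ≠ 1 ∧
      (∀ W : Submodule F (Fin d ⊕ Fin d → F), W.map (Matrix.toLin' (x : Matrix (Fin d ⊕ Fin d) (Fin d ⊕ Fin d) F)) = W.map T) := by
  obtain ⟨z, hz⟩ := hx1
  have hne : Nonempty (Fin d ⊕ Fin d) := ⟨Sum.inl ⟨0, by omega⟩⟩
  set S : Module.End F (Fin d ⊕ Fin d → F) := Matrix.toLin' (x : Matrix (Fin d ⊕ Fin d) (Fin d ⊕ Fin d) F) with hS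
  have hSr : S ^ r = z • (1 : Module.End F _) := by
    rw [hS, ← toLin_pow, ← scalar_iff]; exact hz
  have hSi := jb_iso x.2
  rw [← hS] at hSi
  have hz2 : z ^ 2 = 1 := sq_scalar (jb_nd d) hSi hSr
  have key : ∀ (ε : F), ε * ε = 1 → ε ^ r * z = 1 → ∃ T : Module.End F (Fin d ⊕ Fin d → F), PO F p r (AltSim.JB (F := F) d) T ∧ T ≠ 1 ∧
      (∀ W : Submodule F (Fin d ⊕ Fin d → F), W.map S = W.map T) := by
    intro ε hε hεz
    refine ⟨ε • S, ⟨Fact.out, inferInstance, Fact.out, hrp, ho, jb_alt d, jb_nd d, ?_, ?_⟩, ?_, ?_⟩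
    · intro u v
      simp only [LinearMap.smul_apply, map_smul, smul_eq_mul]
      rw [← mul_assoc, hε, one_mul]
      exact hSi u v
    · rw [_root_.smul_pow, hSr, smul_smul, hεz, one_smul]
    · intro h1
      apply hx2 ε
      rw [scalar_iff, ← hS, ← h1, smul_smul, hε, one_smul]
    · intro W
      rw [Submodule.map_smul]
      intro h0
      rw [h0, mul_zero] at hε
      exact zero_ne_one hε
  have hz3 : z = 1 ∨ z = -1 := by
    rw [pow_two] at hz2
    exact mul_self_eq_one_iff.mp hz2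
  rcases hz3 with h | h
  · exact key 1 (by ring) (by rw [h]; ring)
  · exact key (-1) (by ring) (by rw [h, ho.neg_one_pow]; ring)

/-- an isometry of order `r` as an element of `PSp` -/
theorem exists_symp_of_po {T : Module.End F (Fin d ⊕ Fin d → F)} (hd : 1 ≤ d) (h : PO F p r (AltSim.JB (F := F) d) T) (hT : T ≠ 1) :
    ∃ x : ↥(Matrix.symplecticGroup (Fin d) F),
      (∃ z : F, ((x ^ r : ↥(Matrix.symplecticGroup (Fin d) F)) : Matrix (Fin d ⊕ Fin d) (Fin d ⊕ Fin d) F) = z • (1 : Matrix (Fin d ⊕ Fin d) (Fin d ⊕ Fin d) F)) ∧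
      (∀ z : F, (x : Matrix (Fin d ⊕ Fin d) (Fin d ⊕ Fin d) F) ≠ z • (1 : Matrix (Fin d ⊕ Fin d) (Fin d ⊕ Fin d) F)) ∧
      Matrix.toLin' (x : Matrix (Fin d ⊕ Fin d) (Fin d ⊕ Fin d) F) = T := by
  have hne : Nonempty (Fin d ⊕ Fin d) := ⟨Sum.inl ⟨0, by omega⟩⟩
  obtain ⟨x, hx⟩ := exists_symp h.iso
  refine ⟨x, ⟨1, ?_⟩, ?_, hx⟩
  · rw [scalar_iff, toLin_pow, hx, h.pow, one_smul]
  · intro z hz
    rw [scalar_iff, hx] at hz
    exact hT (h.eq_one hz)

end Cfsg.Agent.Lib.Sesq
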