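import Mathlib
import Cfsg.Agent.Lib.Sesq13
import Cfsg.Agent.Lib.ImpDec3

/-! Orthogonal decompositions invariant under an isometry of odd prime order. (helper99) -/

set_option autoImplicit false

namespace Cfsg.Agent.Lib.Sesq

open Polynomial Module Cfsg.Agent.Lib.InvSub Cfsg.Agent.Lib.PrimeOrd

variable {F V : Type*} [Field F] [AddCommGroup V] [Module F V] {B : V →ₗ[F] V →ₗ[F] F}

lemma odn_indep (hB : Alt B) [FiniteDimensional F V] [Finite F] {ι : Type*} {D : ι → Submodule F V}
    (hnd : ∀ j, ND (σ := RingHom.id F) B (D j)) (horth : ∀ j j', j ≠ j' → ∀ u ∈ D j, ∀ v ∈ D j', B u v = 0) : iSupIndep D := by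
  rw [iSupIndep_def]
  intro i
  have h1 : (⨆ (j : ι) (_ : j ≠ i), D j) ≤ perp (σ := RingHom.id F) B (D i) := by
    apply iSup_le
    intro j
    apply iSup_le
    intro hj v hv u hu
    exact horth i j (Ne.symm hj) u hu v hv
  exact (isCompl_perp hB.refl (hnd i)).disjoint.mono_right h1

lemma iSup_top_of_finrank [FiniteDimensional F V] {t a : ℕ} {D : Fin t → Submodule F V} (hind : iSupIndep D)
    (ha : ∀ j, finrank F (D j) = a) (hV : finrank F V = t * a) : iSup D = ⊤ := by
  apply Submodule.eq_top_of_finrank_eq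
  have h1 := ImpDec.finrank_biSup_eq hind Finset.univ
  have h2 : (⨆ i ∈ (Finset.univ : Finset (Fin t)), D i) = iSup D := by simp
  rw [h2] at h1
  rw [h1, Finset.sum_congr rfl (fun j _ => ha j), Finset.sum_const, Finset.card_univ, Fintype.card_fin, smul_eq_mul, hV]

/-- orthogonal decompositions into `t` nondegenerate spaces of dimension `a` -/
def OD (B : V →ₗ[F] V →ₗ[F] F) (a t : ℕ) : Type _ := {D : Fin t → Submodule F V // (∀ j, finrank F (D j) = a) ∧
  (∀ j, ND (σ := RingHom.id F) B (D j)) ∧ (∀ j j', j ≠ j' → ∀ u ∈ D j, ∀ v ∈ D j', B u v = 0)}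

@[reducible] def odSym (B : V →ₗ[F] V →ₗ[F] F) (a t : ℕ) : MulAction (Equiv.Perm (Fin t)) (OD B a t) where
  smul σ D := ⟨fun i => D.1 (σ⁻¹ i), fun i => D.2.1 _, fun i => D.2.2.1 _,
    fun i j h => D.2.2.2 _ _ (fun h' => h ((σ⁻¹ : Equiv.Perm (Fin t)).injective h'))⟩
  one_smul D := rfl
  mul_smul σ τ D := by
    apply Subtype.ext
    funext i
    change D.1 ((σ * τ)⁻¹ i) = D.1 (τ⁻¹ (σ⁻¹ i))
    rw [mul_inv_rev, Equiv.Perm.mul_apply]

theorem od_factorial_dvd (hB : Alt B) [FiniteDimensional F V] [Finite F] {a : ℕ} (ha : 0 < a) (t : ℕ) :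
    t.factorial ∣ Nat.card (OD B a t) := by
  let _ := odSym B a t
  have hfree : ∀ D : OD B a t, MulAction.stabilizer (Equiv.Perm (Fin t)) D = ⊥ := by
    intro D
    rw [eq_bot_iff]
    intro σ hσ
    rw [Subgroup.mem_bot]
    have h1 : σ • D = D := hσ
    have h2 : ∀ i, D.1 (σ⁻¹ i) = D.1 i := fun i => congrFun (congrArg Subtype.val h1) i
    have hinj : Function.Injective D.1 := (odn_indep hB D.2.2.1 D.2.2.2).injective (fun i hi => by
      have := D.2.1 i
      rw [hi, finrank_bot] at this
      omega)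
    have h3 : σ⁻¹ = 1 := Equiv.ext fun i => hinj (h2 i)
    exact inv_eq_one.mp h3
  have e := MulAction.selfEquivOrbitsQuotientProd hfree
  rw [Nat.card_congr e, Nat.card_prod]
  have : Nat.card (Equiv.Perm (Fin t)) = t.factorial := by
    rw [Nat.card_eq_fintype_card, Fintype.card_perm, Fintype.card_fin]
  rw [this]
  exact dvd_mul_left _ _

theorem od_card [Fintype F] [FiniteDimensional F V] (hB : Alt B) (hnd : ND (σ := RingHom.id F) B ⊤) (k t : ℕ)
    (hV : finrank F V = t * (2 * k)) : Nat.card (OD B (2 * k) t) * (spc (Fintype.card F) k) ^ t = spc (Fintype.card F) (t * k) := by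
  have h1 := ODS.card hB hnd (t := t) (fun _ => k) (by simp [hV]; ring)
  have e : OD B (2 * k) t ≃ ODS B (fun _ : Fin t => k) :=
    { toFun := fun D => ⟨D.1, D.2.1, D.2.2.1, D.2.2.2⟩
      invFun := fun D => ⟨D.D, D.rank, D.nd, D.orth⟩
      left_inv := fun D => rfl
      right_inv := fun D => rfl }
  rw [Nat.card_congr e]
  simpa using h1

theorem TyS.decompose [Fintype F] [FiniteDimensional F V] {p r : ℕ} {T : Module.End F V} (h : PO F p r B T) {a : ℕ} (hae : Even a) :
    ∀ (t : ℕ) (W : Submodule F V) (e s : ℕ), TyS B T (csz F r) W e s → e + s * csz F r = t * a → s ≤ t * (a / csz F r) →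
      ∃ D : Fin t → Submodule F V, (∀ j, D j ≤ W) ∧ (∀ j, Inv T (D j)) ∧ (∀ j, finrank F (D j) = a) ∧
        (∀ j, ND (σ := RingHom.id F) B (D j)) ∧ (∀ j j', j ≠ j' → ∀ u ∈ D j, ∀ v ∈ D j', B u v = 0) := by
  intro t
  have hc := h.csz_pos
  induction t with
  | zero =>
    intro W e s _ _ _
    exact ⟨fun j => ⊥, fun j => j.elim0, fun j => j.elim0, fun j => j.elim0, fun j => j.elim0, fun j => j.elim0⟩
  | succ t ih =>
    intro W e s hty hes hs
    set c := csz F r with hcdef
    have hce : Even c := csz_even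
    -- choose the type of the first block
    obtain ⟨s₁, hs1, hs2, hs3, hs4⟩ : ∃ s₁, s₁ ≤ s ∧ s₁ ≤ a / c ∧ s - s₁ ≤ t * (a / c) ∧ a - s₁ * c ≤ e := by
      have hdm := Nat.div_mul_le_self a c
      by_cases hcase : s ≤ a / c
      · refine ⟨s, le_rfl, hcase, by omega, ?_⟩
        have h1 : (t + 1) * a = t * a + a := by ring
        have h2 : s * c ≤ a / c * c := Nat.mul_le_mul_right _ hcase
        omega
      · push Not at hcase
        refine ⟨a / c, hcase.le, le_rfl, ?_, ?_⟩
        · have h1 : (t + 1) * (a / c) = t * (a / c) + a / c := by ring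
          omega
        · have h1 : s * c ≤ (t + 1) * (a / c) * c := Nat.mul_le_mul_right _ hs
          have h2 : (t + 1) * (a / c) * c = t * (a / c * c) + a / c * c := by ring
          have h3 : t * (a / c * c) ≤ t * a := Nat.mul_le_mul_left _ hdm
          have h4 : (t + 1) * a = t * a + a := by ring
          omega
    have hsa : s₁ * c ≤ a := (Nat.mul_le_mul_right _ hs2).trans (Nat.div_mul_le_self a c)
    have hev : Even (a - s₁ * c) := (Nat.even_sub hsa).mpr (iff_of_true hae (hce.mul_left _))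
    obtain ⟨W', hW'W, hty', hty''⟩ := hty.split h hs4 hs1 hev
    obtain ⟨D, hD1, hD2, hD3, hD4, hD5⟩ := ih _ _ _ hty'' (by
      have h1 : (s - s₁) * c = s * c - s₁ * c := Nat.sub_mul _ _ _
      have h2 : s₁ * c ≤ s * c := Nat.mul_le_mul_right _ hs1
      have h4 : (t + 1) * a = t * a + a := by ring
      omega) hs3
    have hf' : finrank F W' = a := by rw [hty'.f, ← hcdef]; omega
    refine ⟨Fin.cons W' D, ?_, ?_, ?_, ?_, ?_⟩
    · intro j; refine Fin.cases ?_ (fun j => ?_) j
      · exact hW'W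
      · exact (hD1 j).trans inf_le_left
    · intro j; refine Fin.cases ?_ (fun j => ?_) j
      · exact hty'.inv
      · exact hD2 j
    · intro j; refine Fin.cases ?_ (fun j => ?_) j
      · exact hf'
      · exact hD3 j
    · intro j; refine Fin.cases ?_ (fun j => ?_) j
      · exact hty'.nd
      · exact hD4 j
    · intro j j'
      refine Fin.cases ?_ (fun j => ?_) j
      · refine Fin.cases ?_ (fun j' => ?_) j'
        · intro h0; exact absurd rfl h0
        · intro _ u hu v hv
          exact (hD1 j' hv).2 u hu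
      · refine Fin.cases ?_ (fun j' => ?_) j'
        · intro _ u hu v hv
          exact h.alt.refl _ _ ((hD1 j hu).2 v hv)
        · intro hjj
          exact hD5 j j' (fun h0 => hjj (by rw [h0]))

end Cfsg.Agent.Lib.Sesq
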