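import Cfsg.Agent.Lib.SfoLead
set_option autoImplicit false
set_option linter.unusedSectionVars false
set_option linter.unusedVariables false

/-!
Finite overgroups of subfield groups: the intersection with the Borel subgroup (helper44).
-/

namespace Cfsg.Agent.Lib.Sfo
open Cfsg.Lie Cfsg.Agent.Lib.ChevX Cfsg.Agent.Lib.ChevGood Cfsg.Agent.Lib.ChevRel Cfsg.Agent.Lib.ChevNPerm
  Cfsg.Agent.Lib.ChevBruhat Cfsg.Agent.Lib.ChevRadCent Cfsg.Agent.Lib.ChevFix
open Cfsg.Agent.Lib.ChevClosed hiding pr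
open scoped MatrixGroups Matrix

variable {D : ChevalleyDatum} {F : Type*} [Field F]

/-- the roots of the centre of `U` -/
structure Cen (G : Good D) (F : Type*) [Field F] (C : Set (Fin D.nroots)) : Prop where
  closed : Closed F C
  comm : ∀ s ∈ C, ∀ r : Fin D.nroots, Pos D r → ∀ t u : F, xg D F r t * xg D F s u = xg D F s u * xg D F r t
  up : ∀ s : Fin D.nroots, Pos D s → s ∉ C → ∃ r k : Fin D.nroots, ∃ (M : ℤ) (tl : List (ℕ × ℤ)), Pos D r ∧
    D.chainEntry r s = ((k : ℕ), M) :: tl ∧ (M : F) ≠ 0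
  move : ∀ s ∈ C, ∃ i : Fin D.rank, Pos D (refl G i s) ∧ refl G i s ∉ C ∧ ∀ s' ∈ C, s' ≠ s → refl G i s' = s'

theorem Cen.pos {G : Good D} {C : Set (Fin D.nroots)} (hC : Cen G F C) : ∀ s ∈ C, Pos D s := hC.closed.pos

/-- the setting: `M` contains exactly the root elements over the fixed field of `σ` -/
structure Cx (G : Good D) (σ : F ≃+* F) (M : Subgroup (GL D.Idx F)) : Prop where
  hD : Listed D
  le : M ≤ D.group F
  mem : ∀ (s : Fin D.nroots) (t : F), xg D F s t ∈ M ↔ σ t = t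

section
variable {G : Good D} {σ : F ≃+* F} {M : Subgroup (GL D.Idx F)} {C : Set (Fin D.nroots)}

theorem Cx.one (X : Cx G σ M) (s : Fin D.nroots) : xg D F s 1 ∈ M := (X.mem s 1).2 (map_one σ)

theorem Cx.nn_mem (X : Cx G σ M) (i : Fin D.rank) : nn D F i ∈ M := by
  unfold nn ng
  have h1 := X.one (simpF G i)
  have h2 : xg D F (D.neg (D.simple i)) (-(1 : F)⁻¹) ∈ M := by
    rw [inv_one]
    exact (X.mem (negF G (simpF G i)) (-1)).2 (by rw [map_neg, map_one])
  exact mul_mem (mul_mem h1 h2) h1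

theorem Cx.nl_mem (X : Cx G σ M) (l : List (Fin D.rank)) : nl D F l ∈ M := by
  induction l with
  | nil => exact one_mem _
  | cons i l ih => rw [nl_cons G]; exact mul_mem (X.nn_mem i) ih

theorem em_nn (G : Good D) (i : Fin D.rank) : em D (σ : F →+* F) (nn D F i) = nn D F i := by
  unfold nn; rw [em_ng G, map_one]

/-- fixed elements of `U` lie in `M` -/
theorem Cx.fixU (X : Cx G σ M) {u : GL D.Idx F} (hu : u ∈ D.posUnipotent F) (h : em D (σ : F →+* F) u = u) : u ∈ M := by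
  obtain ⟨t, ht, ht0, rfl⟩ := fixed_U G X.hD (σ : F →+* F) hu h
  unfold ChevClosed.pr wg
  apply Subgroup.list_prod_mem
  intro x hx
  rw [List.map_map] at hx
  obtain ⟨r, hr, rfl⟩ := List.mem_map.mp hx
  simp only [Function.comp]
  rw [List.mem_range'_1] at hr
  exact (X.mem ⟨r, by omega⟩ (t r)).2 (ht r)

/-- leading coefficients of elements of `M ∩ U` are fixed -/
theorem Cx.lead_fix (X : Cx G σ M) (hC : Cen G F C)
    (HC : ∀ s ∈ C, ∀ (t : F) (v : GL D.Idx F), v ∈ M → Lead s t v → σ t = t) :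
    ∀ (m : ℕ) (s : Fin D.nroots), D.nroots - s = m → Pos D s → ∀ (t : F) (v : GL D.Idx F), v ∈ M → Lead s t v →
      σ t = t := by
  intro m
  induction m using Nat.strong_induction_on with
  | _ m ih =>
    intro s hm hs t v hv hl
    by_cases hsC : s ∈ C
    · exact HC s hsC t v hv hl
    · obtain ⟨r, k, N, tl, hr, hch, hN⟩ := hC.up s hs hsC
      have h1 := lead_comm G hr hs hch 1 hl
      obtain ⟨-, hk, hPk, -⟩ := comm_xg_lead G (F := F) hr hs hch 1 1
      have h2 : xg D F r 1 * v * (xg D F r 1)⁻¹ * v⁻¹ ∈ M :=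
        mul_mem (mul_mem (mul_mem (X.one r) hv) (inv_mem (X.one r))) (inv_mem hv)
      have h3 : s < k := by
        rw [Fin.lt_def, G.ord_mono _ s.2 _ k.2, ord_add G hk]
        have := ordF_pos G hr
        omega
      have h4 := ih (D.nroots - k) (by have := k.2; rw [Fin.lt_def] at h3; omega) k rfl hPk _ _ h2 h1
      rw [mul_one, map_mul, map_intCast] at h4
      exact mul_left_cancel₀ hN h4

theorem Cx.MU (X : Cx G σ M) (hC : Cen G F C)
    (HC : ∀ s ∈ C, ∀ (t : F) (v : GL D.Idx F), v ∈ M → Lead s t v → σ t = t) {v : GL D.Idx F} (hv : v ∈ M)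
    (hvU : v ∈ D.posUnipotent F) : em D (σ : F →+* F) v = v := by
  obtain ⟨t, -, rfl⟩ := exists_pr_U G hvU
  have key : ∀ m k : ℕ, D.nroots - k = m → D.nroots / 2 ≤ k → ChevClosed.pr D F k t ∈ M →
      em D (σ : F →+* F) (ChevClosed.pr D F k t) = ChevClosed.pr D F k t := by
    intro m
    induction m with
    | zero =>
      intro k hk _ h
      rw [ChevClosed.pr_out G (by omega), map_one]
    | succ m ih =>
      intro k hk hp h
      have hkn : k < D.nroots := by omega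
      have h1 : σ (t k) = t k := X.lead_fix hC HC _ (⟨k, hkn⟩ : Fin D.nroots) rfl hp _ _ h (lead_pr G hkn hp t)
      have h2 : xg D F k (t k) ∈ M := (X.mem ⟨k, hkn⟩ (t k)).2 h1
      rw [ChevClosed.pr_succ G hkn] at h ⊢
      have h3 := ih (k + 1) (by omega) (by omega) ((Subgroup.mul_mem_cancel_left _ h2).1 h)
      rw [map_mul, h3, em_xg G]
      simp only [RingHom.coe_coe]
      rw [h1]
  exact key _ _ rfl le_rfl hv

/-- the centralizer in `U` of the elements `x_r(1)`, `r > 0` -/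
theorem comm_U (hD : Listed D) (hC : Cen G F C) : ∀ (n : ℕ) (u : GL D.Idx F), u ∈ D.posUnipotent F →
    (∀ r : Fin D.nroots, Pos D r → u * xg D F r 1 = xg D F r 1 * u) →
    (∃ s : Fin D.nroots, Pos D s ∧ D.nroots - s ≤ n ∧ ∃ t : F, t ≠ 0 ∧ Lead s t u) → u ∈ XS D F C := by
  intro n
  induction n with
  | zero =>
    rintro u hu hc ⟨s, hs, h, -⟩
    have := s.2; omega
  | succ n ih =>
    rintro u hu hc ⟨s, hs, hn, t, ht, hl⟩
    have hsC : s ∈ C := by
      by_contra hsC
      obtain ⟨r, k, N, tl, hr, hch, hN⟩ := hC.up s hs hsC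
      have h1 := lead_comm G hr hs hch 1 hl
      obtain ⟨-, hk, hPk, -⟩ := comm_xg_lead G (F := F) hr hs hch 1 1
      refine lead_ne_one G hD hPk ?_ h1 ?_
      · rw [mul_one]; exact mul_ne_zero hN ht
      · rw [← hc r hr]; group
    obtain ⟨y, hy, rfl⟩ := hl
    refine mul_mem (xg_mem_XS hsC t) ?_
    by_cases hy1 : y = 1
    · rw [hy1]; exact one_mem _
    have hyU := U_le G s hy
    apply ih y hyU
    · intro r hr
      have h1 := hc r hr
      have h2 := hC.comm s hsC r hr 1 t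
      rw [← mul_assoc, h2, mul_assoc, mul_assoc] at h1
      exact mul_left_cancel h1
    · obtain ⟨s', hs', t', ht', hl'⟩ := exists_lead G hyU hy1
      have hcl := closed_Gt G (F := F) s
      have h3 := lead_mem G hD hcl hs' ht' hy hl'
      have h4 : (s : ℕ) < s' := h3.2
      exact ⟨s', hs', by omega, t', ht', hl'⟩

theorem comm_B (hD : Listed D) (hC : Cen G F C) {z : GL D.Idx F} (hz : z ∈ D.borelSubgroup F)
    (h : ∀ r : Fin D.nroots, Pos D r → z * xg D F r 1 = xg D F r 1 * z) : z ∈ XS D F C := by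
  obtain ⟨u, hu, a, ha, rfl⟩ := mem_borel G hz
  obtain ⟨-, c, hc0, hc1, hc2⟩ := mono_diag G ha
  have h1 : ∀ r : Fin D.nroots, Pos D r → c r = 1 := by
    intro r hr
    have h2 := comm_Gt G hr (c r * 1) hu
    have h3 : u * xg D F r (c r * 1) * u⁻¹ = xg D F r 1 := by
      have h4 := hc2 r 1
      have h5 : (u * a) * xg D F r 1 * (u * a)⁻¹ = xg D F r 1 := by rw [h r hr, mul_inv_cancel_right]
      have h6 : u * (a * xg D F r 1 * a⁻¹) * u⁻¹ = (u * a) * xg D F r 1 * (u * a)⁻¹ := by group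
      rw [← h5, ← h6, h4]; rfl
    rw [h3, ← xg_neg G, xg_add G] at h2
    have h7 := single_inf G hD hr h2
    linear_combination -h7
  have h2 : ∀ r : Fin D.nroots, c r = 1 := by
    intro r
    by_cases hr : Pos D r
    · exact h1 r hr
    · have h3 := hc1 r
      rw [h1 _ ((pos_negF G).2 hr), mul_one] at h3
      exact h3
  have ha1 : a = 1 := ChevSimple.H_eq_one_of_comm G ha (fun r hr => by
    have := hc2 ⟨r, hr⟩ 1
    rw [h2, mul_one] at this
    exact this)
  rw [ha1, mul_one] at h ⊢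
  by_cases hu1 : u = 1
  · rw [hu1]; exact one_mem _
  obtain ⟨s, hs, t, ht, hl⟩ := exists_lead G hu hu1
  exact comm_U hD hC (D.nroots - s) u hu h ⟨s, hs, le_rfl, t, ht, hl⟩

theorem xs_central (hC : Cen G F C) {z : GL D.Idx F} (hz : z ∈ XS D F C) {u : GL D.Idx F}
    (hu : u ∈ D.posUnipotent F) : u * z = z * u := by
  have h1 : XS D F C ≤ Subgroup.centralizer (D.posUnipotent F : Set (GL D.Idx F)) := XS_le fun s hs t => by
    rw [Subgroup.mem_centralizer_iff]
    intro v hv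
    have hv' : v ∈ XS D F (posS D) := by rw [XS_posS G]; exact hv
    have h2 : XS D F (posS D) ≤ Subgroup.centralizer {xg D F s t} := XS_le fun r hr u => by
      rw [Subgroup.mem_centralizer_singleton_iff]
      exact hC.comm s hs r hr u t
    exact Subgroup.mem_centralizer_singleton_iff.1 (h2 hv')
  exact Subgroup.mem_centralizer_iff.1 (h1 hz) u hu

/-- splitting off a central factor -/
theorem split_W (G : Good D) (hD : Listed D) (hcl : Closed F C)
    (hcm : ∀ z ∈ XS D F C, ∀ u ∈ D.posUnipotent F, u * z = z * u) {u z : GL D.Idx F} (hu : u ∈ D.posUnipotent F) (hz : z ∈ XS D F C)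
    (h : em D (σ : F →+* F) u = u * z) : ∃ u0 ∈ D.posUnipotent F, em D (σ : F →+* F) u0 = u0 ∧
      ∃ u1 ∈ XS D F C, u = u0 * u1 := by
  classical
  obtain ⟨t, ht0, rfl⟩ := exists_pr_U G hu
  obtain ⟨c, hc, rfl⟩ := exists_pr' G hcl hz
  -- products with central elements
  have hadd : ∀ (c : ℕ → F) (_ : Supp F C c) (m k : ℕ), D.nroots - k = m → D.nroots / 2 ≤ k → ∀ t : ℕ → F,
      ChevClosed.pr D F k t * ChevClosed.pr D F k c = ChevClosed.pr D F k (fun r => t r + c r) := by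
    intro c hc m
    induction m with
    | zero =>
      intro k hk _ t
      rw [ChevClosed.pr_out G (by omega), ChevClosed.pr_out G (by omega), ChevClosed.pr_out G (by omega), mul_one]
    | succ m ih =>
      intro k hk hp t
      have hkn : k < D.nroots := by omega
      rw [ChevClosed.pr_succ G hkn t, ChevClosed.pr_succ G hkn c, ChevClosed.pr_succ G hkn (fun r => t r + c r),
        ← ih (k + 1) (by omega) (by omega) t, ← xg_add G]
      have h1 : ChevClosed.pr D F (k + 1) t * xg D F k (c k) = xg D F k (c k) * ChevClosed.pr D F (k + 1) t := by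
        by_cases hkC : (⟨k, hkn⟩ : Fin D.nroots) ∈ C
        · refine hcm _ (xg_mem_XS (r := ⟨k, hkn⟩) hkC (c k)) _ ?_
          have h2 := pr_mem G (F := F) (A := posS D) (k := k + 1) (t := t) (fun r hr hrA => by
            exact absurd (show D.nroots / 2 ≤ (r : ℕ) by omega) hrA)
          rw [← XS_posS G]
          exact XS_mono (fun r hr => hr.1) h2
        · rw [hc k (fun _ h => hkC h), xg_zero G, mul_one, one_mul]
      calc xg D F k (t k) * ChevClosed.pr D F (k + 1) t * (xg D F k (c k) * ChevClosed.pr D F (k + 1) c)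
          = xg D F k (t k) * (ChevClosed.pr D F (k + 1) t * xg D F k (c k)) * ChevClosed.pr D F (k + 1) c := by group
        _ = _ := by rw [h1]; group
  rw [em_pr G, hadd c hc _ _ rfl le_rfl t] at h
  have hc0 : ∀ r, ¬ D.IsPosRoot r → c r = 0 := supp_pos G hcl.pos hc
  have h2 := pr_inj G hD (t := fun r => σ (t r)) (t' := fun r => t r + c r)
    (fun r hr => by rw [ht0 r hr, map_zero]) (fun r hr => by rw [ht0 r hr, hc0 r hr, add_zero]) h
  have h3 : ∀ r, σ (t r) = t r + c r := fun r => congrFun h2 r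
  let inC : ℕ → Prop := fun r => ∃ h : r < D.nroots, (⟨r, h⟩ : Fin D.nroots) ∈ C
  let c1 : ℕ → F := fun r => if inC r then t r else 0
  let t0 : ℕ → F := fun r => if inC r then 0 else t r
  have hc1 : Supp F C c1 := by
    intro r hr
    have : ¬ inC r := fun ⟨h4, h5⟩ => hr h4 h5
    simp only [c1, if_neg this]
  refine ⟨ChevClosed.pr D F (D.nroots / 2) t0, ?_, ?_, ChevClosed.pr D F (D.nroots / 2) c1, pr_mem' G hc1, ?_⟩
  · rw [← XS_posS G]
    apply pr_mem' G
    intro r hr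
    have h4 : t r = 0 := ht0 r (fun hp => by
      obtain ⟨h1, h2⟩ := (G.isPos_iff r).1 hp
      exact hr h2 h1)
    simp only [t0, h4, ite_self]
  · rw [em_pr G]
    congr 1
    funext r
    simp only [t0]
    by_cases hr : inC r
    · rw [if_pos hr, map_zero]
    · rw [if_neg hr]
      have h4 := h3 r
      rw [hc r (fun h5 h6 => hr ⟨h5, h6⟩), add_zero] at h4
      exact h4
  · rw [hadd c1 hc1 _ _ rfl le_rfl t0]
    congr 1
    funext r
    simp only [t0, c1]
    by_cases hr : inC r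
    · rw [if_pos hr, if_pos hr, zero_add]
    · rw [if_neg hr, if_neg hr, add_zero]

theorem split_C (hD : Listed D) (hC : Cen G F C) {u z : GL D.Idx F} (hu : u ∈ D.posUnipotent F) (hz : z ∈ XS D F C)
    (h : em D (σ : F →+* F) u = u * z) : ∃ u0 ∈ D.posUnipotent F, em D (σ : F →+* F) u0 = u0 ∧
      ∃ u1 ∈ XS D F C, u = u0 * u1 :=
  split_W G hD hC.closed (fun z hz u hu => xs_central hC hz hu) hu hz h

/-- `m⁻¹ σ(m)` is central in `U` for `m ∈ M ∩ B` -/
theorem Cx.coc_B (X : Cx G σ M) (hC : Cen G F C)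
    (HC : ∀ s ∈ C, ∀ (t : F) (v : GL D.Idx F), v ∈ M → Lead s t v → σ t = t) {m : GL D.Idx F} (hm : m ∈ M)
    (hB : m ∈ D.borelSubgroup F) : m⁻¹ * em D (σ : F →+* F) m ∈ XS D F C := by
  obtain ⟨u, hu, a, ha, rfl⟩ := mem_borel G hB
  have hBs : em D (σ : F →+* F) (u * a) ∈ D.borelSubgroup F := by
    rw [map_mul]
    exact mul_mem (borel_U G (em_U G _ hu)) (borel_H G (em_H G _ ha))
  refine comm_B X.hD hC (mul_mem (inv_mem hB) hBs) ?_
  intro r hr
  have h1 : (u * a) * xg D F r 1 * (u * a)⁻¹ ∈ M := mul_mem (mul_mem hm (X.one r)) (inv_mem hm)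
  have h2 : (u * a) * xg D F r 1 * (u * a)⁻¹ ∈ D.posUnipotent F := by
    have h3 : (u * a) * xg D F r 1 * (u * a)⁻¹ = u * (a * xg D F r 1 * a⁻¹) * u⁻¹ := by group
    rw [h3]
    refine mul_mem (mul_mem hu ?_) (inv_mem hu)
    rw [← XS_posS G]
    exact diag_conj_XS G ha (xg_mem_XS (A := posS D) hr 1)
  have h3 := X.MU hC HC h1 h2
  rw [map_mul, map_mul, map_inv, em_xg G, map_one] at h3
  have h4 : em D (σ : F →+* F) (u * a) * xg D F r 1 = (u * a) * xg D F r 1 * (u * a)⁻¹ * em D (σ : F →+* F) (u * a) := by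
    rw [← h3]; group
  rw [mul_assoc, h4]; group

/-- elements of `M ∩ B` are fixed -/
theorem Cx.MB (X : Cx G σ M) (hC : Cen G F C)
    (HC : ∀ s ∈ C, ∀ (t : F) (v : GL D.Idx F), v ∈ M → Lead s t v → σ t = t) {m : GL D.Idx F} (hm : m ∈ M)
    (hB : m ∈ D.borelSubgroup F) : em D (σ : F →+* F) m = m := by
  have h1 := X.coc_B hC HC hm hB
  obtain ⟨u, hu, a, ha, rfl⟩ := mem_borel G hB
  -- the torus part
  have hz : a * ((u * a)⁻¹ * em D (σ : F →+* F) (u * a)) * a⁻¹ ∈ XS D F C := diag_conj_XS G ha h1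
  set z := a * ((u * a)⁻¹ * em D (σ : F →+* F) (u * a)) * a⁻¹ with hzdef
  have hzU : z ∈ D.posUnipotent F := by
    rw [← XS_posS G]; exact XS_mono hC.pos hz
  have h2 : (u * z)⁻¹ * em D (σ : F →+* F) u = a * (em D (σ : F →+* F) a)⁻¹ := by
    rw [hzdef, map_mul]; group
  have hσa : em D (σ : F →+* F) a ∈ D.diagonalSubgroup F := em_H G _ ha
  have h3 : a * (em D (σ : F →+* F) a)⁻¹ = 1 := by
    refine inf_UH G X.hD ?_ (mul_mem ha (inv_mem hσa))
    rw [← h2]
    exact mul_mem (inv_mem (mul_mem hu hzU)) (em_U G _ hu)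
  have hfa : em D (σ : F →+* F) a = a := (mul_inv_eq_one.1 h3).symm
  rw [h3, inv_mul_eq_one] at h2
  obtain ⟨u0, hu0, hf0, u1, hu1, rfl⟩ := split_C X.hD hC hu hz h2.symm
  have hu0M := X.fixU hu0 hf0
  have hm1 : u1 * a ∈ M := by
    have : u1 * a = u0⁻¹ * (u0 * u1 * a) := by group
    rw [this]; exact mul_mem (inv_mem hu0M) hm
  -- the element `u1 a`
  have hu1U : u1 ∈ D.posUnipotent F := by rw [← XS_posS G]; exact XS_mono hC.pos hu1
  set z1 := (u1 * a)⁻¹ * em D (σ : F →+* F) (u1 * a) with hz1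
  have hz1C : z1 ∈ XS D F C := X.coc_B hC HC hm1 (mul_mem (borel_U G hu1U) (borel_H G ha))
  suffices hz11 : z1 = 1 by
    have h5 : em D (σ : F →+* F) (u1 * a) = u1 * a := by
      rw [hz1] at hz11
      exact (inv_mul_eq_one.1 hz11).symm
    rw [mul_assoc, map_mul, hf0, h5]
  by_contra hne
  have hz1U : z1 ∈ D.posUnipotent F := by rw [← XS_posS G]; exact XS_mono hC.pos hz1C
  obtain ⟨s, hs, t, ht, hl⟩ := exists_lead G hz1U hne
  have hsC := lead_mem G X.hD hC.closed hs ht hz1C hl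
  obtain ⟨i, hi1, hi2, hi3⟩ := hC.move s hsC
  obtain ⟨y, hy, hyz⟩ := hl
  have hyC : y ∈ XS D F (C \ {s}) := by
    have h5 : y ∈ XS D F C := by
      have : y = (xg D F s t)⁻¹ * z1 := by rw [hyz]; group
      rw [this]
      exact mul_mem (inv_mem (xg_mem_XS hsC t)) hz1C
    have h6 := XS_inf G X.hD hC.closed (closed_Gt G s) h5 hy
    refine XS_mono ?_ h6
    rintro r ⟨h7, h8⟩
    refine ⟨h7, ?_⟩
    rintro rfl
    exact lt_irrefl _ h8.2
  have hn := mono_ng G (F := F) i
  have hnM := X.nn_mem (F := F) i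
  -- the conjugate lies in `M ∩ B`
  have hposC : ∀ r ∈ C, Pos D (refl G i r) := by
    intro r hr
    by_cases h : r = s
    · rw [h]; exact hi1
    · rw [hi3 r hr h]; exact hC.pos r hr
  have hm2M : nn D F i * (u1 * a) * (nn D F i)⁻¹ ∈ M := mul_mem (mul_mem hnM hm1) (inv_mem hnM)
  have hm2B : nn D F i * (u1 * a) * (nn D F i)⁻¹ ∈ D.borelSubgroup F := by
    have h5 : nn D F i * (u1 * a) * (nn D F i)⁻¹ = (nn D F i * u1 * (nn D F i)⁻¹) * (nn D F i * a * (nn D F i)⁻¹) := by
      group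
    rw [h5]
    refine mul_mem (borel_U G ?_) (borel_H G (mono_conj_diag G hn ha))
    rw [← XS_posS G]
    refine XS_mono ?_ (mono_conj_XS G hn hu1)
    rintro _ ⟨r, hr, rfl⟩
    exact hposC r hr
  have h6 := X.coc_B hC HC hm2M hm2B
  have h7 : (nn D F i * (u1 * a) * (nn D F i)⁻¹)⁻¹ * em D (σ : F →+* F) (nn D F i * (u1 * a) * (nn D F i)⁻¹) =
      nn D F i * z1 * (nn D F i)⁻¹ := by
    rw [map_mul, map_mul, map_inv, em_nn G, hz1]; group
  rw [h7, hyz] at h6
  have h8 : nn D F i * (xg D F s t * y) * (nn D F i)⁻¹ =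
      (nn D F i * xg D F s t * (nn D F i)⁻¹) * (nn D F i * y * (nn D F i)⁻¹) := by group
  have h9 : nn D F i * y * (nn D F i)⁻¹ ∈ XS D F C := by
    refine XS_mono ?_ (mono_conj_XS G hn hyC)
    rintro _ ⟨r, ⟨hr1, hr2⟩, rfl⟩
    rw [hi3 r hr1 hr2]; exact hr1
  obtain ⟨-, c, hc0, -, hc2⟩ := hn
  have h10 : nn D F i * xg D F s t * (nn D F i)⁻¹ = xg D F (refl G i s) (c s * t) := hc2 s t
  rw [h8, h10] at h6
  have h11 : xg D F (refl G i s) (c s * t) ∈ XS D F C := (Subgroup.mul_mem_cancel_right _ h9).1 h6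
  exact hi2 (lead_mem G X.hD hC.closed hi1 (mul_ne_zero (hc0 s) ht) h11 ⟨1, one_mem _, by rw [mul_one]⟩)

end

end Cfsg.Agent.Lib.Sfo
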