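import Cfsg.Agent.Lib.SfoMain
set_option autoImplicit false
set_option linter.unusedSectionVars false
set_option linter.unusedVariables false

/-!
Finite overgroups of subfield groups: non-rational elements move the highest root subgroup to an opposite one (helper44).
-/

namespace Cfsg.Agent.Lib.Sfo
open Cfsg.Lie Cfsg.Agent.Lib.ChevX Cfsg.Agent.Lib.ChevGood Cfsg.Agent.Lib.ChevRel Cfsg.Agent.Lib.ChevNPerm
  Cfsg.Agent.Lib.ChevBruhat Cfsg.Agent.Lib.ChevRadCent Cfsg.Agent.Lib.ChevFix Cfsg.Agent.Lib.ChevInv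
open Cfsg.Agent.Lib.ChevClosed hiding pr
open scoped MatrixGroups Matrix

variable {D : ChevalleyDatum} {F : Type*} [Field F]

/-- the complete setting -/
structure Full (G : Good D) (σ : F ≃+* F) (M : Subgroup (GL D.Idx F)) (C : Set (Fin D.nroots)) : Prop where
  cx : Cx G σ M
  cen : Cen G F C
  hc : ∀ s ∈ C, ∀ (t : F) (v : GL D.Idx F), v ∈ M → Lead s t v → σ t = t
  par : Par G
  one : ∃ s : Fin D.nroots, pr D (hi G) s = 1

/-- the roots in the orbit of the highest root -/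
def Orb (G : Good D) (s : Fin D.nroots) : Prop := ∃ l, wl G l (hi G) = s

/-- the relative positions of two long root subgroups -/
structure Pair (G : Good D) : Prop where
  pair : ∀ s, Orb G s → s = hi G ∨ s = negF G (hi G) ∨ D.commTerms (hi G) s = [] ∨
    ∃ (k : Fin D.nroots) (N : ℤ), Orb G k ∧ D.commTerms (hi G) s = [((k : ℕ), N, 1, 1)] ∧ (N = 1 ∨ N = -1) ∧
      k ≠ hi G ∧ k ≠ negF G (hi G) ∧ k ≠ s ∧ k ≠ negF G s ∧ D.commTerms (hi G) k = [] ∧ D.commTerms s k = []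

theorem comm_of_nil (G : Good D) {r s : Fin D.nroots} (h1 : s ≠ r) (h2 : s ≠ negF G r) (h : D.commTerms r s = [])
    (t u : F) : xg D F s u * xg D F r t = xg D F r t * xg D F s u := by
  rw [xg_comm G r.2 s.2 (fun hh => h1 (Fin.ext hh)) (fun hh => h2 (Fin.ext hh)) t u]
  unfold ChevalleyDatum.commWord
  rw [h]
  simp [wg]

section
variable {G : Good D} {σ : F ≃+* F} {M : Subgroup (GL D.Idx F)} {C : Set (Fin D.nroots)} (X : Full G σ M C)
include X

local notation "φσ" => em D (RingEquiv.toRingHom σ)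

/-- elements of `M` stabilizing the highest root subgroup are fixed -/
theorem Full.MP {m : GL D.Idx F} (hm : m ∈ M) (h : SP G m) : em D (σ : F →+* F) m = m := by
  have hD := X.cx.hD
  obtain ⟨hmG, c0, hc0, h0⟩ := h
  obtain ⟨u, hu, n, hn, w, hw, u', hu', rfl, hwhi⟩ := sp_bruhat G hD hmG one_ne_zero (h0 1)
  have hu'U : u' ∈ D.posUnipotent F := by
    rw [← XS_posS G]; exact XS_mono (fun r hr => hr.1) hu'
  have hnQ : ∀ x ∈ XS D F (Qd G), n * x * n⁻¹ ∈ XS D F (Qd G) := by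
    intro x hx
    refine XS_mono ?_ (mono_conj_XS G hw hx)
    rintro _ ⟨r, hr, rfl⟩
    show 0 < pr D (hi G) (w r)
    have h1 := mono_pr G hn hw (hi G) r
    rw [hwhi] at h1
    rw [h1]; exact hr
  have hQU : ∀ x ∈ XS D F (Qd G), x ∈ D.posUnipotent F := by
    intro x hx
    rw [← XS_posS G]; exact XS_mono (fun r hr => pos_of_pr G X.par hr) hx
  set m := u * n * u' with hmdef
  have hmQ : ∀ x ∈ XS D F (Qd G), m * x * m⁻¹ ∈ XS D F (Qd G) := by
    intro x hx
    have h1 : m * x * m⁻¹ = u * (n * (u' * x * u'⁻¹) * n⁻¹) * u⁻¹ := by rw [hmdef]; group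
    rw [h1]
    exact conj_Q G X.par hu (hnQ _ (conj_Q G X.par hu'U hx))
  set z := m⁻¹ * em D (σ : F →+* F) m with hz
  have hzG : z ∈ D.group F := mul_mem (inv_mem hmG) (em_group G _ hmG)
  have hzQ : z ∈ XS D F (Qd G) := by
    refine cent_Q G X.par hD hzG ?_
    intro r hr
    have h1 : m * xg D F r 1 * m⁻¹ ∈ M := mul_mem (mul_mem hm (X.cx.one r)) (inv_mem hm)
    have h2 := X.cx.MU X.cen X.hc h1 (hQU _ (hmQ _ (xg_mem_XS hr 1)))
    rw [map_mul, map_mul, map_inv, em_xg G, map_one] at h2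
    have h4 : em D (σ : F →+* F) m * xg D F r 1 = m * xg D F r 1 * m⁻¹ * em D (σ : F →+* F) m := by
      rw [← h2]; group
    rw [hz, mul_assoc, h4]; group
  -- Bruhat uniqueness
  have hy : n * (u' * z * u'⁻¹) * n⁻¹ ∈ XS D F (Qd G) := hnQ _ (conj_Q G X.par hu'U hzQ)
  have h1 := bruhat_unique G hD (u := em D (σ : F →+* F) u) (n := em D (σ : F →+* F) n) (u' := em D (σ : F →+* F) u')
    (v := u * (n * (u' * z * u'⁻¹) * n⁻¹)) (m := n) (v' := u') (em_U G _ hu) (mul_mem hu (hQU _ hy)) (em_N G _ hn) hn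
    (em_mono G σ hw) hw (em_XS G _ hu') hu' (by
      have h2 : em D (σ : F →+* F) u * em D (σ : F →+* F) n * em D (σ : F →+* F) u' = m * z := by
        rw [hz, hmdef, map_mul, map_mul]; group
      rw [h2, hmdef]; group)
  obtain ⟨-, hfn, hfu'⟩ := h1
  obtain ⟨l, a, ha, hfa, rfl⟩ := fixed_N G (σ : F →+* F) hn hfn
  have hu'M := X.cx.fixU hu'U hfu'
  have hlM := X.cx.nl_mem l
  have ha' : nl D F l * a * (nl D F l)⁻¹ ∈ D.diagonalSubgroup F := nl_conj' G ha
  have h2 : u * (nl D F l * a * (nl D F l)⁻¹) ∈ M := by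
    have : u * (nl D F l * a * (nl D F l)⁻¹) = m * u'⁻¹ * (nl D F l)⁻¹ := by rw [hmdef]; group
    rw [this]
    exact mul_mem (mul_mem hm (inv_mem hu'M)) (inv_mem hlM)
  have h3 := X.cx.MB X.cen X.hc h2 (mul_mem (borel_U G hu) (borel_H G ha'))
  have h4 : m = (u * (nl D F l * a * (nl D F l)⁻¹)) * nl D F l * u' := by rw [hmdef]; group
  rw [h4, map_mul, map_mul, h3, em_nl G, hfu']

/-- the stabilizer coset of a fixed highest root subgroup contains a fixed element of `M` -/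
theorem Full.coset {g : GL D.Idx F} (hg : g ∈ D.group F) (h : SP G (g⁻¹ * em D (σ : F →+* F) g)) :
    ∃ l ∈ M, em D (σ : F →+* F) l = l ∧ SP G (l⁻¹ * g) := by
  have hD := X.cx.hD
  obtain ⟨u, hu, n, hn, w, hw, u', hu', rfl⟩ := exists_bruhat G hD hg
  have hu'U : u' ∈ D.posUnipotent F := by
    rw [← XS_posS G]; exact XS_mono (fun r hr => hr.1) hu'
  obtain ⟨l, a, ha, rfl⟩ := exists_nl G hn
  have hl := mono_nl (F := F) G l
  have hlN := nl_mem (F := F) G l
  set A : Set (Fin D.nroots) := {r | pr D (wl G l (hi G)) r < 0} with hA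
  rw [← XS_posS G] at hu
  obtain ⟨x, hx, y, hy, rfl⟩ := exists_factor' G (closed_posS G) A hu
  -- the roots moved back
  have hback : ∀ r : Fin D.nroots, pr D (hi G) ((wl G l)⁻¹ r) = pr D (wl G l (hi G)) r := by
    intro r
    have h1 := mono_pr G hlN hl (hi G) ((wl G l)⁻¹ r)
    rw [ap_inv] at h1
    exact h1.symm
  have hsy : SP G ((nl D F l)⁻¹ * y * nl D F l) := by
    apply sp_XS G X.par
    have h1 := mono_conj_XS G (mono_inv G hl) hy
    rw [inv_inv] at h1
    refine XS_mono ?_ h1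
    rintro _ ⟨r, ⟨-, hr⟩, rfl⟩
    show 0 ≤ pr D (hi G) ((wl G l)⁻¹ r)
    rw [hback]
    exact not_lt.1 hr
  have hb : SP G ((nl D F l)⁻¹ * y * nl D F l * a * u') := (hsy.mul (sp_H G ha)).mul (sp_U G hu'U)
  have hge : x * y * (nl D F l * a) * u' = x * nl D F l * ((nl D F l)⁻¹ * y * nl D F l * a * u') := by group
  set b := (nl D F l)⁻¹ * y * nl D F l * a * u' with hbdef
  rw [hge] at h hg ⊢
  -- the element of the opposite radical
  have hσb : SP G (em D (σ : F →+* F) b) := by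
    obtain ⟨h1, c, hc, h2⟩ := hb
    refine ⟨em_group G _ h1, σ c, by rwa [Ne, map_eq_zero_iff σ σ.injective], fun t => ?_⟩
    have h3 := congrArg (em D (σ : F →+* F)) (h2 (σ.symm t))
    rw [map_mul, map_mul, map_inv, em_xg G, em_xg G] at h3
    simpa using h3
  have hxA : x ∈ XS D F A := XS_mono Set.inter_subset_right hx
  have hxU : x ∈ D.posUnipotent F := by rw [← XS_posS G]; exact XS_mono Set.inter_subset_left hx
  set y0 := (nl D F l)⁻¹ * (x⁻¹ * em D (σ : F →+* F) x) * nl D F l with hy0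
  have hy0Q : y0 ∈ XS D F {s | pr D (hi G) s < 0} := by
    have h1 := mono_conj_XS G (mono_inv G hl) (mul_mem (inv_mem hxA) (em_XS G (σ : F →+* F) hxA))
    rw [inv_inv] at h1
    refine XS_mono ?_ h1
    rintro _ ⟨r, hr, rfl⟩
    show pr D (hi G) ((wl G l)⁻¹ r) < 0
    rw [hback]
    exact hr
  have hy0S : SP G y0 := by
    have h1 : y0 = b * ((x * nl D F l * b)⁻¹ * em D (σ : F →+* F) (x * nl D F l * b)) * (em D (σ : F →+* F) b)⁻¹ := by
      rw [hy0, map_mul, map_mul, em_nl G]; group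
    rw [h1]
    exact (hb.mul h).mul hσb.inv
  have h1 := sp_opp G X.par hD X.one hy0Q hy0S
  have hfx : em D (σ : F →+* F) x = x := by
    have h2 : x⁻¹ * em D (σ : F →+* F) x = nl D F l * y0 * (nl D F l)⁻¹ := by rw [hy0]; group
    rw [h1, mul_one, mul_inv_cancel, inv_mul_eq_one] at h2
    exact h2.symm
  refine ⟨x * nl D F l, mul_mem (X.cx.fixU hxU hfx) (X.cx.nl_mem l), by rw [map_mul, hfx, em_nl G], ?_⟩
  rw [inv_mul_cancel_left]
  exact hb

theorem Full.rat_conj {g : GL D.Idx F} (hg : g ∈ D.group F) {c : F} (hc : c ≠ 0)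
    (h : em D (σ : F →+* F) (g * xg D F (hi G) c * g⁻¹) = g * xg D F (hi G) c * g⁻¹) :
    ∃ l ∈ M, em D (σ : F →+* F) l = l ∧ SP G (l⁻¹ * g) := by
  apply X.coset hg
  rw [map_mul, map_mul, map_inv, em_xg G] at h
  simp only [RingHom.coe_coe] at h
  refine sp_of_conj G X.cx.hD (mul_mem (inv_mem hg) (em_group G _ hg)) (t := σ c) (t' := c)
    (by rwa [Ne, map_eq_zero_iff σ σ.injective]) ?_
  have h1 : g⁻¹ * em D (σ : F →+* F) g * xg D F (hi G) (σ c) * (g⁻¹ * em D (σ : F →+* F) g)⁻¹ =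
      g⁻¹ * (em D (σ : F →+* F) g * xg D F (hi G) (σ c) * (em D (σ : F →+* F) g)⁻¹) * g := by group
  rw [h1, h]; group

theorem Full.fix_conj {g : GL D.Idx F} (hg : g ∈ M) {c : F} (hc : c ≠ 0)
    (h : em D (σ : F →+* F) (g * xg D F (hi G) c * g⁻¹) = g * xg D F (hi G) c * g⁻¹) : em D (σ : F →+* F) g = g := by
  obtain ⟨l, hl, hfl, hsp⟩ := X.rat_conj (X.cx.le hg) hc h
  have h1 := X.MP (mul_mem (inv_mem hl) hg) hsp
  rw [map_mul, map_inv, hfl] at h1
  exact mul_left_cancel h1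

theorem Full.cent_hi {y : GL D.Idx F} (hy : y ∈ M) {d : F} (hd : d ≠ 0)
    (h : y * xg D F (hi G) d = xg D F (hi G) d * y) : em D (σ : F →+* F) y = y :=
  X.MP hy (sp_of_conj G X.cx.hD (X.cx.le hy) hd (by rw [h, mul_inv_cancel_right]))

/-- non-fixed elements of `M` move the highest root subgroup to an opposite one -/
theorem Full.opp (PR : Pair G) {g : GL D.Idx F} (hg : g ∈ M) (hne : em D (σ : F →+* F) g ≠ g) {u n u' : GL D.Idx F}
    {w : Equiv.Perm (Fin D.nroots)} (hu : u ∈ D.posUnipotent F) (hn : n ∈ D.monomialSubgroup F) (hw : Mono G n w)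
    (hu' : u' ∈ D.posUnipotent F) (hge : g = u * n * u') : w (hi G) = negF G (hi G) := by
  by_contra hcon
  apply hne
  have hD := X.cx.hD
  obtain ⟨l, hl⟩ := perm_eq_wl G hn hw
  have horb : Orb G (w (hi G)) := ⟨l, by rw [hl]⟩
  have hw' := hw
  obtain ⟨-, c, hc0, -, hc2⟩ := hw
  have hv := conj_hi G hc2 hu' (u := u) 1
  rw [← hge, mul_one] at hv
  obtain ⟨v, hvdef⟩ : ∃ v, v = g * xg D F (hi G) 1 * g⁻¹ := ⟨_, rfl⟩
  rw [← hvdef] at hv
  have hvM : v ∈ M := by rw [hvdef]; exact mul_mem (mul_mem hg (X.cx.one _)) (inv_mem hg)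
  have hfin : em D (σ : F →+* F) v = v → em D (σ : F →+* F) g = g := fun h => X.fix_conj hg one_ne_zero (by
    rw [← hvdef]; exact h)
  have hx1 : xg D F (hi G) 1 = u * xg D F (hi G) 1 * u⁻¹ := (hi_comm G hu 1).symm
  rcases PR.pair _ horb with h | h | h | ⟨k, N, hk, h, hN, hk1, hk2, hk3, hk4, hk5, hk6⟩
  · refine X.MP hg ?_
    rw [hge] at hg ⊢
    exact sp_of_bruhat G (X.cx.le hg) hu hw' hu' h
  · exact absurd h hcon
  · -- the commuting case
    by_cases hs : w (hi G) = hi G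
    · refine X.MP hg ?_
      rw [hge] at hg ⊢
      exact sp_of_bruhat G (X.cx.le hg) hu hw' hu' hs
    have h1 := comm_of_nil G (F := F) hs hcon h 1 (c (hi G))
    refine hfin (X.cent_hi hvM one_ne_zero ?_)
    rw [hv]
    conv_lhs => rw [hx1]
    conv_rhs => rw [hx1]
    calc u * xg D F (w (hi G)) (c (hi G)) * u⁻¹ * (u * xg D F (hi G) 1 * u⁻¹)
        = u * (xg D F (w (hi G)) (c (hi G)) * xg D F (hi G) 1) * u⁻¹ := by group
      _ = _ := by rw [h1]; group
  · by_cases hs : w (hi G) = hi G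
    · refine X.MP hg ?_
      rw [hge] at hg ⊢
      exact sp_of_bruhat G (X.cx.le hg) hu hw' hu' hs
    set s := w (hi G) with hsdef
    have h1 := comm_of_nil G (F := F) hk1 hk2 hk5
    have h2 := comm_of_nil G (F := F) hk3 hk4 hk6
    -- the commutator
    have h3 : xg D F (hi G) 1 * xg D F s (c (hi G)) * (xg D F (hi G) 1)⁻¹ * (xg D F s (c (hi G)))⁻¹ =
        xg D F k ((N : F) * c (hi G)) := by
      have h4 := xg_comm G (hi G).2 s.2 (fun hh => hs (Fin.ext hh)) (fun hh => hcon (Fin.ext hh)) (-1) (c (hi G))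
      have h5 : D.commWord F (hi G) s (-1) (c (hi G)) = [((k : ℕ), (N : F) * c (hi G))] := by
        unfold ChevalleyDatum.commWord
        rw [h]
        simp
      rw [h5] at h4
      have h6 : wg D F [((k : ℕ), (N : F) * c (hi G))] = xg D F k ((N : F) * c (hi G)) := by simp [wg]
      rw [h6, xg_neg G] at h4
      have h7 := h2 (c (hi G)) ((N : F) * c (hi G))
      calc xg D F (hi G) 1 * xg D F s (c (hi G)) * (xg D F (hi G) 1)⁻¹ * (xg D F s (c (hi G)))⁻¹
          = xg D F (hi G) 1 * (xg D F s (c (hi G)) * (xg D F (hi G) 1)⁻¹) * (xg D F s (c (hi G)))⁻¹ := by group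
        _ = (xg D F s (c (hi G)) * xg D F k ((N : F) * c (hi G))) * (xg D F s (c (hi G)))⁻¹ := by rw [h4]; group
        _ = _ := by rw [← h7]; group
    obtain ⟨d, hd⟩ : ∃ d, d = (N : F) * c (hi G) := ⟨_, rfl⟩
    rw [← hd] at h3
    have hd0 : d ≠ 0 := by
      rw [hd]
      apply mul_ne_zero _ (hc0 _)
      rcases hN with h | h <;> rw [h] <;> simp
    set z := xg D F (hi G) 1 * v * (xg D F (hi G) 1)⁻¹ * v⁻¹ with hz
    have hzM : z ∈ M := mul_mem (mul_mem (mul_mem (X.cx.one _) hvM) (inv_mem (X.cx.one _))) (inv_mem hvM)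
    have hze : z = u * xg D F k d * u⁻¹ := by
      rw [hz, hv, ← h3]
      conv_lhs => rw [hx1]
      group
    have hzfix : em D (σ : F →+* F) z = z := by
      refine X.cent_hi hzM one_ne_zero ?_
      rw [hze]
      conv_lhs => rw [hx1]
      conv_rhs => rw [hx1]
      calc u * xg D F k d * u⁻¹ * (u * xg D F (hi G) 1 * u⁻¹) = u * (xg D F k d * xg D F (hi G) 1) * u⁻¹ := by group
        _ = _ := by rw [h1 1 d]; group
    obtain ⟨l'', hl''⟩ := hk
    obtain ⟨-, c'', hc0'', -, hc2''⟩ := mono_nl (F := F) G l''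
    have hzc : z = (u * nl D F l'') * xg D F (hi G) ((c'' (hi G))⁻¹ * d) * (u * nl D F l'')⁻¹ := by
      have h4 := hc2'' (hi G) ((c'' (hi G))⁻¹ * d)
      rw [hl'', ← mul_assoc, mul_inv_cancel₀ (hc0'' _), one_mul] at h4
      rw [hze, ← h4]; group
    have he0 : (c'' (hi G))⁻¹ * d ≠ 0 := mul_ne_zero (inv_ne_zero (hc0'' _)) hd0
    have hunG : u * nl D F l'' ∈ D.group F := mul_mem (U_le_G G hu) (N_le_G G hD (nl_mem G l''))
    obtain ⟨l0, hl0, hfl0, hsp⟩ := X.rat_conj hunG he0 (by rw [← hzc]; exact hzfix)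
    obtain ⟨-, c3, hc3, h5⟩ := hsp
    have h6 : z = l0 * xg D F (hi G) (c3 * ((c'' (hi G))⁻¹ * d)) * l0⁻¹ := by
      rw [← h5, hzc]; group
    have hvz : v * z = z * v := by
      rw [hze, hv]
      calc u * xg D F s (c (hi G)) * u⁻¹ * (u * xg D F k d * u⁻¹) = u * (xg D F s (c (hi G)) * xg D F k d) * u⁻¹ := by group
        _ = _ := by rw [← h2 (c (hi G)) d]; group
    have h7 := X.cent_hi (y := l0⁻¹ * v * l0) (mul_mem (mul_mem (inv_mem hl0) hvM) hl0)
      (d := c3 * ((c'' (hi G))⁻¹ * d)) (mul_ne_zero hc3 he0) (by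
        have h8 : xg D F (hi G) (c3 * ((c'' (hi G))⁻¹ * d)) = l0⁻¹ * z * l0 := by rw [h6]; group
        rw [h8]
        calc l0⁻¹ * v * l0 * (l0⁻¹ * z * l0) = l0⁻¹ * (v * z) * l0 := by group
          _ = _ := by rw [hvz]; group)
    rw [map_mul, map_mul, map_inv, hfl0] at h7
    refine hfin ?_
    exact mul_left_cancel (mul_right_cancel h7)

/-- centralizers of non-trivial elements of `Q` -/
theorem Full.cent_Q (PR : Pair G) {t m : GL D.Idx F} (ht : t ∈ XS D F (Qd G)) (ht1 : t ≠ 1) (hm : m ∈ M)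
    (h : m * t = t * m) : em D (σ : F →+* F) m = m := by
  by_contra hne
  apply ht1
  obtain ⟨u, hu, n, hn, w, hw, u', hu', hme⟩ := exists_bruhat G X.cx.hD (X.cx.le hm)
  have hu'U : u' ∈ D.posUnipotent F := by
    rw [← XS_posS G]; exact XS_mono (fun r hr => hr.1) hu'
  have h1 := X.opp PR hm hne hu hn hw hu'U hme
  have h2 : n * (u' * t * u'⁻¹) * n⁻¹ = u⁻¹ * t * u := by
    have h3 : m * t * m⁻¹ = t := by rw [h, mul_inv_cancel_right]
    rw [hme] at h3
    calc n * (u' * t * u'⁻¹) * n⁻¹ = u⁻¹ * (u * n * u' * t * (u * n * u')⁻¹) * u := by group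
      _ = _ := by rw [h3]
  have h4 : u⁻¹ * t * u = 1 := by
    refine inf_BV G X.cx.hD (borel_U G ?_) ?_
    · have h5 : t ∈ D.posUnipotent F := by
        rw [← XS_posS G]; exact XS_mono (fun r hr => pos_of_pr G X.par hr) ht
      exact mul_mem (mul_mem (inv_mem hu) h5) hu
    · rw [← h2, ← XS_negS G]
      refine XS_mono ?_ (mono_conj_XS G hw (conj_Q G X.par hu'U ht))
      rintro _ ⟨r, hr, rfl⟩
      show ¬ Pos D (w r)
      intro hp
      have h5 := X.par.dom _ hp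
      have h6 := mono_pr G hn hw (hi G) r
      rw [h1, show ((negF G (hi G) : Fin D.nroots) : ℕ) = D.neg (hi G) from rfl, pr_neg_left G (hi G).2] at h6
      have h7 : 0 < pr D (hi G) r := hr
      omega
  calc t = u * (u⁻¹ * t * u) * u⁻¹ := by group
    _ = 1 := by rw [h4]; group

end

end Cfsg.Agent.Lib.Sfo
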