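import Cfsg.Agent.Lib.ChevInvJ
import Cfsg.Agent.Lib.ChevOkB2
import Cfsg.Agent.Lib.ChevOkD4
set_option autoImplicit false
set_option linter.unusedSectionVars false
set_option linter.unusedVariables false

/-!
Involutions of the groups of type B₂ and D₄ in characteristic two (helper44).
-/

namespace Cfsg.Agent.Lib.Sfo
open Cfsg.Lie Cfsg.Agent.Lib.ChevX Cfsg.Agent.Lib.ChevGood Cfsg.Agent.Lib.ChevRel Cfsg.Agent.Lib.ChevInv

def tabB2 : List Ent := [
  ⟨[6], false, List.range 8, [], [6], []⟩,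
  ⟨[7], false, List.range 8, [], [7], []⟩,
  ⟨[6, 5], false, List.range 8, [], [6, 5], []⟩,
  ⟨[7, 4], false, List.range 8, [], [6, 5], [(true, 2), (true, 3)]⟩]

theorem tabB2_ok : tableB chevB2 tabB2 [[6], [7], [6, 5]] = true := by decide +kernel

theorem ocB2 (F : Type*) [Field F] [CharP F 2] : OC chevB2 F :=
  oc_of_check ChevOkB2.good F (by decide +kernel)

theorem ceB2_7 : CE chevB2 [7] [] := ce_of_ceB (by decide +kernel)
theorem ceB2_76 : CE chevB2 [7, 6] [] := ce_of_ceB (by decide +kernel)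

def tabD4 : List Ent := [
  ⟨[23], false, List.range 24, [], [23], []⟩,
  ⟨[23, 12], false, List.range 24, [], [23, 12], []⟩,
  ⟨[23, 13], false, List.range 24, [], [23, 13], []⟩,
  ⟨[23, 18], false, List.range 24, [], [23, 18], []⟩,
  ⟨[23, 12, 13], false, List.range 24, [], [23, 12, 13], []⟩,
  ⟨[23, 13, 12], false, List.range 24, [], [23, 12, 13], []⟩,
  ⟨[23, 12, 18], false, List.range 24, [], [23, 12, 13], [(true, 4), (true, 16), (true, 7), (true, 19)]⟩,
  ⟨[23, 18, 12], false, List.range 24, [], [23, 12, 13], [(true, 4), (true, 16), (true, 7), (true, 19)]⟩,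
  ⟨[23, 13, 18], false, List.range 24, [], [23, 12, 13], [(true, 4), (true, 15), (true, 8), (true, 19)]⟩,
  ⟨[23, 18, 13], false, List.range 24, [], [23, 12, 13], [(true, 4), (true, 15), (true, 8), (true, 19)]⟩,
  ⟨[23, 12, 13, 18], false, List.range 24, [], [23, 12, 13], [(true, 7), (true, 8), (true, 9), (true, 19)]⟩,
  ⟨[23, 12, 18, 13], false, List.range 24, [], [23, 12, 13], [(true, 7), (true, 8), (true, 9), (true, 19)]⟩,
  ⟨[23, 13, 12, 18], false, List.range 24, [], [23, 12, 13], [(true, 7), (true, 8), (true, 9), (true, 19)]⟩,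
  ⟨[23, 13, 18, 12], false, List.range 24, [], [23, 12, 13], [(true, 7), (true, 8), (true, 9), (true, 19)]⟩,
  ⟨[23, 18, 12, 13], false, List.range 24, [], [23, 12, 13], [(true, 7), (true, 8), (true, 9), (true, 19)]⟩,
  ⟨[23, 18, 13, 12], false, List.range 24, [], [23, 12, 13], [(true, 7), (true, 8), (true, 9), (true, 19)]⟩]

theorem tabD4_ok : tableB chevD4 tabD4 [[23], [23, 12], [23, 13], [23, 18], [23, 12, 13]] = true := by decide +kernel

theorem ocD4 (F : Type*) [Field F] [CharP F 2] : OC chevD4 F :=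
  oc_of_check ChevOkD4.good F (by decide +kernel)

theorem ceD4_23 : CE chevD4 [23] [] := ce_of_ceB (by decide +kernel)
theorem ceD4_2 : CE chevD4 [17, 20] [22, 23] := ce_of_ceB (by decide +kernel)

section
variable (F : Type*) [Field F] [CharP F 2]

theorem ncB2 : ∀ g ∈ chevB2.group F, ¬ (g * p1 chevB2 F [7, 6] * g⁻¹ = p1 chevB2 F [7]) := fun g hg h =>
  nonconj_card ChevOkB2.good ceB2_76 ceB2_7 (x := 7) (by decide) (a := 7) (b := 6) (by decide) (by decide) (by decide) hg h

theorem ncD4 : ∀ g ∈ chevD4.group F, ¬ (g * p1 chevD4 F [17, 20] * g⁻¹ = p1 chevD4 F [23]) := fun g hg h =>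
  nonconj ChevOkD4.good ceD4_2 ceD4_23 (by decide +kernel) (by decide +kernel) hg h

end

end Cfsg.Agent.Lib.Sfo
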