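import Cfsg.Agent.Lib.ChevRadCent
import Cfsg.Agent.Lib.ChevSub
import Cfsg.Agent.Lib.ChevInvC
set_option autoImplicit false
set_option linter.unusedSectionVars false
set_option linter.unusedVariables false

/-!
Leading terms in the unipotent group `U` of a Chevalley group (helper44; finite overgroups of subfield groups).
-/

namespace Cfsg.Agent.Lib.Sfo
open Cfsg.Lie Cfsg.Agent.Lib.ChevX Cfsg.Agent.Lib.ChevGood Cfsg.Agent.Lib.ChevRel Cfsg.Agent.Lib.ChevNPerm
  Cfsg.Agent.Lib.ChevBruhat Cfsg.Agent.Lib.ChevRadCent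
open Cfsg.Agent.Lib.ChevClosed hiding pr
open scoped MatrixGroups Matrix

variable {D : ChevalleyDatum} {F : Type*} [Field F]

theorem commTerms_cons {r s k : ℕ} {M : ℤ} {tl : List (ℕ × ℤ)} (h : D.chainEntry r s = (k, M) :: tl) :
    ∃ L, D.commTerms r s = (k, M, 1, 1) :: L ∧ ∀ c ∈ L, 3 ≤ c.2.2.1 + c.2.2.2 := by
  have h1 : D.chainRoot r s 1 = some k := by
    unfold ChevalleyDatum.chainRoot; rw [h]; rfl
  have h2 : D.chainM r s 1 = M := by
    unfold ChevalleyDatum.chainM; rw [h]; rfl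
  unfold ChevalleyDatum.commTerms
  simp only [h1, h2]
  rw [List.filterMap_cons]
  simp only [Option.map_some]
  refine ⟨_, rfl, ?_⟩
  intro c hc
  rw [List.mem_filterMap] at hc
  obtain ⟨a, ha, hac⟩ := hc
  rw [Option.map_eq_some_iff] at hac
  obtain ⟨b, -, rfl⟩ := hac
  simp only [List.mem_cons, List.not_mem_nil, or_false] at ha
  rcases ha with rfl | rfl | rfl | rfl | rfl | rfl <;> norm_num

section
variable (G : Good D)
include G

theorem U_le (r : Fin D.nroots) : XS D F (Gt r) ≤ D.posUnipotent F := by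
  rw [← XS_posS G]
  exact XS_mono fun s hs => hs.1

theorem xU {r : Fin D.nroots} (hr : Pos D r) (t : F) : xg D F r t ∈ D.posUnipotent F := by
  rw [← XS_posS G]
  exact xg_mem_XS (A := posS D) hr t

theorem ordF_pos {r : Fin D.nroots} (hr : Pos D r) : 0 < G.ord r := ChevClosed.ord_pos G hr

theorem ord_commTerms {r s : Fin D.nroots} (hr : Pos D r) (hs : Pos D s) (hrs : s ≠ r)
    {c : ℕ × ℤ × ℕ × ℕ} (hc : c ∈ D.commTerms r s) :
    c.1 < D.nroots ∧ 1 ≤ c.2.2.1 ∧ 1 ≤ c.2.2.2 ∧ G.ord c.1 = c.2.2.1 * G.ord r + c.2.2.2 * G.ord s := by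
  have hneg : (s : ℕ) ≠ D.neg r := fun h => ne_negF G hr hs (Fin.ext h)
  obtain ⟨hlt, hi, hj, hrv⟩ := commTerms_root G r.2 s.2 (fun hh => hrs (Fin.ext hh)) hneg hc
  refine ⟨hlt, hi, hj, ?_⟩
  rw [G.ord_eq _ hlt, G.ord_eq _ r.2, G.ord_eq _ s.2, Finset.mul_sum, Finset.mul_sum, ← Finset.sum_add_distrib]
  exact Finset.sum_congr rfl fun j _ => by rw [hrv j]; ring

theorem ord_add {r s k : Fin D.nroots} (hk : ∀ j, G.rv k j = G.rv r j + G.rv s j) :
    G.ord k = G.ord r + G.ord s := by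
  rw [G.ord_eq _ k.2, G.ord_eq _ r.2, G.ord_eq _ s.2, ← Finset.sum_add_distrib]
  exact Finset.sum_congr rfl fun j _ => by rw [hk j]; ring

/-- moving `x_r` past the group after `s` -/
theorem comm_XS {r s k : Fin D.nroots} (hr : Pos D r) (hs : Pos D s) (hk : ∀ j, G.rv k j = G.rv r j + G.rv s j)
    (u : F) {y : GL D.Idx F} (hy : y ∈ XS D F (Gt s)) :
    xg D F r u * y * (xg D F r u)⁻¹ * y⁻¹ ∈ XS D F (Gt k) := by
  have hn : ∀ v ∈ D.posUnipotent F, ∀ z ∈ XS D F (Gt k), v * z * v⁻¹ ∈ XS D F (Gt k) := fun v hv => norm_Gt' G hv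
  unfold XS at hy
  induction hy using Subgroup.closure_induction with
  | mem x hx =>
    obtain ⟨s', ⟨hs'1, hs'2⟩, c, rfl⟩ := hx
    by_cases h : s' = r
    · subst h
      have : xg D F s' u * xg D F s' c * (xg D F s' u)⁻¹ * (xg D F s' c)⁻¹ = 1 := by
        rw [← xg_neg G, ← xg_neg G, xg_add G, xg_add G, xg_add G]
        have : u + c + -u + -c = 0 := by ring
        rw [this, xg_zero G]
      rw [this]; exact one_mem _
    · have hneg := ne_negF G hr hs'1
      have h4 := xg_comm G r.2 s'.2 (fun hh => h (Fin.ext hh)) (fun hh => hneg (Fin.ext hh)) (-u) c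
      rw [xg_neg G] at h4
      have h5 : xg D F r u * xg D F s' c * (xg D F r u)⁻¹ = xg D F s' c * wg D F (D.commWord F r s' (-u) c) := by
        have : xg D F s' c * (xg D F r u)⁻¹ = (xg D F r u)⁻¹ * (xg D F s' c * wg D F (D.commWord F r s' (-u) c)) := by
          rw [h4, mul_assoc]
        rw [mul_assoc, this]; group
      rw [h5]
      refine hn _ (xU G hs'1 c) _ ?_
      apply wg_commWord_mem G h hneg
      intro a ha _ l hl
      obtain ⟨h6, h7, h8, h9⟩ := ord_commTerms G hr hs'1 h ha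
      refine ⟨?_, ?_⟩
      · have := commTerms_gt G hr hs'1 h ha
        unfold Pos; omega
      · rw [Fin.lt_def, G.ord_mono _ k.2 _ l.2, hl, h9, ord_add G hk]
        have h10 := ordF_pos G hr
        have h11 := ordF_pos G hs'1
        have h12 : G.ord s < G.ord s' := (G.ord_mono _ s.2 _ s'.2).1 hs'2
        have h13 : (1 : ℤ) ≤ a.2.2.1 := by exact_mod_cast h7
        have h14 : (1 : ℤ) ≤ a.2.2.2 := by exact_mod_cast h8
        nlinarith
  | one => simp
  | mul x y hx' hy' hx hy =>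
    have hxU : x ∈ D.posUnipotent F := U_le G s hx'
    have : xg D F r u * (x * y) * (xg D F r u)⁻¹ * (x * y)⁻¹ =
        (xg D F r u * x * (xg D F r u)⁻¹ * x⁻¹) * (x * (xg D F r u * y * (xg D F r u)⁻¹ * y⁻¹) * x⁻¹) := by group
    rw [this]
    exact mul_mem hx (hn _ hxU _ hy)
  | inv x hx' hx =>
    have hxU : x ∈ D.posUnipotent F := U_le G s hx'
    have : xg D F r u * x⁻¹ * (xg D F r u)⁻¹ * x⁻¹⁻¹ =
        x⁻¹ * (xg D F r u * x * (xg D F r u)⁻¹ * x⁻¹)⁻¹ * x⁻¹⁻¹ := by group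
    rw [this]
    exact hn _ (inv_mem hxU) _ (inv_mem hx)

/-- the leading term of `v` is `x_s(t)` -/
def Lead (s : Fin D.nroots) (t : F) (v : GL D.Idx F) : Prop := ∃ y ∈ XS D F (Gt s), v = xg D F s t * y

theorem Lead.U {s : Fin D.nroots} {t : F} {v : GL D.Idx F} (hs : Pos D s) (h : Lead s t v) : v ∈ D.posUnipotent F := by
  obtain ⟨y, hy, rfl⟩ := h
  exact mul_mem (xU G hs t) (U_le G s hy)

omit G in
theorem lead_of_mul {s : Fin D.nroots} {t : F} {v y : GL D.Idx F} (h : Lead s t v) (hy : y ∈ XS D F (Gt s)) :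
    Lead s t (v * y) := by
  obtain ⟨z, hz, rfl⟩ := h
  exact ⟨z * y, mul_mem hz hy, by rw [mul_assoc]⟩

theorem lead_conj {s : Fin D.nroots} (hs : Pos D s) {t : F} {v u : GL D.Idx F} (h : Lead s t v)
    (hu : u ∈ D.posUnipotent F) : Lead s t (u * v * u⁻¹) := by
  obtain ⟨y, hy, rfl⟩ := h
  have h1 := comm_Gt G hs t hu
  have h2 := norm_Gt' G hu y hy
  have h3 : u * (xg D F s t * y) * u⁻¹ = xg D F s t * ((xg D F s t)⁻¹ * (u * xg D F s t * u⁻¹ * (xg D F s t)⁻¹) *
      (xg D F s t)⁻¹⁻¹ * (u * y * u⁻¹)) := by group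
  rw [h3]
  exact ⟨_, mul_mem (norm_Gt' G (inv_mem (xU G hs t)) _ h1) h2, rfl⟩

theorem lead_mul_left {s : Fin D.nroots} (hs : Pos D s) {t : F} {v y : GL D.Idx F} (h : Lead s t v)
    (hy : y ∈ XS D F (Gt s)) : Lead s t (y * v) := by
  have h1 : y * v = v * (v⁻¹ * y * v⁻¹⁻¹) := by group
  rw [h1]
  exact lead_of_mul h (norm_Gt' G (inv_mem (h.U G hs)) _ hy)

theorem lead_unique (hD : Listed D) {s : Fin D.nroots} (hs : Pos D s) {t t' : F} {v : GL D.Idx F} (h : Lead s t v)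
    (h' : Lead s t' v) : t = t' := by
  obtain ⟨y, hy, rfl⟩ := h
  obtain ⟨y', hy', h'⟩ := h'
  have h1 : xg D F s (t - t') ∈ XS D F (Gt s) := by
    have h2 : xg D F s (t - t') = xg D F s (t - t') * 1 := by rw [mul_one]
    have h3 : xg D F s (t - t') = (xg D F s t')⁻¹ * (xg D F s t' * y') * y⁻¹ := by
      rw [← h', sub_eq_add_neg, add_comm, ← xg_add G, xg_neg G]; group
    rw [h3, inv_mul_cancel_left]
    exact mul_mem hy' (inv_mem hy)
  exact sub_eq_zero.1 (single_inf G hD hs h1)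

theorem lead_ne_one (hD : Listed D) {s : Fin D.nroots} (hs : Pos D s) {t : F} (ht : t ≠ 0) {v : GL D.Idx F}
    (h : Lead s t v) : v ≠ 1 := by
  rintro rfl
  exact ht (lead_unique G hD hs h ⟨1, one_mem _, by rw [xg_zero G, mul_one]⟩)

/-- the leading term of a commutator -/
theorem comm_xg_lead {r s k : Fin D.nroots} (hr : Pos D r) (hs : Pos D s) {M : ℤ} {tl : List (ℕ × ℤ)}
    (h : D.chainEntry r s = ((k : ℕ), M) :: tl) (u c : F) :
    Lead k ((M : F) * u * c) (xg D F r u * xg D F s c * (xg D F r u)⁻¹ * (xg D F s c)⁻¹) ∧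
      (∀ j, G.rv k j = G.rv r j + G.rv s j) ∧ Pos D k ∧ r ≠ s := by
  have hne := G.chain_ne r s r.2 (by rw [h]; simp)
  have hne1 : s ≠ r := fun hh => hne.2.1 (by rw [hh])
  have hneg : s ≠ negF G r := ne_negF G hr hs
  have hroot := (G.chain_root r s r.2 s.2 0 k M (by rw [h]; rfl)).2.2.2
  have hk : ∀ j, G.rv k j = G.rv r j + G.rv s j := by intro j; rw [hroot j]; push_cast; ring
  have hPk : Pos D k := by
    rw [pos_iff G]
    intro j
    rw [hk j]
    exact add_nonneg (rv_nonneg_of_pos G hr j) (rv_nonneg_of_pos G hs j)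
  refine ⟨?_, hk, hPk, fun hh => hne1 hh.symm⟩
  obtain ⟨L, hL, hL3⟩ := commTerms_cons h
  have h4 := xg_comm G r.2 s.2 (fun hh => hne1 (Fin.ext hh)) (fun hh => hneg (Fin.ext hh)) (-u) c
  rw [xg_neg G] at h4
  have h5 : xg D F r u * xg D F s c * (xg D F r u)⁻¹ = xg D F s c * wg D F (D.commWord F r s (-u) c) := by
    have : xg D F s c * (xg D F r u)⁻¹ = (xg D F r u)⁻¹ * (xg D F s c * wg D F (D.commWord F r s (-u) c)) := by
      rw [h4, mul_assoc]
    rw [mul_assoc, this]; group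
  rw [h5]
  refine lead_conj G hPk ?_ (xU G hs c)
  unfold ChevalleyDatum.commWord
  rw [hL, List.map_cons]
  have hwc : ∀ (a : ℕ × F) (w : List (ℕ × F)), wg D F (a :: w) = xg D F a.1 a.2 * wg D F w := fun a w => by simp [wg]
  rw [hwc]
  refine ⟨wg D F (L.map fun c' => (c'.1, (c'.2.1 : F) * (- -u) ^ c'.2.2.1 * c ^ c'.2.2.2)), ?_, ?_⟩
  · unfold wg
    apply Subgroup.list_prod_mem
    intro x hx
    rw [List.map_map] at hx
    obtain ⟨a, ha, rfl⟩ := List.mem_map.mp hx
    simp only [Function.comp]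
    have ha' : a ∈ D.commTerms r s := by rw [hL]; exact List.mem_cons_of_mem _ ha
    obtain ⟨h6, h7, h8, h9⟩ := ord_commTerms G hr hs hne1 ha'
    refine xg_mem_XS (r := ⟨a.1, h6⟩) (A := Gt k) ⟨?_, ?_⟩ _
    · have := commTerms_gt G hr hs hne1 ha'
      unfold Pos; exact this.2.2.2
    · rw [Fin.lt_def, G.ord_mono _ k.2 _ h6, h9, ord_add G hk]
      have h10 := ordF_pos G hr
      have h11 := ordF_pos G hs
      have h12 := hL3 a ha
      have h13 : (1 : ℤ) ≤ a.2.2.1 := by exact_mod_cast h7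
      have h14 : (1 : ℤ) ≤ a.2.2.2 := by exact_mod_cast h8
      have h15 : (3 : ℤ) ≤ a.2.2.1 + a.2.2.2 := by exact_mod_cast h12
      nlinarith
  · congr 2
    simp

theorem lead_comm {r s k : Fin D.nroots} (hr : Pos D r) (hs : Pos D s) {M : ℤ} {tl : List (ℕ × ℤ)}
    (h : D.chainEntry r s = ((k : ℕ), M) :: tl) (u : F) {c : F} {v : GL D.Idx F} (hv : Lead s c v) :
    Lead k ((M : F) * u * c) (xg D F r u * v * (xg D F r u)⁻¹ * v⁻¹) := by
  obtain ⟨h1, hk, hPk, hne⟩ := comm_xg_lead G hr hs h u c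
  obtain ⟨y, hy, rfl⟩ := hv
  have h2 := comm_XS G hr hs hk u hy
  have h3 : xg D F r u * (xg D F s c * y) * (xg D F r u)⁻¹ * (xg D F s c * y)⁻¹ =
      (xg D F r u * xg D F s c * (xg D F r u)⁻¹ * (xg D F s c)⁻¹) *
        (xg D F s c * (xg D F r u * y * (xg D F r u)⁻¹ * y⁻¹) * (xg D F s c)⁻¹) := by group
  rw [h3]
  exact lead_of_mul h1 (norm_Gt' G (xU G hs c) _ h2)

/-! ### normal forms -/

theorem exists_pr_U {v : GL D.Idx F} (hv : v ∈ D.posUnipotent F) :
    ∃ t : ℕ → F, (∀ r, ¬ D.IsPosRoot r → t r = 0) ∧ v = ChevClosed.pr D F (D.nroots / 2) t := by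
  rw [← XS_posS G] at hv
  obtain ⟨t, ht, rfl⟩ := exists_pr' G (closed_posS G) hv
  exact ⟨t, supp_pos G (fun r hr => hr) ht, rfl⟩

theorem lead_pr {k : ℕ} (hk : k < D.nroots) (hp : D.nroots / 2 ≤ k) (t : ℕ → F) :
    Lead (⟨k, hk⟩ : Fin D.nroots) (t k) (ChevClosed.pr D F k t) := by
  rw [ChevClosed.pr_succ G hk]
  refine ⟨ChevClosed.pr D F (k + 1) t, ?_, rfl⟩
  have h1 := pr_mem G (F := F) (A := posS D) (k := k + 1) (t := t) (fun r hr hrA => by
    exact absurd (show D.nroots / 2 ≤ (r : ℕ) by omega) hrA)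
  refine XS_mono ?_ h1
  rintro r ⟨h2, h3⟩
  exact ⟨h2, by rw [Fin.lt_def]; exact h3⟩

/-- leading term of a non-trivial element -/
theorem exists_lead {v : GL D.Idx F} (hv : v ∈ D.posUnipotent F) (hne : v ≠ 1) :
    ∃ s : Fin D.nroots, Pos D s ∧ ∃ t : F, t ≠ 0 ∧ Lead s t v := by
  obtain ⟨t, -, rfl⟩ := exists_pr_U G hv
  have key : ∀ m k : ℕ, D.nroots - k = m → D.nroots / 2 ≤ k → ChevClosed.pr D F k t ≠ 1 →
      ∃ s : Fin D.nroots, Pos D s ∧ ∃ c : F, c ≠ 0 ∧ Lead s c (ChevClosed.pr D F k t) := by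
    intro m
    induction m with
    | zero =>
      intro k hk _ h
      exact absurd (ChevClosed.pr_out G (by omega) t) h
    | succ m ih =>
      intro k hk hp h
      have hkn : k < D.nroots := by omega
      by_cases h0 : t k = 0
      · have h1 : ChevClosed.pr D F k t = ChevClosed.pr D F (k + 1) t := by
          rw [ChevClosed.pr_succ G hkn, h0, xg_zero G, one_mul]
        rw [h1] at h ⊢
        exact ih (k + 1) (by omega) (by omega) h
      · exact ⟨⟨k, hkn⟩, hp, t k, h0, lead_pr G hkn hp t⟩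
  exact key _ _ rfl le_rfl hne

/-- the leading term of an element of `XS A` lies in `A` -/
theorem lead_mem (hD : Listed D) {A : Set (Fin D.nroots)} (hA : Closed F A) {s : Fin D.nroots} (hs : Pos D s) {t : F}
    (ht : t ≠ 0) {v : GL D.Idx F} (hv : v ∈ XS D F A) (h : Lead s t v) : s ∈ A := by
  by_contra hsA
  obtain ⟨c, hc, rfl⟩ := exists_pr' G hA hv
  -- split off the first coordinate
  have hzero : ∀ k ≤ (s : ℕ), D.nroots / 2 ≤ k → ChevClosed.pr D F (D.nroots / 2) c = ChevClosed.pr D F k c ∨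
      ∃ s' : Fin D.nroots, Pos D s' ∧ s' < s ∧ ∃ e : F, e ≠ 0 ∧ Lead s' e (ChevClosed.pr D F (D.nroots / 2) c) := by
    intro k
    induction k with
    | zero =>
      intro _ h2
      left
      have : D.nroots / 2 = 0 := by omega
      rw [this]
    | succ k ih =>
      intro h1 h2
      rcases Nat.lt_or_ge k (D.nroots / 2) with h3 | h3
      · left
        have : D.nroots / 2 = k + 1 := by omega
        rw [this]
      rcases ih (by omega) h3 with h4 | h4
      · have hkn : k < D.nroots := by have := s.2; omega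
        by_cases h0 : c k = 0
        · left
          rw [h4, ChevClosed.pr_succ G hkn, h0, xg_zero G, one_mul]
        · right
          refine ⟨⟨k, hkn⟩, h3, by rw [Fin.lt_def]; exact h1, c k, h0, ?_⟩
          rw [h4]
          exact lead_pr G hkn h3 c
      · exact Or.inr h4
  rcases hzero s le_rfl hs with h1 | ⟨s', hs', hlt, e, he, h2⟩
  · have h2 := lead_pr G (F := F) s.2 hs c
    rw [← h1] at h2
    have h3 := lead_unique G hD hs h h2
    have h4 : c s = 0 := hc s fun _ h5 => hsA h5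
    exact ht (h3.trans h4)
  · -- leading term before `s`
    obtain ⟨y, hy, hyv⟩ := h
    have h3 : Lead s' 0 (ChevClosed.pr D F (D.nroots / 2) c) := by
      refine ⟨ChevClosed.pr D F (D.nroots / 2) c, ?_, by rw [xg_zero G, one_mul]⟩
      rw [hyv]
      refine mul_mem (xg_mem_XS (A := Gt s') ⟨hs, hlt⟩ t) (XS_mono ?_ hy)
      rintro r ⟨h4, h5⟩
      exact ⟨h4, lt_trans hlt h5⟩
    exact he (lead_unique G hD hs' h2 h3)

end

end Cfsg.Agent.Lib.Sfo
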