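import Cfsg.Agent.Lib.SfoPar
import Cfsg.Agent.Lib.ChevSL2
set_option autoImplicit false
set_option linter.unusedSectionVars false
set_option linter.unusedVariables false

/-!
Finite overgroups of subfield groups: rational highest root elements (helper44).
-/

namespace Cfsg.Agent.Lib.Sfo
open Cfsg.Lie Cfsg.Agent.Lib.ChevX Cfsg.Agent.Lib.ChevGood Cfsg.Agent.Lib.ChevRel Cfsg.Agent.Lib.ChevNPerm
  Cfsg.Agent.Lib.ChevBruhat Cfsg.Agent.Lib.ChevRadCent Cfsg.Agent.Lib.ChevFix Cfsg.Agent.Lib.ChevInv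
open Cfsg.Agent.Lib.ChevClosed hiding pr
open scoped MatrixGroups Matrix

variable {D : ChevalleyDatum} {F : Type*} [Field F]

section
variable (G : Good D)
include G

/-- `g` stabilizes the highest root subgroup -/
def SP (G : Good D) (g : GL D.Idx F) : Prop :=
  g ∈ D.group F ∧ ∃ c : F, c ≠ 0 ∧ ∀ t : F, g * xg D F (hi G) t * g⁻¹ = xg D F (hi G) (c * t)

omit G in
theorem SP.mul {G : Good D} {g h : GL D.Idx F} (hg : SP G g) (hh : SP G h) : SP G (g * h) := by
  obtain ⟨h1, c, hc, h2⟩ := hg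
  obtain ⟨h3, d, hd, h4⟩ := hh
  refine ⟨mul_mem h1 h3, c * d, mul_ne_zero hc hd, fun t => ?_⟩
  have : g * h * xg D F (hi G) t * (g * h)⁻¹ = g * (h * xg D F (hi G) t * h⁻¹) * g⁻¹ := by group
  rw [this, h4, h2, mul_assoc]

omit G in
theorem SP.inv {G : Good D} {g : GL D.Idx F} (hg : SP G g) : SP G g⁻¹ := by
  obtain ⟨h1, c, hc, h2⟩ := hg
  refine ⟨inv_mem h1, c⁻¹, inv_ne_zero hc, fun t => ?_⟩
  have h3 := h2 (c⁻¹ * t)
  rw [← mul_assoc, mul_inv_cancel₀ hc, one_mul] at h3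
  rw [← h3]; group

/-- the Bruhat form of an element stabilizing the highest root subgroup -/
theorem sp_bruhat (hD : Listed D) {g : GL D.Idx F} (hg : g ∈ D.group F) {t t' : F} (ht : t ≠ 0)
    (h : g * xg D F (hi G) t * g⁻¹ = xg D F (hi G) t') :
    ∃ u ∈ D.posUnipotent F, ∃ n ∈ D.monomialSubgroup F, ∃ w, Mono G n w ∧ ∃ u' ∈ XS D F (Inv w),
      g = u * n * u' ∧ w (hi G) = hi G := by
  obtain ⟨u, hu, n, hn, w, hw, u', hu', rfl⟩ := exists_bruhat G hD hg
  refine ⟨u, hu, n, hn, w, hw, u', hu', rfl, ?_⟩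
  obtain ⟨-, c, hc0, -, hc2⟩ := hw
  have hu'U : u' ∈ D.posUnipotent F := by
    rw [← XS_posS G]; exact XS_mono (fun r hr => hr.1) hu'
  rw [conj_hi G hc2 hu'U] at h
  have h1 : xg D F (w (hi G)) (c (hi G) * t) = xg D F (hi G) t' := by
    rw [← hi_comm G (inv_mem hu) t', ← h]; group
  exact Fin.ext (xg_root_inj G (w (hi G)).2 (hi G).2 (mul_ne_zero (hc0 _) ht) h1)

theorem sp_of_bruhat {u n u' : GL D.Idx F} {w : Equiv.Perm (Fin D.nroots)} (hg : u * n * u' ∈ D.group F)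
    (hu : u ∈ D.posUnipotent F) (hw : Mono G n w) (hu' : u' ∈ D.posUnipotent F) (h : w (hi G) = hi G) :
    SP G (u * n * u') := by
  obtain ⟨-, c, hc0, -, hc2⟩ := hw
  refine ⟨hg, c (hi G), hc0 _, fun t => ?_⟩
  rw [conj_hi G hc2 hu', h, hi_comm G hu]

theorem sp_of_conj (hD : Listed D) {g : GL D.Idx F} (hg : g ∈ D.group F) {t t' : F} (ht : t ≠ 0)
    (h : g * xg D F (hi G) t * g⁻¹ = xg D F (hi G) t') : SP G g := by
  obtain ⟨u, hu, n, hn, w, hw, u', hu', rfl, h1⟩ := sp_bruhat G hD hg ht h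
  refine sp_of_bruhat G hg hu hw ?_ h1
  rw [← XS_posS G]; exact XS_mono (fun r hr => hr.1) hu'

theorem H_le_G {a : GL D.Idx F} (ha : a ∈ D.diagonalSubgroup F) : a ∈ D.group F := ChevBN.H_le_group G ha

theorem U_le_G {a : GL D.Idx F} (ha : a ∈ D.posUnipotent F) : a ∈ D.group F := by
  rw [← XS_posS G] at ha
  exact XS_le (M := D.group F) (fun r _ t => ChevAuto.xg_mem G r t) ha

theorem xs_le_G {A : Set (Fin D.nroots)} {a : GL D.Idx F} (ha : a ∈ XS D F A) : a ∈ D.group F :=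
  XS_le (M := D.group F) (fun r _ t => ChevAuto.xg_mem G r t) ha

theorem N_le_G (hD : Listed D) {a : GL D.Idx F} (ha : a ∈ D.monomialSubgroup F) : a ∈ D.group F :=
  N_le_group G hD ha

theorem sp_U {u : GL D.Idx F} (hu : u ∈ D.posUnipotent F) : SP G u :=
  ⟨U_le_G G hu, 1, one_ne_zero, fun t => by rw [hi_comm G hu, one_mul]⟩

theorem sp_H {a : GL D.Idx F} (ha : a ∈ D.diagonalSubgroup F) : SP G a := by
  obtain ⟨-, c, hc0, -, hc2⟩ := mono_diag G ha
  exact ⟨H_le_G G ha, c (hi G), hc0 _, fun t => hc2 _ t⟩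

/-- root elements for roots with non-negative pairing with the highest root stabilize it -/
theorem sp_XS (P : Par G) {b : GL D.Idx F} (hb : b ∈ XS D F {s | 0 ≤ pr D (hi G) s}) : SP G b := by
  have hhi2 : pr D (hi G) (hi G) = 2 := pr_self G (hi G).2
  refine ⟨xs_le_G G hb, 1, one_ne_zero, fun t => ?_⟩
  have key' : XS D F {s | 0 ≤ pr D (hi G) s} ≤ Subgroup.centralizer {xg D F (hi G) t} := by
    refine XS_le fun s hs e => ?_
    rw [Subgroup.mem_centralizer_singleton_iff]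
    by_cases ht : t = 0
    · rw [ht, xg_zero G, mul_one, one_mul]
    have hs0 : 0 ≤ pr D (hi G) s := hs
    by_cases h : s = hi G
    · rw [h, xg_add G, xg_add G, add_comm]
    · have hne : hi G ≠ negF G s := by
        intro h1
        have h2 : pr D (hi G) s = -2 := by
          have h3 : s = negF G (hi G) := by rw [h1, negF_negF]
          rw [h3, show ((negF G (hi G) : Fin D.nroots) : ℕ) = D.neg (hi G) from rfl, pr_neg_right G (hi G).2, hhi2]
        omega
      have h4 := xg_comm G s.2 (hi G).2 (fun hh => h (Fin.ext hh.symm)) (fun hh => hne (Fin.ext hh)) e t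
      have h5 : D.commWord F s (hi G) e t = [] := by
        unfold ChevalleyDatum.commWord
        rw [List.map_eq_nil_iff, List.eq_nil_iff_forall_not_mem]
        intro c hc
        obtain ⟨h6, h7, h8, h9⟩ := commTerms_root G s.2 (hi G).2 (fun hh => h (Fin.ext hh.symm))
          (fun hh => hne (Fin.ext hh)) hc
        have h10 := pr_lin G (r := (hi G : ℕ)) (hi G).2 h6 s.2 _ _ h9
        rw [hhi2] at h10
        have h11 : (1 : ℤ) ≤ c.2.2.1 := by exact_mod_cast h7
        have h12 : (1 : ℤ) ≤ c.2.2.2 := by exact_mod_cast h8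
        have h13 : 2 ≤ pr D (hi G) c.1 := by rw [h10]; nlinarith
        have h14 := P.top ⟨c.1, h6⟩ h13
        have h15 : c.1 = hi G := congrArg Fin.val h14
        rw [h15, hhi2] at h10
        have h16 : (c.2.2.2 : ℤ) = 1 ∧ pr D (hi G) s = 0 := by
          constructor <;> nlinarith
        obtain ⟨j, hj, hjne⟩ := G.rv_ne_zero s s.2
        have h17 := h9 j
        rw [h15, h16.1, one_mul] at h17
        have h18 : (c.2.2.1 : ℤ) * G.rv s j = 0 := by linarith
        rcases mul_eq_zero.1 h18 with h19 | h19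
        · omega
        · exact hjne h19
      rw [h5] at h4
      have h6 : wg D F ([] : List (ℕ × F)) = 1 := by simp [wg]
      rw [h6, mul_one] at h4
      exact h4.symm
  have h3 := Subgroup.mem_centralizer_singleton_iff.1 (key' hb)
  rw [one_mul, h3, mul_inv_cancel_right]

/-! ### the rank one group -/

open Cfsg.Agent.Lib.SL2Pres in
/-- the homomorphism `SL₂ → ⟨X_δ, X_{-δ}⟩` is injective -/
theorem exists_phi (hD : Listed D) (hone : ∃ s : Fin D.nroots, pr D (hi G) s = 1) :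
    ∃ φ : SL(2, F) →* GL D.Idx F, Function.Injective φ ∧ (∀ t, φ (E t) = xg D F (hi G) t) ∧
      (∀ t, φ (E' t) = xg D F (negF G (hi G)) t) := by
  obtain ⟨φ, h1, h2, -⟩ := exists_hom (ChevSL2.isR1 G (F := F) (hi G).2)
  refine ⟨φ, ?_, h1, h2⟩
  have hnn : ∀ t, φ (nn E E' t) = ng D F (hi G) t := by
    intro t
    unfold SL2Pres.nn ng
    rw [map_mul, map_mul, h1, h2]
  have hhh : ∀ t, φ (hh E E' t) = hg D F (hi G) t := by
    intro t
    unfold hh hg
    rw [map_mul, hnn, hnn]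
  rw [injective_iff_map_eq_one]
  intro g hg1
  have hcell : Cell (E : F → SL(2, F)) E' g := by
    apply (isR1_SL2 (F := F)).cell_of_mem
    rw [closure_SL2]; exact Subgroup.mem_top g
  have hhiP := pos_hi G
  rcases hcell with ⟨a, c, hc, rfl⟩ | ⟨a, c, b, hc, rfl⟩
  · rw [map_mul, h1, hhh] at hg1
    have h3 : hg D F (hi G) c ∈ D.diagonalSubgroup F := ChevNPerm.hg_mem G (hi G).2 hc
    have h4 : xg D F (hi G) a = 1 := by
      refine inf_UH G hD (xU G hhiP a) ?_
      rw [eq_inv_of_mul_eq_one_left hg1]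
      exact inv_mem h3
    rw [h4, one_mul] at hg1
    have ha : a = 0 := (xg_eq_one_iff G (hi G).2 a).1 h4
    obtain ⟨s, hs⟩ := hone
    have h5 := hg_conj G (F := F) (hi G).2 s.2 c hc 1
    rw [hg1, one_mul, inv_one, mul_one, mul_one] at h5
    have h6 : (∑ j ∈ Finset.range D.rank, co D (hi G) j * D.cartan j s) = 1 := hs
    rw [h6, zpow_one] at h5
    have h7 := xg_inj G s.2 h5
    rw [ha, ← h7, (isR1_SL2 (F := F)).X_zero, (isR1_SL2 (F := F)).hh_one, mul_one]
  · exfalso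
    rw [map_mul, map_mul, map_mul, h1, hhh, hnn, h1] at hg1
    obtain ⟨hn, σδ, hσ, hσ1, -, -⟩ := exists_reflection G (F := F) (hi G) (one_ne_zero (α := F))
    have h3 : hg D F (hi G) c ∈ D.diagonalSubgroup F := ChevNPerm.hg_mem G (hi G).2 hc
    have hM := mono_mul G (mono_diag G h3) hσ
    rw [one_mul] at hM
    have hInv : hi G ∈ Inv σδ := by
      refine ⟨hhiP, ?_⟩
      rw [hσ1, pos_negF]
      exact not_not.2 hhiP
    have h4 := bruhat_unique G hD (u := xg D F (hi G) a) (n := hg D F (hi G) c * ng D F (hi G) 1)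
      (u' := xg D F (hi G) b) (v := 1) (m := 1) (v' := 1) (xU G hhiP a) (one_mem _)
      (mul_mem (Subgroup.mem_sup_left h3) hn) (one_mem _) hM (mono_one G) (xg_mem_XS hInv b) (one_mem _)
      (by rw [mul_one, mul_one, ← hg1]; group)
    have h5 := h4.2.1
    rw [h5] at hM
    have h6 := mono_unique G hM (mono_one G)
    rw [h6, Equiv.Perm.one_apply] at hσ1
    exact (pos_negF G (s := hi G)).not.2 (not_not.2 hhiP) (hσ1 ▸ hhiP)

theorem pr_neg_hi (r : Fin D.nroots) : pr D (hi G) (negF G r) = - pr D (hi G) r := pr_neg_right G r.2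

open Cfsg.Agent.Lib.SL2Pres in
/-- an element of `Q` fixing a negative highest root element up to scalars is trivial -/
theorem Q_fix_neg (P : Par G) (hD : Listed D) (hone : ∃ s : Fin D.nroots, pr D (hi G) s = 1) {v : GL D.Idx F}
    (hv : v ∈ XS D F (Qd G)) {a b : F} (ha : a ≠ 0)
    (h : v * xg D F (negF G (hi G)) a * v⁻¹ = xg D F (negF G (hi G)) b) : v = 1 := by
  obtain ⟨φ, hφ, h1, h2⟩ := exists_phi (F := F) G hD hone
  have hhiP := pos_hi G
  have hb : b ≠ 0 := by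
    rintro rfl
    rw [xg_zero G, mul_inv_eq_one, mul_eq_left, xg_eq_one_iff G (negF G (hi G)).2] at h
    exact ha h
  have hQU : v ∈ D.posUnipotent F := by
    rw [← XS_posS G]; exact XS_mono (fun r hr => pos_of_pr G P hr) hv
  have hform : ∀ a : F, a ≠ 0 → xg D F (negF G (hi G)) a = xg D F (hi G) a⁻¹ * ng D F (hi G) (-a⁻¹) * xg D F (hi G) a⁻¹ := by
    intro a ha
    unfold ng
    have e1 : ((negF G (hi G) : Fin D.nroots) : ℕ) = D.neg (hi G) := rfl
    rw [e1, inv_neg, _root_.neg_neg, inv_inv, xg_neg G]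
    group
  obtain ⟨hn, σδ, hσ, hσ1, hσ2, -⟩ := exists_reflection G (F := F) (hi G) (c := -a⁻¹) (by simpa using ha)
  obtain ⟨hn', σδ', hσ', hσ1', hσ2', -⟩ := exists_reflection G (F := F) (hi G) (c := -b⁻¹) (by simpa using hb)
  have hInv : ∀ {n : GL D.Idx F} {τ : Equiv.Perm (Fin D.nroots)}, n ∈ D.monomialSubgroup F → Mono G n τ →
      τ (hi G) = negF G (hi G) → Qd G ⊆ Inv τ := by
    intro n τ hn hτ h1 r hr
    refine ⟨pos_of_pr G P hr, fun hp => ?_⟩
    have h3 := P.dom _ hp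
    have h4 := mono_pr G hn hτ (hi G) r
    rw [h1, show ((negF G (hi G) : Fin D.nroots) : ℕ) = D.neg (hi G) from rfl, pr_neg_left G (hi G).2] at h4
    have h5 : 0 < pr D (hi G) r := hr
    omega
  have hhiQ : hi G ∈ Qd G := by
    show 0 < pr D (hi G) (hi G)
    rw [pr_self G (hi G).2]; norm_num
  rw [hform a ha, hform b hb] at h
  have h3 := bruhat_unique G hD (u := v * xg D F (hi G) a⁻¹) (n := ng D F (hi G) (-a⁻¹)) (u' := xg D F (hi G) a⁻¹ * v⁻¹)
    (v := xg D F (hi G) b⁻¹) (m := ng D F (hi G) (-b⁻¹)) (v' := xg D F (hi G) b⁻¹)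
    (mul_mem hQU (xU G hhiP _)) (xU G hhiP _) hn hn' hσ hσ'
    (XS_mono (hInv hn hσ hσ1) (mul_mem (xg_mem_XS hhiQ _) (inv_mem hv)))
    (xg_mem_XS (hInv hn' hσ' hσ1' hhiQ) _) (by rw [← h]; group)
  have h4 : v = xg D F (hi G) (b⁻¹ - a⁻¹) := by
    have h5 := h3.1
    rw [sub_eq_add_neg, ← xg_add G, xg_neg G, ← h5]; group
  set e := b⁻¹ - a⁻¹ with he
  rw [← hform a ha, ← hform b hb, h4, ← h1, ← h2, ← h2, ← map_inv, ← map_mul, ← map_mul] at h
  have h5 := hφ h
  have h6 : E e * E' a = E' b * E e := by rw [← h5]; group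
  have h7 := congrArg (fun g : SL(2, F) => (g : Matrix (Fin 2) (Fin 2) F) 0 0) h6
  simp only [Matrix.SpecialLinearGroup.coe_mul, coe_E, coe_E', Matrix.mul_apply, Fin.sum_univ_two] at h7
  simp at h7
  rcases h7 with h7 | h7
  · rw [h4, h7, xg_zero G]
  · exact absurd h7 ha

/-- an element stabilizing the highest root subgroup in the opposite radical is trivial -/
theorem sp_opp (P : Par G) (hD : Listed D) (hone : ∃ s : Fin D.nroots, pr D (hi G) s = 1) {y : GL D.Idx F}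
    (hy : y ∈ XS D F {s | pr D (hi G) s < 0}) (h : SP G y) : y = 1 := by
  obtain ⟨-, c, hc, h2⟩ := h
  obtain ⟨hn, σδ, hσ, hσ1, hσ2, -⟩ := exists_reflection G (F := F) (hi G) (one_ne_zero (α := F))
  set n := ng D F (hi G) (1 : F) with hndef
  have hσi := mono_inv G hσ
  have h3 : n⁻¹ * y * n⁻¹⁻¹ ∈ XS D F (Qd G) := by
    refine XS_mono ?_ (mono_conj_XS G hσi hy)
    rintro _ ⟨r, hr, rfl⟩
    show 0 < pr D (hi G) (σδ⁻¹ r)
    have h4 := mono_pr G hn hσ (hi G) (σδ⁻¹ r)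
    rw [ap_inv, hσ1, show ((negF G (hi G) : Fin D.nroots) : ℕ) = D.neg (hi G) from rfl, pr_neg_left G (hi G).2] at h4
    have h5 : pr D (hi G) r < 0 := hr
    omega
  obtain ⟨-, d, hd0, -, hd2⟩ := hσi
  have hσ3 : σδ⁻¹ (hi G) = negF G (hi G) := by
    rw [show σδ⁻¹ = σδ from inv_eq_of_mul_eq_one_left hσ2]; exact hσ1
  have h4 : (n⁻¹ * y * n⁻¹⁻¹) * xg D F (negF G (hi G)) (d (hi G)) * (n⁻¹ * y * n⁻¹⁻¹)⁻¹ =
      xg D F (negF G (hi G)) (d (hi G) * c) := by
    have h5 := hd2 (hi G) 1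
    have h6 := hd2 (hi G) c
    rw [hσ3, mul_one] at h5
    rw [hσ3] at h6
    rw [← h5, ← h6]
    have h7 := h2 1
    rw [mul_one] at h7
    rw [← h7]; group
  have h5 := Q_fix_neg G P hD hone h3 (hd0 _) h4
  rw [inv_inv] at h5
  calc y = n * (n⁻¹ * y * n) * n⁻¹ := by group
    _ = 1 := by rw [h5]; group

end

end Cfsg.Agent.Lib.Sfo
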