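import Cfsg.Agent.Lib.SfoClaim
import Cfsg.Agent.Lib.SL2Pair
set_option autoImplicit false
set_option linter.unusedSectionVars false
set_option linter.unusedVariables false

/-!
Finite overgroups of subfield groups: odd characteristic (helper44).
-/

namespace Cfsg.Agent.Lib.Sfo
open Cfsg.Lie Cfsg.Agent.Lib.ChevX Cfsg.Agent.Lib.ChevGood Cfsg.Agent.Lib.ChevRel Cfsg.Agent.Lib.ChevNPerm
  Cfsg.Agent.Lib.ChevBruhat Cfsg.Agent.Lib.ChevRadCent Cfsg.Agent.Lib.ChevFix Cfsg.Agent.Lib.ChevInv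
open Cfsg.Agent.Lib.ChevClosed hiding pr
open scoped MatrixGroups Matrix

section sl2
open Cfsg.Agent.Lib.SL2Trans Cfsg.Agent.Lib.SL2Pair

/-- a finite subgroup of `SL₂` with two non-commuting unipotent elements contains `-1` (odd characteristic) -/
theorem neg_one_mem_alg {K : Type*} [Field K] [IsAlgClosed K] {p : ℕ} [Fact p.Prime] [CharP K p] (hp2 : p ≠ 2)
    (T : Subgroup SL(2, K)) [Finite T] {x y : SL(2, K)} (hx : x ∈ T) (hy : y ∈ T) (hx2 : trc x = 2) (hy2 : trc y = 2)
    (hne : x * y ≠ y * x) : ∃ z ∈ T, (z : Matrix (Fin 2) (Fin 2) K) = -1 := by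
  classical
  obtain ⟨u, hu, v, hv, tu, tv, tuv⟩ := good_of_NC (p := p) hp2 T ⟨x, hx, y, hy, hx2, hy2, hne⟩
  refine ⟨(u * v⁻¹ * u) * (u * v⁻¹ * u), mul_mem (mul_mem (mul_mem hu (inv_mem hv)) hu) (mul_mem (mul_mem hu (inv_mem hv)) hu), ?_⟩
  have h0 : trc (u * v⁻¹ * u) = 0 := by
    have du := PSLTwoRec.det_eq u
    have dv := PSLTwoRec.det_eq v
    unfold trc at *
    simp only [Matrix.SpecialLinearGroup.coe_mul, Matrix.mul_apply, Fin.sum_univ_two,
      Matrix.SpecialLinearGroup.coe_inv, Matrix.adjugate_fin_two] at *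
    simp at *
    generalize u.1 0 0 = a at *
    generalize u.1 0 1 = b at *
    generalize u.1 1 0 = c at *
    generalize u.1 1 1 = d at *
    generalize v.1 0 0 = e at *
    generalize v.1 0 1 = f at *
    generalize v.1 1 0 = g at *
    generalize v.1 1 1 = h at *
    have hd : d = 2 - a := by linear_combination tu
    have hh : h = 2 - e := by linear_combination tv
    subst hd hh
    linear_combination (-2 : K) * tuv - 2 * du
  have h1 := SL2Pair.cayley (u * v⁻¹ * u)
  rw [h0, zero_smul, sub_zero] at h1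
  rw [Matrix.SpecialLinearGroup.coe_mul]
  exact eq_neg_of_add_eq_zero_left h1

theorem neg_one_mem {K : Type*} [Field K] {p : ℕ} [Fact p.Prime] [CharP K p] (hp2 : p ≠ 2)
    (T : Subgroup SL(2, K)) [Finite T] {x y : SL(2, K)} (hx : x ∈ T) (hy : y ∈ T) (hx2 : trc x = 2) (hy2 : trc y = 2)
    (hne : x * y ≠ y * x) : ∃ z ∈ T, (z : Matrix (Fin 2) (Fin 2) K) = -1 := by
  haveI : CharP (AlgebraicClosure K) p := charP_of_injective_algebraMap (algebraMap K (AlgebraicClosure K)).injective p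
  let f : SL(2, K) →* SL(2, AlgebraicClosure K) := Matrix.SpecialLinearGroup.map (algebraMap K (AlgebraicClosure K))
  have hf : ∀ (g : SL(2, K)) (i j : Fin 2), (f g : Matrix (Fin 2) (Fin 2) (AlgebraicClosure K)) i j =
      algebraMap K (AlgebraicClosure K) ((g : Matrix (Fin 2) (Fin 2) K) i j) := fun g i j => rfl
  have hinj : Function.Injective f := by
    intro a b h
    apply Subtype.ext
    ext i j
    have := congrArg (fun g : SL(2, AlgebraicClosure K) => (g : Matrix (Fin 2) (Fin 2) (AlgebraicClosure K)) i j) h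
    exact (algebraMap K (AlgebraicClosure K)).injective this
  have htr : ∀ g : SL(2, K), trc g = 2 → trc (f g) = 2 := by
    intro g hg
    unfold trc at *
    change algebraMap K (AlgebraicClosure K) (g 0 0) + algebraMap K (AlgebraicClosure K) (g 1 1) = 2
    rw [← map_add, hg, map_ofNat]
  haveI : Finite (T.map f) := Set.Finite.to_subtype ((Set.toFinite (T : Set SL(2, K))).image f)
  obtain ⟨z, ⟨z0, hz0, rfl⟩, hz⟩ := neg_one_mem_alg (p := p) hp2 (T.map f) (Subgroup.mem_map_of_mem f hx)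
    (Subgroup.mem_map_of_mem f hy) (htr x hx2) (htr y hy2) (by
      rw [← map_mul, ← map_mul]
      exact fun h => hne (hinj h))
  refine ⟨z0, hz0, ?_⟩
  ext i j
  apply (algebraMap K (AlgebraicClosure K)).injective
  rw [← hf, hz]
  fin_cases i <;> fin_cases j <;> simp

end sl2

variable {D : ChevalleyDatum} {F : Type*} [Field F]

section
variable (G : Good D)
include G

/-- roots orthogonal to the highest root commute with it and its negative -/
theorem commTerms_orth (P : Par G) {r s : Fin D.nroots} (hr : pr D (hi G) r = 0) (hs : s = hi G ∨ s = negF G (hi G)) :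
    D.commTerms r s = [] ∧ s ≠ r ∧ s ≠ negF G r := by
  have hhi2 : pr D (hi G) (hi G) = 2 := pr_self G (hi G).2
  have h2 : pr D (hi G) s = 2 ∨ pr D (hi G) s = -2 := by
    rcases hs with rfl | rfl
    · exact Or.inl hhi2
    · right
      rw [pr_neg_hi G, hhi2]
  have hne : s ≠ r := by
    rintro rfl
    rw [hr] at h2; omega
  have hneg : s ≠ negF G r := by
    rintro rfl
    rw [pr_neg_hi G, hr] at h2; omega
  refine ⟨?_, hne, hneg⟩
  rw [List.eq_nil_iff_forall_not_mem]
  intro c hc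
  obtain ⟨h6, h7, h8, h9⟩ := commTerms_root G r.2 s.2 (fun hh => hne (Fin.ext hh)) (fun hh => hneg (Fin.ext hh)) hc
  have h10 := pr_lin G (r := (hi G : ℕ)) s.2 h6 r.2 _ _ h9
  rw [hr, mul_zero, zero_add] at h10
  have h12 : (1 : ℤ) ≤ c.2.2.2 := by exact_mod_cast h8
  have h13 : (⟨c.1, h6⟩ : Fin D.nroots) = s ∧ c.2.2.2 = 1 := by
    rcases hs with rfl | rfl
    · rw [hhi2] at h10
      have h14 := P.top ⟨c.1, h6⟩ (by show 2 ≤ pr D (hi G) c.1; rw [h10]; nlinarith)
      refine ⟨h14, ?_⟩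
      have h15 : c.1 = hi G := congrArg Fin.val h14
      rw [h15, hhi2] at h10
      omega
    · rw [pr_neg_hi G, hhi2] at h10
      have h14 := P.top (negF G ⟨c.1, h6⟩) (by
        rw [pr_neg_hi G]
        show 2 ≤ - pr D (hi G) c.1
        rw [h10]; nlinarith)
      have h15 : (⟨c.1, h6⟩ : Fin D.nroots) = negF G (hi G) := by rw [← h14, negF_negF]
      refine ⟨h15, ?_⟩
      have h16 : c.1 = negF G (hi G) := congrArg Fin.val h15
      rw [h16, pr_neg_hi G, hhi2] at h10
      omega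
  obtain ⟨j, hj, hjne⟩ := G.rv_ne_zero r r.2
  have h17 := h9 j
  rw [show c.1 = (s : ℕ) from congrArg Fin.val h13.1, h13.2] at h17
  have h18 : (c.2.2.1 : ℤ) * G.rv r j = 0 := by push_cast at h17; linarith
  rcases mul_eq_zero.1 h18 with h19 | h19
  · omega
  · exact hjne h19

theorem comm_orth (P : Par G) {b : GL D.Idx F} (hb : b ∈ XS D F {r | pr D (hi G) r = 0}) {s : Fin D.nroots}
    (hs : s = hi G ∨ s = negF G (hi G)) (t : F) : b * xg D F s t = xg D F s t * b := by
  have key : XS D F {r | pr D (hi G) r = 0} ≤ Subgroup.centralizer {xg D F s t} := XS_le fun r hr e => by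
    rw [Subgroup.mem_centralizer_singleton_iff]
    obtain ⟨h1, h2, h3⟩ := commTerms_orth G P (show pr D (hi G) r = 0 from hr) hs
    exact (comm_of_nil G h2 h3 h1 e t).symm
  exact Subgroup.mem_centralizer_singleton_iff.1 (key hb)

end

section
variable {G : Good D} {σ : F ≃+* F} {M : Subgroup (GL D.Idx F)} {C : Set (Fin D.nroots)} (X : Full G σ M C)
include X

open Cfsg.Agent.Lib.SL2Pres in
theorem Full.odd (PR : Pair G) {p : ℕ} [Fact p.Prime] [CharP F p] (hp2 : p ≠ 2) [Finite M]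
    (horth : ∃ (r r1 : Fin D.nroots) (l : List (Fin D.rank)), pr D (hi G) r = 0 ∧ r1 ∈ Qd G ∧ wl G l r1 = r)
    {g : GL D.Idx F} (hgM : g ∈ M) : em D (σ : F →+* F) g = g := by
  classical
  by_contra hne
  have hD := X.cx.hD
  obtain ⟨φ, hφ, h1, h2⟩ := exists_phi (F := F) G hD X.one
  have h2F : (2 : F) ≠ 0 := by
    intro h
    have h3 : ((2 : ℕ) : F) = 0 := by exact_mod_cast h
    rw [CharP.cast_eq_zero_iff F p] at h3
    exact hp2 ((Nat.prime_dvd_prime_iff_eq Fact.out Nat.prime_two).1 h3)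
  obtain ⟨u, hu, n, hn, w, hw, u', hu', hge⟩ := exists_bruhat G hD (X.cx.le hgM)
  have hu'U : u' ∈ D.posUnipotent F := by
    rw [← XS_posS G]; exact XS_mono (fun r hr => hr.1) hu'
  have hwhi := X.opp PR hgM hne hu hn hw hu'U hge
  obtain ⟨-, c, hc0, -, hc2⟩ := hw
  have hv := conj_hi G hc2 hu'U (u := u) 1
  rw [← hge, mul_one, hwhi] at hv
  obtain ⟨v, hvdef⟩ : ∃ v, v = g * xg D F (hi G) 1 * g⁻¹ := ⟨_, rfl⟩
  rw [← hvdef] at hv
  have hvM : v ∈ M := by rw [hvdef]; exact mul_mem (mul_mem hgM (X.cx.one _)) (inv_mem hgM)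
  have hfin : em D (σ : F →+* F) v = v → False := fun h => hne (X.fix_conj hgM one_ne_zero (by
    rw [← hvdef]; exact h))
  -- split off the orthogonal part
  rw [← XS_posS G] at hu
  obtain ⟨a, ha, b, hb, rfl⟩ := exists_factor' G (closed_posS G) (Qd G) hu
  have haQ : a ∈ XS D F (Qd G) := XS_mono Set.inter_subset_right ha
  have hb0 : b ∈ XS D F {r | pr D (hi G) r = 0} := by
    refine XS_mono ?_ hb
    rintro r ⟨h3, h4⟩
    exact le_antisymm (not_lt.1 h4) (X.par.dom r h3)
  have haU : a ∈ D.posUnipotent F := by rw [← XS_posS G]; exact XS_mono Set.inter_subset_left ha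
  have hva : v = a * xg D F (negF G (hi G)) (c (hi G)) * a⁻¹ := by
    rw [hv]
    have h3 := comm_orth G X.par hb0 (Or.inr rfl) (c (hi G))
    calc a * b * xg D F (negF G (hi G)) (c (hi G)) * (a * b)⁻¹
        = a * (b * xg D F (negF G (hi G)) (c (hi G))) * b⁻¹ * a⁻¹ := by group
      _ = _ := by rw [h3]; group
  set e := c (hi G) with he
  have he0 : e ≠ 0 := hc0 _
  -- the finite group in `SL₂`
  let ψ : SL(2, F) →* GL D.Idx F := (MulAut.conj a).toMonoidHom.comp φ
  have hψ : ∀ s, ψ s = a * φ s * a⁻¹ := fun s => rfl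
  have hψi : Function.Injective ψ := (MulAut.conj a).injective.comp hφ
  let T := M.comap ψ
  haveI : Finite T := by
    let f : T → M := fun s => ⟨ψ s, s.2⟩
    exact Finite.of_injective f (fun s t h => Subtype.ext (hψi (congrArg Subtype.val h)))
  have hE : (E 1 : SL(2, F)) ∈ T := by
    show ψ (E 1) ∈ M
    rw [hψ, h1, hi_comm G haU]
    exact X.cx.one _
  have hE' : (E' e : SL(2, F)) ∈ T := by
    show ψ (E' e) ∈ M
    rw [hψ, h2, ← hva]
    exact hvM
  obtain ⟨z0, hz0, hz0e⟩ := neg_one_mem (p := p) hp2 T hE hE'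
    (by unfold SL2Trans.trc; simp [E]; norm_num) (by unfold SL2Trans.trc; simp [E']; norm_num) (by
      intro h
      have h3 := congrArg (fun g : SL(2, F) => (g : Matrix (Fin 2) (Fin 2) F) 0 0) h
      simp only [Matrix.SpecialLinearGroup.coe_mul, coe_E, coe_E', Matrix.mul_apply, Fin.sum_univ_two] at h3
      simp at h3
      exact he0 h3)
  have hz0h : z0 = hh E E' (-1) := by
    apply Subtype.ext
    rw [hz0e, coe_hh (by simp)]
    ext i j
    fin_cases i <;> fin_cases j <;> simp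
  have hζ : φ z0 = hg D F (hi G) (-1) := by
    rw [hz0h]
    unfold hh hg SL2Pres.nn ng
    simp only [map_mul, h1, h2]
    rfl
  set ζ := hg D F (hi G) (-1 : F) with hζdef
  have hz0c : ∀ s : SL(2, F), z0 * s = s * z0 := by
    intro s
    apply Subtype.ext
    rw [Matrix.SpecialLinearGroup.coe_mul, Matrix.SpecialLinearGroup.coe_mul, hz0e]
    simp
  -- `z = a ζ a⁻¹` is fixed
  have hzM : a * ζ * a⁻¹ ∈ M := by
    have h3 : ψ z0 ∈ M := hz0
    rw [hψ, hζ] at h3
    exact h3
  have hzfix := X.cent_hi hzM one_ne_zero (by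
    have h3 : ζ * xg D F (hi G) 1 = xg D F (hi G) 1 * ζ := by
      rw [← hζ, ← h1, ← map_mul, ← map_mul, hz0c]
    have h4 := hi_comm G haU (1 : F)
    calc a * ζ * a⁻¹ * xg D F (hi G) 1 = a * ζ * a⁻¹ * (a * xg D F (hi G) 1 * a⁻¹) := by rw [h4]
      _ = a * (ζ * xg D F (hi G) 1) * a⁻¹ := by group
      _ = (a * xg D F (hi G) 1 * a⁻¹) * (a * ζ * a⁻¹) := by rw [h3]; group
      _ = _ := by rw [h4])
  have hζfix : em D (σ : F →+* F) ζ = ζ := by rw [hζdef, em_hg G, map_neg, map_one]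
  rw [map_mul, map_mul, map_inv, hζfix] at hzfix
  set y := a⁻¹ * em D (σ : F →+* F) a with hy
  have hyQ : y ∈ XS D F (Qd G) := mul_mem (inv_mem haQ) (em_XS G _ haQ)
  have hyζ : ζ * y * ζ⁻¹ = y := by
    have h3 : em D (σ : F →+* F) a = a * y := by rw [hy]; group
    rw [h3] at hzfix
    have h4 : y * ζ * y⁻¹ = ζ := by
      calc y * ζ * y⁻¹ = a⁻¹ * (a * y * ζ * (a * y)⁻¹) * a := by group
        _ = _ := by rw [hzfix]; group
    have h5 : y * ζ = ζ * y := by
      calc y * ζ = (y * ζ * y⁻¹) * y := by group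
        _ = _ := by rw [h4]
    rw [← h5, mul_inv_cancel_right]
  have hζH : ζ ∈ D.diagonalSubgroup F := ChevNPerm.hg_mem G (hi G).2 (by simp)
  have hyhi : y ∈ XS D F {hi G} := by
    by_cases hy1 : y = 1
    · rw [hy1]; exact one_mem _
    have hyU : y ∈ D.posUnipotent F := by
      rw [← XS_posS G]; exact XS_mono (fun r hr => pos_of_pr G X.par hr) hyQ
    obtain ⟨s, hs, t, ht, hl⟩ := exists_lead G hyU hy1
    have hsQ := lead_mem G hD (closed_Q G X.par F) hs ht hyQ hl
    have hl' := hl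
    obtain ⟨y', hy', hye⟩ := hl
    have h3 := hg_conj G (F := F) (hi G).2 s.2 (-1) (by simp) t
    have h4 : Lead s ((-1 : F) ^ (pr D (hi G) s) * t) y := by
      refine ⟨ζ * y' * ζ⁻¹, diag_conj_XS G hζH hy', ?_⟩
      have h5 : xg D F s ((-1 : F) ^ (pr D (hi G) s) * t) = ζ * xg D F s t * ζ⁻¹ := h3.symm
      rw [h5, ← hyζ]
      conv_lhs => rw [hye]
      group
    have h5 := lead_unique G hD hs h4 hl'
    have h6 : (-1 : F) ^ (pr D (hi G) s) = 1 := by
      have : ((-1 : F) ^ (pr D (hi G) s) - 1) * t = 0 := by rw [sub_mul, h5, one_mul, sub_self]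
      rcases mul_eq_zero.1 this with h | h
      · exact sub_eq_zero.1 h
      · exact absurd h ht
    have h7 : 2 ≤ pr D (hi G) s := by
      have h8 : 0 < pr D (hi G) s := hsQ
      rcases Int.even_or_odd (pr D (hi G) s) with h9 | h9
      · obtain ⟨k, hk⟩ := h9; omega
      · exfalso
        rw [h9.neg_one_zpow] at h6
        apply h2F
        have : (1 : F) + 1 = 0 := by
          nth_rewrite 1 [← h6]; ring
        rw [← this]; norm_num
    have h8 := X.par.top s h7
    subst h8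
    have h9 : y' = 1 := by
      have h10 : Gt (hi G) = (∅ : Set (Fin D.nroots)) := by
        ext r
        simp only [Gt, Set.mem_ofPred_eq, Set.mem_empty_iff_false, iff_false, not_and]
        intro _ h11
        have h12 : (D.nroots - 1 : ℕ) < (r : ℕ) := h11
        have := r.2
        omega
      rw [h10] at hy'
      have h11 : XS D F (∅ : Set (Fin D.nroots)) = ⊥ := by unfold XS; simp
      rwa [h11, Subgroup.mem_bot] at hy'
    rw [hye, h9, mul_one]
    exact xg_mem_XS (Set.mem_singleton _) _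
  obtain ⟨a0, ha0, hfa0, a1, ha1, rfl⟩ := split_W G hD (closed_single G (pos_hi G)) (fun z hz u hu => by
    obtain ⟨t, rfl⟩ := mem_XS_singleton G hz
    have := hi_comm G hu t
    calc u * xg D F (hi G) t = u * xg D F (hi G) t * u⁻¹ * u := by group
      _ = _ := by rw [this]) haU hyhi (show em D (σ : F →+* F) a = a * y by rw [hy]; group)
  have ha0M := X.cx.fixU ha0 hfa0
  obtain ⟨τ, rfl⟩ := mem_XS_singleton G ha1
  -- the reduced element commutes with an orthogonal root element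
  have hv0M : a0⁻¹ * v * a0 ∈ M := mul_mem (mul_mem (inv_mem ha0M) hvM) ha0M
  have hv0 : a0⁻¹ * v * a0 = xg D F (hi G) τ * xg D F (negF G (hi G)) e * (xg D F (hi G) τ)⁻¹ := by
    rw [hva]; group
  obtain ⟨r, r1, l, hr, hr1, hl⟩ := horth
  have hcomm : a0⁻¹ * v * a0 * xg D F r 1 = xg D F r 1 * (a0⁻¹ * v * a0) := by
    have hx : xg D F r 1 ∈ XS D F {r | pr D (hi G) r = 0} := xg_mem_XS (A := {r | pr D (hi G) r = 0}) hr 1
    have e1 := comm_orth G X.par hx (Or.inl rfl) τ
    have e2 := comm_orth G X.par hx (Or.inr rfl) e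
    rw [hv0]
    have e3 : (xg D F (hi G) τ)⁻¹ * xg D F r 1 = xg D F r 1 * (xg D F (hi G) τ)⁻¹ := by
      rw [inv_mul_eq_iff_eq_mul, ← mul_assoc, ← e1, mul_inv_cancel_right]
    calc xg D F (hi G) τ * xg D F (negF G (hi G)) e * (xg D F (hi G) τ)⁻¹ * xg D F r 1
        = xg D F (hi G) τ * xg D F (negF G (hi G)) e * ((xg D F (hi G) τ)⁻¹ * xg D F r 1) := by group
      _ = xg D F (hi G) τ * (xg D F (negF G (hi G)) e * xg D F r 1) * (xg D F (hi G) τ)⁻¹ := by rw [e3]; group
      _ = (xg D F (hi G) τ * xg D F r 1) * xg D F (negF G (hi G)) e * (xg D F (hi G) τ)⁻¹ := by rw [← e2]; group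
      _ = _ := by rw [← e1]; group
  obtain ⟨-, d, hd0, -, hd2⟩ := mono_nl (F := F) G l
  have hxr : xg D F r 1 = nl D F l * xg D F r1 ((d r1)⁻¹) * (nl D F l)⁻¹ := by
    rw [hd2, hl, mul_inv_cancel₀ (hd0 _)]
  have hlM := X.cx.nl_mem l
  have hfix := X.cent_Q PR (t := xg D F r1 ((d r1)⁻¹)) (m := (nl D F l)⁻¹ * (a0⁻¹ * v * a0) * nl D F l)
    (xg_mem_XS hr1 _) (by rw [Ne, xg_eq_one_iff G r1.2]; exact inv_ne_zero (hd0 _))
    (mul_mem (mul_mem (inv_mem hlM) hv0M) hlM) (by
      have h3 : xg D F r1 ((d r1)⁻¹) = (nl D F l)⁻¹ * xg D F r 1 * nl D F l := by rw [hxr]; group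
      rw [h3]
      calc (nl D F l)⁻¹ * (a0⁻¹ * v * a0) * nl D F l * ((nl D F l)⁻¹ * xg D F r 1 * nl D F l)
          = (nl D F l)⁻¹ * (a0⁻¹ * v * a0 * xg D F r 1) * nl D F l := by group
        _ = _ := by rw [hcomm]; group)
  apply hfin
  rw [map_mul, map_mul, map_mul, map_mul, map_inv, map_inv, em_nl G, hfa0] at hfix
  have h3 := mul_left_cancel (mul_right_cancel hfix)
  exact mul_left_cancel (mul_right_cancel h3)

end

end Cfsg.Agent.Lib.Sfo
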