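import Cfsg.Agent.Lib.SfoBorel
import Cfsg.Agent.Lib.ChevLong
set_option autoImplicit false
set_option linter.unusedSectionVars false
set_option linter.unusedVariables false

/-!
Finite overgroups of subfield groups: the stabilizer of the highest root subgroup (helper44).
-/

namespace Cfsg.Agent.Lib.Sfo
open Cfsg.Lie Cfsg.Agent.Lib.ChevX Cfsg.Agent.Lib.ChevGood Cfsg.Agent.Lib.ChevRel Cfsg.Agent.Lib.ChevNPerm
  Cfsg.Agent.Lib.ChevBruhat Cfsg.Agent.Lib.ChevRadCent Cfsg.Agent.Lib.ChevFix Cfsg.Agent.Lib.ChevInv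
open Cfsg.Agent.Lib.ChevClosed hiding pr
open scoped MatrixGroups Matrix

variable {D : ChevalleyDatum} {F : Type*} [Field F]

/-- the highest root -/
def hi (G : Good D) : Fin D.nroots := ⟨D.nroots - 1, by have := G.nroots_pos; omega⟩

/-- the roots of the unipotent radical of the stabilizer of the highest root subgroup -/
def Qd (G : Good D) : Set (Fin D.nroots) := {r | 0 < pr D (hi G) r}

/-- combinatorial facts about the highest root -/
structure Par (G : Good D) : Prop where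
  dom : ∀ r : Fin D.nroots, Pos D r → 0 ≤ pr D (hi G) r
  top : ∀ r : Fin D.nroots, 2 ≤ pr D (hi G) r → r = hi G
  conn : ∀ i : Fin D.rank, 0 < pr D (hi G) (simpF G i) ∨ ∃ s : Fin D.nroots, 0 < pr D (hi G) s ∧
    0 < pr D (hi G) (refl G i s) ∧ (D.cartan i s = 1 ∨ D.cartan i s = -1)
  link : ∀ s : Fin D.nroots, Pos D s → pr D (hi G) s = 0 → ∃ r k : Fin D.nroots, ∃ (M : ℤ) (tl : List (ℕ × ℤ)),
    0 < pr D (hi G) r ∧ k ≠ hi G ∧ D.chainEntry r s = ((k : ℕ), M) :: tl ∧ (M = 1 ∨ M = -1)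

section
variable (G : Good D) (P : Par G)
include G P

omit P in
theorem pos_hi : Pos D (hi G) := by
  unfold Pos hi
  have := G.nroots_pos
  have := G.nroots_even
  show D.nroots / 2 ≤ D.nroots - 1
  omega

theorem pos_of_pr {r : Fin D.nroots} (h : 0 < pr D (hi G) r) : Pos D r := by
  by_contra hn
  have h1 := P.dom (negF G r) ((pos_negF G).2 hn)
  rw [show ((negF G r : Fin D.nroots) : ℕ) = D.neg r from rfl, pr_neg_right G r.2] at h1
  omega

omit P in
theorem pr_comb {r s : Fin D.nroots} (hr : Pos D r) (hs : Pos D s) (hrs : s ≠ r)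
    {c : ℕ × ℤ × ℕ × ℕ} (hc : c ∈ D.commTerms r s) :
    1 ≤ c.2.2.1 ∧ 1 ≤ c.2.2.2 ∧ pr D (hi G) c.1 = c.2.2.1 * pr D (hi G) r + c.2.2.2 * pr D (hi G) s := by
  have hneg : (s : ℕ) ≠ D.neg r := fun h => ne_negF G hr hs (Fin.ext h)
  obtain ⟨hlt, h1, h2, hrv⟩ := commTerms_root G r.2 s.2 (fun hh => hrs (Fin.ext hh)) hneg hc
  exact ⟨h1, h2, pr_lin G s.2 hlt r.2 _ _ hrv⟩

theorem commIn_Q (F : Type*) [Field F] {r s : Fin D.nroots} (hr : Pos D r) (hs : s ∈ Qd G) (hrs : s ≠ r) :
    CommIn F r s (Qd G) := by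
  intro c hc _ k hk
  have hsP := pos_of_pr G P hs
  obtain ⟨h1, h2, h3⟩ := pr_comb G hr hsP hrs hc
  show 0 < pr D (hi G) k
  rw [hk, h3]
  have h4 := P.dom r hr
  have h5 : 0 < pr D (hi G) s := hs
  have h6 : (1 : ℤ) ≤ c.2.2.1 := by exact_mod_cast h1
  have h7 : (1 : ℤ) ≤ c.2.2.2 := by exact_mod_cast h2
  nlinarith [mul_nonneg (show (0:ℤ) ≤ c.2.2.1 by omega) h4]

theorem closed_Q (F : Type*) [Field F] : Closed F (Qd G) :=
  ⟨fun r hr => pos_of_pr G P hr, fun r hr s hs hne => commIn_Q G P F (pos_of_pr G P hr) hs hne⟩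

theorem conj_Q {u b : GL D.Idx F} (hu : u ∈ D.posUnipotent F) (hb : b ∈ XS D F (Qd G)) :
    u * b * u⁻¹ ∈ XS D F (Qd G) := by
  rw [← XS_posS G] at hu
  have h : XS D F (posS D) ≤ Subgroup.normalizer (XS D F (Qd G) : Set (GL D.Idx F)) := by
    apply XS_le
    intro r hr t
    have key : ∀ (t : F) (b : GL D.Idx F), b ∈ XS D F (Qd G) → xg D F r t * b * (xg D F r t)⁻¹ ∈ XS D F (Qd G) := by
      intro t b hb
      by_cases h1 : r ∈ Qd G
      · have h2 : xg D F r t ∈ XS D F (Qd G) := xg_mem_XS h1 t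
        exact mul_mem (mul_mem h2 hb) (inv_mem h2)
      · have hne : ∀ s ∈ Qd G, s ≠ r := by
          rintro s hs rfl
          exact h1 hs
        exact conj_mem_XS G (fun s hs => ⟨hne s hs, ne_negF G hr (pos_of_pr G P hs),
          commIn_Q G P F hr hs (hne s hs)⟩) t hb
    rw [Subgroup.mem_normalizer_iff]
    intro b
    refine ⟨key t b, fun h => ?_⟩
    have := key (-t) _ h
    rw [xg_neg G] at this
    rwa [show (xg D F r t)⁻¹ * (xg D F r t * b * (xg D F r t)⁻¹) * (xg D F r t)⁻¹⁻¹ = b by group] at this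
  exact (Subgroup.mem_normalizer_iff.1 (h hu) b).1 hb

omit P in
theorem hi_comm {u : GL D.Idx F} (hu : u ∈ D.posUnipotent F) (t : F) :
    u * xg D F (hi G) t * u⁻¹ = xg D F (hi G) t := ChevLong.highest_comm' G hu t

omit P in
/-- conjugates of the highest root elements in the Bruhat form -/
theorem conj_hi {u n u' : GL D.Idx F} {w : Equiv.Perm (Fin D.nroots)} {c : Fin D.nroots → F}
    (hc : ∀ (s : Fin D.nroots) (t : F), n * xg D F s t * n⁻¹ = xg D F (w s) (c s * t))
    (hu' : u' ∈ D.posUnipotent F) (t : F) :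
    (u * n * u') * xg D F (hi G) t * (u * n * u')⁻¹ = u * xg D F (w (hi G)) (c (hi G) * t) * u⁻¹ := by
  rw [← hc]
  calc (u * n * u') * xg D F (hi G) t * (u * n * u')⁻¹ = u * (n * (u' * xg D F (hi G) t * u'⁻¹) * n⁻¹) * u⁻¹ := by group
    _ = _ := by rw [hi_comm G hu' t]

/-- commutators in the radical are highest root elements -/
theorem comm_Q {a b : GL D.Idx F} (ha : a ∈ XS D F (Qd G)) (hb : b ∈ XS D F (Qd G)) :
    a * b * a⁻¹ * b⁻¹ ∈ XS D F {hi G} := by
  have hQU : XS D F (Qd G) ≤ D.posUnipotent F := by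
    rw [← XS_posS G]; exact XS_mono fun r hr => pos_of_pr G P hr
  have hcen : ∀ v ∈ D.posUnipotent F, ∀ z ∈ XS D F {hi G}, v * z * v⁻¹ ∈ XS D F {hi G} := by
    intro v hv z hz
    obtain ⟨t, rfl⟩ := mem_XS_singleton G hz
    rw [hi_comm G hv]
    exact hz
  -- generators
  have hgen : ∀ r ∈ Qd G, ∀ s ∈ Qd G, ∀ t e : F,
      xg D F r t * xg D F s e * (xg D F r t)⁻¹ * (xg D F s e)⁻¹ ∈ XS D F {hi G} := by
    intro r hr s hs t e
    have hrP := pos_of_pr G P hr
    have hsP := pos_of_pr G P hs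
    by_cases h : s = r
    · subst h
      have : xg D F s t * xg D F s e * (xg D F s t)⁻¹ * (xg D F s e)⁻¹ = 1 := by
        rw [← xg_neg G, ← xg_neg G, xg_add G, xg_add G, xg_add G]
        have : t + e + -t + -e = 0 := by ring
        rw [this, xg_zero G]
      rw [this]; exact one_mem _
    · have hneg := ne_negF G hrP hsP
      have h4 := xg_comm G r.2 s.2 (fun hh => h (Fin.ext hh)) (fun hh => hneg (Fin.ext hh)) (-t) e
      rw [xg_neg G] at h4
      have h5 : xg D F r t * xg D F s e * (xg D F r t)⁻¹ = xg D F s e * wg D F (D.commWord F r s (-t) e) := by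
        have : xg D F s e * (xg D F r t)⁻¹ = (xg D F r t)⁻¹ * (xg D F s e * wg D F (D.commWord F r s (-t) e)) := by
          rw [h4, mul_assoc]
        rw [mul_assoc, this]; group
      rw [h5]
      refine hcen _ (xU G hsP e) _ ?_
      apply wg_commWord_mem G h hneg
      intro c hc _ k hk
      obtain ⟨h6, h7, h8⟩ := pr_comb G hrP hsP h hc
      rw [Set.mem_singleton_iff]
      apply P.top
      rw [hk, h8]
      have h9 : 0 < pr D (hi G) r := hr
      have h10 : 0 < pr D (hi G) s := hs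
      have h11 : (1 : ℤ) ≤ c.2.2.1 := by exact_mod_cast h6
      have h12 : (1 : ℤ) ≤ c.2.2.2 := by exact_mod_cast h7
      nlinarith
  -- first variable a generator
  have hstep : ∀ r ∈ Qd G, ∀ t : F, ∀ b ∈ XS D F (Qd G),
      xg D F r t * b * (xg D F r t)⁻¹ * b⁻¹ ∈ XS D F {hi G} := by
    intro r hr t b hb
    unfold XS at hb
    induction hb using Subgroup.closure_induction with
    | mem x hx => obtain ⟨s, hs, e, rfl⟩ := hx; exact hgen r hr s hs t e
    | one => simp
    | mul x y hx' hy' hx hy =>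
      have hxU : x ∈ D.posUnipotent F := hQU hx'
      have : xg D F r t * (x * y) * (xg D F r t)⁻¹ * (x * y)⁻¹ =
        (xg D F r t * x * (xg D F r t)⁻¹ * x⁻¹) * (x * (xg D F r t * y * (xg D F r t)⁻¹ * y⁻¹) * x⁻¹) := by group
      rw [this]
      exact mul_mem hx (hcen _ hxU _ hy)
    | inv x hx' hx =>
      have hxU : x ∈ D.posUnipotent F := hQU hx'
      have : xg D F r t * x⁻¹ * (xg D F r t)⁻¹ * x⁻¹⁻¹ =
        x⁻¹ * (xg D F r t * x * (xg D F r t)⁻¹ * x⁻¹)⁻¹ * x⁻¹⁻¹ := by group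
      rw [this]
      exact hcen _ (inv_mem hxU) _ (inv_mem hx)
  have ha0 := ha
  unfold XS at ha
  induction ha using Subgroup.closure_induction with
  | mem x hx => obtain ⟨s, hs, e, rfl⟩ := hx; exact hstep s hs e b hb
  | one => simp
  | mul x y hx' hy' hx hy =>
    have hxU : x ∈ D.posUnipotent F := hQU hx'
    have : x * y * b * (x * y)⁻¹ * b⁻¹ = (x * (y * b * y⁻¹ * b⁻¹) * x⁻¹) * (x * b * x⁻¹ * b⁻¹) := by group
    rw [this]
    exact mul_mem (hcen _ hxU _ (hy hy')) (hx hx')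
  | inv x hx' hx =>
    have hxU : x ∈ D.posUnipotent F := hQU hx'
    have : x⁻¹ * b * x⁻¹⁻¹ * b⁻¹ = x⁻¹ * (x * b * x⁻¹ * b⁻¹)⁻¹ * x⁻¹⁻¹ := by group
    rw [this]
    exact hcen _ (inv_mem hxU) _ (inv_mem (hx hx'))

/-- an element commuting with the `x_r(1)`, `r ∈ Q`, lies in `U` -/
theorem cent_Q_U (hD : Listed D) {z : GL D.Idx F} (hz : z ∈ D.group F)
    (h : ∀ r ∈ Qd G, z * xg D F r 1 = xg D F r 1 * z) : z ∈ D.posUnipotent F := by
  classical
  obtain ⟨u, hu, n, hn, w, hw, u', hu', rfl⟩ := exists_bruhat G hD hz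
  obtain ⟨hlin, c, hc0, hcn, hcw⟩ := hw
  have hu'U : u' ∈ D.posUnipotent F := by
    rw [← XS_posS G]; exact XS_mono (fun r hr => hr.1) hu'
  -- the roots in `Q` are fixed
  have step1 : ∀ (m : ℕ) (r : Fin D.nroots), D.nroots - r = m → r ∈ Qd G → w r = r ∧ c r = 1 := by
    intro m
    induction m using Nat.strong_induction_on with
    | _ m ih =>
      intro r hm hr
      have hrP := pos_of_pr G P hr
      set y := (xg D F r 1)⁻¹ * (u' * xg D F r 1 * u'⁻¹) with hy
      have hyG : y ∈ XS D F (Gt r) := by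
        have h1 := comm_Gt G hrP 1 hu'U
        have h2 : y = (xg D F r 1)⁻¹ * (u' * xg D F r 1 * u'⁻¹ * (xg D F r 1)⁻¹) * (xg D F r 1)⁻¹⁻¹ := by
          rw [hy]; group
        rw [h2]
        exact norm_Gt' G (inv_mem (xU G hrP 1)) _ h1
      have hyQ : y ∈ XS D F (Qd G) :=
        mul_mem (inv_mem (xg_mem_XS hr 1)) (conj_Q G P hu'U (xg_mem_XS hr 1))
      have hyI := XS_inf G hD (closed_Gt G r) (closed_Q G P F) hyG hyQ
      have hny : n * y * n⁻¹ ∈ XS D F (Gt r) := by
        refine XS_mono ?_ (mono_conj_XS G ⟨hlin, c, hc0, hcn, hcw⟩ hyI)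
        rintro _ ⟨s, ⟨hs1, hs2⟩, rfl⟩
        have h3 : (r : ℕ) < s := hs1.2
        have h4 := (ih (D.nroots - s) (by have := s.2; omega) s rfl hs2).1
        rw [h4]; exact hs1
      have h1 : xg D F (w r) (c r * 1) * (n * y * n⁻¹) = u⁻¹ * xg D F r 1 * u := by
        have h2 := h r hr
        have h3 : u * n * u' * xg D F r 1 * (u * n * u')⁻¹ = xg D F r 1 := by rw [h2, mul_inv_cancel_right]
        rw [← hcw]
        calc n * xg D F r 1 * n⁻¹ * (n * y * n⁻¹) = u⁻¹ * (u * n * u' * xg D F r 1 * (u * n * u')⁻¹) * u := by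
              rw [hy]; group
          _ = _ := by rw [h3]
      have h2 := comm_Gt G hrP 1 (inv_mem hu)
      rw [inv_inv] at h2
      have h3 : xg D F (w r) (c r * 1) * (xg D F r 1)⁻¹ =
          (u⁻¹ * xg D F r 1 * u * (xg D F r 1)⁻¹) * (xg D F r 1 * (n * y * n⁻¹)⁻¹ * (xg D F r 1)⁻¹) := by
        rw [← h1]; group
      have h4 : xg D F (w r) (c r * 1) * (xg D F r 1)⁻¹ ∈ XS D F (Gt r) := by
        rw [h3]
        exact mul_mem h2 (norm_Gt' G (xU G hrP 1) _ (inv_mem hny))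
      have h5 := key_eq G hD hrP one_ne_zero (mul_ne_zero (hc0 r) one_ne_zero) h4
      exact ⟨h5.1, by rw [← h5.2, mul_one]⟩
  have hfix : ∀ r ∈ Qd G, w r = r := fun r hr => (step1 _ r rfl hr).1
  have hcfix : ∀ r ∈ Qd G, c r = 1 := fun r hr => (step1 _ r rfl hr).2
  have hwi : ∀ i : Fin D.rank, w (simpF G i) = simpF G i := by
    intro i
    rcases P.conn i with h1 | ⟨s, hs, hs', hca⟩
    · exact hfix _ h1
    · have h1 := hfix s hs
      have h2 := hfix _ hs'
      apply rvF_inj G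
      intro l
      have e1 := hlin s l
      have e2 := hlin (ChevNPerm.refl G i s) l
      rw [h1] at e1
      rw [h2] at e2
      have e3 : ∀ m : ℕ, G.rv (D.reflectRoot i s) m = G.rv s m - (if m = i then D.cartan i s else 0) :=
        fun m => G.rv_w i i.2 s s.2 m
      have e4 : G.rv (D.reflectRoot i s) l = ∑ m : Fin D.rank, G.rv (D.reflectRoot i s) m * G.rv (w (simpF G m)) l := e2
      have e5 : G.rv s l = ∑ m : Fin D.rank, G.rv s m * G.rv (w (simpF G m)) l := e1
      have e6 : ∑ m : Fin D.rank, G.rv (D.reflectRoot i s) m * G.rv (w (simpF G m)) l =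
          ∑ m : Fin D.rank, G.rv s m * G.rv (w (simpF G m)) l - D.cartan i s * G.rv (w (simpF G i)) l := by
        have e7 : ∀ m : Fin D.rank, G.rv (D.reflectRoot i s) m * G.rv (w (simpF G m)) l =
            G.rv s m * G.rv (w (simpF G m)) l - (if m = i then D.cartan i s * G.rv (w (simpF G i)) l else 0) := by
          intro m
          rw [e3 m]
          by_cases hm : m = i
          · subst hm; rw [if_pos rfl, if_pos rfl]; ring
          · rw [if_neg hm, if_neg (fun h => hm (Fin.ext h))]; ring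
        rw [Finset.sum_congr rfl (fun m _ => e7 m), Finset.sum_sub_distrib, Finset.sum_ite_eq' Finset.univ i,
          if_pos (Finset.mem_univ _)]
      rw [e6, ← e5, e3] at e4
      have e8 : (if (l : ℕ) = i then D.cartan i s else 0) = D.cartan i s * G.rv (w (simpF G i)) l := by linarith
      rw [rv_simpF G]
      rcases hca with h | h <;> rw [h] at e8 <;> split_ifs at e8 ⊢ with hl <;> linarith
  have hnH : n ∈ D.diagonalSubgroup F :=
    mem_diag_of_pos G hn ⟨hlin, c, hc0, hcn, hcw⟩ (fun i => by rw [hwi i]; exact pos_simpF G i)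
  have hw1 : w = 1 := mono_unique G (⟨hlin, c, hc0, hcn, hcw⟩ : Mono G n w) (mono_diag G hnH)
  -- the torus part
  have hn1 : n = 1 := by
    obtain ⟨d, hd0, hhs⟩ := ChevH.exists_hs G hnH
    have hconj : ∀ s < D.nroots, ∀ t : F, n * xg D F s t * n⁻¹ = xg D F s ((∏ i ∈ Finset.range D.rank, d i ^ D.cartan i s) * t) := by
      intro s hs t
      rw [hhs]
      exact ChevSimple.hs_conj G le_rfl hd0 hs t
    have hfx : ∀ r ∈ Qd G, (∏ i ∈ Finset.range D.rank, d i ^ D.cartan i r) = 1 := by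
      intro r hr
      have h1 := hcw r 1
      rw [hconj r r.2, hw1, hcfix r hr] at h1
      have h2 := xg_inj G r.2 h1
      simpa using h2
    have hsimp : ∀ i : Fin D.rank, (∏ l ∈ Finset.range D.rank, d l ^ D.cartan l (D.simple i)) = 1 := by
      intro i
      rcases P.conn i with h1 | ⟨s, hs, hs', hca⟩
      · exact hfx (simpF G i) h1
      · have h1 := hfx s hs
        have h2 := hfx _ hs'
        have h3 : (∏ l ∈ Finset.range D.rank, d l ^ D.cartan l (D.reflectRoot i s)) =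
            (∏ l ∈ Finset.range D.rank, d l ^ D.cartan l s) *
              (∏ l ∈ Finset.range D.rank, d l ^ D.cartan l (D.simple i)) ^ (- D.cartan i s) := by
          rw [← Finset.prod_zpow, ← Finset.prod_mul_distrib]
          refine Finset.prod_congr rfl fun l hl => ?_
          rw [G.ca_w i i.2 s s.2 l (Finset.mem_range.mp hl), ← zpow_mul, ← zpow_add₀ (hd0 l (Finset.mem_range.mp hl))]
          congr 1
          ring
        have h2' : (∏ l ∈ Finset.range D.rank, d l ^ D.cartan l (D.reflectRoot i s)) = 1 := h2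
        rw [h2', h1, one_mul] at h3
        rcases hca with h | h <;> rw [h] at h3
        · rw [zpow_neg, zpow_one] at h3
          exact inv_eq_one.mp h3.symm
        · rw [_root_.neg_neg, zpow_one] at h3
          exact h3.symm
    apply ChevSimple.H_eq_one_of_comm G hnH
    intro r hr
    rw [hconj r hr]
    have h1 : (∏ l ∈ Finset.range D.rank, d l ^ D.cartan l r) = 1 := by
      have h2 : ∀ l ∈ Finset.range D.rank, d l ^ D.cartan l r =
          ∏ m ∈ Finset.range D.rank, (d l ^ D.cartan l (D.simple m)) ^ G.rv r m := by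
        intro l hl
        rw [G.ca_lin l (Finset.mem_range.mp hl) r hr, ChevH.zpow_sum_eq (hd0 l (Finset.mem_range.mp hl))]
        refine Finset.prod_congr rfl fun m _ => ?_
        rw [← zpow_mul]
        congr 1
        ring
      rw [Finset.prod_congr rfl h2, Finset.prod_comm]
      refine Finset.prod_eq_one fun m hm => ?_
      rw [Finset.prod_zpow, hsimp ⟨m, Finset.mem_range.mp hm⟩, one_zpow]
    rw [h1, one_mul]
  rw [hn1, mul_one]
  exact mul_mem hu hu'U

/-- an element commuting with the `x_r(1)`, `r ∈ Q`, lies in `Q` -/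
theorem cent_Q (hD : Listed D) {z : GL D.Idx F} (hz : z ∈ D.group F)
    (h : ∀ r ∈ Qd G, z * xg D F r 1 = xg D F r 1 * z) : z ∈ XS D F (Qd G) := by
  have hU := cent_Q_U G P hD hz h
  rw [← XS_posS G] at hU
  obtain ⟨a, ha, b, hb, rfl⟩ := exists_factor' G (closed_posS G) (Qd G) hU
  have haQ : a ∈ XS D F (Qd G) := XS_mono Set.inter_subset_right ha
  -- the complement is closed
  have hcl : Closed F (posS D \ Qd G) := by
    refine ⟨fun r hr => hr.1, fun r hr s hs hne c hc _ k hk => ?_⟩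
    obtain ⟨h1, h2, h3⟩ := pr_comb G hr.1 hs.1 hne hc
    have h4 : pr D (hi G) r = 0 := le_antisymm (not_lt.1 hr.2) (P.dom r hr.1)
    have h5 : pr D (hi G) s = 0 := le_antisymm (not_lt.1 hs.2) (P.dom s hs.1)
    refine ⟨?_, ?_⟩
    · have := commTerms_gt G hr.1 hs.1 hne hc
      show D.nroots / 2 ≤ (k : ℕ)
      omega
    · show ¬ 0 < pr D (hi G) k
      rw [hk, h3, h4, h5]; simp
  by_cases hb1 : b = 1
  · rw [hb1, mul_one]; exact haQ
  exfalso
  have hbU : b ∈ D.posUnipotent F := by rw [← XS_posS G]; exact XS_mono (fun r hr => hr.1) hb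
  obtain ⟨s, hs, t, ht, hl⟩ := exists_lead G hbU hb1
  have hsA := lead_mem G hD hcl hs ht hb hl
  have hs0 : pr D (hi G) s = 0 := le_antisymm (not_lt.1 hsA.2) (P.dom s hs)
  obtain ⟨r, k, N, tl, hr, hk, hch, hN⟩ := P.link s hs hs0
  have hrQ : r ∈ Qd G := hr
  have hrP := pos_of_pr G P hrQ
  have h1 := lead_comm G hrP hs hch 1 hl
  obtain ⟨-, -, hPk, -⟩ := comm_xg_lead G (F := F) hrP hs hch 1 1
  have h2 := h r hrQ
  have h3 : xg D F r 1 * b * (xg D F r 1)⁻¹ * b⁻¹ ∈ XS D F {hi G} := by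
    have h4 : xg D F r 1 * b * (xg D F r 1)⁻¹ * b⁻¹ =
        (xg D F r 1 * a⁻¹ * (xg D F r 1)⁻¹ * a⁻¹⁻¹) := by
      have h5 : b * (xg D F r 1)⁻¹ * b⁻¹ = a⁻¹ * (xg D F r 1)⁻¹ * a := by
        have h6 : (a * b) * (xg D F r 1)⁻¹ * (a * b)⁻¹ = (xg D F r 1)⁻¹ := by
          have : (a * b) * (xg D F r 1)⁻¹ * (a * b)⁻¹ = ((a * b) * xg D F r 1 * (a * b)⁻¹)⁻¹ := by group
          rw [this, h2, mul_inv_cancel_right]
        calc b * (xg D F r 1)⁻¹ * b⁻¹ = a⁻¹ * ((a * b) * (xg D F r 1)⁻¹ * (a * b)⁻¹) * a := by group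
          _ = _ := by rw [h6]
      calc xg D F r 1 * b * (xg D F r 1)⁻¹ * b⁻¹ = xg D F r 1 * (b * (xg D F r 1)⁻¹ * b⁻¹) := by group
        _ = _ := by rw [h5]; group
    rw [h4]
    exact comm_Q G P (xg_mem_XS hrQ 1) (inv_mem haQ)
  have hN0 : (N : F) ≠ 0 := by rcases hN with h | h <;> rw [h] <;> simp
  have h4 := lead_mem G hD (closed_single G (pos_hi G)) hPk (mul_ne_zero (mul_ne_zero hN0 one_ne_zero) ht) h3 h1
  exact hk (Set.mem_singleton_iff.1 h4)

end

end Cfsg.Agent.Lib.Sfo
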