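import Cfsg.Agent.Lib.SftCo
import Cfsg.Agent.Lib.SfoDatA
import Cfsg.Agent.Lib.TwE6
set_option autoImplicit false
set_option linter.unusedSectionVars false
set_option linter.unusedVariables false

/-!
The subgroups of ²E₆(q) containing the elements over the ground field (helper44).
-/

namespace Cfsg.Agent.Lib.Sft
open Cfsg.Lie Cfsg.Agent.Lib.ChevX Cfsg.Agent.Lib.ChevGood Cfsg.Agent.Lib.ChevRel Cfsg.Agent.Lib.ChevNPerm
  Cfsg.Agent.Lib.ChevBruhat Cfsg.Agent.Lib.ChevRadCent Cfsg.Agent.Lib.ChevFix Cfsg.Agent.Lib.ChevInv Cfsg.Agent.Lib.Sfo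
  Cfsg.Agent.Lib.TwFix Cfsg.Agent.Lib.TwTab
open Cfsg.Agent.Lib.ChevClosed hiding pr
open scoped MatrixGroups Matrix

/-- a quadratic extension is spanned by `1` and any other element -/
theorem two_span {F : Type*} [Field F] {σ : F ≃+* F} (h2 : ∀ t, σ (σ t) = t) {t : F} (ht : σ t ≠ t) (u : F) :
    ∃ x y, σ x = x ∧ σ y = y ∧ u = x + y * t := by
  have h0 : t - σ t ≠ 0 := fun h => ht (sub_eq_zero.1 h).symm
  obtain ⟨y, hy⟩ : ∃ y, y = (u - σ u) / (t - σ t) := ⟨_, rfl⟩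
  have hσy : σ y = y := by
    rw [hy, map_div₀, map_sub, map_sub, h2, h2, ← neg_sub u, ← neg_sub t, neg_div_neg_eq]
  have h1 : y * (t - σ t) = u - σ u := by rw [hy, div_mul_cancel₀ _ h0]
  refine ⟨u - y * t, y, ?_, hσy, by ring⟩
  rw [map_sub, map_mul, hσy]
  linear_combination h1

namespace E6

def Ht : List ℕ := [0, 0, 0, 0, 0, 0, 0, 0, 0, 0, 0, 0, 0, 0, 0, 0, 0, 0, 0, 0, 0, 0, 0, 0, 0, 0, 0, 0, 0, 0, 0, 0, 0, 0, 0, 0,
  1, 1, 2, 1, 2, 3, 1, 2, 3, 4, 1, 2, 3, 4, 3, 4, 5, 5, 6, 7, 1, 2, 3, 4, 5, 4, 5, 6, 6, 7, 8, 7, 8, 9, 10, 11]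

def L : List (Fin chevE6.nroots × ℤ) := [(⟨71, by decide⟩, 3), (⟨70, by decide⟩, 2), (⟨69, by decide⟩, 2), (⟨65, by decide⟩, 1)]

theorem cg : grB chevE6 Ht = true := by decide +kernel
theorem ct : tsB tabE6 chevE6 Ht 2 = true := by decide +kernel
theorem cc : tcB tabE6 chevE6 L 2 = true := by decide +kernel
theorem cl : tlB tabE6 chevE6 46 70 25 = true := by decide +kernel
theorem cp : pnB tabE6 = true := by decide +kernel
theorem cb : btB tabE6 chevE6 Ht 2 68 [] = true := by decide +kernel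

variable {K : Type*} [Field K] [Fintype K] {q : ℕ} (hq : IsPrimePow q) (hK : Fintype.card K = q ^ 2)

theorem frob2 (t : K) : TwE6.frob hq hK (TwE6.frob hq hK t) = t := by
  rw [TwE6.frob_eq, TwE6.frob_eq, ← pow_mul, ← sq]
  exact TwE6.hT hK t

theorem X : TS (TwE6.T hq hK) (genG (TwE6.sig hq hK) chk1E6 chk2E6 chk3E6 TwE6.listed (TwE6.sig_e hq hK) TwE6.chkJ)
    (grOf TwE6.G cg) (TwE6.frob hq hK) :=
  tsFam (TwE6.sig hq hK) chk1E6 chk2E6 chk3E6 TwE6.listed (TwE6.sig_e hq hK) TwE6.chkJ chk4E6 chk5E6 (TwE6.all hq hK) cg ct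
    (fun t => (TwE6.frob_eq hq hK t).symm) (i := 1) (by decide) rfl

theorem P : TC (TwE6.T hq hK) := tcOf (TwE6.sig hq hK) chk1E6 chk2E6 TwE6.listed datE6.par ct cc

theorem V : TL (TwE6.T hq hK) := tlOf (TwE6.sig hq hK) chk1E6 chk2E6 TwE6.listed cl

theorem main {H : Subgroup (GL chevE6.Idx K)} (Z : TH (TwE6.T hq hK) (TwE6.frob hq hK) H) :
    H = (TwE6.T hq hK).fix ∨ ∀ g ∈ H, em chevE6 (TwE6.frob hq hK : K →+* K) g = g := by
  refine dicho (TwE6.sig hq hK) chk1E6 chk2E6 chk3E6 TwE6.listed (TwE6.sig_e hq hK) TwE6.chkJ chk4E6 chk5E6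
    (TwE6.all hq hK) cg ct (X hq hK) (P hq hK) (V hq hK) Z cp (β := ⟨68, by decide⟩) (ex := []) cb ?_ ?_
  · intro r hr
    simp at hr
  · rintro ⟨t, ht, hne⟩ u
    obtain ⟨x, y, hx, hy, rfl⟩ := two_span (frob2 hq hK) hne u
    have hβ : Pos chevE6 (⟨68, by decide⟩ : Fin chevE6.nroots) := by unfold Pos; decide
    have hp : Cfsg.Agent.Lib.ChevRel.pr chevE6 (hi TwE6.G : Fin chevE6.nroots) 68 = 1 := by decide +kernel
    have h1 := as_smul (X hq hK) Z hβ (X hq hK).hhi hp hx (as_one (X hq hK) Z hβ)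
    have h2 := as_smul (X hq hK) Z hβ (X hq hK).hhi hp hy ht
    rw [mul_one] at h1
    exact as_add hβ h1 h2

end E6

end Cfsg.Agent.Lib.Sft
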