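import Cfsg.Agent.Lib.SftTab
import Cfsg.Agent.Lib.TwGFEnd
set_option autoImplicit false
set_option linter.unusedSectionVars false
set_option linter.unusedVariables false

/-!
Subgroups of twisted groups containing the elements over the ground field: the families (helper44).
-/

namespace Cfsg.Agent.Lib.Sft
open Cfsg.Lie Cfsg.Agent.Lib.ChevX Cfsg.Agent.Lib.ChevGood Cfsg.Agent.Lib.ChevRel Cfsg.Agent.Lib.ChevNPerm
  Cfsg.Agent.Lib.ChevBruhat Cfsg.Agent.Lib.ChevRadCent Cfsg.Agent.Lib.ChevFix Cfsg.Agent.Lib.ChevInv Cfsg.Agent.Lib.Sfo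
  Cfsg.Agent.Lib.TwFix Cfsg.Agent.Lib.TwTab
open Cfsg.Agent.Lib.ChevClosed hiding pr
open scoped MatrixGroups Matrix

variable {D : ChevalleyDatum} {F : Type*} [Field F]

section fam
variable {G : Good D} {C : Tab} (S : SigData G C F) (h1 : C.chk1 D = true) (h2 : C.chk2 = true)
  (h3 : C.chk3 D = true) (hD : Listed D) {q : ℕ} (he : ∀ r, S.e r = q) (hJ : C.chkJ D = true)

/-- the fundamental reflections -/
noncomputable abbrev genG : TwGen (S.sys h1 h2 hD) C.nz := gen S h1 h2 h3 hD fun j hj =>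
    (Γ0_le S h1 h2 h3 hD he hJ) (nl_mem_Γ0 S h1 h2 he hJ h3 hj)

variable (h4 : C.chk4 D 0 = true) (h5 : C.chk5 = true)

theorem tsFam (K : TwAll (blkG S h1 h2 h3 hD he hJ h4 h5) (Γ0 D F C q)) {H : List ℕ} {d : ℕ}
    (hg : grB D H = true) (ht : tsB C D H d = true) {σ : F ≃+* F} (hσ : ∀ t : F, t ^ q = σ t) {i : ℕ} (hi0 : i < D.rank)
    (hp : C.p i = i) : TS (S.sys h1 h2 hD) (genG S h1 h2 h3 hD he hJ) (grOf G hg) σ := by
  obtain ⟨ht1, ht2, ht3⟩ := tsB_iff ht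
  have hn := (Tab.c1 h1).1
  have hrank := (Tab.c1 h1).2.1
  have hhi : ((hi G : Fin D.nroots) : ℕ) = C.n - 1 := by rw [hn]; rfl
  have hsm := (Tab.c1 h1).2.2.1 i hi0
  have hrs := ((Tab.c2 h2).2 i (by omega)).2.1
  rw [hp] at hrs
  refine tsOf K (fun r => (ht1 r (by omega)).2.2.2.2.1) (fun r t => ?_) (fun r => S.eps_one h1 h2 r r.2)
    (fun r => (ht1 r (by omega)).1) (fun r s => (ht1 r (by omega)).2.2.2.2.2 s (by omega)) ?_ ?_ ?_
    (s0 := simpF G ⟨i, hi0⟩) ?_ ?_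
  · show t ^ S.e (C.fcN r) = σ t
    rw [he, hσ]
  · intro r s hs hne
    obtain ⟨m, hm, hm2⟩ := mem_Ob S h1 h2 hD ht3 (fun r hr => (ht1 r hr).2.1) hs
    rcases (ht1 r (by omega)).2.2.1 m hm with h | h
    · exact absurd (Fin.ext (by rw [← hm2]; exact h)) hne
    · rw [hm2] at h; exact h
  · intro s hs
    have hs' : C.rh s = s := congrArg Fin.val hs
    rcases (ht1 s (by omega)).2.2.2.1 hs' with h | ⟨j, hj, h⟩
    · exact Or.inl (Fin.ext (by rw [h]; exact hhi.symm))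
    · refine Or.inr ⟨⟨j, hj⟩, ?_⟩
      rw [Fin.lt_def]
      have h7 : (((genG S h1 h2 h3 hD he hJ).wj ⟨j, hj⟩ s : Fin D.nroots) : ℕ) = C.wlN (C.jwN j) s :=
        wlj_eq (G := G) h1 h3 hj s
      rw [h7]; exact h
  · apply Fin.ext
    show C.rh ((hi G : Fin D.nroots) : ℕ) = (hi G : Fin D.nroots)
    rw [hhi]; exact ht2
  · apply Fin.ext
    show C.rh (D.simple i) = D.simple i
    rw [hsm.1]; exact hrs
  · have h6 := s_simple S h1 h2 hD hi0 1
    rw [hp, one_pow] at h6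
    have h7 := (S.sys h1 h2 hD).s_x (simpF G ⟨i, hi0⟩) 1
    rw [one_pow, mul_one] at h7
    have h8 : (S.sys h1 h2 hD).ρ (simpF G ⟨i, hi0⟩) = simpF G ⟨i, hi0⟩ := by
      apply Fin.ext
      show C.rh (D.simple i) = D.simple i
      rw [hsm.1]; exact hrs
    rw [h8] at h7
    exact xg_inj G (simpF G ⟨i, hi0⟩).2 (h7.symm.trans h6)

end fam

end Cfsg.Agent.Lib.Sft
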