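import Cfsg.Agent.Lib.SftOpp
set_option autoImplicit false
set_option linter.unusedSectionVars false
set_option linter.unusedVariables false

/-!
Subgroups of twisted groups containing the elements over the ground field: a line of root elements (helper44).
-/

namespace Cfsg.Agent.Lib.Sft
open Cfsg.Lie Cfsg.Agent.Lib.ChevX Cfsg.Agent.Lib.ChevGood Cfsg.Agent.Lib.ChevRel Cfsg.Agent.Lib.ChevNPerm
  Cfsg.Agent.Lib.ChevBruhat Cfsg.Agent.Lib.ChevRadCent Cfsg.Agent.Lib.ChevFix Cfsg.Agent.Lib.ChevInv Cfsg.Agent.Lib.Sfo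
  Cfsg.Agent.Lib.TwFix
open Cfsg.Agent.Lib.ChevClosed hiding pr
open scoped MatrixGroups Matrix

variable {D : ChevalleyDatum} {F : Type*} [Field F]

/-- a line through the highest root -/
structure TL (T : TwSys D F) : Prop where
  line : ∃ (a s k1 : Fin D.nroots) (N N1 : ℤ), T.ρ a = a ∧ T.ρ s = s ∧ Pos D a ∧ s ∈ Qd T.G ∧ s ≠ a ∧ s ≠ hi T.G ∧
    Hit D a s (hi T.G) N ∧ (N = 1 ∨ N = -1) ∧ Hit D s (negF T.G (hi T.G)) k1 N1 ∧
    D.commTerms (negF T.G (hi T.G)) k1 = [] ∧ k1 ≠ negF T.G (hi T.G) ∧ k1 ≠ hi T.G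

/-- commutators in the radical with a root element -/
theorem hi_form {G : Good D} (Y : Gr G) (P : Par G) {s : Fin D.nroots} (hs : s ∈ Qd G) {a : GL D.Idx F}
    (ha : a ∈ XS D F (Qd G)) : ∃ b : F, ∀ t : F, a * xg D F s t * a⁻¹ = xg D F (hi G) (b * t) * xg D F s t := by
  have hsP := pos_of_pr G P hs
  have hcomm : ∀ (c t : F), xg D F s t * xg D F (hi G) c = xg D F (hi G) c * xg D F s t := by
    intro c t
    have := hi_comm G (xU G hsP t) c
    rw [mul_inv_eq_iff_eq_mul] at this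
    exact this
  unfold XS at ha
  induction ha using Subgroup.closure_induction with
  | mem x hx =>
    obtain ⟨r, hr, e, rfl⟩ := hx
    have hrP := pos_of_pr G P hr
    by_cases hex : ∃ (k : Fin D.nroots) (N : ℤ), s ≠ r ∧ Hit D r s k N
    · obtain ⟨k, N, hne, hit⟩ := hex
      have hk : k = hi G := by
        apply P.top
        have hc : ((k : ℕ), N, 1, 1) ∈ D.commTerms r s := by
          rw [show D.commTerms r s = [((k : ℕ), N, 1, 1)] from hit]; simp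
        obtain ⟨h6, h7, h8⟩ := pr_comb G hrP hsP hne hc
        simp only at h8
        rw [h8]
        have h9 : 0 < pr D (hi G) r := hr
        have h10 : 0 < pr D (hi G) s := hs
        push_cast
        omega
      subst hk
      refine ⟨(N : F) * e, fun t => ?_⟩
      rw [comm_hit G hne (ne_negF G hrP hsP) hit e t, hcomm]
    · refine ⟨0, fun t => ?_⟩
      rw [zero_mul, xg_zero G, one_mul]
      rcases comm_xx Y (F := F) hrP hsP e t with h | ⟨k, N, hne, hit, -⟩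
      · rw [mul_inv_eq_one] at h; exact h
      · exact absurd ⟨k, N, hne, hit⟩ hex
  | one => exact ⟨0, fun t => by rw [zero_mul, xg_zero G]; group⟩
  | mul x y hx' hy' hx hy =>
    obtain ⟨b, hb⟩ := hx
    obtain ⟨b', hb'⟩ := hy
    refine ⟨b + b', fun t => ?_⟩
    have hxU : x ∈ D.posUnipotent F := by
      rw [← XS_posS G]; exact XS_mono (fun r hr => pos_of_pr G P hr) hx'
    have h1 := hi_comm G hxU (b' * t)
    calc x * y * xg D F s t * (x * y)⁻¹ = x * (y * xg D F s t * y⁻¹) * x⁻¹ := by group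
      _ = (x * xg D F (hi G) (b' * t) * x⁻¹) * (x * xg D F s t * x⁻¹) := by rw [hb']; group
      _ = xg D F (hi G) (b' * t) * (xg D F (hi G) (b * t) * xg D F s t) := by rw [h1, hb]
      _ = _ := by rw [← mul_assoc, xg_add G]; congr 2; ring
  | inv x hx' hx =>
    obtain ⟨b, hb⟩ := hx
    refine ⟨-b, fun t => ?_⟩
    have hxU : x ∈ D.posUnipotent F := by
      rw [← XS_posS G]; exact XS_mono (fun r hr => pos_of_pr G P hr) hx'
    have h1 := hi_comm G (inv_mem hxU) (-b * t)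
    rw [inv_inv] at h1
    have h2 : x⁻¹ * (x * xg D F s t * x⁻¹) * x = xg D F s t := by group
    have h3 : x⁻¹ * xg D F (hi G) (b * t) * x * (x⁻¹ * xg D F s t * x) = xg D F s t := by
      rw [← h2]
      conv_rhs => rw [hb]
      group
    have h4 : x⁻¹ * xg D F (hi G) (b * t) * x = xg D F (hi G) (b * t) := by
      have := hi_comm G (inv_mem hxU) (b * t)
      rwa [inv_inv] at this
    rw [h4] at h3
    rw [inv_inv, neg_mul, xg_neg G, eq_inv_mul_iff_mul_eq]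
    exact h3

section
variable {T : TwSys D F} {k : ℕ} {W : TwGen T k} {Y : Gr T.G} {σ : F ≃+* F} (X : TS T W Y σ) (P : TC T) (V : TL T)
  {H : Subgroup (GL D.Idx F)} (Z : TH T σ H) (C : CC T Y σ H)
include X P Z C V

open Cfsg.Agent.Lib.SL2Pres in
/-- all elements of `H` are fixed -/
theorem all_fixed {g : GL D.Idx F} (hg : g ∈ H) : em D (σ : F →+* F) g = g := by
  by_contra hne
  have hD := T.hD
  obtain ⟨u, ⟨hu, huT⟩, n, ⟨hn, hnT⟩, w, hw, u', ⟨hu', hu'T⟩, hge⟩ := T.fix_bruhat (Z.le hg)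
  have hu'U : u' ∈ D.posUnipotent F := by
    rw [← XS_posS T.G]; exact XS_mono (fun r hr => hr.1) hu'
  have hwhi : w (hi T.G) = negF T.G (hi T.G) := by
    by_contra hcon
    exact hne (low X P Z C hg hu huT hn hnT hw hu'U hge hcon)
  -- factor `u'`
  have hu'i := inv_mem hu'U
  rw [← XS_posS T.G] at hu'i
  obtain ⟨a', ha', b', hb', hab⟩ := exists_factor' T.G (closed_posS T.G) (Qd T.G) hu'i
  have hclQ : Closed F (posS D ∩ Qd T.G) := by
    have : posS D ∩ Qd T.G = Qd T.G := by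
      ext r; exact ⟨fun h => h.2, fun h => ⟨pos_of_pr T.G P.par h, h⟩⟩
    rw [this]; exact closed_Q T.G P.par F
  have hclL : Closed F (posS D \ Qd T.G) := by
    refine ⟨fun r hr => hr.1, fun r hr s hs hne c hc _ k hk => ?_⟩
    obtain ⟨h1, h2, h3⟩ := pr_comb T.G hr.1 hs.1 hne hc
    have h4 : pr D (hi T.G) r = 0 := le_antisymm (not_lt.1 hr.2) (P.par.dom r hr.1)
    have h5 : pr D (hi T.G) s = 0 := le_antisymm (not_lt.1 hs.2) (P.par.dom s hs.1)
    refine ⟨?_, ?_⟩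
    · have := commTerms_gt T.G hr.1 hs.1 hne hc
      show D.nroots / 2 ≤ (k : ℕ)
      omega
    · show ¬ 0 < pr D (hi T.G) k
      rw [hk, h3, h4, h5]; simp
  have hρQ : ∀ r, T.ρ r ∈ Qd T.G ↔ r ∈ Qd T.G := fun r => ob_Q X P (r := r) (s := T.ρ r) ⟨1, by simp⟩
  have habT := factor_fix T hclQ hclL
    (fun r hr => ⟨(T.ρ_pos r).2 hr.1, (hρQ r).2 hr.2⟩)
    (fun r hr => ⟨(T.ρ_pos r).2 hr.1, fun h => hr.2 ((hρQ r).1 h)⟩)
    (by ext r; simp only [Set.mem_inter_iff, Set.mem_sdiff, Set.mem_empty_iff_false, iff_false]; rintro ⟨⟨-, h1⟩, -, h2⟩; exact h2 h1)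
    ha' hb' (by rw [← hab]; exact inv_mem hu'T)
  obtain ⟨a, haa⟩ : ∃ a, a = a'⁻¹ := ⟨_, rfl⟩
  obtain ⟨b, hbb⟩ : ∃ b, b = b'⁻¹ := ⟨_, rfl⟩
  have haQ : a ∈ XS D F (Qd T.G) := by rw [haa]; exact inv_mem (XS_mono Set.inter_subset_right ha')
  have haT : a ∈ T.fix := by rw [haa]; exact inv_mem habT.1
  have hb0 : b ∈ XS D F {r | pr D (hi T.G) r = 0} := by
    rw [hbb]
    refine inv_mem (XS_mono ?_ hb')
    rintro r ⟨h3, h4⟩
    exact le_antisymm (not_lt.1 h4) (P.par.dom r h3)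
  have hu'e : u' = b * a := by rw [haa, hbb, ← mul_inv_rev, ← hab, inv_inv]
  obtain ⟨α, s, k1, N, N1, hα, hs, hαP, hsQ, hsα, hshi, hit, hN, hit1, hk1, hk2, hk3⟩ := V.line
  have hsP := pos_of_pr T.G P.par hsQ
  obtain ⟨β, hβ⟩ := hi_form Y P.par hsQ haQ
  -- `β` is fixed
  have hβσ : σ β = β := by
    have h1 := hβ 1
    rw [mul_one] at h1
    have h2 : xg D F (hi T.G) β ∈ T.fix := by
      have h3 : xg D F (hi T.G) β = a * xg D F s 1 * a⁻¹ * (xg D F s 1)⁻¹ := by rw [h1]; group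
      have h4 := (X.xg_fix_iff hs 1).2 (map_one σ)
      rw [h3]
      exact mul_mem (mul_mem (mul_mem haT h4) (inv_mem haT)) (inv_mem h4)
    exact (X.xg_fix_iff X.hhi β).1 h2
  have hNN : ((N : ℤ) : F) * (N : F) = 1 := by rcases hN with h | h <;> rw [h] <;> simp
  -- the conjugating element
  obtain ⟨L, hL⟩ := X.exists_word hs
  obtain ⟨-, d, hd0, -, hd2⟩ := word_mono (W := W) L
  have hdσ := X.mono_fix hd2 (word_em L)
  obtain ⟨m, hm⟩ : ∃ m, m = xg D F α (-(N : F) * β) * (L.map W.nj).prod := ⟨_, rfl⟩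
  have hασ : σ (-(N : F) * β) = -(N : F) * β := by rw [map_mul, map_neg, map_intCast, hβσ]
  have hmH : m ∈ H := by rw [hm]; exact mul_mem (xg_mem_H X Z hα hασ) (word_H Z L)
  have hmf : em D (σ : F →+* F) m = m := by
    rw [hm, map_mul, word_em, em_xg T.G]
    simp only [RingHom.coe_coe]
    rw [hασ]
  have hy : m * xg D F (hi T.G) ((d (hi T.G))⁻¹) * m⁻¹ = a⁻¹ * xg D F s 1 * a := by
    have h1 := hd2 (hi T.G) ((d (hi T.G))⁻¹)
    rw [hL, mul_inv_cancel₀ (hd0 _)] at h1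
    have h2 := comm_hit T.G (F := F) hsα (ne_negF T.G hαP hsP) hit (-(N : F) * β) 1
    have h3 : (N : F) * (-(N : F) * β) * 1 = -β := by linear_combination (-β) * hNN
    rw [h3] at h2
    have h4 : m * xg D F (hi T.G) ((d (hi T.G))⁻¹) * m⁻¹ = xg D F s 1 * xg D F (hi T.G) (-β) := by
      rw [← h2, ← h1, hm]; group
    rw [h4]
    have h5 := hβ 1
    rw [mul_one] at h5
    have haU : a ∈ D.posUnipotent F := by rw [← XS_posS T.G]; exact XS_mono (fun r hr => pos_of_pr T.G P.par hr) haQ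
    have h6 := hi_comm T.G haU (-β)
    have h7 : a * (xg D F s 1 * xg D F (hi T.G) (-β)) * a⁻¹ = xg D F s 1 := by
      have h8 : a * (xg D F s 1 * xg D F (hi T.G) (-β)) * a⁻¹ = (a * xg D F s 1 * a⁻¹) * (a * xg D F (hi T.G) (-β) * a⁻¹) := by
        group
      have h9 := hi_comm T.G (xU T.G hsP (1 : F)) (-β)
      rw [mul_inv_eq_iff_eq_mul] at h9
      rw [h8, h6, h5, mul_assoc, h9, ← mul_assoc, xg_add T.G, add_neg_cancel, xg_zero T.G, one_mul]
    calc xg D F s 1 * xg D F (hi T.G) (-β) = a⁻¹ * (a * (xg D F s 1 * xg D F (hi T.G) (-β)) * a⁻¹) * a := by group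
      _ = _ := by rw [h7]
  -- the second Bruhat form
  have hgm : g * m ∈ H := mul_mem hg hmH
  have hgmne : em D (σ : F →+* F) (g * m) ≠ g * m := by
    rw [map_mul, hmf]
    intro h
    exact hne (mul_right_cancel h)
  obtain ⟨u1, ⟨hu1, hu1T⟩, n1, ⟨hn1, hn1T⟩, w1, hw1, u1', ⟨hu1', hu1'T⟩, hge1⟩ := T.fix_bruhat (Z.le hgm)
  have hu1'U : u1' ∈ D.posUnipotent F := by
    rw [← XS_posS T.G]; exact XS_mono (fun r hr => hr.1) hu1'
  have hw1hi : w1 (hi T.G) = negF T.G (hi T.G) := by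
    by_contra hcon
    exact hgmne (low X P Z C hgm hu1 hu1T hn1 hn1T hw1 hu1'U hge1 hcon)
  obtain ⟨-, c1, hc10, -, hc12⟩ := hw1
  have hv1 := conj_hi T.G hc12 hu1'U (u := u1) ((d (hi T.G))⁻¹)
  rw [← hge1, hw1hi] at hv1
  obtain ⟨e1, he1⟩ : ∃ e1, e1 = c1 (hi T.G) * (d (hi T.G))⁻¹ := ⟨_, rfl⟩
  have he10 : e1 ≠ 0 := by rw [he1]; exact mul_ne_zero (hc10 _) (inv_ne_zero (hd0 _))
  rw [← he1] at hv1
  -- the element `k = u n b`
  obtain ⟨κ, hκ⟩ : ∃ κ, κ = u * n * b := ⟨_, rfl⟩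
  have hgκ : g = κ * a := by rw [hge, hκ, hu'e]; group
  have hvk : g * m * xg D F (hi T.G) ((d (hi T.G))⁻¹) * (g * m)⁻¹ = κ * xg D F s 1 * κ⁻¹ := by
    calc g * m * xg D F (hi T.G) ((d (hi T.G))⁻¹) * (g * m)⁻¹
        = g * (m * xg D F (hi T.G) ((d (hi T.G))⁻¹) * m⁻¹) * g⁻¹ := by group
      _ = _ := by rw [hy, hgκ]; group
  have hw0 := hw
  obtain ⟨-, c, hc0, -, hc2⟩ := hw
  obtain ⟨e, he⟩ : ∃ e, e = (c (negF T.G (hi T.G)))⁻¹ := ⟨_, rfl⟩
  have hwneg : w (negF T.G (hi T.G)) = hi T.G := by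
    have h1 := mono_pr T.G hn hw0 (hi T.G) (negF T.G (hi T.G))
    rw [hwhi, show ((negF T.G (hi T.G) : Fin D.nroots) : ℕ) = D.neg (hi T.G) from rfl, pr_neg_left T.G (hi T.G).2,
      pr_neg_right T.G (hi T.G).2, pr_self T.G (hi T.G).2] at h1
    apply P.par.top
    omega
  have hκx : κ * xg D F (negF T.G (hi T.G)) e * κ⁻¹ = xg D F (hi T.G) 1 := by
    have h1 := comm_orth T.G P.par hb0 (Or.inr rfl) e
    have h2 := hc2 (negF T.G (hi T.G)) e
    rw [hwneg, he, mul_inv_cancel₀ (hc0 _), ← he] at h2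
    calc κ * xg D F (negF T.G (hi T.G)) e * κ⁻¹
        = u * (n * (b * xg D F (negF T.G (hi T.G)) e * b⁻¹) * n⁻¹) * u⁻¹ := by rw [hκ]; group
      _ = u * (n * xg D F (negF T.G (hi T.G)) e * n⁻¹) * u⁻¹ := by rw [h1, mul_inv_cancel_right]
      _ = _ := by rw [h2, hi_comm T.G hu]
  -- the commutation relation
  have hA : (xg D F s 1 * xg D F (negF T.G (hi T.G)) e * (xg D F s 1)⁻¹) * xg D F (negF T.G (hi T.G)) e =
      xg D F (negF T.G (hi T.G)) e * (xg D F s 1 * xg D F (negF T.G (hi T.G)) e * (xg D F s 1)⁻¹) := by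
    have h1 := comm_hit T.G (F := F) (r := s) (s := negF T.G (hi T.G)) (k := k1)
      (by
        rintro h
        have h2 := pos_negF T.G (s := hi T.G)
        rw [h] at h2
        exact h2.1 hsP (pos_hi T.G))
      (by
        intro h
        have h2 := congrArg (negF T.G) h
        rw [negF_negF, negF_negF] at h2
        exact hshi h2.symm) hit1 1 e
    have h2 := comm_of_nil T.G (F := F) (r := negF T.G (hi T.G)) (s := k1) hk2 (by rw [negF_negF]; exact hk3) hk1 e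
      ((N1 : F) * 1 * e)
    rw [h1, mul_assoc, h2]
  have hB : (κ * xg D F s 1 * κ⁻¹ * xg D F (hi T.G) 1 * (κ * xg D F s 1 * κ⁻¹)⁻¹) * xg D F (hi T.G) 1 =
      xg D F (hi T.G) 1 * (κ * xg D F s 1 * κ⁻¹ * xg D F (hi T.G) 1 * (κ * xg D F s 1 * κ⁻¹)⁻¹) := by
    rw [← hκx]
    calc κ * xg D F s 1 * κ⁻¹ * (κ * xg D F (negF T.G (hi T.G)) e * κ⁻¹) * (κ * xg D F s 1 * κ⁻¹)⁻¹ *
          (κ * xg D F (negF T.G (hi T.G)) e * κ⁻¹)
        = κ * ((xg D F s 1 * xg D F (negF T.G (hi T.G)) e * (xg D F s 1)⁻¹) * xg D F (negF T.G (hi T.G)) e) * κ⁻¹ := by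
          group
      _ = _ := by rw [hA]; group
  rw [← hvk, hv1] at hB
  have hCc : (xg D F (negF T.G (hi T.G)) e1 * xg D F (hi T.G) 1 * (xg D F (negF T.G (hi T.G)) e1)⁻¹) * xg D F (hi T.G) 1 =
      xg D F (hi T.G) 1 * (xg D F (negF T.G (hi T.G)) e1 * xg D F (hi T.G) 1 * (xg D F (negF T.G (hi T.G)) e1)⁻¹) := by
    have h1 := hi_comm T.G hu1 (1 : F)
    have h2 := hi_comm T.G (inv_mem hu1) (1 : F)
    rw [inv_inv] at h2
    have h3 : u1 * xg D F (negF T.G (hi T.G)) e1 * u1⁻¹ * xg D F (hi T.G) 1 * (u1 * xg D F (negF T.G (hi T.G)) e1 * u1⁻¹)⁻¹ =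
        u1 * (xg D F (negF T.G (hi T.G)) e1 * xg D F (hi T.G) 1 * (xg D F (negF T.G (hi T.G)) e1)⁻¹) * u1⁻¹ := by
      nth_rewrite 2 [← h2]
      group
    rw [h3] at hB
    have h4 : u1⁻¹ * (u1 * (xg D F (negF T.G (hi T.G)) e1 * xg D F (hi T.G) 1 * (xg D F (negF T.G (hi T.G)) e1)⁻¹) * u1⁻¹ *
        xg D F (hi T.G) 1) * u1 = u1⁻¹ * (xg D F (hi T.G) 1 *
        (u1 * (xg D F (negF T.G (hi T.G)) e1 * xg D F (hi T.G) 1 * (xg D F (negF T.G (hi T.G)) e1)⁻¹) * u1⁻¹)) * u1 := by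
      rw [hB]
    have h5 : u1⁻¹ * (u1 * (xg D F (negF T.G (hi T.G)) e1 * xg D F (hi T.G) 1 * (xg D F (negF T.G (hi T.G)) e1)⁻¹) * u1⁻¹ *
        xg D F (hi T.G) 1) * u1 = (xg D F (negF T.G (hi T.G)) e1 * xg D F (hi T.G) 1 * (xg D F (negF T.G (hi T.G)) e1)⁻¹) *
        (u1⁻¹ * xg D F (hi T.G) 1 * u1) := by group
    have h6 : u1⁻¹ * (xg D F (hi T.G) 1 *
        (u1 * (xg D F (negF T.G (hi T.G)) e1 * xg D F (hi T.G) 1 * (xg D F (negF T.G (hi T.G)) e1)⁻¹) * u1⁻¹)) * u1 =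
        (u1⁻¹ * xg D F (hi T.G) 1 * u1) *
        (xg D F (negF T.G (hi T.G)) e1 * xg D F (hi T.G) 1 * (xg D F (negF T.G (hi T.G)) e1)⁻¹) := by group
    rw [h5, h6, h2] at h4
    exact h4
  obtain ⟨φ, hφ, hφ1, hφ2⟩ := exists_phi (F := F) T.G hD P.one
  rw [← hφ1, ← hφ2, ← map_inv, ← map_mul, ← map_mul, ← map_mul, ← map_mul] at hCc
  have h1 := hφ hCc
  have h2 : (E' e1 : SL(2, F))⁻¹ = E' (-e1) := by
    apply inv_eq_of_mul_eq_one_right
    apply Subtype.ext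
    rw [Matrix.SpecialLinearGroup.coe_mul, coe_E', coe_E', Matrix.mul_fin_two, Matrix.SpecialLinearGroup.coe_one]
    ext i j
    fin_cases i <;> fin_cases j <;> simp
  rw [h2] at h1
  have h3 := congrArg (fun g : SL(2, F) => (g : Matrix (Fin 2) (Fin 2) F) 0 0) h1
  simp only [Matrix.SpecialLinearGroup.coe_mul, coe_E, coe_E', Matrix.mul_apply, Fin.sum_univ_two] at h3
  simp at h3
  have h4 : e1 * e1 = 0 := by linear_combination -h3
  exact he10 (mul_self_eq_zero.1 h4)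

end

end Cfsg.Agent.Lib.Sft
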