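import Cfsg.Agent.Lib.SfoMain
set_option autoImplicit false
set_option linter.unusedSectionVars false
set_option linter.unusedVariables false

/-!
Coordinates of unipotent elements with respect to the height filtration (helper44).
-/

namespace Cfsg.Agent.Lib.Sft
open Cfsg.Lie Cfsg.Agent.Lib.ChevX Cfsg.Agent.Lib.ChevGood Cfsg.Agent.Lib.ChevRel Cfsg.Agent.Lib.ChevNPerm
  Cfsg.Agent.Lib.ChevBruhat Cfsg.Agent.Lib.ChevRadCent Cfsg.Agent.Lib.ChevFix Cfsg.Agent.Lib.ChevInv Cfsg.Agent.Lib.Sfo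
open Cfsg.Agent.Lib.ChevClosed hiding pr
open scoped MatrixGroups Matrix

variable {D : ChevalleyDatum} {F : Type*} [Field F]

/-- `k = r + s` with structure constant `N` -/
def Hit (D : ChevalleyDatum) (r s k : ℕ) (N : ℤ) : Prop := D.commTerms r s = [(k, N, 1, 1)]

/-- heights for a simply laced type -/
structure Gr (G : Good D) where
  h : Fin D.nroots → ℕ
  pos : ∀ r, Pos D r → 0 < h r
  cm : ∀ r s, Pos D r → Pos D s → s ≠ r → D.commTerms r s = [] ∨ ∃ (k : Fin D.nroots) (N : ℤ),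
    Hit D r s k N ∧ (N = 1 ∨ N = -1) ∧ Pos D k ∧ h k = h r + h s

section
variable {G : Good D} (Γ : Gr G)

/-- roots of height at least `n` -/
def Gr.Ah (n : ℕ) : Set (Fin D.nroots) := {r | Pos D r ∧ n ≤ Γ.h r}

/-- a set absorbing sums with positive roots -/
structure Idl (A : Set (Fin D.nroots)) : Prop where
  pos : ∀ r ∈ A, Pos D r
  abs : ∀ q, Pos D q → ∀ s ∈ A, s ≠ q → ∀ (k : Fin D.nroots) (N : ℤ), Hit D q s k N → k ∈ A

variable {Γ}

theorem idl_Ah (n : ℕ) : Idl (Γ.Ah n) := by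
  refine ⟨fun r hr => hr.1, fun q hq s hs hsq k N hk => ?_⟩
  rcases Γ.cm q s hq hs.1 hsq with h | ⟨k', N', h, -, hp, hh⟩
  · unfold Hit at hk; rw [h] at hk; exact absurd hk (by simp)
  · unfold Hit at hk h
    rw [h] at hk
    simp only [List.cons.injEq, Prod.mk.injEq] at hk
    have : k' = k := Fin.ext hk.1.1
    subst this
    refine ⟨hp, ?_⟩
    have := hs.2
    omega

theorem idl_diff {r : Fin D.nroots} : Idl (Γ.Ah (Γ.h r) \ {r}) := by
  refine ⟨fun r hr => hr.1.1, fun q hq s hs hsq k N hk => ⟨(idl_Ah _).abs q hq s hs.1 hsq k N hk, ?_⟩⟩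
  rcases Γ.cm q s hq hs.1.1 hsq with h | ⟨k', N', h, -, hp, hh⟩
  · unfold Hit at hk; rw [h] at hk; exact absurd hk (by simp)
  · unfold Hit at hk h
    rw [h] at hk
    simp only [List.cons.injEq, Prod.mk.injEq] at hk
    have : k' = k := Fin.ext hk.1.1
    subst this
    intro h3
    have h4 : k' = r := h3
    subst h4
    have h5 := hs.1.2
    have h6 := Γ.pos q hq
    omega

theorem Idl.commIn (Γ : Gr G) {A : Set (Fin D.nroots)} (hA : Idl A) {q s : Fin D.nroots} (hq : Pos D q) (hs : s ∈ A)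
    (hsq : s ≠ q) : CommIn F q s A := by
  intro c hc _ k hk
  rcases Γ.cm q s hq (hA.pos s hs) hsq with h | ⟨k', N', h, -, hp, hh⟩
  · rw [h] at hc; simp at hc
  · have h' := h
    unfold Hit at h'
    rw [h'] at hc
    simp only [List.mem_singleton] at hc
    subst hc
    have : k = k' := Fin.ext hk
    subst this
    exact hA.abs q hq s hs hsq _ N' h

theorem Idl.closed (Γ : Gr G) {A : Set (Fin D.nroots)} (hA : Idl A) : Closed F A :=
  ⟨fun r hr => hA.pos r hr, fun r hr s hs hne => hA.commIn Γ (hA.pos r hr) hs hne⟩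

theorem Idl.conj (Γ : Gr G) {A : Set (Fin D.nroots)} (hA : Idl A) {u b : GL D.Idx F} (hu : u ∈ D.posUnipotent F)
    (hb : b ∈ XS D F A) : u * b * u⁻¹ ∈ XS D F A := by
  rw [← XS_posS G] at hu
  have h : XS D F (posS D) ≤ Subgroup.normalizer (XS D F A : Set (GL D.Idx F)) := by
    apply XS_le
    intro r hr t
    have key : ∀ (t : F) (b : GL D.Idx F), b ∈ XS D F A → xg D F r t * b * (xg D F r t)⁻¹ ∈ XS D F A := by
      intro t b hb
      by_cases h1 : r ∈ A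
      · have h2 : xg D F r t ∈ XS D F A := xg_mem_XS h1 t
        exact mul_mem (mul_mem h2 hb) (inv_mem h2)
      · have hne : ∀ s ∈ A, s ≠ r := by
          rintro s hs rfl
          exact h1 hs
        exact conj_mem_XS G (fun s hs => ⟨hne s hs, ne_negF G hr (hA.pos s hs),
          hA.commIn Γ hr hs (hne s hs)⟩) t hb
    rw [Subgroup.mem_normalizer_iff]
    intro b
    refine ⟨key t b, fun h => ?_⟩
    have := key (-t) _ h
    rw [xg_neg G] at this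
    rwa [show (xg D F r t)⁻¹ * (xg D F r t * b * (xg D F r t)⁻¹) * (xg D F r t)⁻¹⁻¹ = b by group] at this
  exact (Subgroup.mem_normalizer_iff.1 (h hu) b).1 hb

theorem Idl.le_U (Γ : Gr G) {A : Set (Fin D.nroots)} (hA : Idl A) {b : GL D.Idx F} (hb : b ∈ XS D F A) :
    b ∈ D.posUnipotent F := by
  rw [← XS_posS G]; exact XS_mono (fun r hr => hA.pos r hr) hb

/-- the basic commutator -/
theorem comm_xx (Γ : Gr G) {r s : Fin D.nroots} (hr : Pos D r) (hs : Pos D s) (t e : F) :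
    xg D F r t * xg D F s e * (xg D F r t)⁻¹ * (xg D F s e)⁻¹ = 1 ∨
    ∃ (k : Fin D.nroots) (N : ℤ), s ≠ r ∧ Hit D r s k N ∧ (N = 1 ∨ N = -1) ∧ Pos D k ∧ Γ.h k = Γ.h r + Γ.h s ∧
      xg D F r t * xg D F s e * (xg D F r t)⁻¹ = xg D F s e * xg D F k ((N : F) * t * e) := by
  by_cases h : s = r
  · left
    subst h
    rw [← xg_neg G, ← xg_neg G, xg_add G, xg_add G, xg_add G]
    have : t + e + -t + -e = 0 := by ring
    rw [this, xg_zero G]
  · have hneg := ne_negF G hr hs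
    have h4 := xg_comm G r.2 s.2 (fun hh => h (Fin.ext hh)) (fun hh => hneg (Fin.ext hh)) (-t) e
    rw [xg_neg G] at h4
    have h5 : xg D F r t * xg D F s e * (xg D F r t)⁻¹ = xg D F s e * wg D F (D.commWord F r s (-t) e) := by
      have : xg D F s e * (xg D F r t)⁻¹ = (xg D F r t)⁻¹ * (xg D F s e * wg D F (D.commWord F r s (-t) e)) := by
        rw [h4, mul_assoc]
      rw [mul_assoc, this]; group
    rcases Γ.cm r s hr hs h with h6 | ⟨k, N, h6, hN, hp, hh⟩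
    · left
      rw [h5]
      unfold ChevalleyDatum.commWord
      rw [h6]
      simp [wg]
    · right
      refine ⟨k, N, h, h6, hN, hp, hh, ?_⟩
      rw [h5]
      unfold ChevalleyDatum.commWord
      rw [h6]
      simp [wg]

/-- commutators of the layers -/
theorem comm_Ah {a b : ℕ} {u v : GL D.Idx F} (hu : u ∈ XS D F (Γ.Ah a)) (hv : v ∈ XS D F (Γ.Ah b)) :
    u * v * u⁻¹ * v⁻¹ ∈ XS D F (Γ.Ah (a + b)) := by
  have hcen : ∀ w ∈ D.posUnipotent F, ∀ z ∈ XS D F (Γ.Ah (a + b)), w * z * w⁻¹ ∈ XS D F (Γ.Ah (a + b)) :=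
    fun w hw z hz => (idl_Ah (Γ := Γ) (a + b)).conj Γ hw hz
  have hgen : ∀ r ∈ Γ.Ah a, ∀ s ∈ Γ.Ah b, ∀ t e : F,
      xg D F r t * xg D F s e * (xg D F r t)⁻¹ * (xg D F s e)⁻¹ ∈ XS D F (Γ.Ah (a + b)) := by
    intro r hr s hs t e
    rcases comm_xx Γ (F := F) hr.1 hs.1 t e with h | ⟨k, N, -, -, -, hp, hh, h⟩
    · rw [h]; exact one_mem _
    · rw [h]
      refine hcen _ (xU G hs.1 e) _ (xg_mem_XS (A := Γ.Ah (a + b)) ⟨hp, ?_⟩ _)
      have := hr.2
      have := hs.2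
      omega
  have hstep : ∀ r ∈ Γ.Ah a, ∀ t : F, ∀ b' ∈ XS D F (Γ.Ah b),
      xg D F r t * b' * (xg D F r t)⁻¹ * b'⁻¹ ∈ XS D F (Γ.Ah (a + b)) := by
    intro r hr t b' hb
    unfold XS at hb
    induction hb using Subgroup.closure_induction with
    | mem x hx => obtain ⟨s, hs, e, rfl⟩ := hx; exact hgen r hr s hs t e
    | one => simp
    | mul x y hx' hy' hx hy =>
      have hxU : x ∈ D.posUnipotent F := (idl_Ah (Γ := Γ) b).le_U Γ hx'
      have : xg D F r t * (x * y) * (xg D F r t)⁻¹ * (x * y)⁻¹ =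
        (xg D F r t * x * (xg D F r t)⁻¹ * x⁻¹) * (x * (xg D F r t * y * (xg D F r t)⁻¹ * y⁻¹) * x⁻¹) := by group
      rw [this]
      exact mul_mem hx (hcen _ hxU _ hy)
    | inv x hx' hx =>
      have hxU : x ∈ D.posUnipotent F := (idl_Ah (Γ := Γ) b).le_U Γ hx'
      have : xg D F r t * x⁻¹ * (xg D F r t)⁻¹ * x⁻¹⁻¹ =
        x⁻¹ * (xg D F r t * x * (xg D F r t)⁻¹ * x⁻¹)⁻¹ * x⁻¹⁻¹ := by group
      rw [this]
      exact hcen _ (inv_mem hxU) _ (inv_mem hx)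
  unfold XS at hu
  induction hu using Subgroup.closure_induction with
  | mem x hx => obtain ⟨s, hs, e, rfl⟩ := hx; exact hstep s hs e v hv
  | one => simp
  | mul x y hx' hy' hx hy =>
    have hxU : x ∈ D.posUnipotent F := (idl_Ah (Γ := Γ) a).le_U Γ hx'
    have : x * y * v * (x * y)⁻¹ * v⁻¹ = (x * (y * v * y⁻¹ * v⁻¹) * x⁻¹) * (x * v * x⁻¹ * v⁻¹) := by group
    rw [this]
    exact mul_mem (hcen _ hxU _ hy) hx
  | inv x hx' hx =>
    have hxU : x ∈ D.posUnipotent F := (idl_Ah (Γ := Γ) a).le_U Γ hx'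
    have : x⁻¹ * v * x⁻¹⁻¹ * v⁻¹ = x⁻¹ * (x * v * x⁻¹ * v⁻¹)⁻¹ * x⁻¹⁻¹ := by group
    rw [this]
    exact hcen _ (inv_mem hxU) _ (inv_mem hx)

theorem Ah_one : Γ.Ah 1 = posS D := by
  ext r
  exact ⟨fun h => h.1, fun h => ⟨h, Γ.pos r h⟩⟩

theorem mem_Ah_one {u : GL D.Idx F} (hu : u ∈ D.posUnipotent F) : u ∈ XS D F (Γ.Ah 1) := by
  rw [Ah_one, XS_posS G]; exact hu

theorem comm_Ah' {b : ℕ} {u v : GL D.Idx F} (hu : u ∈ D.posUnipotent F) (hv : v ∈ XS D F (Γ.Ah b)) :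
    u * v * u⁻¹ * v⁻¹ ∈ XS D F (Γ.Ah (b + 1)) := by
  have := comm_Ah (Γ := Γ) (mem_Ah_one hu) hv
  rwa [add_comm] at this

/-! ### coordinates -/

/-- the coordinate of `v` at `r` is `t`; here `v` lies in the layer of `r` -/
def Gr.Co (Γ : Gr G) (r : Fin D.nroots) (t : F) (v : GL D.Idx F) : Prop :=
  (xg D F r t)⁻¹ * v ∈ XS D F (Γ.Ah (Γ.h r) \ {r})

theorem co_mem {r : Fin D.nroots} (hr : Pos D r) {t : F} {v : GL D.Idx F} (h : Γ.Co r t v) :
    v ∈ XS D F (Γ.Ah (Γ.h r)) := by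
  have h1 : v = xg D F r t * ((xg D F r t)⁻¹ * v) := by group
  rw [h1]
  exact mul_mem (xg_mem_XS (A := Γ.Ah (Γ.h r)) ⟨hr, le_rfl⟩ t) (XS_mono Set.sdiff_subset h)

theorem co_mul {r : Fin D.nroots} (hr : Pos D r) {t t' : F} {v v' : GL D.Idx F} (h : Γ.Co r t v) (h' : Γ.Co r t' v') :
    Γ.Co r (t + t') (v * v') := by
  have h1 := mul_mem ((idl_diff (Γ := Γ)).conj Γ (xU G hr (-t')) h) h'
  unfold Gr.Co
  have h2 : (xg D F r (t + t'))⁻¹ * (v * v') =
      xg D F r (-t') * ((xg D F r t)⁻¹ * v) * (xg D F r (-t'))⁻¹ * ((xg D F r t')⁻¹ * v') := by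
    rw [← xg_add G, xg_neg G]; group
  rw [h2]; exact h1

theorem co_inv {r : Fin D.nroots} (hr : Pos D r) {t : F} {v : GL D.Idx F} (h : Γ.Co r t v) : Γ.Co r (-t) v⁻¹ := by
  have h1 := (idl_diff (Γ := Γ)).conj Γ (xU G hr t) (inv_mem h)
  unfold Gr.Co
  have h2 : (xg D F r (-t))⁻¹ * v⁻¹ = xg D F r t * ((xg D F r t)⁻¹ * v)⁻¹ * (xg D F r t)⁻¹ := by
    rw [xg_neg G]; group
  rw [h2]; exact h1

theorem co_zero_iff {r : Fin D.nroots} {v : GL D.Idx F} : Γ.Co r (0 : F) v ↔ v ∈ XS D F (Γ.Ah (Γ.h r) \ {r}) := by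
  unfold Gr.Co
  rw [xg_zero G, inv_one, one_mul]

theorem co_zero_of {r : Fin D.nroots} {A : Set (Fin D.nroots)} (hA : ∀ s ∈ A, Pos D s ∧ Γ.h r ≤ Γ.h s ∧ s ≠ r)
    {v : GL D.Idx F} (hv : v ∈ XS D F A) : Γ.Co r (0 : F) v := by
  have h : A ⊆ Γ.Ah (Γ.h r) \ {r} := fun s hs => ⟨⟨(hA s hs).1, (hA s hs).2.1⟩, (hA s hs).2.2⟩
  exact co_zero_iff.2 (XS_mono h hv)

theorem co_zero_succ {r : Fin D.nroots} {v : GL D.Idx F} (hv : v ∈ XS D F (Γ.Ah (Γ.h r + 1))) : Γ.Co r (0 : F) v :=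
  co_zero_of (A := Γ.Ah (Γ.h r + 1)) (fun s hs => ⟨hs.1, by have := hs.2; omega, by rintro rfl; have := hs.2; omega⟩) hv

theorem co_xg {r : Fin D.nroots} (t : F) : Γ.Co r t (xg D F r t) := by
  unfold Gr.Co; rw [inv_mul_cancel]; exact one_mem _

theorem co_left {r : Fin D.nroots} (hr : Pos D r) {t : F} {v y : GL D.Idx F} (h : Γ.Co r t v)
    (hy : Γ.Co r (0 : F) y) : Γ.Co r t (y * v) := by
  have := co_mul hr hy h
  rwa [zero_add] at this

theorem co_right {r : Fin D.nroots} (hr : Pos D r) {t : F} {v y : GL D.Idx F} (h : Γ.Co r t v)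
    (hy : Γ.Co r (0 : F) y) : Γ.Co r t (v * y) := by
  have := co_mul hr h hy
  rwa [add_zero] at this

theorem co_conj {r : Fin D.nroots} (hr : Pos D r) {t : F} {v u : GL D.Idx F} (h : Γ.Co r t v)
    (hu : u ∈ D.posUnipotent F) : Γ.Co r t (u * v * u⁻¹) := by
  have h1 := comm_Ah' hu (co_mem hr h)
  have h2 : u * v * u⁻¹ = (u * v * u⁻¹ * v⁻¹) * v := by group
  rw [h2]
  exact co_left hr h (co_zero_succ h1)

theorem co_uniq (hD : Listed D) {r : Fin D.nroots} (hr : Pos D r) {t t' : F} {v : GL D.Idx F} (h : Γ.Co r t v)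
    (h' : Γ.Co r t' v) : t = t' := by
  have h1 := co_mul hr (co_inv hr h) h'
  rw [inv_mul_cancel] at h1
  unfold Gr.Co at h1
  rw [mul_one, ← xg_neg G] at h1
  have hcl2 : Closed F (Γ.Ah (Γ.h r) \ {r}) := (idl_diff (Γ := Γ)).closed Γ
  have h2 := XS_inf G hD (closed_single G hr) hcl2 (xg_mem_XS (A := {r}) rfl _) h1
  have h3 : ({r} : Set (Fin D.nroots)) ∩ (Γ.Ah (Γ.h r) \ {r}) = ∅ := by
    ext q
    simp only [Set.mem_inter_iff, Set.mem_singleton_iff, Set.mem_sdiff, Set.mem_empty_iff_false, iff_false,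
      not_and, not_not]
    intro h _; exact h
  rw [h3] at h2
  have h4 : XS D F (∅ : Set (Fin D.nroots)) = ⊥ := by unfold XS; simp
  rw [h4, Subgroup.mem_bot, xg_eq_one_iff G r.2] at h2
  linear_combination h2

theorem co_exists {r : Fin D.nroots} (hr : Pos D r) {v : GL D.Idx F} (hv : v ∈ XS D F (Γ.Ah (Γ.h r))) :
    ∃ t, Γ.Co r t v := by
  unfold XS at hv
  induction hv using Subgroup.closure_induction with
  | mem x hx =>
    obtain ⟨q, hq, t, rfl⟩ := hx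
    by_cases h : q = r
    · subst h; exact ⟨t, co_xg t⟩
    · exact ⟨0, co_zero_of (A := {q}) (by rintro s rfl; exact ⟨hq.1, hq.2, h⟩) (xg_mem_XS (A := {q}) (Set.mem_singleton q) t)⟩
  | one => exact ⟨0, co_zero_iff.2 (one_mem _)⟩
  | mul x y _ _ hx hy =>
    obtain ⟨t, ht⟩ := hx
    obtain ⟨t', ht'⟩ := hy
    exact ⟨_, co_mul hr ht ht'⟩
  | inv x _ hx =>
    obtain ⟨t, ht⟩ := hx
    exact ⟨_, co_inv hr ht⟩

/-- an element all of whose coordinates of height `n` vanish lies in the next layer -/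
theorem co_next (hD : Listed D) {n : ℕ} {v : GL D.Idx F} (hv : v ∈ XS D F (Γ.Ah n))
    (h : ∀ r, Pos D r → Γ.h r = n → Γ.Co r (0 : F) v) : v ∈ XS D F (Γ.Ah (n + 1)) := by
  have hcl : Closed F (Γ.Ah n) := (idl_Ah (Γ := Γ) n).closed Γ
  obtain ⟨t, ht, rfl⟩ := exists_pr' G hcl hv
  apply pr_mem' G
  intro q hq
  by_cases h1 : ∃ h1 : q < D.nroots, (⟨q, h1⟩ : Fin D.nroots) ∈ Γ.Ah n
  · obtain ⟨h1, h2⟩ := h1
    have h3 : Γ.h ⟨q, h1⟩ = n := by
      have h4 := hq h1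
      have h5 := h2.2
      by_contra h6
      exact h4 ⟨h2.1, by omega⟩
    have h4 := co_zero_iff.1 (h ⟨q, h1⟩ h2.1 h3)
    have hcl2 : Closed F (Γ.Ah (Γ.h ⟨q, h1⟩) \ {⟨q, h1⟩}) := (idl_diff (Γ := Γ)).closed Γ
    obtain ⟨t', ht', h5⟩ := exists_pr' G hcl2 h4
    have h6 := pr_inj G hD (supp_pos G hcl.pos ht) (supp_pos G hcl2.pos ht') h5
    subst h6
    exact ht' q fun h' h'' => h''.2 rfl
  · push Not at h1
    exact ht q h1

/-! ### commutators and coordinates -/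

theorem comm_hit (G : Good D) {r s k : Fin D.nroots} (hsr : s ≠ r) (hneg : s ≠ negF G r) {N : ℤ} (h : Hit D r s k N)
    (t e : F) : xg D F r t * xg D F s e * (xg D F r t)⁻¹ = xg D F s e * xg D F k ((N : F) * t * e) := by
  have h4 := xg_comm G r.2 s.2 (fun hh => hsr (Fin.ext hh)) (fun hh => hneg (Fin.ext hh)) (-t) e
  rw [xg_neg G] at h4
  have h5 : xg D F r t * xg D F s e * (xg D F r t)⁻¹ = xg D F s e * wg D F (D.commWord F r s (-t) e) := by
    have : xg D F s e * (xg D F r t)⁻¹ = (xg D F r t)⁻¹ * (xg D F s e * wg D F (D.commWord F r s (-t) e)) := by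
      rw [h4, mul_assoc]
    rw [mul_assoc, this]; group
  rw [h5]
  unfold ChevalleyDatum.commWord
  rw [show D.commTerms r s = [((k : ℕ), N, 1, 1)] from h]
  simp [wg]

theorem hit_rv (G : Good D) {r s k : Fin D.nroots} (hr : Pos D r) (hs : Pos D s) (hsr : s ≠ r) {N : ℤ}
    (h : Hit D r s k N) (l : ℕ) : G.rv k l = G.rv r l + G.rv s l := by
  have hneg : (s : ℕ) ≠ D.neg r := fun h => ne_negF G hr hs (Fin.ext h)
  have hc : ((k : ℕ), N, 1, 1) ∈ D.commTerms r s := by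
    rw [show D.commTerms r s = [((k : ℕ), N, 1, 1)] from h]; simp
  obtain ⟨-, -, -, hrv⟩ := commTerms_root G r.2 s.2 (fun hh => hsr (Fin.ext hh)) hneg hc
  have := hrv l
  simpa using this

theorem hit_inj (G : Good D) {r s s' k : Fin D.nroots} (hr : Pos D r) (hs : Pos D s) (hs' : Pos D s') (hsr : s ≠ r)
    (hsr' : s' ≠ r) {N N' : ℤ} (h : Hit D r s k N) (h' : Hit D r s' k N') : s = s' := by
  apply rvF_inj G
  intro l
  have h1 := hit_rv G hr hs hsr h l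
  have h2 := hit_rv G hr hs' hsr' h' l
  omega

theorem co_comm_zero {k : Fin D.nroots} (hk : Pos D k) {a b : ℕ} (hab : Γ.h k ≤ a + b) {S A : Set (Fin D.nroots)}
    (hS : ∀ s ∈ S, Pos D s ∧ a ≤ Γ.h s) (hA : ∀ r ∈ A, Pos D r ∧ b ≤ Γ.h r)
    (hn : ∀ s ∈ S, ∀ r ∈ A, r ≠ s → ∀ N, ¬ Hit D s r k N) {y v : GL D.Idx F} (hy : y ∈ XS D F S) (hv : v ∈ XS D F A) :
    Γ.Co k (0 : F) (y * v * y⁻¹ * v⁻¹) := by
  have hSU : ∀ x ∈ XS D F S, x ∈ D.posUnipotent F := fun x hx => by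
    rw [← XS_posS G]; exact XS_mono (fun r hr => (hS r hr).1) hx
  have hAU : ∀ x ∈ XS D F A, x ∈ D.posUnipotent F := fun x hx => by
    rw [← XS_posS G]; exact XS_mono (fun r hr => (hA r hr).1) hx
  have hone : Γ.Co k (0 : F) 1 := co_zero_iff.2 (one_mem _)
  have hgen : ∀ s ∈ S, ∀ r ∈ A, ∀ t e : F, Γ.Co k (0 : F) (xg D F s t * xg D F r e * (xg D F s t)⁻¹ * (xg D F r e)⁻¹) := by
    intro s hs r hr t e
    rcases comm_xx Γ (F := F) (hS s hs).1 (hA r hr).1 t e with h | ⟨k', N, hne, hit, -, hp, hh, h⟩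
    · rw [h]; exact hone
    · rw [h]
      refine co_conj hk ?_ (xU G (hA r hr).1 e)
      refine co_zero_of (A := {k'}) ?_ (xg_mem_XS (A := {k'}) (Set.mem_singleton k') _)
      intro q hq
      rw [Set.mem_singleton_iff] at hq
      subst hq
      refine ⟨hp, ?_, ?_⟩
      · have := (hS s hs).2
        have := (hA r hr).2
        omega
      · rintro rfl
        exact hn s hs r hr hne N hit
  have hstep : ∀ s ∈ S, ∀ t : F, ∀ b' ∈ XS D F A, Γ.Co k (0 : F) (xg D F s t * b' * (xg D F s t)⁻¹ * b'⁻¹) := by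
    intro s hs t b' hb
    unfold XS at hb
    induction hb using Subgroup.closure_induction with
    | mem x hx => obtain ⟨r, hr, e, rfl⟩ := hx; exact hgen s hs r hr t e
    | one => simpa using hone
    | mul x y hx' hy' hx hy =>
      have : xg D F s t * (x * y) * (xg D F s t)⁻¹ * (x * y)⁻¹ =
        (xg D F s t * x * (xg D F s t)⁻¹ * x⁻¹) * (x * (xg D F s t * y * (xg D F s t)⁻¹ * y⁻¹) * x⁻¹) := by group
      rw [this]
      exact co_right hk hx (co_conj hk hy (hAU x hx'))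
    | inv x hx' hx =>
      have : xg D F s t * x⁻¹ * (xg D F s t)⁻¹ * x⁻¹⁻¹ =
        x⁻¹ * (xg D F s t * x * (xg D F s t)⁻¹ * x⁻¹)⁻¹ * x⁻¹⁻¹ := by group
      rw [this]
      have h1 := co_inv hk hx
      rw [neg_zero] at h1
      exact co_conj hk h1 (inv_mem (hAU x hx'))
  unfold XS at hy
  induction hy using Subgroup.closure_induction with
  | mem x hx => obtain ⟨s, hs, e, rfl⟩ := hx; exact hstep s hs e v hv
  | one => simpa using hone
  | mul x y hx' hy' hx hy =>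
    have : x * y * v * (x * y)⁻¹ * v⁻¹ = (x * (y * v * y⁻¹ * v⁻¹) * x⁻¹) * (x * v * x⁻¹ * v⁻¹) := by group
    rw [this]
    exact co_left hk hx (co_conj hk hy (hSU x hx'))
  | inv x hx' hx =>
    have : x⁻¹ * v * x⁻¹⁻¹ * v⁻¹ = x⁻¹ * (x * v * x⁻¹ * v⁻¹)⁻¹ * x⁻¹⁻¹ := by group
    rw [this]
    have h1 := co_inv hk hx
    rw [neg_zero] at h1
    exact co_conj hk h1 (inv_mem (hSU x hx'))

/-- the coordinate at `k = s + r` of a commutator -/
theorem co_comm_hit {s r k : Fin D.nroots} (hs : Pos D s) (hr : Pos D r) (hk : Pos D k) (hrs : r ≠ s)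
    (hh : Γ.h k = Γ.h s + Γ.h r) {N : ℤ} (hit : Hit D s r k N) (e : F) {t : F} {v : GL D.Idx F} (hv : Γ.Co r t v) :
    Γ.Co k ((N : F) * e * t) (xg D F s e * v * (xg D F s e)⁻¹ * v⁻¹) := by
  obtain ⟨v', hv'⟩ : ∃ v', v' = (xg D F r t)⁻¹ * v := ⟨_, rfl⟩
  have hve : v = xg D F r t * v' := by rw [hv']; group
  have hv1 : v' ∈ XS D F (Γ.Ah (Γ.h r) \ {r}) := by rw [hv']; exact hv
  have h1 : xg D F s e * v * (xg D F s e)⁻¹ * v⁻¹ =
      (xg D F s e * xg D F r t * (xg D F s e)⁻¹ * (xg D F r t)⁻¹) *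
        (xg D F r t * (xg D F s e * v' * (xg D F s e)⁻¹ * v'⁻¹) * (xg D F r t)⁻¹) := by
    rw [hve]; group
  rw [h1]
  refine co_right hk ?_ (co_conj hk ?_ (xU G hr t))
  · rw [comm_hit G hrs (ne_negF G hs hr) hit]
    exact co_conj hk (co_xg _) (xU G hr t)
  · refine co_comm_zero hk (a := Γ.h s) (b := Γ.h r) (by omega) (S := {s}) (A := Γ.Ah (Γ.h r) \ {r}) ?_ ?_ ?_
      (xg_mem_XS (A := {s}) (Set.mem_singleton s) e) hv1
    · intro q hq
      rw [Set.mem_singleton_iff] at hq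
      subst hq
      exact ⟨hs, le_rfl⟩
    · intro q hq; exact ⟨hq.1.1, hq.1.2⟩
    · intro q hq r' hr' hne N' hit'
      rw [Set.mem_singleton_iff] at hq
      subst hq
      exact hr'.2 (hit_inj G hs hr'.1.1 hr hne hrs hit' hit)

/-- the same for an element with one relevant factor -/
theorem co_comm {s r k : Fin D.nroots} (hs : Pos D s) (hr : Pos D r) (hk : Pos D k) (hrs : r ≠ s)
    (hh : Γ.h k = Γ.h s + Γ.h r) {N : ℤ} (hit : Hit D s r k N) {e t : F} {S : Set (Fin D.nroots)}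
    (hS : ∀ s' ∈ S, Pos D s' ∧ Γ.h s ≤ Γ.h s' ∧ ∀ r', Pos D r' → Γ.h r ≤ Γ.h r' → r' ≠ s' → ∀ N, ¬ Hit D s' r' k N)
    {y v : GL D.Idx F} (hy : (xg D F s e)⁻¹ * y ∈ XS D F S) (hv : Γ.Co r t v) :
    Γ.Co k ((N : F) * e * t) (y * v * y⁻¹ * v⁻¹) := by
  obtain ⟨y', hy'⟩ : ∃ y', y' = (xg D F s e)⁻¹ * y := ⟨_, rfl⟩
  have hye : y = xg D F s e * y' := by rw [hy']; group
  rw [← hy'] at hy
  have h1 : y * v * y⁻¹ * v⁻¹ = (xg D F s e * (y' * v * y'⁻¹ * v⁻¹) * (xg D F s e)⁻¹) *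
      (xg D F s e * v * (xg D F s e)⁻¹ * v⁻¹) := by rw [hye]; group
  rw [h1]
  refine co_left hk (co_comm_hit hs hr hk hrs hh hit e hv) (co_conj hk ?_ (xU G hs e))
  refine co_comm_zero hk (a := Γ.h s) (b := Γ.h r) (by omega) (S := S) (A := Γ.Ah (Γ.h r)) ?_ ?_ ?_ hy (co_mem hr hv)
  · intro q hq; exact ⟨(hS q hq).1, (hS q hq).2.1⟩
  · intro q hq; exact ⟨hq.1, hq.2⟩
  · intro q hq r' hr' hne N' hit'
    exact (hS q hq).2.2 r' hr'.1 hr'.2 hne N' hit'

end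

end Cfsg.Agent.Lib.Sft
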