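import Cfsg.Agent.Lib.SftPar
import Cfsg.Agent.Lib.SfoOdd
set_option autoImplicit false
set_option linter.unusedSectionVars false
set_option linter.unusedVariables false

/-!
Subgroups of twisted groups containing the elements over the ground field: all elements are fixed (helper44).
-/

namespace Cfsg.Agent.Lib.Sft
open Cfsg.Lie Cfsg.Agent.Lib.ChevX Cfsg.Agent.Lib.ChevGood Cfsg.Agent.Lib.ChevRel Cfsg.Agent.Lib.ChevNPerm
  Cfsg.Agent.Lib.ChevBruhat Cfsg.Agent.Lib.ChevRadCent Cfsg.Agent.Lib.ChevFix Cfsg.Agent.Lib.ChevInv Cfsg.Agent.Lib.Sfo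
  Cfsg.Agent.Lib.TwFix
open Cfsg.Agent.Lib.ChevClosed hiding pr
open scoped MatrixGroups Matrix

variable {D : ChevalleyDatum} {F : Type*} [Field F]

theorem pr_comb' (G : Good D) (s0 : Fin D.nroots) {r s : Fin D.nroots} (hr : Pos D r) (hs : Pos D s) (hrs : s ≠ r)
    {c : ℕ × ℤ × ℕ × ℕ} (hc : c ∈ D.commTerms r s) :
    1 ≤ c.2.2.1 ∧ 1 ≤ c.2.2.2 ∧ pr D s0 c.1 = c.2.2.1 * pr D s0 r + c.2.2.2 * pr D s0 s := by
  have hneg : (s : ℕ) ≠ D.neg r := fun h => ne_negF G hr hs (Fin.ext h)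
  obtain ⟨hlt, h1, h2, hrv⟩ := commTerms_root G r.2 s.2 (fun hh => hrs (Fin.ext hh)) hneg hc
  exact ⟨h1, h2, pr_lin G s.2 hlt r.2 _ _ hrv⟩

theorem closed_neg (G : Good D) (s0 : Fin D.nroots) : Closed F (posS D ∩ {r | pr D s0 r < 0}) := by
  refine ⟨fun r hr => hr.1, fun r hr s hs hne c hc _ k hk => ?_⟩
  obtain ⟨h1, h2, h3⟩ := pr_comb' G s0 hr.1 hs.1 hne hc
  refine ⟨?_, ?_⟩
  · have := commTerms_gt G hr.1 hs.1 hne hc
    show D.nroots / 2 ≤ (k : ℕ)
    omega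
  · show pr D s0 k < 0
    rw [hk, h3]
    have h4 : pr D s0 r < 0 := hr.2
    have h5 : pr D s0 s < 0 := hs.2
    have h6 : (1 : ℤ) ≤ c.2.2.1 := by exact_mod_cast h1
    have h7 : (1 : ℤ) ≤ c.2.2.2 := by exact_mod_cast h2
    nlinarith

theorem closed_nonneg (G : Good D) (s0 : Fin D.nroots) : Closed F (posS D \ {r | pr D s0 r < 0}) := by
  refine ⟨fun r hr => hr.1, fun r hr s hs hne c hc _ k hk => ?_⟩
  obtain ⟨h1, h2, h3⟩ := pr_comb' G s0 hr.1 hs.1 hne hc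
  refine ⟨?_, ?_⟩
  · have := commTerms_gt G hr.1 hs.1 hne hc
    show D.nroots / 2 ≤ (k : ℕ)
    omega
  · show ¬ pr D s0 k < 0
    rw [hk, h3]
    have h4 : ¬ pr D s0 r < 0 := hr.2
    have h5 : ¬ pr D s0 s < 0 := hs.2
    have h6 : (1 : ℤ) ≤ c.2.2.1 := by exact_mod_cast h1
    have h7 : (1 : ℤ) ≤ c.2.2.2 := by exact_mod_cast h2
    push Not at h4 h5 ⊢
    nlinarith

/-- uniqueness of the factorization of fixed elements -/
theorem factor_fix (T : TwSys D F) {A B : Set (Fin D.nroots)} (hA : Closed F A) (hB : Closed F B)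
    (hAs : ∀ r, r ∈ A → T.ρ r ∈ A) (hBs : ∀ r, r ∈ B → T.ρ r ∈ B) (hAB : A ∩ B = ∅) {x y : GL D.Idx F}
    (hx : x ∈ XS D F A) (hy : y ∈ XS D F B) (h : x * y ∈ T.fix) : x ∈ T.fix ∧ y ∈ T.fix := by
  have hxg := T.XS_le_group _ hx
  have hyg := T.XS_le_group _ hy
  have h1 : T.s x * T.s y = x * y := by rw [← T.s_mul hxg hyg]; exact h.2
  have h2 : T.s x ∈ XS D F A := XS_mono (by rintro _ ⟨r, hr, rfl⟩; exact hAs r hr) (T.s_XS hx)
  have h3 : T.s y ∈ XS D F B := XS_mono (by rintro _ ⟨r, hr, rfl⟩; exact hBs r hr) (T.s_XS hy)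
  have h4 : x⁻¹ * T.s x = y * (T.s y)⁻¹ := by
    calc x⁻¹ * T.s x = x⁻¹ * (T.s x * T.s y) * (T.s y)⁻¹ := by group
      _ = _ := by rw [h1]; group
  have h5 := XS_inf T.G T.hD hA hB (mul_mem (inv_mem hx) h2) (by rw [h4]; exact mul_mem hy (inv_mem h3))
  rw [hAB] at h5
  have h6 : XS D F (∅ : Set (Fin D.nroots)) = ⊥ := by unfold XS; simp
  rw [h6, Subgroup.mem_bot] at h5
  have h7 : T.s x = x := (inv_mul_eq_one.1 h5).symm
  refine ⟨⟨hxg, h7⟩, hyg, ?_⟩
  rw [h7] at h1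
  exact mul_left_cancel h1

section
variable {T : TwSys D F} {k : ℕ} {W : TwGen T k} {Y : Gr T.G} {σ : F ≃+* F} (X : TS T W Y σ) (P : TC T)
  {H : Subgroup (GL D.Idx F)} (Z : TH T σ H)
include X P Z

omit P Z in
theorem wj_fixed (L : List (Fin k)) : T.ρ ((L.map W.wj).prod (hi T.G)) = (L.map W.wj).prod (hi T.G) :=
  (X.eps_w (word_N (W := W) L) (word_mono (W := W) L) (word_em (W := W) L) (word_fix (W := W) L) X.hhi).1

/-- the stabilizer coset of a fixed highest root subgroup contains a fixed element -/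
theorem cosett {g : GL D.Idx F} (hg : g ∈ T.fix) (h : SP T.G (g⁻¹ * em D (σ : F →+* F) g)) :
    ∃ l ∈ H, em D (σ : F →+* F) l = l ∧ SP T.G (l⁻¹ * g) := by
  have hD := T.hD
  obtain ⟨u, ⟨hu, huT⟩, n, ⟨hn, hnT⟩, w, hw, u', ⟨hu', hu'T⟩, rfl⟩ := T.fix_bruhat hg
  have hu'U : u' ∈ D.posUnipotent F := by
    rw [← XS_posS T.G]; exact XS_mono (fun r hr => hr.1) hu'
  obtain ⟨L, a, ⟨ha, haT⟩, rfl⟩ := W.exists_word ⟨hn, hnT⟩
  obtain ⟨nL, hnL⟩ : ∃ nL, nL = (L.map W.nj).prod := ⟨_, rfl⟩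
  obtain ⟨wL, hwL⟩ : ∃ wL, wL = (L.map W.wj).prod := ⟨_, rfl⟩
  rw [← hnL] at hg h hn hnT hw ⊢
  have hl : Mono T.G nL wL := by rw [hnL, hwL]; exact word_mono L
  have hlN : nL ∈ D.monomialSubgroup F := by rw [hnL]; exact word_N L
  have hlH : nL ∈ H := by rw [hnL]; exact word_H Z L
  have hlem : em D (σ : F →+* F) nL = nL := by rw [hnL]; exact word_em L
  have hρw : T.ρ (wL (hi T.G)) = wL (hi T.G) := by rw [hwL]; exact wj_fixed X L
  set A : Set (Fin D.nroots) := {r | pr D (wL (hi T.G)) r < 0} with hA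
  have hst : ∀ r : Fin D.nroots, pr D (wL (hi T.G)) (T.ρ r : Fin D.nroots) = pr D (wL (hi T.G)) r := by
    intro r
    have := X.hpr (wL (hi T.G)) r
    rwa [hρw] at this
  rw [← XS_posS T.G] at hu
  obtain ⟨x, hx, y, hy, rfl⟩ := exists_factor' T.G (closed_posS T.G) A hu
  have hxyT := factor_fix T (closed_neg T.G (wL (hi T.G))) (closed_nonneg T.G (wL (hi T.G)))
    (by
      rintro r ⟨h1, h2⟩
      refine ⟨(T.ρ_pos r).2 h1, ?_⟩
      show pr D (wL (hi T.G)) (T.ρ r : Fin D.nroots) < 0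
      rw [hst]; exact h2)
    (by
      rintro r ⟨h1, h2⟩
      refine ⟨(T.ρ_pos r).2 h1, ?_⟩
      show ¬ pr D (wL (hi T.G)) (T.ρ r : Fin D.nroots) < 0
      rw [hst]; exact h2)
    (by ext r; simp only [Set.mem_inter_iff, Set.mem_sdiff, Set.mem_empty_iff_false, iff_false]; rintro ⟨⟨-, h1⟩, -, h2⟩; exact h2 h1)
    hx hy huT
  -- the roots moved back
  have hback : ∀ r : Fin D.nroots, pr D (hi T.G) (wL⁻¹ r : Fin D.nroots) = pr D (wL (hi T.G)) r := by
    intro r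
    have h1 := mono_pr T.G hlN hl (hi T.G) (wL⁻¹ r)
    rw [ap_inv] at h1
    exact h1.symm
  have hsy : SP T.G (nL⁻¹ * y * nL) := by
    apply sp_XS T.G P.par
    have h1 := mono_conj_XS T.G (mono_inv T.G hl) hy
    rw [inv_inv] at h1
    refine XS_mono ?_ h1
    rintro _ ⟨r, ⟨-, hr⟩, rfl⟩
    show 0 ≤ pr D (hi T.G) (wL⁻¹ r : Fin D.nroots)
    rw [hback]
    exact not_lt.1 hr
  have hb : SP T.G (nL⁻¹ * y * nL * a * u') := (hsy.mul (sp_H T.G ha)).mul (sp_U T.G hu'U)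
  have hge : x * y * (nL * a) * u' = x * nL * (nL⁻¹ * y * nL * a * u') := by group
  set b := nL⁻¹ * y * nL * a * u' with hbdef
  rw [hge] at h hg ⊢
  have hσb : SP T.G (em D (σ : F →+* F) b) := by
    obtain ⟨h1, c, hc, h2⟩ := hb
    refine ⟨em_group T.G _ h1, σ c, by rwa [Ne, map_eq_zero_iff σ σ.injective], fun t => ?_⟩
    have h3 := congrArg (em D (σ : F →+* F)) (h2 (σ.symm t))
    rw [map_mul, map_mul, map_inv, em_xg T.G, em_xg T.G] at h3
    simpa using h3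
  have hxA : x ∈ XS D F A := XS_mono Set.inter_subset_right hx
  have hxU : x ∈ D.posUnipotent F := by rw [← XS_posS T.G]; exact XS_mono Set.inter_subset_left hx
  set y0 := nL⁻¹ * (x⁻¹ * em D (σ : F →+* F) x) * nL with hy0
  have hy0Q : y0 ∈ XS D F {s | pr D (hi T.G) s < 0} := by
    have h1 := mono_conj_XS T.G (mono_inv T.G hl) (mul_mem (inv_mem hxA) (em_XS T.G (σ : F →+* F) hxA))
    rw [inv_inv] at h1
    refine XS_mono ?_ h1
    rintro _ ⟨r, hr, rfl⟩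
    show pr D (hi T.G) (wL⁻¹ r : Fin D.nroots) < 0
    rw [hback]
    exact hr
  have hy0S : SP T.G y0 := by
    have h1 : y0 = b * ((x * nL * b)⁻¹ * em D (σ : F →+* F) (x * nL * b)) * (em D (σ : F →+* F) b)⁻¹ := by
      rw [hy0, map_mul, map_mul, hlem]; group
    rw [h1]
    exact (hb.mul h).mul hσb.inv
  have h1 := sp_opp T.G P.par hD P.one hy0Q hy0S
  have hfx : em D (σ : F →+* F) x = x := by
    have h2 : x⁻¹ * em D (σ : F →+* F) x = nL * y0 * nL⁻¹ := by rw [hy0]; group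
    rw [h1, mul_one, mul_inv_cancel, inv_mul_eq_one] at h2
    exact h2.symm
  refine ⟨x * nL, mul_mem (Z.ge x hxyT.1 hfx) hlH, by rw [map_mul, hfx, hlem], ?_⟩
  rw [inv_mul_cancel_left]
  exact hb

theorem rat_conjt {g : GL D.Idx F} (hg : g ∈ T.fix) {c : F} (hc : c ≠ 0)
    (h : em D (σ : F →+* F) (g * xg D F (hi T.G) c * g⁻¹) = g * xg D F (hi T.G) c * g⁻¹) :
    ∃ l ∈ H, em D (σ : F →+* F) l = l ∧ SP T.G (l⁻¹ * g) := by
  apply cosett X P Z hg
  rw [map_mul, map_mul, map_inv, em_xg T.G] at h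
  simp only [RingHom.coe_coe] at h
  refine sp_of_conj T.G T.hD (mul_mem (inv_mem hg.1) (em_group T.G _ hg.1)) (t := σ c) (t' := c)
    (by rwa [Ne, map_eq_zero_iff σ σ.injective]) ?_
  have h1 : g⁻¹ * em D (σ : F →+* F) g * xg D F (hi T.G) (σ c) * (g⁻¹ * em D (σ : F →+* F) g)⁻¹ =
      g⁻¹ * (em D (σ : F →+* F) g * xg D F (hi T.G) (σ c) * (em D (σ : F →+* F) g)⁻¹) * g := by group
  rw [h1, h]; group

variable (C : CC T Y σ H)
include C

theorem fix_conjt {g : GL D.Idx F} (hg : g ∈ H) {c : F} (hc : c ≠ 0)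
    (h : em D (σ : F →+* F) (g * xg D F (hi T.G) c * g⁻¹) = g * xg D F (hi T.G) c * g⁻¹) : em D (σ : F →+* F) g = g := by
  obtain ⟨l, hl, hfl, hsp⟩ := rat_conjt X P Z (Z.le hg) hc h
  have h1 := MPt X P Z C (mul_mem (inv_mem hl) hg) hsp
  rw [map_mul, map_inv, hfl] at h1
  exact mul_left_cancel h1

theorem cent_hit {y : GL D.Idx F} (hy : y ∈ H) {d : F} (hd : d ≠ 0)
    (h : y * xg D F (hi T.G) d = xg D F (hi T.G) d * y) : em D (σ : F →+* F) y = y :=
  MPt X P Z C hy (sp_of_conj T.G T.hD (Z.le hy).1 hd (by rw [h, mul_inv_cancel_right]))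

/-- elements of `H` not moving the highest root subgroup to an opposite one are fixed -/
theorem low {g : GL D.Idx F} (hg : g ∈ H) {u n u' : GL D.Idx F}
    {w : Equiv.Perm (Fin D.nroots)} (hu : u ∈ D.posUnipotent F) (huT : u ∈ T.fix) (hn : n ∈ D.monomialSubgroup F)
    (hnT : n ∈ T.fix) (hw : Mono T.G n w)
    (hu' : u' ∈ D.posUnipotent F) (hge : g = u * n * u') (hcon : w (hi T.G) ≠ negF T.G (hi T.G)) :
    em D (σ : F →+* F) g = g := by
  have hD := T.hD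
  have hρw : T.ρ (w (hi T.G)) = w (hi T.G) := by
    have := congrArg (fun e : Equiv.Perm (Fin D.nroots) => e (hi T.G)) (T.comm_of_fix hn hw hnT)
    simp only [Equiv.Perm.mul_apply] at this
    rw [← this, X.hhi]
  have hw' := hw
  obtain ⟨-, c, hc0, -, hc2⟩ := hw
  have hv := conj_hi T.G hc2 hu' (u := u) 1
  rw [← hge, mul_one] at hv
  obtain ⟨v, hvdef⟩ : ∃ v, v = g * xg D F (hi T.G) 1 * g⁻¹ := ⟨_, rfl⟩
  rw [← hvdef] at hv
  have hone : xg D F (hi T.G) 1 ∈ H := xg_mem_H X Z X.hhi (map_one σ)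
  have hvM : v ∈ H := by rw [hvdef]; exact mul_mem (mul_mem hg hone) (inv_mem hg)
  have hfin : em D (σ : F →+* F) v = v → em D (σ : F →+* F) g = g := fun h => fix_conjt X P Z C hg one_ne_zero (by
    rw [← hvdef]; exact h)
  have hx1 : xg D F (hi T.G) 1 = u * xg D F (hi T.G) 1 * u⁻¹ := (hi_comm T.G hu 1).symm
  have hsp : w (hi T.G) = hi T.G → em D (σ : F →+* F) g = g := fun h => by
    refine MPt X P Z C hg ?_
    rw [hge] at hg ⊢
    exact sp_of_bruhat T.G (Z.le hg).1 hu hw' hu' h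
  rcases P.pair _ hρw with h | h | h | ⟨k, N, hk, h, hN, hk1, hk2, hk3, hk4, hk5, hk6⟩
  · exact hsp h
  · exact absurd h hcon
  · -- the commuting case
    by_cases hs : w (hi T.G) = hi T.G
    · exact hsp hs
    have h1 := comm_of_nil T.G (F := F) hs hcon h 1 (c (hi T.G))
    refine hfin (cent_hit X P Z C hvM one_ne_zero ?_)
    rw [hv]
    conv_lhs => rw [hx1]
    conv_rhs => rw [hx1]
    calc u * xg D F (w (hi T.G)) (c (hi T.G)) * u⁻¹ * (u * xg D F (hi T.G) 1 * u⁻¹)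
        = u * (xg D F (w (hi T.G)) (c (hi T.G)) * xg D F (hi T.G) 1) * u⁻¹ := by group
      _ = _ := by rw [h1]; group
  · by_cases hs : w (hi T.G) = hi T.G
    · exact hsp hs
    set s := w (hi T.G) with hsdef
    have h1 := comm_of_nil T.G (F := F) hk1 hk2 hk5
    have h2 := comm_of_nil T.G (F := F) hk3 hk4 hk6
    -- the commutator
    have h3 : xg D F (hi T.G) 1 * xg D F s (c (hi T.G)) * (xg D F (hi T.G) 1)⁻¹ * (xg D F s (c (hi T.G)))⁻¹ =
        xg D F k ((N : F) * c (hi T.G)) := by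
      have h4 := comm_hit T.G (F := F) hs hcon h 1 (c (hi T.G))
      rw [mul_one] at h4
      have h7 := h2 (c (hi T.G)) ((N : F) * c (hi T.G))
      rw [h4, ← h7]; group
    obtain ⟨d, hd⟩ : ∃ d, d = (N : F) * c (hi T.G) := ⟨_, rfl⟩
    rw [← hd] at h3
    have hd0 : d ≠ 0 := by
      rw [hd]
      apply mul_ne_zero _ (hc0 _)
      rcases hN with h | h <;> rw [h] <;> simp
    set z := xg D F (hi T.G) 1 * v * (xg D F (hi T.G) 1)⁻¹ * v⁻¹ with hz
    have hzM : z ∈ H := mul_mem (mul_mem (mul_mem hone hvM) (inv_mem hone)) (inv_mem hvM)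
    have hze : z = u * xg D F k d * u⁻¹ := by
      rw [hz, hv, ← h3]
      conv_lhs => rw [hx1]
      group
    have hzfix : em D (σ : F →+* F) z = z := by
      refine cent_hit X P Z C hzM one_ne_zero ?_
      rw [hze]
      conv_lhs => rw [hx1]
      conv_rhs => rw [hx1]
      calc u * xg D F k d * u⁻¹ * (u * xg D F (hi T.G) 1 * u⁻¹) = u * (xg D F k d * xg D F (hi T.G) 1) * u⁻¹ := by group
        _ = _ := by rw [h1 1 d]; group
    obtain ⟨L, hL⟩ := X.exists_word hk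
    obtain ⟨-, c'', hc0'', -, hc2''⟩ := word_mono (W := W) L
    have hzc : z = (u * (L.map W.nj).prod) * xg D F (hi T.G) ((c'' (hi T.G))⁻¹ * d) * (u * (L.map W.nj).prod)⁻¹ := by
      have h4 := hc2'' (hi T.G) ((c'' (hi T.G))⁻¹ * d)
      rw [hL, ← mul_assoc, mul_inv_cancel₀ (hc0'' _), one_mul] at h4
      rw [hze, ← h4]; group
    have he0 : (c'' (hi T.G))⁻¹ * d ≠ 0 := mul_ne_zero (inv_ne_zero (hc0'' _)) hd0
    have hunG : u * (L.map W.nj).prod ∈ T.fix := mul_mem huT (word_fix L)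
    obtain ⟨l0, hl0, hfl0, hsp'⟩ := rat_conjt X P Z hunG he0 (by rw [← hzc]; exact hzfix)
    obtain ⟨-, c3, hc3, h5⟩ := hsp'
    have h6 : z = l0 * xg D F (hi T.G) (c3 * ((c'' (hi T.G))⁻¹ * d)) * l0⁻¹ := by
      rw [← h5, hzc]; group
    have hvz : v * z = z * v := by
      rw [hze, hv]
      calc u * xg D F s (c (hi T.G)) * u⁻¹ * (u * xg D F k d * u⁻¹) = u * (xg D F s (c (hi T.G)) * xg D F k d) * u⁻¹ := by group
        _ = _ := by rw [← h2 (c (hi T.G)) d]; group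
    have h7 := cent_hit X P Z C (y := l0⁻¹ * v * l0) (mul_mem (mul_mem (inv_mem hl0) hvM) hl0)
      (d := c3 * ((c'' (hi T.G))⁻¹ * d)) (mul_ne_zero hc3 he0) (by
        have h8 : xg D F (hi T.G) (c3 * ((c'' (hi T.G))⁻¹ * d)) = l0⁻¹ * z * l0 := by rw [h6]; group
        rw [h8]
        calc l0⁻¹ * v * l0 * (l0⁻¹ * z * l0) = l0⁻¹ * (v * z) * l0 := by group
          _ = _ := by rw [hvz]; group)
    rw [map_mul, map_mul, map_inv, hfl0] at h7
    refine hfin ?_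
    exact mul_left_cancel (mul_right_cancel h7)

end

end Cfsg.Agent.Lib.Sft
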