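import Cfsg.Agent.Lib.SftSys
import Cfsg.Agent.Lib.SfoClaim
set_option autoImplicit false
set_option linter.unusedSectionVars false
set_option linter.unusedVariables false

/-!
Subgroups of twisted groups containing the elements over the ground field: the stabilizer of the highest root subgroup
(helper44).
-/

namespace Cfsg.Agent.Lib.Sft
open Cfsg.Lie Cfsg.Agent.Lib.ChevX Cfsg.Agent.Lib.ChevGood Cfsg.Agent.Lib.ChevRel Cfsg.Agent.Lib.ChevNPerm
  Cfsg.Agent.Lib.ChevBruhat Cfsg.Agent.Lib.ChevRadCent Cfsg.Agent.Lib.ChevFix Cfsg.Agent.Lib.ChevInv Cfsg.Agent.Lib.Sfo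
  Cfsg.Agent.Lib.TwFix
open Cfsg.Agent.Lib.ChevClosed hiding pr
open scoped MatrixGroups Matrix

variable {D : ChevalleyDatum} {F : Type*} [Field F]

/-- combinatorial facts about the highest root -/
structure TC (T : TwSys D F) : Prop where
  par : Par T.G
  one : ∃ s : Fin D.nroots, pr D (hi T.G) s = 1
  pair : ∀ s : Fin D.nroots, T.ρ s = s → s = hi T.G ∨ s = negF T.G (hi T.G) ∨ D.commTerms (hi T.G) s = [] ∨
    ∃ (k : Fin D.nroots) (N : ℤ), T.ρ k = k ∧ D.commTerms (hi T.G) s = [((k : ℕ), N, 1, 1)] ∧ (N = 1 ∨ N = -1) ∧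
      k ≠ hi T.G ∧ k ≠ negF T.G (hi T.G) ∧ k ≠ s ∧ k ≠ negF T.G s ∧ D.commTerms (hi T.G) k = [] ∧ D.commTerms s k = []
  dom : ∃ L : List (Fin D.nroots × ℤ), (∀ x ∈ L, T.ρ x.1 = x.1 ∧ x.1 ∈ Qd T.G) ∧
    (∀ i : Fin D.rank, 0 < (L.map fun x => x.2 * pr D x.1 (simpF T.G i)).sum) ∧
    (∀ s : Fin D.nroots, ¬ Pos D s → (L.map fun x => x.2 * pr D x.1 s).sum ≤ 0)
  link : ∀ s : Fin D.nroots, Pos D s → pr D (hi T.G) s = 0 → ∃ (r k : Fin D.nroots) (N : ℤ), r ∈ Qd T.G ∧ k ≠ hi T.G ∧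
    s ≠ r ∧ Hit D r s k N ∧ ∀ r' ∈ Ob T r, r' ≠ r → ∀ s' : Fin D.nroots, Pos D s' → s' ≠ r' → ∀ N', ¬ Hit D r' s' k N'

theorem w_hi_of_SP (G : Good D) {u n u' : GL D.Idx F} {w : Equiv.Perm (Fin D.nroots)} (hw : Mono G n w)
    (hu : u ∈ D.posUnipotent F) (hu' : u' ∈ D.posUnipotent F) (h : SP G (u * n * u')) : w (hi G) = hi G := by
  obtain ⟨-, c', hc', h⟩ := h
  obtain ⟨-, c, hc0, -, hc2⟩ := hw
  have h := h 1
  rw [conj_hi G hc2 hu'] at h
  have h1 : xg D F (w (hi G)) (c (hi G) * 1) = xg D F (hi G) (c' * 1) := by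
    rw [← hi_comm G (inv_mem hu) (c' * 1), ← h]; group
  exact Fin.ext (xg_root_inj G (w (hi G)).2 (hi G).2 (mul_ne_zero (hc0 _) one_ne_zero) h1)

section
variable {T : TwSys D F} {k : ℕ} {W : TwGen T k} {Y : Gr T.G} {σ : F ≃+* F} (X : TS T W Y σ) (P : TC T)
  {H : Subgroup (GL D.Idx F)} (Z : TH T σ H)

omit Y in
theorem bound_h (Y : Gr T.G) : ∃ m, ∀ r, Y.h r < m := by
  refine ⟨(Finset.univ.sup Y.h) + 1, fun r => ?_⟩
  have := Finset.le_sup (f := Y.h) (Finset.mem_univ r)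
  omega

theorem exists_min (Y : Gr T.G) {b : GL D.Idx F} (hb : b ∈ D.posUnipotent F) (hb1 : b ≠ 1) :
    ∃ (s : Fin D.nroots) (t : F), Pos D s ∧ t ≠ 0 ∧ Y.Co s t b := by
  by_contra hcon
  push Not at hcon
  apply hb1
  have key : ∀ n, b ∈ XS D F (Y.Ah (n + 1)) := by
    intro n
    induction n with
    | zero => exact mem_Ah_one hb
    | succ n ih =>
      refine co_next T.hD ih fun r hr hh => ?_
      rw [← hh] at ih
      obtain ⟨t, ht⟩ := co_exists hr ih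
      by_cases h0 : t = 0
      · rwa [h0] at ht
      · exact absurd ht (hcon r t hr h0)
  obtain ⟨m, hm⟩ := bound_h Y
  have h := key m
  have : Y.Ah (m + 1) = ∅ := by
    ext r
    simp only [Set.mem_empty_iff_false, iff_false]
    intro h
    have := h.2
    have := hm r
    omega
  rw [this] at h
  have h5 : XS D F (∅ : Set (Fin D.nroots)) = ⊥ := by unfold XS; simp
  rwa [h5, Subgroup.mem_bot] at h

include X P

theorem ob_Q {r s : Fin D.nroots} (hs : s ∈ Ob T r) : s ∈ Qd T.G ↔ r ∈ Qd T.G := by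
  obtain ⟨m, rfl⟩ := hs
  have : ∀ m : ℕ, pr D (hi T.G) ((T.ρ ^ m) r : Fin D.nroots) = pr D (hi T.G) r := by
    intro m
    induction m with
    | zero => simp
    | succ m ih =>
      rw [pow_succ', Equiv.Perm.mul_apply]
      have := X.hpr (hi T.G) ((T.ρ ^ m) r)
      rw [X.hhi] at this
      rw [this, ih]
  show 0 < pr D (hi T.G) ((T.ρ ^ m) r : Fin D.nroots) ↔ 0 < pr D (hi T.G) r
  rw [this]

include Z

/-- an element commuting with the fixed elements of `Q` lies in `U` -/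
theorem cent_U {z : GL D.Idx F} (hz : z ∈ T.fix)
    (hc : ∀ y ∈ H, em D (σ : F →+* F) y = y → y ∈ XS D F (Qd T.G) → z * y * z⁻¹ = y) : z ∈ D.posUnipotent F := by
  have hD := T.hD
  obtain ⟨u, ⟨hu, huT⟩, n, ⟨hn, hnT⟩, w, hw, u', ⟨hu', hu'T⟩, rfl⟩ := T.fix_bruhat hz
  have hu'U : u' ∈ D.posUnipotent F := by
    rw [← XS_posS T.G]; exact XS_mono (fun r hr => hr.1) hu'
  have hcomm := T.comm_of_fix hn hw hnT
  have hwob : ∀ r s, s ∈ Ob T r → w s ∈ Ob T (w r) := by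
    rintro r _ ⟨m, rfl⟩
    exact ⟨m, (TwGen.ρ_pow_comm hcomm m r).symm⟩
  have hwob' : ∀ r s, s ∈ w '' (Ob T r) → s ∈ Ob T (w r) := by
    rintro r _ ⟨q, hq, rfl⟩; exact hwob r q hq
  obtain ⟨m0, hm0⟩ := bound_h Y
  -- the conjugate of a lift
  have step : ∀ r : Fin D.nroots, r ∈ Qd T.G → (∀ s ∈ Qd T.G, Y.h r < Y.h s → w s ∈ Ob T s) →
      ∀ y ∈ H, em D (σ : F →+* F) y = y → (xg D F r 1)⁻¹ * y ∈ XS D F (Ob T r \ {r}) →
      Y.Co r (1 : F) (n * y * n⁻¹) := by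
    intro r hr ih y hy hyf hyl
    have hrP := pos_of_pr T.G P.par hr
    have hyQ : y ∈ XS D F (Qd T.G) := XS_mono (fun s hs => (ob_Q X P hs).2 hr) (X.lift_XS hyl)
    have hyc := X.lift_co hrP hyl
    have hz1 := hc y hy hyf hyQ
    have hcl : Closed F (Y.Ah (Y.h r + 1)) := (idl_Ah (Γ := Y) _).closed Y
    have h1 : u' * y * u'⁻¹ * y⁻¹ ∈ XS D F (Qd T.G ∩ Y.Ah (Y.h r + 1)) := by
      refine XS_inf T.G hD (closed_Q T.G P.par F) hcl ?_ (comm_Ah' hu'U (co_mem hrP hyc))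
      exact mul_mem (conj_Q T.G P.par hu'U hyQ) (inv_mem hyQ)
    have h2 : n * (u' * y * u'⁻¹ * y⁻¹) * n⁻¹ ∈ XS D F (Y.Ah (Y.h r + 1)) := by
      refine XS_mono ?_ (mono_conj_XS T.G hw h1)
      rintro _ ⟨s, ⟨hs1, hs2⟩, rfl⟩
      have h3 := ih s hs1 (by have := hs2.2; omega)
      exact ⟨(ob_pos T h3).2 hs2.1, by rw [X.ob_h h3]; exact hs2.2⟩
    have h3 : n * y * n⁻¹ = (n * (u' * y * u'⁻¹ * y⁻¹) * n⁻¹)⁻¹ * (u⁻¹ * y * u⁻¹⁻¹) := by
      have h4 : u⁻¹ * y * u⁻¹⁻¹ = n * (u' * y * u'⁻¹) * n⁻¹ := by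
        calc u⁻¹ * y * u⁻¹⁻¹ = u⁻¹ * (u * n * u' * y * (u * n * u')⁻¹) * u := by rw [hz1]; group
          _ = _ := by group
      rw [h4]; group
    rw [h3]
    refine co_left hrP (co_conj hrP hyc (inv_mem hu)) (co_zero_succ (inv_mem h2))
  have step1 : ∀ (m : ℕ) (r : Fin D.nroots), m0 - Y.h r = m → r ∈ Qd T.G → w r ∈ Ob T r := by
    intro m
    induction m using Nat.strong_induction_on with
    | _ m ih =>
      intro r hm hr
      have hrP := pos_of_pr T.G P.par hr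
      obtain ⟨y, hy, hyf, hyl⟩ := exists_one X Z hrP
      have h1 := step r hr (fun s hs hlt => ih (m0 - Y.h s) (by have := hm0 s; omega) s rfl hs) y hy hyf hyl
      by_contra hno
      have hrn : r ∉ Ob T (w r) := by
        rintro ⟨m, hm⟩
        apply hno
        have hfin : ∃ d : ℕ, 0 < d ∧ T.ρ ^ d = 1 := ⟨orderOf T.ρ, orderOf_pos _, pow_orderOf_eq_one _⟩
        obtain ⟨d, hd, hd1⟩ := hfin
        refine ⟨d * m - m, ?_⟩
        have hle : m ≤ d * m := Nat.le_mul_of_pos_left m hd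
        have h9 : (T.ρ ^ (d * m - m)) ((T.ρ ^ m) (w r)) = w r := by
          rw [← Equiv.Perm.mul_apply, ← pow_add, show d * m - m + m = d * m by omega, pow_mul, hd1, one_pow,
            Equiv.Perm.one_apply]
        rwa [hm] at h9
      have he : n * y * n⁻¹ ∈ XS D F (Ob T (w r)) := by
        refine XS_mono ?_ (mono_conj_XS T.G hw (X.lift_XS hyl))
        rintro _ ⟨q, hq, rfl⟩; exact hwob r q hq
      by_cases hp : Pos D (w r)
      · have hcl : Closed F (Y.Ah (Y.h r)) := (idl_Ah (Γ := Y) _).closed Y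
        have h2 := XS_inf T.G hD (X.ob_closed hp) hcl he (co_mem hrP h1)
        have h3 : Y.Co r (0 : F) (n * y * n⁻¹) := by
          refine co_zero_of ?_ h2
          rintro s ⟨hs1, hs2⟩
          refine ⟨hs2.1, hs2.2, ?_⟩
          rintro rfl
          exact hrn hs1
        exact one_ne_zero (co_uniq hD hrP h1 h3)
      · have h2 : n * y * n⁻¹ = 1 := by
          refine inf_BV T.G hD (borel_U T.G ((idl_Ah (Γ := Y) _).le_U Y (co_mem hrP h1))) ?_
          rw [← XS_negS T.G]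
          refine XS_mono ?_ he
          intro q hq hq'
          exact hp ((ob_pos T hq).1 hq')
        rw [h2] at h1
        exact one_ne_zero (co_uniq hD hrP h1 (co_zero_iff.2 (one_mem _)))
  have hwQ : ∀ r ∈ Qd T.G, w r ∈ Ob T r := fun r hr => step1 _ r rfl hr
  -- `w = 1`
  have hn' : n ∈ D.diagonalSubgroup F := by
    refine mem_diag_of_pos T.G hn hw fun i => ?_
    obtain ⟨L, hL1, hL2, hL3⟩ := P.dom
    by_contra hneg
    have h1 := hL3 _ hneg
    have h2 : (L.map fun x => x.2 * pr D x.1 (w (simpF T.G i) : Fin D.nroots)).sum =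
        (L.map fun x => x.2 * pr D x.1 (simpF T.G i)).sum := by
      congr 1
      apply List.map_congr_left
      intro x hx
      obtain ⟨h3, h4⟩ := hL1 x hx
      have h5 : w x.1 = x.1 := by
        obtain ⟨m, hm⟩ := hwQ _ h4
        rw [← hm]
        clear hm
        induction m with
        | zero => simp
        | succ m ih => rw [pow_succ', Equiv.Perm.mul_apply, ih, h3]
      have h6 := mono_pr T.G hn hw x.1 (simpF T.G i)
      rw [h5] at h6
      rw [h6]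
    rw [h2] at h1
    have := hL2 i
    omega
  have hw1 : w = 1 := mono_unique T.G hw (mono_diag T.G hn')
  have hn1 : n = 1 := by
    have h1 : n ∈ D.posUnipotent F := by
      refine cent_Q_U T.G P.par hD (T.H_le hn') ?_
      intro r hr
      have hrP := pos_of_pr T.G P.par hr
      obtain ⟨y, hy, hyf, hyl⟩ := exists_one X Z hrP
      have h1 := step r hr (fun s hs _ => hwQ s hs) y hy hyf hyl
      obtain ⟨-, c, hc0, -, hc2⟩ := mono_diag T.G hn'
      have h2 : Y.Co r (c r) (n * y * n⁻¹) := by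
        have h10 := diag_conj_XS T.G hn' (X.lift_co hrP hyl)
        have h11 : n * ((xg D F r 1)⁻¹ * y) * n⁻¹ = (n * xg D F r 1 * n⁻¹)⁻¹ * (n * y * n⁻¹) := by group
        rw [h11, hc2, mul_one] at h10
        exact h10
      have h3 := co_uniq hD hrP h2 h1
      have h4 := hc2 r 1
      rw [h3, mul_one, Equiv.Perm.one_apply, mul_inv_eq_iff_eq_mul] at h4
      exact h4
    exact inf_UH T.G hD h1 hn'
  rw [hn1, mul_one]
  exact mul_mem hu hu'U

/-- an element commuting with the fixed elements of `Q` lies in `Q` -/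
theorem cent_Qt {z : GL D.Idx F} (hz : z ∈ T.fix)
    (hc : ∀ y ∈ H, em D (σ : F →+* F) y = y → y ∈ XS D F (Qd T.G) → z * y * z⁻¹ = y) : z ∈ XS D F (Qd T.G) := by
  have hD := T.hD
  have hU := cent_U X P Z hz hc
  rw [← XS_posS T.G] at hU
  obtain ⟨a, ha, b, hb, rfl⟩ := exists_factor' T.G (closed_posS T.G) (Qd T.G) hU
  have haQ : a ∈ XS D F (Qd T.G) := XS_mono Set.inter_subset_right ha
  have hcl : Closed F (posS D \ Qd T.G) := by
    refine ⟨fun r hr => hr.1, fun r hr s hs hne c hc _ k hk => ?_⟩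
    obtain ⟨h1, h2, h3⟩ := pr_comb T.G hr.1 hs.1 hne hc
    have h4 : pr D (hi T.G) r = 0 := le_antisymm (not_lt.1 hr.2) (P.par.dom r hr.1)
    have h5 : pr D (hi T.G) s = 0 := le_antisymm (not_lt.1 hs.2) (P.par.dom s hs.1)
    refine ⟨?_, ?_⟩
    · have := commTerms_gt T.G hr.1 hs.1 hne hc
      show D.nroots / 2 ≤ (k : ℕ)
      omega
    · show ¬ 0 < pr D (hi T.G) k
      rw [hk, h3, h4, h5]; simp
  by_cases hb1 : b = 1
  · rw [hb1, mul_one]; exact haQ
  exfalso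
  have hbU : b ∈ D.posUnipotent F := by rw [← XS_posS T.G]; exact XS_mono (fun r hr => hr.1) hb
  obtain ⟨s, t, hs, ht, hco⟩ := exists_min Y hbU hb1
  have hcl2 : Closed F (Y.Ah (Y.h s)) := (idl_Ah (Γ := Y) _).closed Y
  have h1 := XS_inf T.G hD hcl hcl2 hb (co_mem hs hco)
  have hs0 : pr D (hi T.G) s = 0 := by
    by_contra h
    have h2 : s ∈ Qd T.G := lt_of_le_of_ne (P.par.dom s hs) (Ne.symm h)
    have h3 : Y.Co s (0 : F) b := by
      refine co_zero_of ?_ h1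
      rintro q ⟨hq1, hq2⟩
      refine ⟨hq2.1, hq2.2, ?_⟩
      rintro rfl
      exact hq1.2 h2
    exact ht (co_uniq hD hs hco h3)
  obtain ⟨r, k, N, hr, hk, hsr, hit, hlink⟩ := P.link s hs hs0
  have hrP := pos_of_pr T.G P.par hr
  obtain ⟨y, hy, hyf, hyl⟩ := exists_one X Z hrP
  have hyQ : y ∈ XS D F (Qd T.G) := XS_mono (fun s hs => (ob_Q X P hs).2 hr) (X.lift_XS hyl)
  have h2 := hc y hy hyf hyQ
  obtain ⟨hkP, hkh, hN⟩ : Pos D k ∧ Y.h k = Y.h r + Y.h s ∧ (N = 1 ∨ N = -1) := by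
    rcases Y.cm r s hrP hs hsr with h | ⟨k', N', h, hN', hp, hh⟩
    · unfold Hit at hit; rw [h] at hit; exact absurd hit (by simp)
    · have h' := h
      unfold Hit at hit h'
      rw [h'] at hit
      simp only [List.cons.injEq, Prod.mk.injEq] at hit
      have : k' = k := Fin.ext hit.1.1
      subst this
      refine ⟨hp, hh, ?_⟩
      rw [← hit.1.2.1]; exact hN'
  have h3 : y * b * y⁻¹ * b⁻¹ = y * a⁻¹ * y⁻¹ * a⁻¹⁻¹ := by
    have h4 : b * y⁻¹ * b⁻¹ = a⁻¹ * y⁻¹ * a := by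
      have h5 : (a * b) * y⁻¹ * (a * b)⁻¹ = y⁻¹ := by
        have : (a * b) * y⁻¹ * (a * b)⁻¹ = ((a * b) * y * (a * b)⁻¹)⁻¹ := by group
        rw [this, h2]
      calc b * y⁻¹ * b⁻¹ = a⁻¹ * ((a * b) * y⁻¹ * (a * b)⁻¹) * a := by group
        _ = _ := by rw [h5]
    calc y * b * y⁻¹ * b⁻¹ = y * (b * y⁻¹ * b⁻¹) := by group
      _ = _ := by rw [h4]; group
  have h4 : y * b * y⁻¹ * b⁻¹ ∈ XS D F {hi T.G} := by
    rw [h3]; exact comm_Q T.G P.par hyQ (inv_mem haQ)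
  have h5 := co_comm (Γ := Y) hrP hs hkP hsr hkh hit (e := 1) (t := t) (S := Ob T r \ {r}) (fun s' hs' =>
    ⟨(ob_pos T hs'.1).2 hrP, (X.ob_h hs'.1).ge, fun r' hr' _ hne N' => hlink s' hs'.1 hs'.2 r' hr' hne N'⟩) hyl hco
  have hcl3 : Closed F (Y.Ah (Y.h k)) := (idl_Ah (Γ := Y) _).closed Y
  have h6 := XS_inf T.G hD (closed_single T.G (pos_hi T.G)) hcl3 h4 (co_mem hkP h5)
  have h7 : Y.Co k (0 : F) (y * b * y⁻¹ * b⁻¹) := by
    refine co_zero_of ?_ h6
    rintro q ⟨hq1, hq2⟩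
    refine ⟨hq2.1, hq2.2, ?_⟩
    rw [Set.mem_singleton_iff] at hq1
    rw [hq1]
    exact fun h => hk h.symm
  have h8 := co_uniq hD hkP h5 h7
  rcases hN with h | h <;> rw [h] at h8 <;> simp at h8 <;> exact ht h8

/-- elements of `H` stabilizing the highest root subgroup are fixed -/
theorem MPt (C : CC T Y σ H) {m : GL D.Idx F} (hm : m ∈ H) (h : SP T.G m) : em D (σ : F →+* F) m = m := by
  have hD := T.hD
  obtain ⟨u, ⟨hu, huT⟩, n, ⟨hn, hnT⟩, w, hw, u', ⟨hu', hu'T⟩, hme⟩ := T.fix_bruhat (Z.le hm)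
  have hu'U : u' ∈ D.posUnipotent F := by
    rw [← XS_posS T.G]; exact XS_mono (fun r hr => hr.1) hu'
  have hwhi : w (hi T.G) = hi T.G := w_hi_of_SP T.G hw hu hu'U (by rw [← hme]; exact h)
  have hnQ : ∀ x ∈ XS D F (Qd T.G), n * x * n⁻¹ ∈ XS D F (Qd T.G) := by
    intro x hx
    refine XS_mono ?_ (mono_conj_XS T.G hw hx)
    rintro _ ⟨r, hr, rfl⟩
    show 0 < pr D (hi T.G) (w r)
    have h1 := mono_pr T.G hn hw (hi T.G) r
    rw [hwhi] at h1
    rw [h1]; exact hr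
  have hQU : ∀ x ∈ XS D F (Qd T.G), x ∈ D.posUnipotent F := by
    intro x hx
    rw [← XS_posS T.G]; exact XS_mono (fun r hr => pos_of_pr T.G P.par hr) hx
  have hmQ : ∀ x ∈ XS D F (Qd T.G), m * x * m⁻¹ ∈ XS D F (Qd T.G) := by
    intro x hx
    have h1 : m * x * m⁻¹ = u * (n * (u' * x * u'⁻¹) * n⁻¹) * u⁻¹ := by rw [hme]; group
    rw [h1]
    exact conj_Q T.G P.par hu (hnQ _ (conj_Q T.G P.par hu'U hx))
  set z := m⁻¹ * em D (σ : F →+* F) m with hz
  have hzT : z ∈ T.fix := mul_mem (inv_mem (Z.le hm)) (X.em_fix (Z.le hm))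
  have hzQ : z ∈ XS D F (Qd T.G) := by
    refine cent_Qt X P Z hzT ?_
    intro y hy hyf hyQ
    have h2 := MU X Z C (mul_mem (mul_mem hm hy) (inv_mem hm)) (hQU _ (hmQ _ hyQ))
    rw [map_mul, map_mul, map_inv, hyf] at h2
    calc z * y * z⁻¹ = m⁻¹ * (em D (σ : F →+* F) m * y * (em D (σ : F →+* F) m)⁻¹) * m := by rw [hz]; group
      _ = _ := by rw [h2]; group
  have hy : n * (u' * z * u'⁻¹) * n⁻¹ ∈ XS D F (Qd T.G) := hnQ _ (conj_Q T.G P.par hu'U hzQ)
  have h1 := bruhat_unique T.G hD (u := em D (σ : F →+* F) u) (n := em D (σ : F →+* F) n) (u' := em D (σ : F →+* F) u')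
    (v := u * (n * (u' * z * u'⁻¹) * n⁻¹)) (m := n) (v' := u') (em_U T.G _ hu) (mul_mem hu (hQU _ hy)) (em_N T.G _ hn) hn
    (em_mono T.G σ hw) hw (em_XS T.G _ hu') hu' (by
      have h2 : em D (σ : F →+* F) u * em D (σ : F →+* F) n * em D (σ : F →+* F) u' = m * z := by
        rw [hz, ← map_mul, ← map_mul, ← hme]; group
      rw [h2, hme]; group)
  obtain ⟨-, hfn, hfu'⟩ := h1
  have hu'H : u' ∈ H := Z.ge u' hu'T hfu'
  have hnH : n ∈ H := Z.ge n hnT hfn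
  have huH : u ∈ H := by
    have : u = m * u'⁻¹ * n⁻¹ := by rw [hme]; group
    rw [this]
    exact mul_mem (mul_mem hm (inv_mem hu'H)) (inv_mem hnH)
  rw [hme, map_mul, map_mul, MU X Z C huH hu, hfn, hfu']

end

end Cfsg.Agent.Lib.Sft
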