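import Cfsg.Agent.Lib.SftGr
import Cfsg.Agent.Lib.TwMain
set_option autoImplicit false
set_option linter.unusedSectionVars false
set_option linter.unusedVariables false

/-!
Subgroups of twisted groups containing the elements over the ground field: the setting, unipotent elements (helper44).
-/

namespace Cfsg.Agent.Lib.Sft
open Cfsg.Lie Cfsg.Agent.Lib.ChevX Cfsg.Agent.Lib.ChevGood Cfsg.Agent.Lib.ChevRel Cfsg.Agent.Lib.ChevNPerm
  Cfsg.Agent.Lib.ChevBruhat Cfsg.Agent.Lib.ChevRadCent Cfsg.Agent.Lib.ChevFix Cfsg.Agent.Lib.ChevInv Cfsg.Agent.Lib.Sfo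
  Cfsg.Agent.Lib.TwFix
open Cfsg.Agent.Lib.ChevClosed hiding pr
open scoped MatrixGroups Matrix

variable {D : ChevalleyDatum} {F : Type*} [Field F]

/-- the orbit of a root -/
def Ob (T : TwSys D F) (r : Fin D.nroots) : Set (Fin D.nroots) := {s | ∃ m : ℕ, (T.ρ ^ m) r = s}

theorem ob_self (T : TwSys D F) (r : Fin D.nroots) : r ∈ Ob T r := ⟨0, by simp⟩

theorem ob_pos (T : TwSys D F) {r s : Fin D.nroots} (h : s ∈ Ob T r) : Pos D s ↔ Pos D r := by
  obtain ⟨m, rfl⟩ := h
  exact TwGen.ρ_pow_pos m r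

/-- the setting -/
structure TS (T : TwSys D F) {k : ℕ} (W : TwGen T k) (Y : Gr T.G) (σ : F ≃+* F) : Prop where
  hσ : ∀ r (t : F), t ^ T.f r = σ t
  hε : ∀ r, T.ε r = 1 ∨ T.ε r = -1
  hY : ∀ r, Y.h (T.ρ r) = Y.h r
  hpr : ∀ r s : Fin D.nroots, pr D (T.ρ r) (T.ρ s : Fin D.nroots) = pr D r s
  obc : ∀ r s : Fin D.nroots, s ∈ Ob T r → s ≠ r → D.commTerms r s = []
  lift : ∀ r, Pos D r → ∀ t : F, (T.ρ r = r → xg D F r t ∈ T.fix) → ∃ y ∈ T.fix, (xg D F r t)⁻¹ * y ∈ XS D F (Ob T r \ {r})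
  fixed : ∀ s, T.ρ s = s → s = hi T.G ∨ ∃ j, s < W.wj j s
  hhi : T.ρ (hi T.G) = hi T.G
  εhi : T.ε (hi T.G) = 1

section
variable {T : TwSys D F} {k : ℕ} {W : TwGen T k} {Y : Gr T.G} {σ : F ≃+* F} (X : TS T W Y σ)
include X

theorem TS.σε (r : Fin D.nroots) : σ (T.ε r) = T.ε r := by
  rcases X.hε r with h | h <;> rw [h] <;> simp

theorem TS.s_x (r : Fin D.nroots) (t : F) : T.s (xg D F r t) = xg D F (T.ρ r) (T.ε r * σ t) := by
  rw [T.s_x, X.hσ]

/-- the field automorphism commutes with the twisting -/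
theorem TS.em_s {g : GL D.Idx F} (hg : g ∈ D.group F) :
    T.s (em D (σ : F →+* F) g) = em D (σ : F →+* F) (T.s g) := by
  have hg' := hg
  rw [ChevAuto.group_eq T.G] at hg
  induction hg using Subgroup.closure_induction with
  | mem x hx =>
    obtain ⟨r, hr, t, rfl⟩ := hx
    rw [em_xg T.G]
    have h1 := X.s_x ⟨r, hr⟩ t
    have h2 := X.s_x ⟨r, hr⟩ (σ t)
    simp only [RingHom.coe_coe] at h1 h2 ⊢
    rw [h1, h2, em_xg T.G]
    simp only [RingHom.coe_coe, map_mul, X.σε]
  | one => rw [map_one, T.s_one, map_one]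
  | mul x y hx' hy' hx hy =>
    rw [← ChevAuto.group_eq T.G] at hx' hy'
    rw [map_mul, T.s_mul (em_group T.G _ hx') (em_group T.G _ hy'), T.s_mul hx' hy', map_mul, hx hx', hy hy']
  | inv x hx' hx =>
    rw [← ChevAuto.group_eq T.G] at hx'
    rw [map_inv, T.s_inv (em_group T.G _ hx'), T.s_inv hx', map_inv, hx hx']

theorem TS.em_fix {g : GL D.Idx F} (hg : g ∈ T.fix) : em D (σ : F →+* F) g ∈ T.fix :=
  ⟨em_group T.G _ hg.1, by rw [X.em_s hg.1, hg.2]⟩

/-! ### permutations of the fixed roots -/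

omit X in
theorem word_nl (L : List (Fin k)) : ∃ l : List (Fin D.rank), (L.map W.nj).prod = nl D F l := by
  induction L with
  | nil => exact ⟨[], by simp [nl]⟩
  | cons j L ih =>
    obtain ⟨l, hl⟩ := ih
    refine ⟨W.jw j ++ l, ?_⟩
    rw [nl_append T.G, List.map_cons, List.prod_cons, hl]; rfl

omit X in
theorem word_em (L : List (Fin k)) : em D (σ : F →+* F) (L.map W.nj).prod = (L.map W.nj).prod := by
  obtain ⟨l, hl⟩ := word_nl (W := W) L
  rw [hl, em_nl T.G]

omit X in
theorem word_fix (L : List (Fin k)) : (L.map W.nj).prod ∈ T.fix := by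
  apply Subgroup.list_prod_mem
  intro x hx
  obtain ⟨j, -, rfl⟩ := List.mem_map.mp hx
  exact W.nj_mem_fix j

omit X in
theorem word_N (L : List (Fin k)) : (L.map W.nj).prod ∈ D.monomialSubgroup F := by
  apply Subgroup.list_prod_mem
  intro x hx
  obtain ⟨j, -, rfl⟩ := List.mem_map.mp hx
  exact W.nj_mem_N j

omit X in
theorem word_mono (L : List (Fin k)) : Mono T.G (L.map W.nj).prod (L.map W.wj).prod := by
  induction L with
  | nil => exact mono_one T.G
  | cons j L ih =>
    simp only [List.map_cons, List.prod_cons]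
    exact mono_mul T.G (W.mono_nj j) ih

/-- the constants of a fixed monomial element are fixed -/
theorem TS.mono_fix {n : GL D.Idx F} {w : Equiv.Perm (Fin D.nroots)} {c : Fin D.nroots → F}
    (hc : ∀ (s : Fin D.nroots) (t : F), n * xg D F s t * n⁻¹ = xg D F (w s) (c s * t))
    (hf : em D (σ : F →+* F) n = n) (s : Fin D.nroots) : σ (c s) = c s := by
  have h1 := congrArg (em D (σ : F →+* F)) (hc s 1)
  rw [map_mul, map_mul, map_inv, hf, em_xg T.G, em_xg T.G, map_one, hc s 1] at h1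
  have h2 := xg_inj T.G (w s).2 h1
  simp only [mul_one, RingHom.coe_coe] at h2
  exact h2.symm

theorem TS.eps_w {n : GL D.Idx F} {w : Equiv.Perm (Fin D.nroots)} (hn : n ∈ D.monomialSubgroup F) (hw : Mono T.G n w)
    (hf : em D (σ : F →+* F) n = n) (hT : n ∈ T.fix) {s : Fin D.nroots} (hs : T.ρ s = s) :
    T.ρ (w s) = w s ∧ T.ε (w s) = T.ε s := by
  have hcomm := T.comm_of_fix hn hw hT
  have h0 : T.ρ (w s) = w s := by
    have := congrArg (fun e : Equiv.Perm (Fin D.nroots) => e s) hcomm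
    simp only [Equiv.Perm.mul_apply] at this
    rw [← this, hs]
  refine ⟨h0, ?_⟩
  obtain ⟨-, c, hc0, -, hc⟩ := hw
  have h1 := congrArg T.s (hc s 1)
  have hg := xg_mem_group T.G (F := F) s 1
  rw [T.s_mul (mul_mem hT.1 hg) (inv_mem hT.1), T.s_mul hT.1 hg, T.s_inv hT.1, hT.2, X.s_x, X.s_x, hs, h0, hc] at h1
  have h2 := xg_inj T.G (w s).2 h1
  rw [map_one, mul_one, mul_one, X.mono_fix hc hf] at h2
  have h3 : c s * (T.ε (w s) - T.ε s) = 0 := by rw [mul_sub]; linear_combination -h2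
  rcases mul_eq_zero.1 h3 with h | h
  · exact absurd h (hc0 s)
  · exact sub_eq_zero.1 h

/-- every fixed root is an image of the highest root -/
theorem TS.exists_word {s : Fin D.nroots} (hs : T.ρ s = s) : ∃ L : List (Fin k), (L.map W.wj).prod (hi T.G) = s := by
  have key : ∀ (m : ℕ) (s : Fin D.nroots), D.nroots - s = m → T.ρ s = s →
      ∃ L : List (Fin k), (L.map W.wj).prod (hi T.G) = s := by
    intro m
    induction m using Nat.strong_induction_on with
    | _ m ih =>
      intro s hm hs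
      rcases X.fixed s hs with h | ⟨j, hj⟩
      · exact ⟨[], by rw [h]; simp⟩
      · have h1 := (X.eps_w (W.nj_mem_N j) (W.mono_nj j) (em_nl T.G _ _) (W.nj_mem_fix j) hs).1
        obtain ⟨L, hL⟩ := ih (D.nroots - (W.wj j s)) (by have := (W.wj j s).2; rw [Fin.lt_def] at hj; omega) _ rfl h1
        refine ⟨j :: L, ?_⟩
        rw [List.map_cons, List.prod_cons, Equiv.Perm.mul_apply, hL, ← Equiv.Perm.mul_apply,
          show W.wj j * W.wj j = 1 from W.sq j, Equiv.Perm.one_apply]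
  exact key _ s rfl hs

theorem TS.eps_one {s : Fin D.nroots} (hs : T.ρ s = s) : T.ε s = 1 := by
  obtain ⟨L, hL⟩ := X.exists_word hs
  have := (X.eps_w (word_N (W := W) L) (word_mono (W := W) L) (word_em (W := W) L) (word_fix (W := W) L) X.hhi).2
  rw [hL, X.εhi] at this
  exact this

theorem TS.xg_fix_iff {s : Fin D.nroots} (hs : T.ρ s = s) (t : F) : xg D F s t ∈ T.fix ↔ σ t = t := by
  constructor
  · intro h
    have h1 := h.2
    rw [X.s_x, hs, X.eps_one hs, one_mul] at h1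
    exact xg_inj T.G s.2 h1
  · intro h
    refine ⟨xg_mem_group T.G _ _, ?_⟩
    rw [X.s_x, hs, X.eps_one hs, one_mul, h]

/-! ### coordinates of fixed elements -/

theorem TS.co_s {r : Fin D.nroots} (hr : Pos D r) {t : F} {v : GL D.Idx F} (h : Y.Co r t v) :
    Y.Co (T.ρ r) (T.ε r * σ t) (T.s v) := by
  have hg := co_mem hr h
  have h1 := T.s_XS h
  rw [T.s_mul (inv_mem (xg_mem_group T.G _ _)) (T.XS_le_group _ hg), T.s_inv (xg_mem_group T.G _ _), X.s_x] at h1
  refine XS_mono ?_ h1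
  rintro _ ⟨q, ⟨hq, hqr⟩, rfl⟩
  refine ⟨⟨(T.ρ_pos q).2 hq.1, ?_⟩, ?_⟩
  · rw [X.hY, X.hY]; exact hq.2
  · intro h2
    exact hqr (T.ρ.injective h2)

theorem TS.co_fix {r : Fin D.nroots} (hr : Pos D r) {t : F} {v : GL D.Idx F} (hv : v ∈ T.fix) (h : Y.Co r t v) :
    Y.Co (T.ρ r) (T.ε r * σ t) v := by
  have := X.co_s hr h
  rwa [hv.2] at this

theorem TS.hY_pow (m : ℕ) (r : Fin D.nroots) : Y.h ((T.ρ ^ m) r) = Y.h r := by
  induction m with
  | zero => simp
  | succ m ih => rw [pow_succ', Equiv.Perm.mul_apply, X.hY, ih]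

theorem TS.ob_h {r s : Fin D.nroots} (h : s ∈ Ob T r) : Y.h s = Y.h r := by
  obtain ⟨m, rfl⟩ := h; exact X.hY_pow m r

theorem TS.co_zero_ob {r : Fin D.nroots} (hr : Pos D r) {v : GL D.Idx F} (hv : v ∈ T.fix) (h : Y.Co r (0 : F) v)
    {s : Fin D.nroots} (hs : s ∈ Ob T r) : Y.Co s (0 : F) v := by
  obtain ⟨m, rfl⟩ := hs
  induction m with
  | zero => simpa using h
  | succ m ih =>
    have := X.co_fix ((TwGen.ρ_pow_pos m r).2 hr) hv ih
    rw [map_zero, mul_zero] at this
    rw [pow_succ', Equiv.Perm.mul_apply]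
    exact this

/-- coordinates at fixed roots -/
theorem TS.co_fixed_root {r : Fin D.nroots} (hr : Pos D r) (hρ : T.ρ r = r) {t : F} {v : GL D.Idx F} (hv : v ∈ T.fix)
    (h : Y.Co r t v) : σ t = t := by
  have := X.co_fix hr hv h
  rw [hρ, X.eps_one hρ, one_mul] at this
  exact co_uniq T.hD hr this h

theorem TS.ob_closed {r : Fin D.nroots} (hr : Pos D r) : Closed F (Ob T r) := by
  refine ⟨fun s hs => (ob_pos T hs).2 hr, fun s hs s' hs' hne c hc => ?_⟩
  have h1 : s' ∈ Ob T s := by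
    obtain ⟨m, rfl⟩ := hs
    obtain ⟨m', rfl⟩ := hs'
    have hfin : ∃ d : ℕ, 0 < d ∧ T.ρ ^ d = 1 := ⟨orderOf T.ρ, orderOf_pos _, pow_orderOf_eq_one _⟩
    obtain ⟨d, hd, hd1⟩ := hfin
    refine ⟨m' + (d * m - m), ?_⟩
    rw [← Equiv.Perm.mul_apply, ← pow_add]
    have hle : m ≤ d * m := Nat.le_mul_of_pos_left m hd
    rw [show m' + (d * m - m) + m = m' + d * m by omega, pow_add, pow_mul, hd1, one_pow, mul_one]
  rw [X.obc s s' h1 hne] at hc
  simp at hc

/-- an element of the root subgroup of an orbit is determined by one coordinate -/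
theorem TS.ob_eq_one {r : Fin D.nroots} (hr : Pos D r) {v : GL D.Idx F} (hv : v ∈ T.fix) (hv1 : v ∈ XS D F (Ob T r))
    (h : Y.Co r (0 : F) v) : v = 1 := by
  have h0 : Ob T r ⊆ Y.Ah (Y.h r) := fun s hs => ⟨(ob_pos T hs).2 hr, (X.ob_h hs).ge⟩
  have h1 : v ∈ XS D F (Y.Ah (Y.h r)) := XS_mono h0 hv1
  have h2 := co_next (Γ := Y) T.hD h1 (fun s hs hh => by
    by_cases hso : s ∈ Ob T r
    · exact X.co_zero_ob hr hv h hso
    · refine co_zero_of (A := Ob T r) ?_ hv1
      intro q hq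
      refine ⟨(ob_pos T hq).2 hr, by rw [X.ob_h hq, hh], ?_⟩
      rintro rfl
      exact hso hq)
  have hcl : Closed F (Y.Ah (Y.h r + 1)) := (idl_Ah (Γ := Y) _).closed Y
  have h3 := XS_inf T.G T.hD (X.ob_closed hr) hcl hv1 h2
  have h4 : (Ob T r) ∩ (Y.Ah (Y.h r + 1)) = ∅ := by
    ext q
    simp only [Set.mem_inter_iff, Set.mem_empty_iff_false, iff_false, not_and]
    intro h5 h6
    have h7 := X.ob_h h5
    have h8 := h6.2
    omega
  rw [h4] at h3
  have h5 : XS D F (∅ : Set (Fin D.nroots)) = ⊥ := by unfold XS; simp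
  rwa [h5, Subgroup.mem_bot] at h3

theorem TS.lift_XS {r : Fin D.nroots} {t : F} {y : GL D.Idx F} (h : (xg D F r t)⁻¹ * y ∈ XS D F (Ob T r \ {r})) :
    y ∈ XS D F (Ob T r) := by
  have h1 : y = xg D F r t * ((xg D F r t)⁻¹ * y) := by group
  rw [h1]
  exact mul_mem (xg_mem_XS (A := Ob T r) (ob_self T r) t) (XS_mono Set.sdiff_subset h)

theorem TS.lift_co {r : Fin D.nroots} (hr : Pos D r) {t : F} {y : GL D.Idx F}
    (h : (xg D F r t)⁻¹ * y ∈ XS D F (Ob T r \ {r})) : Y.Co r t y := by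
  refine XS_mono ?_ h
  rintro q ⟨hq, hqr⟩
  exact ⟨⟨(ob_pos T hq).2 hr, (X.ob_h hq).ge⟩, hqr⟩

/-- lifts of fixed scalars are fixed -/
theorem TS.lift_em {r : Fin D.nroots} (hr : Pos D r) {t : F} (ht : σ t = t) {y : GL D.Idx F} (hy : y ∈ T.fix)
    (h : (xg D F r t)⁻¹ * y ∈ XS D F (Ob T r \ {r})) : em D (σ : F →+* F) y = y := by
  have h1 : em D (σ : F →+* F) ((xg D F r t)⁻¹ * y) ∈ XS D F (Ob T r \ {r}) := em_XS T.G _ h
  rw [map_mul, map_inv, em_xg T.G] at h1
  simp only [RingHom.coe_coe] at h1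
  rw [ht] at h1
  have h2 := co_mul hr (co_inv hr (X.lift_co hr h)) (X.lift_co hr h1)
  rw [neg_add_cancel] at h2
  have h3 := X.ob_eq_one hr (mul_mem (inv_mem hy) (X.em_fix hy)) (mul_mem (inv_mem (X.lift_XS h)) (X.lift_XS h1)) h2
  exact (inv_mul_eq_one.1 h3).symm

end

/-- a subgroup between the elements over the ground field and the whole group -/
structure TH (T : TwSys D F) (σ : F ≃+* F) (H : Subgroup (GL D.Idx F)) : Prop where
  le : H ≤ T.fix
  ge : ∀ g ∈ T.fix, em D (σ : F →+* F) g = g → g ∈ H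

section
variable {T : TwSys D F} {k : ℕ} {W : TwGen T k} {Y : Gr T.G} {σ : F ≃+* F} (X : TS T W Y σ)
  {H : Subgroup (GL D.Idx F)} (Z : TH T σ H)
include X Z

/-- the lift of `1` -/
theorem exists_one {r : Fin D.nroots} (hr : Pos D r) : ∃ y ∈ H, em D (σ : F →+* F) y = y ∧
    (xg D F r 1)⁻¹ * y ∈ XS D F (Ob T r \ {r}) := by
  obtain ⟨y, hy, h⟩ := X.lift r hr 1 (fun h => (X.xg_fix_iff h 1).2 (map_one σ))
  have h1 := X.lift_em hr (map_one σ) hy h
  exact ⟨y, Z.ge y hy h1, h1, h⟩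

theorem xg_mem_H {s : Fin D.nroots} (hs : T.ρ s = s) {t : F} (ht : σ t = t) : xg D F s t ∈ H := by
  refine Z.ge _ ((X.xg_fix_iff hs t).2 ht) ?_
  rw [em_xg T.G]
  simp only [RingHom.coe_coe]
  rw [ht]

omit X in
theorem word_H (L : List (Fin k)) : (L.map W.nj).prod ∈ H := Z.ge _ (word_fix L) (word_em L)

/-- coordinates of elements of `H` at the moved roots are fixed -/
def CC (T : TwSys D F) (Y : Gr T.G) (σ : F ≃+* F) (H : Subgroup (GL D.Idx F)) : Prop :=
  ∀ r, Pos D r → T.ρ r ≠ r → ∀ (t : F) (v : GL D.Idx F), v ∈ H → Y.Co r t v → σ t = t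

/-- unipotent elements of `H` are fixed -/
theorem MU (C : CC T Y σ H) {v : GL D.Idx F} (hv : v ∈ H) (hvU : v ∈ D.posUnipotent F) :
    em D (σ : F →+* F) v = v := by
  have hD := T.hD
  -- bound for the heights
  obtain ⟨m, hm⟩ : ∃ m, ∀ r, Y.h r < m := by
    refine ⟨(Finset.univ.sup Y.h) + 1, fun r => ?_⟩
    have := Finset.le_sup (f := Y.h) (Finset.mem_univ r)
    omega
  have key : ∀ (q n : ℕ), m ≤ n + q → ∀ v ∈ H, v ∈ XS D F (Y.Ah n) → em D (σ : F →+* F) v = v := by
    intro q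
    induction q with
    | zero =>
      intro n hn v hv h
      have : Y.Ah n = ∅ := by
        ext r
        simp only [Set.mem_empty_iff_false, iff_false]
        intro h
        have := h.2
        have := hm r
        omega
      rw [this] at h
      have h5 : XS D F (∅ : Set (Fin D.nroots)) = ⊥ := by unfold XS; simp
      rw [h5, Subgroup.mem_bot] at h
      rw [h, map_one]
    | succ q ih =>
      intro n hn
      have hl : ∀ (l : List (Fin D.nroots)) (v : GL D.Idx F), v ∈ H → v ∈ XS D F (Y.Ah n) →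
          (∀ r, Pos D r → Y.h r = n → r ∉ l → Y.Co r (0 : F) v) → em D (σ : F →+* F) v = v := by
        intro l
        induction l with
        | nil =>
          intro v hv h1 h2
          exact ih (n + 1) (by omega) v hv (co_next hD h1 (fun r hr hh => h2 r hr hh (by simp)))
        | cons r l ihl =>
          intro v hv h1 h2
          by_cases hr : Pos D r ∧ Y.h r = n
          · obtain ⟨hr, hrn⟩ := hr
            rw [← hrn] at h1
            obtain ⟨t, ht⟩ := co_exists hr h1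
            have htσ : σ t = t := by
              by_cases hρ : T.ρ r = r
              · exact X.co_fixed_root hr hρ (Z.le hv) ht
              · exact C r hr hρ t v hv ht
            obtain ⟨y, hy, hyl⟩ := X.lift r hr t (fun h => (X.xg_fix_iff h t).2 htσ)
            have hyf := X.lift_em hr htσ hy hyl
            have hyH := Z.ge y hy hyf
            have hyc := X.lift_co hr hyl
            have hyX := X.lift_XS hyl
            have h3 := ihl (y⁻¹ * v) (mul_mem (inv_mem hyH) hv) (by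
              rw [← hrn]
              exact mul_mem (inv_mem (co_mem hr hyc)) h1) (fun r' hr' hh' hn' => by
                by_cases ho : r' ∈ Ob T r
                · have h4 := co_mul hr (co_inv hr hyc) ht
                  rw [neg_add_cancel] at h4
                  exact X.co_zero_ob hr (mul_mem (inv_mem hy) (Z.le hv)) h4 ho
                · have h5 : r' ≠ r := by rintro rfl; exact ho (ob_self T _)
                  refine co_left hr' (h2 r' hr' hh' (by simp [h5, hn'])) ?_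
                  have h6 : Y.Co r' (0 : F) y := by
                    refine co_zero_of (A := Ob T r) ?_ hyX
                    intro q hq
                    refine ⟨(ob_pos T hq).2 hr, by rw [X.ob_h hq, hh', hrn], ?_⟩
                    rintro rfl
                    exact ho hq
                  have := co_inv hr' h6
                  rwa [neg_zero] at this)
            rw [map_mul, map_inv, hyf] at h3
            exact mul_left_cancel h3
          · refine ihl v hv h1 (fun r' hr' hh' hn' => h2 r' hr' hh' ?_)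
            simp only [List.mem_cons, not_or]
            refine ⟨?_, hn'⟩
            rintro rfl
            exact hr ⟨hr', hh'⟩
      intro v hv h1
      exact hl (List.finRange D.nroots) v hv h1 (fun r _ _ h => absurd (List.mem_finRange r) h)
  exact key m 1 (by omega) v hv (mem_Ah_one hvU)

/-- Borel elements of `H` are fixed -/
theorem MB (C : CC T Y σ H) {b : GL D.Idx F} (hb : b ∈ H) (hbB : b ∈ D.borelSubgroup F) :
    em D (σ : F →+* F) b = b := by
  have hD := T.hD
  obtain ⟨u, hu, h, hh, rfl⟩ := mem_borel T.G hbB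
  have h1 := Z.le hb
  have hug := T.U_le hu
  have hhg := T.H_le hh
  have h2 : T.s u * T.s h = u * h := by rw [← T.s_mul hug hhg]; exact h1.2
  have h3 : u⁻¹ * T.s u = h * (T.s h)⁻¹ := by
    calc u⁻¹ * T.s u = u⁻¹ * (T.s u * T.s h) * (T.s h)⁻¹ := by group
      _ = _ := by rw [h2]; group
  have h4 : u⁻¹ * T.s u = 1 := inf_UH T.G T.hD (mul_mem (inv_mem hu) (T.s_U hu))
    (by rw [h3]; exact mul_mem hh (inv_mem (T.s_H hh)))
  have h5 : T.s u = u := (inv_mul_eq_one.mp h4).symm
  have h6 : T.s h = h := by rw [h5] at h2; exact mul_left_cancel h2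
  -- the torus part is fixed
  obtain ⟨h2', hh2⟩ : ∃ h2', h2' = h⁻¹ * em D (σ : F →+* F) h := ⟨_, rfl⟩
  have hh2H : h2' ∈ D.diagonalSubgroup F := by rw [hh2]; exact mul_mem (inv_mem hh) (em_H T.G _ hh)
  obtain ⟨u2, hu2⟩ : ∃ u2, u2 = h⁻¹ * (u⁻¹ * em D (σ : F →+* F) u) * h := ⟨_, rfl⟩
  have hu2U : u2 ∈ D.posUnipotent F := by
    have h7 := mul_mem (inv_mem hu) (em_U T.G (σ : F →+* F) hu)
    rw [← XS_posS T.G] at h7 ⊢
    have h8 := diag_conj_XS T.G (inv_mem hh) h7
    rw [inv_inv] at h8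
    rw [hu2]; exact h8
  have hz : (u * h)⁻¹ * em D (σ : F →+* F) (u * h) = u2 * h2' := by
    rw [hu2, hh2, map_mul]; group
  have hone : h2' = 1 := by
    apply TwAll.diag_eq_one T hh2H
    intro i
    have hp := pos_simpF T.G i
    obtain ⟨y, hyH, hyf, hyl⟩ := exists_one X Z hp
    have hyc := X.lift_co hp hyl
    have hyU : y ∈ D.posUnipotent F := (idl_Ah (Γ := Y) _).le_U Y (co_mem hp hyc)
    have hconj : em D (σ : F →+* F) (u * h * y * (u * h)⁻¹) = u * h * y * (u * h)⁻¹ := by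
      refine MU X Z C (mul_mem (mul_mem hb hyH) (inv_mem hb)) ?_
      have h8 : h * y * h⁻¹ ∈ D.posUnipotent F := by
        rw [← XS_posS T.G] at hyU ⊢
        exact diag_conj_XS T.G hh hyU
      have : u * h * y * (u * h)⁻¹ = u * (h * y * h⁻¹) * u⁻¹ := by group
      rw [this]
      exact mul_mem (mul_mem hu h8) (inv_mem hu)
    rw [map_mul, map_mul, map_inv, hyf] at hconj
    have hzy : (u2 * h2') * y * (u2 * h2')⁻¹ = y := by
      rw [← hz]
      calc (u * h)⁻¹ * em D (σ : F →+* F) (u * h) * y * ((u * h)⁻¹ * em D (σ : F →+* F) (u * h))⁻¹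
          = (u * h)⁻¹ * (em D (σ : F →+* F) (u * h) * y * (em D (σ : F →+* F) (u * h))⁻¹) * (u * h) := by group
        _ = _ := by rw [hconj]; group
    obtain ⟨-, c, hc0, -, hc⟩ := mono_diag T.G hh2H
    have h9 : Y.Co (simpF T.G i) (c (simpF T.G i)) (h2' * y * h2'⁻¹) := by
      have h10 := diag_conj_XS T.G hh2H hyc
      have h11 : h2' * ((xg D F (simpF T.G i) 1)⁻¹ * y) * h2'⁻¹ =
          (h2' * xg D F (simpF T.G i) 1 * h2'⁻¹)⁻¹ * (h2' * y * h2'⁻¹) := by group
      rw [h11, hc, mul_one] at h10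
      exact h10
    have h12 : Y.Co (simpF T.G i) 1 (h2' * y * h2'⁻¹) := by
      have h13 : h2' * y * h2'⁻¹ = u2⁻¹ * y * u2⁻¹⁻¹ := by
        rw [inv_inv]
        calc h2' * y * h2'⁻¹ = u2⁻¹ * ((u2 * h2') * y * (u2 * h2')⁻¹) * u2 := by group
          _ = _ := by rw [hzy]
      rw [h13]
      exact co_conj hp hyc (inv_mem hu2U)
    have h14 := co_uniq hD hp h9 h12
    rw [hc, h14, one_mul, Equiv.Perm.one_apply]
  have hhf : em D (σ : F →+* F) h = h := by
    rw [hh2] at hone
    exact (inv_mul_eq_one.1 hone).symm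
  have hhH : h ∈ H := Z.ge h ⟨hhg, h6⟩ hhf
  have huH : u ∈ H := (Subgroup.mul_mem_cancel_right _ hhH).1 hb
  rw [map_mul, hhf, MU X Z C huH hu]

end

end Cfsg.Agent.Lib.Sft
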