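import Cfsg.Agent.Lib.SftFin
import Cfsg.Agent.Lib.TwCount
set_option autoImplicit false
set_option linter.unusedSectionVars false
set_option linter.unusedVariables false

/-!
Subgroups of twisted groups containing the elements over the ground field: boolean checks (helper44).
-/

namespace Cfsg.Agent.Lib.Sft
open Cfsg.Lie Cfsg.Agent.Lib.ChevX Cfsg.Agent.Lib.ChevGood Cfsg.Agent.Lib.ChevRel Cfsg.Agent.Lib.ChevNPerm
  Cfsg.Agent.Lib.ChevBruhat Cfsg.Agent.Lib.ChevRadCent Cfsg.Agent.Lib.ChevFix Cfsg.Agent.Lib.ChevInv Cfsg.Agent.Lib.Sfo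
  Cfsg.Agent.Lib.TwFix Cfsg.Agent.Lib.TwTab
open Cfsg.Agent.Lib.ChevClosed hiding pr
open scoped MatrixGroups Matrix

variable {D : ChevalleyDatum} {F : Type*} [Field F]

/-- the data of a hit -/
def hitO (D : ChevalleyDatum) (r s : ℕ) : Option (ℕ × ℤ) :=
  match D.commTerms r s with
  | [(k, N, 1, 1)] => some (k, N)
  | _ => none

theorem hitO_iff {r s k : ℕ} {N : ℤ} : hitO D r s = some (k, N) ↔ Hit D r s k N := by
  unfold hitO Hit
  split
  · next k' N' h =>
    rw [h]
    simp only [Option.some.injEq, Prod.mk.injEq, List.cons.injEq, and_true]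
  · next h =>
    simp only [reduceCtorEq, false_iff]
    exact fun h' => h _ _ h'

/-- the check of the heights -/
def grB (D : ChevalleyDatum) (H : List ℕ) : Bool :=
  Tab.ball D.nroots fun r => !Nat.ble (D.nroots / 2) r || (Nat.blt 0 (H.getD r 0) && Tab.ball D.nroots fun s =>
    !Nat.ble (D.nroots / 2) s || s == r || (D.commTerms r s).isEmpty ||
    match hitO D r s with
    | some (k, N) => (N == 1 || N == -1) && Nat.ble (D.nroots / 2) k && Nat.blt k D.nroots && H.getD k 0 == H.getD r 0 + H.getD s 0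
    | none => false)

def grOf (G : Good D) {H : List ℕ} (h : grB D H = true) : Gr G where
  h r := H.getD r 0
  pos r hr := by
    unfold grB at h
    rw [Tab.ball_iff] at h
    have h1 := h r r.2
    rw [Tab.imp_iff] at h1
    have h2 := h1 (Nat.ble_eq.mpr hr)
    rw [Bool.and_eq_true, Nat.blt_eq] at h2
    exact h2.1
  cm r s hr hs hne := by
    unfold grB at h
    rw [Tab.ball_iff] at h
    have h1 := h r r.2
    rw [Tab.imp_iff] at h1
    have h2 := h1 (Nat.ble_eq.mpr hr)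
    rw [Bool.and_eq_true, Tab.ball_iff] at h2
    have h3 := h2.2 s s.2
    rw [Bool.or_assoc, Bool.or_assoc, Tab.imp_iff] at h3
    have h4 := h3 (Nat.ble_eq.mpr hs)
    simp only [Bool.or_eq_true, beq_iff_eq, List.isEmpty_iff] at h4
    rcases h4 with h4 | h4 | h4
    · exact absurd (Fin.ext h4) hne
    · exact Or.inl h4
    · split at h4
      · next k N hh =>
        simp only [Bool.and_eq_true, Bool.or_eq_true, beq_iff_eq, Nat.ble_eq, Nat.blt_eq] at h4
        obtain ⟨⟨⟨a, b⟩, c⟩, d⟩ := h4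
        exact Or.inr ⟨⟨k, c⟩, N, hitO_iff.1 hh, a, b, d⟩
      · exact absurd h4 (by simp)

/-- the check of the permutation -/
def tsB (C : Tab) (D : ChevalleyDatum) (H : List ℕ) (d : ℕ) : Bool :=
  Tab.ball C.n (fun r => (H.getD (C.rh r) 0 == H.getD r 0) && (C.rhP d r == r) &&
    ((List.range d).all fun m => C.rhP m r == r || (D.commTerms r (C.rhP m r)).isEmpty) &&
    (C.rh r != r || r == C.n - 1 || Tab.bex C.nz fun j => Nat.blt r (C.wlN (C.jwN j) r)) &&
    (C.levN r == 0) &&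
    Tab.ball C.n fun s => pr D (C.rh r) (C.rh s) == pr D r s) && (C.rh (C.n - 1) == C.n - 1) && Nat.blt 0 d

/-- the blocks are orbits -/
theorem SB_sub {T : TwSys D F} {R : TwRk T} {k : ℕ} {W : TwGen T k} {B : TwBlk R W} (hlev : ∀ r, B.lev r = 0)
    {r : Fin D.nroots} (hr : Pos D r) : B.SB r ⊆ Ob T r \ {r} := by
  rintro s ⟨h1, -, h3⟩
  have hs : Pos D s := B.bl_pos r s h1.symm hr
  have h4 := B.lev_rk r s hr h1.symm (by rw [hlev, hlev])
  have h5 := B.lev_rk s r hs h1 (by rw [hlev, hlev])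
  exact ⟨R.orb r s hr hs (le_antisymm h4 h5), h3⟩

theorem SB_sup {T : TwSys D F} {R : TwRk T} {k : ℕ} {W : TwGen T k} {B : TwBlk R W} (hlev : ∀ r, B.lev r = 0)
    {r : Fin D.nroots} : Ob T r \ {r} ⊆ B.SB r := by
  rintro s ⟨⟨m, rfl⟩, h3⟩
  refine ⟨?_, by rw [hlev, hlev], h3⟩
  induction m with
  | zero => simp
  | succ m ih =>
    rw [pow_succ', Equiv.Perm.mul_apply, B.bl_ρ]
    by_cases h : (T.ρ ^ m) r = r
    · rw [h]
    · exact ih h

section eps
variable {T : TwSys D F} {k : ℕ} {W : TwGen T k} {σ : F ≃+* F} (hσ : ∀ r (t : F), t ^ T.f r = σ t)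
  (hε : ∀ r, T.ε r = 1 ∨ T.ε r = -1)
include hσ hε

theorem eps_w0 {n : GL D.Idx F} {w : Equiv.Perm (Fin D.nroots)} (hn : n ∈ D.monomialSubgroup F) (hw : Mono T.G n w)
    (hf : em D (σ : F →+* F) n = n) (hT : n ∈ T.fix) {s : Fin D.nroots} (hs : T.ρ s = s) :
    T.ρ (w s) = w s ∧ T.ε (w s) = T.ε s := by
  have hcomm := T.comm_of_fix hn hw hT
  have h0 : T.ρ (w s) = w s := by
    have := congrArg (fun e : Equiv.Perm (Fin D.nroots) => e s) hcomm
    simp only [Equiv.Perm.mul_apply] at this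
    rw [← this, hs]
  refine ⟨h0, ?_⟩
  obtain ⟨-, c, hc0, -, hc⟩ := hw
  have hcs : σ (c s) = c s := by
    have h1 := congrArg (em D (σ : F →+* F)) (hc s 1)
    rw [map_mul, map_mul, map_inv, hf, em_xg T.G, em_xg T.G, map_one, hc s 1] at h1
    have h2 := xg_inj T.G (w s).2 h1
    simp only [mul_one, RingHom.coe_coe] at h2
    exact h2.symm
  have h1 := congrArg T.s (hc s 1)
  have hg := xg_mem_group T.G (F := F) s 1
  rw [T.s_mul (mul_mem hT.1 hg) (inv_mem hT.1), T.s_mul hT.1 hg, T.s_inv hT.1, hT.2, T.s_x, T.s_x, hσ, hσ, hs, h0, hc] at h1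
  have h2 := xg_inj T.G (w s).2 h1
  rw [map_one, mul_one, mul_one, hcs] at h2
  have h3 : c s * (T.ε (w s) - T.ε s) = 0 := by rw [mul_sub]; linear_combination -h2
  rcases mul_eq_zero.1 h3 with h | h
  · exact absurd h (hc0 s)
  · exact sub_eq_zero.1 h

theorem eps_hi (fixed : ∀ s, T.ρ s = s → s = hi T.G ∨ ∃ j, s < W.wj j s) {s : Fin D.nroots} (hs : T.ρ s = s) :
    T.ε s = T.ε (hi T.G) := by
  have key : ∀ (m : ℕ) (s : Fin D.nroots), D.nroots - s = m → T.ρ s = s → T.ε s = T.ε (hi T.G) := by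
    intro m
    induction m using Nat.strong_induction_on with
    | _ m ih =>
      intro s hm hs
      rcases fixed s hs with h | ⟨j, hj⟩
      · rw [h]
      · obtain ⟨h1, h2⟩ := eps_w0 hσ hε (W.nj_mem_N j) (W.mono_nj j) (em_nl T.G _ _) (W.nj_mem_fix j) hs
        rw [← h2]
        exact ih (D.nroots - (W.wj j s)) (by have := (W.wj j s).2; rw [Fin.lt_def] at hj; omega) _ rfl h1
  exact key _ s rfl hs

end eps

/-- the setting from the package -/
theorem tsOf {T : TwSys D F} {R : TwRk T} {k : ℕ} {W : TwGen T k} {B : TwBlk R W} {Γ : Subgroup (GL D.Idx F)}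
    (K : TwAll B Γ) (hlev : ∀ r, B.lev r = 0) {Y : Gr T.G} {σ : F ≃+* F} (hσ : ∀ r (t : F), t ^ T.f r = σ t)
    (hε : ∀ r, T.ε r = 1 ∨ T.ε r = -1) (hY : ∀ r, Y.h (T.ρ r) = Y.h r)
    (hpr : ∀ r s : Fin D.nroots, pr D (T.ρ r) (T.ρ s : Fin D.nroots) = pr D r s)
    (obc : ∀ r s : Fin D.nroots, s ∈ Ob T r → s ≠ r → D.commTerms r s = [])
    (fixed : ∀ s, T.ρ s = s → s = hi T.G ∨ ∃ j, s < W.wj j s) (hhi : T.ρ (hi T.G) = hi T.G)
    {s0 : Fin D.nroots} (hs0 : T.ρ s0 = s0) (hε0 : T.ε s0 = 1) : TS T W Y σ where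
  hσ := hσ
  hε := hε
  hY := hY
  hpr := hpr
  obc := obc
  lift r hr t ht := by
    obtain ⟨y, hy, h⟩ := K.lift r hr t ht
    exact ⟨y, K.le hy, XS_mono (SB_sub hlev hr) h⟩
  fixed := fixed
  hhi := hhi
  εhi := by rw [← eps_hi hσ hε fixed hs0, hε0]

section fam
variable {G : Good D} {C : Tab} (S : SigData G C F) (h1 : C.chk1 D = true) (h2 : C.chk2 = true)
  (hD : Listed D)

/-- the orbits -/
theorem mem_Ob {d : ℕ} (hd : 0 < d) (hp : ∀ r < C.n, C.rhP d r = r) {r s : Fin D.nroots} (h : s ∈ Ob (S.sys h1 h2 hD) r) :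
    ∃ m < d, C.rhP m r = s := by
  obtain ⟨m, rfl⟩ := h
  have hpd : ((S.sys h1 h2 hD).ρ ^ d) r = r := by
    apply Fin.ext
    rw [rhP_eq S h1 h2 hD, hp r (by rw [(Tab.c1 h1).1]; exact r.2)]
  refine ⟨m % d, Nat.mod_lt _ hd, ?_⟩
  rw [← rhP_eq S h1 h2 hD]
  congr 1
  have key : ∀ q : ℕ, ((S.sys h1 h2 hD).ρ ^ (d * q)) r = r := by
    intro q
    induction q with
    | zero => simp
    | succ q ih => rw [Nat.mul_succ, pow_add, Equiv.Perm.mul_apply, hpd, ih]
  conv_rhs => rw [← Nat.mod_add_div m d, pow_add, Equiv.Perm.mul_apply, key]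

theorem tsB_iff {H : List ℕ} {d : ℕ} (h : tsB C D H d = true) :
    (∀ r < C.n, H.getD (C.rh r) 0 = H.getD r 0 ∧ C.rhP d r = r ∧
      (∀ m < d, C.rhP m r = r ∨ D.commTerms r (C.rhP m r) = []) ∧
      (C.rh r = r → r = C.n - 1 ∨ ∃ j < C.nz, r < C.wlN (C.jwN j) r) ∧ C.levN r = 0 ∧
      ∀ s < C.n, pr D (C.rh r) (C.rh s) = pr D r s) ∧ C.rh (C.n - 1) = C.n - 1 ∧ 0 < d := by
  unfold tsB at h
  simp only [Bool.and_eq_true, Tab.ball_iff, Tab.bex_iff, beq_iff_eq, bne_iff_ne, Bool.or_eq_true, List.all_eq_true,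
    List.isEmpty_iff, Nat.blt_eq, List.mem_range] at h
  obtain ⟨⟨h3, h4⟩, h5⟩ := h
  refine ⟨fun r hr => ?_, h4, h5⟩
  obtain ⟨⟨⟨⟨⟨a, b⟩, c⟩, d'⟩, e⟩, f⟩ := h3 r hr
  refine ⟨a, b, c, fun hh => ?_, e, f⟩
  rcases d' with (h | h) | h
  · exact absurd hh h
  · exact Or.inl h
  · exact Or.inr h

/-- the check of the facts about the highest root -/
def tcB (C : Tab) (D : ChevalleyDatum) (L : List (Fin D.nroots × ℤ)) (d : ℕ) : Bool :=
  Tab.bex C.n (fun s => pr D (C.n - 1) s == 1) &&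
  Tab.ball C.n (fun s => C.rh s != s || (s == C.n - 1 || (s == 0 || ((D.commTerms (C.n - 1) s).isEmpty ||
    match hitO D (C.n - 1) s with
    | some (k, N) => C.rh k == k && Nat.blt k C.n && (N == 1 || N == -1) && k != C.n - 1 && k != 0 && k != s &&
        k != C.n - 1 - s && (D.commTerms (C.n - 1) k).isEmpty && (D.commTerms s k).isEmpty
    | none => false)))) &&
  (L.all (fun x => C.rh x.1 == x.1.val && decide (0 < pr D (C.n - 1) x.1))) &&
  Tab.ball C.rank (fun i => decide (0 < (L.map fun x => x.2 * pr D x.1 (D.simple i)).sum)) &&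
  Tab.ball C.n (fun s => Nat.ble (C.n / 2) s || decide ((L.map fun x => x.2 * pr D x.1 s).sum ≤ 0)) &&
  Tab.ball C.n (fun s => !Nat.ble (C.n / 2) s || (pr D (C.n - 1) s != 0 || Tab.bex C.n fun r =>
    decide (0 < pr D (C.n - 1) r) && s != r && match hitO D r s with
    | some (k, N) => Nat.blt k C.n && k != C.n - 1 && (List.range d).all fun m => C.rhP m r == r || Tab.ball C.n fun s' =>
        !Nat.ble (C.n / 2) s' || (s' == C.rhP m r || match hitO D (C.rhP m r) s' with
          | some (k', _) => k' != k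
          | none => true)
    | none => false))

include h1 h2 hD S in
theorem tcOf (P : Par G) {H : List ℕ} {d : ℕ} (ht : tsB C D H d = true) {L : List (Fin D.nroots × ℤ)}
    (h : tcB C D L d = true) : TC (S.sys h1 h2 hD) := by
  obtain ⟨ht1, ht2, ht3⟩ := tsB_iff ht
  have hn := (Tab.c1 h1).1
  have hrank := (Tab.c1 h1).2.1
  unfold tcB at h
  simp only [Bool.and_eq_true, Tab.ball_iff, Tab.bex_iff, beq_iff_eq, bne_iff_ne, Bool.or_eq_true, List.all_eq_true,
    List.isEmpty_iff, decide_eq_true_eq, Bool.not_eq_true', Nat.blt_eq] at h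
  obtain ⟨⟨⟨⟨⟨a1, a2⟩, a3⟩, a4⟩, a5⟩, a6⟩ := h
  have hhi : ((hi G : Fin D.nroots) : ℕ) = C.n - 1 := by rw [hn]; rfl
  have hneg : ∀ s : Fin D.nroots, ((negF G s : Fin D.nroots) : ℕ) = C.n - 1 - s := fun s => by
    rw [hn]; exact G.neg_eq s s.2
  have hρ : ∀ s : Fin D.nroots, (((S.sys h1 h2 hD).ρ s : Fin D.nroots) : ℕ) = C.rh s := fun s => rfl
  refine ⟨P, ?_, ?_, ?_, ?_⟩
  · obtain ⟨s, hs, h⟩ := a1
    refine ⟨⟨s, by omega⟩, ?_⟩
    show pr D ((hi G : Fin D.nroots) : ℕ) s = 1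
    rw [hhi]; exact h
  · intro s hs
    have hs' : C.rh s = s := congrArg Fin.val hs
    rcases a2 s (by omega) with h | h | h | h | h
    · exact absurd hs' h
    · exact Or.inl (Fin.ext (by rw [h]; exact hhi.symm))
    · refine Or.inr (Or.inl (Fin.ext ?_))
      show (s : ℕ) = ((negF G (hi G) : Fin D.nroots) : ℕ)
      rw [hneg, hhi, h]; omega
    · refine Or.inr (Or.inr (Or.inl ?_))
      show D.commTerms ((hi G : Fin D.nroots) : ℕ) s = []
      rw [hhi]; exact h
    · refine Or.inr (Or.inr (Or.inr ?_))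
      split at h
      · next k N hh =>
        simp only [Bool.and_eq_true, Bool.or_eq_true, beq_iff_eq, bne_iff_ne, List.isEmpty_iff, Nat.blt_eq] at h
        obtain ⟨⟨⟨⟨⟨⟨⟨⟨b1, b2⟩, b3⟩, b4⟩, b5⟩, b6⟩, b7⟩, b8⟩, b9⟩ := h
        refine ⟨⟨k, by omega⟩, N, Fin.ext b1, ?_, b3, fun h => b4 ?_, fun h => b5 ?_, fun h => b6 (congrArg Fin.val h),
          fun h => b7 ?_, ?_, b9⟩
        · show D.commTerms ((hi G : Fin D.nroots) : ℕ) s = _
          rw [hhi]; exact hitO_iff.1 hh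
        · rw [← hhi]; exact congrArg Fin.val h
        · have := congrArg Fin.val h
          have h3 : k = C.n - 1 - ((hi G : Fin D.nroots) : ℕ) := this.trans (hneg (hi G))
          rw [hhi] at h3; omega
        · exact (congrArg Fin.val h).trans (hneg s)
        · show D.commTerms ((hi G : Fin D.nroots) : ℕ) k = []
          rw [hhi]; exact b8
      · exact absurd h (by simp)
  · refine ⟨L, fun x hx => ?_, fun i => ?_, fun s hs => ?_⟩
    · obtain ⟨b1, b2⟩ := a3 x hx
      refine ⟨Fin.ext b1, ?_⟩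
      show 0 < pr D ((hi G : Fin D.nroots) : ℕ) x.1
      rw [hhi]; exact b2
    · exact a4 i (by rw [hrank]; exact i.2)
    · rcases a5 s (by omega) with h | h
      · exfalso
        apply hs
        have h7 : C.n / 2 ≤ (s : ℕ) := Nat.ble_eq.mp h
        rw [hn] at h7; exact h7
      · exact h
  · intro s hs hs0
    rcases a6 s (by omega) with h | h | ⟨r, hr, ⟨b1, b2⟩, h⟩
    · exfalso
      have : Nat.ble (C.n / 2) s = true := Nat.ble_eq.mpr (by rw [hn]; exact hs)
      rw [this] at h; simp at h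
    · exfalso
      apply h
      rw [← hhi]; exact hs0
    · split at h
      · next k N hh =>
        simp only [Bool.and_eq_true, Bool.or_eq_true, beq_iff_eq, bne_iff_ne, List.all_eq_true, Nat.blt_eq, Tab.ball_iff,
          List.mem_range, Bool.not_eq_true'] at h
        obtain ⟨⟨c1, c2⟩, c3⟩ := h
        refine ⟨⟨r, by omega⟩, ⟨k, by omega⟩, N, ?_, fun h => c2 ?_, fun h => b2 (congrArg Fin.val h), hitO_iff.1 hh, ?_⟩
        · show 0 < pr D ((hi G : Fin D.nroots) : ℕ) r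
          rw [hhi]; exact b1
        · rw [← hhi]; exact congrArg Fin.val h
        · intro r' hr' hne s' hs' hne' N' hit
          obtain ⟨m, hm, hm2⟩ := mem_Ob S h1 h2 hD ht3 (fun r hr => (ht1 r hr).2.1) hr'
          have hm3 : C.rhP m r = r' := hm2
          rcases c3 m hm with h | h
          · exact hne (Fin.ext (by rw [← hm3]; exact h))
          · rw [hm3] at h
            rcases h s' (by omega) with h | h | h
            · have : Nat.ble (C.n / 2) s' = true := Nat.ble_eq.mpr (by rw [hn]; exact hs')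
              rw [this] at h; simp at h
            · exact hne' (Fin.ext h)
            · rw [hitO_iff.2 hit] at h
              simp at h
      · exact absurd h (by simp)

/-- the check of the line -/
def tlB (C : Tab) (D : ChevalleyDatum) (a s k1 : ℕ) : Bool :=
  Nat.blt a C.n && Nat.blt s C.n && Nat.blt k1 C.n && C.rh a == a && C.rh s == s && Nat.ble (C.n / 2) a &&
  decide (0 < pr D (C.n - 1) s) && s != a && s != C.n - 1 && (match hitO D a s with
    | some (k, N) => k == C.n - 1 && (N == 1 || N == -1)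
    | none => false) && (match hitO D s 0 with
    | some (k, _) => k == k1
    | none => false) && (D.commTerms 0 k1).isEmpty && k1 != 0 && k1 != C.n - 1

include h1 h2 hD S in
theorem tlOf {a s k1 : ℕ} (h : tlB C D a s k1 = true) : TL (S.sys h1 h2 hD) := by
  have hn := (Tab.c1 h1).1
  unfold tlB at h
  simp only [Bool.and_eq_true, beq_iff_eq, bne_iff_ne, List.isEmpty_iff, decide_eq_true_eq, Nat.blt_eq, Nat.ble_eq] at h
  obtain ⟨⟨⟨⟨⟨⟨⟨⟨⟨⟨⟨⟨⟨a1, a2⟩, a3⟩, a4⟩, a5⟩, a6⟩, a7⟩, a8⟩, a9⟩, a10⟩, a11⟩, a12⟩, a13⟩, a14⟩ := h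
  have hhi : ((hi G : Fin D.nroots) : ℕ) = C.n - 1 := by rw [hn]; rfl
  have hneg : ((negF G (hi G) : Fin D.nroots) : ℕ) = 0 := by
    have := G.neg_eq (hi G) (hi G).2
    show D.neg _ = 0
    rw [this, hhi]; omega
  split at a10
  · next k N hh =>
    simp only [Bool.and_eq_true, Bool.or_eq_true, beq_iff_eq] at a10
    split at a11
    · next k' N' hh' =>
      rw [beq_iff_eq] at a11
      refine ⟨⟨a, by omega⟩, ⟨s, by omega⟩, ⟨k1, by omega⟩, N, N', Fin.ext a4, Fin.ext a5, ?_, ?_, fun h => a8 (congrArg Fin.val h),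
        fun h => a9 ?_, ?_, a10.2, ?_, ?_, fun h => a13 ?_, fun h => a14 ?_⟩
      · show D.nroots / 2 ≤ a
        rw [← hn]; exact a6
      · show 0 < pr D ((hi G : Fin D.nroots) : ℕ) s
        rw [hhi]; exact a7
      · rw [← hhi]; exact congrArg Fin.val h
      · show Hit D a s ((hi G : Fin D.nroots) : ℕ) N
        rw [hhi, ← a10.1]; exact hitO_iff.1 hh
      · show Hit D s ((negF G (hi G) : Fin D.nroots) : ℕ) k1 N'
        rw [hneg, ← a11]; exact hitO_iff.1 hh'
      · show D.commTerms ((negF G (hi G) : Fin D.nroots) : ℕ) k1 = []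
        rw [hneg]; exact a12
      · rw [← hneg]; exact congrArg Fin.val h
      · rw [← hhi]; exact congrArg Fin.val h
    · exact absurd a11 (by simp)
  · exact absurd a10 (by simp)

end fam

end Cfsg.Agent.Lib.Sft
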