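import Cfsg.Agent.Lib.SliceK4

/-!
# Vectors over the field with four elements attached to lanes: sparse matrices acting on planes
-/

set_option autoImplicit false

namespace Cfsg.Agent.Lib.SliceK4n

open Cfsg.Agent.Lib.BenesPerm Cfsg.Agent.Lib.BenesAct Cfsg.Agent.Lib.BenesWord
open Cfsg.Agent.Lib.K4 Cfsg.Agent.Lib.SliceK4

/-- the coordinate `j` of the vector at lane `i` -/
noncomputable def cv (l : List (ℕ × ℕ)) (i j : ℕ) : K4 := val (nthK (0, 0) l j) i

theorem val_zero (i : ℕ) : val (0, 0) i = 0 := by
  unfold val; simp [k4]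

/-- value of a sparse row on a vector -/
def rowV (row : List (ℕ × K4)) (y : ℕ → K4) : K4 := (row.map (fun p => p.2 * y p.1)).sum

/-- the planes of a sparse row -/
noncomputable def rowP (l : List (ℕ × ℕ)) (row : List (ℕ × K4)) : ℕ × ℕ :=
  List.rec (motive := fun _ => ℕ × ℕ) (0, 0) (fun p _ ih => padd (psm p.2 (nthK (0, 0) l p.1)) ih) row

theorem val_rowP (l : List (ℕ × ℕ)) (row : List (ℕ × K4)) (i : ℕ) : val (rowP l row) i = rowV row (cv l i) := by
  induction row with
  | nil => exact val_zero i
  | cons p row ih =>
    have e : rowP l (p :: row) = padd (psm p.2 (nthK (0, 0) l p.1)) (rowP l row) := rfl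
    rw [e, val_padd, val_psm, ih]; rfl

/-- apply a sparse matrix to the planes -/
noncomputable def matK {α : Type} (l : List (ℕ × ℕ)) (m : List (List (ℕ × K4))) : (List (ℕ × ℕ) → α) → α :=
  List.rec (motive := fun _ => (List (ℕ × ℕ) → α) → α) (fun k => k [])
    (fun row _ ih k => force (rowP l row).1 (fun a => force (rowP l row).2 (fun b => ih (fun L => k ((a, b) :: L))))) m

theorem matK_eq {α : Type} (l : List (ℕ × ℕ)) (m : List (List (ℕ × K4))) (k : List (ℕ × ℕ) → α) :
    matK l m k = k (m.map (rowP l)) := by
  induction m generalizing k with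
  | nil => rfl
  | cons row m ih =>
    have e : matK l (row :: m) k = force (rowP l row).1 (fun a => force (rowP l row).2 (fun b =>
      matK l m (fun L => k ((a, b) :: L)))) := rfl
    rw [e, force_eq, force_eq, ih]; rfl

/-- apply a list of sparse matrices, the first one first -/
noncomputable def matsK {α : Type} (ms : List (List (List (ℕ × K4)))) : List (ℕ × ℕ) → (List (ℕ × ℕ) → α) → α :=
  List.rec (motive := fun _ => List (ℕ × ℕ) → (List (ℕ × ℕ) → α) → α) (fun l k => k l)
    (fun m _ ih l k => matK l m (fun l' => ih l' k)) ms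

/-- apply a list of sparse matrices, the first one first -/
noncomputable def mats (ms : List (List (List (ℕ × K4)))) (l : List (ℕ × ℕ)) : List (ℕ × ℕ) :=
  ms.foldl (fun l m => m.map (rowP l)) l

theorem matsK_eq {α : Type} (ms : List (List (List (ℕ × K4)))) (l : List (ℕ × ℕ)) (k : List (ℕ × ℕ) → α) :
    matsK ms l k = k (mats ms l) := by
  induction ms generalizing l with
  | nil => rfl
  | cons m ms ih =>
    have e : matsK (m :: ms) l k = matK l m (fun l' => matsK ms l' k) := rfl
    rw [e, matK_eq, ih]; rfl

theorem cv_map {m : List (List (ℕ × K4))} {l : List (ℕ × ℕ)} {i j : ℕ} :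
    cv (m.map (rowP l)) i j = rowV (m.getD j []) (cv l i) := by
  unfold cv
  rw [nthK_eq, List.getElem?_map, List.getD_eq_getElem?_getD]
  cases m[j]? with
  | some r => exact val_rowP _ _ _
  | none => exact val_zero i

/-- lanes where `a ≠ s b` for some coordinate -/
noncomputable def badL (s : K4) (A : List (ℕ × ℕ)) : List (ℕ × ℕ) → ℕ :=
  List.rec (motive := fun _ => List (ℕ × ℕ) → ℕ) (fun _ => 0)
    (fun a _ ih B => List.rec (motive := fun _ => ℕ) 0 (fun b B' _ => Nat.lor (diffP a (psm s b)) (ih B')) B) A

theorem badL_spec {s : K4} {i : ℕ} (A : List (ℕ × ℕ)) : ∀ B : List (ℕ × ℕ), A.length = B.length →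
    (badL s A B).testBit i = false → ∀ j, cv A i j = s * cv B i j := by
  induction A with
  | nil =>
    intro B h _ j
    have : B = [] := List.length_eq_zero_iff.mp h.symm
    subst this
    unfold cv
    rw [nthK_eq]
    simp [val_zero]
  | cons a A ih =>
    intro B h hb j
    cases B with
    | nil => simp at h
    | cons b B =>
      have e : badL s (a :: A) (b :: B) = diffP a (psm s b) ||| badL s A B := rfl
      rw [e, Nat.testBit_or, Bool.or_eq_false_iff] at hb
      cases j with
      | zero =>
        have := eq_of_diffP hb.1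
        unfold cv
        rw [nthK_eq, nthK_eq]
        simp only [List.getElem?_cons_zero, Option.getD_some]
        rw [this, val_psm]
      | succ j =>
        have h2 := ih B (by simpa using h) hb.2 j
        unfold cv at h2 ⊢
        rw [nthK_eq, nthK_eq] at h2 ⊢
        simpa using h2

theorem cv_walk {ns : List Net} (h : ∀ c, (netOf ns c).OK) (W : List ℕ) (l : List (ℕ × ℕ)) (i j : ℕ) :
    cv (l.map (fun p => (appW ns W p.1, appW ns W p.2))) i j = cv l (wfn ns W i) j := by
  have h1 : nthK (0, 0) (l.map (fun p => (appW ns W p.1, appW ns W p.2))) j =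
      (appW ns W (nthK (0, 0) l j).1, appW ns W (nthK (0, 0) l j).2) := by
    rw [nthK_eq, nthK_eq, List.getElem?_map]
    cases l[j]? with
    | some p => rfl
    | none =>
      have h0 : appW ns W 0 = 0 := by
        apply Nat.eq_of_testBit_eq
        intro k
        rw [testBit_appW h]; simp
      simp [h0]
  unfold cv
  rw [h1]
  unfold val
  rw [testBit_appW h, testBit_appW h]

/-- lanes in the mask where the two families of vectors are not proportional -/
noncomputable def prK (A B : List (ℕ × ℕ)) (M : ℕ) : Bool :=
  Nat.beq (Nat.land (Nat.land (badL 1 A B) (badL om A B)) (Nat.land (badL om' A B) M)) 0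

theorem prK_spec {A B : List (ℕ × ℕ)} (hl : A.length = B.length) {M : ℕ} (hc : prK A B M = true) (i : ℕ)
    (hi : M.testBit i = true) : ∃ s : K4, s ≠ 0 ∧ ∀ j, cv A i j = s * cv B i j := by
  have h1 := Nat.eq_of_beq_eq_true hc
  have h2 : ((badL 1 A B &&& badL om A B) &&& (badL om' A B &&& M)).testBit i = false := by
    have h3 : ((badL 1 A B &&& badL om A B) &&& (badL om' A B &&& M)) = 0 := h1
    rw [h3]; simp
  simp only [Nat.testBit_and, hi, Bool.and_true] at h2
  rcases Bool.eq_false_or_eq_true ((badL 1 A B).testBit i) with h3 | h3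
  · rcases Bool.eq_false_or_eq_true ((badL om A B).testBit i) with h4 | h4
    · have h5 : (badL om' A B).testBit i = false := by
        rw [h3, h4] at h2
        simpa using h2
      exact ⟨om', by decide, badL_spec A B hl h5⟩
    · exact ⟨om, by decide, badL_spec A B hl h4⟩
  · exact ⟨1, one_ne_zero, badL_spec A B hl h3⟩

/-- the check that a product of sparse matrices moves the vectors as the word does -/
noncomputable def mtK (ns : List Net) (W : List ℕ) (ms : List (List (List (ℕ × K4)))) (l : List (ℕ × ℕ)) (M : ℕ) : Bool :=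
  matsK ms l (fun l1 => walkAll ns W l (fun l2 => prK l1 l2 M))

theorem mtK_spec {ns : List Net} (h : ∀ c, (netOf ns c).OK) {W : List ℕ} {ms : List (List (List (ℕ × K4)))}
    {l : List (ℕ × ℕ)} {M : ℕ} (hl : (mats ms l).length = l.length) (hc : mtK ns W ms l M = true) (i : ℕ)
    (hi : M.testBit i = true) : ∃ s : K4, s ≠ 0 ∧ ∀ j, cv (mats ms l) i j = s * cv l (wfn ns W i) j := by
  unfold mtK at hc
  rw [matsK_eq, walkAll_eq] at hc
  obtain ⟨s, hs, h1⟩ := prK_spec (by rw [List.length_map, hl]) hc i hi
  refine ⟨s, hs, fun j => ?_⟩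
  rw [h1 j, cv_walk h]

theorem mats_length {n : ℕ} : ∀ (ms : List (List (List (ℕ × K4)))) (l : List (ℕ × ℕ)), (∀ m ∈ ms, m.length = n) →
    l.length = n → (mats ms l).length = n := by
  intro ms
  induction ms with
  | nil => intro l _ h; exact h
  | cons m ms ih =>
    intro l h _
    exact ih _ (fun m' hm' => h m' (List.mem_cons_of_mem _ hm')) (by rw [List.length_map]; exact h m List.mem_cons_self)

/-! ### lanes with a given vector -/

/-- the constant planes of a vector given by its list of coordinates -/
def cpl (F : ℕ) (v : List (Bool × Bool)) : List (ℕ × ℕ) := v.map (fun p => (if p.1 then F else 0, if p.2 then F else 0))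

/-- lanes (in the mask) where the vectors are `s v` -/
noncomputable def eqM (s : K4) (A B : List (ℕ × ℕ)) (M : ℕ) : ℕ := Nat.xor (Nat.land (badL s A B) M) M

theorem badL_zero {s : K4} {i : ℕ} (A : List (ℕ × ℕ)) : ∀ B : List (ℕ × ℕ),
    (∀ j, cv A i j = s * cv B i j) → (badL s A B).testBit i = false := by
  induction A with
  | nil => intro B _; exact Nat.zero_testBit i
  | cons a A ih =>
    intro B h
    cases B with
    | nil => exact Nat.zero_testBit i
    | cons b B =>
      have e : badL s (a :: A) (b :: B) = diffP a (psm s b) ||| badL s A B := rfl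
      rw [e, Nat.testBit_or, Bool.or_eq_false_iff]
      constructor
      · have h0 := h 0
        unfold cv at h0
        rw [nthK_eq, nthK_eq] at h0
        simp only [List.getElem?_cons_zero, Option.getD_some] at h0
        rw [← val_psm] at h0
        have key : ∀ p q : ℕ × ℕ, val p i = val q i → (diffP p q).testBit i = false := by
          intro p q hpq
          unfold val at hpq
          unfold diffP
          rw [Nat.testBit_or, Nat.testBit_xor, Nat.testBit_xor]
          have h9 : ∀ a b c d : Bool, k4 a b = k4 c d → ((a ^^ c) || (b ^^ d)) = false := by decide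
          exact h9 _ _ _ _ hpq
        exact key _ _ h0
      · apply ih
        intro j
        have h0 := h (j + 1)
        unfold cv at h0 ⊢
        rw [nthK_eq, nthK_eq] at h0 ⊢
        simpa using h0

end Cfsg.Agent.Lib.SliceK4n
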