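import Mathlib
import Cfsg.Agent.Lib.ProdCard

/-! Soft subgroups of `p`-groups (Héthelyi) (helper63). -/

set_option autoImplicit false
open scoped commutatorElement Pointwise

namespace Cfsg.Agent.Lib.SoftSubgroup

open Subgroup

universe u

/-- soft subgroups: abelian, self-centralizing, of index `p` in the normalizer. -/
structure Soft {P : Type u} [Group P] (p : ℕ) (E : Subgroup P) : Prop where
  comm : ∀ a ∈ E, ∀ b ∈ E, a * b = b * a
  self : ∀ x, (∀ a ∈ E, a * x = x * a) → x ∈ E
  idx : E.relIndex (normalizer (E : Set P)) = p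

/-- the conclusion of the theorem. -/
structure Concl {P : Type u} [Group P] (p : ℕ) (E : Subgroup P) : Prop where
  c1 : ∀ K : Subgroup P, E ≤ K → K ≠ ⊤ → K.relIndex (normalizer (K : Set P)) = p
  c3 : ∀ (i : ℕ) (K : Subgroup P) [Group.IsNilpotent K], E ≤ K → K ≠ ⊤ → K.index * p ^ i = E.index →
    Group.nilpotencyClass K = i + 1
  c4 : ∀ K : Subgroup P, normalizer (E : Set P) ≤ K → K ≠ ⊤ →
    ∀ x ∈ ⁅normalizer (E : Set P), normalizer (E : Set P)⁆, ∀ y ∈ K, x * y = y * x

section Basic

variable {P : Type u} [Group P] {p : ℕ}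

theorem relIndex_eq_one_iff {H K : Subgroup P} : H.relIndex K = 1 ↔ K ≤ H := relIndex_eq_one

theorem exists_norm [Finite P] [Fact p.Prime] (hP : IsPGroup p P) {H K : Subgroup P} (h : H < K) :
    ∃ x ∈ K, x ∉ H ∧ x ∈ normalizer (H : Set P) := by
  have hK : IsPGroup p K := hP.to_subgroup K
  have hn : Group.IsNilpotent K := hK.isNilpotent
  have hlt : H.subgroupOf K < ⊤ := by
    rw [lt_top_iff_ne_top, Ne, subgroupOf_eq_top]
    exact fun h' => absurd h (not_lt_of_ge h')
  have h1 := Group.normalizerCondition_of_isNilpotent (G := K) _ hlt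
  obtain ⟨x, hx, hxH⟩ := SetLike.exists_of_lt h1
  rw [← subgroupOf_normalizer_eq h.le] at hx
  exact ⟨x, x.2, hxH, hx⟩

theorem normalizer_le [Finite P] [hp : Fact p.Prime] (hP : IsPGroup p P) {H K : Subgroup P}
    (hH : H.relIndex (normalizer (H : Set P)) = p) (h : H < K) : normalizer (H : Set P) ≤ K := by
  obtain ⟨x, hxK, hxH, hxN⟩ := exists_norm hP h
  have h1 := relIndex_mul_relIndex H (normalizer (H : Set P) ⊓ K) (normalizer (H : Set P))
    (le_inf le_normalizer h.le) inf_le_left
  rw [hH] at h1
  have h2 : H.relIndex (normalizer (H : Set P) ⊓ K) ≠ 1 := by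
    rw [Ne, relIndex_eq_one]
    intro h3
    exact hxH (h3 (mem_inf.mpr ⟨hxN, hxK⟩))
  have h3 : (normalizer (H : Set P) ⊓ K).relIndex (normalizer (H : Set P)) = 1 := by
    rcases (Nat.dvd_prime hp.out).mp (Dvd.intro _ h1) with h4 | h4
    · exact absurd h4 h2
    · rw [h4] at h1
      exact Nat.eq_of_mul_eq_mul_left hp.out.pos (by rw [h1, mul_one])
  rw [relIndex_eq_one] at h3
  exact h3.trans inf_le_right

theorem Soft.sub {E H : Subgroup P} (hS : Soft p E) (hEH : normalizer (E : Set P) ≤ H) :
    Soft p (E.subgroupOf H) := by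
  have hEH' : E ≤ H := le_normalizer.trans hEH
  refine ⟨?_, ?_, ?_⟩
  · intro a ha b hb
    exact Subtype.ext (hS.comm a ha b hb)
  · intro x hx
    apply hS.self
    intro a ha
    exact congrArg Subtype.val (hx ⟨a, hEH' ha⟩ ha)
  · rw [← subgroupOf_normalizer_eq hEH', relIndex_subgroupOf hEH]
    exact hS.idx

theorem class_subgroupOf {K H : Subgroup P} (hKH : K ≤ H) [hK : Group.IsNilpotent K] :
    ∃ h : Group.IsNilpotent (K.subgroupOf H), Group.nilpotencyClass (K.subgroupOf H) = Group.nilpotencyClass K := by
  have h : Group.IsNilpotent (K.subgroupOf H) := Group.nilpotent_of_mulEquiv (subgroupOfEquivOfLe hKH).symm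
  refine ⟨h, le_antisymm ?_ ?_⟩
  · exact Group.nilpotencyClass_le_of_surjective (subgroupOfEquivOfLe hKH).symm.toMonoidHom
      (subgroupOfEquivOfLe hKH).symm.surjective
  · exact Group.nilpotencyClass_le_of_surjective (subgroupOfEquivOfLe hKH).toMonoidHom
      (subgroupOfEquivOfLe hKH).surjective

theorem comm_of_sub {E H K : Subgroup P} (hEH : normalizer (E : Set P) ≤ H) (hKH : K ≤ H)
    (h : ∀ x ∈ ⁅normalizer ((E.subgroupOf H : Subgroup H) : Set H), normalizer ((E.subgroupOf H : Subgroup H) : Set H)⁆,
      ∀ y ∈ K.subgroupOf H, x * y = y * x) :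
    ∀ x ∈ ⁅normalizer (E : Set P), normalizer (E : Set P)⁆, ∀ y ∈ K, x * y = y * x := by
  intro x hx y hy
  have hEH' : E ≤ H := le_normalizer.trans hEH
  rw [← subgroupOf_normalizer_eq hEH'] at h
  have h1 : x ∈ (⁅(normalizer (E : Set P)).subgroupOf H, (normalizer (E : Set P)).subgroupOf H⁆).map H.subtype := by
    rw [map_commutator, map_subgroupOf_eq_of_le hEH]
    exact hx
  obtain ⟨x', hx', rfl⟩ := h1
  exact congrArg Subtype.val (h x' hx' ⟨y, hKH hy⟩ hy)

/-- the chain property. -/
theorem chain [Finite P] [hp : Fact p.Prime] (hP : IsPGroup p P) {E : Subgroup P}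
    (c1 : ∀ K : Subgroup P, E ≤ K → K ≠ ⊤ → K.relIndex (normalizer (K : Set P)) = p)
    (K L : Subgroup P) (hK : E ≤ K) (hL : E ≤ L) : K ≤ L ∨ L ≤ K := by
  by_contra hcon
  push Not at hcon
  obtain ⟨h1, h2⟩ := hcon
  have hJK : K ⊓ L < K := lt_of_le_of_ne inf_le_left (fun h => h1 (inf_eq_left.mp h))
  have hJL : K ⊓ L < L := lt_of_le_of_ne inf_le_right (fun h => h2 (inf_eq_right.mp h))
  have hJ := c1 (K ⊓ L) (le_inf hK hL) (hJK.trans_le le_top).ne
  have h3 : normalizer ((K ⊓ L : Subgroup P) : Set P) ≤ K ⊓ L :=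
    le_inf (normalizer_le hP hJ hJK) (normalizer_le hP hJ hJL)
  rw [relIndex_eq_one.mpr h3] at hJ
  exact hp.out.one_lt.ne hJ

/-- quotient by a prime index subgroup. -/
theorem commutator_le_of_prime [hp : Fact p.Prime] {A B : Subgroup P} (hAB : A ≤ B)
    (hn : B ≤ normalizer (A : Set P)) (hi : A.relIndex B = p) : ⁅B, B⁆ ≤ A := by
  have hAn : (A.subgroupOf B).Normal := normal_subgroupOf_of_le_normalizer hn
  have hcard : Nat.card (B ⧸ A.subgroupOf B) = p := by
    rw [← index_eq_card]; exact hi
  have hcyc : IsCyclic (B ⧸ A.subgroupOf B) := isCyclic_of_prime_card hcard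
  rw [commutator_le]
  intro a ha b hb
  have h1 := (IsCyclic.commGroup (α := B ⧸ A.subgroupOf B)).mul_comm (QuotientGroup.mk' _ ⟨a, ha⟩)
    (QuotientGroup.mk' _ ⟨b, hb⟩)
  have h2 : QuotientGroup.mk' (A.subgroupOf B) ⁅(⟨a, ha⟩ : B), (⟨b, hb⟩ : B)⁆ = 1 := by
    rw [map_commutatorElement, commutatorElement_eq_one_iff_mul_comm]
    exact h1
  have h3 : ⁅(⟨a, ha⟩ : B), (⟨b, hb⟩ : B)⁆ ∈ A.subgroupOf B := (QuotientGroup.eq_one_iff _).mp h2
  exact h3

/-- the centre of a normal subgroup, as a subgroup of the group. -/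
theorem normal_cen {K : Subgroup P} (hK : K.Normal) : (K ⊓ centralizer (K : Set P)).Normal := by
  have h1 : (centralizer (K : Set P)).Normal := normal_centralizer
  exact normal_inf_normal _ _

theorem mem_cen {K : Subgroup P} {x : P} :
    x ∈ K ⊓ centralizer (K : Set P) ↔ x ∈ K ∧ ∀ y ∈ K, x * y = y * x := by
  rw [mem_inf, mem_centralizer_iff]
  exact and_congr_right fun _ => ⟨fun h y hy => (h y hy).symm, fun h y hy => (h y hy).symm⟩

theorem Soft.cen_le {E K : Subgroup P} (hS : Soft p E) (hEK : E ≤ K) :
    K ⊓ centralizer (K : Set P) ≤ E := by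
  intro x hx
  rw [mem_cen] at hx
  exact hS.self x fun a ha => (hx.2 a (hEK ha)).symm

/-- the quotient lemma -/
theorem Soft.quot [Finite P] {E K : Subgroup P} (hS : Soft p E) (hK : K.Normal)
    (hN : normalizer (E : Set P) ≤ K)
    (h4 : ∀ x ∈ ⁅normalizer (E : Set P), normalizer (E : Set P)⁆, ∀ y ∈ K, x * y = y * x)
    (hNN : (normalizer (E : Set P)).relIndex (normalizer ((normalizer (E : Set P) : Subgroup P) : Set P)) = p)
    (Z : Subgroup P) [hZn : Z.Normal] (hZ : Z = K ⊓ centralizer (K : Set P)) :
    Soft p ((normalizer (E : Set P)).map (QuotientGroup.mk' Z)) := by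
  have hEN : E ≤ normalizer (E : Set P) := le_normalizer
  have hZE : Z ≤ E := by rw [hZ]; exact hS.cen_le (hEN.trans hN)
  have hZN : Z ≤ normalizer (E : Set P) := hZE.trans hEN
  set f := QuotientGroup.mk' Z with hf
  have hfs : Function.Surjective f := QuotientGroup.mk'_surjective Z
  have hker : f.ker = Z := QuotientGroup.ker_mk' Z
  have hmem : ∀ x, f x = 1 ↔ x ∈ Z := fun x => QuotientGroup.eq_one_iff x
  refine ⟨?_, ?_, ?_⟩
  · rintro _ ⟨a, ha, rfl⟩ _ ⟨b, hb, rfl⟩
    rw [← commutatorElement_eq_one_iff_mul_comm, ← map_commutatorElement, hmem, hZ, mem_cen]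
    have h5 : ⁅a, b⁆ ∈ ⁅normalizer (E : Set P), normalizer (E : Set P)⁆ := commutator_mem_commutator ha hb
    exact ⟨hN (commutator_le_self _ h5), h4 _ h5⟩
  · intro x hx
    obtain ⟨x, rfl⟩ := hfs x
    refine ⟨x, ?_, rfl⟩
    apply mem_normalizer_fintype
    intro a ha
    have h5 := hx (f a) ⟨a, hEN ha, rfl⟩
    have h6 : x * a * x⁻¹ * a⁻¹ ∈ Z := by
      rw [← hmem, map_mul, map_mul, map_mul, map_inv, map_inv, ← h5]; group
    have h7 : x * a * x⁻¹ = (x * a * x⁻¹ * a⁻¹) * a := by group
    rw [h7]
    exact E.mul_mem (hZE h6) ha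
  · have h5 : normalizer (((normalizer (E : Set P)).map f : Subgroup (P ⧸ Z)) : Set (P ⧸ Z)) =
        (normalizer ((normalizer (E : Set P) : Subgroup P) : Set P)).map f := by
      apply comap_injective hfs
      rw [comap_normalizer_eq_of_surjective _ hfs, comap_map_eq_self (by rw [hker]; exact hZN),
        comap_map_eq_self (by rw [hker]; exact hZN.trans le_normalizer)]
    rw [h5, relIndex_map_map, hker, sup_eq_left.mpr hZN, sup_eq_left.mpr (hZN.trans le_normalizer)]
    exact hNN

theorem card_map_mk' [Finite P] (Z N : Subgroup P) [Z.Normal] :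
    Nat.card (N.map (QuotientGroup.mk' Z)) = Z.relIndex N := by
  rw [relIndex, index_eq_card]
  have h1 : (f : N →* P ⧸ Z) → f = (QuotientGroup.mk' Z).comp N.subtype → True := fun _ _ => trivial
  have h2 : (((QuotientGroup.mk' Z).comp N.subtype).ker) = Z.subgroupOf N := by
    ext x
    rw [MonoidHom.mem_ker, mem_subgroupOf]
    exact QuotientGroup.eq_one_iff (x : P)
  have h3 : ((QuotientGroup.mk' Z).comp N.subtype).range = N.map (QuotientGroup.mk' Z) := by
    rw [MonoidHom.range_comp, range_subtype]
  rw [← h3, ← h2]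
  exact Nat.card_congr (QuotientGroup.quotientKerEquivRange _).symm.toEquiv

/-- the counting lemma -/
theorem Soft.count [Finite P] [hp : Fact p.Prime] (hP : IsPGroup p P) {E : Subgroup P} (hS : Soft p E)
    (hNn : (normalizer (E : Set P)).Normal) (hNt : normalizer (E : Set P) ≠ ⊤) :
    (normalizer (E : Set P)).index = p ∧
      ∀ x ∈ ⁅normalizer (E : Set P), normalizer (E : Set P)⁆, ∀ y ∈ normalizer (E : Set P), x * y = y * x := by
  classical
  have hEN : E ≤ normalizer (E : Set P) := le_normalizer
  obtain ⟨g, hg⟩ : ∃ g, g ∉ normalizer (E : Set P) := by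
    by_contra hall
    push Not at hall
    exact hNt (eq_top_iff.mpr fun x _ => hall x)
  have hN'E : ⁅normalizer (E : Set P), normalizer (E : Set P)⁆ ≤ E := commutator_le_of_prime hEN le_rfl hS.idx
  set N := normalizer (E : Set P) with hN
  set E₂ : Subgroup P := E.map (MulAut.conj g).toMonoidHom with hE₂
  have hE₂mem : ∀ x, x ∈ E₂ ↔ g⁻¹ * x * g ∈ E := by
    intro x
    constructor
    · rintro ⟨y, hy, rfl⟩
      change g⁻¹ * (g * y * g⁻¹) * g ∈ E
      have : g⁻¹ * (g * y * g⁻¹) * g = y := by group
      rw [this]; exact hy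
    · intro hx
      refine ⟨_, hx, ?_⟩
      change g * (g⁻¹ * x * g) * g⁻¹ = x
      group
  have hconjN : ∀ x ∈ N, g⁻¹ * x * g ∈ N := by
    intro x hx
    have := hNn.conj_mem x hx g⁻¹
    rwa [inv_inv] at this
  have hE₂N : E₂ ≤ N := by
    rintro _ ⟨y, hy, rfl⟩
    exact hNn.conj_mem y (hEN hy) g
  have hcard₂ : Nat.card E₂ = Nat.card E :=
    card_map_of_injective (MulAut.conj g).injective
  have hE₂E : ¬ E₂ ≤ E := by
    intro h
    apply hg
    apply mem_normalizer_fintype
    intro a ha
    exact h ⟨a, ha, rfl⟩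
  set Z := N ⊓ centralizer (N : Set P) with hZ
  have hZn : Z.Normal := normal_cen hNn
  have hZE : Z ≤ E := hS.cen_le hEN
  have hZE₂ : Z ≤ E₂ := by
    intro x hx
    rw [hE₂mem]
    apply hZE
    have := hZn.conj_mem x hx g⁻¹
    rwa [inv_inv] at this
  have hsup : E ⊔ E₂ = N := by
    have h1 : E < E ⊔ E₂ := lt_of_le_of_ne le_sup_left (fun h => hE₂E (by rw [h]; exact le_sup_right))
    exact le_antisymm (sup_le hEN hE₂N) (normalizer_le hP hS.idx h1)
  have hcomm₂ : ∀ a ∈ E₂, ∀ b ∈ E₂, a * b = b * a := by
    rintro _ ⟨a, ha, rfl⟩ _ ⟨b, hb, rfl⟩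
    rw [← map_mul, hS.comm a ha b hb, map_mul]
  have hinf : E ⊓ E₂ = Z := by
    apply le_antisymm
    · intro x hx
      obtain ⟨h1, h2⟩ := mem_inf.mp hx
      have h3 : E ⊔ E₂ ≤ centralizer ({x} : Set P) := by
        apply sup_le
        · intro a ha
          rw [mem_centralizer_singleton_iff]
          exact hS.comm a ha x h1
        · intro a ha
          rw [mem_centralizer_singleton_iff]
          exact hcomm₂ a ha x h2
      rw [hsup] at h3
      rw [hZ, mem_cen]
      exact ⟨hEN h1, fun y hy => (mem_centralizer_singleton_iff.mp (h3 hy)).symm⟩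
    · exact le_inf hZE hZE₂
  have hN'Z : ⁅N, N⁆ ≤ Z := by
    rw [← hinf]
    refine le_inf hN'E ?_
    intro x hx
    rw [hE₂mem]
    apply hN'E
    have hn : (⁅N, N⁆ : Subgroup P).Normal := commutator_normal N N
    have := hn.conj_mem x hx g⁻¹
    rwa [inv_inv] at this
  refine ⟨?_, fun x hx => (mem_cen.mp (hN'Z hx)).2⟩
  -- cardinalities
  have hcEN : Nat.card N = p * Nat.card E := by
    have h1 := Cfsg.Agent.Lib.ProdCard.card_mul_relIndex hEN
    rw [hS.idx] at h1
    rw [← h1, mul_comm]
  have hcZ : Nat.card E = p * Nat.card Z := by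
    have h1 := Cfsg.Agent.Lib.ProdCard.card_sup_mul_card_inf (A := E₂) (H := E) hE₂N
    rw [sup_comm, hsup, inf_comm, hinf, hcard₂, hcEN] at h1
    have h2 : 0 < Nat.card E := Nat.card_pos
    have h3 : Nat.card E * (p * Nat.card Z) = Nat.card E * Nat.card E := by rw [← h1]; ring
    exact (Nat.eq_of_mul_eq_mul_left h2 h3).symm
  have hZEi : Z.relIndex E = p := by
    have h1 := Cfsg.Agent.Lib.ProdCard.card_mul_relIndex hZE
    rw [hcZ, mul_comm] at h1
    exact Nat.eq_of_mul_eq_mul_right Nat.card_pos h1
  obtain ⟨e, he, heZ⟩ : ∃ e ∈ E, e ∉ Z := by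
    by_contra hall
    push Not at hall
    have : Z.relIndex E = 1 := relIndex_eq_one.mpr hall
    rw [this] at hZEi
    exact hp.out.one_lt.ne hZEi
  have hEgen : E ≤ Z ⊔ zpowers e := by
    have h1 : Z ⊔ zpowers e ≤ E := sup_le hZE (by rw [zpowers_le]; exact he)
    have h2 := relIndex_mul_relIndex Z (Z ⊔ zpowers e) E le_sup_left h1
    rw [hZEi] at h2
    rcases (Nat.dvd_prime hp.out).mp (Dvd.intro _ h2) with h3 | h3
    · exfalso
      rw [relIndex_eq_one] at h3
      exact heZ (h3 (mem_sup_right (mem_zpowers e)))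
    · rw [h3] at h2
      rw [← relIndex_eq_one]
      exact Nat.eq_of_mul_eq_mul_left hp.out.pos (by rw [h2, mul_one])
  -- the injection
  set f := QuotientGroup.mk' Z with hf
  have hmem : ∀ x, f x = 1 ↔ x ∈ Z := fun x => QuotientGroup.eq_one_iff x
  have hkey : ∀ x y : P, f (x * e * x⁻¹) = f (y * e * y⁻¹) → x⁻¹ * y ∈ N := by
    intro x y h
    set t := x⁻¹ * y with ht
    have h1 : f (t * e * t⁻¹) = f e := by
      have h2 : t * e * t⁻¹ = x⁻¹ * (y * e * y⁻¹) * x := by rw [ht]; group
      have h3 : e = x⁻¹ * (x * e * x⁻¹) * x := by group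
      rw [h2, map_mul, map_mul, ← h, ← map_mul, ← map_mul, ← h3]
    have h2 : t * e * t⁻¹ * e⁻¹ ∈ Z := by
      rw [← hmem, map_mul, h1, ← map_mul, mul_inv_cancel, map_one]
    have h3 : t * e * t⁻¹ ∈ E := by
      have h4 : t * e * t⁻¹ = (t * e * t⁻¹ * e⁻¹) * e := by group
      rw [h4]; exact E.mul_mem (hZE h2) he
    have h4 : Z ⊔ zpowers e ≤ E.comap (MulAut.conj t).toMonoidHom := by
      apply sup_le
      · intro z hz
        exact hZE (hZn.conj_mem z hz t)
      · rw [zpowers_le]
        exact h3
    rw [hN]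
    apply mem_normalizer_fintype
    intro a ha
    exact h4 (hEgen ha)
  let φ : Option (P ⧸ N) → N.map f := fun o => match o with
    | none => 1
    | some q => ⟨f (q.out * e * (q.out)⁻¹), ⟨_, hNn.conj_mem e (hEN he) _, rfl⟩⟩
  have hφ : Function.Injective φ := by
    rintro (_ | a) (_ | b) hab
    · rfl
    · exfalso
      have h1 : (1 : P ⧸ Z) = f (b.out * e * (b.out)⁻¹) := congrArg Subtype.val hab
      rw [eq_comm, hmem] at h1
      apply heZ
      have := hZn.conj_mem _ h1 (b.out)⁻¹
      have h2 : (b.out)⁻¹ * (b.out * e * (b.out)⁻¹) * (b.out)⁻¹⁻¹ = e := by group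
      rwa [h2] at this
    · exfalso
      have h1 : f (a.out * e * (a.out)⁻¹) = (1 : P ⧸ Z) := congrArg Subtype.val hab
      rw [hmem] at h1
      apply heZ
      have := hZn.conj_mem _ h1 (a.out)⁻¹
      have h2 : (a.out)⁻¹ * (a.out * e * (a.out)⁻¹) * (a.out)⁻¹⁻¹ = e := by group
      rwa [h2] at this
    · have h1 : f (a.out * e * (a.out)⁻¹) = f (b.out * e * (b.out)⁻¹) := congrArg Subtype.val hab
      have h2 := hkey _ _ h1
      rw [← QuotientGroup.eq, QuotientGroup.out_eq', QuotientGroup.out_eq'] at h2
      rw [h2]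
  have hle := Nat.card_le_card_of_injective φ hφ
  have hcT : Nat.card (N.map f) = p * p := by
    have h1 : Nat.card (N.map f) = Z.relIndex N := by
      exact card_map_mk' Z N
    have h2 := relIndex_mul_relIndex Z E N hZE hEN
    rw [h1, ← h2, hZEi, hS.idx]
  rw [Finite.card_option, ← index_eq_card, hcT] at hle
  obtain ⟨j, hj⟩ := IsPGroup.iff_card.mp hP
  have hdvd : N.index ∣ p ^ j := by rw [← hj]; exact N.index_dvd_card
  obtain ⟨k, _, hk⟩ := (Nat.dvd_prime_pow hp.out).mp hdvd
  rw [hk] at hle ⊢
  have hk0 : k ≠ 0 := by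
    rintro rfl
    rw [pow_zero, index_eq_one] at hk
    exact hNt hk
  have hk2 : k < 2 := by
    by_contra hcon
    push Not at hcon
    have := Nat.pow_le_pow_right hp.out.pos hcon
    rw [pow_two] at this
    omega
  have : k = 1 := by omega
  rw [this, pow_one]

end Basic

/-- the quotient by the centre of a normal subgroup has the same class as the quotient by the centre. -/
theorem class_map {P : Type u} [Group P] {K Z : Subgroup P} [hZn : Z.Normal]
    (hZ : Z = K ⊓ centralizer (K : Set P)) [hK : Group.IsNilpotent K] [Nontrivial K] :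
    ∃ h : Group.IsNilpotent (K.map (QuotientGroup.mk' Z)),
      Group.nilpotencyClass K = Group.nilpotencyClass (K.map (QuotientGroup.mk' Z)) + 1 := by
  set f := QuotientGroup.mk' Z with hf
  have hfK := f.subgroupMap_surjective K
  have hker : (f.subgroupMap K).ker = center K := by
    ext x
    rw [MonoidHom.mem_ker, mem_center_iff]
    constructor
    · intro h y
      have h1 : f (x : P) = 1 := congrArg Subtype.val h
      have h2 : (x : P) ∈ Z := (QuotientGroup.eq_one_iff _).mp h1
      rw [hZ, mem_cen] at h2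
      exact Subtype.ext (h2.2 y y.2).symm
    · intro h
      apply Subtype.ext
      change f (x : P) = 1
      apply (QuotientGroup.eq_one_iff _).mpr
      rw [hZ, mem_cen]
      exact ⟨x.2, fun y hy => (congrArg Subtype.val (h ⟨y, hy⟩)).symm⟩
  have h : Group.IsNilpotent (K.map f) := Group.nilpotent_of_surjective _ hfK
  refine ⟨h, ?_⟩
  rw [Group.nilpotencyClass_eq_quotient_center_plus_one]
  congr 1
  let e : K ⧸ center K ≃* K.map f :=
    (QuotientGroup.quotientMulEquivOfEq hker.symm).trans (QuotientGroup.quotientKerEquivOfSurjective _ hfK)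
  apply le_antisymm
  · exact Group.nilpotencyClass_le_of_surjective e.symm.toMonoidHom e.symm.surjective
  · exact Group.nilpotencyClass_le_of_surjective e.toMonoidHom e.surjective

/-- **Héthelyi's theorem** on soft subgroups. -/
theorem main {p : ℕ} [hp : Fact p.Prime] (n : ℕ) : ∀ {P : Type u} [Group P] [Finite P], Nat.card P = n →
    IsPGroup p P → ∀ E : Subgroup P, Soft p E → Concl p E := by
  induction n using Nat.strong_induction_on with
  | _ n ih =>
  intro P _ _ hn hP E hS
  classical
  have hEN : E ≤ normalizer (E : Set P) := le_normalizer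
  -- induction for subgroups
  have hT : ∀ H : Subgroup P, normalizer (E : Set P) ≤ H → H ≠ ⊤ → Concl p (E.subgroupOf H) := by
    intro H hH hHt
    apply ih (Nat.card H) _ rfl (hP.to_subgroup H) _ (hS.sub hH)
    rw [← hn]
    exact lt_of_le_of_ne (card_le_card_group H) (fun h => hHt (eq_top_of_card_eq H h))
  have hEK : ∀ K : Subgroup P, E ≤ K → K ≠ E → normalizer (E : Set P) ≤ K := fun K h1 h2 =>
    normalizer_le hP hS.idx (lt_of_le_of_ne h1 (Ne.symm h2))
  have hNK : ∀ K : Subgroup P, E ≤ K → normalizer (E : Set P) ≤ normalizer (K : Set P) := by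
    intro K hK
    by_cases h : K = E
    · rw [h]
    · exact (hEK K hK h).trans le_normalizer
  have hc1b : ∀ K : Subgroup P, E ≤ K → normalizer (K : Set P) ≠ ⊤ → K.relIndex (normalizer (K : Set P)) = p := by
    intro K hK hne
    have hKN : K ≤ normalizer (K : Set P) := le_normalizer
    have h1 := (hT _ (hNK K hK) hne).c1 (K.subgroupOf (normalizer (K : Set P))) ?_ ?_
    · rwa [← subgroupOf_normalizer_eq hKN, subgroupOf_self, relIndex_top_right] at h1
    · exact fun x hx => hK hx
    · intro h
      rw [subgroupOf_eq_top] at h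
      have h2 : normalizer (K : Set P) = K := le_antisymm h hKN
      have h3 := hEK
      by_cases hK2 : K = E
      · have := hS.idx
        rw [hK2] at h2
        rw [h2, relIndex_self] at this
        exact hp.out.one_lt.ne this
      · by_cases hKt : K = ⊤
        · apply hne
          rw [hKt, eq_top_iff, ← SetLike.coe_subset_coe] 
          intro x _
          rw [normalizer_eq_top]; trivial
        · obtain ⟨x, _, hxK, hxN⟩ := exists_norm hP (lt_top_iff_ne_top.mpr hKt)
          rw [h2] at hxN
          exact hxK hxN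
  have hZne : ∀ K : Subgroup P, K ≠ ⊥ → K ⊓ centralizer (K : Set P) ≠ ⊥ := by
    intro K hK h
    have hKp := hP.to_subgroup K
    have hnt : Nontrivial K := (nontrivial_iff_ne_bot K).mpr hK
    have h1 := hKp.bot_lt_center
    obtain ⟨z, hz, hz1⟩ := SetLike.exists_of_lt h1
    apply hz1
    have h2 : (z : P) ∈ K ⊓ centralizer (K : Set P) := by
      rw [mem_cen]
      exact ⟨z.2, fun y hy => (congrArg Subtype.val (mem_center_iff.mp hz ⟨y, hy⟩)).symm⟩
    rw [h, mem_bot] at h2
    rw [mem_bot]
    exact Subtype.ext h2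
  have hE1 : E ≠ ⊥ := by
    intro h
    have h1 : ∀ x : P, x ∈ E := fun x => hS.self x (fun a ha => by
      rw [h, mem_bot] at ha
      rw [ha, one_mul, mul_one])
    have h2 := hS.idx
    have h3 : E = ⊤ := eq_top_iff.mpr fun x _ => h1 x
    rw [relIndex_eq_one.mpr (by rw [h3]; exact le_top)] at h2
    exact hp.out.one_lt.ne h2
  have hKne : ∀ K : Subgroup P, E ≤ K → K ≠ ⊥ := by
    intro K hK h
    rw [h, le_bot_iff] at hK
    exact hE1 hK
  -- induction for quotients
  have hQ : ∀ K : Subgroup P, K.Normal → normalizer (E : Set P) ≤ K →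
      (∀ x ∈ ⁅normalizer (E : Set P), normalizer (E : Set P)⁆, ∀ y ∈ K, x * y = y * x) →
      (normalizer (E : Set P)).relIndex (normalizer ((normalizer (E : Set P) : Subgroup P) : Set P)) = p →
      ∀ (Z : Subgroup P) [hZn : Z.Normal], Z = K ⊓ centralizer (K : Set P) →
      Concl p ((normalizer (E : Set P)).map (QuotientGroup.mk' Z)) := by
    intro K hKn hK h4 hNN Z hZn hZ
    apply ih (Nat.card (P ⧸ Z)) _ rfl (hP.to_quotient Z) _ (hS.quot hKn hK h4 hNN Z hZ)
    rw [← hn, ← index_eq_card]
    have h1 : 1 < Nat.card Z := by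
      rw [one_lt_card_iff_ne_bot, hZ]
      exact hZne K (hKne K (hEN.trans hK))
    have h2 := Z.card_mul_index
    have h3 : 0 < Z.index := Nat.pos_of_ne_zero index_ne_zero_of_finite
    rw [← h2]
    exact lt_mul_of_one_lt_left h3 h1
  -- (C1) for the normalizer of `E`
  have hc1N : normalizer (E : Set P) ≠ ⊤ →
      (normalizer (E : Set P)).relIndex (normalizer ((normalizer (E : Set P) : Subgroup P) : Set P)) = p := by
    intro hNt
    by_cases h : normalizer ((normalizer (E : Set P) : Subgroup P) : Set P) = ⊤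
    · rw [h, relIndex_top_right]
      exact (hS.count hP (normalizer_eq_top_iff.mp h) hNt).1
    · exact hc1b _ hEN h
  have hc1 : ∀ K : Subgroup P, E ≤ K → K ≠ ⊤ → K.relIndex (normalizer (K : Set P)) = p := by
    intro K hK hKt
    by_cases hKE : K = E
    · rw [hKE]; exact hS.idx
    have hNK1 := hEK K hK hKE
    have hNt : normalizer (E : Set P) ≠ ⊤ := by
      intro h
      rw [h, top_le_iff] at hNK1
      exact hKt hNK1
    by_cases hnt : normalizer (K : Set P) = ⊤
    · by_cases hKN : K = normalizer (E : Set P)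
      · rw [hKN]; exact hc1N hNt
      rw [hnt, relIndex_top_right]
      have hKn : K.Normal := normalizer_eq_top_iff.mp hnt
      by_contra hidx
      -- an intermediate subgroup
      obtain ⟨M, hKM, hMt⟩ : ∃ M : Subgroup P, K < M ∧ M ≠ ⊤ := by
        have hq : IsPGroup p (P ⧸ K) := hP.to_quotient K
        have hcard : 1 < Nat.card (P ⧸ K) := by
          rw [← index_eq_card]
          have h1 : K.index ≠ 1 := fun h => hKt (index_eq_one.mp h)
          have h2 : K.index ≠ 0 := index_ne_zero_of_finite
          omega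
        obtain ⟨j, hj⟩ := IsPGroup.iff_card.mp hq
        have hdvd : p ∣ Nat.card (P ⧸ K) := by
          rw [hj]
          apply dvd_pow_self
          rintro rfl
          rw [hj, pow_zero] at hcard
          omega
        obtain ⟨x, hx⟩ := exists_prime_orderOf_dvd_card' p hdvd
        refine ⟨(zpowers x).comap (QuotientGroup.mk' K), ?_, ?_⟩
        · refine lt_of_le_of_ne ?_ ?_
          · intro k hk
            rw [mem_comap]
            have : QuotientGroup.mk' K k = 1 := (QuotientGroup.eq_one_iff k).mpr hk
            rw [this]; exact one_mem _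
          · intro h
            have h1 := congrArg (Subgroup.map (QuotientGroup.mk' K)) h
            rw [map_comap_eq_self_of_surjective (QuotientGroup.mk'_surjective K)] at h1
            have h2 : K.map (QuotientGroup.mk' K) = ⊥ := by
              rw [Subgroup.map_eq_bot_iff, QuotientGroup.ker_mk']
            rw [h2, eq_comm, zpowers_eq_bot] at h1
            rw [h1, orderOf_one] at hx
            exact hp.out.one_lt.ne hx
        · intro h
          have h1 := congrArg (Subgroup.map (QuotientGroup.mk' K)) h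
          rw [map_comap_eq_self_of_surjective (QuotientGroup.mk'_surjective K),
            map_top_of_surjective _ (QuotientGroup.mk'_surjective K)] at h1
          apply hidx
          rw [index_eq_card, ← card_top, ← h1, Nat.card_zpowers, hx]
      have hTM := hT M (hNK1.trans hKM.le) hMt
      have h4 := comm_of_sub (hNK1.trans hKM.le) hKM.le (hTM.c4 (K.subgroupOf M) (by
        rw [← subgroupOf_normalizer_eq (hK.trans hKM.le)]
        exact fun x hx => hNK1 hx) (by
        rw [Ne, subgroupOf_eq_top]
        exact not_le_of_gt hKM))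
      set Z := K ⊓ centralizer (K : Set P) with hZ
      have hZn : Z.Normal := normal_cen hKn
      have hQK := hQ K hKn hNK1 h4 (hc1N hNt) Z hZ
      have hZK : Z ≤ K := inf_le_left
      have hKbn : (K.map (QuotientGroup.mk' Z)).Normal := hKn.map _ (QuotientGroup.mk'_surjective Z)
      have h5 := hQK.c1 (K.map (QuotientGroup.mk' Z)) (map_mono hNK1) (by
        intro h
        have h6 := congrArg (Subgroup.comap (QuotientGroup.mk' Z)) h
        rw [comap_map_eq_self (by rw [QuotientGroup.ker_mk']; exact hZK), comap_top] at h6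
        exact hKt h6)
      rw [normalizer_eq_top, relIndex_top_right, index_map_eq _ (QuotientGroup.mk'_surjective Z)
        (by rw [QuotientGroup.ker_mk']; exact hZK)] at h5
      exact hidx h5
    · exact hc1b K hK hnt
  have hc4 : ∀ K : Subgroup P, normalizer (E : Set P) ≤ K → K ≠ ⊤ →
      ∀ x ∈ ⁅normalizer (E : Set P), normalizer (E : Set P)⁆, ∀ y ∈ K, x * y = y * x := by
    intro K hNK1 hKt
    have hK : E ≤ K := hEN.trans hNK1
    by_cases hnt : normalizer (K : Set P) = ⊤
    · have hKn : K.Normal := normalizer_eq_top_iff.mp hnt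
      by_cases hKN : K = normalizer (E : Set P)
      · subst hKN
        exact (hS.count hP hKn hKt).2
      · -- the main case
        have hNltK : normalizer (E : Set P) < K := lt_of_le_of_ne hNK1 (Ne.symm hKN)
        have hEltK : E < K := lt_of_le_of_lt hEN hNltK
        obtain ⟨M, hM⟩ := Set.Finite.exists_maximal (s := {M : Subgroup P | E ≤ M ∧ M < K}) (Set.toFinite _)
          ⟨E, le_rfl, hEltK⟩
        obtain ⟨hEM, hMK⟩ := hM.prop
        have hMmax : ∀ L, M < L → L ≤ K → L = K := by
          intro L h1 h2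
          by_contra h3
          exact absurd (hM.le_of_ge ⟨hEM.trans h1.le, lt_of_le_of_ne h2 h3⟩ h1.le) (not_le_of_gt h1)
        have hMt : M ≠ ⊤ := (hMK.trans_le le_top).ne
        have hKM : K ≤ normalizer (M : Set P) := by
          obtain ⟨x, hxK, hxM, hxN⟩ := exists_norm hP hMK
          have h1 : M < normalizer (M : Set P) ⊓ K := by
            refine lt_of_le_of_ne (le_inf le_normalizer hMK.le) ?_
            intro h
            apply hxM
            rw [h]; exact mem_inf.mpr ⟨hxN, hxK⟩
          have h2 := hMmax _ h1 inf_le_right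
          exact inf_eq_right.mp h2
        have hME : M ≠ E := by
          rintro rfl
          exact absurd hNltK (not_lt_of_ge hKM)
        have hNM := hEK M hEM hME
        have hNMK : normalizer (M : Set P) = K := le_antisymm (normalizer_le hP (hc1 M hEM hMt) hMK) hKM
        have hTK := hT K hNK1 hKt
        have h4M := comm_of_sub hNK1 hMK.le (hTK.c4 (M.subgroupOf K) (by
          rw [← subgroupOf_normalizer_eq hK]
          exact fun x hx => hNM hx) (by
          rw [Ne, subgroupOf_eq_top]
          exact not_le_of_gt hMK))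
        obtain ⟨g, hg⟩ : ∃ g, g ∉ K := by
          by_contra hall
          push Not at hall
          exact hKt (eq_top_iff.mpr fun x _ => hall x)
        set c := (MulAut.conj g).toMonoidHom with hc
        have hcinj : Function.Injective c := (MulAut.conj g).injective
        set E₂ : Subgroup P := E.map c with hE₂
        have hE₂K : E₂ ≤ K := by
          rintro _ ⟨y, hy, rfl⟩
          exact hKn.conj_mem y (hK hy) g
        have hcomm₂ : ∀ a ∈ E₂, ∀ b ∈ E₂, a * b = b * a := by
          rintro _ ⟨a, ha, rfl⟩ _ ⟨b, hb, rfl⟩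
          rw [← map_mul, hS.comm a ha b hb, map_mul]
        have hE₂M : ¬ E₂ ≤ M := by
          intro h
          have h1 : E ≤ M.map (MulAut.conj g⁻¹).toMonoidHom := by
            intro x hx
            refine ⟨g * x * g⁻¹, h ⟨x, hx, rfl⟩, ?_⟩
            change g⁻¹ * (g * x * g⁻¹) * g⁻¹⁻¹ = x
            group
          have hcM : Nat.card (M.map (MulAut.conj g⁻¹).toMonoidHom) = Nat.card M :=
            card_map_of_injective (MulAut.conj g⁻¹).injective
          have h2 : M.map (MulAut.conj g⁻¹).toMonoidHom = M := by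
            rcases chain hP hc1 _ _ h1 hEM with h3 | h3
            · exact eq_of_le_of_card_ge h3 hcM.ge
            · exact (eq_of_le_of_card_ge h3 hcM.le).symm
          apply hg
          rw [← hNMK]
          have h3 : g⁻¹ ∈ normalizer (M : Set P) := by
            apply mem_normalizer_fintype
            intro m hm
            have : (MulAut.conj g⁻¹).toMonoidHom m ∈ M := by
              rw [← h2]
              exact ⟨m, hm, rfl⟩
            exact this
          have := inv_mem h3
          rwa [inv_inv] at this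
        have hsup : M ⊔ E₂ = K := by
          apply hMmax _ _ (sup_le hMK.le hE₂K)
          exact lt_of_le_of_ne le_sup_left (fun h => hE₂M (by rw [h]; exact le_sup_right))
        have hcommK : ∀ x, (∀ y ∈ M, x * y = y * x) → (∀ y ∈ E₂, x * y = y * x) → ∀ y ∈ K, x * y = y * x := by
          intro x h1 h2 y hy
          have h3 : M ⊔ E₂ ≤ centralizer ({x} : Set P) := by
            apply sup_le
            · intro a ha
              rw [mem_centralizer_singleton_iff]
              exact (h1 a ha).symm
            · intro a ha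
              rw [mem_centralizer_singleton_iff]
              exact (h2 a ha).symm
          rw [hsup] at h3
          exact (mem_centralizer_singleton_iff.mp (h3 hy)).symm
        set ZM := M ⊓ centralizer (M : Set P) with hZM
        by_cases hcase : ZM ≤ E₂
        · intro x hx
          have hxM : x ∈ M := hNM (commutator_le_self _ hx)
          have hxZM : x ∈ ZM := by
            rw [hZM, mem_cen]
            exact ⟨hxM, h4M x hx⟩
          exact hcommK x (h4M x hx) (fun y hy => hcomm₂ x (hcase hxZM) y hy)
        · -- second case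
          have hZMc : ∀ a ∈ ZM, ∀ y ∈ M, a * y = y * a := fun a ha => (mem_cen.mp (by rwa [hZM] at ha)).2
          have hZMM : ZM ≤ M := inf_le_left
          have hKZM : ∀ k ∈ K, ∀ z ∈ ZM, k * z * k⁻¹ ∈ ZM := by
            intro k hk z hz
            have hkM := hKM hk
            rw [hZM, mem_cen] at hz ⊢
            refine ⟨(mem_normalizer_iff.mp hkM z).mp hz.1, ?_⟩
            intro y hy
            have h1 : k⁻¹ * y * k ∈ M := by
              have := (mem_normalizer_iff.mp (inv_mem hkM) y).mp hy
              rwa [inv_inv] at this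
            have h2 := hz.2 _ h1
            calc k * z * k⁻¹ * y = k * (z * (k⁻¹ * y * k)) * k⁻¹ := by group
              _ = k * ((k⁻¹ * y * k) * z) * k⁻¹ := by rw [h2]
              _ = y * (k * z * k⁻¹) := by group
          have hKn' : K ≤ normalizer (ZM : Set P) := by
            intro k hk
            apply mem_normalizer_fintype
            exact fun z hz => hKZM k hk z hz
          have hE₂idx : E₂.relIndex (normalizer (E₂ : Set P)) = p := by
            have h1 : normalizer (E₂ : Set P) = (normalizer (E : Set P)).map c := by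
              rw [hE₂]
              exact (map_equiv_normalizer_eq E (MulAut.conj g)).symm
            rw [h1, hE₂, relIndex_map_map_of_injective _ _ hcinj]
            exact hS.idx
          have hlt : E₂ < ZM ⊔ E₂ := by
            refine lt_of_le_of_ne le_sup_right ?_
            intro h
            apply hcase
            rw [h]; exact le_sup_left
          have hN₂ := normalizer_le hP hE₂idx hlt
          -- `C = C_P(K)`
          set C := centralizer (K : Set P) with hC
          have hCn : C.Normal := normal_centralizer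
          have hCmem : ∀ x, x ∈ C ↔ ∀ y ∈ K, x * y = y * x := by
            intro x
            rw [hC, mem_centralizer_iff]
            exact ⟨fun h y hy => (h y hy).symm, fun h y hy => (h y hy).symm⟩
          set f := QuotientGroup.mk' C with hf
          have hfmem : ∀ x, f x = 1 ↔ x ∈ C := fun x => QuotientGroup.eq_one_iff x
          have hwa : ∀ w ∈ ZM, w ∈ normalizer (E₂ : Set P) → ∀ a ∈ E₂, Commute (f w) (f a) := by
            intro w hw hwn a ha
            have h1 : w * a * w⁻¹ * a⁻¹ ∈ C := by
              have h2 : w * a * w⁻¹ * a⁻¹ ∈ E₂ :=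
                mul_mem ((mem_normalizer_iff.mp hwn a).mp ha) (inv_mem ha)
              have h3 : w * a * w⁻¹ * a⁻¹ ∈ ZM := by
                have h5 : w * a * w⁻¹ * a⁻¹ = w * (a * w⁻¹ * a⁻¹) := by group
                rw [h5]
                exact mul_mem hw (hKZM a (hE₂K ha) _ (inv_mem hw))
              rw [hCmem]
              exact hcommK _ (hZMc _ h3) (fun y hy => hcomm₂ _ h2 y hy)
            rw [← hfmem] at h1
            have h2 : ⁅f w, f a⁆ = 1 := by
              rw [← map_commutatorElement, commutatorElement_def]; exact h1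
            exact commutatorElement_eq_one_iff_mul_comm.mp h2
          have hww : ∀ w ∈ ZM, ∀ w' ∈ ZM, Commute (f w) (f w') := by
            intro w hw w' hw'
            exact (show Commute w w' from hZMc w hw w' (hZMM hw')).map f
          have haa : ∀ a ∈ E₂, ∀ a' ∈ E₂, Commute (f a) (f a') := by
            intro a ha a' ha'
            exact (show Commute a a' from hcomm₂ a ha a' ha').map f
          have hdec : ∀ m ∈ normalizer (E₂ : Set P), ∃ w ∈ ZM, w ∈ normalizer (E₂ : Set P) ∧ ∃ a ∈ E₂, m = w * a := by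
            intro m hm
            have h1 : m ∈ ((ZM ⊔ E₂ : Subgroup P) : Set P) := hN₂ hm
            rw [coe_mul_of_right_le_normalizer_left ZM E₂ (hE₂K.trans hKn')] at h1
            obtain ⟨w, hw, a, ha, rfl⟩ := h1
            refine ⟨w, hw, ?_, a, ha, rfl⟩
            have h2 := mul_mem hm (inv_mem (le_normalizer ha : a ∈ normalizer (E₂ : Set P)))
            rwa [mul_inv_cancel_right] at h2
          have hN₂C : ∀ m ∈ normalizer (E₂ : Set P), ∀ m' ∈ normalizer (E₂ : Set P), ⁅m, m'⁆ ∈ C := by
            intro m hm m' hm'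
            obtain ⟨w, hw, hwn, a, ha, rfl⟩ := hdec m hm
            obtain ⟨w', hw', hwn', a', ha', rfl⟩ := hdec m' hm'
            rw [← hfmem, map_commutatorElement, commutatorElement_eq_one_iff_mul_comm, map_mul, map_mul]
            have e1 := hww w hw w' hw'
            have e2 := hwa w hw hwn a' ha'
            have e3 := (hwa w' hw' hwn' a ha).symm
            have e4 := haa a ha a' ha'
            exact ((e1.mul_right e2).mul_left (e3.mul_right e4)).eq
          -- conjugate back
          have hfinal : ⁅normalizer (E : Set P), normalizer (E : Set P)⁆ ≤ C := by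
            rw [commutator_le]
            intro m hm m' hm'
            have h1 : normalizer (E₂ : Set P) = (normalizer (E : Set P)).map c := by
              rw [hE₂]
              exact (map_equiv_normalizer_eq E (MulAut.conj g)).symm
            have h2 := hN₂C (c m) (by rw [h1]; exact ⟨m, hm, rfl⟩) (c m') (by rw [h1]; exact ⟨m', hm', rfl⟩)
            rw [← map_commutatorElement] at h2
            have h3 := hCn.conj_mem _ h2 g⁻¹
            have h4 : g⁻¹ * c ⁅m, m'⁆ * g⁻¹⁻¹ = ⁅m, m'⁆ := by
              change g⁻¹ * (g * ⁅m, m'⁆ * g⁻¹) * g⁻¹⁻¹ = ⁅m, m'⁆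
              group
            rwa [h4] at h3
          intro x hx
          exact (hCmem x).mp (hfinal hx)
    · have hKN : K ≤ normalizer (K : Set P) := le_normalizer
      have hTN := hT _ (hNK K hK) hnt
      refine comm_of_sub (hNK K hK) hKN (hTN.c4 (K.subgroupOf (normalizer (K : Set P))) ?_ ?_)
      · rw [← subgroupOf_normalizer_eq (hK.trans hKN)]
        exact fun x hx => hNK1 hx
      · rw [Ne, subgroupOf_eq_top]
        intro h
        have h1 := hc1 K hK hKt
        rw [relIndex_eq_one.mpr h] at h1
        exact hp.out.one_lt.ne h1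
  refine ⟨hc1, ?_, hc4⟩
  -- nilpotency classes
  intro i K hKnil hK hKt hidx
  have hKnt : Nontrivial K := (nontrivial_iff_ne_bot K).mpr (hKne K hK)
  by_cases hKE : K = E
  · subst hKE
    have h0 : 0 < K.index := Nat.pos_of_ne_zero index_ne_zero_of_finite
    have h1 : p ^ i = 1 := Nat.eq_of_mul_eq_mul_left h0 (by rw [hidx, mul_one])
    have h2 : i = 0 := by
      by_contra h
      exact (Nat.one_lt_pow h hp.out.one_lt).ne h1.symm
    rw [h2, zero_add]
    apply le_antisymm
    · rw [Group.IsNilpotent.nilpotencyClass_le_one_iff]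
      exact ⟨⟨fun a b => Subtype.ext (hS.comm a a.2 b b.2)⟩⟩
    · by_contra hcon
      have h3 : Group.nilpotencyClass K = 0 := by omega
      rw [Group.nilpotencyClass_zero_iff_subsingleton] at h3
      exact not_subsingleton K h3
  have hNK1 := hEK K hK hKE
  have hNt : normalizer (E : Set P) ≠ ⊤ := by
    intro h
    rw [h, top_le_iff] at hNK1
    exact hKt hNK1
  have hi : ∃ j, i = j + 1 := by
    apply Nat.exists_eq_succ_of_ne_zero
    rintro rfl
    rw [pow_zero, mul_one] at hidx
    apply hKE
    have h1 := relIndex_mul_index hK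
    rw [← hidx] at h1
    have h2 : 0 < K.index := Nat.pos_of_ne_zero index_ne_zero_of_finite
    have h3 : E.relIndex K = 1 := Nat.eq_of_mul_eq_mul_right h2 (by rw [h1, one_mul])
    rw [relIndex_eq_one] at h3
    exact le_antisymm h3 hK
  obtain ⟨j, rfl⟩ := hi
  by_cases hnt : normalizer (K : Set P) = ⊤
  · have hKn : K.Normal := normalizer_eq_top_iff.mp hnt
    set Z := K ⊓ centralizer (K : Set P) with hZ
    have hZn : Z.Normal := normal_cen hKn
    have hQK := hQ K hKn hNK1 (hc4 K hNK1 hKt) (hc1N hNt) Z hZ
    have hZK : Z ≤ K := inf_le_left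
    have hZE : Z ≤ E := hS.cen_le hK
    have hZN : Z ≤ normalizer (E : Set P) := hZE.trans hEN
    obtain ⟨hnilq, hcl⟩ := class_map hZ
    have h5 := hQK.c3 j (K.map (QuotientGroup.mk' Z)) (map_mono hNK1) (by
        intro h
        have h6 := congrArg (Subgroup.comap (QuotientGroup.mk' Z)) h
        rw [comap_map_eq_self (by rw [QuotientGroup.ker_mk']; exact hZK), comap_top] at h6
        exact hKt h6) (by
        rw [index_map_eq _ (QuotientGroup.mk'_surjective Z) (by rw [QuotientGroup.ker_mk']; exact hZK),
          index_map_eq _ (QuotientGroup.mk'_surjective Z) (by rw [QuotientGroup.ker_mk']; exact hZN)]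
        have h6 := relIndex_mul_index hEN
        rw [hS.idx] at h6
        rw [← h6, pow_succ] at hidx
        apply Nat.eq_of_mul_eq_mul_left hp.out.pos
        rw [← hidx]; ring)
    rw [hcl, h5]
  · have hKN : K ≤ normalizer (K : Set P) := le_normalizer
    obtain ⟨hnil, hcl⟩ := class_subgroupOf (K := K) hKN
    rw [← hcl]
    apply (hT _ (hNK K hK) hnt).c3
    · exact fun x hx => hK hx
    · rw [Ne, subgroupOf_eq_top]
      intro h
      have h1 := hc1 K hK hKt
      rw [relIndex_eq_one.mpr h] at h1
      exact hp.out.one_lt.ne h1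
    · change K.relIndex (normalizer (K : Set P)) * p ^ (j + 1) = E.relIndex (normalizer (K : Set P))
      have h1 := relIndex_mul_index hKN
      have h2 := relIndex_mul_index (hK.trans hKN)
      rw [← h1, ← h2] at hidx
      apply Nat.eq_of_mul_eq_mul_right (Nat.pos_of_ne_zero (index_ne_zero_of_finite (H := normalizer (K : Set P))))
      rw [← hidx]; ring

end Cfsg.Agent.Lib.SoftSubgroup
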