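import Mathlib
import Cfsg.Agent.Lib.Sesq14

/-! Invariant totally isotropic subspaces of symplectic spaces: existence. (helper99) -/

set_option autoImplicit false

namespace Cfsg.Agent.Lib.SpTI

open Polynomial Module Cfsg.Agent.Lib.InvSub Cfsg.Agent.Lib.PrimeOrd Cfsg.Agent.Lib.Sesq

section cw

variable {F V : Type*} [Field F] [Fintype F] [AddCommGroup V] [Module F V] [FiniteDimensional F V]

/-- Chevalley–Warning for systems of bilinear forms -/
theorem exists_common_zero {n : ℕ} (Q : Fin n → V →ₗ[F] V →ₗ[F] F) (W : Submodule F V) (h : 2 * n < finrank F W) :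
    ∃ u ∈ W, u ≠ 0 ∧ ∀ j, Q j u u = 0 := by
  classical
  obtain ⟨p, hp⟩ := CharP.exists F
  haveI : Fact p.Prime := ⟨(CharP.char_is_prime_or_zero F p).resolve_right (CharP.char_ne_zero_of_finite F p)⟩
  set m := finrank F W with hm
  let b : Basis (Fin m) F W := Module.finBasis F W
  let f : Fin n → MvPolynomial (Fin m) F := fun j =>
    ∑ k, ∑ i, MvPolynomial.C (Q j (b k) (b i)) * (MvPolynomial.X k * MvPolynomial.X i)
  have hdeg : ∀ j, (f j).totalDegree ≤ 2 := by
    intro j
    refine MvPolynomial.totalDegree_finsetSum_le ?_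
    intro k _
    refine MvPolynomial.totalDegree_finsetSum_le ?_
    intro i _
    refine (MvPolynomial.totalDegree_mul _ _).trans ?_
    rw [MvPolynomial.totalDegree_C, zero_add]
    refine (MvPolynomial.totalDegree_mul _ _).trans ?_
    rw [MvPolynomial.totalDegree_X, MvPolynomial.totalDegree_X]
  have hsum : (∑ j, (f j).totalDegree) < Fintype.card (Fin m) := by
    refine lt_of_le_of_lt (Finset.sum_le_sum (fun j _ => hdeg j)) ?_
    simp only [Finset.sum_const, Finset.card_univ, Fintype.card_fin, smul_eq_mul]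
    omega
  have hcw := char_dvd_card_solutions_of_fintype_sum_lt (K := F) p hsum
  have heval : ∀ (x : Fin m → F) (j : Fin n), MvPolynomial.eval x (f j) =
      Q j ((∑ i, x i • b i : W) : V) ((∑ i, x i • b i : W) : V) := by
    intro x j
    simp only [f, map_sum, map_mul, MvPolynomial.eval_C, MvPolynomial.eval_X, Submodule.coe_sum, Submodule.coe_smul, map_smul,
      LinearMap.sum_apply, LinearMap.smul_apply, smul_eq_mul]
    rw [Finset.sum_comm]
    apply Finset.sum_congr rfl
    intro i _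
    rw [Finset.mul_sum]
    apply Finset.sum_congr rfl
    intro k _
    ring
  have h0 : ∀ j, MvPolynomial.eval (0 : Fin m → F) (f j) = 0 := by
    intro j
    rw [heval]; simp
  rw [Fintype.card_eq_nat_card] at hcw
  have hcard : 1 < Nat.card {x : Fin m → F // ∀ j, MvPolynomial.eval x (f j) = 0} := by
    have hne : Nonempty {x : Fin m → F // ∀ j, MvPolynomial.eval x (f j) = 0} := ⟨⟨0, h0⟩⟩
    have hpos : 0 < Nat.card {x : Fin m → F // ∀ j, MvPolynomial.eval x (f j) = 0} := Nat.card_pos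
    exact lt_of_lt_of_le (Fact.out : p.Prime).one_lt (Nat.le_of_dvd hpos hcw)
  have hnt := Finite.one_lt_card_iff_nontrivial.mp hcard
  obtain ⟨⟨x, hx⟩, hx0⟩ := exists_ne (⟨0, h0⟩ : {x : Fin m → F // ∀ j, MvPolynomial.eval x (f j) = 0})
  refine ⟨((∑ i, x i • b i : W) : V), Subtype.prop _, ?_, fun j => by rw [← heval]; exact hx j⟩
  intro h1
  apply hx0
  apply Subtype.ext
  have h2 : (∑ i, x i • b i : W) = 0 := Subtype.ext h1
  funext i
  have h3 := b.linearIndependent
  rw [Fintype.linearIndependent_iff] at h3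
  exact h3 x h2 i

end cw

section build

variable {F V : Type*} [Field F] [AddCommGroup V] [Module F V] [FiniteDimensional F V] {B : V →ₗ[F] V →ₗ[F] F}

/-- multiple totally isotropic invariant subspaces -/
theorem ti_mult [Finite F] (hB : Alt B) (hnd : ND (σ := RingHom.id F) B ⊤) {T : Module.End F V}
    (hT : Iso (σ := RingHom.id F) B T) (hcompl : ∀ W, Inv T W → ∃ W', Inv T W' ∧ IsCompl W W') {i b : ℕ} (Pr : Submodule F V → Prop)
    (hPr : ∀ W W' : Submodule F V, W' ≤ W → Pr W → Pr W')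
    (hat : ∀ W, Inv T W → ND (σ := RingHom.id F) B W → Pr W → b < finrank F W → ∃ X ≤ W, Inv T X ∧ TI (σ := RingHom.id F) B X ∧ finrank F X = i) :
    ∀ (s : ℕ) (W : Submodule F V), Inv T W → ND (σ := RingHom.id F) B W → Pr W → (s = 0 ∨ b + 2 * i * (s - 1) < finrank F W) →
      ∃ X ≤ W, Inv T X ∧ TI (σ := RingHom.id F) B X ∧ finrank F X = s * i := by
  intro s
  induction s with
  | zero =>
    intro W _ _ _ _
    exact ⟨⊥, bot_le, fun x hx => by rw [(Submodule.mem_bot F).mp hx, map_zero]; exact Submodule.zero_mem _,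
      fun u hu v _ => by rw [(Submodule.mem_bot F).mp hu, map_zero, LinearMap.zero_apply], by rw [finrank_bot, Nat.zero_mul]⟩
  | succ s ih =>
    intro W hW hWnd hPW hs
    have hs' : b + 2 * i * s < finrank F W := by
      rcases hs with h | h
      · omega
      · simpa using h
    obtain ⟨X, hXW, hX, hXti, hXf⟩ := hat W hW hWnd hPW (by omega)
    obtain ⟨H, hHW, hH, hHnd, hHf, hXH⟩ := exists_double_nd hB.refl hnd hT hcompl hW hWnd hX hXW hXti
    obtain ⟨g1, g2, g3, g4⟩ := split_nd hB.refl hWnd hHnd hHW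
    obtain ⟨Y, hYW, hY, hYti, hYf⟩ := ih (W ⊓ perp (σ := RingHom.id F) B H) (inf_perp_inv hnd hT hW hH) g4 (hPr _ _ inf_le_left hPW) (by
      rcases Nat.eq_zero_or_pos s with h | h
      · exact Or.inl h
      · right
        have h2 : 2 * i * s = 2 * i * (s - 1) + 2 * i := by
          obtain ⟨k, rfl⟩ := Nat.exists_eq_add_of_lt h
          simp only [zero_add, Nat.add_sub_cancel]; ring
        omega)
    have horth : ∀ x ∈ X, ∀ y ∈ Y, B x y = 0 := fun x hx y hy => (hYW hy).2 x (hXH hx)
    refine ⟨X ⊔ Y, sup_le hXW (hYW.trans inf_le_left), inv_sup hX hY, ?_, ?_⟩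
    · intro u hu v hv
      obtain ⟨x, hx, y, hy, rfl⟩ := Submodule.mem_sup.mp hu
      obtain ⟨x', hx', y', hy', rfl⟩ := Submodule.mem_sup.mp hv
      rw [map_add, map_add, LinearMap.add_apply, LinearMap.add_apply, hXti x hx x' hx', hB.refl _ _ (horth x' hx' y hy), horth x hx y' hy',
        hYti y hy y' hy']
      simp
    · have h5 := Submodule.finrank_sup_add_finrank_inf_eq X Y
      rw [disjoint_iff.mp (g2.mono hXH hYW), finrank_bot] at h5
      rw [Nat.succ_mul]; omega

/-- totally isotropic subspaces of the fixed space -/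
theorem ti_fixed [Finite F] (hB : Alt B) (hnd : ND (σ := RingHom.id F) B ⊤) {T : Module.End F V}
    (hT : Iso (σ := RingHom.id F) B T) (hcompl : ∀ W, Inv T W → ∃ W', Inv T W' ∧ IsCompl W W') {W : Submodule F V} (hWE : W ≤ E T 1)
    (hWnd : ND (σ := RingHom.id F) B W) {e : ℕ} (he : 2 * e ≤ finrank F W) :
    ∃ X ≤ W, Inv T X ∧ TI (σ := RingHom.id F) B X ∧ finrank F X = e := by
  have hinv : ∀ U ≤ E T 1, Inv T U := fun U hU => inv_of_le_E hU
  obtain ⟨X, h1, h2, h3, h4⟩ := ti_mult hB hnd hT hcompl (i := 1) (b := 0) (fun W => W ≤ E T 1) (fun W W' h h' => h.trans h') (by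
    intro W hW hWnd hWE hpos
    have hne : W ≠ ⊥ := by
      rintro rfl
      rw [finrank_bot] at hpos
      omega
    obtain ⟨u, hu, hu0⟩ := Submodule.exists_mem_ne_zero_of_ne_bot hne
    have hle : Submodule.span F {u} ≤ W := by rw [Submodule.span_singleton_le_iff_mem]; exact hu
    refine ⟨Submodule.span F {u}, hle, hinv _ (hle.trans hWE), ?_, finrank_span_singleton hu0⟩
    intro x hx y hy
    obtain ⟨a, rfl⟩ := Submodule.mem_span_singleton.mp hx
    obtain ⟨c, rfl⟩ := Submodule.mem_span_singleton.mp hy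
    rw [map_smul, map_smul, LinearMap.smul_apply, hB u, smul_zero, smul_zero]) e W (hinv W hWE) hWnd hWE (by omega)
  exact ⟨X, h1, h2, h3, by rw [h4, mul_one]⟩

end build

section odd

variable {F V : Type*} [Field F] [Fintype F] [AddCommGroup V] [Module F V] [FiniteDimensional F V] {B : V →ₗ[F] V →ₗ[F] F}
  {p r : ℕ} {T : Module.End F V}

lemma _root_.Cfsg.Agent.Lib.Sesq.PO.ss (h : PO F p r B T) : SS T 1 (orderOf ((Fintype.card F : ℕ) : ZMod r)) := by
  have := h.hc
  haveI : Fact p.Prime := ⟨h.hp⟩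
  haveI : Fact r.Prime := ⟨h.hr⟩
  exact ssB (p := p) h.hrp one_ne_zero (by rw [one_pow, one_smul]; exact h.pow)

/-- totally isotropic cyclic subspaces from Chevalley–Warning -/
theorem exists_ti_cw (h : PO F p r B T) {W : Submodule F V} (hW : Inv T W) (hE : W ⊓ E T 1 = ⊥) (hdim : r - 1 < finrank F W) :
    ∃ X ≤ W, Inv T X ∧ TI (σ := RingHom.id F) B X ∧ finrank F X = orderOf ((Fintype.card F : ℕ) : ZMod r) := by
  obtain ⟨k, hk⟩ := h.odd
  obtain ⟨u, hu, hu0, hQ⟩ := exists_common_zero (n := k) (fun j => B ∘ₗ (T ^ ((j : ℕ) + 1))) W (by omega)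
  have hQ' : ∀ j, 1 ≤ j → j ≤ k → B ((T ^ j) u) u = 0 := by
    intro j h1 h2
    have := hQ ⟨j - 1, by omega⟩
    simp only [LinearMap.comp_apply] at this
    rwa [show j - 1 + 1 = j by omega] at this
  have hall : ∀ j, j < r → B ((T ^ j) u) u = 0 := by
    intro j hj
    rcases Nat.eq_zero_or_pos j with rfl | hj0
    · exact h.alt u
    · by_cases hjk : j ≤ k
      · exact hQ' j hj0 hjk
      · -- B (T^j u) u = B u (T^(r-j) u) up to sign
        have h1 := (h.iso.pow (r - j)) ((T ^ j) u) u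
        rw [← Module.End.mul_apply, ← pow_add, show r - j + j = r by omega, h.pow, Module.End.one_apply] at h1
        rw [← h1, h.alt.skew, hQ' (r - j) (by omega) (by omega), neg_zero]
  have hall' : ∀ j, B ((T ^ j) u) u = 0 := by
    intro j
    have hr0 := h.hr.pos
    have : T ^ j = T ^ (j % r) := by
      conv_lhs => rw [← Nat.div_add_mod j r, pow_add, pow_mul, h.pow, one_pow, one_mul]
    rw [this]
    exact hall _ (Nat.mod_lt _ hr0)
  -- the cyclic subspace
  let U : Submodule F V := Submodule.span F (Set.range fun j : ℕ => (T ^ j) u)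
  have hUT : Inv T U := by
    apply inv_span
    rintro _ ⟨j, rfl⟩
    rw [← Module.End.mul_apply, ← pow_succ']
    exact Submodule.subset_span ⟨j + 1, rfl⟩
  have hUti : TI (σ := RingHom.id F) B U := by
    apply ti_span
    rintro _ ⟨a, rfl⟩ _ ⟨b, rfl⟩
    rcases le_total a b with hab | hab
    · obtain ⟨c, rfl⟩ := Nat.exists_eq_add_of_le hab
      have h1 := (h.iso.pow a) u ((T ^ c) u)
      change B ((T ^ a) u) ((T ^ (a + c)) u) = 0
      rw [pow_add, Module.End.mul_apply, h1]
      exact h.alt.refl _ _ (hall' c)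
    · obtain ⟨c, rfl⟩ := Nat.exists_eq_add_of_le hab
      have h1 := (h.iso.pow b) ((T ^ c) u) u
      change B ((T ^ (b + c)) u) ((T ^ b) u) = 0
      rw [pow_add, Module.End.mul_apply, h1]
      exact hall' c
  have hUW : U ≤ W := by
    apply Submodule.span_le.mpr
    rintro _ ⟨j, rfl⟩
    exact inv_pow hW j u hu
  have huU : u ∈ U := Submodule.subset_span ⟨0, rfl⟩
  obtain ⟨X, hX, hXi, hXf⟩ := h.ss.ex U hUT (by
    intro hbot
    rw [hbot, Submodule.mem_bot] at huU
    exact hu0 huU) (by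
    rw [disjoint_iff, eq_bot_iff, ← hE, inf_comm]
    exact inf_le_inf_right _ hUW)
  exact ⟨X, hX.trans hUW, hXi, fun x hx y hy => hUti x (hX hx) y (hX hy), hXf⟩

/-- for odd order of `q`, irreducible subspaces are totally isotropic -/
theorem exists_ti_odd (h : PO F p r B T) (ho : ¬ Even (orderOf ((Fintype.card F : ℕ) : ZMod r))) {W : Submodule F V} (hW : Inv T W)
    (hne : W ≠ ⊥) (hE : W ⊓ E T 1 = ⊥) :
    ∃ X ≤ W, Inv T X ∧ TI (σ := RingHom.id F) B X ∧ finrank F X = orderOf ((Fintype.card F : ℕ) : ZMod r) := by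
  obtain ⟨U, hUW, hU, hUf⟩ := h.ss.ex W hW hne (by rw [disjoint_iff, inf_comm]; exact hE)
  refine ⟨U, hUW, hU, ?_, hUf⟩
  rw [ti_iff]
  by_contra hnle
  have hR : Inv T (U ⊓ perp (σ := RingHom.id F) B U) := inv_inf hU (h.iso.inv_perp h.nd hU)
  have hR0 : U ⊓ perp (σ := RingHom.id F) B U = ⊥ := by
    by_contra hRne
    obtain ⟨U', hU'R, -, hU'f⟩ := h.ss.ex _ hR hRne (by
      rw [disjoint_iff, eq_bot_iff, ← hE, inf_comm]
      exact inf_le_inf_right _ (inf_le_left.trans hUW))
    have : U' = U := Submodule.eq_of_le_of_finrank_eq (hU'R.trans inf_le_left) (by rw [hU'f, hUf])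
    apply hnle
    rw [this] at hU'R
    exact hU'R.trans inf_le_right
  have := even_of_nd h.alt ((nd_iff h.alt.refl).mpr hR0)
  rw [hUf] at this
  exact ho this

/-- dimensions of invariant totally isotropic subspaces: sufficient condition -/
theorem exists_ti (h : PO F p r B T) {e' s' : ℕ} (he : 2 * e' ≤ finrank F (E T 1))
    (hs : s' = 0 ∨ (if Even (orderOf ((Fintype.card F : ℕ) : ZMod r)) then
        r - 1 + 2 * orderOf ((Fintype.card F : ℕ) : ZMod r) * (s' - 1) < finrank F V - finrank F (E T 1)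
      else 2 * orderOf ((Fintype.card F : ℕ) : ZMod r) * s' ≤ finrank F V - finrank F (E T 1))) :
    ∃ X : Submodule F V, Inv T X ∧ TI (σ := RingHom.id F) B X ∧
      finrank F X = e' + s' * orderOf ((Fintype.card F : ℕ) : ZMod r) := by
  set i := orderOf ((Fintype.card F : ℕ) : ZMod r) with hi
  have hss := h.ss
  rw [← hi] at hss
  obtain ⟨h0, h1, h2, h3, h4, h5⟩ := h.split_E (W := ⊤) (fun _ _ => trivial) h.nd
  rw [top_inf_eq] at h0 h1 h2 h3 h4 h5
  rw [top_inf_eq] at h2 h3 h4 h5
  rw [finrank_top] at h5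
  set C := perp (σ := RingHom.id F) B (E T 1) with hC
  obtain ⟨X, hX1, hX2, hX3, hX4⟩ := ti_fixed h.alt h.nd h.iso hss.compl le_rfl h1 he
  have hY : ∃ Y ≤ C, Inv T Y ∧ TI (σ := RingHom.id F) B Y ∧ finrank F Y = s' * i := by
    by_cases hev : Even i
    · rw [if_pos hev] at hs
      exact ti_mult h.alt h.nd h.iso hss.compl (i := i) (b := r - 1) (fun W => W ⊓ E T 1 = ⊥)
        (fun W W' hle hW => by rw [eq_bot_iff, ← hW]; exact inf_le_inf_right _ hle)
        (fun W hW _ hPW hb => exists_ti_cw h hW hPW hb) s' C h2 h3 h4 (by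
          rcases hs with h | h
          · exact Or.inl h
          · right; omega)
    · rw [if_neg hev] at hs
      exact ti_mult h.alt h.nd h.iso hss.compl (i := i) (b := 0) (fun W => W ⊓ E T 1 = ⊥)
        (fun W W' hle hW => by rw [eq_bot_iff, ← hW]; exact inf_le_inf_right _ hle)
        (fun W hW _ hPW hb => exists_ti_odd h hev hW (by rintro rfl; rw [finrank_bot] at hb; omega) hPW) s' C h2 h3 h4 (by
          rcases Nat.eq_zero_or_pos s' with h | h
          · exact Or.inl h
          · right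
            have h6 := hss.pos
            have h7 : 2 * i * s' = 2 * i * (s' - 1) + 2 * i := by
              obtain ⟨k, rfl⟩ := Nat.exists_eq_add_of_lt h
              simp only [zero_add, Nat.add_sub_cancel]; ring
            omega)
  obtain ⟨Y, hY1, hY2, hY3, hY4⟩ := hY
  have horth : ∀ x ∈ X, ∀ y ∈ Y, B x y = 0 := fun x hx y hy => (hY1 hy) x (hX1 hx)
  refine ⟨X ⊔ Y, inv_sup hX2 hY2, ?_, ?_⟩
  · intro u hu v hv
    obtain ⟨x, hx, y, hy, rfl⟩ := Submodule.mem_sup.mp hu
    obtain ⟨x', hx', y', hy', rfl⟩ := Submodule.mem_sup.mp hv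
    rw [map_add, map_add, LinearMap.add_apply, LinearMap.add_apply, hX3 x hx x' hx', h.alt.refl _ _ (horth x' hx' y hy), horth x hx y' hy',
      hY3 y hy y' hy']
    simp
  · have h6 := Submodule.finrank_sup_add_finrank_inf_eq X Y
    have h7 : X ⊓ Y = ⊥ := by
      rw [eq_bot_iff, ← h4, inf_comm]
      exact inf_le_inf hY1 hX1
    rw [h7, finrank_bot] at h6
    omega

end odd

end Cfsg.Agent.Lib.SpTI
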