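import Mathlib
import Cfsg.Agent.Lib.SpTI

/-! Anisotropic isometries of odd prime order (helper99). -/

set_option autoImplicit false

namespace Cfsg.Agent.Lib.SpTI

open Polynomial Module Cfsg.Agent.Lib.InvSub Cfsg.Agent.Lib.PrimeOrd Cfsg.Agent.Lib.Sesq

universe u

section ndker

variable {F V : Type*} [Field F] [Fintype F] [AddCommGroup V] [Module F V] [FiniteDimensional F V] {B : V →ₗ[F] V →ₗ[F] F}
  {p r : ℕ} {T : Module.End F V}

theorem nd_ker (h : PO F p r B T) (he : Even (orderOf ((Fintype.card F : ℕ) : ZMod r))) {W : Submodule F V} (hW : Inv T W)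
    (hWnd : ND (σ := RingHom.id F) B W) {f : F[X]} (hfd : f ∣ X ^ r - 1) : ND (σ := RingHom.id F) B (W ⊓ LinearMap.ker (aeval T f)) := by
  haveI := h.hc
  haveI : Fact p.Prime := ⟨h.hp⟩
  haveI : Fact r.Prime := ⟨h.hr⟩
  have hi0 := order_pos (F := F) (p := p) h.hrp
  have hTT : aeval T (X ^ r - 1 : F[X]) = 0 := by rw [map_sub, map_pow, aeval_X, map_one, h.pow, sub_self]
  obtain ⟨g, hg⟩ := hfd
  have hsep : (X ^ r - 1 : F[X]).Separable := by
    have := separable_X_pow_sub_C (1 : F) h.ne one_ne_zero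
    rwa [C_1] at this
  have hcop : IsCoprime f g := by
    rw [hg] at hsep
    exact hsep.isCoprime
  obtain ⟨a, b, hab⟩ := hcop
  have hadj := adj_poly (fun u v => iso_adj h.iso h.hr.pos h.pow u v) f
  have hWpoly : ∀ (P : F[X]) (x : V), x ∈ W → aeval T P x ∈ W := by
    intro P x hx
    induction P using Polynomial.induction_on' with
    | add p q hp hq => rw [map_add]; exact W.add_mem hp hq
    | monomial k c =>
      rw [← C_mul_X_pow_eq_monomial, map_mul, aeval_C, map_pow, aeval_X]
      exact W.smul_mem c (inv_pow hW k x hx)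
  intro m hm hm'
  apply hWnd m hm.1
  intro x hx
  have hx1 : x = aeval T (b * g) x + aeval T f (aeval T a x) := by
    have : aeval T (b * g) x + aeval T f (aeval T a x) = aeval T (a * f + b * g) x := by
      rw [mul_comm a f, map_add, map_mul (aeval T) f a, LinearMap.add_apply, Module.End.mul_apply, add_comm]
    rw [this, hab, map_one]; rfl
  have h1 : aeval T (b * g) x ∈ W ⊓ LinearMap.ker (aeval T f) := by
    refine Submodule.mem_inf.mpr ⟨hWpoly _ x hx, ?_⟩
    rw [LinearMap.mem_ker, ← Module.End.mul_apply, ← map_mul, show f * (b * g) = b * (f * g) by ring, ← hg, map_mul, hTT,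
      mul_zero]
    rfl
  rw [hx1, map_add, hm' _ h1, zero_add]
  rw [h.alt.skew, hadj, aeval_inv h.hr h.pow rfl he hi0 (by exact hm.2), map_zero, neg_zero]

lemma ker_inv (f : F[X]) : Inv T (LinearMap.ker (aeval T f)) := by
  intro x hx
  rw [LinearMap.mem_ker] at hx ⊢
  have : aeval T f (T x) = T (aeval T f x) := by
    have h1 : aeval T (f * X) = aeval T (X * f) := by rw [mul_comm]
    rw [map_mul, map_mul, aeval_X] at h1
    exact congrArg (fun g : Module.End F V => g x) h1
  rw [this, hx, map_zero]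

/-- multiplicity-free isometries are anisotropic -/
theorem aniso_of (h : PO F p r B T) (he : Even (orderOf ((Fintype.card F : ℕ) : ZMod r)))
    (hker : ∀ f : F[X], Irreducible f → f ∣ X ^ r - 1 → finrank F (LinearMap.ker (aeval T f)) ≤ f.natDegree) {X : Submodule F V}
    (hX : Inv T X) (hti : TI (σ := RingHom.id F) B X) : X = ⊥ := by
  by_contra hne
  have hX0 : (Polynomial.X ^ r - 1 : F[X]) ≠ 0 := X_pow_sub_C_ne_zero h.hr.pos 1
  have hTT : aeval T (Polynomial.X ^ r - 1 : F[X]) = 0 := by rw [map_sub, map_pow, aeval_X, map_one, h.pow, sub_self]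
  obtain ⟨f, hf, hfd, w, hw, hw0, hfw⟩ := exists_irred_factor hX0 hTT hX hne
  obtain ⟨U, hU, hUf, hwU, hmin⟩ := cyclic_aux hf hw0 hfw
  have h1 : U ≤ X := hmin X hX hw
  have h2 : U ≤ LinearMap.ker (aeval T f) := hmin _ (ker_inv f) hfw
  have h3 : U = LinearMap.ker (aeval T f) := Submodule.eq_of_le_of_finrank_le h2 (by rw [hUf]; exact hker f hf hfd)
  have h4 := nd_ker h he (W := ⊤) (fun _ _ => trivial) h.nd hfd
  rw [top_inf_eq, ← h3] at h4
  exact hw0 (h4 w hwU (fun y hy => hti w (h1 hwU) y (h1 hy)))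

end ndker

section bound

variable {F V : Type*} [Field F] [Fintype F] [AddCommGroup V] [Module F V] [FiniteDimensional F V] {B : V →ₗ[F] V →ₗ[F] F}
  {p r : ℕ} {T : Module.End F V}

lemma finrank_pairing (hB : Alt B) (hnd : ND (σ := RingHom.id F) B ⊤) (U W : Submodule F V) :
    finrank F ↥(W ⊓ perp (σ := RingHom.id F) B U) + finrank F U = finrank F ↥(U ⊓ perp (σ := RingHom.id F) B W) + finrank F W := by
  have h1 := finrank_add_perp (σ := RingHom.id F) hnd U
  have h2 := Submodule.finrank_sup_add_finrank_inf_eq W (perp (σ := RingHom.id F) B U)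
  have h3 := finrank_add_perp (σ := RingHom.id F) hnd (W ⊔ perp (σ := RingHom.id F) B U)
  have h4 : perp (σ := RingHom.id F) B (W ⊔ perp (σ := RingHom.id F) B U) = U ⊓ perp (σ := RingHom.id F) B W := by
    rw [perp_sup, perp_perp hB.refl hnd, inf_comm]
  rw [h4] at h3
  omega

/-- bound for totally isotropic invariant subspaces -/
theorem ti_bound (hB : Alt B) (hnd : ND (σ := RingHom.id F) B ⊤) (hT : Iso (σ := RingHom.id F) B T) {A X : Submodule F V}
    (hA : Inv T A) (hani : ∀ Y ≤ A, Inv T Y → TI (σ := RingHom.id F) B Y → Y = ⊥) (hX : Inv T X) (hXti : TI (σ := RingHom.id F) B X)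
    (hAX : perp (σ := RingHom.id F) B X ≤ A ⊔ X) {W : Submodule F V} (hW : Inv T W) (hWti : TI (σ := RingHom.id F) B W) :
    finrank F W ≤ finrank F X := by
  set Z := W ⊓ perp (σ := RingHom.id F) B X with hZ
  have hZinv : Inv T Z := inv_inf hW (hT.inv_perp hnd hX)
  -- `Z ⊔ X` is totally isotropic
  have h1 : TI (σ := RingHom.id F) B (Z ⊔ X) := by
    intro u hu v hv
    obtain ⟨a, ha, b, hb, rfl⟩ := Submodule.mem_sup.mp hu
    obtain ⟨c, hc, d, hd, rfl⟩ := Submodule.mem_sup.mp hv
    rw [map_add, map_add, LinearMap.add_apply, LinearMap.add_apply, hWti a ha.1 c hc.1, hc.2 b hb, hB.refl _ _ (ha.2 d hd), hXti b hb d hd]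
    simp
  have h2 : (Z ⊔ X) ⊓ A = ⊥ := hani _ inf_le_right (inv_inf (inv_sup hZinv hX) hA) (fun u hu v hv => h1 u hu.1 v hv.1)
  have hXperp : X ≤ perp (σ := RingHom.id F) B X := ti_iff.mp hXti
  have h3 : Z ≤ X := by
    intro z hz
    have h4 : z ∈ A ⊔ X := hAX hz.2
    obtain ⟨a, ha, x, hx, hax⟩ := Submodule.mem_sup.mp h4
    have h5 : a ∈ (Z ⊔ X) ⊓ A := by
      refine ⟨?_, ha⟩
      have : a = z - x := by rw [← hax]; abel
      rw [this]
      exact Submodule.sub_mem _ (Submodule.mem_sup_left hz) (Submodule.mem_sup_right hx)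
    rw [h2, Submodule.mem_bot] at h5
    rw [← hax, h5, zero_add]; exact hx
  have h4 := finrank_pairing hB hnd X W
  have h5 : Z ≤ X ⊓ perp (σ := RingHom.id F) B W := le_inf h3 (fun z hz w hw => hWti w hw z hz.1)
  have h6 := Submodule.finrank_mono h5
  rw [← hZ] at h4
  omega

end bound

section cyc

variable {F : Type u} [Field F] {r : ℕ} [Fact r.Prime]

/-- the cyclic shift -/
def sh (F : Type u) [Field F] (r : ℕ) : Module.End F (ZMod r → F) := LinearMap.funLeft F F (fun a : ZMod r => a - 1)

lemma sh_pow (j : ℕ) (x : ZMod r → F) (a : ZMod r) : ((sh F r) ^ j) x a = x (a - j) := by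
  induction j generalizing a with
  | zero => simp
  | succ j ih =>
    rw [pow_succ', Module.End.mul_apply]
    change (((sh F r) ^ j) x) (a - 1) = _
    rw [ih]
    congr 1
    push_cast
    ring

lemma sh_pow_r : (sh F r) ^ r = 1 := by
  apply LinearMap.ext
  intro x
  funext a
  rw [sh_pow, ZMod.natCast_self, sub_zero]; rfl

/-- evaluation at the cyclic vector -/
lemma aeval_single {P : F[X]} (hP : P.natDegree < r) (a : ZMod r) :
    aeval (sh F r) P (Pi.single 0 1) a = P.coeff a.val := by
  rw [Polynomial.aeval_eq_sum_range' hP, LinearMap.sum_apply, Finset.sum_apply, Finset.sum_eq_single a.val]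
  · rw [LinearMap.smul_apply, Pi.smul_apply, sh_pow, ZMod.natCast_val, ZMod.cast_id', id, sub_self, Pi.single_eq_same, smul_eq_mul,
      mul_one]
  · intro j hj hja
    rw [Finset.mem_range] at hj
    rw [LinearMap.smul_apply, Pi.smul_apply, sh_pow, Pi.single_eq_of_ne, smul_zero]
    intro h
    apply hja
    have h1 : a = (j : ZMod r) := sub_eq_zero.mp h
    rw [h1, ZMod.val_natCast, Nat.mod_eq_of_lt hj]
  · intro h
    exact absurd (Finset.mem_range.mpr (ZMod.val_lt a)) h

lemma dvd_of_aeval {P : F[X]} (h : aeval (sh F r) P (Pi.single 0 1) = 0) : (X ^ r - 1 : F[X]) ∣ P := by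
  have hr := (Fact.out : r.Prime).pos
  have hmon : (X ^ r - 1 : F[X]).Monic := by
    have := monic_X_pow_sub_C (1 : F) hr.ne'
    rwa [C_1] at this
  have hdeg : (X ^ r - 1 : F[X]).natDegree = r := by
    have := natDegree_X_pow_sub_C (R := F) (n := r) (r := 1)
    rwa [C_1] at this
  rw [← modByMonic_eq_zero_iff_dvd hmon]
  set R := P %ₘ (X ^ r - 1) with hR
  have hRdeg : R.natDegree < r := by
    have := natDegree_modByMonic_lt P hmon (by
      intro h1
      rw [h1, natDegree_one] at hdeg
      omega)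
    rwa [hdeg] at this
  have hTT : aeval (sh F r) (X ^ r - 1 : F[X]) = 0 := by rw [map_sub, map_pow, aeval_X, map_one, sh_pow_r, sub_self]
  have h1 : aeval (sh F r) R (Pi.single 0 1) = 0 := by
    have h2 := modByMonic_add_div P (X ^ r - 1 : F[X])
    rw [← h2, map_add, map_mul, hTT, zero_mul, add_zero] at h
    exact h
  ext j
  by_cases hj : j < r
  · have h2 := congrFun h1 (j : ZMod r)
    rw [aeval_single hRdeg, ZMod.val_natCast, Nat.mod_eq_of_lt hj] at h2
    rw [h2]; simp
  · rw [coeff_eq_zero_of_natDegree_lt (by omega), coeff_zero]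

lemma exists_poly (v : ZMod r → F) : ∃ P : F[X], aeval (sh F r) P (Pi.single 0 1) = v := by
  refine ⟨∑ j ∈ Finset.range r, C (v (j : ZMod r)) * X ^ j, ?_⟩
  have hdeg : (∑ j ∈ Finset.range r, C (v (j : ZMod r)) * X ^ j : F[X]).natDegree < r := by
    have hr := (Fact.out : r.Prime).pos
    have := natDegree_sum_le_of_forall_le (Finset.range r) (fun j => (C (v (j : ZMod r)) * X ^ j : F[X])) (n := r - 1) (by
      intro j hj
      rw [Finset.mem_range] at hj
      exact (natDegree_C_mul_X_pow_le _ _).trans (by omega))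
    omega
  funext a
  rw [aeval_single hdeg, finsetSum_coeff, Finset.sum_eq_single a.val]
  · simp
  · intro j _ hj
    rw [coeff_C_mul, coeff_X_pow, if_neg (Ne.symm hj), mul_zero]
  · intro h
    exact absurd (Finset.mem_range.mpr (ZMod.val_lt a)) h

/-- kernels of factors have the right dimension -/
theorem finrank_ker_le {f : F[X]} (hfd : f ∣ X ^ r - 1) : finrank F (LinearMap.ker (aeval (sh F r) f)) ≤ f.natDegree := by
  obtain ⟨g, hg⟩ := hfd
  have hr := (Fact.out : r.Prime).pos
  have hX0 : (X ^ r - 1 : F[X]) ≠ 0 := X_pow_sub_C_ne_zero hr 1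
  have hf0 : f ≠ 0 := by rintro rfl; rw [zero_mul] at hg; exact hX0 hg
  have hTT : aeval (sh F r) (X ^ r - 1 : F[X]) = 0 := by rw [map_sub, map_pow, aeval_X, map_one, sh_pow_r, sub_self]
  let ψ : degreeLT F f.natDegree →ₗ[F] (ZMod r → F) :=
    { toFun := fun k => aeval (sh F r) (g * k.1) (Pi.single 0 1)
      map_add' := fun a b => by simp [mul_add]
      map_smul' := fun c a => by simp }
  have hle : LinearMap.ker (aeval (sh F r) f) ≤ LinearMap.range ψ := by
    intro v hv
    rw [LinearMap.mem_ker] at hv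
    obtain ⟨h, rfl⟩ := exists_poly v
    rw [← Module.End.mul_apply, ← map_mul] at hv
    have h1 := dvd_of_aeval hv
    rw [hg] at h1
    obtain ⟨k, hk⟩ := (mul_dvd_mul_iff_left hf0).mp h1
    have h2 : k % f ∈ degreeLT F f.natDegree := by
      rw [mem_degreeLT]
      refine (degree_mod_lt k hf0).trans_le ?_
      exact degree_le_natDegree
    refine ⟨⟨k % f, h2⟩, ?_⟩
    change aeval (sh F r) (g * (k % f)) (Pi.single 0 1) = _
    have h3 : h = g * (k % f) + (X ^ r - 1) * (k / f) := by
      rw [hk, hg]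
      have := EuclideanDomain.div_add_mod k f
      nth_rewrite 1 [← this]
      ring
    rw [h3, map_add, map_mul (aeval (sh F r)) (X ^ r - 1), hTT, zero_mul, add_zero]
  refine (Submodule.finrank_mono hle).trans ?_
  have h4 := LinearMap.finrank_range_le ψ
  have h5 : finrank F (degreeLT F f.natDegree) = f.natDegree := by
    rw [LinearEquiv.finrank_eq (degreeLTEquiv F f.natDegree)]; simp
  omega

/-- the difference form -/
def shB (F : Type u) [Field F] (r : ℕ) [Fact r.Prime] : (ZMod r → F) →ₗ[F] (ZMod r → F) →ₗ[F] F :=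
  LinearMap.mk₂ F (fun x y => ∑ a : ZMod r, (x (a + 1) * y a - x a * y (a + 1)))
    (fun x x' y => by rw [← Finset.sum_add_distrib]; exact Finset.sum_congr rfl fun a _ => by simp only [Pi.add_apply]; ring)
    (fun c x y => by rw [smul_eq_mul, Finset.mul_sum]; exact Finset.sum_congr rfl fun a _ => by simp only [Pi.smul_apply, smul_eq_mul]; ring)
    (fun x y y' => by rw [← Finset.sum_add_distrib]; exact Finset.sum_congr rfl fun a _ => by simp only [Pi.add_apply]; ring)
    (fun c x y => by rw [smul_eq_mul, Finset.mul_sum]; exact Finset.sum_congr rfl fun a _ => by simp only [Pi.smul_apply, smul_eq_mul]; ring)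

lemma shB_apply (x y : ZMod r → F) : shB F r x y = ∑ a : ZMod r, (x (a + 1) * y a - x a * y (a + 1)) := rfl

lemma shB_alt : Alt (shB F r) := fun x => by
  rw [shB_apply]
  exact Finset.sum_eq_zero fun a _ => by ring

lemma shB_iso : Iso (σ := RingHom.id F) (shB F r) (sh F r) := by
  intro x y
  rw [shB_apply, shB_apply]
  have h := Equiv.sum_comp (Equiv.addRight (1 : ZMod r)) (fun a : ZMod r => (sh F r) x (a + 1) * (sh F r) y a - (sh F r) x a * (sh F r) y (a + 1))
  rw [← h]
  apply Finset.sum_congr rfl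
  intro a _
  change x (a + 1 + 1 - 1) * y (a + 1 - 1) - x (a + 1 - 1) * y (a + 1 + 1 - 1) = _
  rw [add_sub_cancel_right, add_sub_cancel_right]

/-- the sum functional -/
def sm (F : Type u) [Field F] (r : ℕ) [Fact r.Prime] : (ZMod r → F) →ₗ[F] F := ∑ a : ZMod r, LinearMap.proj a

lemma sm_apply (x : ZMod r → F) : sm F r x = ∑ a : ZMod r, x a := by simp [sm, LinearMap.sum_apply]

lemma sm_inv : Inv (sh F r) (LinearMap.ker (sm F r)) := by
  intro x hx
  rw [LinearMap.mem_ker, sm_apply] at hx ⊢
  rw [← hx]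
  exact Equiv.sum_comp (Equiv.subRight (1 : ZMod r)) x

lemma const_of_fix {x : ZMod r → F} (h : sh F r x = x) (a : ZMod r) : x a = x 0 := by
  have h1 : ∀ j : ℕ, ((sh F r) ^ j) x = x := by
    intro j
    induction j with
    | zero => rfl
    | succ j ih => rw [pow_succ, Module.End.mul_apply, h, ih]
  have h2 := congrFun (h1 a.val) a
  rw [sh_pow, ZMod.natCast_val, ZMod.cast_id', id, sub_self] at h2
  exact h2.symm

lemma zero_of_fix (hr : (r : F) ≠ 0) {x : ZMod r → F} (h : sh F r x = x) (hx : sm F r x = 0) : x = 0 := by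
  rw [sm_apply, Finset.sum_congr rfl (fun a _ => const_of_fix h a), Finset.sum_const, Finset.card_univ, ZMod.card, nsmul_eq_mul] at hx
  funext a
  rw [const_of_fix h a]
  exact (mul_eq_zero.mp hx).resolve_left hr

lemma shB_nd (hr : (r : F) ≠ 0) (ho : Odd r) : ND (σ := RingHom.id F) (shB F r) (LinearMap.ker (sm F r)) := by
  classical
  intro x hx hx'
  -- z_a = x(a+1) - x(a-1)
  have hB : ∀ y, shB F r x y = ∑ a : ZMod r, (x (a + 1) - x (a - 1)) * y a := by
    intro y
    rw [shB_apply, Finset.sum_sub_distrib]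
    have h := Equiv.sum_comp (Equiv.subRight (1 : ZMod r)) (fun a : ZMod r => x a * y (a + 1))
    rw [← h, ← Finset.sum_sub_distrib]
    apply Finset.sum_congr rfl
    intro a _
    change _ - x (a - 1) * y (a - 1 + 1) = _
    rw [sub_add_cancel]; ring
  have hz : ∀ a, x (a + 1) - x (a - 1) = x (0 + 1) - x (0 - 1) := by
    intro a
    have h1 := hx' (Pi.single a 1 - Pi.single 0 1) (by
      rw [LinearMap.mem_ker, sm_apply]
      simp [Finset.sum_sub_distrib])
    rw [hB] at h1
    simp only [Pi.sub_apply, mul_sub, Finset.sum_sub_distrib] at h1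
    rw [Finset.sum_eq_single a (fun b _ hb => by rw [Pi.single_eq_of_ne hb, mul_zero]) (fun h => absurd (Finset.mem_univ _) h),
      Finset.sum_eq_single (0 : ZMod r) (fun b _ hb => by rw [Pi.single_eq_of_ne hb, mul_zero]) (fun h => absurd (Finset.mem_univ _) h),
      Pi.single_eq_same, Pi.single_eq_same, mul_one, mul_one] at h1
    exact sub_eq_zero.mp h1
  have hsum : ∑ a : ZMod r, (x (a + 1) - x (a - 1)) = 0 := by
    rw [Finset.sum_sub_distrib]
    have h1 := Equiv.sum_comp (Equiv.addRight (1 : ZMod r)) x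
    have h2 := Equiv.sum_comp (Equiv.subRight (1 : ZMod r)) x
    rw [show (∑ a : ZMod r, x (a + 1)) = ∑ a, x a from h1, show (∑ a : ZMod r, x (a - 1)) = ∑ a, x a from h2, sub_self]
  rw [Finset.sum_congr rfl (fun a _ => hz a), Finset.sum_const, Finset.card_univ, ZMod.card, nsmul_eq_mul] at hsum
  have h0 := (mul_eq_zero.mp hsum).resolve_left hr
  have hper : ∀ a, x (a - 2) = x a := by
    intro a
    have h1 := hz (a - 1)
    rw [h0, sub_eq_zero, sub_add_cancel] at h1
    rw [h1]; congr 1; ring
  -- T² x = x, hence T x = x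
  have h2 : ((sh F r) ^ 2) x = x := by
    funext a
    rw [sh_pow]
    exact_mod_cast hper a
  have h3 : sh F r x = x := by
    obtain ⟨k, hk⟩ := ho
    have h4 : ∀ j : ℕ, ((sh F r) ^ (2 * j)) x = x := by
      intro j
      induction j with
      | zero => rfl
      | succ j ih => rw [Nat.mul_succ, pow_add, Module.End.mul_apply, h2, ih]
    have h5 : ((sh F r) ^ (2 * (k + 1))) x = sh F r x := by
      rw [show 2 * (k + 1) = 1 + r by omega, pow_add, Module.End.mul_apply, sh_pow_r, pow_one]; rfl
    rw [← h5, h4]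
  exact zero_of_fix hr h3 hx

lemma finrank_ker_sm : finrank F (LinearMap.ker (sm F r)) = r - 1 := by
  classical
  have h1 := LinearMap.finrank_range_add_finrank_ker (sm F r)
  have h2 : LinearMap.range (sm F r) = ⊤ := by
    rw [LinearMap.range_eq_top]
    intro c
    refine ⟨Pi.single 0 c, ?_⟩
    rw [sm_apply]
    simp
  rw [h2, finrank_top, Module.finrank_self, Module.finrank_fintype_fun_eq_card, ZMod.card] at h1
  omega

/-- the multiplicity free anisotropic isometry -/
theorem exists_aniso [Fintype F] {p : ℕ} [Fact p.Prime] [CharP F p] (hrp : r ≠ p) (ho : Odd r)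
    (he : Even (orderOf ((Fintype.card F : ℕ) : ZMod r))) :
    ∃ (V : Type u) (_ : AddCommGroup V) (_ : Module F V) (_ : FiniteDimensional F V) (B : V →ₗ[F] V →ₗ[F] F) (T : Module.End F V),
      PO F p r B T ∧ finrank F V = r - 1 ∧ E T 1 = ⊥ ∧ ∀ X : Submodule F V, Inv T X → TI (σ := RingHom.id F) B X → X = ⊥ := by
  have hrF : (r : F) ≠ 0 := cast_ne_zero (F := F) (p := p) hrp
  let S₀ := LinearMap.ker (sm F r)
  let T : Module.End F S₀ := (sh F r).restrict sm_inv
  have hT : ∀ x : S₀, ((T x : S₀) : ZMod r → F) = sh F r x := fun x => rfl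
  have hTp : ∀ (j : ℕ) (x : S₀), (((T ^ j) x : S₀) : ZMod r → F) = ((sh F r) ^ j) x := by
    intro j
    induction j with
    | zero => intro x; rfl
    | succ j ih => intro x; rw [pow_succ, pow_succ, Module.End.mul_apply, Module.End.mul_apply, ih, hT]
  have hPO : PO F p r (rB (shB F r) S₀) T := by
    refine ⟨Fact.out, inferInstance, Fact.out, hrp, ho, rB_alt shB_alt _, rB_nd (shB_nd hrF ho), ?_, ?_⟩
    · intro x y
      rw [rB_apply, rB_apply, hT, hT]
      exact shB_iso _ _
    · apply LinearMap.ext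
      intro x
      apply Subtype.ext
      rw [hTp, sh_pow_r]; rfl
  have hE : E T 1 = ⊥ := by
    rw [eq_bot_iff]
    intro x hx
    rw [Module.End.mem_eigenspace_iff, one_smul] at hx
    rw [Submodule.mem_bot]
    apply Subtype.ext
    exact zero_of_fix hrF (by rw [← hT, hx]) x.2
  refine ⟨S₀, inferInstance, inferInstance, inferInstance, rB (shB F r) S₀, T, hPO, finrank_ker_sm, hE, ?_⟩
  intro X hX hti
  apply aniso_of hPO he _ hX hti
  intro f _ hfd
  refine le_trans ?_ (finrank_ker_le (F := F) (r := r) hfd)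
  have hae : ∀ (P : F[X]) (x : S₀), ((aeval T P x : S₀) : ZMod r → F) = aeval (sh F r) P (x : ZMod r → F) := by
    intro P x
    induction P using Polynomial.induction_on' with
    | add p q hp hq =>
      rw [map_add, map_add, LinearMap.add_apply, LinearMap.add_apply, Submodule.coe_add, hp, hq]
    | monomial k c =>
      rw [← C_mul_X_pow_eq_monomial, map_mul, map_mul, aeval_C, aeval_C, map_pow, map_pow, aeval_X, aeval_X]
      change (((c • (T ^ k) x : S₀)) : ZMod r → F) = c • ((sh F r) ^ k) (x : ZMod r → F)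
      rw [Submodule.coe_smul, hTp]
  have h1 : (LinearMap.ker (aeval T f)).map S₀.subtype ≤ LinearMap.ker (aeval (sh F r) f) := by
    rintro _ ⟨x, hx, rfl⟩
    rw [LinearMap.mem_ker]
    have h2 : aeval T f x = 0 := hx
    rw [Submodule.subtype_apply, ← hae, h2]; rfl
  have h2 := Submodule.finrank_mono h1
  rwa [Submodule.finrank_map_subtype_eq] at h2

end cyc

end Cfsg.Agent.Lib.SpTI
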