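import Mathlib
import Cfsg.Agent.Lib.SpTI3

/-! Isometries of odd prime order with few invariant totally isotropic subspaces (helper99). -/

set_option autoImplicit false

namespace Cfsg.Agent.Lib.SpTI

open Polynomial Module Cfsg.Agent.Lib.InvSub Cfsg.Agent.Lib.PrimeOrd Cfsg.Agent.Lib.Sesq

universe u

section prod

variable {F : Type*} [Field F] {V₁ V₂ : Type*} [AddCommGroup V₁] [Module F V₁] [AddCommGroup V₂] [Module F V₂]

/-- orthogonal sum of two forms, the second one scaled -/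
def pB (B₁ : V₁ →ₗ[F] V₁ →ₗ[F] F) (B₂ : V₂ →ₗ[F] V₂ →ₗ[F] F) (c : F) : (V₁ × V₂) →ₗ[F] (V₁ × V₂) →ₗ[F] F :=
  B₁.compl₁₂ (LinearMap.fst F V₁ V₂) (LinearMap.fst F V₁ V₂) + c • B₂.compl₁₂ (LinearMap.snd F V₁ V₂) (LinearMap.snd F V₁ V₂)

lemma pB_apply (B₁ : V₁ →ₗ[F] V₁ →ₗ[F] F) (B₂ : V₂ →ₗ[F] V₂ →ₗ[F] F) (c : F) (x y : V₁ × V₂) :
    pB B₁ B₂ c x y = B₁ x.1 y.1 + c * B₂ x.2 y.2 := rfl

variable [Fintype F] {p r : ℕ} {B₁ : V₁ →ₗ[F] V₁ →ₗ[F] F} {B₂ : V₂ →ₗ[F] V₂ →ₗ[F] F} {T₁ : Module.End F V₁} {T₂ : Module.End F V₂}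

lemma prodMap_pow (k : ℕ) : (LinearMap.prodMap T₁ T₂) ^ k = LinearMap.prodMap (T₁ ^ k) (T₂ ^ k) := by
  induction k with
  | zero => apply LinearMap.ext; intro x; rfl
  | succ k ih => rw [pow_succ, ih, pow_succ, pow_succ]; rfl

theorem po_prod (h₁ : PO F p r B₁ T₁) (h₂ : PO F p r B₂ T₂) {c : F} (hc : c ≠ 0) :
    PO F p r (pB B₁ B₂ c) (LinearMap.prodMap T₁ T₂) := by
  refine ⟨h₁.hp, h₁.hc, h₁.hr, h₁.hrp, h₁.odd, ?_, ?_, ?_, ?_⟩
  · intro x
    rw [pB_apply, h₁.alt, h₂.alt]; ring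
  · intro x _ hx
    apply Prod.ext
    · apply h₁.nd x.1 trivial
      intro y _
      have := hx (y, 0) trivial
      rw [pB_apply] at this
      simpa using this
    · apply h₂.nd x.2 trivial
      intro y _
      have := hx (0, y) trivial
      rw [pB_apply] at this
      simp only [map_zero, zero_add] at this
      exact (mul_eq_zero.mp this).resolve_left hc
  · intro x y
    rw [pB_apply, pB_apply]
    change B₁ (T₁ x.1) (T₁ y.1) + c * B₂ (T₂ x.2) (T₂ y.2) = _
    rw [h₁.iso, h₂.iso]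
  · rw [prodMap_pow, h₁.pow, h₂.pow]
    rfl

omit [Fintype F] in
lemma mem_E_prod {x : V₁ × V₂} : x ∈ E (LinearMap.prodMap T₁ T₂) 1 ↔ x.1 ∈ E T₁ 1 ∧ x.2 ∈ E T₂ 1 := by
  rw [Module.End.mem_eigenspace_iff, Module.End.mem_eigenspace_iff, Module.End.mem_eigenspace_iff, Prod.ext_iff]
  rfl

end prod

section misc

variable {F V : Type*} [Field F] [Fintype F] [AddCommGroup V] [Module F V] [FiniteDimensional F V] {B : V →ₗ[F] V →ₗ[F] F}
  {p r : ℕ} {T : Module.End F V}

/-- invariant subspaces without fixed vectors are orthogonal to the fixed space -/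
lemma le_perp_E (h : PO F p r B T) {W : Submodule F V} (hW : Inv T W) (hE : W ⊓ E T 1 = ⊥) : W ≤ perp (σ := RingHom.id F) B (E T 1) := by
  have hN : Inv (T - 1) W := fun x hx => W.sub_mem (hW x hx) hx
  have hinj : ∀ x ∈ W, (T - 1) x = 0 → x = 0 := by
    intro x hx h0
    have h1 : x ∈ W ⊓ E T 1 := ⟨hx, by
      rw [LinearMap.sub_apply, Module.End.one_apply, sub_eq_zero] at h0
      exact Module.End.mem_eigenspace_iff.mpr (by rw [h0, one_smul])⟩
    rw [hE] at h1
    exact (Submodule.mem_bot F).mp h1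
  have hmap : W.map (T - 1) = W := by
    apply Submodule.eq_of_le_of_finrank_eq (inv_iff_map_le.mp hN)
    have h1 := LinearMap.finrank_range_add_finrank_ker ((T - 1).domRestrict W)
    rw [LinearMap.range_domRestrict] at h1
    have h2 : LinearMap.ker ((T - 1).domRestrict W) = ⊥ := by
      rw [LinearMap.ker_eq_bot']
      intro x hx
      exact Subtype.ext (hinj x x.2 hx)
    rw [h2, finrank_bot, add_zero] at h1
    exact h1
  intro w hw u hu
  rw [← hmap] at hw
  obtain ⟨x, _, rfl⟩ := hw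
  have hTu : T u = u := by
    have := Module.End.mem_eigenspace_iff.mp hu
    rwa [one_smul] at this
  have h1 := h.iso u x
  rw [hTu] at h1
  rw [LinearMap.sub_apply, Module.End.one_apply, map_sub, h1, sub_self]

lemma two_mul_ti_le (hB : Alt B) (hnd : ND (σ := RingHom.id F) B ⊤) {W U : Submodule F V} (hWnd : ND (σ := RingHom.id F) B W) (hU : U ≤ W)
    (hti : TI (σ := RingHom.id F) B U) : 2 * finrank F U ≤ finrank F W := by
  have h1 := finrank_inf_perp hB.refl hnd hWnd hU
  have h2 : U ≤ W ⊓ perp (σ := RingHom.id F) B U := le_inf hU (ti_iff.mp hti)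
  have h3 := Submodule.finrank_mono h2
  omega

/-- decomposition of the dimension of an invariant totally isotropic subspace -/
theorem ti_dim (h : PO F p r B T) {W : Submodule F V} (hW : Inv T W) (hti : TI (σ := RingHom.id F) B W) :
    ∃ W₂ ≤ W, Inv T W₂ ∧ W₂ ≤ perp (σ := RingHom.id F) B (E T 1) ∧ ∃ e' s', 2 * e' ≤ finrank F (E T 1) ∧
      finrank F W₂ = s' * orderOf ((Fintype.card F : ℕ) : ZMod r) ∧ finrank F W = e' + s' * orderOf ((Fintype.card F : ℕ) : ZMod r) := by
  have hss := h.ss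
  have hE : Inv T (W ⊓ E T 1) := inv_of_le_E inf_le_right
  obtain ⟨W₂', hW₂', hc⟩ := hss.compl _ hE
  have h1 : (W ⊓ E T 1) ⊔ (W ⊓ W₂') = W := by
    rw [inf_comm W W₂', ← sup_inf_assoc_of_le _ (inf_le_left : W ⊓ E T 1 ≤ W), hc.sup_eq_top, top_inf_eq]
  have h2 : (W ⊓ E T 1) ⊓ (W ⊓ W₂') = ⊥ := by
    rw [eq_bot_iff, ← hc.inf_eq_bot]
    exact inf_le_inf_left _ inf_le_right
  have h3 : Inv T (W ⊓ W₂') := inv_inf hW hW₂'
  have h4 : (W ⊓ W₂') ⊓ E T 1 = ⊥ := by
    rw [eq_bot_iff, ← h2]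
    exact le_inf (le_inf (inf_le_left.trans inf_le_left) inf_le_right) inf_le_left
  obtain ⟨s', hs'⟩ := hss.dvd h3 (by rw [disjoint_iff, inf_comm]; exact h4)
  have h5 := Submodule.finrank_sup_add_finrank_inf_eq (W ⊓ E T 1) (W ⊓ W₂')
  rw [h1, h2, finrank_bot] at h5
  refine ⟨W ⊓ W₂', inf_le_left, h3, le_perp_E h h3 h4, finrank F ↥(W ⊓ E T 1), s', ?_, by rw [hs', mul_comm], by rw [mul_comm] at hs'; omega⟩
  have h6 := nd_inf_E h.iso h.ne h.pow (W := ⊤) (fun _ _ => trivial) h.nd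
  rw [top_inf_eq] at h6
  exact two_mul_ti_le h.alt h.nd h6 inf_le_right (fun u hu v hv => hti u hu.1 v hv.1)

end misc

section special

variable {F : Type u} [Field F] [Fintype F] {p r : ℕ} [Fact p.Prime] [CharP F p] [Fact r.Prime]

/-- anisotropic isometries with `o` atoms -/
theorem exists_aniso_sub (hrp : r ≠ p) (ho : Odd r) (he : Even (orderOf ((Fintype.card F : ℕ) : ZMod r))) {o : ℕ}
    (hot : o * orderOf ((Fintype.card F : ℕ) : ZMod r) ≤ r - 1) :
    ∃ (V : Type u) (_ : AddCommGroup V) (_ : Module F V) (_ : FiniteDimensional F V) (B : V →ₗ[F] V →ₗ[F] F) (T : Module.End F V),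
      PO F p r B T ∧ finrank F V = o * orderOf ((Fintype.card F : ℕ) : ZMod r) ∧ E T 1 = ⊥ ∧
        ∀ X : Submodule F V, Inv T X → TI (σ := RingHom.id F) B X → X = ⊥ := by
  obtain ⟨V, i1, i2, i3, B, T, hT, hf, hE, han⟩ := exists_aniso (F := F) (p := p) hrp ho he
  have hcsz : csz F r = orderOf ((Fintype.card F : ℕ) : ZMod r) := by
    unfold csz csize; rw [if_pos he]
  obtain ⟨s, hty⟩ := hT.exists_ty (W := ⊤) (fun _ _ => trivial) hT.nd
  have hpos := hT.csz_pos
  have h1 : finrank F ↥((⊤ : Submodule F V) ⊓ E T 1) = 0 := by rw [hE, inf_bot_eq, finrank_bot]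
  rw [h1] at hty
  have h2 := hty.f
  rw [finrank_top, hf, zero_add] at h2
  have hos : o ≤ s := by
    rw [hcsz] at h2 hpos
    rw [h2] at hot
    exact Nat.le_of_mul_le_mul_right hot hpos
  obtain ⟨W, -, hW, -⟩ := hty.split hT (e' := 0) (s' := o) le_rfl hos Even.zero
  refine ⟨W, inferInstance, inferInstance, inferInstance, rB B W, T.restrict hW.inv, ?_, ?_, ?_, ?_⟩
  · refine ⟨hT.hp, hT.hc, hT.hr, hT.hrp, hT.odd, rB_alt hT.alt _, rB_nd hW.nd, fun x y => hT.iso _ _, ?_⟩
    apply LinearMap.ext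
    intro x
    apply Subtype.ext
    rw [JordanNil.restrict_pow' hW.inv, hT.pow]; rfl
  · rw [hW.f, hcsz, zero_add]
  · rw [eq_bot_iff]
    intro x hx
    rw [Module.End.mem_eigenspace_iff, one_smul] at hx
    have h3 : (x : V) ∈ E T 1 := by
      rw [Module.End.mem_eigenspace_iff, one_smul]
      exact congrArg Subtype.val hx
    rw [hE, Submodule.mem_bot] at h3
    rw [Submodule.mem_bot]
    exact Subtype.ext h3
  · intro X hX hti
    have h3 := han (X.map W.subtype) (by
      rintro _ ⟨x, hx, rfl⟩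
      exact ⟨_, hX x hx, rfl⟩) (by
      rintro _ ⟨x, hx, rfl⟩ _ ⟨y, hy, rfl⟩
      exact hti x hx y hy)
    rw [eq_bot_iff]
    intro x hx
    have h4 : (x : V) ∈ X.map W.subtype := ⟨x, hx, rfl⟩
    rw [h3, Submodule.mem_bot] at h4
    rw [Submodule.mem_bot]
    exact Subtype.ext h4

/-- special isometries -/
theorem exists_special (hrp : r ≠ p) (hodd : Odd r) (he : Even (orderOf ((Fintype.card F : ℕ) : ZMod r))) {o s k d : ℕ}
    (hot : o * orderOf ((Fintype.card F : ℕ) : ZMod r) ≤ r - 1)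
    (hd : 2 * k + (o + 2 * s) * orderOf ((Fintype.card F : ℕ) : ZMod r) = 2 * d) :
    ∃ T : Module.End F (Fin d ⊕ Fin d → F), PO F p r (AltSim.JB (F := F) d) T ∧ finrank F (E T 1) = 2 * k ∧
      ∀ W : Submodule F (Fin d ⊕ Fin d → F), Inv T W → TI (σ := RingHom.id F) (AltSim.JB (F := F) d) W →
        ∃ e' s', finrank F W = e' + s' * orderOf ((Fintype.card F : ℕ) : ZMod r) ∧ e' ≤ k ∧ s' ≤ s := by
  set i := orderOf ((Fintype.card F : ℕ) : ZMod r) with hi
  have hcsz : csz F r = i := by unfold csz csize; rw [if_pos he]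
  have hi0 : 0 < i := order_pos (F := F) (p := p) hrp
  obtain ⟨VA, a1, a2, a3, BA, TA, hTA, hAf, hEA, hani⟩ := exists_aniso_sub (F := F) (p := p) hrp hodd he hot
  rw [← hi] at hAf
  obtain ⟨i', hi'⟩ := he
  -- the hyperbolic part
  obtain ⟨TB, hTB, hBf⟩ := exists_po (F := F) (p := p) Fact.out inferInstance Fact.out hrp hodd s (jb_alt (F := F) (s * i')) (jb_nd (s * i')) (by
    rw [finrank_jb, hcsz, hi']; exact le_of_eq (by ring))
  rw [finrank_jb, hcsz] at hBf
  have hEB : E TB 1 = ⊥ := by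
    rw [← Submodule.finrank_eq_zero (R := F)]
    have : s * i = 2 * (s * i') := by rw [hi']; ring
    omega
  have hH := po_prod (c := -1) hTB hTB (neg_ne_zero.mpr one_ne_zero)
  have hAH := po_prod (c := 1) hTA hH one_ne_zero
  have hone := po_one (F := F) (p := p) (r := r) Fact.out inferInstance Fact.out hrp hodd (jb_alt (F := F) k) (jb_nd k)
  have hfull := po_prod (c := 1) hone hAH one_ne_zero
  set JBs := AltSim.JB (F := F) (s * i') with hJBs
  set T' := LinearMap.prodMap TA (LinearMap.prodMap TB TB) with hT'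
  set B' := pB BA (pB JBs JBs (-1)) 1 with hB'
  have hE' : E T' 1 = ⊥ := by
    rw [eq_bot_iff]
    intro x hx
    rw [hT', mem_E_prod, mem_E_prod, hEA, hEB] at hx
    obtain ⟨h1, h2, h3⟩ := hx
    rw [Submodule.mem_bot] at h1 h2 h3 ⊢
    exact Prod.ext h1 (Prod.ext h2 h3)
  -- bound on V'
  have hbound' : ∀ W, Inv T' W → TI (σ := RingHom.id F) B' W → finrank F W ≤ s * i := by
    intro W hW hWti
    let A : Submodule F (VA × ((Fin (s * i') ⊕ Fin (s * i') → F) × (Fin (s * i') ⊕ Fin (s * i') → F))) := Submodule.prod ⊤ ⊥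
    let ξ : (Fin (s * i') ⊕ Fin (s * i') → F) →ₗ[F] (VA × ((Fin (s * i') ⊕ Fin (s * i') → F) × (Fin (s * i') ⊕ Fin (s * i') → F))) :=
      LinearMap.prod 0 (LinearMap.prod LinearMap.id LinearMap.id)
    have hξ : ∀ x, ξ x = (0, (x, x)) := fun _ => rfl
    have hξi : Function.Injective ξ := fun x y hxy => congrArg (fun z => z.2.1) hxy
    have h1 := ti_bound (A := A) (X := LinearMap.range ξ) hAH.alt hAH.nd hAH.iso (by
        intro x hx
        have h2 : x.2 = 0 := hx.2
        refine ⟨trivial, ?_⟩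
        change (LinearMap.prodMap TB TB) x.2 = 0
        rw [h2, map_zero]) (by
        intro Y hYA hY hYti
        have hY1 := hani (Y.map (LinearMap.fst F _ _)) (by
          rintro _ ⟨y, hy, rfl⟩
          exact ⟨_, hY y hy, rfl⟩) (by
          rintro _ ⟨y, hy, rfl⟩ _ ⟨z, hz, rfl⟩
          have h2 := hYti y hy z hz
          rw [pB_apply] at h2
          have h3 : y.2 = 0 := (hYA hy).2
          rw [h3, map_zero, LinearMap.zero_apply, mul_zero, add_zero] at h2
          exact h2)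
        rw [eq_bot_iff]
        intro y hy
        have h2 : y.1 ∈ Y.map (LinearMap.fst F _ _) := ⟨y, hy, rfl⟩
        rw [hY1, Submodule.mem_bot] at h2
        rw [Submodule.mem_bot]
        exact Prod.ext h2 (hYA hy).2) (by
        rintro _ ⟨x, rfl⟩
        exact ⟨TB x, by rw [hξ, hξ]; exact Prod.ext (show (0 : VA) = TA 0 from (map_zero TA).symm) rfl⟩) (by
        rintro _ ⟨x, rfl⟩ _ ⟨y, rfl⟩
        rw [hξ, hξ, pB_apply, pB_apply]
        simp) (by
        intro y hy
        have h2 : y.2.1 = y.2.2 := by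
          rw [← sub_eq_zero]
          apply jb_nd (s * i') _ trivial
          intro x _
          have h3 := hy (ξ x) ⟨x, rfl⟩
          rw [hξ, pB_apply, pB_apply] at h3
          simp only [map_zero, LinearMap.zero_apply, zero_add, one_mul, neg_mul] at h3
          apply (jb_alt (F := F) (s * i')).refl
          rw [map_sub]
          linear_combination h3
        have h4 : y = (y.1, 0) + ξ y.2.1 := by
          rw [hξ]
          apply Prod.ext
          · simp
          · apply Prod.ext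
            · simp
            · simp [h2]
        rw [h4]
        exact Submodule.add_mem_sup ⟨trivial, rfl⟩ ⟨_, rfl⟩) hW hWti
    rw [LinearMap.finrank_range_of_inj hξi, finrank_jb] at h1
    have h2 : s * i = 2 * (s * i') := by rw [hi']; ring
    omega
  -- the full space
  have hdim : finrank F ((Fin k ⊕ Fin k → F) × (VA × ((Fin (s * i') ⊕ Fin (s * i') → F) × (Fin (s * i') ⊕ Fin (s * i') → F)))) = 2 * d := by
    rw [Module.finrank_prod, Module.finrank_prod, Module.finrank_prod, hAf, finrank_jb, finrank_jb, ← hd]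
    have h2 : s * i = 2 * (s * i') := by rw [hi']; ring
    have h3 : (o + 2 * s) * i = o * i + 2 * (s * i) := by ring
    omega
  obtain ⟨g, hg⟩ := AltForm.exists_isometry (pB (AltSim.JB (F := F) k) B' 1) hfull.alt (fun v h => hfull.nd v trivial (fun w _ => h w))
    (AltSim.JB (F := F) d) (jb_alt d) (fun v h => jb_nd d v trivial (fun w _ => h w)) (by rw [hdim, finrank_jb])
  set T₀ := LinearMap.prodMap (1 : Module.End F (Fin k ⊕ Fin k → F)) T' with hT₀
  let T : Module.End F (Fin d ⊕ Fin d → F) := (g : _ →ₗ[F] _) ∘ₗ T₀ ∘ₗ (g.symm : _ →ₗ[F] _)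
  have hTg : ∀ x, T (g x) = g (T₀ x) := fun x => by
    change g (T₀ (g.symm (g x))) = _
    rw [LinearEquiv.symm_apply_apply]
  have hTgp : ∀ (n : ℕ) x, (T ^ n) (g x) = g ((T₀ ^ n) x) := by
    intro n
    induction n with
    | zero => intro x; rfl
    | succ n ih => intro x; rw [pow_succ, pow_succ, Module.End.mul_apply, Module.End.mul_apply, hTg, ih]
  have hPO : PO F p r (AltSim.JB (F := F) d) T := by
    refine ⟨Fact.out, inferInstance, Fact.out, hrp, hodd, jb_alt d, jb_nd d, ?_, ?_⟩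
    · intro x y
      obtain ⟨x, rfl⟩ := g.surjective x
      obtain ⟨y, rfl⟩ := g.surjective y
      rw [hTg, hTg, hg, hg]
      exact hfull.iso x y
    · apply LinearMap.ext
      intro x
      obtain ⟨x, rfl⟩ := g.surjective x
      rw [hTgp, hfull.pow]; rfl
  have hinl : ∀ x, LinearMap.inl F (Fin k ⊕ Fin k → F) (VA × ((Fin (s * i') ⊕ Fin (s * i') → F) × (Fin (s * i') ⊕ Fin (s * i') → F))) x = (x, 0) :=
    fun _ => rfl
  have hET : E T 1 = LinearMap.range (g.toLinearMap ∘ₗ LinearMap.inl F _ _) := by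
    ext x
    obtain ⟨x, rfl⟩ := g.surjective x
    rw [Module.End.mem_eigenspace_iff, one_smul, hTg]
    constructor
    · intro h1
      have h2 : T₀ x = x := g.injective h1
      have h3 : x ∈ E T₀ 1 := Module.End.mem_eigenspace_iff.mpr (by rw [h2, one_smul])
      rw [hT₀, mem_E_prod, hE'] at h3
      exact ⟨x.1, congrArg g (Prod.ext rfl ((Submodule.mem_bot F).mp h3.2).symm)⟩
    · rintro ⟨y, hy⟩
      have h1 : (y, 0) = x := g.injective hy
      subst h1
      congr 1
      exact Prod.ext rfl (map_zero T')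
  have hEf : finrank F (E T 1) = 2 * k := by
    rw [hET, LinearMap.finrank_range_of_inj, finrank_jb]
    intro x y hxy
    exact congrArg Prod.fst (g.injective hxy)
  refine ⟨T, hPO, hEf, ?_⟩
  intro W hW hWti
  obtain ⟨W₂, hW₂W, hW₂, hW₂p, e', s', he', hs', hWf⟩ := ti_dim hPO hW hWti
  refine ⟨e', s', hWf, by omega, ?_⟩
  -- push to V'
  let π : (Fin d ⊕ Fin d → F) →ₗ[F] (VA × ((Fin (s * i') ⊕ Fin (s * i') → F) × (Fin (s * i') ⊕ Fin (s * i') → F))) :=
    (LinearMap.snd F (Fin k ⊕ Fin k → F) _) ∘ₗ g.symm.toLinearMap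
  have hz : ∀ w ∈ W₂, (g.symm w).1 = 0 := by
    intro w hw
    apply jb_nd k _ trivial
    intro x _
    have h1 := hW₂p hw (g (x, 0)) (by rw [hET]; exact ⟨x, rfl⟩)
    have h2 : w = g (g.symm w) := (g.apply_symm_apply w).symm
    rw [h2, hg, pB_apply] at h1
    simp only [map_zero, LinearMap.zero_apply, mul_zero, add_zero] at h1
    exact (jb_alt (F := F) k).refl _ _ h1
  have hinj : Set.InjOn π W₂ := by
    intro x hx y hy hxy
    apply g.symm.injective
    exact Prod.ext (by rw [hz x hx, hz y hy]) hxy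
  have h1 := hbound' (W₂.map π) (by
    rintro _ ⟨x, hx, rfl⟩
    refine ⟨T x, hW₂ x hx, ?_⟩
    change (g.symm (g (T₀ (g.symm x)))).2 = T' (g.symm x).2
    rw [LinearEquiv.symm_apply_apply]; rfl) (by
    rintro _ ⟨x, hx, rfl⟩ _ ⟨y, hy, rfl⟩
    have h2 := hWti x (hW₂W hx) y (hW₂W hy)
    have h3 : x = g (g.symm x) := (g.apply_symm_apply x).symm
    have h4 : y = g (g.symm y) := (g.apply_symm_apply y).symm
    rw [h3, h4, hg, pB_apply, hz x hx, map_zero, LinearMap.zero_apply, zero_add, one_mul] at h2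
    exact h2)
  have h2 : finrank F ↥(W₂.map π) = finrank F W₂ := by
    rw [← LinearMap.range_domRestrict, LinearMap.finrank_range_of_inj]
    intro x y hxy
    exact Subtype.ext (hinj x.2 y.2 hxy)
  rw [h2, hs'] at h1
  exact Nat.le_of_mul_le_mul_right h1 hi0

end special

end Cfsg.Agent.Lib.SpTI
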