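import Mathlib
import Cfsg.Agent.Lib.SympSpec
import Cfsg.Agent.Lib.SpTI4
import Cfsg.Agent.Lib.FieldStruct67

/-!
(helper67) Tools for the prime graph of symplectic groups: elements of `PSp` from isometries of orthogonal sums.
-/

set_option autoImplicit false
set_option linter.unusedSectionVars false

namespace Cfsg.Agent.Lib.SpPG67

open Module Cfsg.Agent.Lib.InvSub Cfsg.Agent.Lib.PrimeOrd Cfsg.Agent.Lib.Sesq Cfsg.Agent.Lib.HermAlg

universe u v w

section psp
variable {F : Type u} [Field F] {n : ℕ}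
variable {V : Type v} [AddCommGroup V] [Module F V] [FiniteDimensional F V] {B : V →ₗ[F] V →ₗ[F] F} {T : Module.End F V}

theorem psp_of_iso (hV : finrank F V = 2 * n) (hB : Alt B) (hnd : ND (σ := RingHom.id F) B ⊤)
    (hT : Iso (σ := RingHom.id F) B T) :
    ∃ g : Cfsg.PSp n F, ∀ k : ℕ, g ^ k = 1 ↔ ∃ c : F, T ^ k = c • (1 : Module.End F V) :=
  SympSpec.exists_psp hV (B := fun x y => B x y)
    ⟨fun x y z => by rw [map_add, LinearMap.add_apply], fun c x y => by rw [map_smul, LinearMap.smul_apply, smul_eq_mul],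
      fun x y => by rw [RingHom.id_apply, hB.skew, neg_one_mul], fun x hx => hnd x trivial (fun y _ => hx y)⟩ (fun x => hB x) T
    (fun x y => hT x y)

theorem iso_pow (hT : Iso (σ := RingHom.id F) B T) (k : ℕ) : Iso (σ := RingHom.id F) B (T ^ k) := by
  induction k with
  | zero => exact Iso.one
  | succ k ih => rw [pow_succ]; exact ih.mul hT

theorem scalar_sq [Nontrivial V] (hnd : ND (σ := RingHom.id F) B ⊤) (hT : Iso (σ := RingHom.id F) B T) {k : ℕ} {c : F}
    (h : T ^ k = c • (1 : Module.End F V)) : c * c = 1 := by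
  obtain ⟨x, hx⟩ := exists_ne (0 : V)
  obtain ⟨y, hy⟩ : ∃ y, B x y ≠ 0 := by
    by_contra hcon
    push Not at hcon
    exact hx (hnd x trivial (fun y _ => hcon y))
  have h1 := iso_pow hT k x y
  rw [h] at h1
  simp only [LinearMap.smul_apply, Module.End.one_apply, map_smul, smul_eq_mul] at h1
  have h2 : (c * c - 1) * B x y = 0 := by linear_combination h1
  exact sub_eq_zero.1 ((mul_eq_zero.1 h2).resolve_right hy)

theorem mem_range_of {g : Cfsg.PSp n F} {N : ℕ} (h : ∀ k : ℕ, g ^ k = 1 ↔ N ∣ k) : N ∈ Set.range (orderOf : Cfsg.PSp n F → ℕ) := by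
  refine ⟨g, Nat.dvd_antisymm (orderOf_dvd_of_pow_eq_one ((h N).2 dvd_rfl)) ((h _).1 (pow_orderOf_eq_one g))⟩

theorem smul_one_inj [Nontrivial V] {c : F} (h : c • (1 : Module.End F V) = 1) : c = 1 := by
  obtain ⟨x, hx⟩ := exists_ne (0 : V)
  have h1 := LinearMap.congr_fun h x
  rw [LinearMap.smul_apply, Module.End.one_apply] at h1
  have h2 : (c - 1) • x = 0 := by rw [sub_smul, one_smul, h1, sub_self]
  exact sub_eq_zero.1 ((smul_eq_zero.1 h2).resolve_right hx)

/-- elements of odd order -/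
theorem mem_range_odd (hV : finrank F V = 2 * n) (hn : 1 ≤ n) (hB : Alt B) (hnd : ND (σ := RingHom.id F) B ⊤)
    (hT : Iso (σ := RingHom.id F) B T) {N : ℕ} (hN : Odd N) (hTN : T ^ N = 1) (hk : ∀ k : ℕ, T ^ k = 1 → N ∣ k) :
    N ∈ Set.range (orderOf : Cfsg.PSp n F → ℕ) := by
  have hnt : Nontrivial V := Module.nontrivial_of_finrank_pos (R := F) (by omega)
  obtain ⟨g, hg⟩ := psp_of_iso (n := n) hV hB hnd hT
  apply mem_range_of (g := g)
  intro k
  rw [hg]
  constructor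
  · rintro ⟨c, hc⟩
    have h1 := scalar_sq hnd hT hc
    have h2 : c ^ N = 1 := by
      apply smul_one_inj (V := V)
      have h3 : (T ^ k) ^ N = 1 := by rw [← pow_mul, mul_comm, pow_mul, hTN, one_pow]
      rw [hc, _root_.smul_pow, one_pow] at h3
      exact h3
    obtain ⟨j, hj⟩ := hN
    rw [hj, pow_succ, pow_mul, pow_two, h1, one_pow, one_mul] at h2
    rw [h2, one_smul] at hc
    exact hk k hc
  · rintro ⟨j, rfl⟩
    exact ⟨1, by rw [pow_mul, hTN, one_pow, one_smul]⟩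

end psp

section prod
variable {F : Type u} [Field F] {n : ℕ}
variable {V₁ : Type v} [AddCommGroup V₁] [Module F V₁] [FiniteDimensional F V₁] {B₁ : V₁ →ₗ[F] V₁ →ₗ[F] F} {T₁ : Module.End F V₁}
variable {V₂ : Type w} [AddCommGroup V₂] [Module F V₂] [FiniteDimensional F V₂] {B₂ : V₂ →ₗ[F] V₂ →ₗ[F] F} {T₂ : Module.End F V₂}

/-- orthogonal sums -/
def sB (B₁ : V₁ →ₗ[F] V₁ →ₗ[F] F) (B₂ : V₂ →ₗ[F] V₂ →ₗ[F] F) : (V₁ × V₂) →ₗ[F] (V₁ × V₂) →ₗ[F] F :=
  B₁.compl₁₂ (LinearMap.fst F V₁ V₂) (LinearMap.fst F V₁ V₂) + B₂.compl₁₂ (LinearMap.snd F V₁ V₂) (LinearMap.snd F V₁ V₂)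

theorem sB_apply (x y : V₁ × V₂) : sB B₁ B₂ x y = B₁ x.1 y.1 + B₂ x.2 y.2 := rfl

theorem sB_alt (h₁ : Alt B₁) (h₂ : Alt B₂) : Alt (sB B₁ B₂) := fun x => by
  rw [sB_apply, h₁, h₂, add_zero]

theorem sB_nd (h₁ : ND (σ := RingHom.id F) B₁ ⊤) (h₂ : ND (σ := RingHom.id F) B₂ ⊤) : ND (σ := RingHom.id F) (sB B₁ B₂) ⊤ := by
  intro x _ hx
  refine Prod.ext ?_ ?_
  · apply h₁ x.1 trivial
    intro y _
    have := hx (y, 0) trivial
    rw [sB_apply] at this
    simpa using this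
  · apply h₂ x.2 trivial
    intro y _
    have := hx (0, y) trivial
    rw [sB_apply] at this
    simpa using this

theorem sB_iso (h₁ : Iso (σ := RingHom.id F) B₁ T₁) (h₂ : Iso (σ := RingHom.id F) B₂ T₂) :
    Iso (σ := RingHom.id F) (sB B₁ B₂) (LinearMap.prodMap T₁ T₂) := fun x y => by
  rw [sB_apply, sB_apply]
  show B₁ (T₁ x.1) (T₁ y.1) + B₂ (T₂ x.2) (T₂ y.2) = _
  rw [h₁, h₂]

theorem prodMap_pow (k : ℕ) : (LinearMap.prodMap T₁ T₂) ^ k = LinearMap.prodMap (T₁ ^ k) (T₂ ^ k) := by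
  induction k with
  | zero => apply LinearMap.ext; intro x; rfl
  | succ k ih => rw [pow_succ, ih, pow_succ, pow_succ]; rfl

theorem prodMap_eq {S₁ : Module.End F V₁} {S₂ : Module.End F V₂} {c : F}
    (h : LinearMap.prodMap S₁ S₂ = c • (1 : Module.End F (V₁ × V₂))) : S₁ = c • (1 : Module.End F V₁) ∧ S₂ = c • (1 : Module.End F V₂) := by
  constructor
  · apply LinearMap.ext
    intro x
    exact congrArg Prod.fst (LinearMap.congr_fun h (x, 0))
  · apply LinearMap.ext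
    intro x
    exact congrArg Prod.snd (LinearMap.congr_fun h (0, x))

/-- elements of composite order -/
theorem mem_range_prod [Nontrivial V₁] [Nontrivial V₂] (hV : finrank F V₁ + finrank F V₂ = 2 * n) (hB₁ : Alt B₁) (hB₂ : Alt B₂)
    (hnd₁ : ND (σ := RingHom.id F) B₁ ⊤) (hnd₂ : ND (σ := RingHom.id F) B₂ ⊤)
    (hT₁ : Iso (σ := RingHom.id F) B₁ T₁) (hT₂ : Iso (σ := RingHom.id F) B₂ T₂) {N₁ N₂ : ℕ} (hc : Nat.Coprime N₁ N₂)
    (hN₁ : T₁ ^ N₁ = 1) (hN₂ : T₂ ^ N₂ = 1) (hk₁ : ∀ k : ℕ, T₁ ^ k = 1 → N₁ ∣ k) (hk₂ : ∀ k : ℕ, T₂ ^ k = 1 → N₂ ∣ k) :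
    N₁ * N₂ ∈ Set.range (orderOf : Cfsg.PSp n F → ℕ) := by
  obtain ⟨g, hg⟩ := psp_of_iso (n := n) (by rw [finrank_prod]; exact hV) (sB_alt hB₁ hB₂) (sB_nd hnd₁ hnd₂) (sB_iso hT₁ hT₂)
  apply mem_range_of (g := g)
  intro k
  rw [hg]
  constructor
  · rintro ⟨c, h⟩
    rw [prodMap_pow] at h
    obtain ⟨h1, h2⟩ := prodMap_eq h
    have e1 : c ^ N₁ = 1 := by
      apply smul_one_inj (V := V₁)
      have h3 : (T₁ ^ k) ^ N₁ = 1 := by rw [← pow_mul, mul_comm, pow_mul, hN₁, one_pow]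
      rw [h1, _root_.smul_pow, one_pow] at h3
      exact h3
    have e2 : c ^ N₂ = 1 := by
      apply smul_one_inj (V := V₂)
      have h3 : (T₂ ^ k) ^ N₂ = 1 := by rw [← pow_mul, mul_comm, pow_mul, hN₂, one_pow]
      rw [h2, _root_.smul_pow, one_pow] at h3
      exact h3
    have e3 : c = 1 := by
      have h3 := Nat.dvd_gcd (orderOf_dvd_of_pow_eq_one e1) (orderOf_dvd_of_pow_eq_one e2)
      rw [hc.gcd_eq_one, Nat.dvd_one, orderOf_eq_one_iff] at h3
      exact h3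
    rw [e3, one_smul] at h1 h2
    exact Nat.Coprime.mul_dvd_of_dvd_of_dvd hc (hk₁ k h1) (hk₂ k h2)
  · rintro ⟨j, rfl⟩
    refine ⟨1, ?_⟩
    rw [prodMap_pow, mul_assoc, pow_mul, hN₁, one_pow, mul_left_comm, pow_mul, hN₂, one_pow, one_smul]
    rfl

/-- elements of odd order in larger groups -/
theorem mem_range_ext (hn : 1 ≤ n) {e : ℕ} (hen : e ≤ n) (hV : finrank F V₁ = 2 * e) (hB₁ : Alt B₁) (hnd₁ : ND (σ := RingHom.id F) B₁ ⊤)
    (hT₁ : Iso (σ := RingHom.id F) B₁ T₁) {N : ℕ} (hN : Odd N) (hTN : T₁ ^ N = 1) (hk : ∀ k : ℕ, T₁ ^ k = 1 → N ∣ k) :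
    N ∈ Set.range (orderOf : Cfsg.PSp n F → ℕ) := by
  have hB₂ : Alt (SympMat.B (n - e) F) := fun v => SympMat.sympForm_self v
  have hnd₂ : ND (σ := RingHom.id F) (SympMat.B (n - e) F) ⊤ := fun v _ h => SympMat.eq_zero_of_sympForm (fun y => h y trivial)
  have hd : finrank F (Fin (n - e) ⊕ Fin (n - e) → F) = 2 * (n - e) := by
    rw [Module.finrank_fintype_fun_eq_card, Fintype.card_sum, Fintype.card_fin]; ring
  refine mem_range_odd (V := V₁ × (Fin (n - e) ⊕ Fin (n - e) → F)) (T := LinearMap.prodMap T₁ 1) (by rw [finrank_prod, hV, hd]; omega) hn (sB_alt hB₁ hB₂)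
    (sB_nd hnd₁ hnd₂) (sB_iso hT₁ Iso.one) hN ?_ ?_
  · rw [prodMap_pow, hTN, one_pow]; rfl
  · intro k h
    rw [prodMap_pow] at h
    have h' : LinearMap.prodMap (T₁ ^ k) ((1 : Module.End F (Fin (n - e) ⊕ Fin (n - e) → F)) ^ k) =
        (1 : F) • (1 : Module.End F (V₁ × (Fin (n - e) ⊕ Fin (n - e) → F))) := by rw [h, one_smul]
    have h1 := (prodMap_eq h').1
    rw [one_smul] at h1
    exact hk k h1

end prod

section transv
variable {F : Type u} [Field F] {V : Type v} [AddCommGroup V] [Module F V] {B : V →ₗ[F] V →ₗ[F] F}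

/-- transvections -/
def tv (B : V →ₗ[F] V →ₗ[F] F) (v : V) : Module.End F V := 1 + (B.flip v).smulRight v

theorem tv_apply (v x : V) : tv B v x = x + B x v • v := rfl

theorem tv_iso (hB : Alt B) (v : V) : Iso (σ := RingHom.id F) B (tv B v) := by
  intro x y
  rw [tv_apply, tv_apply]
  simp only [map_add, LinearMap.add_apply, map_smul, LinearMap.smul_apply, smul_eq_mul, hB v]
  rw [hB.skew v y]; ring

theorem tv_pow (hB : Alt B) (v x : V) (k : ℕ) : ((tv B v) ^ k) x = x + ((k : F) * B x v) • v := by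
  induction k with
  | zero => simp
  | succ k ih =>
    rw [pow_succ', Module.End.mul_apply, ih, tv_apply]
    simp only [map_add, LinearMap.add_apply, map_smul, LinearMap.smul_apply, hB v, smul_zero, add_zero]
    push_cast
    rw [add_assoc, ← add_smul]
    congr 2
    ring

theorem tv_order {p : ℕ} [CharP F p] (hB : Alt B) (hnd : ND (σ := RingHom.id F) B ⊤) {v : V} (hv : v ≠ 0) :
    (tv B v) ^ p = 1 ∧ ∀ k : ℕ, (tv B v) ^ k = 1 → p ∣ k := by
  constructor
  · apply LinearMap.ext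
    intro x
    rw [tv_pow hB, CharP.cast_eq_zero, zero_mul, zero_smul, add_zero]; rfl
  · intro k hk
    obtain ⟨y, hy⟩ : ∃ y, B v y ≠ 0 := by
      by_contra hcon
      push Not at hcon
      exact hv (hnd v trivial (fun y _ => hcon y))
    have hy' : B y v ≠ 0 := by rw [hB.skew]; exact neg_ne_zero.2 hy
    have h1 := LinearMap.congr_fun hk y
    rw [tv_pow hB, Module.End.one_apply] at h1
    have h2 : ((k : F) * B y v) • v = 0 := by
      have := congrArg (fun z => z - y) h1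
      simpa using this
    have h3 := (mul_eq_zero.1 ((smul_eq_zero.1 h2).resolve_right hv)).resolve_right hy'
    exact (CharP.cast_eq_zero_iff F p k).1 h3

end transv

section po
variable {F : Type u} [Field F] [Fintype F] {V : Type v} [AddCommGroup V] [Module F V] [FiniteDimensional F V]
variable {B : V →ₗ[F] V →ₗ[F] F} {T : Module.End F V} {p r : ℕ}

theorem po_order (h : PO F p r B T) (hT : T ≠ 1) {k : ℕ} (hk : T ^ k = 1) : r ∣ k := by
  by_contra hcon
  have h1 : Nat.Coprime r k := (Nat.Prime.coprime_iff_not_dvd h.hr).2 hcon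
  apply hT
  have h2 := Nat.dvd_gcd (orderOf_dvd_of_pow_eq_one h.pow) (orderOf_dvd_of_pow_eq_one hk)
  rw [h1.gcd_eq_one, Nat.dvd_one, orderOf_eq_one_iff] at h2
  exact h2

theorem perp_pos (h : PO F p r B T) (hT : T ≠ 1) : perp (σ := RingHom.id F) B (E T 1) ≠ ⊥ := by
  intro h0
  have h1 := finrank_add_perp (σ := RingHom.id F) h.nd (E T 1)
  rw [h0, finrank_bot, add_zero] at h1
  have h2 : E T 1 = ⊤ := Submodule.eq_top_of_finrank_eq h1
  apply hT
  apply LinearMap.ext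
  intro x
  have h3 : x ∈ E T (1 : F) := by rw [h2]; trivial
  rw [Module.End.mem_eigenspace_iff, one_smul] at h3
  exact h3

/-- the moved space of an isometry of prime order -/
theorem po_moved (h : PO F p r B T) : Inv T (perp (σ := RingHom.id F) B (E T 1)) ∧ ND (σ := RingHom.id F) B (E T 1) ∧
    ND (σ := RingHom.id F) B (perp (σ := RingHom.id F) B (E T 1)) ∧ (perp (σ := RingHom.id F) B (E T 1)) ⊓ E T 1 = ⊥ ∧
    finrank F (E T 1) + finrank F (perp (σ := RingHom.id F) B (E T 1)) = finrank F V ∧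
    csz F r ∣ finrank F (perp (σ := RingHom.id F) B (E T 1)) := by
  obtain ⟨h0, h1, h2, h3, h4, h5⟩ := h.split_E (W := ⊤) (fun _ _ => trivial) h.nd
  have e1 : (⊤ : Submodule F V) ⊓ E T (1 : F) = E T (1 : F) := top_inf_eq _
  have e2 : (⊤ : Submodule F V) ⊓ perp (σ := RingHom.id F) B (E T (1 : F)) = perp (σ := RingHom.id F) B (E T (1 : F)) := top_inf_eq _
  rw [e1] at h1 h2 h3 h4 h5
  rw [e2] at h2 h3 h4 h5
  rw [finrank_top] at h5
  exact ⟨h2, h1, h3, h4, h5, h.csz_dvd _ rfl h2 h3 h4⟩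

theorem csz_le (h : PO F p r B T) (hT : T ≠ 1) : csz F r ≤ finrank F V := by
  obtain ⟨h1, h2, h3, h4, h5, h6⟩ := po_moved h
  have h7 : 0 < finrank F (perp (σ := RingHom.id F) B (E T 1)) := by
    rw [Nat.pos_iff_ne_zero]
    intro h0
    exact perp_pos h hT (Submodule.finrank_eq_zero.1 h0)
  have := Nat.le_of_dvd h7 h6
  omega

/-- isometries of prime order without fixed vectors -/
theorem exists_po_full (hp : p.Prime) (hc : CharP F p) (hr : r.Prime) (hrp : r ≠ p) (odd : Odd r) {e : ℕ} (he : 2 * e = csz F r) (s : ℕ) (hs : 1 ≤ s) :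
    ∃ (T : Module.End F (Fin (s * e) ⊕ Fin (s * e) → F)), PO F p r (SympMat.B (s * e) F) T ∧ E T 1 = ⊥ ∧ T ≠ 1 ∧
      finrank F (Fin (s * e) ⊕ Fin (s * e) → F) = 2 * (s * e) := by
  have hB₂ : Alt (SympMat.B (s * e) F) := fun v => SympMat.sympForm_self v
  have hnd₂ : ND (σ := RingHom.id F) (SympMat.B (s * e) F) ⊤ := fun v _ h => SympMat.eq_zero_of_sympForm (fun y => h y trivial)
  have hd : finrank F (Fin (s * e) ⊕ Fin (s * e) → F) = 2 * (s * e) := by
    rw [Module.finrank_fintype_fun_eq_card, Fintype.card_sum, Fintype.card_fin]; ring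
  obtain ⟨T, hT, hTf⟩ := exists_po hp hc hr hrp odd s hB₂ hnd₂ (by rw [hd, ← he]; exact le_of_eq (by ring))
  have hE : finrank F (E T (1 : F)) = 0 := by
    rw [hd, ← he] at hTf
    have : s * (2 * e) = 2 * (s * e) := by ring
    omega
  have hpos := hT.csz_pos
  refine ⟨T, hT, Submodule.finrank_eq_zero.1 hE, ?_, hd⟩
  rintro rfl
  have h1 : E (1 : Module.End F (Fin (s * e) ⊕ Fin (s * e) → F)) (1 : F) = ⊤ := by
    rw [eq_top_iff]
    intro x _
    rw [Module.End.mem_eigenspace_iff, one_smul]; rfl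
  rw [h1, finrank_top, hd] at hE
  have : 0 < s * e := Nat.mul_pos hs (by omega)
  omega

end po

end Cfsg.Agent.Lib.SpPG67
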