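import Mathlib
import Cfsg.Agent.Lib.SpPG67

/-!
(helper67) Tools for the prime graph of symplectic groups: commuting isometries of prime orders.
-/

set_option autoImplicit false
set_option linter.unusedSectionVars false

namespace Cfsg.Agent.Lib.SpPG67

open Module Cfsg.Agent.Lib.InvSub Cfsg.Agent.Lib.PrimeOrd Cfsg.Agent.Lib.Sesq Cfsg.Agent.Lib.HermAlg

universe u v w

section arith

theorem dvd_iff {q r : ℕ} (hq : 1 ≤ q) (k : ℕ) : r ∣ q ^ k - 1 ↔ orderOf ((q : ℕ) : ZMod r) ∣ k := by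
  have h1 : 1 ≤ q ^ k := Nat.one_le_pow _ _ hq
  rw [orderOf_dvd_iff_pow_eq_one, ← ZMod.natCast_eq_zero_iff, Nat.cast_sub h1, Nat.cast_pow, Nat.cast_one, sub_eq_zero]

theorem dvd_plus {q r : ℕ} (hq : 1 ≤ q) (hr : r.Prime) {h : ℕ} (hh : 1 ≤ h) (ho : orderOf ((q : ℕ) : ZMod r) = 2 * h) : r ∣ q ^ h + 1 := by
  have h1 : r ∣ q ^ (2 * h) - 1 := (dvd_iff hq _).2 (by rw [ho])
  have h2 : q ^ (2 * h) - 1 = (q ^ h - 1) * (q ^ h + 1) := by
    have h3 : 1 ≤ q ^ h := Nat.one_le_pow _ _ hq
    obtain ⟨a, ha⟩ := Nat.exists_eq_add_of_le h3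
    rw [two_mul, pow_add, ha, Nat.add_sub_cancel_left]
    have : (1 + a) * (1 + a) = a * (1 + a + 1) + 1 := by ring
    rw [this, Nat.add_sub_cancel]
  rw [h2] at h1
  rcases (Nat.Prime.dvd_mul hr).1 h1 with h3 | h3
  · have h4 := (dvd_iff hq _).1 h3
    rw [ho] at h4
    have := Nat.le_of_dvd (by omega) h4
    omega
  · exact h3

theorem not_dvd_both {q r h : ℕ} (hq : 1 ≤ q) (hr : 2 < r) (h1 : r ∣ q ^ h + 1) (h2 : r ∣ q ^ h - 1) : False := by
  have h3 : 1 ≤ q ^ h := Nat.one_le_pow _ _ hq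
  have h4 := Nat.dvd_sub h1 h2
  have h5 : q ^ h + 1 - (q ^ h - 1) = 2 := by omega
  rw [h5] at h4
  have := Nat.le_of_dvd (by norm_num) h4
  omega

end arith

section form
variable {F : Type u} {W : Type v} [Field F] [Finite F] [AddCommGroup W] [Module F W] [FiniteDimensional F W]

/-- no invariant nondegenerate bilinear form on irreducible spaces of odd dimension -/
theorem no_odd_form {r : ℕ} (hr : Odd r) {T : Module.End F W} (hT : T ^ r = 1) (hfix : ∀ x, T x = x → x = 0)
    (hirr : ∀ U : Submodule F W, (∀ x ∈ U, T x ∈ U) → U = ⊥ ∨ U = ⊤) (hodd : ¬ Even (finrank F W)) (β : W →ₗ[F] W →ₗ[F] F)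
    (hβ : ∀ x y, β (T x) (T y) = β x y) (hnd : ∀ x, (∀ y, β x y = 0) → x = 0) : False := by
  obtain ⟨j, hj⟩ := hr
  have hTr : ∀ x, T ((T ^ (r - 1)) x) = x := by
    intro x
    rw [← Module.End.mul_apply, ← pow_succ', show r - 1 + 1 = r by omega, hT]; rfl
  have hTr' : ∀ x, (T ^ (r - 1)) (T x) = x := by
    intro x
    rw [← Module.End.mul_apply, ← pow_succ, show r - 1 + 1 = r by omega, hT]; rfl
  obtain ⟨γ, hγ⟩ : ∃ γ : W →ₗ[F] W →ₗ[F] F, ∀ x y, γ x y = β x y - β y x := ⟨β - β.flip, fun x y => rfl⟩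
  have hγalt : ∀ x, γ x x = 0 := fun x => by rw [hγ, sub_self]
  have hγinv : ∀ x y, γ (T x) (T y) = γ x y := fun x y => by rw [hγ, hγ, hβ, hβ]
  rcases hirr (LinearMap.ker γ) (by
    intro x hx
    rw [LinearMap.mem_ker] at hx ⊢
    apply LinearMap.ext
    intro y
    rw [← hTr y, hγinv, hx]; rfl) with h1 | h1
  · apply hodd
    apply AltForm.even_finrank γ hγalt
    intro x hx
    have : x ∈ LinearMap.ker γ := by
      rw [LinearMap.mem_ker]
      apply LinearMap.ext
      intro y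
      exact hx y
    rw [h1] at this
    exact (Submodule.mem_bot F).1 this
  · have hsym : ∀ x y, β x y = β y x := by
      intro x y
      have h2 : x ∈ LinearMap.ker γ := by rw [h1]; trivial
      rw [LinearMap.mem_ker] at h2
      have h3 := LinearMap.congr_fun h2 y
      rw [hγ] at h3
      exact sub_eq_zero.1 h3
    apply hodd
    apply AltForm.even_finrank (β ∘ₗ (T - T ^ (r - 1)))
    · intro x
      show β (T x - (T ^ (r - 1)) x) x = 0
      rw [map_sub, LinearMap.sub_apply, ← hβ ((T ^ (r - 1)) x) x, hTr, hsym x (T x), sub_self]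
    · intro x hx
      have h2 : T x - (T ^ (r - 1)) x = 0 := hnd _ hx
      have h3 : T (T x) = x := by
        have : T x = (T ^ (r - 1)) x := sub_eq_zero.1 h2
        rw [this, hTr]
      apply hfix
      have h4 : ∀ k : ℕ, (T ^ (2 * k)) x = x := by
        intro k
        induction k with
        | zero => rfl
        | succ k ih => rw [show 2 * (k + 1) = 2 * k + 1 + 1 by ring, pow_succ, pow_succ, Module.End.mul_apply, Module.End.mul_apply, h3, ih]
      have h5 : (T ^ r) x = x := by rw [hT]; rfl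
      rw [hj, pow_succ', Module.End.mul_apply, h4] at h5
      exact h5

/-- adjoints in the field generated by an isometry -/
theorem adj_of {K : Type w} [Field K] [Finite K] [Algebra F K] [Module K W] [IsScalarTower F K W] {T : Module.End F W} {t : K}
    (ht : ∀ x : W, t • x = T x) (hadj : Algebra.adjoin F {t} = ⊤) {β : W →ₗ[F] W →ₗ[F] F} (hβ : ∀ x y, β (T x) (T y) = β x y)
    {h : ℕ} (h1 : t ^ (Nat.card F ^ h + 1) = 1) (κ : K) : ∀ x y, β (κ • x) y = β x (κ ^ (Nat.card F ^ h) • y) := by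
  have hf := Fintype.ofFinite F
  have hfd : FiniteDimensional F K := inferInstance
  let σ : K ≃ₐ[F] K := (FiniteField.frobeniusAlgEquivOfAlgebraic F K) ^ h
  have hσ : ∀ x, σ x = x ^ (Nat.card F ^ h) := by
    intro x
    have h1 : ⇑σ = (⇑(FiniteField.frobeniusAlgEquivOfAlgebraic F K))^[h] := AlgEquiv.coe_pow _ _
    rw [h1, FiniteField.coe_frobeniusAlgEquivOfAlgebraic_iterate, Nat.card_eq_fintype_card]
  simp only [← hσ]
  have hk : κ ∈ Algebra.adjoin F {t} := by rw [hadj]; trivial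
  induction hk using Algebra.adjoin_induction with
  | mem x hx =>
    rw [Set.mem_singleton_iff] at hx
    subst hx
    intro u v
    have h2 : v = x • (σ x • v) := by
      rw [smul_smul, hσ, ← pow_succ', h1, one_smul]
    nth_rewrite 1 [h2]
    rw [ht u, ht (σ x • v), hβ]
  | algebraMap c =>
    intro u v
    rw [algebraMap_smul, AlgEquiv.commutes, algebraMap_smul, map_smul, LinearMap.smul_apply, map_smul]
  | add a b _ _ ha hb =>
    intro u v
    rw [add_smul, map_add, LinearMap.add_apply, ha, hb, map_add σ, add_smul, map_add]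
  | mul a b _ _ ha hb =>
    intro u v
    rw [mul_smul, ha, hb, map_mul σ, mul_comm, mul_smul]

end form

section po
variable {F : Type u} [Field F] [Fintype F] {V : Type v} [AddCommGroup V] [Module F V] [FiniteDimensional F V]
variable {B : V →ₗ[F] V →ₗ[F] F} {T : Module.End F V} {p r : ℕ}

theorem ord_dvd_finrank (h : PO F p r B T) {U : Submodule F V} (hU : Inv T U) (hE : U ⊓ E T 1 = ⊥) :
    orderOf ((Fintype.card F : ℕ) : ZMod r) ∣ finrank F U :=
  h.ss.dvd hU (by rw [disjoint_iff, inf_comm]; exact hE)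

theorem restrict_pow_apply {S : Module.End F V} {W : Submodule F V} (hW : Inv S W) (k : ℕ) (x : W) :
    (((S.restrict hW) ^ k) x : V) = (S ^ k) x := by
  induction k generalizing x with
  | zero => rfl
  | succ k ih => rw [pow_succ, pow_succ, Module.End.mul_apply, ih]; rfl

/-- irreducible invariant subspaces of odd dimension are invariant under commuting isometries -/
theorem stable (h : PO F p r B T) (hk : ¬ Even (orderOf ((Fintype.card F : ℕ) : ZMod r))) {M : Submodule F V}
    (hMnd : ND (σ := RingHom.id F) B M) (hME : M ⊓ E T 1 = ⊥) (hMf : finrank F M = 2 * orderOf ((Fintype.card F : ℕ) : ZMod r))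
    {S : Module.End F V} (hS : Iso (σ := RingHom.id F) B S) (hST : S * T = T * S) (hSM : Inv S M)
    {W : Submodule F V} (hWM : W ≤ M) (hW : Inv T W) (hWf : finrank F W = orderOf ((Fintype.card F : ℕ) : ZMod r)) : Inv S W := by
  obtain ⟨i, hi⟩ : ∃ i, orderOf ((Fintype.card F : ℕ) : ZMod r) = i := ⟨_, rfl⟩
  have hdvd : ∀ U ≤ M, Inv T U → i ∣ finrank F U := fun U hUM hU => by
    rw [← hi]
    exact ord_dvd_finrank h hU (by rw [eq_bot_iff, ← hME]; exact inf_le_inf_right _ hUM)
  have hi0 : 0 < i := by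
    have := h.ss.pos
    rwa [hi] at this
  rw [hi] at hMf hWf hk
  have hcsz : csz F r = 2 * i := by unfold csz csize; rw [hi, if_neg hk]
  -- `W` is totally isotropic
  have hTI : W ≤ perp (σ := RingHom.id F) B W := by
    have h1 : Inv T (W ⊓ perp (σ := RingHom.id F) B W) := inf_perp_inv h.nd h.iso hW hW
    have h2 := hdvd _ (inf_le_left.trans hWM) h1
    have h3 : finrank F ↥(W ⊓ perp (σ := RingHom.id F) B W) ≤ finrank F W := Submodule.finrank_mono inf_le_left
    rcases Nat.eq_zero_or_pos (finrank F ↥(W ⊓ perp (σ := RingHom.id F) B W)) with h4 | h4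
    · exfalso
      have h5 : ND (σ := RingHom.id F) B W := (nd_iff h.alt.refl).2 (Submodule.finrank_eq_zero.1 h4)
      have h6 := h.csz_dvd _ rfl hW h5 (by rw [eq_bot_iff, ← hME]; exact inf_le_inf_right _ hWM)
      rw [hcsz, hWf] at h6
      have := Nat.le_of_dvd hi0 h6
      omega
    · have h5 := Nat.le_of_dvd h4 h2
      have h6 := Submodule.eq_of_le_of_finrank_eq (inf_le_left : W ⊓ perp (σ := RingHom.id F) B W ≤ W) (by omega)
      rw [← h6]; exact inf_le_right.trans (by rw [h6])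
  have hTI' : ∀ x ∈ W, ∀ y ∈ W, B x y = 0 := fun x hx y hy => hTI hy x hx
  have hSinj : Function.Injective S := by
    rw [injective_iff_map_eq_zero]
    intro x hx
    apply h.nd x trivial
    intro y _
    have h1 := hS x y
    rw [hx, map_zero, LinearMap.zero_apply] at h1
    exact h1.symm
  by_contra hnot
  obtain ⟨W', hW'⟩ : ∃ W', W.map S = W' := ⟨_, rfl⟩
  have hW'inv : Inv T W' := by
    rw [← hW']
    rintro _ ⟨x, hx, rfl⟩
    exact ⟨T x, hW x hx, LinearMap.congr_fun hST x⟩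
  have hW'M : W' ≤ M := by
    rw [← hW']
    rintro _ ⟨x, hx, rfl⟩
    exact hSM x (hWM hx)
  have hW'f : finrank F W' = i := by
    rw [← hW', LinearEquiv.finrank_eq (Submodule.equivMapOfInjective _ hSinj W).symm, hWf]
  have hdisj : W ⊓ W' = ⊥ := by
    have h1 := hdvd (W ⊓ W') (inf_le_left.trans hWM) (inv_inf hW hW'inv)
    have h2 : finrank F ↥(W ⊓ W') ≤ finrank F W := Submodule.finrank_mono inf_le_left
    rcases Nat.eq_zero_or_pos (finrank F ↥(W ⊓ W')) with h3 | h3
    · exact Submodule.finrank_eq_zero.1 h3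
    · exfalso
      have h4 := Nat.le_of_dvd h3 h1
      have h5 := Submodule.eq_of_le_of_finrank_eq (inf_le_left : W ⊓ W' ≤ W) (by omega)
      have h6 := Submodule.eq_of_le_of_finrank_eq (inf_le_right : W ⊓ W' ≤ W') (by omega)
      apply hnot
      intro x hx
      have h7 : S x ∈ W' := by rw [← hW']; exact ⟨x, hx, rfl⟩
      rw [← h6, h5] at h7
      exact h7
  have hsup : W ⊔ W' = M := by
    apply Submodule.eq_of_le_of_finrank_eq (sup_le hWM hW'M)
    have h1 := Submodule.finrank_sup_add_finrank_inf_eq W W'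
    rw [hdisj, finrank_bot] at h1
    omega
  let T' : Module.End F W := T.restrict hW
  have hT'r : T' ^ r = 1 := by
    ext x
    rw [restrict_pow_apply, h.pow]; rfl
  refine no_odd_form h.odd hT'r (fun x hx => ?_) (fun U hU => ?_) (by rwa [hWf]) ((B.compl₁₂ W.subtype (S ∘ₗ W.subtype) : W →ₗ[F] W →ₗ[F] F))
    (fun x y => ?_) (fun x hx => ?_)
  · have h1 : (x : V) ∈ M ⊓ E T 1 := ⟨hWM x.2, Module.End.mem_eigenspace_iff.2 (by
      rw [one_smul]
      exact congrArg Subtype.val hx)⟩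
    rw [hME] at h1
    exact Subtype.ext ((Submodule.mem_bot F).1 h1)
  · have h1 : Inv T (U.map W.subtype) := by
      rintro _ ⟨x, hx, rfl⟩
      exact ⟨T' x, hU x hx, rfl⟩
    have h2 : U.map W.subtype ≤ W := by
      rintro _ ⟨x, -, rfl⟩
      exact x.2
    have h3 := hdvd _ (h2.trans hWM) h1
    rw [Submodule.finrank_map_subtype_eq] at h3
    have h4 : finrank F U ≤ finrank F W := Submodule.finrank_le U
    rcases Nat.eq_zero_or_pos (finrank F U) with h5 | h5
    · exact Or.inl (Submodule.finrank_eq_zero.1 h5)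
    · right
      have h6 := Nat.le_of_dvd h5 h3
      exact Submodule.eq_top_of_finrank_eq (by omega)
  · show B (T x) (S (T y)) = B x (S y)
    have h1 : S (T (y : V)) = T (S y) := LinearMap.congr_fun hST y
    rw [h1, h.iso]
  · have h1 : (x : V) = 0 := by
      apply hMnd x (hWM x.2)
      intro y hy
      rw [← hsup] at hy
      obtain ⟨a, ha, b, hb, rfl⟩ := Submodule.mem_sup.1 hy
      rw [← hW'] at hb
      obtain ⟨c, hc, rfl⟩ := hb
      rw [map_add, hTI' x x.2 a ha, zero_add]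
      exact hx ⟨c, hc⟩
    exact Subtype.ext h1

/-- the field acting on irreducible subspaces -/
theorem field_on (h : PO F p r B T) {W : Submodule F V} (hW : Inv T W) (hWE : W ⊓ E T 1 = ⊥)
    (hWf : finrank F W = orderOf ((Fintype.card F : ℕ) : ZMod r)) :
    ∃ (K : Type v) (_ : Field K) (_ : Finite K) (_ : Algebra F K) (_ : Module K W) (_ : IsScalarTower F K W),
      Nat.card K = Nat.card F ^ finrank F W ∧ CharP K p ∧ ∃ t : K, (∀ x : W, t • x = (T.restrict hW) x) ∧ Algebra.adjoin F {t} = ⊤ ∧ t ^ r = 1 ∧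
      ∀ S : Module.End F V, S * T = T * S → Inv S W → ∃ ζ : K, (∀ x : W, ((ζ • x : W) : V) = S x) ∧
        (∀ k : ℕ, ζ ^ k = 1 ↔ ∀ x ∈ W, (S ^ k) x = x) := by
  have hrF : Fact r.Prime := ⟨h.hr⟩
  have hi0 := h.ss.pos
  have hnt : Nontrivial W := Module.nontrivial_of_finrank_pos (R := F) (by omega)
  have hq1 : 1 ≤ Nat.card F := Nat.card_pos
  obtain ⟨K, i1, i2, i3, i4, i5, i6, hK1, hK2, t, ht, hadj, hS⟩ := FieldStruct67.exists_field (r := r) (W := W) (by
    intro k hk0 hk
    rw [hWf]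
    rw [Nat.card_eq_fintype_card] at hk hq1
    exact (dvd_iff hq1 k).1 hk) (T.restrict hW) (by
    ext x
    rw [restrict_pow_apply, h.pow]; rfl) (by
    intro x hx
    have h1 : (x : V) ∈ W ⊓ E T 1 := ⟨x.2, Module.End.mem_eigenspace_iff.2 (by
      rw [one_smul]
      exact congrArg Subtype.val hx)⟩
    rw [hWE] at h1
    exact Subtype.ext ((Submodule.mem_bot F).1 h1))
  have hcp : CharP K p := by
    have := h.hc
    exact charP_of_injective_algebraMap (algebraMap F K).injective p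
  obtain ⟨x0, hx0⟩ := exists_ne (0 : W)
  have hpow1 : ∀ ζ : K, ζ • x0 = x0 → ζ = 1 := by
    intro ζ hζ
    have h3 : (ζ - 1) • x0 = 0 := by rw [sub_smul, one_smul, hζ, sub_self]
    exact sub_eq_zero.1 ((smul_eq_zero.1 h3).resolve_right hx0)
  refine ⟨K, i1, i2, i3, i5, i6, by rw [← hK1]; exact Module.natCard_eq_pow_finrank, hcp, t, ht, hadj, ?_, ?_⟩
  · have hpow : ∀ (k : ℕ) (x : W), t ^ k • x = ((T.restrict hW) ^ k) x := by
      intro k
      induction k with
      | zero => intro x; rw [pow_zero, pow_zero, one_smul]; rfl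
      | succ k ih => intro x; rw [pow_succ, pow_succ, mul_smul, ih, ht]; rfl
    apply hpow1
    rw [hpow]
    apply Subtype.ext
    rw [restrict_pow_apply, h.pow]; rfl
  · intro S hST hSW
    obtain ⟨ζ, hζ⟩ := hS (S.restrict hSW) (by
      ext x
      exact LinearMap.congr_fun hST x)
    have hζ' : ∀ x : W, ((ζ • x : W) : V) = S x := fun x => by rw [hζ]; rfl
    have hpow : ∀ (k : ℕ) (x : W), ((ζ ^ k • x : W) : V) = (S ^ k) x := by
      intro k
      induction k with
      | zero => intro x; rw [pow_zero, pow_zero, one_smul]; rfl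
      | succ k ih =>
        intro x
        rw [pow_succ, pow_succ, mul_smul, ih, hζ', Module.End.mul_apply]
    refine ⟨ζ, hζ', fun k => ⟨fun hk x hx => ?_, fun hk => ?_⟩⟩
    · have := hpow k ⟨x, hx⟩
      rw [hk, one_smul] at this
      exact this.symm
    · apply hpow1
      apply Subtype.ext
      rw [hpow]
      exact hk x0 x0.2

/-- commuting isometries on irreducible nondegenerate subspaces have norm one -/
theorem norm_on (h : PO F p r B T) {W : Submodule F V} (hW : Inv T W) (hWE : W ⊓ E T 1 = ⊥) (hWnd : ND (σ := RingHom.id F) B W)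
    (hWf : finrank F W = orderOf ((Fintype.card F : ℕ) : ZMod r)) {m : ℕ} (hm : 1 ≤ m) (ho : orderOf ((Fintype.card F : ℕ) : ZMod r) = 2 * m)
    {S : Module.End F V} (hS : Iso (σ := RingHom.id F) B S) (hST : S * T = T * S) (hSW : Inv S W) :
    ∀ x ∈ W, (S ^ (Fintype.card F ^ m + 1)) x = x := by
  obtain ⟨K, i1, i2, i3, i4, i5, hK, hcp, t, ht, hadj, htr, hSS⟩ := field_on h hW hWE hWf
  obtain ⟨ζ, hζ, hζk⟩ := hSS S hST hSW
  have hq1 : 1 ≤ Nat.card F := Nat.card_pos
  have hq1' : 1 ≤ Fintype.card F := by rw [← Nat.card_eq_fintype_card]; exact hq1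
  have ht1 : t ^ (Nat.card F ^ m + 1) = 1 := by
    have h1 := dvd_plus hq1' h.hr hm ho
    rw [← Nat.card_eq_fintype_card] at h1
    obtain ⟨c, hc⟩ := h1
    rw [hc, pow_mul, htr, one_pow]
  have hβ : ∀ x y : W, (B.domRestrict₁₂ W W) ((T.restrict hW) x) ((T.restrict hW) y) = (B.domRestrict₁₂ W W) x y := fun x y => h.iso x y
  have hA := adj_of (β := B.domRestrict₁₂ W W) ht hadj hβ ht1 ζ
  rw [← hζk, ← Nat.card_eq_fintype_card]
  have hnt : Nontrivial W := Module.nontrivial_of_finrank_pos (R := F) (by omega)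
  obtain ⟨x0, hx0⟩ := exists_ne (0 : W)
  have h3 : ζ ^ (Nat.card F ^ m + 1) • x0 = x0 := by
    have h4 : ∀ y : W, B (y : V) (((ζ ^ (Nat.card F ^ m + 1) • x0 : W) : V) - x0) = 0 := by
      intro y
      have h5 : (B.domRestrict₁₂ W W) (ζ • y) (ζ • x0) = (B.domRestrict₁₂ W W) y (ζ ^ (Nat.card F ^ m) • (ζ • x0)) := hA y (ζ • x0)
      rw [smul_smul, ← pow_succ] at h5
      have h6 : B ((ζ • y : W) : V) ((ζ • x0 : W) : V) = B (y : V) ((ζ ^ (Nat.card F ^ m + 1) • x0 : W) : V) := h5
      rw [hζ, hζ, hS] at h6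
      rw [map_sub, h6, sub_self]
    have h5 : ((ζ ^ (Nat.card F ^ m + 1) • x0 : W) : V) - x0 = 0 := by
      apply hWnd _ (W.sub_mem (ζ ^ (Nat.card F ^ m + 1) • x0 : W).2 x0.2)
      intro y hy
      rw [h.alt.skew, h4 ⟨y, hy⟩, neg_zero]
    exact Subtype.ext (sub_eq_zero.1 h5)
  have h6 : (ζ ^ (Nat.card F ^ m + 1) - 1) • x0 = 0 := by rw [sub_smul, one_smul, h3, sub_self]
  exact sub_eq_zero.1 ((smul_eq_zero.1 h6).resolve_right hx0)

/-- commuting elements of order `p` are trivial on irreducible subspaces -/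
theorem unip_on (h : PO F p r B T) {W : Submodule F V} (hW : Inv T W) (hWE : W ⊓ E T 1 = ⊥)
    (hWf : finrank F W = orderOf ((Fintype.card F : ℕ) : ZMod r)) {S : Module.End F V} (hST : S * T = T * S) (hSW : Inv S W)
    (hSp : S ^ p = 1) : ∀ x ∈ W, S x = x := by
  obtain ⟨K, i1, i2, i3, i4, i5, hK, hcp, t, ht, hadj, htr, hSS⟩ := field_on h hW hWE hWf
  obtain ⟨ζ, hζ, hζk⟩ := hSS S hST hSW
  have hpF : Fact p.Prime := ⟨h.hp⟩
  have h1 : ζ ^ p = 1 := (hζk p).2 (fun x _ => by rw [hSp]; rfl)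
  have h2 : ζ = 1 := by
    have h3 : (ζ - 1) ^ p = 0 := by rw [sub_pow_char, h1, one_pow, sub_self]
    exact sub_eq_zero.1 (pow_eq_zero_iff h.hp.ne_zero |>.1 h3)
  have h3 := (hζk 1).1 (by rw [h2, one_pow])
  intro x hx
  have := h3 x hx
  rwa [pow_one] at this

/-- commuting elements of prime order are given by field elements on irreducible subspaces -/
theorem ss_on (h : PO F p r B T) {W : Submodule F V} (hW : Inv T W) (hWE : W ⊓ E T 1 = ⊥)
    (hWf : finrank F W = orderOf ((Fintype.card F : ℕ) : ZMod r)) {S : Module.End F V} (hST : S * T = T * S) (hSW : Inv S W)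
    {s : ℕ} (hs : s.Prime) (hSs : S ^ s = 1) (hne : ∃ x ∈ W, S x ≠ x) :
    orderOf ((Fintype.card F : ℕ) : ZMod s) ∣ orderOf ((Fintype.card F : ℕ) : ZMod r) := by
  obtain ⟨K, i1, i2, i3, i4, i5, hK, hcp, t, ht, hadj, htr, hSS⟩ := field_on h hW hWE hWf
  obtain ⟨ζ, hζ, hζk⟩ := hSS S hST hSW
  have hsF : Fact s.Prime := ⟨hs⟩
  have hKf := Fintype.ofFinite K
  have h1 : ζ ^ s = 1 := (hζk s).2 (fun x _ => by rw [hSs]; rfl)
  have h2 : ζ ≠ 1 := by
    intro h3
    obtain ⟨x, hx, hxx⟩ := hne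
    have h4 := (hζk 1).1 (by rw [h3, one_pow]) x hx
    rw [pow_one] at h4
    exact hxx h4
  have h3 : orderOf ζ = s := orderOf_eq_prime h1 h2
  have h4 : s ∣ Nat.card K - 1 := by
    rw [← h3, Nat.card_eq_fintype_card]
    apply orderOf_dvd_of_pow_eq_one
    apply FiniteField.pow_card_sub_one_eq_one
    rintro rfl
    rw [zero_pow hs.ne_zero] at h1
    exact zero_ne_one h1
  rw [hK, hWf, Nat.card_eq_fintype_card] at h4
  exact (dvd_iff (Nat.one_le_iff_ne_zero.2 Fintype.card_ne_zero) _).1 h4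

end po

end Cfsg.Agent.Lib.SpPG67
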