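import Mathlib
import Cfsg.Agent.Lib.SpPGB67
import Cfsg.Agent.Lib.PSLTypes

/-!
(helper67) The prime graph of symplectic groups.
-/

set_option autoImplicit false
set_option linter.unusedSectionVars false

namespace Cfsg.Agent.Lib.SpPG67

open Module Cfsg.Agent.Lib.InvSub Cfsg.Agent.Lib.PrimeOrd Cfsg.Agent.Lib.Sesq Cfsg.Agent.Lib.HermAlg

universe u v w

section dual
variable {F : Type u} [Field F] {W : Type v} [AddCommGroup W] [Module F W] [FiniteDimensional F W]

/-- the standard alternating form on `W × W*` -/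
def dB (F : Type u) [Field F] (W : Type v) [AddCommGroup W] [Module F W] : (W × Dual F W) →ₗ[F] (W × Dual F W) →ₗ[F] F :=
  LinearMap.mk₂ F (fun x y => y.2 x.1 - x.2 y.1)
    (fun x x' y => by simp only [Prod.fst_add, Prod.snd_add, map_add, LinearMap.add_apply]; ring)
    (fun c x y => by simp only [Prod.smul_fst, Prod.smul_snd, map_smul, LinearMap.smul_apply, smul_eq_mul]; ring)
    (fun x y y' => by simp only [Prod.fst_add, Prod.snd_add, map_add, LinearMap.add_apply]; ring)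
    (fun c x y => by simp only [Prod.smul_fst, Prod.smul_snd, map_smul, LinearMap.smul_apply, smul_eq_mul]; ring)

theorem dB_apply (x y : W × Dual F W) : dB F W x y = y.2 x.1 - x.2 y.1 := rfl

theorem dB_alt : Alt (dB F W) := fun x => by rw [dB_apply, sub_self]

theorem dB_nd : ND (σ := RingHom.id F) (dB F W) ⊤ := by
  intro x _ hx
  refine Prod.ext ?_ ?_
  · apply (Module.forall_dual_apply_eq_zero_iff F x.1).1
    intro f
    have := hx (0, f) trivial
    rw [dB_apply] at this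
    simpa using this
  · apply LinearMap.ext
    intro w
    have := hx (w, 0) trivial
    rw [dB_apply] at this
    have h2 : x.2 w = 0 := by simpa using this
    rw [h2]; rfl

theorem exists_dual {S : Module.End F W} {N : ℕ} (hN1 : 1 ≤ N) (hN : S ^ N = 1) (hk : ∀ k : ℕ, S ^ k = 1 → N ∣ k) :
    ∃ T : Module.End F (W × Dual F W), Iso (σ := RingHom.id F) (dB F W) T ∧ T ^ N = 1 ∧ ∀ k : ℕ, T ^ k = 1 → N ∣ k := by
  let S' : Module.End F (Dual F W) := (S ^ (N - 1)).dualMap
  have hS' : ∀ k : ℕ, S' ^ k = ((S ^ (N - 1)) ^ k).dualMap := by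
    intro k
    induction k with
    | zero => rfl
    | succ k ih =>
      rw [pow_succ', ih, pow_succ]
      rfl
  refine ⟨LinearMap.prodMap S S', fun x y => ?_, ?_, fun k h => ?_⟩
  · rw [dB_apply, dB_apply]
    show y.2 ((S ^ (N - 1)) (S x.1)) - x.2 ((S ^ (N - 1)) (S y.1)) = _
    have h1 : ∀ z, (S ^ (N - 1)) (S z) = z := by
      intro z
      rw [← Module.End.mul_apply, ← pow_succ, show N - 1 + 1 = N by omega, hN]; rfl
    rw [h1, h1]
  · rw [prodMap_pow, hN, hS', ← pow_mul, mul_comm, pow_mul, hN, one_pow]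
    rfl
  · rw [prodMap_pow] at h
    have h' : LinearMap.prodMap (S ^ k) (S' ^ k) = (1 : F) • (1 : Module.End F (W × Dual F W)) := by rw [h, one_smul]
    have h1 := (prodMap_eq h').1
    rw [one_smul] at h1
    exact hk k h1

end dual

section tori
variable {F : Type u} [Field F] [Fintype F] {n : ℕ}

/-- split tori -/
theorem split_tor {e N : ℕ} (he : 1 ≤ e) (hn : 1 ≤ n) (hen : e ≤ n) (hN : Odd N) (hd : N ∣ Fintype.card F ^ e - 1) :
    N ∈ Set.range (orderOf : Cfsg.PSp n F → ℕ) := by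
  obtain ⟨K, _, _, _, hK, z, hz, hzo, -⟩ := PSLTypes.exists_ext F e he
  have hfd : FiniteDimensional F K := Module.finite_of_finrank_pos (by omega)
  rw [Nat.card_eq_fintype_card] at hzo
  have hq : 1 < Fintype.card F := Fintype.one_lt_card
  have hpos : 0 < Fintype.card F ^ e - 1 := by
    have := Nat.one_lt_pow (by omega : e ≠ 0) hq
    omega
  have hN0 : N ≠ 0 := by
    rintro rfl
    exact absurd hN (by decide)
  obtain ⟨c, hc⟩ := hd
  have hc0 : c ≠ 0 := by
    rintro rfl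
    rw [mul_zero] at hc
    omega
  have hw : orderOf (z ^ c) = N := by
    rw [orderOf_pow_of_dvd hc0 (by rw [hzo, hc]; exact Dvd.intro_left _ rfl), hzo, hc, Nat.mul_div_cancel _ (Nat.pos_of_ne_zero hc0)]
  have hlm : ∀ k : ℕ, (Algebra.lmul F K ((z ^ c : Kˣ) : K)) ^ k = 1 ↔ N ∣ k := by
    intro k
    rw [← hw, orderOf_dvd_iff_pow_eq_one, ← map_pow, ← map_one (Algebra.lmul F K), (Algebra.lmul_injective (R := F) (A := K)).eq_iff,
      ← Units.val_pow_eq_pow_val, ← Units.val_one, Units.val_inj]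
  obtain ⟨T, hT, hTN, hTk⟩ := exists_dual (S := Algebra.lmul F K ((z ^ c : Kˣ) : K)) (by omega) ((hlm N).2 dvd_rfl) (fun k h => (hlm k).1 h)
  exact mem_range_ext (n := n) hn hen (by rw [finrank_prod, Subspace.dual_finrank_eq, hK]; ring) dB_alt dB_nd hT hN hTN hTk

/-- non-split tori -/
theorem nonsplit_tor {p r s m : ℕ} (hp : p.Prime) (hc : CharP F p) (hs : s.Prime) (hsp : s ≠ p) (hso : Odd s) (hm : 1 ≤ m) (hmn : m ≤ n)
    (ho : orderOf ((Fintype.card F : ℕ) : ZMod s) = 2 * m) (hr : r.Prime) (hro : Odd r) (hrs : r ≠ s) (hrd : r ∣ Fintype.card F ^ m + 1) :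
    r * s ∈ Set.range (orderOf : Cfsg.PSp n F → ℕ) := by
  have hsF : Fact s.Prime := ⟨hs⟩
  have hrF : Fact r.Prime := ⟨hr⟩
  have hq : 1 < Fintype.card F := Fintype.one_lt_card
  have hcsz : 2 * m = csz F s := by unfold csz csize; rw [ho, if_pos (even_two_mul m)]
  have hfull := exists_po_full (F := F) hp hc hs hsp hso hcsz 1 le_rfl
  rw [one_mul] at hfull
  obtain ⟨T, hT, hTE, hT1, hd⟩ := hfull
  have hnt : Nontrivial (Fin m ⊕ Fin m → F) := Module.nontrivial_of_finrank_pos (R := F) (by omega)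
  obtain ⟨K, i1, i2, i3, i4, i5, i6, hK1, hK2, t, ht, hadj, hS⟩ := FieldStruct67.exists_field (r := s) (W := (Fin m ⊕ Fin m → F)) (by
    intro k hk0 hk
    rw [hd, ← ho]
    rw [Nat.card_eq_fintype_card] at hk
    exact (dvd_iff hq.le k).1 hk) T hT.pow (by
    intro x hx
    have h1 : x ∈ E T (1 : F) := Module.End.mem_eigenspace_iff.2 (by rw [one_smul]; exact hx)
    rw [hTE] at h1
    exact (Submodule.mem_bot F).1 h1)
  have hKf := Fintype.ofFinite K
  have hinj : ∀ κ : K, Algebra.lsmul F F (Fin m ⊕ Fin m → F) κ = 1 → κ = 1 := by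
    intro κ hκ
    obtain ⟨x0, hx0⟩ := exists_ne (0 : Fin m ⊕ Fin m → F)
    have h3 : (κ - 1) • x0 = 0 := by
      have := LinearMap.congr_fun hκ x0
      rw [sub_smul, one_smul]
      exact sub_eq_zero.2 this
    exact sub_eq_zero.1 ((smul_eq_zero.1 h3).resolve_right hx0)
  have htT : Algebra.lsmul F F (Fin m ⊕ Fin m → F) t = T := LinearMap.ext fun x => ht x
  have hts : t ^ s = 1 := by
    apply hinj
    rw [map_pow, htT, hT.pow]
  have ht1 : t ≠ 1 := by
    intro h
    apply hT1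
    rw [← htT, h, map_one]
  have hto : orderOf t = s := orderOf_eq_prime hts ht1
  have hdp := dvd_plus hq.le hs hm ho
  -- an element of order `r`
  have hcK : Nat.card Kˣ = Fintype.card F ^ (2 * m) - 1 := by
    rw [Nat.card_units, Module.natCard_eq_pow_finrank (K := F), hK1, hd, Nat.card_eq_fintype_card]
  have hrK : r ∣ Nat.card Kˣ := by
    rw [hcK]
    have h2 : Fintype.card F ^ (2 * m) - 1 = (Fintype.card F ^ m - 1) * (Fintype.card F ^ m + 1) := by
      have h3 : 1 ≤ Fintype.card F ^ m := Nat.one_le_pow _ _ (by omega)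
      obtain ⟨a, ha⟩ := Nat.exists_eq_add_of_le h3
      rw [two_mul, pow_add, ha, Nat.add_sub_cancel_left]
      have : (1 + a) * (1 + a) = a * (1 + a + 1) + 1 := by ring
      rw [this, Nat.add_sub_cancel]
    rw [h2]
    exact Dvd.dvd.mul_left hrd _
  obtain ⟨ζ, hζ⟩ := exists_prime_orderOf_dvd_card' r hrK
  have hζo : orderOf (ζ : K) = r := by rw [orderOf_units, hζ]
  have hcop : Nat.Coprime (orderOf (ζ : K)) (orderOf t) := by
    rw [hζo, hto]
    exact (Nat.coprime_primes hr hs).2 hrs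
  have hprod : orderOf ((ζ : K) * t) = r * s := by
    rw [Commute.orderOf_mul_eq_mul_orderOf_of_coprime (Commute.all _ _) hcop, hζo, hto]
  have hnorm : ((ζ : K) * t) ^ (Nat.card F ^ m + 1) = 1 := by
    rw [Nat.card_eq_fintype_card, mul_pow]
    obtain ⟨a, ha⟩ := hrd
    obtain ⟨b, hb⟩ := hdp
    have e1 : (ζ : K) ^ (Fintype.card F ^ m + 1) = 1 := by
      rw [ha, pow_mul, ← hζo, pow_orderOf_eq_one, one_pow]
    have e2 : t ^ (Fintype.card F ^ m + 1) = 1 := by
      rw [hb, pow_mul, hts, one_pow]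
    rw [e1, e2, one_mul]
  have htn : t ^ (Nat.card F ^ m + 1) = 1 := by
    rw [Nat.card_eq_fintype_card]
    obtain ⟨b, hb⟩ := hdp
    rw [hb, pow_mul, hts, one_pow]
  refine mem_range_ext (n := n) (V₁ := (Fin m ⊕ Fin m → F)) (T₁ := Algebra.lsmul F F (Fin m ⊕ Fin m → F) ((ζ : K) * t)) (by omega) hmn hd hT.alt hT.nd ?_
    (hro.mul hso) ?_ ?_
  · intro x y
    show SympMat.B m F (((ζ : K) * t) • x) (((ζ : K) * t) • y) = _
    rw [adj_of ht hadj (fun x y => hT.iso x y) htn ((ζ : K) * t) x, smul_smul, ← pow_succ, hnorm, one_smul]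
  · rw [← map_pow, ← hprod, pow_orderOf_eq_one, map_one]
  · intro k hk
    rw [← hprod]
    apply orderOf_dvd_of_pow_eq_one
    apply hinj
    rw [map_pow]; exact hk

end tori

section main
variable {F : Type u} [Field F] [Fintype F] {n p : ℕ}

theorem B_alt (n : ℕ) : Alt (SympMat.B n F) := fun v => SympMat.sympForm_self v
theorem B_nd (n : ℕ) : ND (σ := RingHom.id F) (SympMat.B n F) ⊤ := fun v _ h => SympMat.eq_zero_of_sympForm (fun y => h y trivial)
theorem B_dim (n : ℕ) : finrank F (Fin n ⊕ Fin n → F) = 2 * n := by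
  rw [Module.finrank_fintype_fun_eq_card, Fintype.card_sum, Fintype.card_fin]; ring

/-- isometries from elements of `PSp` -/
theorem iso_of_psp (hp : p.Prime) (hc : CharP F p) (hn : 1 ≤ n) {N : ℕ} (hN : Odd N ∨ p = 2) (h : N ∈ Set.range (orderOf : Cfsg.PSp n F → ℕ)) :
    ∃ T : Module.End F (Fin n ⊕ Fin n → F), Iso (σ := RingHom.id F) (SympMat.B n F) T ∧ T ^ N = 1 ∧ ∀ k : ℕ, T ^ k = 1 → N ∣ k := by
  have hnt : Nontrivial (Fin n ⊕ Fin n → F) := Module.nontrivial_of_finrank_pos (R := F) (by rw [B_dim]; omega)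
  obtain ⟨g, rfl⟩ := h
  obtain ⟨T, hT, -, hTk⟩ := SympSpec.exists_isom g
  have hTI : Iso (σ := RingHom.id F) (SympMat.B n F) T := hT
  have hk' : ∀ k : ℕ, (∃ c : F, T ^ k = c • (1 : Module.End F (Fin n ⊕ Fin n → F))) ↔ orderOf g ∣ k := fun k => by
    rw [orderOf_dvd_iff_pow_eq_one, hTk]
  obtain ⟨c, hcc⟩ := (hk' (orderOf g)).2 dvd_rfl
  have hc2 := scalar_sq (B_nd n) hTI hcc
  rcases hN with ho | hp2
  · refine ⟨c • T, fun x y => ?_, ?_, fun k hk => ?_⟩
    · rw [LinearMap.smul_apply, LinearMap.smul_apply, map_smul, map_smul, LinearMap.smul_apply, hTI, smul_smul, hc2, one_smul]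
    · rw [_root_.smul_pow, hcc, smul_smul]
      obtain ⟨j, hj⟩ := ho
      rw [hj, pow_succ, pow_mul, pow_two, hc2, one_pow, one_mul, hc2, one_smul]
    · apply (hk' k).1
      refine ⟨c ^ k, ?_⟩
      rw [_root_.smul_pow] at hk
      rw [← hk, smul_smul, ← mul_pow, hc2, one_pow, one_smul]
  · have hc1 : c = 1 := by
      have h2 : (2 : F) = 0 := by
        have := CharP.cast_eq_zero F p
        rw [hp2] at this
        exact_mod_cast this
      have h3 : (c - 1) * (c - 1) = 0 := by linear_combination hc2 + (1 - c) * h2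
      exact sub_eq_zero.1 (mul_self_eq_zero.1 h3)
    refine ⟨T, hTI, by rw [hcc, hc1, one_smul], fun k hk => (hk' k).1 ⟨1, by rw [hk, one_smul]⟩⟩

theorem po_of (hp : p.Prime) (hc : CharP F p) {T : Module.End F (Fin n ⊕ Fin n → F)} (hT : Iso (σ := RingHom.id F) (SympMat.B n F) T)
    {r : ℕ} (hr : r.Prime) (hrp : r ≠ p) (ho : Odd r) (hTr : T ^ r = 1) : PO F p r (SympMat.B n F) T :=
  ⟨hp, hc, hr, hrp, ho, B_alt n, B_nd n, hT, hTr⟩

theorem csz_of (k ηk r : ℕ) (hk : k = orderOf ((Fintype.card F : ℕ) : ZMod r)) (hηk : (Odd k ∧ ηk = k) ∨ (Even k ∧ 2 * ηk = k)) :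
    csz F r = 2 * ηk := by
  unfold csz csize
  rw [← hk]
  rcases hηk with ⟨h1, h2⟩ | ⟨h1, h2⟩
  · rw [if_neg (by rwa [Nat.not_even_iff_odd]), h2]
  · rw [if_pos h1, h2]

theorem le_of_dvd_card (hp : p.Prime) (hc : CharP F p) (hn : 1 ≤ n) {r : ℕ} (hr : r.Prime) (hrp : r ≠ p) (ho : Odd r)
    (hrG : r ∣ Nat.card (Cfsg.PSp n F)) : csz F r ≤ 2 * n := by
  classical
  have hrF : Fact r.Prime := ⟨hr⟩
  have hfin : Finite (Cfsg.PSp n F) := inferInstance
  obtain ⟨g, hg⟩ := exists_prime_orderOf_dvd_card' r hrG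
  obtain ⟨T, hT, hTN, hTk⟩ := iso_of_psp hp hc hn (Or.inl ho) ⟨g, hg⟩
  have hPO := po_of hp hc hT hr hrp ho hTN
  have h1 := csz_le hPO (by
    rintro rfl
    have := hTk 1 (by rw [one_pow])
    have := hr.one_lt
    have := Nat.le_of_dvd one_pos ‹r ∣ 1›
    omega)
  rwa [B_dim] at h1

end main

end Cfsg.Agent.Lib.SpPG67
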