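import Mathlib
import Cfsg.Agent.Lib.SpPGC67

/-!
(helper67) The prime graph of symplectic groups: the criteria.
-/

set_option autoImplicit false
set_option linter.unusedSectionVars false

namespace Cfsg.Agent.Lib.SpPG67

open Module Cfsg.Agent.Lib.InvSub Cfsg.Agent.Lib.PrimeOrd Cfsg.Agent.Lib.Sesq Cfsg.Agent.Lib.HermAlg

universe u v w

section main
variable {F : Type u} [Field F] [Fintype F] {n p : ℕ}

theorem E_eq_top {V : Type v} [AddCommGroup V] [Module F V] {S : Module.End F V} (h : E S (1 : F) = ⊤) : S = 1 := by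
  apply LinearMap.ext
  intro x
  have h3 : x ∈ E S (1 : F) := by rw [h]; trivial
  rw [Module.End.mem_eigenspace_iff, one_smul] at h3
  exact h3

theorem E_one {V : Type v} [AddCommGroup V] [Module F V] : E (1 : Module.End F V) (1 : F) = ⊤ := by
  rw [eq_top_iff]
  intro x _
  rw [Module.End.mem_eigenspace_iff, one_smul]; rfl

theorem inv_E_of_comm {V : Type v} [AddCommGroup V] [Module F V] {S T : Module.End F V} (h : S * T = T * S) : Inv S (E T (1 : F)) := by
  intro x hx
  rw [Module.End.mem_eigenspace_iff, one_smul] at hx ⊢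
  have h1 := LinearMap.congr_fun h x
  rw [Module.End.mul_apply, Module.End.mul_apply, hx] at h1
  exact h1.symm

/-- `r` and the characteristic -/
theorem rp_iff (hp : p.Prime) (hc : CharP F p) (hn : 2 ≤ n) {r : ℕ} (hr : r.Prime) (hr2 : r ≠ 2) (hrp : r ≠ p) {ηk : ℕ}
    (hcsz : csz F r = 2 * ηk) : (r * p ∉ Set.range (orderOf : Cfsg.PSp n F → ℕ)) ↔ n - 1 < ηk := by
  have ho : Odd r := hr.odd_of_ne_two hr2
  constructor
  · intro H
    by_contra hcon
    apply H
    have hfull := exists_po_full (F := F) hp hc hr hrp ho hcsz.symm 1 le_rfl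
    rw [one_mul] at hfull
    obtain ⟨T, hT, hTE, hT1, hd⟩ := hfull
    have hpos := hT.csz_pos
    have hnt1 : Nontrivial (Fin ηk ⊕ Fin ηk → F) := Module.nontrivial_of_finrank_pos (R := F) (by omega)
    have hnt2 : Nontrivial (Fin (n - ηk) ⊕ Fin (n - ηk) → F) := Module.nontrivial_of_finrank_pos (R := F) (by rw [B_dim]; omega)
    obtain ⟨v, hv⟩ := exists_ne (0 : Fin (n - ηk) ⊕ Fin (n - ηk) → F)
    obtain ⟨h1, h2⟩ := tv_order (p := p) (B_alt (F := F) (n - ηk)) (B_nd (n - ηk)) hv
    exact mem_range_prod (by rw [B_dim, B_dim]; omega) hT.alt (B_alt _) hT.nd (B_nd _) hT.iso (tv_iso (B_alt _) v)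
      ((Nat.coprime_primes hr hp).2 hrp) hT.pow h1 (fun k hk => po_order hT hT1 hk) h2
  · intro hη hmem
    have hN : Odd (r * p) ∨ p = 2 := by
      rcases hp.eq_two_or_odd' with h | h
      · exact Or.inr h
      · exact Or.inl (ho.mul h)
    obtain ⟨T, hT, hTN, hTk⟩ := iso_of_psp hp hc (by omega) hN hmem
    have hap : (T ^ p) ^ r = 1 := by rw [← pow_mul, mul_comm]; exact hTN
    have hbr : (T ^ r) ^ p = 1 := by rw [← pow_mul]; exact hTN
    have ha1 : T ^ p ≠ 1 := by
      intro h
      have h1 := hTk p h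
      have h2 := Nat.le_of_dvd hp.pos h1
      have h3 := hr.two_le
      have h4 : 2 * p ≤ r * p := Nat.mul_le_mul_right _ h3
      have := hp.pos
      omega
    have hb1 : T ^ r ≠ 1 := by
      intro h
      have h1 := hTk r h
      have h2 := Nat.le_of_dvd hr.pos h1
      have h3 := hp.two_le
      have h4 : r * 2 ≤ r * p := Nat.mul_le_mul_left _ h3
      have := hr.pos
      omega
    obtain ⟨a, ha⟩ : ∃ a, T ^ p = a := ⟨_, rfl⟩
    obtain ⟨b, hb⟩ : ∃ b, T ^ r = b := ⟨_, rfl⟩
    have hba : b * a = a * b := by rw [← ha, ← hb, ← pow_add, ← pow_add, add_comm]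
    have haI : Iso (σ := RingHom.id F) (SympMat.B n F) a := by rw [← ha]; exact iso_pow hT p
    have hbI : Iso (σ := RingHom.id F) (SympMat.B n F) b := by rw [← hb]; exact iso_pow hT r
    rw [ha] at hap ha1
    rw [hb] at hbr hb1
    have hPO := po_of hp hc haI hr hrp ho hap
    obtain ⟨m1, m2, m3, m4, m5, m6⟩ := po_moved hPO
    have hcle := csz_le hPO ha1
    have hpos : 0 < finrank F (perp (σ := RingHom.id F) (SympMat.B n F) (E a (1 : F))) := by
      rw [Nat.pos_iff_ne_zero]
      intro h0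
      exact perp_pos hPO ha1 (Submodule.finrank_eq_zero.1 h0)
    have hdle := Nat.le_of_dvd hpos m6
    rw [B_dim, hcsz] at hcle
    rw [B_dim] at m5
    rw [hcsz] at hdle
    have hE0 : E a (1 : F) = ⊥ := Submodule.finrank_eq_zero.1 (by omega)
    have hss := hPO.ss
    have htE : (⊤ : Submodule F (Fin n ⊕ Fin n → F)) ⊓ E a (1 : F) = ⊥ := by rw [hE0, inf_bot_eq]
    apply hb1
    apply E_eq_top (F := F)
    by_cases he : Even (orderOf ((Fintype.card F : ℕ) : ZMod r))
    · have hc' : csz F r = orderOf ((Fintype.card F : ℕ) : ZMod r) := by unfold csz csize; rw [if_pos he]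
      rw [eq_top_iff]
      intro x _
      rw [Module.End.mem_eigenspace_iff, one_smul]
      exact unip_on hPO (W := ⊤) (fun _ _ => trivial) htE (by rw [finrank_top, B_dim]; omega) hba (fun _ _ => trivial) hbr x trivial
    · have hc' : csz F r = 2 * orderOf ((Fintype.card F : ℕ) : ZMod r) := by unfold csz csize; rw [if_neg he]
      have hinv : Inv a (E b (1 : F)) := inv_E_of_comm hba.symm
      obtain ⟨Y, hY, hYc⟩ := hss.compl _ hinv
      have hYb : Y = ⊥ := by
        by_contra hYne
        obtain ⟨U, hUY, hU, hUf⟩ := hss.ex Y hY hYne (by rw [hE0]; exact disjoint_bot_left)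
        have h1 : Inv b U := stable hPO he (M := ⊤) hPO.nd htE (by rw [finrank_top, B_dim]; omega) hbI hba (fun _ _ => trivial) le_top hU hUf
        have h2 := unip_on hPO hU (by rw [hE0, inf_bot_eq]) hUf hba h1 hbr
        have h3 : U ≤ E b (1 : F) ⊓ Y := fun x hx => ⟨Module.End.mem_eigenspace_iff.2 (by rw [one_smul]; exact h2 x hx), hUY hx⟩
        rw [hYc.inf_eq_bot, le_bot_iff] at h3
        rw [h3, finrank_bot] at hUf
        have := hss.pos
        omega
      rw [hYb] at hYc
      have := hYc.sup_eq_top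
      rwa [sup_bot_eq] at this

/-- two odd primes -/
theorem rs_iff (hp : p.Prime) (hc : CharP F p) (hn : 2 ≤ n) {r s : ℕ} (hr : r.Prime) (hs : s.Prime) (hr2 : r ≠ 2) (hs2 : s ≠ 2)
    (hrp : r ≠ p) (hsp : s ≠ p) (hrs : r ≠ s) (hsG : s ∣ Nat.card (Cfsg.PSp n F)) {k l ηk ηl : ℕ}
    (hk : k = orderOf ((Fintype.card F : ℕ) : ZMod r)) (hl : l = orderOf ((Fintype.card F : ℕ) : ZMod s))
    (hηk : (Odd k ∧ ηk = k) ∨ (Even k ∧ 2 * ηk = k)) (hηl : (Odd l ∧ ηl = l) ∨ (Even l ∧ 2 * ηl = l)) (hkl : ηk ≤ ηl) :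
    (r * s ∉ Set.range (orderOf : Cfsg.PSp n F → ℕ)) ↔ (n < ηk + ηl ∧ ¬ ∃ t : ℕ, Odd t ∧ l = k * t) := by
  have hor : Odd r := hr.odd_of_ne_two hr2
  have hos : Odd s := hs.odd_of_ne_two hs2
  have hck := csz_of k ηk r hk hηk
  have hcl := csz_of l ηl s hl hηl
  have hcop : Nat.Coprime r s := (Nat.coprime_primes hr hs).2 hrs
  have hq1 : 1 < Fintype.card F := Fintype.one_lt_card
  have hls := le_of_dvd_card hp hc (by omega : 1 ≤ n) hs hsp hos hsG
  rw [hcl] at hls
  have hk0 : 0 < k := by
    have hpF : Fact p.Prime := ⟨hp⟩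
    have hrF : Fact r.Prime := ⟨hr⟩
    rw [hk]
    exact order_pos (F := F) (p := p) hrp
  have hl0 : 0 < l := by
    have hpF : Fact p.Prime := ⟨hp⟩
    have hsF : Fact s.Prime := ⟨hs⟩
    rw [hl]
    exact order_pos (F := F) (p := p) hsp
  constructor
  · intro H
    refine ⟨?_, ?_⟩
    · by_contra hcon
      apply H
      have hfull := exists_po_full (F := F) hp hc hr hrp hor hck.symm 1 le_rfl
      rw [one_mul] at hfull
      obtain ⟨T, hT, hTE, hT1, hd⟩ := hfull
      obtain ⟨T', hT', hTf'⟩ := exists_po hp hc hs hsp hos 1 (B_alt (F := F) (n - ηk)) (B_nd (n - ηk)) (by rw [B_dim, hcl]; omega)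
      have hT1' : T' ≠ 1 := by
        rintro rfl
        rw [E_one, finrank_top, B_dim, hcl] at hTf'
        omega
      have hnt1 : Nontrivial (Fin ηk ⊕ Fin ηk → F) := Module.nontrivial_of_finrank_pos (R := F) (by omega)
      have hnt2 : Nontrivial (Fin (n - ηk) ⊕ Fin (n - ηk) → F) := Module.nontrivial_of_finrank_pos (R := F) (by rw [B_dim]; omega)
      exact mem_range_prod (by rw [B_dim, B_dim]; omega) hT.alt hT'.alt hT.nd hT'.nd hT.iso hT'.iso
        hcop hT.pow hT'.pow (fun k hk => po_order hT hT1 hk) (fun k hk => po_order hT' hT1' hk)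
    · rintro ⟨t, ht, hlt⟩
      apply H
      rcases hηl with ⟨h1, h2⟩ | ⟨h1, h2⟩
      · refine split_tor (e := l) (by omega) (by omega) (by omega) (hor.mul hos) (Nat.Coprime.mul_dvd_of_dvd_of_dvd hcop ?_ ?_)
        · rw [dvd_iff hq1.le, ← hk, hlt]; exact Dvd.intro _ rfl
        · rw [dvd_iff hq1.le, ← hl]
      · have hke : Even k := by
          by_contra hcon
          rw [Nat.not_even_iff_odd] at hcon
          have := hcon.mul ht
          rw [← hlt] at this
          exact (Nat.not_odd_iff_even.2 h1) this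
        rcases hηk with ⟨h3, h4⟩ | ⟨h3, h4⟩
        · exact absurd hke (Nat.not_even_iff_odd.2 h3)
        · refine nonsplit_tor hp hc hs hsp hos (m := ηl) (by omega) (by omega) (by rw [← hl, h2]) hr hor hrs ?_
          have h5 := dvd_plus hq1.le hr (h := ηk) (by omega) (by rw [← hk, h4])
          have h6 : ηl = ηk * t := by
            have : 2 * ηl = 2 * (ηk * t) := by rw [h2, hlt, ← h4]; ring
            omega
          rw [h6, pow_mul]
          have h7 := Odd.nat_add_dvd_pow_add_pow (Fintype.card F ^ ηk) 1 ht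
          rw [one_pow] at h7
          exact h5.trans h7
  · rintro ⟨hlt, hno⟩ hmem
    obtain ⟨T, hT, hTN, hTk⟩ := iso_of_psp hp hc (by omega) (Or.inl (hor.mul hos)) hmem
    have har : (T ^ s) ^ r = 1 := by rw [← pow_mul, mul_comm]; exact hTN
    have hbs : (T ^ r) ^ s = 1 := by rw [← pow_mul]; exact hTN
    have ha1 : T ^ s ≠ 1 := by
      intro h
      have h1 := hTk s h
      have h2 := Nat.le_of_dvd hs.pos h1
      have h3 := hr.two_le
      have h4 : 2 * s ≤ r * s := Nat.mul_le_mul_right _ h3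
      have := hs.pos
      omega
    have hb1 : T ^ r ≠ 1 := by
      intro h
      have h1 := hTk r h
      have h2 := Nat.le_of_dvd hr.pos h1
      have h3 := hs.two_le
      have h4 : r * 2 ≤ r * s := Nat.mul_le_mul_left _ h3
      have := hr.pos
      omega
    obtain ⟨a, ha⟩ : ∃ a, T ^ s = a := ⟨_, rfl⟩
    obtain ⟨b, hb⟩ : ∃ b, T ^ r = b := ⟨_, rfl⟩
    have hab : a * b = b * a := by rw [← ha, ← hb, ← pow_add, ← pow_add, add_comm]
    have haI : Iso (σ := RingHom.id F) (SympMat.B n F) a := by rw [← ha]; exact iso_pow hT s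
    have hbI : Iso (σ := RingHom.id F) (SympMat.B n F) b := by rw [← hb]; exact iso_pow hT r
    rw [ha] at har ha1
    rw [hb] at hbs hb1
    have hPa := po_of hp hc haI hr hrp hor har
    have hPb := po_of hp hc hbI hs hsp hos hbs
    obtain ⟨m1, m2, m3, m4, m5, m6⟩ := po_moved hPb
    obtain ⟨M, hM⟩ : ∃ M, perp (σ := RingHom.id F) (SympMat.B n F) (E b (1 : F)) = M := ⟨_, rfl⟩
    have hMpos : 0 < finrank F M := by
      rw [Nat.pos_iff_ne_zero]
      intro h0
      rw [← hM] at h0
      exact perp_pos hPb hb1 (Submodule.finrank_eq_zero.1 h0)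
    rw [hM] at m1 m3 m4 m5 m6
    rw [B_dim] at m5
    have hMle := Nat.le_of_dvd hMpos m6
    rw [hcl] at m6 hMle
    have hEinv : Inv a (E b (1 : F)) := inv_E_of_comm hab
    have hMinv : Inv a M := by rw [← hM]; exact haI.inv_perp (B_nd n) hEinv
    -- `a` is trivial on the fixed space of `b`
    have hEE : E b (1 : F) ≤ E a (1 : F) := by
      obtain ⟨s0, s1, s2, s3, s4, s5⟩ := hPa.split_E hEinv m2
      have s6 := hPa.csz_dvd _ rfl s2 s3 s4
      rw [hck] at s6
      have s7 : finrank F ↥(E b (1 : F) ⊓ perp (σ := RingHom.id F) (SympMat.B n F) (E b (1 : F) ⊓ E a (1 : F))) = 0 := by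
        by_contra h0
        have := Nat.le_of_dvd (Nat.pos_of_ne_zero h0) s6
        omega
      have s8 := Submodule.eq_of_le_of_finrank_eq (inf_le_left : E b (1 : F) ⊓ E a (1 : F) ≤ E b (1 : F)) (by omega)
      rw [← s8]; exact inf_le_right
    -- `a` has no fixed points on `M`
    have hMa : M ⊓ E a (1 : F) = ⊥ := by
      obtain ⟨s0, s1, s2, s3, s4, s5⟩ := hPa.split_E hMinv m3
      have i1 : Inv b (M ⊓ E a (1 : F)) := inv_inf m1 (inv_E_of_comm hab.symm)
      have i2 : Inv b (M ⊓ perp (σ := RingHom.id F) (SympMat.B n F) (M ⊓ E a (1 : F))) := inf_perp_inv (B_nd n) hbI m1 i1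
      have d1 := hPb.csz_dvd _ rfl i1 s1 (by rw [eq_bot_iff, ← m4]; exact inf_le_inf_right _ inf_le_left)
      have d2 := hPb.csz_dvd _ rfl i2 s3 (by rw [eq_bot_iff, ← m4]; exact inf_le_inf_right _ inf_le_left)
      rw [hcl] at d1 d2
      by_contra h0
      have h1 : 0 < finrank F ↥(M ⊓ E a (1 : F)) := by
        rw [Nat.pos_iff_ne_zero]
        intro h
        exact h0 (Submodule.finrank_eq_zero.1 h)
      have h2 := Nat.le_of_dvd h1 d1
      have h3 : finrank F ↥(M ⊓ perp (σ := RingHom.id F) (SympMat.B n F) (M ⊓ E a (1 : F))) = 0 := by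
        by_contra h4
        have := Nat.le_of_dvd (Nat.pos_of_ne_zero h4) d2
        omega
      have h4 := Submodule.eq_of_le_of_finrank_eq (inf_le_left : M ⊓ E a (1 : F) ≤ M) (by omega)
      apply ha1
      apply E_eq_top (F := F)
      rw [eq_top_iff, ← (isCompl_perp (B_alt (F := F) n).refl m2).sup_eq_top, hM]
      refine sup_le hEE ?_
      rw [← h4]; exact inf_le_right
    have hMf : finrank F M = 2 * ηl := by
      obtain ⟨c, hcc⟩ := m6
      rcases Nat.lt_or_ge c 2 with h | h
      · interval_cases c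
        · omega
        · omega
      · have : 2 * ηl * 2 ≤ 2 * ηl * c := Nat.mul_le_mul_left _ h
        omega
    have hss := hPb.ss
    have hfixa : ∀ W ≤ M, W ≠ ⊥ → ∃ x ∈ W, a x ≠ x := by
      intro W hW hne
      by_contra hcon
      push Not at hcon
      apply hne
      rw [eq_bot_iff, ← hMa]
      exact le_inf hW (fun x hx => Module.End.mem_eigenspace_iff.2 (by rw [one_smul]; exact hcon x hx))
    have hMne : M ≠ ⊥ := by
      rintro rfl
      rw [finrank_bot] at hMpos
      omega
    rcases hηl with ⟨h1, h2⟩ | ⟨h1, h2⟩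
    · -- `l` odd
      have hno' : ¬ Even (orderOf ((Fintype.card F : ℕ) : ZMod s)) := by rw [← hl, Nat.not_even_iff_odd]; exact h1
      obtain ⟨U, hUM, hU, hUf⟩ := hss.ex M m1 hMne (by rw [disjoint_iff, inf_comm]; exact m4)
      have hUb : U ⊓ E b (1 : F) = ⊥ := by rw [eq_bot_iff, ← m4]; exact inf_le_inf_right _ hUM
      have hUa : Inv a U := stable hPb hno' m3 m4 (by rw [hMf, h2, hl]) haI hab hMinv hUM hU hUf
      have h3 := ss_on hPb hU hUb hUf hab hUa hr har (hfixa U hUM (by
        rintro rfl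
        rw [finrank_bot] at hUf
        have := hss.pos
        omega))
      rw [← hk, ← hl] at h3
      obtain ⟨t, ht⟩ := h3
      apply hno
      refine ⟨t, ?_, ht⟩
      rw [ht] at h1
      exact (Nat.odd_mul.1 h1).2
    · -- `l` even
      have hMl : finrank F M = orderOf ((Fintype.card F : ℕ) : ZMod s) := by rw [hMf, h2, hl]
      have h3 := ss_on hPb m1 m4 hMl hab hMinv hr har (hfixa M le_rfl hMne)
      have h4 := norm_on hPb m1 m4 m3 hMl (m := ηl) (by omega) (by rw [← hl, h2]) haI hab hMinv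
      rw [← hk, ← hl] at h3
      obtain ⟨t, ht⟩ := h3
      apply hno
      refine ⟨t, ?_, ht⟩
      by_contra hte
      rw [Nat.not_odd_iff_even] at hte
      obtain ⟨t', ht'⟩ := hte
      have h5 : ηl = k * t' := by
        have : 2 * ηl = 2 * (k * t') := by rw [h2, ht, ht']; ring
        omega
      have h6 : r ∣ Fintype.card F ^ ηl - 1 := by rw [dvd_iff hq1.le, ← hk, h5]; exact Dvd.intro _ rfl
      have h7 : r ∣ Fintype.card F ^ ηl + 1 := by
        by_contra hcon
        have hco : Nat.Coprime r (Fintype.card F ^ ηl + 1) := (Nat.Prime.coprime_iff_not_dvd hr).2 hcon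
        obtain ⟨x, hx, hxx⟩ := hfixa M le_rfl hMne
        apply hxx
        -- the set of exponents fixing `x`
        have e1 : (a ^ r) x = x := by rw [har]; rfl
        have e2 := h4 x hx
        obtain ⟨u, hu⟩ : ∃ u, (Fintype.card F ^ ηl + 1) * u ≡ 1 [MOD r] := by
          obtain ⟨y, hy⟩ := Nat.exists_mul_mod_eq_one_of_coprime hco.symm hr.one_lt
          refine ⟨y, ?_⟩
          show _ % r = 1 % r
          rw [hy.2, Nat.mod_eq_of_lt hr.one_lt]
        have hpow : ∀ (j c : ℕ) , (a ^ j) x = x → (a ^ (j * c)) x = x := by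
          intro j c hj
          induction c with
          | zero => rfl
          | succ c ih => rw [Nat.mul_succ, pow_add, Module.End.mul_apply, hj, ih]
        have e3 := hpow _ u e2
        have e4 : (a ^ ((Fintype.card F ^ ηl + 1) * u)) = a := by
          have h8 : ((Fintype.card F ^ ηl + 1) * u) % r = 1 := by
            have h9 : ((Fintype.card F ^ ηl + 1) * u) % r = 1 % r := hu
            rw [h9, Nat.mod_eq_of_lt hr.one_lt]
          rw [← Nat.div_add_mod ((Fintype.card F ^ ηl + 1) * u) r, h8, pow_add, pow_mul, har, one_pow, one_mul, pow_one]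
        rw [e4] at e3
        exact e3
      have hr3 : 2 < r := by
        have := hr.two_le
        omega
      exact not_dvd_both hq1.le hr3 h7 h6

end main

end Cfsg.Agent.Lib.SpPG67
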