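import Mathlib
import Cfsg.Agent.Lib.ORealB67
import Cfsg.Agent.Lib.SympSpec2

/-!
(helper67) Orders of elements of `PSp_{2n}(F)` in characteristic two.
-/

set_option autoImplicit false
set_option linter.unusedSectionVars false

namespace Cfsg.Agent.Lib.SpSpec67

open QuadraticMap Module Cfsg.Agent.Lib.Quad Cfsg.Agent.Lib.HermAlg Cfsg.Agent.Lib.SpBound67

universe u v w

variable {F : Type u} [Field F] [Finite F] [CharP F 2]

theorem exists_psp_alt {V : Type v} [AddCommGroup V] [Module F V] [FiniteDimensional F V] {n : ℕ} (hn : 1 ≤ n)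
    (hV : finrank F V = 2 * n) {B : V → V → F} (hB : IsHerm (RingHom.id F) (-1) B) (halt : ∀ x, B x x = 0)
    (T : V ≃ₗ[F] V) (hT : ∀ x y, B (T x) (T y) = B x y) : ∃ g : Cfsg.PSp n F, ∀ k : ℕ, g ^ k = 1 ↔ T ^ k = 1 := by
  obtain ⟨g, hg⟩ := SympSpec.exists_psp (n := n) hV hB halt (T : Module.End F V) hT
  have hTk : ∀ (k : ℕ) (x : V), ((T : Module.End F V) ^ k) x = (T ^ k) x := by
    intro k
    induction k with
    | zero => intro x; rfl
    | succ k ih => intro x; rw [pow_succ, pow_succ, Module.End.mul_apply, ih]; rfl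
  have hBk : ∀ (k : ℕ) (x y : V), B ((T ^ k) x) ((T ^ k) y) = B x y := by
    intro k
    induction k with
    | zero => intro x y; rfl
    | succ k ih =>
      intro x y
      rw [pow_succ]
      show B ((T ^ k) (T x)) ((T ^ k) (T y)) = _
      rw [ih, hT]
  have hnt : Nontrivial V := Module.nontrivial_of_finrank_pos (R := F) (by omega)
  refine ⟨g, fun k => ?_⟩
  rw [hg]
  constructor
  · rintro ⟨c, hc⟩
    have hc' : ∀ x, (T ^ k) x = c • x := by
      intro x
      rw [← hTk, hc]; rfl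
    obtain ⟨x, hx⟩ := exists_ne (0 : V)
    obtain ⟨y, hy⟩ : ∃ y, B x y ≠ 0 := by
      by_contra hcon
      push Not at hcon
      exact hx (hB.nondeg x hcon)
    have h1 := hBk k x y
    rw [hc', hc', hB.smul_left, hB.smul_right, RingHom.id_apply, ← mul_assoc] at h1
    have h2 : c * c = 1 := mul_right_cancel₀ hy (by rw [h1, one_mul])
    have h3 : c = 1 := by
      have h4 : (c - 1) ^ 2 = 0 := by
        linear_combination h2 - (c - 1) * (CharTwo.two_eq_zero : (2 : F) = 0)
      exact sub_eq_zero.1 (pow_eq_zero_iff two_ne_zero |>.1 h4)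
    ext1 x
    rw [hc', h3, one_smul]; rfl
  · intro h
    refine ⟨1, ?_⟩
    ext1 x
    rw [hTk, h, one_smul]; rfl

theorem polar_herm {V : Type v} [AddCommGroup V] [Module F V] {Q : QuadraticForm F V} (hQ : Nd Q) :
    IsHerm (RingHom.id F) (-1) (fun x y => polar Q x y) where
  add_left x y z := by simp
  smul_left c x y := by simp
  symm x y := by
    show polar Q y x = -1 * polar Q x y
    rw [polar_comm, CharTwo.neg_eq, one_mul]
  nondeg x hx := hQ.eq_zero hx

theorem polar_alt {V : Type v} [AddCommGroup V] [Module F V] {Q : QuadraticForm F V} (x : V) : polar Q x x = 0 := by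
  rw [polar_self, two_smul, CharTwo.add_self_eq_zero]

theorem polar_of_mem {V : Type v} [AddCommGroup V] [Module F V] {Q : QuadraticForm F V} {T : V ≃ₗ[F] V} (hT : T ∈ O Q) (x y : V) :
    polar Q (T x) (T y) = polar Q x y := by
  rw [polar, polar, ← map_add, hT, hT, hT]

theorem exists_psp_O {V : Type v} [AddCommGroup V] [Module F V] [FiniteDimensional F V] {n : ℕ} (hn : 1 ≤ n)
    (hV : finrank F V = 2 * n) {Q : QuadraticForm F V} (hQ : Nd Q)
    (T : V ≃ₗ[F] V) (hT : T ∈ O Q) : ∃ g : Cfsg.PSp n F, ∀ k : ℕ, g ^ k = 1 ↔ T ^ k = 1 :=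
  exists_psp_alt hn hV (polar_herm hQ) polar_alt T (polar_of_mem hT)

/-- every element of `PSp_8(F)` has order dividing one of twelve numbers -/
theorem psp_dvd (g : Cfsg.PSp 4 F) : ∃ s ∈ LL 4, orderOf g ∣ val (Nat.card F) s := by
  obtain ⟨T, hT, ⟨T', hT'⟩, hg⟩ := SympSpec.exists_isom g
  have hu : T' * T = 1 := mul_eq_one_comm.1 hT'
  let U : (Module.End F (Fin 4 ⊕ Fin 4 → F))ˣ := ⟨T, T', hT', hu⟩
  have hfin : Finite (Module.End F (Fin 4 ⊕ Fin 4 → F)) := Module.finite_of_finite F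
  have hpos : 0 < orderOf U := orderOf_pos U
  have h1 : T ^ (orderOf U - 1 + 1) = 1 := by
    rw [Nat.sub_add_cancel hpos]
    exact congrArg Units.val (pow_orderOf_eq_one U)
  obtain ⟨M, ⟨s, hs, rfl⟩, hM⟩ := bd4 F (Fin 4 ⊕ Fin 4 → F) (Cfsg.sympForm 4 F) (by simp) SympSpec.isHerm_sympForm
    (fun v => SympMat.sympForm_self v) T hT _ h1
  exact ⟨s, hs, orderOf_dvd_of_pow_eq_one ((hg _).2 ⟨1, by rw [hM, one_smul]⟩)⟩

end Cfsg.Agent.Lib.SpSpec67
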