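import Cfsg.Agent.Lib.PresSpMod

/-! Rotation of signed indices (helper38). -/

set_option autoImplicit false

namespace Cfsg.Agent.Lib.ZsRot

open Cfsg.Agent.Lib.PresBC Cfsg.Agent.Lib.PresSpMod

section Roots

variable {n : ℕ}

/-- the Coxeter rotation of signed indices -/
def rho (hn : 0 < n) : Zs n → Zs n
  | Sum.inl i => if h : i.1 + 1 < n then Sum.inl ⟨i.1 + 1, h⟩ else Sum.inr ⟨0, hn⟩
  | Sum.inr i => if h : i.1 + 1 < n then Sum.inr ⟨i.1 + 1, h⟩ else Sum.inl ⟨0, hn⟩

variable (hn : 0 < n)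

theorem rho_ng (a : Zs n) : rho hn (ng a) = ng (rho hn a) := by
  rcases a with i | i
  · show rho hn (Sum.inr i) = _
    by_cases h : i.1 + 1 < n
    · simp only [rho, dif_pos h]; rfl
    · simp only [rho, dif_neg h]; rfl
  · show rho hn (Sum.inl i) = _
    by_cases h : i.1 + 1 < n
    · simp only [rho, dif_pos h]; rfl
    · simp only [rho, dif_neg h]; rfl

/-- the `k`-th signed index -/
def ps (k : ℕ) : Zs n := (rho hn)^[k] (Sum.inl ⟨0, hn⟩)

theorem ps_succ (k : ℕ) : ps hn (k + 1) = rho hn (ps hn k) := Function.iterate_succ_apply' _ _ _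

theorem ps_lt {k : ℕ} (hk : k < n) : ps hn k = Sum.inl ⟨k, hk⟩ := by
  induction k with
  | zero => rfl
  | succ k ih => rw [ps_succ, ih (by omega)]; simp only [rho, dif_pos hk]

theorem ps_n : ps hn n = ng (ps hn 0) := by
  obtain ⟨m, rfl⟩ : ∃ m, n = m + 1 := ⟨n - 1, by omega⟩
  rw [ps_succ, ps_lt hn (by omega : m < m + 1)]
  simp only [rho, lt_irrefl, dif_neg, not_false_eq_true]
  rfl

theorem ps_add (k : ℕ) : ps hn (k + n) = ng (ps hn k) := by
  induction k with
  | zero => rw [zero_add, ps_n]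
  | succ k ih => rw [show k + 1 + n = (k + n) + 1 by ring, ps_succ, ih, rho_ng, ps_succ]

theorem ix_ps (k : ℕ) : ix (ps hn k) = ⟨k % n, Nat.mod_lt _ hn⟩ := by
  induction k using Nat.strong_induction_on with
  | _ k ih =>
    by_cases hk : k < n
    · rw [ps_lt hn hk]
      apply Fin.ext
      show k = k % n
      rw [Nat.mod_eq_of_lt hk]
    · obtain ⟨j, rfl⟩ : ∃ j, k = j + n := ⟨k - n, by omega⟩
      rw [ps_add, ix_ng, ih j (by omega)]
      apply Fin.ext
      show j % n = (j + n) % n
      rw [Nat.add_mod_right]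

theorem ps_surj (a : Zs n) : ∃ k, k < 2 * n ∧ ps hn k = a := by
  rcases a with i | i
  · exact ⟨i.1, by have := i.2; omega, ps_lt hn i.2⟩
  · refine ⟨i.1 + n, by have := i.2; omega, ?_⟩
    rw [ps_add, ps_lt hn i.2]; rfl

theorem ix_ps_ne {k l : ℕ} (h1 : k < l) (h2 : l < k + n) : ix (ps hn k) ≠ ix (ps hn l) := by
  rw [ix_ps, ix_ps]
  intro h
  have h3 : k % n = l % n := congrArg Fin.val h
  have h4 : k ≡ l [MOD n] := h3
  have h5 := (Nat.modEq_iff_dvd' h1.le).1 h4
  exact absurd (Nat.le_of_dvd (by omega) h5) (by omega)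

/-- all short roots from one -/
theorem root_span (S : Zs n → Zs n → Prop) (hsymm : ∀ a b, S a b → S b a)
    (htr : ∀ a b c, ix a ≠ ix b → ix b ≠ ix c → ix a ≠ ix c → S a b → S (ng b) c → S a c)
    (hρ : ∀ a b, ix a ≠ ix b → S a b → S (rho hn a) (rho hn b)) (h0 : S (ps hn 0) (ng (ps hn 1))) (h2 : 1 < n) :
    ∀ a b, ix a ≠ ix b → S a b := by
  have h1 : ∀ k, S (ps hn k) (ng (ps hn (k + 1))) := by
    intro k
    induction k with
    | zero => exact h0
    | succ k ih =>
      have := hρ _ _ (by rw [ix_ng]; exact ix_ps_ne hn (by omega) (by omega)) ih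
      rw [rho_ng, ← ps_succ, ← ps_succ] at this
      exact this
  have h3 : ∀ j k, 0 < j → j < n → S (ps hn k) (ng (ps hn (k + j))) := by
    intro j
    induction j with
    | zero => intro k h; omega
    | succ j ih =>
      intro k _ hj
      by_cases hj0 : j = 0
      · subst hj0; exact h1 k
      · refine htr _ (ng (ps hn (k + j))) _ ?_ ?_ ?_ (ih k (by omega) (by omega)) ?_
        · rw [ix_ng]; exact ix_ps_ne hn (by omega) (by omega)
        · rw [ix_ng, ix_ng]; exact ix_ps_ne hn (by omega) (by omega)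
        · rw [ix_ng]; exact ix_ps_ne hn (by omega) (by omega)
        · rw [ng_ng]; exact h1 (k + j)
  have h4 : ∀ k l, k < l → l < k + 2 * n → ix (ps hn k) ≠ ix (ps hn l) → S (ps hn k) (ng (ps hn l)) := by
    intro k l hkl hl hix
    by_cases hlt : l < k + n
    · have := h3 (l - k) k (by omega) (by omega)
      rwa [show k + (l - k) = l by omega] at this
    · by_cases he : l = k + n
      · subst he
        rw [ps_add, ix_ng] at hix
        exact absurd rfl hix
      · have := h3 (k + 2 * n - l) (l - n) (by omega) (by omega)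
        rw [show l - n + (k + 2 * n - l) = k + n by omega, ps_add, ng_ng] at this
        have h5 : ng (ps hn l) = ps hn (l - n) := by
          obtain ⟨j, rfl⟩ : ∃ j, l = j + n := ⟨l - n, by omega⟩
          rw [ps_add, ng_ng, Nat.add_sub_cancel]
        rw [h5]
        exact hsymm _ _ this
  intro a b hab
  obtain ⟨k, hk, rfl⟩ := ps_surj hn a
  obtain ⟨l, hl, hb⟩ := ps_surj hn (ng b)
  have hb' : b = ng (ps hn l) := by rw [hb, ng_ng]
  subst hb'
  rw [ix_ng] at hab
  rcases lt_trichotomy k l with h | h | h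
  · exact h4 k l h (by omega) hab
  · subst h; exact absurd rfl hab
  · -- shift `l` by `2n`
    have e : ps hn l = ps hn (l + n + n) := by rw [ps_add, ps_add, ng_ng]
    rw [e]
    rw [e] at hab
    exact h4 k (l + n + n) (by omega) (by omega) hab

end Roots

end Cfsg.Agent.Lib.ZsRot
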