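import Cfsg.Agent.Lib.PresSp
import Cfsg.Agent.Lib.ZsRot

/-! Two-generation of `Sp_{2n}(q)` (helper38). -/

set_option autoImplicit false

namespace Cfsg.Agent.Lib.SpTwoGen

open Equiv Matrix Cfsg.Agent.Lib.PresBC Cfsg.Agent.Lib.PresWr Cfsg.Agent.Lib.ClIso Cfsg.Agent.Lib.ClSymp Cfsg.Agent.Lib.ClSymp2
  Cfsg.Agent.Lib.PresSpMod Cfsg.Agent.Lib.PresSpCore Cfsg.Agent.Lib.PresSp Cfsg.Agent.Lib.ZsRot

variable {F : Type*} [Field F] {n : ℕ}

theorem S2_gen {K : Subgroup (S2 F)} (hu : ∀ t, up t ∈ K) (hl : ∀ t, lo t ∈ K) (g : S2 F) : g ∈ K := by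
  have key : ∀ g : S2 F, g.1 1 0 ≠ 0 → g ∈ K := by
    intro g hg
    have hd := g.2
    rw [det_fin_two] at hd
    have e : g = up ((g.1 0 0 - 1) / g.1 1 0) * lo (g.1 1 0) * up ((g.1 1 1 - 1) / g.1 1 0) := by
      apply Subtype.ext
      show g.1 = !![1, (g.1 0 0 - 1) / g.1 1 0; 0, 1] * !![1, 0; g.1 1 0, 1] * !![1, (g.1 1 1 - 1) / g.1 1 0; 0, 1]
      ext i j
      fin_cases i <;> fin_cases j
      · simp [Matrix.mul_apply, Fin.sum_univ_two]
        field_simp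
        ring
      · simp [Matrix.mul_apply, Fin.sum_univ_two]
        field_simp
        linear_combination -hd
      · simp [Matrix.mul_apply, Fin.sum_univ_two]
      · simp [Matrix.mul_apply, Fin.sum_univ_two]
        field_simp
        ring
    rw [e]
    exact mul_mem (mul_mem (hu _) (hl _)) (hu _)
  by_cases h : g.1 1 0 = 0
  · have hd := g.2
    rw [det_fin_two, h, mul_zero, sub_zero] at hd
    have h0 : g.1 0 0 ≠ 0 := by
      intro h0; rw [h0, zero_mul] at hd; exact zero_ne_one hd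
    have h1 : (lo 1 * g : S2 F) ∈ K := key _ (by
      show ((!![1, 0; 1, 1] : Matrix (Fin 2) (Fin 2) F) * g.1) 1 0 ≠ 0
      simp [Matrix.mul_apply, Fin.sum_univ_two, h, h0])
    have := mul_mem (inv_mem (hl 1)) h1
    rwa [inv_mul_cancel_left] at this
  · exact key g h

/-- a subgroup containing all root groups is everything -/
theorem root_gen {K : Subgroup (Sg F n)} (hn : 1 < n) (hs : ∀ a b, ix a ≠ ix b → ∀ t, shh t (ev a) (ev b) ∈ K)
    (hl : ∀ a t, tvv t (ev a) ∈ K) : K = ⊤ := by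
  have hco : ∀ i (g : S2 F), hat F n (co i g) ∈ K := by
    intro i g
    have := S2_gen (K := K.comap ((hat F n).comp (co i))) (fun t => ?_) (fun t => ?_) g
    · exact this
    · show hat F n (co i (up t)) ∈ K
      have h1 := hat_ell (F := F) (Sum.inl i : Zs n) (-t)
      rw [ell, neg_neg] at h1
      rw [h1]; exact hl _ _
    · show hat F n (co i (lo t)) ∈ K
      have h1 := hat_ell (F := F) (Sum.inr i : Zs n) t
      rw [ell] at h1
      rw [h1]; exact hl _ _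
  have hsw : ∀ p q : Fin n, p ≠ q → hat F n (pe (swap p q)) ∈ K := by
    intro p q hpq
    have h1 := model_rf (F := F) hpq
    rw [mf, map_mul, map_mul] at h1
    have h2 : hat F n (pe (swap p q)) = (hat F n (co p (Ag 1)) * hat F n (co q (Ag 1)))⁻¹ * (uh p q * shh 1 (ev (Sum.inr p)) (ev (Sum.inr q)) * uh p q) := by
      rw [h1]; group
    rw [h2]
    exact mul_mem (inv_mem (mul_mem (hco _ _) (hco _ _))) (mul_mem (mul_mem (hs (Sum.inl p) (Sum.inl q) hpq _) (hs (Sum.inr p) (Sum.inr q) hpq _)) (hs (Sum.inl p) (Sum.inl q) hpq _))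
  have hpe : ∀ σ : Perm (Fin n), hat F n (pe σ) ∈ K := by
    intro σ
    have h1 : Subgroup.closure {σ : Perm (Fin n) | σ.IsSwap} ≤ K.comap ((hat F n).comp pe) := by
      rw [Subgroup.closure_le]
      rintro τ ⟨p, q, hpq, rfl⟩
      exact hsw p q hpq
    rw [Equiv.Perm.closure_isSwap] at h1
    exact h1 (Subgroup.mem_top σ)
  have hhat : Set.range (hat F n) ⊆ K := by
    rintro _ ⟨d, rfl⟩
    have h1 : Subgroup.closure (Set.range (pe (A := S2 F) (n := n)) ∪ {x | ∃ i a, x = co i a}) ≤ K.comap (hat F n) := by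
      rw [Subgroup.closure_le]
      rintro _ (⟨σ, rfl⟩ | ⟨i, a, rfl⟩)
      · exact hpe σ
      · exact hco i a
    rw [closure_wr] at h1
    exact h1 (Subgroup.mem_top d)
  have hpq : (⟨0, by omega⟩ : Fin n) ≠ ⟨1, hn⟩ := by simp
  rw [eq_top_iff, ← gen_top hpq, Subgroup.closure_le]
  rintro x (hx | hx)
  · exact hhat hx
  · rw [Set.mem_singleton_iff] at hx
    subst hx
    exact hs (Sum.inl _) (Sum.inl _) hpq _

/-- the Heisenberg relation -/
theorem heis {u x y : VV F n} (h1 : BF F n u x = 0) (h2 : BF F n u y = 0) (s t : F) :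
    shh s u x * shh t u y = shh 1 u (s • x + t • y) * tvv (s * t * BF F n x y) u := by
  have h3 : BF F n u (s • x + t • y) = 0 := by rw [map_add, map_smul, map_smul, h1, h2]; simp
  have h1' : BF F n x u = 0 := by rw [hBF.skew, h1, neg_zero]
  have h2' : BF F n y u = 0 := by rw [hBF.skew, h2, neg_zero]
  apply Spg_ext
  intro z
  rw [ClSymp.mul_apply', ClSymp.mul_apply', sh_apply _ _ _ _ h1, sh_apply _ _ _ _ h2, sh_apply _ _ _ _ h3, tv_apply]
  simp only [map_add, map_smul, LinearMap.add_apply, LinearMap.smul_apply, hBF.alt, h1, h2, h1', h2', smul_eq_mul]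
  module

/-- the rotation of indices -/
def rt (hn : 0 < n) (i : Fin n) : Fin n := if h : i.1 + 1 < n then ⟨i.1 + 1, h⟩ else ⟨0, hn⟩

theorem rt_inj (hn : 0 < n) : Function.Injective (rt hn) := by
  intro i j h
  have hi' := i.2
  have hj' := j.2
  apply Fin.ext
  unfold rt at h
  by_cases hi : i.1 + 1 < n <;> by_cases hj : j.1 + 1 < n
  · rw [dif_pos hi, dif_pos hj] at h
    have := congrArg Fin.val h
    simp only at this; omega
  · rw [dif_pos hi, dif_neg hj] at h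
    have := congrArg Fin.val h
    simp only at this; omega
  · rw [dif_neg hi, dif_pos hj] at h
    have := congrArg Fin.val h
    simp only at this; omega
  · omega

/-- the rotation as an element of the wreath product -/
noncomputable def wd (hn : 0 < n) : Wr (S2 F) n := co ⟨0, hn⟩ (Ag 1) * pe (Equiv.ofBijective (rt hn) (Finite.injective_iff_bijective.1 (rt_inj hn)))

theorem hat_wd (hn : 0 < n) (a : Zs n) : ∃ c : F, (c = 1 ∨ c = -1) ∧ (hat F n (wd hn) : VV F n ≃ₗ[F] VV F n) (ev a) = c • ev (rho hn a) := by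
  rw [wd, map_mul, ClSymp.mul_apply', hat_pe]
  rcases a with i | i
  · rw [Sum.map_inl, Equiv.ofBijective_apply]
    by_cases h : i.1 + 1 < n
    · refine ⟨1, Or.inl rfl, ?_⟩
      simp only [rho, rt, dif_pos h]
      rw [hat_co_fix, one_smul]
      simp [ix]
    · refine ⟨1, Or.inl rfl, ?_⟩
      simp only [rho, rt, dif_neg h]
      rw [hat_co_inl]
      simp [Ag]
  · rw [Sum.map_inr, Equiv.ofBijective_apply]
    by_cases h : i.1 + 1 < n
    · refine ⟨1, Or.inl rfl, ?_⟩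
      simp only [rho, rt, dif_pos h]
      rw [hat_co_fix, one_smul]
      simp [ix]
    · refine ⟨-1, Or.inr rfl, ?_⟩
      simp only [rho, rt, dif_neg h]
      rw [hat_co_inr]
      simp [Ag]

/-- from the rotation and one short root group to all short root groups -/
theorem short_all (hn : 0 < n) (hn1 : 1 < n) {K : Subgroup (Sg F n)} (hw : hat F n (wd hn) ∈ K)
    (h0 : ∀ t, shh t (ev (ps hn 0)) (ev (ng (ps hn 1))) ∈ K) (a b : Zs n) (hab : ix a ≠ ix b) (t : F) : shh t (ev a) (ev b) ∈ K := by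
  have := root_span hn (fun a b => ix a ≠ ix b → ∀ t : F, shh t (ev a) (ev b) ∈ K) ?_ ?_ ?_ (fun _ => h0) hn1 a b hab hab t
  · exact this
  · intro a b h hab t
    rw [shh_symm _ _ _ (B_ne (F := F) (ix_ne' hab))]
    exact h hab.symm t
  · intro a b c hab hbc hac h1 h2 _ t
    have e1 := h1 hab
    have e2 := h2 (by rw [ix_ng]; exact hbc)
    -- `[a + b, -b + c]`
    have hB : BF F n (ev b) (ev (ng b)) = sg b := B_ng b
    have hs := sg_ne (F := F) b
    have hbc' : ix c ≠ ix (ng b) := by rw [ix_ng]; exact hbc.symm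
    have hab' : ix a ≠ ix (ng b) := by rw [ix_ng]; exact hab
    have h := comm_sh_sh hBF t 1 (ev c) ((sg b)⁻¹ • ev (ng b)) (ev a) (ev b) (by
      rw [map_smul, B_ne (F := F) (ix_ne' hbc'), smul_zero]) (B_ne (F := F) (ix_ne' hac.symm)) (B_ne (F := F) (ix_ne' hbc.symm)) (by
      rw [map_smul, B_ne (F := F) (ix_ne' hab'), smul_zero]) (B_ne (F := F) (ix_ne' hab)) (by
      rw [map_smul, hB, smul_eq_mul, inv_mul_cancel₀ hs])
    have h3 : shh t (ev c) ((sg b : F)⁻¹ • ev (ng b)) ∈ K := by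
      have h4 := shh_smul (F := F) t 1 (sg b)⁻¹ (ev c) (ev (ng b)) (B_ne (F := F) (ix_ne' hbc'))
      rw [one_smul] at h4
      rw [h4, shh_symm _ _ _ (B_ne (F := F) (ix_ne' hbc'))]
      exact e2 _
    rw [mul_one] at h
    rw [shh_symm _ _ _ (B_ne (F := F) (ix_ne' hac))]
    change _ = shh t (ev c) (ev a) at h
    rw [← h, commutatorElement_def]
    exact mul_mem (mul_mem (mul_mem (e1 _) h3) (inv_mem (e1 _))) (inv_mem h3)
  · intro a b hab h _ t
    obtain ⟨c, hc, hwa⟩ := hat_wd (F := F) hn a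
    obtain ⟨d, hd, hwb⟩ := hat_wd (F := F) hn b
    have hc0 : c ≠ 0 := by rcases hc with rfl | rfl <;> simp
    have hd0 : d ≠ 0 := by rcases hd with rfl | rfl <;> simp
    have hB : BF F n (ev (rho hn a)) (ev (rho hn b)) = 0 := by
      have h1 := Spg_apply (hat F n (wd hn)) (ev a) (ev b)
      rw [hwa, hwb, B_ne (F := F) (ix_ne' hab), map_smul, map_smul, LinearMap.smul_apply, smul_eq_mul, smul_eq_mul] at h1
      rcases mul_eq_zero.1 h1 with h2 | h2
      · exact absurd h2 hd0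
      · rcases mul_eq_zero.1 h2 with h3 | h3
        · exact absurd h3 hc0
        · exact h3
    have h1 := sh_conj hBF (hat F n (wd hn)) (t * c⁻¹ * d⁻¹) (ev a) (ev b)
    rw [hwa, hwb] at h1
    have h2 := shh_smul (F := F) (t * c⁻¹ * d⁻¹) c d _ _ hB
    have h3 : t * c⁻¹ * d⁻¹ * c * d = t := by field_simp
    rw [h3] at h2
    change _ = shh (t * c⁻¹ * d⁻¹) (c • ev (rho hn a)) (d • ev (rho hn b)) at h1
    rw [← h2, ← h1]
    exact mul_mem (mul_mem hw (h hab _)) (inv_mem hw)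

/-- from the rotation and one long root group to all long root groups -/
theorem long_all (hn : 0 < n) {K : Subgroup (Sg F n)} (hw : hat F n (wd hn) ∈ K)
    (h0 : ∀ t, tvv t (ev (ps hn 0)) ∈ K) (a : Zs n) (t : F) : tvv t (ev a) ∈ K := by
  obtain ⟨k, -, rfl⟩ := ps_surj hn a
  induction k generalizing t with
  | zero => exact h0 t
  | succ k ih =>
    obtain ⟨c, hc, hwa⟩ := hat_wd (F := F) hn (ps hn k)
    have h1 := tv_conj hBF (hat F n (wd hn)) t (ev (ps hn k))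
    rw [hwa, tv_smul, ← ps_succ] at h1
    have h3 : c ^ 2 = 1 := by rcases hc with rfl | rfl <;> ring
    rw [h3, mul_one] at h1
    change _ = tvv t (ev (ps hn (k + 1))) at h1
    rw [← h1]
    exact mul_mem (mul_mem hw (ih t)) (inv_mem hw)

/-- long root groups from short ones in odd characteristic -/
theorem long_odd (h2 : (2 : F) ≠ 0) (hn : 1 < n) {K : Subgroup (Sg F n)} (hs : ∀ a b, ix a ≠ ix b → ∀ t, shh t (ev a) (ev b) ∈ K)
    (a : Zs n) (t : F) : tvv t (ev a) ∈ K := by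
  obtain ⟨b, hb⟩ : ∃ b : Zs n, ix a ≠ ix b := by
    by_cases h : ix a = ⟨0, by omega⟩
    · exact ⟨Sum.inl ⟨1, hn⟩, by rw [h]; simp [ix]⟩
    · exact ⟨Sum.inl ⟨0, by omega⟩, h⟩
  have hb' : ix a ≠ ix (ng b) := by rw [ix_ng]; exact hb
  have hsg := sg_ne (F := F) b
  set s : F := t / (2 * sg b) with hsd
  have e1 := heis (F := F) (B_ne (F := F) (ix_ne' hb)) (B_ne (F := F) (ix_ne' hb')) s 1
  have e2 := heis (F := F) (B_ne (F := F) (ix_ne' hb')) (B_ne (F := F) (ix_ne' hb)) 1 s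
  rw [B_ng, mul_one] at e1
  rw [B_ng', one_mul, add_comm] at e2
  have e3 : tvv t (ev a) = (shh 1 (ev a) (ev (ng b)) * shh s (ev a) (ev b))⁻¹ * (shh s (ev a) (ev b) * shh 1 (ev a) (ev (ng b))) := by
    rw [e1, e2, _root_.mul_inv_rev, tv_inv, mul_assoc, inv_mul_cancel_left, tv_mul]
    congr 1
    rw [hsd]
    field_simp
    ring
  rw [e3]
  exact mul_mem (inv_mem (mul_mem (hs _ _ hb' _) (hs _ _ hb _))) (mul_mem (hs _ _ hb _) (hs _ _ hb' _))

/-! ### two generators, more than two elements in the field -/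

/-- the diagonal homomorphism -/
def Dh : Fˣ →* S2 F where
  toFun := Dg
  map_one' := Dg_one
  map_mul' x y := by
    apply Subtype.ext
    show !![((x * y : Fˣ) : F), 0; 0, (((x * y)⁻¹ : Fˣ) : F)] = !![(x : F), 0; 0, ((x⁻¹ : Fˣ) : F)] * !![(y : F), 0; 0, ((y⁻¹ : Fˣ) : F)]
    ext a b
    fin_cases a <;> fin_cases b <;> simp [Matrix.mul_apply, Fin.sum_univ_two, mul_comm]

theorem Dh_apply (x : Fˣ) : (Dh x : S2 F) = Dg x := rfl

theorem Ag_conj (x : Fˣ) : (Ag 1 : S2 F) * Dg x * (Ag 1)⁻¹ = (Dg x)⁻¹ := by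
  rw [mul_inv_eq_iff_eq_mul, ← Dh_apply, ← map_inv, Dh_apply, Dh_apply]
  apply Subtype.ext
  show !![0, -((1⁻¹ : Fˣ) : F); ((1 : Fˣ) : F), 0] * !![(x : F), 0; 0, ((x⁻¹ : Fˣ) : F)] =
    !![((x⁻¹ : Fˣ) : F), 0; 0, (((x⁻¹)⁻¹ : Fˣ) : F)] * !![0, -((1⁻¹ : Fˣ) : F); ((1 : Fˣ) : F), 0]
  ext a b
  fin_cases a <;> fin_cases b <;> simp [Matrix.mul_apply, Fin.sum_univ_two]

/-- torus elements -/
noncomputable def tor (i : Fin n) (x : Fˣ) : Sg F n := hat F n (co i (Dg x))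

theorem tor_zpow (i : Fin n) (x : Fˣ) (k : ℤ) : (tor i x : Sg F n) ^ k = tor i (x ^ k) := by
  rw [tor, ← map_zpow, ← map_zpow, ← Dh_apply, ← map_zpow]; rfl

theorem tor_inv (i : Fin n) (x : Fˣ) : (tor i x : Sg F n)⁻¹ = tor i x⁻¹ := by
  have := tor_zpow (n := n) i x (-1)
  rwa [_root_.zpow_neg_one, _root_.zpow_neg_one] at this

theorem tor_inl (i : Fin n) (x : Fˣ) : (tor i x : VV F n ≃ₗ[F] VV F n) (ev (Sum.inl i)) = (x : F) • ev (Sum.inl i) := by
  rw [tor, hat_co_inl]; simp [Dg]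

theorem tor_inr (i : Fin n) (x : Fˣ) : (tor i x : VV F n ≃ₗ[F] VV F n) (ev (Sum.inr i)) = ((x⁻¹ : Fˣ) : F) • ev (Sum.inr i) := by
  rw [tor, hat_co_inr]; simp [Dg]

theorem tor_ne {i : Fin n} {a : Zs n} (h : ix a ≠ i) (x : Fˣ) : (tor i x : VV F n ≃ₗ[F] VV F n) (ev a) = ev a := hat_co_fix h _

theorem tor_comm (i j : Fin n) (x y : Fˣ) : Commute (tor i x : Sg F n) (tor j y) := by
  by_cases h : i = j
  · subst h
    rw [tor, tor, ← Dh_apply, ← Dh_apply]
    exact ((Commute.all x y).map Dh).map ((hat F n).comp (co i))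
  · exact (co_comm h _ _).map (hat F n)

theorem w_tor (hn : 0 < n) (i : Fin n) (x : Fˣ) : hat F n (wd hn) * tor i x * (hat F n (wd hn))⁻¹ =
    if i.1 + 1 < n then tor (rt hn i) x else (tor ⟨0, hn⟩ x)⁻¹ := by
  rw [tor, ← map_inv, ← map_mul, ← map_mul, wd]
  set τ := Equiv.ofBijective (rt hn) (Finite.injective_iff_bijective.1 (rt_inj hn)) with hτ
  have e : (co ⟨0, hn⟩ (Ag 1) * pe τ : Wr (S2 F) n) * co i (Dg x) * (co ⟨0, hn⟩ (Ag 1) * pe τ)⁻¹ =
      co ⟨0, hn⟩ (Ag 1) * (pe τ * co i (Dg x) * (pe τ)⁻¹) * (co ⟨0, hn⟩ (Ag 1))⁻¹ := by group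
  rw [e, pe_co]
  have hτi : τ i = rt hn i := rfl
  rw [hτi]
  by_cases h : i.1 + 1 < n
  · rw [if_pos h]
    have hne : (⟨0, hn⟩ : Fin n) ≠ rt hn i := by
      unfold rt; rw [dif_pos h]; simp
    rw [(co_comm hne (Ag 1) (Dg x)).eq, mul_inv_cancel_right]
    rfl
  · rw [if_neg h]
    have he : rt hn i = ⟨0, hn⟩ := by unfold rt; rw [dif_neg h]
    rw [he, ← map_inv, ← map_mul, ← map_mul, Ag_conj, map_inv, map_inv]
    rfl

theorem two_gen_big [Fintype F] (hF : 2 < Fintype.card F) (hn1 : 1 < n) : ∃ a b : Sg F n, Subgroup.closure {a, b} = ⊤ := by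
  classical
  have hn : 0 < n := by omega
  obtain ⟨ζ, hζ⟩ := IsCyclic.exists_generator (α := Fˣ)
  have hζ1 : ζ ≠ 1 := by
    rintro rfl
    have h1 : Fintype.card Fˣ = 1 := by
      rw [Fintype.card_eq_one_iff]
      exact ⟨1, fun y => by simpa using hζ y⟩
    rw [Fintype.card_units] at h1
    omega
  have hζ1' : (ζ : F) ≠ 1 := fun h => hζ1 (Units.ext h)
  let i0 : Fin n := ⟨0, hn⟩
  let i1 : Fin n := ⟨1, hn1⟩
  have h01 : i0 ≠ i1 := by simp [i0, i1]
  have hB : BF F n (ev (Sum.inl i0)) (ev (Sum.inr i1)) = 0 := B_ne (by simp [ng, h01.symm])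
  let X : F → Sg F n := fun t => shh t (ev (Sum.inl i0)) (ev (Sum.inr i1))
  let T : F → Sg F n := fun t => tvv t (ev (Sum.inl i0))
  have hXadd : ∀ s t, X s * X t = X (s + t) := fun s t => shh_add s t _ _ hB
  have hXinv : ∀ t, (X t)⁻¹ = X (-t) := fun t => sh_inv hBF t _ _ hB
  have hX0 : ∀ (x : Fˣ) t, tor i0 x * X t * (tor i0 x)⁻¹ = X (x * t) := by
    intro x t
    show tor i0 x * shh t (ev (Sum.inl i0)) (ev (Sum.inr i1)) * (tor i0 x)⁻¹ = _
    rw [sh_conj, tor_inl, tor_ne (a := Sum.inr i1) h01.symm]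
    have := shh_smul (F := F) t x 1 _ _ hB
    rw [one_smul, mul_one, mul_comm t] at this
    exact this
  have hX1 : ∀ (x : Fˣ) t, tor i1 x * X t * (tor i1 x)⁻¹ = X ((x⁻¹ : Fˣ) * t) := by
    intro x t
    show tor i1 x * shh t (ev (Sum.inl i0)) (ev (Sum.inr i1)) * (tor i1 x)⁻¹ = _
    rw [sh_conj, tor_inr, tor_ne (a := Sum.inl i0) h01]
    have := shh_smul (F := F) t 1 ((x⁻¹ : Fˣ) : F) _ _ hB
    rw [one_smul, mul_one, mul_comm t] at this
    exact this
  have hT0 : ∀ (x : Fˣ) t, tor i0 x * T t * (tor i0 x)⁻¹ = T (t * (x : F) ^ 2) := by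
    intro x t
    show tor i0 x * tvv t (ev (Sum.inl i0)) * (tor i0 x)⁻¹ = _
    rw [tv_conj, tor_inl, tv_smul]
  have hTc : ∀ i ≠ i0, ∀ (x : Fˣ) t, Commute (tor i x : Sg F n) (T t) := by
    intro i hi x t
    have : tor i x * T t * (tor i x)⁻¹ = T t := by
      show tor i x * tvv t (ev (Sum.inl i0)) * (tor i x)⁻¹ = _
      rw [tv_conj, tor_ne (a := Sum.inl i0) (fun h => hi h.symm)]
    exact mul_inv_eq_iff_eq_mul.1 this
  let c : F := if (2 : F) = 0 then 1 else 0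
  set w := hat F n (wd hn) with hw
  set K := Subgroup.closure {tor i0 ζ, X 1 * T c * w} with hK
  have ha : tor i0 ζ ∈ K := Subgroup.subset_closure (Or.inl rfl)
  have hb : X 1 * T c * w ∈ K := Subgroup.subset_closure (Or.inr rfl)
  have hax : ∀ x, tor i0 x ∈ K := by
    intro x
    obtain ⟨k, rfl⟩ := Subgroup.mem_zpowers_iff.1 (hζ x)
    rw [← tor_zpow]
    exact zpow_mem ha k
  have hwt : w * tor i0 ζ * w⁻¹ = tor i1 ζ := by
    rw [hw, w_tor, if_pos (show (i0 : Fin n).1 + 1 < n from hn1)]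
    congr 1
    unfold rt
    rw [dif_pos (show (i0 : Fin n).1 + 1 < n from hn1)]
  -- the first root group
  have hX : ∀ t, X t ∈ K := by
    have h1 : X (1 - (ζ⁻¹ : Fˣ)) * tor i1 ζ ∈ K := by
      have h2 := mul_mem (mul_mem hb ha) (inv_mem hb)
      have e : X 1 * T c * w * tor i0 ζ * (X 1 * T c * w)⁻¹ = X (1 - (ζ⁻¹ : Fˣ)) * tor i1 ζ := by
        calc X 1 * T c * w * tor i0 ζ * (X 1 * T c * w)⁻¹ = X 1 * (T c * (w * tor i0 ζ * w⁻¹) * (T c)⁻¹) * (X 1)⁻¹ := by group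
          _ = X 1 * tor i1 ζ * (X 1)⁻¹ := by rw [hwt, ← (hTc i1 h01.symm ζ c).eq, mul_inv_cancel_right]
          _ = X 1 * (tor i1 ζ * (X 1)⁻¹ * (tor i1 ζ)⁻¹) * tor i1 ζ := by group
          _ = _ := by rw [hXinv, hX1, hXadd, mul_neg, mul_one, sub_eq_add_neg]
      rwa [e] at h2
    have h3 : X (ζ * (1 - (ζ⁻¹ : Fˣ)) - (1 - (ζ⁻¹ : Fˣ))) ∈ K := by
      have h2 := mul_mem (mul_mem (mul_mem ha h1) (inv_mem ha)) (inv_mem h1)
      have e : tor i0 ζ * (X (1 - (ζ⁻¹ : Fˣ)) * tor i1 ζ) * (tor i0 ζ)⁻¹ * (X (1 - (ζ⁻¹ : Fˣ)) * tor i1 ζ)⁻¹ =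
          X (ζ * (1 - (ζ⁻¹ : Fˣ)) - (1 - (ζ⁻¹ : Fˣ))) := by
        calc tor i0 ζ * (X (1 - (ζ⁻¹ : Fˣ)) * tor i1 ζ) * (tor i0 ζ)⁻¹ * (X (1 - (ζ⁻¹ : Fˣ)) * tor i1 ζ)⁻¹ =
            (tor i0 ζ * X (1 - (ζ⁻¹ : Fˣ)) * (tor i0 ζ)⁻¹) * ((tor i0 ζ * tor i1 ζ) * (tor i0 ζ)⁻¹ * (tor i1 ζ)⁻¹) * (X (1 - (ζ⁻¹ : Fˣ)))⁻¹ := by group
          _ = _ := by rw [hX0, (tor_comm i0 i1 ζ ζ).eq, mul_inv_cancel_right, mul_inv_cancel, mul_one, hXinv, hXadd, ← sub_eq_add_neg]
      rwa [e] at h2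
    intro t
    by_cases ht : t = 0
    · rw [ht]
      have : X 0 = 1 := shh_zero _ _ hB
      rw [this]; exact one_mem _
    set s : F := ζ * (1 - (ζ⁻¹ : Fˣ)) - (1 - (ζ⁻¹ : Fˣ)) with hs
    have hs0 : s ≠ 0 := by
      have : s = (ζ - 1) * (1 - (ζ⁻¹ : Fˣ)) := by rw [hs]; ring
      rw [this]
      apply mul_ne_zero (sub_ne_zero.2 hζ1')
      rw [sub_ne_zero]
      intro h
      apply hζ1
      have h' : (ζ⁻¹ : Fˣ) = 1 := Units.ext h.symm
      rwa [inv_eq_one] at h'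
    have h4 := mul_mem (mul_mem (hax (Units.mk0 (t / s) (div_ne_zero ht hs0))) h3) (inv_mem (hax (Units.mk0 (t / s) (div_ne_zero ht hs0))))
    rw [hX0, Units.val_mk0, div_mul_cancel₀ _ hs0] at h4
    exact h4
  have hb' : T c * w ∈ K := by
    have := mul_mem (inv_mem (hX 1)) hb
    rwa [mul_assoc, inv_mul_cancel_left] at this
  -- the rotation
  have hps0 : (ps hn 0 : Zs n) = Sum.inl i0 := rfl
  have hps1 : (ps hn 1 : Zs n) = Sum.inl i1 := ps_lt hn hn1
  have hXps : w ∈ K → ∀ a b, ix a ≠ ix b → ∀ t, shh t (ev a) (ev b) ∈ K := by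
    intro hwK a b hab t
    refine short_all hn hn1 hwK ?_ a b hab t
    rw [hps0, hps1]
    exact hX
  refine ⟨tor i0 ζ, X 1 * T c * w, ?_⟩
  rw [← hK]
  by_cases h2 : (2 : F) = 0
  · have hc : c = 1 := if_pos h2
    rw [hc] at hb'
    haveI : CharP F 2 := CharTwo.of_one_ne_zero_of_two_eq_zero one_ne_zero h2
    -- all torus elements
    have htor : ∀ k (hk : k < n) x, tor ⟨k, hk⟩ x ∈ K := by
      intro k
      induction k with
      | zero => exact fun _ x => hax x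
      | succ k ih =>
        intro hk x
        have h1 := mul_mem (mul_mem hb' (ih (by omega) x)) (inv_mem hb')
        have e : T 1 * w * tor ⟨k, by omega⟩ x * (T 1 * w)⁻¹ = tor ⟨k + 1, hk⟩ x := by
          calc T 1 * w * tor ⟨k, by omega⟩ x * (T 1 * w)⁻¹ = T 1 * (w * tor ⟨k, by omega⟩ x * w⁻¹) * (T 1)⁻¹ := by group
            _ = T 1 * tor ⟨k + 1, hk⟩ x * (T 1)⁻¹ := by
              rw [hw, w_tor, if_pos (show (⟨k, by omega⟩ : Fin n).1 + 1 < n from hk)]
              congr 3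
              unfold rt
              rw [dif_pos (show (⟨k, by omega⟩ : Fin n).1 + 1 < n from hk)]
            _ = _ := by
              rw [← (hTc ⟨k + 1, hk⟩ (by simp [i0]) x 1).eq, mul_inv_cancel_right]
        rwa [e] at h1
    -- the long root group
    have hTT : ∀ t, T t ∈ K := by
      have h1 : ∀ x : Fˣ, T 1 * (tor i0 x)⁻¹ * (T 1)⁻¹ ∈ K := by
        intro x
        have h1 := mul_mem (mul_mem hb' (htor (n - 1) (by omega) x)) (inv_mem hb')
        have e : T 1 * w * tor ⟨n - 1, by omega⟩ x * (T 1 * w)⁻¹ = T 1 * (tor i0 x)⁻¹ * (T 1)⁻¹ := by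
          calc T 1 * w * tor ⟨n - 1, by omega⟩ x * (T 1 * w)⁻¹ = T 1 * (w * tor ⟨n - 1, by omega⟩ x * w⁻¹) * (T 1)⁻¹ := by group
            _ = _ := by
              rw [hw, w_tor, if_neg (show ¬ (⟨n - 1, by omega⟩ : Fin n).1 + 1 < n by simp; omega)]
        rwa [e] at h1
      have h2' : T (1 - ((ζ⁻¹ : Fˣ) : F) ^ 2) ∈ K := by
        have h3 := mul_mem (h1 ζ) (hax ζ)
        have e : T 1 * (tor i0 ζ)⁻¹ * (T 1)⁻¹ * tor i0 ζ = T (1 - ((ζ⁻¹ : Fˣ) : F) ^ 2) := by
          have e1 := hT0 ζ⁻¹ (-1)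
          rw [← tor_inv, inv_inv] at e1
          have e2 : (T 1)⁻¹ = T (-1) := tv_inv hBF _ _
          calc T 1 * (tor i0 ζ)⁻¹ * (T 1)⁻¹ * tor i0 ζ = T 1 * ((tor i0 ζ)⁻¹ * T (-1) * tor i0 ζ) := by rw [e2]; group
            _ = T 1 * T (-1 * ((ζ⁻¹ : Fˣ) : F) ^ 2) := by rw [e1]
            _ = T (1 + -1 * ((ζ⁻¹ : Fˣ) : F) ^ 2) := tv_mul hBF _ _ _
            _ = _ := by congr 1; ring
        rwa [e] at h3
      set s : F := 1 - ((ζ⁻¹ : Fˣ) : F) ^ 2 with hs
      have hs0 : s ≠ 0 := by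
        rw [hs, sub_ne_zero]
        intro h
        apply hζ1
        have h5 : (((ζ⁻¹ : Fˣ) : F) - 1) ^ 2 = 0 := by
          have : (((ζ⁻¹ : Fˣ) : F) - 1) ^ 2 = ((ζ⁻¹ : Fˣ) : F) ^ 2 - 1 - 2 * (((ζ⁻¹ : Fˣ) : F) - 1) := by ring
          rw [this, ← h, h2]; ring
        have h6 := sub_eq_zero.1 (pow_eq_zero_iff (two_ne_zero) |>.1 h5)
        have h' : (ζ⁻¹ : Fˣ) = 1 := Units.ext h6
        rwa [inv_eq_one] at h'
      intro t
      by_cases ht : t = 0
      · rw [ht]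
        have : T 0 = 1 := tv_zero hBF _
        rw [this]; exact one_mem _
      obtain ⟨y, hy⟩ := FiniteField.isSquare_of_char_two (ringChar.eq F 2).symm.symm (t / s)
      have hy0 : y ≠ 0 := by
        rintro rfl
        rw [mul_zero] at hy
        exact (div_ne_zero ht hs0) hy
      have h4 := mul_mem (mul_mem (hax (Units.mk0 y hy0)) h2') (inv_mem (hax (Units.mk0 y hy0)))
      rw [hT0, Units.val_mk0] at h4
      have e : s * y ^ 2 = t := by
        rw [sq, ← hy]; field_simp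
      rwa [e] at h4
    have hwK : w ∈ K := by
      have := mul_mem (inv_mem (hTT 1)) hb'
      rwa [inv_mul_cancel_left] at this
    exact root_gen hn1 (hXps hwK) (long_all hn hwK hTT)
  · have hc : c = 0 := if_neg h2
    have hwK : w ∈ K := by
      rw [hc] at hb'
      have : T 0 = 1 := tv_zero hBF _
      rwa [this, one_mul] at hb'
    exact root_gen hn1 (hXps hwK) (long_odd h2 hn1 (hXps hwK))

/-! ### the field with two elements -/

/-- an element of order three -/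
def R3 : S2 F := ⟨!![-1, -1; 1, 0], by simp [det_fin_two]⟩

theorem R3_pow : (R3 : S2 F) ^ 3 = 1 := by
  rw [pow_three]
  apply Subtype.ext
  show (!![-1, -1; 1, 0] : Matrix (Fin 2) (Fin 2) F) * (!![-1, -1; 1, 0] * !![-1, -1; 1, 0]) = 1
  ext a b
  fin_cases a <;> fin_cases b <;> simp [Matrix.mul_apply, Fin.sum_univ_two]

theorem two_gen_two [Fintype F] (hF : Fintype.card F = 2) (hn2 : 2 < n) : ∃ a b : Sg F n, Subgroup.closure {a, b} = ⊤ := by
  classical
  have hn : 0 < n := by omega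
  have hn1 : 1 < n := by omega
  have h01F : ∀ t : F, t = 0 ∨ t = 1 := by
    intro t
    by_contra h
    push Not at h
    have h1 : ({0, 1, t} : Finset F).card ≤ 2 := by rw [← hF]; exact Finset.card_le_univ _
    rw [Finset.card_insert_of_notMem (by simp [h.1.symm]), Finset.card_insert_of_notMem (by simpa using h.2.symm), Finset.card_singleton] at h1
    omega
  have h2 : (1 : F) + 1 = 0 := by
    rcases h01F (1 + 1) with h | h
    · exact h
    · exact absurd (add_eq_left.1 h) one_ne_zero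
  let i0 : Fin n := ⟨0, hn⟩
  let i1 : Fin n := ⟨1, hn1⟩
  let i2 : Fin n := ⟨2, hn2⟩
  have h01 : i0 ≠ i1 := by simp [i0, i1]
  have h02 : i0 ≠ i2 := by simp [i0, i2]
  have h12 : i1 ≠ i2 := by simp [i1, i2]
  have hB : BF F n (ev (Sum.inl i0)) (ev (Sum.inr i1)) = 0 := B_ne (by simp [ng, h01.symm])
  let X : F → Sg F n := fun t => shh t (ev (Sum.inl i0)) (ev (Sum.inr i1))
  have hXadd : ∀ s t, X s * X t = X (s + t) := fun s t => shh_add s t _ _ hB
  have hX0 : X 0 = 1 := shh_zero _ _ hB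
  set w := hat F n (wd hn) with hw
  set r : Sg F n := hat F n (co i2 R3) with hr
  have hcomm : Commute r (X 1) := by
    have := sh_conj hBF r 1 (ev (Sum.inl i0)) (ev (Sum.inr i1))
    rw [hr, hat_co_fix (a := Sum.inl i0) h02, hat_co_fix (a := Sum.inr i1) h12] at this
    exact mul_inv_eq_iff_eq_mul.1 this
  have hr3 : r ^ 3 = 1 := by rw [hr, ← map_pow, ← map_pow, R3_pow, map_one, map_one]
  have hX2 : X 1 ^ 2 = 1 := by rw [sq, hXadd, h2, hX0]
  set K := Subgroup.closure {w, X 1 * r} with hK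
  have hwK : w ∈ K := Subgroup.subset_closure (Or.inl rfl)
  have hb : X 1 * r ∈ K := Subgroup.subset_closure (Or.inr rfl)
  have hXK : X 1 ∈ K := by
    have h3 := pow_mem hb 3
    rw [hcomm.symm.mul_pow, hr3, mul_one, pow_succ, hX2, one_mul] at h3
    exact h3
  have hrK : r ∈ K := by
    have := mul_mem (inv_mem hXK) hb
    rwa [inv_mul_cancel_left] at this
  have hps0 : (ps hn 0 : Zs n) = Sum.inl i0 := rfl
  have hps1 : (ps hn 1 : Zs n) = Sum.inl i1 := ps_lt hn hn1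
  have hS : ∀ a b, ix a ≠ ix b → ∀ t, shh t (ev a) (ev b) ∈ K := by
    intro a b hab t
    refine short_all hn hn1 hwK ?_ a b hab t
    rw [hps0, hps1]
    intro t
    rcases h01F t with rfl | rfl
    · show X 0 ∈ K
      rw [hX0]; exact one_mem _
    · exact hXK
  refine ⟨w, X 1 * r, ?_⟩
  rw [← hK]
  refine root_gen hn1 hS (long_all hn hwK ?_)
  rw [hps0]
  intro t
  have hix : ix (Sum.inl i0 : Zs n) ≠ ix (Sum.inl i2 : Zs n) := h02
  have hix' : ix (Sum.inl i0 : Zs n) ≠ ix (Sum.inr i2 : Zs n) := h02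
  rcases h01F t with rfl | rfl
  · have : tvv (0 : F) (ev (Sum.inl i0 : Zs n)) = 1 := tv_zero hBF _
    rw [this]; exact one_mem _
  · have e1 := heis (F := F) (B_ne (ix_ne' hix)) (B_ne (ix_ne' hix')) (-1) 1
    have e2 : BF F n (ev (Sum.inl i2)) (ev (Sum.inr i2)) = -1 := B_ng (Sum.inl i2)
    rw [e2, one_smul, neg_one_smul] at e1
    have e3 := sh_conj hBF r 1 (ev (Sum.inl i0)) (ev (Sum.inl i2))
    rw [hr, hat_co_fix (a := Sum.inl i0) h02, hat_co_inl] at e3
    have e4 : (R3 : S2 F).1 0 0 = -1 := rfl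
    have e5 : (R3 : S2 F).1 1 0 = 1 := rfl
    rw [e4, e5, one_smul, neg_one_smul, ← hr] at e3
    have h4 : shh 1 (ev (Sum.inl i0)) (-ev (Sum.inl i2) + ev (Sum.inr i2)) ∈ K := by
      change _ = shh 1 (ev (Sum.inl i0)) (-ev (Sum.inl i2) + ev (Sum.inr i2)) at e3
      rw [← e3]
      exact mul_mem (mul_mem hrK (hS _ _ hix _)) (inv_mem hrK)
    have h5 := mul_mem (inv_mem h4) (mul_mem (hS _ _ hix (-1)) (hS _ _ hix' 1))
    rw [e1, inv_mul_cancel_left] at h5
    have e6 : (-1 : F) * 1 * (-1) = 1 := by ring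
    rwa [e6] at h5

theorem two_gen [Fintype F] (hn : 2 ≤ n) (hF : n = 2 → 2 < Fintype.card F) : ∃ a b : Sg F n, Subgroup.closure {a, b} = ⊤ := by
  by_cases h : 2 < Fintype.card F
  · exact two_gen_big h (by omega)
  · have h1 : 1 < Fintype.card F := Fintype.one_lt_card
    exact two_gen_two (by omega) (by
      rcases Nat.lt_or_ge 2 n with h2 | h2
      · exact h2
      · exact absurd (hF (by omega)) h)

theorem two_gen_psp [Fintype F] (hn : 2 ≤ n) (hF : n = 2 → 2 < Fintype.card F) : ∃ a b : Cfsg.PSp n F, Subgroup.closure {a, b} = ⊤ := by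
  obtain ⟨a, b, hab⟩ := two_gen (F := F) hn hF
  let f : Sg F n →* Cfsg.PSp n F := (QuotientGroup.mk' _).comp (sympEquiv (Fin n) F).symm.toMonoidHom
  have hf : Function.Surjective f := (QuotientGroup.mk'_surjective _).comp (sympEquiv (Fin n) F).symm.surjective
  refine ⟨f a, f b, ?_⟩
  have h1 : (Subgroup.closure {a, b}).map f = ⊤ := by
    rw [hab, ← MonoidHom.range_eq_map, MonoidHom.range_eq_top]; exact hf
  rw [← h1, MonoidHom.map_closure, Set.image_pair]

end Cfsg.Agent.Lib.SpTwoGen
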