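import Cfsg.Agent.Lib.ClassPow
import Cfsg.Agent.Lib.H70Basic
import Cfsg.Agent.Lib.Cores3
import Cfsg.Agent.Lib.FratFit
import Cfsg.Agent.Lib.HBBasic
import Cfsg.Agent.Lib.Supersolvable
import Cfsg.Agent.Lib.CoprimeAction2
import Cfsg.Agent.Lib.MinNonNilp

set_option autoImplicit false

/-!
Finite groups with square-free class sizes.
-/

namespace Cfsg.Agent.Lib.SquarefreeClasses

open Subgroup Cfsg.Agent.Lib.ClassPow
open scoped commutatorElement

universe u

/-- all class sizes square-free -/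
def SF (G : Type u) [Group G] : Prop := ∀ x : G, Squarefree (centralizer ({x} : Set G)).index

theorem SF.subgroup {G : Type u} [Group G] [Finite G] (h : SF G) (N : Subgroup G) [N.Normal] : SF N := by
  intro x
  rw [index_centralizer_subgroup]
  exact (h x).squarefree_of_dvd (relIndex_dvd_index _ N)

theorem SF.quotient {G : Type u} [Group G] [Finite G] (h : SF G) (N : Subgroup G) [N.Normal] : SF (G ⧸ N) := by
  intro y
  obtain ⟨x, rfl⟩ := QuotientGroup.mk_surjective y
  exact (h x).squarefree_of_dvd (index_centralizer_quotient_dvd N x)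

/-- squarefree prime power -/
theorem dvd_of_squarefree {p k n : ℕ} (hp : p.Prime) (hn : Squarefree n) (h : n ∣ p ^ k) : n ∣ p := by
  obtain ⟨j, _, rfl⟩ := (Nat.dvd_prime_pow hp).1 h
  rcases j with _ | _ | j
  · simp
  · simp
  · exfalso
    have h1 := Nat.squarefree_iff_prime_squarefree.1 hn p hp
    exact h1 ⟨p ^ j, by ring⟩

/-- three homomorphisms of rank at most one -/
theorem range_eq {W U : Type*} [Group W] [Group U] [Finite U] {p : ℕ} (hp : p.Prime) (α β γ : W →* U)
    (hα : Nat.card α.range ∣ p) (hβ : Nat.card β.range ∣ p) (hγ : Nat.card γ.range ∣ p)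
    {v : W} (hv : γ v = α v) (hv1 : α v ≠ 1) {w : W} {u : U} (hu : u ∈ α.range) (hw : γ w = u * β w) (hw1 : β w ≠ 1) :
    α.range = β.range := by
  have key : ∀ K L : Subgroup U, Nat.card K ∣ p → Nat.card L ∣ p → ∀ x ∈ K, x ∈ L → x ≠ 1 → K = L := by
    intro K L hK hL x hxK hxL hx1
    have e1 : zpowers x ≤ K := by rwa [zpowers_le]
    have e2 : zpowers x ≤ L := by rwa [zpowers_le]
    have hne : Nat.card (zpowers x) ≠ 1 := by
      rw [Nat.card_zpowers]
      exact fun h => hx1 (orderOf_eq_one_iff.1 h)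
    have h1 : Nat.card (zpowers x) = p := by
      rcases (Nat.dvd_prime hp).1 ((Subgroup.card_dvd_of_le e1).trans hK) with h | h
      · exact absurd h hne
      · exact h
    have h2 : zpowers x = K := by
      apply Subgroup.eq_of_le_of_card_ge e1
      rw [h1]; exact Nat.le_of_dvd hp.pos hK
    have h3 : zpowers x = L := by
      apply Subgroup.eq_of_le_of_card_ge e2
      rw [h1]; exact Nat.le_of_dvd hp.pos hL
    rw [← h2, h3]
  have h1 : α.range = γ.range := key _ _ hα hγ (α v) ⟨v, rfl⟩ ⟨v, hv⟩ hv1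
  have h2 : β w ∈ γ.range := by
    have h3 : u⁻¹ * γ w ∈ γ.range := mul_mem (inv_mem (h1 ▸ hu)) ⟨w, rfl⟩
    rwa [hw, inv_mul_cancel_left] at h3
  have h3 : β.range = γ.range := key _ _ hβ hγ (β w) ⟨w, rfl⟩ h2 hw1
  rw [h1, h3]

/-! ### Knoche: p-groups -/

theorem index_dvd_of_pgroup {P : Type u} [Group P] [Finite P] {p : ℕ} [Fact p.Prime] (hP : IsPGroup p P)
    (h : SF P) (x : P) : (centralizer ({x} : Set P)).index ∣ p := by
  obtain ⟨k, hk⟩ := IsPGroup.iff_card.1 hP
  exact dvd_of_squarefree Fact.out (h x) (hk ▸ Subgroup.index_dvd_card _)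

theorem commutator_le_of_index_dvd {P : Type u} [Group P] [Finite P] {p : ℕ} [hp : Fact p.Prime] (hP : IsPGroup p P)
    {M : Subgroup P} (hM : M.index ∣ p) : commutator P ≤ M := by
  rcases (Nat.dvd_prime hp.out).1 hM with h | h
  · rw [Subgroup.index_eq_one.1 h]; exact le_top
  · have h1 : IsCoatom M := HBBasic.isCoatom_of_index_prime (by rw [h]; exact hp.out)
    have h2 := HBBasic.normal_of_isCoatom hP h1
    exact FratFit.commutator_le_of_coatom h1

theorem card_commutator_dvd {P : Type u} [Group P] [Finite P] {p : ℕ} [hp : Fact p.Prime] (hP : IsPGroup p P)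
    (h : SF P) : Nat.card (commutator P) ∣ p := by
  classical
  have hcen : ∀ a b : P, ⁅a, b⁆ ∈ center P := by
    intro a b
    rw [mem_center_iff]
    intro z
    have h1 := commutator_le_of_index_dvd hP (index_dvd_of_pgroup hP h z)
    have h2 : ⁅a, b⁆ ∈ centralizer ({z} : Set P) :=
      h1 (Subgroup.commutator_mem_commutator (mem_top a) (mem_top b))
    exact (mem_centralizer_singleton_iff.1 h2).symm
  have hmulr : ∀ z g k : P, ⁅z, g * k⁆ = ⁅z, g⁆ * ⁅z, k⁆ := by
    intro z g k
    have h1 : ⁅z, g * k⁆ = ⁅z, g⁆ * (g * ⁅z, k⁆ * g⁻¹) := by simp only [commutatorElement_def]; group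
    have h2 := Subgroup.mem_center_iff.1 (hcen z k) g
    rw [h1, h2]; group
  have hmull : ∀ x y g : P, ⁅x * y, g⁆ = ⁅x, g⁆ * ⁅y, g⁆ := by
    intro x y g
    have h1 : ⁅x * y, g⁆ = x * ⁅y, g⁆ * x⁻¹ * ⁅x, g⁆ := by simp only [commutatorElement_def]; group
    have h2 := Subgroup.mem_center_iff.1 (hcen y g) x
    have h3 := Subgroup.mem_center_iff.1 (hcen y g) ⁅x, g⁆
    rw [h1, h2, mul_assoc ⁅y, g⁆, mul_inv_cancel, mul_one, h3]
  let φ : P → (P →* P) := fun x => MonoidHom.mk' (fun g => ⁅x, g⁆) (hmulr x)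
  have hφker : ∀ x, (φ x).ker = centralizer ({x} : Set P) := by
    intro x
    ext g
    rw [MonoidHom.mem_ker, mem_centralizer_singleton_iff]
    show ⁅x, g⁆ = 1 ↔ _
    rw [commutatorElement_eq_one_iff_mul_comm]
    exact eq_comm
  have hφcard : ∀ x, Nat.card (φ x).range ∣ p := by
    intro x
    rw [← Subgroup.index_ker, hφker]
    exact index_dvd_of_pgroup hP h x
  have hcent : ∀ x g : P, ⁅x, g⁆ ≠ 1 ↔ g ∉ centralizer ({x} : Set P) := by
    intro x g
    rw [← hφker, MonoidHom.mem_ker]; rfl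
  have hdich : ∀ x y : P, x ∉ center P → y ∉ center P →
      (φ x).range = (φ y).range ∨ centralizer ({x} : Set P) = centralizer ({y} : Set P) := by
    intro x y hx hy
    by_cases hC : centralizer ({x} : Set P) = centralizer ({y} : Set P)
    · right; exact hC
    left
    have hco : ∀ x : P, x ∉ center P → IsCoatom (centralizer ({x} : Set P)) := by
      intro x hx
      apply HBBasic.isCoatom_of_index_prime
      rcases (Nat.dvd_prime hp.out).1 (index_dvd_of_pgroup hP h x) with h1 | h1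
      · exfalso
        rw [Subgroup.index_eq_one] at h1
        apply hx
        rw [mem_center_iff]
        intro g
        have : g ∈ centralizer ({x} : Set P) := by rw [h1]; trivial
        exact mem_centralizer_singleton_iff.1 this
      · rw [h1]; exact hp.out
    have hxy : ¬ centralizer ({y} : Set P) ≤ centralizer ({x} : Set P) := by
      intro hle
      exact hC ((((hco y hy).le_iff).1 hle).resolve_left (hco x hx).1)
    have hyx : ¬ centralizer ({x} : Set P) ≤ centralizer ({y} : Set P) := by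
      intro hle
      exact hC ((((hco x hx).le_iff).1 hle).resolve_left (hco y hy).1).symm
    obtain ⟨v, hv1, hv2⟩ := Set.not_subset.1 hxy
    obtain ⟨w, hw1, hw2⟩ := Set.not_subset.1 hyx
    refine range_eq hp.out (φ x) (φ y) (φ (x * y)) (hφcard x) (hφcard y) (hφcard _) (v := v) (w := w) (u := 1) ?_ ?_
      (one_mem _) ?_ ?_
    · show ⁅x * y, v⁆ = ⁅x, v⁆
      rw [hmull]
      have : ⁅y, v⁆ = 1 := by
        by_contra hne
        exact (hcent y v).1 hne hv1
      rw [this, mul_one]
    · exact (hcent x v).2 hv2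
    · show ⁅x * y, w⁆ = 1 * ⁅y, w⁆
      rw [hmull]
      have : ⁅x, w⁆ = 1 := by
        by_contra hne
        exact (hcent x w).1 hne hw1
      rw [this]
    · exact (hcent y w).2 hw2
  by_cases hab : ∀ x : P, x ∈ center P
  · have : commutator P = ⊥ := by
      rw [eq_bot_iff, commutator_def, Subgroup.commutator_le]
      intro a _ b _
      rw [mem_bot, commutatorElement_eq_one_iff_mul_comm]
      exact mem_center_iff.1 (hab b) a
    rw [this, Subgroup.card_bot]; exact one_dvd _
  push Not at hab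
  obtain ⟨x₀, hx₀⟩ := hab
  by_cases hall : ∀ x : P, x ∉ center P → (φ x).range = (φ x₀).range
  · refine (Subgroup.card_dvd_of_le ?_).trans (hφcard x₀)
    rw [commutator_def, Subgroup.commutator_le]
    intro a _ b _
    by_cases ha : a ∈ center P
    · have : ⁅a, b⁆ = 1 := commutatorElement_eq_one_iff_mul_comm.2 (mem_center_iff.1 ha b).symm
      rw [this]; exact one_mem _
    · rw [← hall a ha]
      exact ⟨b, rfl⟩
  · exfalso
    push Not at hall
    obtain ⟨x₁, hx₁, hne⟩ := hall
    have hM : ∀ z : P, z ∉ center P → centralizer ({z} : Set P) = centralizer ({x₀} : Set P) := by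
      intro z hz
      have h01 := (hdich x₁ x₀ hx₁ hx₀).resolve_left hne
      rcases hdich z x₀ hz hx₀ with h1 | h1
      · rcases hdich z x₁ hz hx₁ with h2 | h2
        · exact absurd (h2.symm.trans h1) hne
        · rw [h2, h01]
      · exact h1
    apply hx₀
    have htop : ∀ z : P, z ∈ centralizer ({x₀} : Set P) := by
      intro z
      by_cases hz : z ∈ center P
      · exact Subgroup.center_le_centralizer _ hz
      · rw [← hM z hz, mem_centralizer_singleton_iff]
    rw [mem_center_iff]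
    intro g
    exact mem_centralizer_singleton_iff.1 (htop g)

/-! ### Chief factors -/

/-- an abelian minimal normal subgroup of a group with square-free class sizes has prime order -/
theorem card_minNormal {G : Type u} [Group G] [Finite G] (h : SF G) (V : Subgroup G) [hVn : V.Normal] (hV1 : V ≠ ⊥)
    (hmin : ∀ M : Subgroup G, M.Normal → M ≤ V → M = ⊥ ∨ M = V) (hab : ∀ a ∈ V, ∀ b ∈ V, a * b = b * a)
    {p : ℕ} (hp : p.Prime) (hpow : ∀ x ∈ V, x ^ p = 1) : Nat.card V = p := by
  classical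
  have hFp := Fact.mk hp
  have hVp : IsPGroup p V := by
    intro x
    exact ⟨1, Subtype.ext (by simpa using hpow x x.2)⟩
  obtain ⟨k, hk⟩ := IsPGroup.iff_card.1 hVp
  let φ : G → (V →* V) := fun g => MonoidHom.mk'
    (fun v => ⟨g * v * g⁻¹ * (v : G)⁻¹, mul_mem (hVn.conj_mem _ v.2 g) (inv_mem v.2)⟩) (by
      intro a b
      apply Subtype.ext
      show g * ((a : G) * b) * g⁻¹ * ((a : G) * b)⁻¹ = (g * a * g⁻¹ * (a : G)⁻¹) * (g * b * g⁻¹ * (b : G)⁻¹)
      have h1 : (g * b * g⁻¹ * (b : G)⁻¹) * (a : G)⁻¹ = (a : G)⁻¹ * (g * b * g⁻¹ * (b : G)⁻¹) :=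
        hab _ (mul_mem (hVn.conj_mem _ b.2 g) (inv_mem b.2)) _ (inv_mem a.2)
      calc g * ((a : G) * b) * g⁻¹ * ((a : G) * b)⁻¹ = g * a * g⁻¹ * ((g * b * g⁻¹ * (b : G)⁻¹) * (a : G)⁻¹) := by group
        _ = g * a * g⁻¹ * ((a : G)⁻¹ * (g * b * g⁻¹ * (b : G)⁻¹)) := by rw [h1]
        _ = _ := by group)
  have hφ : ∀ (g : G) (v : V), ((φ g v : V) : G) = g * v * g⁻¹ * (v : G)⁻¹ := fun g v => rfl
  have hφker : ∀ g, (φ g).ker = (centralizer ({g} : Set G)).subgroupOf V := by
    intro g
    ext v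
    rw [MonoidHom.mem_ker, mem_subgroupOf, mem_centralizer_singleton_iff, ← Subtype.coe_inj, hφ]
    show g * v * g⁻¹ * (v : G)⁻¹ = 1 ↔ _
    rw [mul_inv_eq_one, mul_inv_eq_iff_eq_mul]
    exact eq_comm
  have hφcard : ∀ g, Nat.card (φ g).range ∣ p := by
    intro g
    rw [← Subgroup.index_ker, hφker]
    refine dvd_of_squarefree hp (k := k) ((h g).squarefree_of_dvd (relIndex_dvd_index _ V)) ?_
    rw [← hk]
    exact Subgroup.index_dvd_card _
  have hcardp : ∀ g, g ∉ centralizer (V : Set G) → Nat.card (φ g).range = p := by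
    intro g hg
    rcases (Nat.dvd_prime hp).1 (hφcard g) with h1 | h1
    · exfalso
      apply hg
      rw [Subgroup.card_eq_one] at h1
      rw [mem_centralizer_iff]
      intro v hv
      have h2 : φ g ⟨v, hv⟩ = 1 := by
        have : φ g ⟨v, hv⟩ ∈ (φ g).range := ⟨_, rfl⟩
        rwa [h1, mem_bot] at this
      have h3 := congrArg (Subtype.val) h2
      rw [hφ] at h3
      change g * v * g⁻¹ * v⁻¹ = 1 at h3
      rw [mul_inv_eq_one, mul_inv_eq_iff_eq_mul] at h3
      exact h3.symm
    · exact h1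
  have hkeridx : ∀ g, (φ g).ker.index = Nat.card (φ g).range := fun g => Subgroup.index_ker _
  have hconjr : ∀ g x : G, ∀ v : V, ((φ (x * g * x⁻¹)) ⟨x * v * x⁻¹, hVn.conj_mem _ v.2 x⟩ : G) = x * (φ g v : G) * x⁻¹ := by
    intro g x v
    rw [hφ, hφ]
    show x * g * x⁻¹ * (x * v * x⁻¹) * (x * g * x⁻¹)⁻¹ * (x * v * x⁻¹)⁻¹ = x * (g * v * g⁻¹ * (v : G)⁻¹) * x⁻¹
    group
  -- the case of a central V
  by_cases hcent : ∀ g : G, g ∈ centralizer (V : Set G)
  · obtain ⟨v, hv, hv1⟩ := (Subgroup.ne_bot_iff_exists_ne_one).1 hV1 |> fun ⟨v, hv⟩ => (⟨v.1, v.2, fun h => hv (Subtype.ext h)⟩ :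
      ∃ v : G, v ∈ V ∧ v ≠ 1)
    have hn : (zpowers v).Normal := by
      refine ⟨?_⟩
      rintro _ ⟨i, rfl⟩ g
      have h1 := (mem_centralizer_iff.1 (hcent g)) v hv
      refine ⟨i, ?_⟩
      show v ^ i = g * v ^ i * g⁻¹
      rw [← conj_zpow, ← h1, mul_inv_cancel_right]
    rcases hmin (zpowers v) hn (by rwa [zpowers_le]) with h1 | h1
    · exfalso; apply hv1
      rw [zpowers_eq_bot] at h1; exact h1
    · rw [← h1, Nat.card_zpowers]
      exact orderOf_eq_prime (hpow v hv) hv1
  push Not at hcent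
  obtain ⟨g₀, hg₀⟩ := hcent
  have hcc : ∀ g x : G, g ∉ centralizer (V : Set G) → x * g * x⁻¹ ∉ centralizer (V : Set G) := by
    intro g x hg hcon
    apply hg
    have h1 := (inferInstance : (centralizer (V : Set G)).Normal).conj_mem _ hcon x⁻¹
    have h2 : x⁻¹ * (x * g * x⁻¹) * x⁻¹⁻¹ = g := by group
    rwa [h2] at h1
  have hdich : ∀ x y : G, x ∉ centralizer (V : Set G) → y ∉ centralizer (V : Set G) →
      (φ x).range = (φ y).range ∨ (φ x).ker = (φ y).ker := by
    intro x y hx hy
    by_cases hC : (φ x).ker = (φ y).ker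
    · right; exact hC
    left
    have hco : ∀ x : G, x ∉ centralizer (V : Set G) → IsCoatom (φ x).ker := by
      intro x hx
      apply HBBasic.isCoatom_of_index_prime
      rw [hkeridx, hcardp x hx]; exact hp
    have hxy : ¬ (φ y).ker ≤ (φ x).ker := by
      intro hle
      exact hC ((((hco y hy).le_iff).1 hle).resolve_left (hco x hx).1)
    have hyx : ¬ (φ x).ker ≤ (φ y).ker := by
      intro hle
      exact hC ((((hco x hx).le_iff).1 hle).resolve_left (hco y hy).1).symm
    obtain ⟨v, hv1, hv2⟩ := Set.not_subset.1 hxy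
    obtain ⟨w, hw1, hw2⟩ := Set.not_subset.1 hyx
    have hv1' : φ y v = 1 := hv1
    have hkc : ∀ (y : G) (v : V), φ y v = 1 → y * v * y⁻¹ = v := by
      intro y v hv
      have h3 := congrArg (Subtype.val) hv
      rw [hφ] at h3
      change y * v * y⁻¹ * (v : G)⁻¹ = 1 at h3
      rwa [mul_inv_eq_one] at h3
    refine range_eq hp (φ x) (φ y) (φ (x * y)) (hφcard x) (hφcard y) (hφcard _) (v := v) (w := w)
      (u := φ x ⟨y * w * y⁻¹, hVn.conj_mem _ w.2 y⟩) ?_ ?_ ⟨_, rfl⟩ ?_ ?_
    · apply Subtype.ext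
      rw [hφ, hφ]
      calc x * y * v * (x * y)⁻¹ * (v : G)⁻¹ = x * (y * v * y⁻¹) * x⁻¹ * (v : G)⁻¹ := by group
        _ = _ := by rw [hkc y v hv1']
    · exact hv2
    · apply Subtype.ext
      rw [Subgroup.coe_mul, hφ, hφ, hφ]
      show x * y * w * (x * y)⁻¹ * (w : G)⁻¹ = x * (y * w * y⁻¹) * x⁻¹ * (y * w * y⁻¹)⁻¹ * (y * w * y⁻¹ * (w : G)⁻¹)
      group
    · exact hw2
  by_cases hall : ∀ x : G, x ∉ centralizer (V : Set G) → (φ x).range = (φ g₀).range
  · -- the common range is normal
    have hn : (((φ g₀).range).map V.subtype).Normal := by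
      refine ⟨?_⟩
      rintro _ ⟨u, ⟨v, rfl⟩, rfl⟩ x
      have h1 := hconjr g₀ x v
      have h2 : φ (x * g₀ * x⁻¹) ⟨x * v * x⁻¹, hVn.conj_mem _ v.2 x⟩ ∈ (φ g₀).range := by
        rw [← hall _ (hcc g₀ x hg₀)]; exact ⟨_, rfl⟩
      exact ⟨_, h2, h1⟩
    have hcard : Nat.card (((φ g₀).range).map V.subtype) = p := by
      rw [← hcardp g₀ hg₀]
      exact Nat.card_congr (((φ g₀).range).equivMapOfInjective V.subtype V.subtype_injective).toEquiv.symm
    rcases hmin _ hn (Subgroup.map_subtype_le _) with h1 | h1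
    · rw [h1, Subgroup.card_bot] at hcard
      exact absurd hcard.symm hp.one_lt.ne'
    · rw [← h1]; exact hcard
  · push Not at hall
    obtain ⟨g₁, hg₁, hne⟩ := hall
    have hM : ∀ z : G, z ∉ centralizer (V : Set G) → (φ z).ker = (φ g₀).ker := by
      intro z hz
      have h01 := (hdich g₁ g₀ hg₁ hg₀).resolve_left hne
      rcases hdich z g₀ hz hg₀ with h1 | h1
      · rcases hdich z g₁ hz hg₁ with h2 | h2
        · exact absurd (h2.symm.trans h1) hne
        · rw [h2, h01]
      · exact h1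
    have hn : (((φ g₀).ker).map V.subtype).Normal := by
      refine ⟨?_⟩
      rintro _ ⟨v, hv, rfl⟩ x
      have h1 := hconjr g₀ x v
      have hv' : φ g₀ v = 1 := hv
      rw [hv'] at h1
      refine ⟨⟨x * v * x⁻¹, hVn.conj_mem _ v.2 x⟩, ?_, rfl⟩
      show _ ∈ (φ g₀).ker
      rw [← hM _ (hcc g₀ x hg₀), MonoidHom.mem_ker]
      apply Subtype.ext
      rw [h1]
      show x * 1 * x⁻¹ = 1
      group
    have hidx : (φ g₀).ker.index = p := by rw [hkeridx, hcardp g₀ hg₀]
    rcases hmin _ hn (Subgroup.map_subtype_le _) with h1 | h1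
    · rw [Subgroup.map_eq_bot_iff_of_injective _ V.subtype_injective] at h1
      rw [h1, Subgroup.index_bot] at hidx
      exact hidx
    · exfalso
      have h2 : (φ g₀).ker = ⊤ := by
        rw [eq_top_iff]
        intro v _
        have : (v : G) ∈ ((φ g₀).ker).map V.subtype := by rw [h1]; exact v.2
        obtain ⟨w, hw, hwv⟩ := this
        have : w = v := Subtype.ext hwv
        rwa [← this]
      rw [h2, Subgroup.index_top] at hidx
      exact hp.one_lt.ne hidx

theorem isSupersolvable_aux (n : ℕ) : ∀ (G : Type u) [Group G] [Finite G], Nat.card G = n → Group.IsSolvable G →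
    SF G → Cfsg.IsSupersolvable G := by
  induction n using Nat.strong_induction_on with
  | _ n ih =>
  intro G _ _ hn hsol h
  rcases subsingleton_or_nontrivial G with hs | hs
  · exact Supersolvable.isSupersolvable_of_subsingleton
  obtain ⟨V, hVn, hV1, -, hmin⟩ := Cores.exists_minNormal_le (G := G) (K := ⊤) inferInstance top_ne_bot
  have hab := Cores.minNormal_abelian hV1 hmin
  obtain ⟨p, hp, hpow⟩ := Cores.minNormal_elementary hV1 hmin hab
  have hcard := card_minNormal h V hV1 hmin hab hp hpow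
  have hFp := Fact.mk hp
  have hcyc : IsCyclic V := isCyclic_of_prime_card hcard
  apply Supersolvable.isSupersolvable_of_cyclic_normal V
  refine ih (Nat.card (G ⧸ V)) ?_ (G ⧸ V) rfl inferInstance (h.quotient V)
  rw [← hn, ← Subgroup.index_eq_card, ← V.card_mul_index, hcard]
  exact lt_mul_of_one_lt_left (Nat.pos_of_ne_zero V.index_ne_zero_of_finite) hp.one_lt

theorem isSupersolvable {G : Type u} [Group G] [Finite G] [hs : Group.IsSolvable G] (h : SF G) :
    Cfsg.IsSupersolvable G := isSupersolvable_aux _ G rfl hs h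

end Cfsg.Agent.Lib.SquarefreeClasses
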