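import Cfsg.Agent.Lib.SquarefreeClasses
import Cfsg.Agent.Lib.Cores2

set_option autoImplicit false

/-!
Finite groups with square-free class sizes, continued: the index of the Fitting subgroup, the derived subgroup.
-/

namespace Cfsg.Agent.Lib.SquarefreeClasses

open Subgroup Cfsg.Agent.Lib.ClassPow
open scoped commutatorElement

universe u

/-- the Frattini quotient has trivial Frattini subgroup -/
theorem frattini_quotient_frattini (G : Type u) [Group G] : frattini (G ⧸ frattini G) = ⊥ := by
  rw [eq_bot_iff]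
  intro x hx
  obtain ⟨g, rfl⟩ := QuotientGroup.mk_surjective x
  rw [mem_bot, QuotientGroup.eq_one_iff]
  have hgoal : ∀ M : Subgroup G, IsCoatom M → g ∈ M → True := fun _ _ _ => trivial
  suffices hsuff : ∀ M : Subgroup G, IsCoatom M → g ∈ M by
    rw [frattini, Order.radical]
    simp only [Subgroup.mem_iInf]
    exact hsuff
  intro M hM
  have hle : frattini G ≤ M := frattini_le_coatom hM
  have hcomap : (M.map (QuotientGroup.mk' (frattini G))).comap (QuotientGroup.mk' (frattini G)) = M := by
    rw [Subgroup.comap_map_eq, QuotientGroup.ker_mk', sup_eq_left.2 hle]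
  have hM' : IsCoatom (M.map (QuotientGroup.mk' (frattini G))) := by
    constructor
    · intro h
      rw [h, Subgroup.comap_top] at hcomap
      exact hM.1 hcomap.symm
    · intro K hK
      have h1 : M < K.comap (QuotientGroup.mk' (frattini G)) := by
        rw [← hcomap]
        exact (Subgroup.comap_lt_comap_of_surjective (QuotientGroup.mk'_surjective _)).2 hK
      have h2 := hM.2 _ h1
      rw [← Subgroup.map_comap_eq_self_of_surjective (QuotientGroup.mk'_surjective (frattini G)) K, h2,
        Subgroup.map_top_of_surjective _ (QuotientGroup.mk'_surjective _)]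
  have h1 := frattini_le_coatom hM' hx
  have h2 : g ∈ (M.map (QuotientGroup.mk' (frattini G))).comap (QuotientGroup.mk' (frattini G)) := h1
  rwa [hcomap] at h2

/-- in a solvable group with square-free class sizes and trivial Frattini subgroup, some element of the Fitting
subgroup has centralizer the Fitting subgroup -/
theorem exists_centralizer_eq {G : Type u} [Group G] [Finite G] [hs : Group.IsSolvable G] (h : SF G)
    (hΦ : frattini G = ⊥) : ∃ v : G, centralizer ({v} : Set G) = Cfsg.fittingSubgroup G := by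
  classical
  set F := Cfsg.fittingSubgroup G with hF
  have hFn : F.Normal := inferInstance
  have hFab : ⁅F, F⁆ = ⊥ := FratFit.commutator_eq_bot_of_frattini_eq_bot hΦ (Cores.isNilpotent_fittingSubgroup G)
  have hFab' : ∀ a ∈ F, ∀ b ∈ F, a * b = b * a := by
    intro a ha b hb
    have : ⁅a, b⁆ ∈ ⁅F, F⁆ := Subgroup.commutator_mem_commutator ha hb
    rw [hFab, mem_bot] at this
    exact commutatorElement_eq_one_iff_mul_comm.1 this
  -- a maximal good normal subgroup
  obtain ⟨N, ⟨hNn, hNF, v, hvN, hv⟩, hmax⟩ := (Set.toFinite {N : Subgroup G | N.Normal ∧ N ≤ F ∧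
    ∃ v ∈ N, centralizer ({v} : Set G) ≤ centralizer (N : Set G)}).exists_maximal
    ⟨⊥, inferInstance, bot_le, 1, one_mem _, by
      intro g _
      rw [mem_centralizer_iff]
      intro x hx
      have : x = 1 := hx
      rw [this, one_mul, mul_one]⟩
  by_cases hNeq : N = F
  · refine ⟨v, le_antisymm ?_ ?_⟩
    · rw [hNeq] at hv
      exact hv.trans Cores.centralizer_fittingSubgroup_le
    · intro g hg
      rw [mem_centralizer_singleton_iff]
      exact hFab' g hg v (hNeq ▸ hvN)
  exfalso
  have hNab : ⁅N, N⁆ = ⊥ := by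
    rw [eq_bot_iff, ← hFab]; exact Subgroup.commutator_mono hNF hNF
  obtain ⟨H, hH1, hH2⟩ := FratFit.exists_complement_of_frattini_eq_bot hΦ N hNab
  -- F ∩ H is normal
  have hFH : (F ⊓ H).Normal := by
    refine ⟨?_⟩
    rintro x ⟨hxF, hxH⟩ g
    have hg : g ∈ (N ⊔ H : Subgroup G) := by rw [hH1]; trivial
    rw [Subgroup.mem_sup_of_normal_left] at hg
    obtain ⟨a, ha, b, hb, rfl⟩ := hg
    have h1 : b * x * b⁻¹ ∈ F := hFn.conj_mem x hxF b
    have h2 : b * x * b⁻¹ ∈ H := mul_mem (mul_mem hb hxH) (inv_mem hb)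
    have h3 : a * b * x * (a * b)⁻¹ = b * x * b⁻¹ := by
      have h4 := hFab' a (hNF ha) _ h1
      calc a * b * x * (a * b)⁻¹ = a * (b * x * b⁻¹) * a⁻¹ := by group
        _ = (b * x * b⁻¹) * a * a⁻¹ := by rw [h4]
        _ = _ := by group
    rw [h3]
    exact ⟨h1, h2⟩
  have hFHne : F ⊓ H ≠ ⊥ := by
    intro hbot
    apply hNeq
    apply le_antisymm hNF
    intro f hf
    have hg : f ∈ (N ⊔ H : Subgroup G) := by rw [hH1]; trivial
    rw [Subgroup.mem_sup_of_normal_left] at hg
    obtain ⟨a, ha, b, hb, rfl⟩ := hg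
    have hbF : b ∈ F := by
      have := mul_mem (inv_mem (hNF ha)) hf
      rwa [inv_mul_cancel_left] at this
    have : b ∈ F ⊓ H := ⟨hbF, hb⟩
    rw [hbot, mem_bot] at this
    rw [this, mul_one]; exact ha
  obtain ⟨V, hVn, hV1, hVle, hmin⟩ := Cores.exists_minNormal_le hFH hFHne
  have hVab := Cores.minNormal_abelian hV1 hmin
  obtain ⟨p, hp, hpow⟩ := Cores.minNormal_elementary hV1 hmin hVab
  have hcard := card_minNormal h V hV1 hmin hVab hp hpow
  have hFp := Fact.mk hp
  have hcyc : IsCyclic V := isCyclic_of_prime_card hcard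
  obtain ⟨⟨w, hw⟩, hwgen⟩ := hcyc
  have hNV : N ⊓ V = ⊥ := by
    rw [eq_bot_iff, ← hH2]
    exact inf_le_inf le_rfl (hVle.trans inf_le_right)
  have hle := hmax (y := N ⊔ V) ⟨inferInstance, sup_le hNF (hVle.trans inf_le_left), v * w,
    mul_mem (mem_sup_left hvN) (mem_sup_right hw), ?_⟩ le_sup_left
  · have h1 : V ≤ N := le_sup_right.trans hle
    apply hV1
    rw [eq_bot_iff, ← hNV]
    exact le_inf h1 le_rfl
  · intro g hg
    rw [mem_centralizer_singleton_iff] at hg
    have h1 : v⁻¹ * (g * v * g⁻¹) = w * (g * w * g⁻¹)⁻¹ := by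
      have h2 : (g * v * g⁻¹) * (g * w * g⁻¹) = v * w := by
        calc (g * v * g⁻¹) * (g * w * g⁻¹) = g * (v * w) * g⁻¹ := by group
          _ = v * w * g * g⁻¹ := by rw [hg]
          _ = _ := by group
      rw [eq_mul_inv_iff_mul_eq, mul_assoc, h2]; group
    have h2 : v⁻¹ * (g * v * g⁻¹) ∈ N ⊓ V := by
      refine Subgroup.mem_inf.2 ⟨N.mul_mem (N.inv_mem hvN) (hNn.conj_mem _ hvN g), ?_⟩
      rw [h1]
      exact V.mul_mem hw (V.inv_mem (hVn.conj_mem _ hw g))
    have h4 := h2
    rw [hNV, mem_bot] at h2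
    rw [h1, hNV, mem_bot] at h4
    have hgv : g ∈ centralizer ({v} : Set G) := by
      rw [mem_centralizer_singleton_iff]
      have h5 : g * v * g⁻¹ = v := by
        rw [inv_mul_eq_one] at h2; exact h2.symm
      rw [mul_inv_eq_iff_eq_mul] at h5; exact h5
    have hgw : g * w = w * g := by
      have h5 : w = g * w * g⁻¹ := by
        rw [mul_inv_eq_one] at h4; exact h4
      rw [eq_mul_inv_iff_mul_eq] at h5; exact h5.symm
    have hgN := hv hgv
    rw [← Subgroup.closure_eq (N ⊔ V)]
    rw [Subgroup.centralizer_closure] at *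
    rw [mem_centralizer_iff]
    intro y hy
    have hy' : y ∈ (N ⊔ V : Subgroup G) := hy
    rw [Subgroup.mem_sup_of_normal_left] at hy'
    obtain ⟨a, ha, b, hb, rfl⟩ := hy'
    have h6 : a * g = g * a := mem_centralizer_iff.1 hgN a ha
    obtain ⟨i, hi⟩ := Subgroup.mem_zpowers_iff.1 (hwgen ⟨b, hb⟩)
    have hi' : w ^ i = b := congrArg Subtype.val hi
    have h7 : b * g = g * b := by
      rw [← hi']
      exact (show Commute w g from hgw.symm).zpow_left i
    rw [mul_assoc, h7, ← mul_assoc, h6, mul_assoc]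

theorem squarefree_index_fitting {G : Type u} [Group G] [Finite G] [hs : Group.IsSolvable G] (h : SF G) :
    Squarefree (Cfsg.fittingSubgroup G).index := by
  obtain ⟨v, hv⟩ := exists_centralizer_eq (h.quotient (frattini G)) (frattini_quotient_frattini G)
  have h1 := h.quotient (frattini G) v
  rw [hv, Cores.fittingSubgroup_quotient_frattini] at h1
  have hle : frattini G ≤ Cfsg.fittingSubgroup G :=
    Cores.le_fittingSubgroup inferInstance (frattini_nilpotent)
  have h2 : ((Cfsg.fittingSubgroup G).map (QuotientGroup.mk' (frattini G))).index = (Cfsg.fittingSubgroup G).index := by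
    exact Subgroup.index_map_eq _ (QuotientGroup.mk'_surjective _) (by rw [QuotientGroup.ker_mk']; exact hle)
  rwa [h2] at h1

end Cfsg.Agent.Lib.SquarefreeClasses
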