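import Cfsg.Agent.Lib.SquarefreeClasses2

set_option autoImplicit false

/-!
Finite groups with square-free class sizes, continued: the derived subgroup.
-/

namespace Cfsg.Agent.Lib.SquarefreeClasses

open Subgroup Cfsg.Agent.Lib.ClassPow
open scoped commutatorElement

universe u

/-- the case of a normal Sylow subgroup with an abelian complement -/
theorem card_commutator_aux {G : Type u} [Group G] [Finite G] (h : SF G) {p : ℕ} [hp : Fact p.Prime] (P : Sylow p G)
    [hPn : (P : Subgroup G).Normal] (hC : centralizer ((P : Subgroup G) : Set G) ≤ P) {H : Subgroup G}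
    (hcomp : IsComplement' (P : Subgroup G) H) {t : G} (ht : H = zpowers t) (hH : H ≠ ⊥) :
    Nat.card (commutator G) ∣ p := by
  classical
  obtain ⟨k, hk⟩ := IsPGroup.iff_card.1 P.isPGroup'
  have hdisj : (P : Subgroup G) ⊓ H = ⊥ := by
    have := hcomp.disjoint
    rwa [disjoint_iff] at this
  have hsup : (P : Subgroup G) ⊔ H = ⊤ := hcomp.sup_eq_top
  have hcop : (Nat.card H).Coprime (Nat.card (P : Subgroup G)) := by
    have h1 : (P : Subgroup G).index = Nat.card H := hcomp.symm.index_eq_card
    rw [← h1, hk]
    apply Nat.Coprime.pow_right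
    rw [Nat.coprime_comm, Nat.Prime.coprime_iff_not_dvd hp.out]
    exact P.not_dvd_index
  have hPsol : Group.IsSolvable (P : Subgroup G) := by
    have := P.isPGroup'.isNilpotent
    infer_instance
  have htH : t ∈ H := by rw [ht]; exact mem_zpowers t
  set C : Subgroup G := (P : Subgroup G) ⊓ centralizer ({t} : Set G) with hCdef
  have hHC : H ≤ centralizer ({t} : Set G) := by
    rw [ht, zpowers_le, mem_centralizer_singleton_iff]
  have hCH : C ≤ centralizer (H : Set G) := by
    intro c hc
    rw [mem_centralizer_iff]
    intro x hx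
    rw [SetLike.mem_coe, ht] at hx
    obtain ⟨i, rfl⟩ := hx
    have h1 : Commute c t := mem_centralizer_singleton_iff.1 hc.2
    exact (h1.zpow_right i).eq.symm
  -- index of C in P
  have hrel : (centralizer ({t} : Set G)).relIndex (P : Subgroup G) = p := by
    have h1 : (centralizer ({t} : Set G)).relIndex (P : Subgroup G) ∣ p := by
      refine dvd_of_squarefree hp.out (k := k) ((h t).squarefree_of_dvd (relIndex_dvd_index _ _)) ?_
      rw [← hk]
      exact Subgroup.index_dvd_card _
    rcases (Nat.dvd_prime hp.out).1 h1 with h2 | h2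
    · exfalso
      rw [Subgroup.relIndex_eq_one] at h2
      have h3 : t ∈ centralizer ((P : Subgroup G) : Set G) := by
        rw [mem_centralizer_iff]
        intro x hx
        exact mem_centralizer_singleton_iff.1 (h2 hx)
      have h4 : t ∈ (P : Subgroup G) ⊓ H := Subgroup.mem_inf.2 ⟨hC h3, htH⟩
      rw [hdisj, mem_bot] at h4
      apply hH
      rw [ht, h4, zpowers_one_eq_bot]
    · exact h2
  have hrelC : C.relIndex (P : Subgroup G) = p := by rw [hCdef, Subgroup.inf_relIndex_left, hrel]
  have hidx : (centralizer ({t} : Set G)).index = p := by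
    have h1 : (P : Subgroup G) ⊔ centralizer ({t} : Set G) = ⊤ := by
      rw [eq_top_iff, ← hsup]; exact sup_le_sup le_rfl hHC
    have h2 := Subgroup.relIndex_mul_index (le_top : centralizer ({t} : Set G) ≤ ⊤)
    have h3 : (centralizer ({t} : Set G)).relIndex (P : Subgroup G) =
        (centralizer ({t} : Set G)).relIndex ((P : Subgroup G) ⊔ centralizer ({t} : Set G) : Subgroup G) :=
      HallPi.relIndex_eq_relIndex_sup (le_normalizer_of_normal)
    rw [h1, Subgroup.relIndex_top_right] at h3
    rw [← h3, hrel]
  -- C is normal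
  have hCcoatom : IsCoatom (C.subgroupOf (P : Subgroup G)) := by
    apply HBBasic.isCoatom_of_index_prime
    show (C.relIndex (P : Subgroup G)).Prime
    rw [hrelC]; exact hp.out
  have hCnP : (C.subgroupOf (P : Subgroup G)).Normal := HBBasic.normal_of_isCoatom P.isPGroup' hCcoatom
  have hPN : (P : Subgroup G) ≤ normalizer (C : Set G) :=
    (Subgroup.normal_subgroupOf_iff_le_normalizer inf_le_left).1 hCnP
  have hHN : H ≤ normalizer (C : Set G) := by
    refine le_trans ?_ (Subgroup.centralizer_le_normalizer _)
    rw [Subgroup.le_centralizer_iff]; exact hCH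
  have hCn : C.Normal := by
    rw [← Subgroup.normalizer_eq_top_iff, eq_top_iff, ← hsup]
    exact sup_le hPN hHN
  -- K = [P,H]
  set K : Subgroup G := ⁅(P : Subgroup G), H⁆ with hK
  have hHP : H ≤ normalizer ((P : Subgroup G) : Set G) := Subgroup.le_normalizer_of_normal
  have hKP : K ≤ P := Subgroup.le_normalizer_iff_commutator_le_left.1 hHP
  have hKn : K.Normal := by
    rw [← Subgroup.normalizer_eq_top_iff, eq_top_iff, ← hsup]
    exact sup_le (normalizer_commutator_ge_left (P : Subgroup G) H) (normalizer_commutator_ge_right (P : Subgroup G) H)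
  have hKC : K ≤ centralizer (C : Set G) := by
    have h1 : H ≤ centralizer (C : Set G) := by rw [Subgroup.le_centralizer_iff]; exact hCH
    have h2 : (centralizer (C : Set G)).Normal := inferInstance
    exact (Subgroup.commutator_mono le_rfl h1).trans (Subgroup.commutator_le_right _ _)
  have hKnC : ¬ K ≤ C := by
    intro hle
    have h1 := CoprimeAction2.le_centralizer_of_series (A := H) (K := (P : Subgroup G)) (N := C) hHP hcop (Or.inr hPsol)
      hle hCH
    have h2 : H ≤ (P : Subgroup G) := by
      refine le_trans ?_ hC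
      rw [Subgroup.le_centralizer_iff]; exact h1
    apply hH
    rw [eq_bot_iff, ← hdisj]
    exact le_inf h2 le_rfl
  have hKsupC : K ⊔ C = (P : Subgroup G) := by
    have h1 : C.subgroupOf (P : Subgroup G) < (K ⊔ C).subgroupOf (P : Subgroup G) := by
      refine lt_of_le_of_ne (fun x hx => ?_) ?_
      · rw [mem_subgroupOf] at hx ⊢
        exact mem_sup_right hx
      · intro heq
        apply hKnC
        intro x hx
        have h2 : (⟨x, hKP hx⟩ : (P : Subgroup G)) ∈ (K ⊔ C).subgroupOf (P : Subgroup G) := by
          rw [mem_subgroupOf]; exact mem_sup_left hx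
        rw [← heq, mem_subgroupOf] at h2
        exact h2
    have h2 := hCcoatom.2 _ h1
    rw [Subgroup.subgroupOf_eq_top] at h2
    exact le_antisymm (sup_le hKP inf_le_left) h2
  -- K abelian
  have hKab : IsMulCommutative K := by
    -- K ⊓ C is central in K with cyclic quotient
    have hcard : ((K ⊓ C).subgroupOf K).index = p := by
      show (K ⊓ C).relIndex K = p
      rw [Subgroup.inf_relIndex_left, ← hrelC, ← hKsupC]
      rw [Subgroup.relIndex_sup_right]
    have hcent : (K ⊓ C).subgroupOf K ≤ center K := by
      intro x hx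
      rw [mem_center_iff]
      intro g
      apply Subtype.ext
      have h1 := mem_centralizer_iff.1 (hKC g.2) (x : G) ((mem_subgroupOf.1 hx).2)
      exact h1.symm
    have hnn : ((K ⊓ C).subgroupOf K).Normal := inferInstance
    have hcyc : IsCyclic (K ⧸ (K ⊓ C).subgroupOf K) := by
      apply isCyclic_of_prime_card (p := p)
      rw [← Subgroup.index_eq_card, hcard]
    have hker : (QuotientGroup.mk' ((K ⊓ C).subgroupOf K)).ker ≤ center K := by
      rw [QuotientGroup.ker_mk']; exact hcent
    exact MonoidHom.isMulCommutative_of_isCyclic_of_ker_le_center (QuotientGroup.mk' ((K ⊓ C).subgroupOf K)) hker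
  have hHK : H ≤ normalizer (K : Set G) := Subgroup.le_normalizer_of_normal
  have hcopK : (Nat.card H).Coprime (Nat.card K) := Nat.Coprime.coprime_dvd_right (Subgroup.card_dvd_of_le hKP) hcop
  have hKK : ⁅K, H⁆ = K := CoprimeAction2.commutator_commutator hHP hcop (Or.inr hPsol)
  have hKCbot : K ⊓ C = ⊥ := by
    have h1 := CoprimeAction2.inf_commutator_eq_bot_of_abelian (A := H) (V := K) hHK hcopK
    rw [hKK] at h1
    rw [eq_bot_iff, ← h1]
    exact le_inf (le_inf inf_le_left (inf_le_right.trans hCH)) inf_le_left
  have hKcard : Nat.card K = p := by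
    have h1 : C.relIndex K = p := by
      rw [← hrelC, ← hKsupC, Subgroup.relIndex_sup_right]
    rw [← Subgroup.inf_relIndex_left, hKCbot, Subgroup.relIndex_bot_left] at h1
    exact h1
  -- C abelian
  have hCab : ∀ c ∈ C, ∀ d ∈ C, c * d = d * c := by
    intro c hc d hd
    by_contra hne
    have hct : Commute t c := (mem_centralizer_singleton_iff.1 hc.2).symm
    have hco : (orderOf t).Coprime (orderOf c) := by
      have e1 : orderOf t ∣ Nat.card H := by rw [ht, Nat.card_zpowers]
      have e2 : orderOf c ∣ Nat.card (P : Subgroup G) := by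
        have := orderOf_dvd_natCard (⟨c, hc.1⟩ : (P : Subgroup G))
        rwa [Subgroup.orderOf_mk] at this
      exact Nat.Coprime.coprime_dvd_left e1 (Nat.Coprime.coprime_dvd_right e2 hcop)
    have h1 := H70Basic.centralizer_mul_of_coprime hct hco
    have h2 := h (t * c)
    rw [h1, ← Subgroup.relIndex_mul_index (inf_le_left : centralizer ({t} : Set G) ⊓ centralizer ({c} : Set G) ≤ _), hidx,
      Subgroup.inf_relIndex_left] at h2
    -- p divides the first factor
    have h3 : p ∣ (centralizer ({c} : Set G)).relIndex (centralizer ({t} : Set G)) := by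
      have h4 : (centralizer ({c} : Set G)).relIndex C ∣ (centralizer ({c} : Set G)).relIndex (centralizer ({t} : Set G)) := by
        have h5 : (C.subgroupOf (centralizer ({t} : Set G))).Normal := inferInstance
        have h6 := relIndex_dvd_index ((centralizer ({c} : Set G)).subgroupOf (centralizer ({t} : Set G)))
          (C.subgroupOf (centralizer ({t} : Set G)))
        rwa [Subgroup.relIndex_subgroupOf inf_le_right] at h6
      refine dvd_trans ?_ h4
      have h7 : (centralizer ({c} : Set G)).relIndex C ≠ 1 := by
        intro h8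
        rw [Subgroup.relIndex_eq_one] at h8
        exact hne (mem_centralizer_singleton_iff.1 (h8 hd)).symm
      have h9 : (centralizer ({c} : Set G)).relIndex C ∣ p ^ k := by
        rw [← hk]
        exact (Subgroup.relIndex_dvd_card _ _).trans (Subgroup.card_dvd_of_le inf_le_left)
      obtain ⟨j, _, hj⟩ := (Nat.dvd_prime_pow hp.out).1 h9
      rw [hj]
      apply dvd_pow_self
      rintro rfl
      exact h7 (by rw [hj, pow_zero])
    obtain ⟨m, hm⟩ := h3
    rw [hm] at h2
    exact (Nat.squarefree_iff_prime_squarefree.1 h2 p hp.out) ⟨m, by ring⟩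
  -- G' ≤ K
  have hle : commutator G ≤ K := by
    have hab : ∀ x ∈ (C ⊔ H : Subgroup G), ∀ y ∈ (C ⊔ H : Subgroup G), x * y = y * x := by
      have h1 : (C ⊔ H : Subgroup G) ≤ centralizer ((C ⊔ H : Subgroup G) : Set G) := by
        have hHH : H ≤ centralizer (H : Set G) := by
          intro x hx
          rw [mem_centralizer_iff]
          intro y hy
          rw [ht] at hx
          rw [SetLike.mem_coe, ht] at hy
          obtain ⟨i, rfl⟩ := hx
          obtain ⟨j, rfl⟩ := hy
          exact ((Commute.refl t).zpow_left j).zpow_right i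
        have hCC : C ≤ centralizer (C : Set G) := by
          intro x hx
          rw [mem_centralizer_iff]
          intro y hy
          exact hCab y hy x hx
        have hHC' : H ≤ centralizer (C : Set G) := by rw [Subgroup.le_centralizer_iff]; exact hCH
        refine sup_le ?_ ?_
        · rw [Subgroup.le_centralizer_iff]
          exact sup_le hCC hHC'
        · rw [Subgroup.le_centralizer_iff]
          exact sup_le hCH hHH
      intro x hx y hy
      exact mem_centralizer_iff.1 (h1 hy) x hx
    have htop : K ⊔ (C ⊔ H) = ⊤ := by rw [← sup_assoc, hKsupC, hsup]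
    rw [_root_.commutator_def, Subgroup.commutator_le]
    intro a _ b _
    have ha : a ∈ (K ⊔ (C ⊔ H) : Subgroup G) := by rw [htop]; trivial
    have hb : b ∈ (K ⊔ (C ⊔ H) : Subgroup G) := by rw [htop]; trivial
    rw [Subgroup.mem_sup_of_normal_left] at ha hb
    obtain ⟨a1, ha1, a2, ha2, rfl⟩ := ha
    obtain ⟨b1, hb1, b2, hb2, rfl⟩ := hb
    rw [← QuotientGroup.eq_one_iff]
    have e1 : ((a1 : G) : G ⧸ K) = 1 := (QuotientGroup.eq_one_iff _).2 ha1
    have e2 : ((b1 : G) : G ⧸ K) = 1 := (QuotientGroup.eq_one_iff _).2 hb1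
    have e3 : ((⁅a1 * a2, b1 * b2⁆ : G) : G ⧸ K) = ⁅((a1 * a2 : G) : G ⧸ K), ((b1 * b2 : G) : G ⧸ K)⁆ := rfl
    rw [e3, QuotientGroup.mk_mul, QuotientGroup.mk_mul, e1, e2, one_mul, one_mul, commutatorElement_eq_one_iff_mul_comm,
      ← QuotientGroup.mk_mul, ← QuotientGroup.mk_mul, hab a2 ha2 b2 hb2]
  rw [← hKcard]
  exact Subgroup.card_dvd_of_le hle

end Cfsg.Agent.Lib.SquarefreeClasses
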