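import Mathlib
import Cfsg.Agent.Lib.Star68
import Cfsg.Agent.S0071
import Cfsg.Agent.S0205

/-! # S4233, piece A2 (helper22) -/

set_option autoImplicit false

namespace Cfsg.Agent.Lib.Star68A2h22

open Cfsg.Agent.Lib.Star68

variable {G : Type*} [Group G]

theorem conj_mem {H : Subgroup G} {g a : G} (hg : g ∈ Subgroup.normalizer (H : Set G)) (ha : a ∈ H) :
    g * a * g⁻¹ ∈ H := (Subgroup.mem_normalizer_iff.1 hg a).1 ha

theorem conj_mem' {H : Subgroup G} {g a : G} (hg : g ∈ Subgroup.normalizer (H : Set G)) (ha : a ∈ H) :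
    g⁻¹ * a * g ∈ H := by
  have := conj_mem (inv_mem hg) ha
  simpa using this

theorem mem_nz {H : Subgroup G} {g : G} (h1 : ∀ a ∈ H, g * a * g⁻¹ ∈ H) (h2 : ∀ a ∈ H, g⁻¹ * a * g ∈ H) :
    g ∈ Subgroup.normalizer (H : Set G) := by
  rw [Subgroup.mem_normalizer_iff]
  intro a
  refine ⟨h1 a, fun h => ?_⟩
  have := h2 _ h
  simpa [mul_assoc] using this

theorem le_nz_of_comm {H K : Subgroup G} (hc : ∀ a ∈ H, ∀ x ∈ K, a * x = x * a) :
    K ≤ Subgroup.normalizer (H : Set G) := by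
  rw [Subgroup.le_normalizer_iff]
  intro x hx a ha
  rw [← hc a ha x hx, mul_inv_cancel_right]; exact ha

theorem mem_sup_of_nz {H K : Subgroup G} (hK : K ≤ Subgroup.normalizer (H : Set G)) {g : G} (hg : g ∈ H ⊔ K) :
    ∃ a ∈ H, ∃ x ∈ K, g = a * x := by
  let S : Subgroup G :=
    { carrier := {g | ∃ a ∈ H, ∃ x ∈ K, g = a * x}
      one_mem' := ⟨1, one_mem _, 1, one_mem _, by simp⟩
      mul_mem' := by
        rintro _ _ ⟨a, ha, x, hx, rfl⟩ ⟨b, hb, y, hy, rfl⟩
        refine ⟨a * (x * b * x⁻¹), mul_mem ha (conj_mem (hK hx) hb), x * y, mul_mem hx hy, by group⟩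
      inv_mem' := by
        rintro _ ⟨a, ha, x, hx, rfl⟩
        refine ⟨x⁻¹ * a⁻¹ * x, conj_mem' (hK hx) (inv_mem ha), x⁻¹, inv_mem hx, by group⟩ }
  have : H ⊔ K ≤ S := sup_le (fun a ha => ⟨a, ha, 1, one_mem _, by simp⟩)
    (fun x hx => ⟨1, one_mem _, x, hx, by simp⟩)
  exact this hg

theorem pow_eq_one_of_mem {p : ℕ} {H : Subgroup G} (hH : IsPGroup p H) {a : G} (ha : a ∈ H) :
    ∃ k, a ^ p ^ k = 1 := by
  obtain ⟨k, hk⟩ := hH ⟨a, ha⟩
  exact ⟨k, by simpa using congrArg Subtype.val hk⟩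

theorem eq_one_of_pp {p q : ℕ} (hp : p.Prime) (hq : q.Prime) (hpq : p ≠ q) {a : G} {m n : ℕ}
    (h1 : a ^ p ^ m = 1) (h2 : a ^ q ^ n = 1) : a = 1 := by
  have hc : Nat.Coprime (p ^ m) (q ^ n) := Nat.Coprime.pow _ _ ((Nat.coprime_primes hp hq).2 hpq)
  have := Nat.dvd_gcd (orderOf_dvd_of_pow_eq_one h1) (orderOf_dvd_of_pow_eq_one h2)
  rw [hc.gcd_eq_one] at this
  exact orderOf_eq_one_iff.1 (Nat.dvd_one.1 this)

/-- commuting `p`- and `q`-subgroups: `N(H) ≤ N(K)` -/
theorem nz_le (h : Star68.Star G) {p q : ℕ} (hp : p.Prime) (hq : q.Prime) (hpq : p ≠ q) {H K : Subgroup G}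
    (hH : IsPGroup p H) (hH1 : H ≠ ⊥) (hK : IsPGroup q K) (hc : ∀ a ∈ H, ∀ x ∈ K, a * x = x * a) :
    Subgroup.normalizer (H : Set G) ≤ Subgroup.normalizer (K : Set G) := by
  have hKN := le_nz_of_comm hc
  have h1 := h.nrm p q H K hp hq hpq hH hH1 hK hKN
  rw [Subgroup.le_normalizer_iff]
  intro g hg x hx
  have h2 : g * x * g⁻¹ ∈ H ⊔ K := conj_mem (h1 hg) (Subgroup.mem_sup_right hx)
  obtain ⟨a, ha, x', hx', he⟩ := mem_sup_of_nz hKN h2
  obtain ⟨n, hn⟩ := pow_eq_one_of_mem hK hx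
  obtain ⟨n', hn'⟩ := pow_eq_one_of_mem hK hx'
  obtain ⟨m, hm⟩ := pow_eq_one_of_mem hH ha
  have hcomm : Commute a x' := hc a ha x' hx'
  have h3 : (a * x') ^ q ^ n = 1 := by rw [← he, conj_pow, hn]; group
  have h4 : a ^ q ^ (n + n') = 1 := by
    have e1 : (a * x') ^ q ^ (n + n') = 1 := by rw [pow_add, pow_mul, h3, one_pow]
    have e2 : x' ^ q ^ (n + n') = 1 := by rw [add_comm, pow_add, pow_mul, hn', one_pow]
    rw [hcomm.mul_pow, e2, mul_one] at e1; exact e1
  have h5 : a = 1 := eq_one_of_pp hp hq hpq hm h4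
  rw [he, h5, one_mul]; exact hx'

theorem nz_eq (h : Star68.Star G) {p q : ℕ} (hp : p.Prime) (hq : q.Prime) (hpq : p ≠ q) {H K : Subgroup G}
    (hH : IsPGroup p H) (hH1 : H ≠ ⊥) (hK : IsPGroup q K) (hK1 : K ≠ ⊥) (hc : ∀ a ∈ H, ∀ x ∈ K, a * x = x * a) :
    Subgroup.normalizer (H : Set G) = Subgroup.normalizer (K : Set G) :=
  le_antisymm (nz_le h hp hq hpq hH hH1 hK hc)
    (nz_le h hq hp hpq.symm hK hK1 hH (fun a ha x hx => (hc x hx a ha).symm))

theorem isPGroup_zpowers {r : ℕ} {y : G} {k : ℕ} (hy : y ^ r ^ k = 1) : IsPGroup r (Subgroup.zpowers y) := by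
  rintro ⟨g, hg⟩
  obtain ⟨i, rfl⟩ := Subgroup.mem_zpowers_iff.1 hg
  refine ⟨k, Subtype.ext ?_⟩
  simp only [SubmonoidClass.mk_pow, OneMemClass.coe_one]
  rw [← zpow_natCast, ← zpow_mul, mul_comm, zpow_mul, zpow_natCast, hy, one_zpow]

/-- normalizer condition in a subgroup -/
theorem exists_nz [Finite G] {p : ℕ} (hp : p.Prime) {H K : Subgroup G} (hH : IsPGroup p H) (hK : K ≤ H) (hne : K ≠ H) :
    ∃ x ∈ H, x ∉ K ∧ x ∈ Subgroup.normalizer (K : Set G) := by
  have := Fact.mk hp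
  have : Group.IsNilpotent H := hH.isNilpotent
  have h1 : K.subgroupOf H ≠ ⊤ := by
    intro h
    rw [Subgroup.subgroupOf_eq_top] at h
    exact hne (le_antisymm hK h)
  have h2 := Group.normalizerCondition_of_isNilpotent (G := H) (K.subgroupOf H) (lt_top_iff_ne_top.2 h1)
  obtain ⟨x, hx, hxK⟩ := SetLike.exists_of_lt h2
  refine ⟨x, x.2, fun h => hxK (by rw [Subgroup.mem_subgroupOf]; exact h), mem_nz ?_ ?_⟩
  · intro a ha
    have := conj_mem hx (a := ⟨a, hK ha⟩) (by rw [Subgroup.mem_subgroupOf]; exact ha)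
    rw [Subgroup.mem_subgroupOf] at this
    simpa using this
  · intro a ha
    have := conj_mem' hx (a := ⟨a, hK ha⟩) (by rw [Subgroup.mem_subgroupOf]; exact ha)
    rw [Subgroup.mem_subgroupOf] at this
    simpa using this

/-- (F) -/
theorem fpf [Finite G] (h : Star68.Star G) {p r : ℕ} (hp : p.Prime) (hr : r.Prime) (hpr : p ≠ r) {H : Subgroup G}
    (hH : IsPGroup p H) {y : G} (hy : y ∈ Subgroup.normalizer (H : Set G)) {k : ℕ} (hyr : y ^ r ^ k = 1)
    (hny : ¬ ∀ a ∈ H, a * y = y * a) : ∀ a ∈ H, a * y = y * a → a = 1 := by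
  intro a ha hay
  by_contra ha1
  have hy1 : y ≠ 1 := by
    rintro rfl
    exact hny (fun a _ => by simp)
  let H1 : Subgroup G := H ⊓ Subgroup.centralizer ({y} : Set G)
  have hmem : ∀ b, b ∈ H1 ↔ b ∈ H ∧ b * y = y * b := by
    intro b
    simp only [H1, Subgroup.mem_inf, Subgroup.mem_centralizer_singleton_iff]
  have hH1p : IsPGroup p H1 := hH.to_le inf_le_left
  have hH1b : H1 ≠ ⊥ := by
    intro hb
    have : a ∈ H1 := (hmem a).2 ⟨ha, hay⟩
    rw [hb, Subgroup.mem_bot] at this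
    exact ha1 this
  have hz1 : Subgroup.zpowers y ≠ ⊥ := by rwa [Ne, Subgroup.zpowers_eq_bot]
  have hN := nz_eq h hp hr hpr hH1p hH1b (isPGroup_zpowers hyr) hz1 (by
    rintro b hb x hx
    obtain ⟨i, rfl⟩ := Subgroup.mem_zpowers_iff.1 hx
    exact Commute.zpow_right (show Commute b y from ((hmem b).1 hb).2) i)
  have hne : H1 ≠ H := by
    intro he
    apply hny
    intro b hb
    rw [← he] at hb
    exact ((hmem b).1 hb).2
  obtain ⟨x, hxH, hxH1, hxN⟩ := exists_nz hp hH (inf_le_left : H1 ≤ H) hne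
  apply hxH1
  rw [hmem]
  refine ⟨hxH, ?_⟩
  rw [hN] at hxN
  have h1 : x * y * x⁻¹ ∈ Subgroup.zpowers y := conj_mem hxN (Subgroup.mem_zpowers y)
  have h2 : x * y * x⁻¹ * y⁻¹ ∈ Subgroup.zpowers y := mul_mem h1 (inv_mem (Subgroup.mem_zpowers y))
  have h3 : x * y * x⁻¹ * y⁻¹ ∈ H := by
    have := mul_mem hxH (conj_mem hy (inv_mem hxH))
    simpa [mul_assoc] using this
  obtain ⟨n, hn⟩ := pow_eq_one_of_mem hH h3
  obtain ⟨n', hn'⟩ := pow_eq_one_of_mem (isPGroup_zpowers hyr) h2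
  have h4 := eq_one_of_pp hp hr hpr hn hn'
  calc x * y = (x * y * x⁻¹ * y⁻¹) * (y * x) := by group
    _ = y * x := by rw [h4, one_mul]

/-- fixed point of an `r`-element on a finite set of size prime to `r` -/
theorem fixpt [Finite G] {r : ℕ} (hr : r.Prime) {y : G} {k : ℕ} (hyr : y ^ r ^ k = 1) (Ω : Set G)
    (hΩ : ∀ a ∈ Ω, y * a * y⁻¹ ∈ Ω) (hcard : ¬ r ∣ Nat.card Ω) : ∃ a ∈ Ω, a * y = y * a := by
  classical
  have := Fact.mk hr
  let f : Ω → Ω := fun a => ⟨y * a * y⁻¹, hΩ a a.2⟩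
  have hinj : Function.Injective f := by
    intro a b hab
    have := congrArg Subtype.val hab
    simp only [f] at this
    exact Subtype.ext (by simpa using this)
  let σ : Equiv.Perm Ω := Equiv.ofBijective f (Finite.injective_iff_bijective.1 hinj)
  have hσ : ∀ a : Ω, ((σ a : Ω) : G) = y * a * y⁻¹ := fun a => rfl
  have hpow : ∀ (n : ℕ) (a : Ω), (((σ ^ n) a : Ω) : G) = y ^ n * a * (y ^ n)⁻¹ := by
    intro n
    induction n with
    | zero => intro a; simp
    | succ n ih =>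
      intro a
      rw [pow_succ', Equiv.Perm.mul_apply, hσ, ih, pow_succ']; group
  have h1 : σ ^ r ^ k = 1 := by
    ext a
    rw [hpow, hyr]; simp
  let _ : Fintype Ω := Fintype.ofFinite _
  rw [Nat.card_eq_fintype_card] at hcard
  obtain ⟨a, ha⟩ := Equiv.Perm.exists_fixed_point_of_prime hcard h1
  refine ⟨a, a.2, ?_⟩
  have := congrArg Subtype.val ha
  rw [hσ] at this
  rw [mul_inv_eq_iff_eq_mul] at this
  exact this.symm

/-- a prime power element outside a subgroup -/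
theorem exists_pp (K : Subgroup G) : ∀ (n : ℕ) (g : G), 0 < orderOf g → orderOf g ≤ n → g ∉ K →
    ∃ (r k : ℕ) (y : G), r.Prime ∧ orderOf y = r ^ k ∧ y ∈ Subgroup.zpowers g ∧ y ∉ K := by
  intro n
  induction n with
  | zero => intro g h0 h1; omega
  | succ n ih =>
    intro g h0 hn hg
    have hne1 : orderOf g ≠ 1 := by
      intro h
      rw [orderOf_eq_one_iff] at h
      exact hg (h ▸ one_mem _)
    obtain ⟨r, hr, hrd⟩ := Nat.exists_prime_and_dvd hne1
    set v := (orderOf g).factorization r with hv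
    set s := orderOf g / r ^ v with hs
    have hmul : r ^ v * s = orderOf g := Nat.ordProj_mul_ordCompl_eq_self (orderOf g) r
    have hcop : Nat.Coprime (r ^ v) s := (Nat.coprime_ordCompl hr h0.ne').pow_left v
    have hvpos : 0 < v := hr.factorization_pos_of_dvd h0.ne' hrd
    have hs0 : 0 < s := Nat.pos_of_ne_zero (by rintro h; rw [h, mul_zero] at hmul; omega)
    have hrv1 : 1 < r ^ v := Nat.one_lt_pow hvpos.ne' hr.one_lt
    by_cases hgs : g ^ s ∈ K
    · have h2 : g ^ r ^ v ∉ K := by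
        intro h2
        apply hg
        have hb := Nat.gcd_eq_gcd_ab (r ^ v) s
        rw [hcop.gcd_eq_one] at hb
        have : g = (g ^ r ^ v) ^ ((r ^ v).gcdA s) * (g ^ s) ^ ((r ^ v).gcdB s) := by
          rw [← zpow_natCast, ← zpow_natCast, ← zpow_mul, ← zpow_mul, ← zpow_add]
          have h3 : ((r ^ v : ℕ) : ℤ) * (r ^ v).gcdA s + (s : ℤ) * (r ^ v).gcdB s = 1 := by
            rw [← hb]; simp
          rw [h3, zpow_one]
        rw [this]
        exact mul_mem (zpow_mem h2 _) (zpow_mem hgs _)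
      have ho : orderOf (g ^ r ^ v) = s := by
        rw [orderOf_pow_of_dvd (by positivity) (Dvd.intro _ hmul), ← hmul]
        exact Nat.mul_div_cancel_left _ (by positivity)
      have hlt : s < orderOf g := by
        rw [← hmul]; nlinarith
      obtain ⟨r', k', y, hr', hy1, hy2, hy3⟩ := ih (g ^ r ^ v) (by rw [ho]; exact hs0) (by rw [ho]; omega) h2
      refine ⟨r', k', y, hr', hy1, ?_, hy3⟩
      exact (Subgroup.zpowers_le.2 (Subgroup.npow_mem_zpowers g _)) hy2
    · refine ⟨r, v, g ^ s, hr, ?_, Subgroup.npow_mem_zpowers g _, hgs⟩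
      rw [orderOf_pow_of_dvd hs0.ne' (Dvd.intro_left _ hmul), ← hmul]
      exact Nat.mul_div_cancel _ hs0


theorem all_or_none {q : ℕ} (hq : q.Prime) {Q : Subgroup G} (hQ : Nat.card Q = q) {s u : G}
    (hu : u ∈ Q) (hu1 : u ≠ 1) (hs : s * u = u * s) : ∀ v ∈ Q, s * v = v * s := by
  intro v hv
  have := Fact.mk hq
  have h1 : (⟨v, hv⟩ : Q) ∈ Subgroup.zpowers (⟨u, hu⟩ : Q) :=
    mem_zpowers_of_prime_card hQ (fun h => hu1 (congrArg Subtype.val h))
  obtain ⟨i, hi⟩ := Subgroup.mem_zpowers_iff.1 h1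
  have hi' : u ^ i = v := by simpa using congrArg Subtype.val hi
  rw [← hi']
  exact Commute.zpow_right (show Commute s u from hs) i

theorem commQ {q : ℕ} (hq : q.Prime) {Q : Subgroup G} (hQ : Nat.card Q = q) {u v : G}
    (hu : u ∈ Q) (hv : v ∈ Q) : u * v = v * u := by
  by_cases hu1 : u = 1
  · rw [hu1]; simp
  · exact all_or_none hq hQ hu hu1 rfl v hv

theorem inv_or_cent {q : ℕ} (hq : q.Prime) {Q : Subgroup G} (hQ : Nat.card Q = q) {s : G} (hs : s * s = 1)
    (hsN : ∀ u ∈ Q, s * u * s⁻¹ ∈ Q) : (∀ u ∈ Q, s * u = u * s) ∨ (∀ u ∈ Q, s * u * s⁻¹ = u⁻¹) := by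
  have hsi : s⁻¹ = s := inv_eq_of_mul_eq_one_left hs
  by_cases h : ∃ u ∈ Q, u ≠ 1 ∧ s * u = u * s
  · obtain ⟨u, hu, hu1, hc⟩ := h
    exact Or.inl (all_or_none hq hQ hu hu1 hc)
  · right
    intro u hu
    push Not at h
    by_contra hne
    have hv : u * (s * u * s⁻¹) ∈ Q := mul_mem hu (hsN u hu)
    refine h _ hv (fun he => hne ?_) ?_
    · exact (inv_eq_of_mul_eq_one_right he).symm
    · have hc := commQ hq hQ hu (hsN u hu)
      have e1 : s * (u * (s * u * s⁻¹)) = (s * u * s⁻¹) * (s * s) * u * s⁻¹ := by group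
      have e2 : u * (s * u * s⁻¹) * s = u * (s * u * s⁻¹) * s⁻¹ := by rw [hsi]
      rw [e1, e2, hs, mul_one, hc]

theorem comm_cent {q : ℕ} (hq : q.Prime) {Q : Subgroup G} (hQ : Nat.card Q = q) {a b : G}
    (ha : ∀ u ∈ Q, a * u * a⁻¹ ∈ Q) (hb : ∀ u ∈ Q, b * u * b⁻¹ ∈ Q) :
    ∀ u ∈ Q, (a * b * a⁻¹ * b⁻¹) * u = u * (a * b * a⁻¹ * b⁻¹) := by
  have := Fact.mk hq
  have : Finite Q := Nat.finite_of_card_ne_zero (by rw [hQ]; exact hq.ne_zero)
  have : Nontrivial Q := by
    rw [← Finite.one_lt_card_iff_nontrivial, hQ]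
    exact hq.one_lt
  obtain ⟨⟨u0, hu0⟩, hu01⟩ := exists_ne (1 : Q)
  have hu1 : u0 ≠ 1 := fun h => hu01 (Subtype.ext h)
  have key : ∀ v ∈ Q, ∃ i : ℤ, v = u0 ^ i := by
    intro v hv
    have h1 : (⟨v, hv⟩ : Q) ∈ Subgroup.zpowers (⟨u0, hu0⟩ : Q) := mem_zpowers_of_prime_card hQ hu01
    obtain ⟨i, hi⟩ := Subgroup.mem_zpowers_iff.1 h1
    exact ⟨i, by simpa using (congrArg Subtype.val hi).symm⟩
  obtain ⟨i, hi⟩ := key _ (ha u0 hu0)
  obtain ⟨j, hj⟩ := key _ (hb u0 hu0)
  have e1 : (a * b) * u0 * (a * b)⁻¹ = u0 ^ (i * j) := by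
    have : (a * b) * u0 * (a * b)⁻¹ = a * (b * u0 * b⁻¹) * a⁻¹ := by group
    rw [this, hj, ← conj_zpow, hi, zpow_mul]
  have e2 : (b * a) * u0 * (b * a)⁻¹ = u0 ^ (i * j) := by
    have : (b * a) * u0 * (b * a)⁻¹ = b * (a * u0 * a⁻¹) * b⁻¹ := by group
    rw [this, hi, ← conj_zpow, hj, mul_comm i j, zpow_mul]
  have hw : u0 ^ (i * j) ∈ Q := zpow_mem hu0 _
  have hw1 : u0 ^ (i * j) ≠ 1 := by
    rw [← e1]; intro he
    rw [mul_inv_eq_one] at he
    exact hu1 (by simpa using he)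
  refine all_or_none hq hQ hw hw1 ?_
  have e3 : a * b * a⁻¹ * b⁻¹ = (a * b) * (b * a)⁻¹ := by group
  rw [e3]
  nth_rewrite 1 [← e2]
  rw [← e1]
  group

theorem pc_conj {s : G} (g : G) (hs : IsPGroup 2 (Subgroup.centralizer ({s} : Set G))) :
    IsPGroup 2 (Subgroup.centralizer ({g * s * g⁻¹} : Set G)) := by
  rintro ⟨c, hc⟩
  rw [Subgroup.mem_centralizer_singleton_iff] at hc
  have h1 : g⁻¹ * c * g ∈ Subgroup.centralizer ({s} : Set G) := by
    rw [Subgroup.mem_centralizer_singleton_iff]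
    have : (g⁻¹ * c * g) * s = g⁻¹ * (c * (g * s * g⁻¹)) * g := by group
    rw [this, hc]; group
  obtain ⟨k, hk⟩ := pow_eq_one_of_mem hs h1
  refine ⟨k, Subtype.ext ?_⟩
  simp only [SubmonoidClass.mk_pow, OneMemClass.coe_one]
  have : c = g * (g⁻¹ * c * g) * g⁻¹ := by group
  rw [this, conj_pow, hk]; group

/-- the data of the first half -/
structure Dat (P : Sylow 2 G) (T : Subgroup G) (t z : G) : Prop where
  TP : T ≤ (P : Subgroup G)
  tT : t ∈ T
  zT : z ∈ T
  t2 : t * t = 1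
  z2 : z * z = 1
  z1 : z ≠ 1
  Cz : Subgroup.centralizer ({z} : Set G) = (P : Subgroup G)
  ab : ∀ a ∈ T, ∀ b ∈ T, a * b = b * a
  V : ∀ s ∈ T, s * s = 1 → s = 1 ∨ s = t ∨ s = z ∨ s = t * z
  co : IsCoatom (P : Subgroup G)
  nT : (P : Subgroup G) ≤ Subgroup.normalizer (T : Set G)
  memT : ∀ g ∈ (P : Subgroup G), g * t = t * g → g ∈ T
  memT' : ∀ g ∈ T, g * t = t * g
  mv : ∀ g ∈ (P : Subgroup G), g ∉ T → g * t * g⁻¹ = t * z
  pt : ¬ IsPGroup 2 (Subgroup.centralizer ({t} : Set G))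
  ptz : ¬ IsPGroup 2 (Subgroup.centralizer ({t * z} : Set G))

theorem exists_dat [Finite G] (h : Star68.Star G) (hns : ¬ Group.IsSolvable G)
    (hB1 : ∀ t : G, orderOf t = 2 → ¬ IsPGroup 2 (Subgroup.centralizer ({t} : Set G)) →
      ∃ (q : ℕ) (Q : Subgroup G), Star68.QS t q Q)
    (hA : ∀ (P : Sylow 2 G) (z : G), z ∈ P → orderOf z = 2 → (∀ x ∈ P, x * z = z * x) →
      Subgroup.centralizer ({z} : Set G) = P)
    (t : G) (ht : orderOf t = 2) (hnot : ¬ IsPGroup 2 (Subgroup.centralizer ({t} : Set G))) :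
    ∃ (P : Sylow 2 G) (T : Subgroup G) (z : G), Dat P T t z := by
  have hp2 : Nat.Prime 2 := Nat.prime_two
  have ht2 : t * t = 1 := by rw [← pow_two, ← ht]; exact pow_orderOf_eq_one t
  have ht1 : t ≠ 1 := by rintro rfl; rw [orderOf_one] at ht; omega
  obtain ⟨P, hzt⟩ := (isPGroup_zpowers (r := 2) (y := t) (k := 1)
    (by rw [pow_one, pow_two]; exact ht2)).exists_le_sylow
  have htP : t ∈ (P : Subgroup G) := hzt (Subgroup.mem_zpowers t)
  have hPp : IsPGroup 2 (P : Subgroup G) := P.isPGroup'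
  -- the central involution
  obtain ⟨z, hzP, hzo, hzc⟩ : ∃ z ∈ (P : Subgroup G), orderOf z = 2 ∧ ∀ x ∈ (P : Subgroup G), x * z = z * x := by
    have hnt : Nontrivial (P : Subgroup G) := ⟨⟨⟨t, htP⟩, 1, fun he => ht1 (congrArg Subtype.val he)⟩⟩
    have hc : Nontrivial (Subgroup.center (P : Subgroup G)) := hPp.center_nontrivial
    have hd : 2 ∣ Nat.card (Subgroup.center (P : Subgroup G)) := by
      obtain ⟨n, hn⟩ := IsPGroup.iff_card.1 (hPp.to_subgroup (Subgroup.center (P : Subgroup G)))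
      rw [hn]
      rcases Nat.eq_zero_or_pos n with h0 | h0
      · rw [h0, pow_zero] at hn
        have := Finite.one_lt_card_iff_nontrivial.2 hc
        omega
      · exact dvd_pow_self 2 h0.ne'
    obtain ⟨w, hw⟩ := exists_prime_orderOf_dvd_card' 2 hd
    refine ⟨((w : (P : Subgroup G)) : G), (w : (P : Subgroup G)).2, ?_, ?_⟩
    · rw [Subgroup.orderOf_coe, Subgroup.orderOf_coe, hw]
    · intro x hx
      have := (Subgroup.mem_center_iff.1 w.2) ⟨x, hx⟩
      exact congrArg Subtype.val this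
  have hCz := hA P z hzP hzo hzc
  have hz2 : z * z = 1 := by rw [← pow_two, ← hzo]; exact pow_orderOf_eq_one z
  have hz1 : z ≠ 1 := by rintro rfl; rw [orderOf_one] at hzo; omega
  have hpz : IsPGroup 2 (Subgroup.centralizer ({z} : Set G)) := by rw [hCz]; exact hPp
  obtain ⟨q, Q, hQS⟩ := hB1 t ht hnot
  have hq := hQS.pr
  have hq2 := hQS.ne
  have hQc := hQS.card
  have hNQ := hQS.nz
  obtain ⟨n, hCn⟩ := hQS.cardC
  -- T
  set T : Subgroup G := (P : Subgroup G) ⊓ Subgroup.centralizer ({t} : Set G) with hT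
  have hTm : ∀ a, a ∈ T ↔ a ∈ (P : Subgroup G) ∧ a * t = t * a := by
    intro a
    rw [hT, Subgroup.mem_inf, Subgroup.mem_centralizer_singleton_iff]
  have hTP : T ≤ (P : Subgroup G) := inf_le_left
  have htT : t ∈ T := (hTm t).2 ⟨htP, rfl⟩
  have hzT : z ∈ T := (hTm z).2 ⟨hzP, (hzc t htP).symm⟩
  have hTne : T ≠ (P : Subgroup G) := by
    intro he
    have h1 : ∀ x ∈ P, x * t = t * x := by
      intro x hx
      have hx' : x ∈ T := by rw [he]; exact hx
      exact ((hTm x).1 hx').2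
    have h2 := hA P t htP ht h1
    apply hnot
    rw [h2]; exact hPp
  have hTp : IsPGroup 2 T := hPp.to_le hTP
  obtain ⟨x, hxP, hxT, hxN⟩ := exists_nz hp2 hPp hTP hTne
  -- Q is q-group
  have hQp : IsPGroup q Q := by
    have := Fact.mk hq
    exact IsPGroup.of_card (n := 1) (by rw [pow_one, hQc])
  have hQb : Q ≠ ⊥ := by
    intro hb
    rw [hb, Subgroup.card_bot] at hQc
    exact hq.ne_one hQc.symm
  set Qx : Subgroup G := Q.map (MulAut.conj x).toMonoidHom with hQx
  have hQxm : ∀ a, a ∈ Qx ↔ x⁻¹ * a * x ∈ Q := by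
    intro a
    rw [hQx, Subgroup.mem_map]
    constructor
    · rintro ⟨b, hb, rfl⟩
      simpa [mul_assoc] using hb
    · intro ha
      exact ⟨_, ha, by simp [mul_assoc]⟩
  have hQxc : Nat.card Qx = q := by
    rw [hQx, ← hQc]
    exact (Nat.card_congr (Subgroup.equivMapOfInjective Q _ (MulAut.conj x).injective).toEquiv).symm
  have hQxp : IsPGroup q Qx := by
    have := Fact.mk hq
    exact IsPGroup.of_card (n := 1) (by rw [pow_one, hQxc])
  have hQxb : Qx ≠ ⊥ := by
    intro hb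
    rw [hb, Subgroup.card_bot] at hQxc
    exact hq.ne_one hQxc.symm
  have hTQ : ∀ a ∈ T, ∀ u ∈ Q, a * u * a⁻¹ ∈ Q := by
    intro a ha u hu
    have : a ∈ Subgroup.normalizer (Q : Set G) := by
      rw [hNQ, Subgroup.mem_centralizer_singleton_iff]; exact ((hTm a).1 ha).2
    exact conj_mem this hu
  have hTQx : ∀ a ∈ T, ∀ u ∈ Qx, a * u * a⁻¹ ∈ Qx := by
    intro a ha u hu
    rw [hQxm] at hu ⊢
    have h1 := hTQ _ (conj_mem' hxN ha) _ hu
    have h2 : x⁻¹ * a * x * (x⁻¹ * u * x) * (x⁻¹ * a * x)⁻¹ = x⁻¹ * (a * u * a⁻¹) * x := by group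
    rw [h2] at h1; exact h1
  -- nothing in T centralizes both
  have hboth : ∀ a ∈ T, (∀ u ∈ Q, a * u = u * a) → (∀ u ∈ Qx, a * u = u * a) → a = 1 := by
    intro a ha h1 h2
    by_contra ha1
    obtain ⟨k, hk⟩ := pow_eq_one_of_mem hTp ha
    have hz := isPGroup_zpowers hk
    have hzb : Subgroup.zpowers a ≠ ⊥ := by rwa [Ne, Subgroup.zpowers_eq_bot]
    have e1 := nz_eq h hp2 hq hq2.symm hz hzb hQp hQb (by
      intro b hb u hu
      obtain ⟨i, rfl⟩ := Subgroup.mem_zpowers_iff.1 hb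
      exact (Commute.zpow_left (show Commute a u from h1 u hu) i))
    have e2 := nz_eq h hp2 hq hq2.symm hz hzb hQxp hQxb (by
      intro b hb u hu
      obtain ⟨i, rfl⟩ := Subgroup.mem_zpowers_iff.1 hb
      exact (Commute.zpow_left (show Commute a u from h2 u hu) i))
    have e3 : Subgroup.normalizer (Qx : Set G) = Subgroup.centralizer ({t} : Set G) := by rw [← e2, e1, hNQ]
    have hQle : Q ≤ Subgroup.centralizer ({t} : Set G) := by rw [← hNQ]; exact Subgroup.le_normalizer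
    have hQxle : Qx ≤ Subgroup.centralizer ({t} : Set G) := by rw [← e3]; exact Subgroup.le_normalizer
    -- Qx ≤ Q
    have hle : ∀ w ∈ Qx, w ∈ Q := by
      intro w hw
      set C := Subgroup.centralizer ({t} : Set G) with hC
      have hnorm : (Q.subgroupOf C).Normal := by
        rw [Subgroup.normal_subgroupOf_iff_le_normalizer hQle, hNQ]
      have hidx : (Q.subgroupOf C).index = 2 ^ n := by
        have h3 := (Q.subgroupOf C).card_mul_index
        rw [Nat.card_congr (Subgroup.subgroupOfEquivOfLe hQle).toEquiv, hQc, hCn] at h3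
        exact Nat.eq_of_mul_eq_mul_left hq.pos h3
      have h4 : (⟨w, hQxle hw⟩ : C) ^ (2 ^ n) ∈ Q.subgroupOf C := by
        rw [← hidx]; exact Subgroup.pow_index_mem _ _
      have h5 : w ^ 2 ^ n ∈ Q := by
        rw [Subgroup.mem_subgroupOf] at h4; simpa using h4
      have h6 : w ^ q = 1 := by
        have := pow_card_eq_one' (x := (⟨w, hw⟩ : Qx))
        rw [hQxc] at this
        simpa using congrArg Subtype.val this
      have hcop : Nat.Coprime (2 ^ n) q := Nat.Coprime.pow_left _ ((Nat.coprime_primes hp2 hq).2 hq2.symm)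
      have hb := Nat.gcd_eq_gcd_ab (2 ^ n) q
      rw [hcop.gcd_eq_one] at hb
      have h7 : w = (w ^ 2 ^ n) ^ ((2 ^ n).gcdA q) * (w ^ q) ^ ((2 ^ n).gcdB q) := by
        rw [← zpow_natCast, ← zpow_natCast, ← zpow_mul, ← zpow_mul, ← zpow_add]
        have h3 : ((2 ^ n : ℕ) : ℤ) * (2 ^ n).gcdA q + (q : ℤ) * (2 ^ n).gcdB q = 1 := by
          rw [← hb]; simp
        rw [h3, zpow_one]
      rw [h7, h6, one_zpow, mul_one]
      exact zpow_mem h5 _
    have hQeq : Qx = Q := by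
      apply Subgroup.eq_of_le_of_card_ge hle
      rw [hQc, hQxc]
    apply hxT
    rw [hTm]
    refine ⟨hxP, ?_⟩
    have hxNQ : x ∈ Subgroup.normalizer (Q : Set G) := by
      apply mem_nz
      · intro a ha
        have : x * a * x⁻¹ ∈ Qx := by rw [hQxm]; simpa [mul_assoc] using ha
        rw [hQeq] at this; exact this
      · intro a ha
        rw [← hQxm, hQeq]; exact ha
    rw [hNQ, Subgroup.mem_centralizer_singleton_iff] at hxNQ
    exact hxNQ
  -- T abelian
  have hab : ∀ a ∈ T, ∀ b ∈ T, a * b = b * a := by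
    intro a ha b hb
    have h1 : a * b * a⁻¹ * b⁻¹ = 1 := by
      apply hboth
      · exact mul_mem (mul_mem (mul_mem ha hb) (inv_mem ha)) (inv_mem hb)
      · exact comm_cent hq hQc (hTQ a ha) (hTQ b hb)
      · exact comm_cent hq hQxc (hTQx a ha) (hTQx b hb)
    calc a * b = (a * b * a⁻¹ * b⁻¹) * (b * a) := by group
      _ = b * a := by rw [h1, one_mul]
  -- z inverts
  have hzQ : ∀ (K : Subgroup G), Nat.card K = q → (∀ u ∈ K, z * u * z⁻¹ ∈ K) → ∀ u ∈ K, z * u * z⁻¹ = u⁻¹ := by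
    intro K hK hn
    rcases inv_or_cent hq hK hz2 hn with h1 | h1
    · exfalso
      have h2 : K ≤ (P : Subgroup G) := by
        rw [← hCz]
        intro u hu
        rw [Subgroup.mem_centralizer_singleton_iff]
        exact (h1 u hu).symm
      have h3 := hPp.to_le h2
      obtain ⟨m, hm⟩ := IsPGroup.iff_card.1 h3
      rw [hK] at hm
      have : q ∣ 2 := by
        have : q ∣ 2 ^ m := by rw [← hm]
        exact hq.dvd_of_dvd_pow this
      exact hq2 ((Nat.prime_dvd_prime_iff_eq hq hp2).1 this)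
    · exact h1
  have hzQ1 := hzQ Q hQc (hTQ z hzT)
  have hzQ2 := hzQ Qx hQxc (hTQx z hzT)
  have htQ1 : ∀ u ∈ Q, t * u = u * t := by
    intro u hu
    have : u ∈ Subgroup.centralizer ({t} : Set G) := by
      rw [← hNQ]; exact Subgroup.le_normalizer hu
    rw [Subgroup.mem_centralizer_singleton_iff] at this
    exact this.symm
  have htQ2 : ∀ u ∈ Qx, t * u * t⁻¹ = u⁻¹ := by
    rcases inv_or_cent hq hQxc ht2 (hTQx t htT) with h1 | h1
    · exact absurd (hboth t htT htQ1 h1) ht1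
    · exact h1
  have hinv2 : ∀ (K : Subgroup G) (a b : G), (∀ u ∈ K, a * u * a⁻¹ = u⁻¹) → (∀ u ∈ K, b * u * b⁻¹ = u⁻¹) →
      ∀ u ∈ K, (a * b) * u = u * (a * b) := by
    intro K a b ha hb u hu
    have h1 : (a * b) * u * (a * b)⁻¹ = a * (b * u * b⁻¹) * a⁻¹ := by group
    rw [hb u hu, ha _ (inv_mem hu), inv_inv] at h1
    rwa [mul_inv_eq_iff_eq_mul] at h1
  have hcc : ∀ (K : Subgroup G) (a b : G), (∀ u ∈ K, a * u = u * a) → (∀ u ∈ K, b * u = u * b) →
      ∀ u ∈ K, (a * b) * u = u * (a * b) := by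
    intro K a b ha hb u hu
    exact Commute.mul_left (show Commute a u from ha u hu) (show Commute b u from hb u hu)
  have hci : ∀ (K : Subgroup G) (a b : G), (∀ u ∈ K, a * u = u * a) → (∀ u ∈ K, b * u * b⁻¹ = u⁻¹) →
      ∀ u ∈ K, (a * b) * u * (a * b)⁻¹ = u⁻¹ := by
    intro K a b ha hb u hu
    have h1 : (a * b) * u * (a * b)⁻¹ = a * (b * u * b⁻¹) * a⁻¹ := by group
    rw [h1, hb u hu, ha _ (inv_mem hu)]; group
  have hti : t⁻¹ = t := inv_eq_of_mul_eq_one_left ht2
  have hzi : z⁻¹ = z := inv_eq_of_mul_eq_one_left hz2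
  have htz : t * z = z * t := hab t htT z hzT
  have htz2 : (t * z) * (t * z) = 1 := by
    calc (t * z) * (t * z) = t * (z * t) * z := by group
      _ = t * (t * z) * z := by rw [htz]
      _ = (t * t) * (z * z) := by group
      _ = 1 := by rw [ht2, hz2, one_mul]
  have hV : ∀ s ∈ T, s * s = 1 → s = 1 ∨ s = t ∨ s = z ∨ s = t * z := by
    intro s hs hss
    rcases inv_or_cent hq hQc hss (hTQ s hs) with h1 | h1 <;>
      rcases inv_or_cent hq hQxc hss (hTQx s hs) with h2 | h2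
    · left; exact hboth s hs h1 h2
    · right; left
      have := hboth (s * t) (mul_mem hs htT) (hcc Q s t h1 htQ1) (hinv2 Qx s t h2 htQ2)
      rw [← hti]; exact eq_inv_of_mul_eq_one_left this
    · right; right; right
      have e1 : ∀ u ∈ Q, (t * z) * u * (t * z)⁻¹ = u⁻¹ := hci Q t z htQ1 hzQ1
      have e2 : ∀ u ∈ Qx, (t * z) * u = u * (t * z) := hinv2 Qx t z htQ2 hzQ2
      have := hboth (s * (t * z)) (mul_mem hs (mul_mem htT hzT)) (hinv2 Q s (t * z) h1 e1) (hcc Qx s (t * z) h2 e2)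
      rw [← inv_eq_of_mul_eq_one_left htz2]; exact eq_inv_of_mul_eq_one_left this
    · right; right; left
      have := hboth (s * z) (mul_mem hs hzT) (hinv2 Q s z h1 hzQ1) (hinv2 Qx s z h2 hzQ2)
      rw [← hzi]; exact eq_inv_of_mul_eq_one_left this
  -- the subgroup V
  let V : Subgroup G :=
    { carrier := {s | s ∈ T ∧ s * s = 1}
      one_mem' := ⟨one_mem _, by simp⟩
      mul_mem' := by
        rintro a b ⟨ha, ha2⟩ ⟨hb, hb2⟩
        refine ⟨mul_mem ha hb, ?_⟩
        calc (a * b) * (a * b) = a * (b * a) * b := by group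
          _ = a * (a * b) * b := by rw [hab a ha b hb]
          _ = (a * a) * (b * b) := by group
          _ = 1 := by rw [ha2, hb2, one_mul]
      inv_mem' := by
        rintro a ⟨ha, ha2⟩
        refine ⟨inv_mem ha, ?_⟩
        rw [← mul_inv_rev, ha2, inv_one] }
  have hVm : ∀ s, s ∈ V ↔ s ∈ T ∧ s * s = 1 := fun s => Iff.rfl
  have hNTV : Subgroup.normalizer (T : Set G) ≤ Subgroup.normalizer (V : Set G) := by
    rw [Subgroup.le_normalizer_iff]
    intro g hg s hs
    rw [hVm] at hs ⊢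
    refine ⟨conj_mem hg hs.1, ?_⟩
    have : g * s * g⁻¹ * (g * s * g⁻¹) = g * (s * s) * g⁻¹ := by group
    rw [this, hs.2]; group
  have hcoT := h.max 2 T hp2 hTp (by
    intro hb; rw [hb, Subgroup.mem_bot] at htT; exact ht1 htT)
  have hVp : IsPGroup 2 V := hTp.to_le (fun s hs => hs.1)
  have hcoV := h.max 2 V hp2 hVp (by
    intro hb
    have : t ∈ V := ⟨htT, ht2⟩
    rw [hb, Subgroup.mem_bot] at this; exact ht1 this)
  have hNeq : Subgroup.normalizer (T : Set G) = Subgroup.normalizer (V : Set G) := by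
    rcases lt_or_eq_of_le hNTV with h1 | h1
    · exact absurd (hcoT.2 _ h1) hcoV.1
    · exact h1
  -- conjugate of t under x
  have hconj1 : ∀ g : G, g * t * g⁻¹ ≠ 1 := by
    intro g hg
    rw [mul_inv_eq_one] at hg
    exact ht1 (by simpa using hg)
  have hconjz : ∀ g : G, g * t * g⁻¹ ≠ z := by
    intro g hg
    apply hnot
    have h1 : g⁻¹ * z * g⁻¹⁻¹ = t := by rw [← hg]; group
    rw [← h1]
    exact pc_conj _ hpz
  have hsq : ∀ g : G, (g * t * g⁻¹) * (g * t * g⁻¹) = 1 := by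
    intro g
    have : g * t * g⁻¹ * (g * t * g⁻¹) = g * (t * t) * g⁻¹ := by group
    rw [this, ht2]; group
  have hmv : ∀ g ∈ (P : Subgroup G), g ∉ T → g * t * g⁻¹ ∈ T → g * t * g⁻¹ = t * z := by
    intro g hg hgT hgt
    rcases hV _ hgt (hsq g) with h1 | h1 | h1 | h1
    · exact absurd h1 (hconj1 g)
    · exfalso; apply hgT
      rw [hTm]; refine ⟨hg, ?_⟩
      rwa [mul_inv_eq_iff_eq_mul] at h1
    · exact absurd h1 (hconjz g)
    · exact h1
  have hxt : x * t * x⁻¹ = t * z := hmv x hxP hxT (conj_mem hxN htT)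
  have hptz : ¬ IsPGroup 2 (Subgroup.centralizer ({t * z} : Set G)) := by
    intro hp
    apply hnot
    have h1 : x⁻¹ * (t * z) * x⁻¹⁻¹ = t := by rw [← hxt]; group
    rw [← h1]
    exact pc_conj _ hp
  have hNVP : Subgroup.normalizer (V : Set G) ≤ (P : Subgroup G) := by
    intro g hg
    have h1 : g * z * g⁻¹ ∈ V := conj_mem hg ⟨hzT, hz2⟩
    have hpg := pc_conj g hpz
    rw [← hCz, Subgroup.mem_centralizer_singleton_iff]
    rcases hV _ h1.1 h1.2 with h2 | h2 | h2 | h2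
    · exfalso
      rw [mul_inv_eq_one] at h2
      exact hz1 (by simpa using h2)
    · exfalso; apply hnot; rw [← h2]; exact hpg
    · rwa [mul_inv_eq_iff_eq_mul] at h2
    · exfalso; apply hptz; rw [← h2]; exact hpg
  have hPtop : (P : Subgroup G) ≠ ⊤ := by
    intro hP
    apply hns
    have h1 : IsPGroup 2 G := by
      intro g
      obtain ⟨k, hk⟩ := pow_eq_one_of_mem hPp (a := g) (by rw [hP]; exact Subgroup.mem_top g)
      exact ⟨k, hk⟩
    have : Group.IsNilpotent G := h1.isNilpotent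
    infer_instance
  have hNVeq : Subgroup.normalizer (V : Set G) = (P : Subgroup G) := by
    rcases lt_or_eq_of_le hNVP with h1 | h1
    · exact absurd (hcoV.2 _ h1) hPtop
    · exact h1
  refine ⟨P, T, z, ⟨hTP, htT, hzT, ht2, hz2, hz1, hCz, hab, hV, ?_, ?_, ?_, ?_, ?_, hnot, hptz⟩⟩
  · rw [← hNVeq]; exact hcoV
  · rw [hNeq, hNVeq]
  · intro g hg hgt; exact (hTm g).2 ⟨hg, hgt⟩
  · intro g hg; exact ((hTm g).1 hg).2
  · intro g hg hgT
    apply hmv g hg hgT
    have : g ∈ Subgroup.normalizer (T : Set G) := by rw [hNeq, hNVeq]; exact hg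
    exact conj_mem this htT

theorem central_inv [Finite G] {H : Subgroup G} (hH : IsPGroup 2 H) (hb : H ≠ ⊥) :
    ∃ z ∈ H, z ≠ 1 ∧ z * z = 1 ∧ ∀ x ∈ H, x * z = z * x := by
  have hnt : Nontrivial H := (Subgroup.nontrivial_iff_ne_bot H).2 hb
  have hc : Nontrivial (Subgroup.center H) := hH.center_nontrivial
  have hd : 2 ∣ Nat.card (Subgroup.center H) := by
    obtain ⟨n, hn⟩ := IsPGroup.iff_card.1 (hH.to_subgroup (Subgroup.center H))
    rw [hn]
    rcases Nat.eq_zero_or_pos n with h0 | h0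
    · rw [h0, pow_zero] at hn
      have := Finite.one_lt_card_iff_nontrivial.2 hc
      omega
    · exact dvd_pow_self 2 h0.ne'
  obtain ⟨w, hw⟩ := exists_prime_orderOf_dvd_card' 2 hd
  have ho : orderOf ((w : H) : G) = 2 := by rw [Subgroup.orderOf_coe, Subgroup.orderOf_coe, hw]
  refine ⟨((w : H) : G), (w : H).2, ?_, ?_, ?_⟩
  · intro h1; rw [h1, orderOf_one] at ho; omega
  · rw [← pow_two, ← ho]; exact pow_orderOf_eq_one _
  · intro x hx
    have := (Subgroup.mem_center_iff.1 w.2) ⟨x, hx⟩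
    exact congrArg Subtype.val this

/-- Frobenius + Feit-Thompson -/
theorem exists_y [Finite G] (h : Star68.Star G) (hns : ¬ Group.IsSolvable G) (P : Sylow 2 G) :
    ∃ (U : Subgroup G) (r k : ℕ) (y : G), U ≤ (P : Subgroup G) ∧ U ≠ ⊥ ∧ (∀ a ∈ U, a * a = 1) ∧
      (∀ a ∈ U, ∀ b ∈ U, a * b = b * a) ∧ r.Prime ∧ r ≠ 2 ∧ y ^ r ^ k = 1 ∧
      y ∈ Subgroup.normalizer (U : Set G) ∧ ∀ a ∈ U, a * y = y * a → a = 1 := by
  have hp2 : Nat.Prime 2 := Nat.prime_two
  have hPp : IsPGroup 2 (P : Subgroup G) := P.isPGroup'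
  obtain ⟨H0, hH0P, g, hgN, hgc, hgC⟩ : ∃ H0 : Subgroup G, H0 ≤ (P : Subgroup G) ∧
      ∃ g ∈ Subgroup.normalizer (H0 : Set G), Nat.Coprime (orderOf g) 2 ∧
        g ∉ Subgroup.centralizer (H0 : Set G) := by
    by_contra hcon
    apply hns
    have hcon' : ∀ Q : Subgroup G, Q ≤ (P : Subgroup G) → ∀ g ∈ Subgroup.normalizer (Q : Set G),
        Nat.Coprime (orderOf g) 2 → g ∈ Subgroup.centralizer (Q : Set G) := by
      intro Q hQ g hg hc
      by_contra hgc
      exact hcon ⟨Q, hQ, g, hg, hc, hgc⟩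
    obtain ⟨N, hN, hNc⟩ := (Cfsg.Agent.S0071.result P).2 hcon'
    have hodd : Odd (Nat.card N) := by
      rw [← hNc.index_eq_card, ← Nat.not_even_iff_odd, even_iff_two_dvd]
      exact P.not_dvd_index
    have hs1 : Group.IsSolvable N := Cfsg.Agent.S0205.result hodd
    have hs2 : Group.IsSolvable (G ⧸ N) := by
      obtain ⟨m, hm⟩ := IsPGroup.iff_card.1 hPp
      have h1 : IsPGroup 2 (G ⧸ N) := by
        apply IsPGroup.of_card (n := m)
        rw [← hm]
        have := hNc.symm.index_eq_card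
        rw [Subgroup.index] at this
        exact this
      have : Group.IsNilpotent (G ⧸ N) := h1.isNilpotent
      infer_instance
    exact (Group.isSolvable_iff_subgroup_quotient N).2 ⟨hs1, hs2⟩
  obtain ⟨r, k, y, hr, hyo, hyg, hyC⟩ := exists_pp (Subgroup.centralizer (H0 : Set G)) (orderOf g) g
    (orderOf_pos g) le_rfl hgC
  have hyr : y ^ r ^ k = 1 := by rw [← hyo]; exact pow_orderOf_eq_one y
  have hyN : y ∈ Subgroup.normalizer (H0 : Set G) := (Subgroup.zpowers_le.2 hgN) hyg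
  have hr2 : r ≠ 2 := by
    rintro rfl
    have hdvd : orderOf y ∣ orderOf g := by
      obtain ⟨i, rfl⟩ := Subgroup.mem_zpowers_iff.1 hyg
      exact orderOf_dvd_of_pow_eq_one (by rw [← zpow_natCast, ← zpow_mul, mul_comm, zpow_mul, zpow_natCast, pow_orderOf_eq_one, one_zpow])
    have hc := Nat.Coprime.coprime_dvd_left hdvd hgc
    rw [hyo] at hc
    have hk : k = 0 := by
      by_contra hk
      have := Nat.Coprime.coprime_dvd_left (dvd_pow_self 2 hk) hc
      norm_num at this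
    rw [hk, pow_zero] at hyo
    rw [orderOf_eq_one_iff] at hyo
    exact hyC (hyo ▸ one_mem _)
  have hH0p : IsPGroup 2 H0 := hPp.to_le hH0P
  have hny : ¬ ∀ a ∈ H0, a * y = y * a := by
    intro hall
    apply hyC
    rw [Subgroup.mem_centralizer_iff]
    intro a ha
    exact hall a ha
  have hH0b : H0 ≠ ⊥ := by
    rintro rfl
    apply hny
    intro a ha
    rw [Subgroup.mem_bot] at ha
    rw [ha]; simp
  have hf := fpf h hp2 hr hr2.symm hH0p hyN hyr hny
  let U : Subgroup G :=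
    { carrier := {s | s ∈ H0 ∧ s * s = 1 ∧ ∀ b ∈ H0, s * b = b * s}
      one_mem' := ⟨one_mem _, by simp, by simp⟩
      mul_mem' := by
        rintro a b ⟨ha, ha2, ha3⟩ ⟨hb, hb2, hb3⟩
        refine ⟨mul_mem ha hb, ?_, ?_⟩
        · calc (a * b) * (a * b) = a * (b * a) * b := by group
            _ = a * (a * b) * b := by rw [ha3 b hb]
            _ = (a * a) * (b * b) := by group
            _ = 1 := by rw [ha2, hb2, one_mul]
        · intro c hc
          exact Commute.mul_left (show Commute a c from ha3 c hc) (show Commute b c from hb3 c hc)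
      inv_mem' := by
        rintro a ⟨ha, ha2, ha3⟩
        refine ⟨inv_mem ha, ?_, ?_⟩
        · rw [← mul_inv_rev, ha2, inv_one]
        · intro c hc
          exact Commute.inv_left (show Commute a c from ha3 c hc) }
  have hUm : ∀ s, s ∈ U ↔ s ∈ H0 ∧ s * s = 1 ∧ ∀ b ∈ H0, s * b = b * s := fun s => Iff.rfl
  obtain ⟨w, hw, hw1, hw2, hw3⟩ := central_inv hH0p hH0b
  refine ⟨U, r, k, y, fun s hs => hH0P hs.1, ?_, fun a ha => ha.2.1, fun a ha b hb => ha.2.2 b hb.1, hr, hr2, hyr,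
    ?_, fun a ha => hf a ha.1⟩
  · intro hb
    have : w ∈ U := ⟨hw, hw2, fun b hb => (hw3 b hb).symm⟩
    rw [hb, Subgroup.mem_bot] at this
    exact hw1 this
  · have key : ∀ v ∈ Subgroup.normalizer (H0 : Set G), ∀ a ∈ U, v * a * v⁻¹ ∈ U := by
      intro v hv a ha
      refine ⟨conj_mem hv ha.1, ?_, ?_⟩
      · have : v * a * v⁻¹ * (v * a * v⁻¹) = v * (a * a) * v⁻¹ := by group
        rw [this, ha.2.1]; group
      · intro b hb
        have h1 := ha.2.2 _ (conj_mem' hv hb)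
        calc v * a * v⁻¹ * b = v * (a * (v⁻¹ * b * v)) * v⁻¹ := by group
          _ = v * ((v⁻¹ * b * v) * a) * v⁻¹ := by rw [h1]
          _ = b * (v * a * v⁻¹) := by group
    apply mem_nz (key y hyN)
    intro a ha
    have := key y⁻¹ (inv_mem hyN) a ha
    simpa using this

theorem final [Finite G] (h : Star68.Star G) (hns : ¬ Group.IsSolvable G) {P : Sylow 2 G} {T : Subgroup G}
    {t z : G} (D : Dat P T t z) : False := by
  have hp2 : Nat.Prime 2 := Nat.prime_two
  have hPp : IsPGroup 2 (P : Subgroup G) := P.isPGroup'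
  have hTp : IsPGroup 2 T := hPp.to_le D.TP
  have hzP : z ∈ (P : Subgroup G) := D.TP D.zT
  have htP : t ∈ (P : Subgroup G) := D.TP D.tT
  have hzc : ∀ g ∈ (P : Subgroup G), g * z = z * g := by
    intro g hg
    rw [← D.Cz, Subgroup.mem_centralizer_singleton_iff] at hg; exact hg
  have hzc' : ∀ g : G, g * z = z * g → g ∈ (P : Subgroup G) := by
    intro g hg
    rw [← D.Cz, Subgroup.mem_centralizer_singleton_iff]; exact hg
  have hpz : IsPGroup 2 (Subgroup.centralizer ({z} : Set G)) := by rw [D.Cz]; exact hPp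
  have ht2 := D.t2
  have hz2 := D.z2
  have htz : t * z = z * t := D.ab t D.tT z D.zT
  have htz1 : t ≠ z := by
    rintro rfl; exact D.pt hpz
  have ht1 : t ≠ 1 := by
    rintro rfl
    apply D.pt
    have h1 : Subgroup.centralizer ({(1 : G)} : Set G) = ⊤ := by
      ext a; simp [Subgroup.mem_centralizer_singleton_iff]
    exfalso
    apply D.ptz
    rw [one_mul]; exact hpz
  obtain ⟨U, r, k, y, hUP, hUb, hU2, hUab, hr, hr2, hyr, hyN, hf⟩ := exists_y h hns P
  have hUp : IsPGroup 2 U := hPp.to_le hUP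
  -- the conjugate of z by y is not t nor tz
  have hyz : z ∈ U → y * z * y⁻¹ ∈ T → False := by
    intro hzU hT
    have hpg := pc_conj y hpz
    have hsq : y * z * y⁻¹ * (y * z * y⁻¹) = 1 := by
      have : y * z * y⁻¹ * (y * z * y⁻¹) = y * (z * z) * y⁻¹ := by group
      rw [this, hz2]; group
    rcases D.V _ hT hsq with h2 | h2 | h2 | h2
    · rw [mul_inv_eq_one] at h2
      exact D.z1 (by simpa using h2)
    · apply D.pt; rw [← h2]; exact hpg
    · rw [mul_inv_eq_iff_eq_mul] at h2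
      exact D.z1 (hf z hzU h2.symm)
    · apply D.ptz; rw [← h2]; exact hpg
  -- U is not in T
  obtain ⟨w, hwU, hwT⟩ : ∃ w ∈ U, w ∉ T := by
    by_contra hcon
    push Not at hcon
    obtain ⟨a, haU, ha1⟩ : ∃ a, a ∈ U ∧ a ≠ 1 := by
      obtain ⟨a', ha'⟩ := (Subgroup.ne_bot_iff_exists_ne_one).1 hUb
      exact ⟨a', a'.2, fun h1 => ha' (Subtype.ext h1)⟩
    by_cases hzU : z ∈ U
    · exact hyz hzU (hcon _ (conj_mem hyN hzU))
    · have key : ∀ b ∈ U, b ≠ 1 → b = t ∨ b = t * z := by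
        intro b hb hb1
        rcases D.V b (hcon b hb) (hU2 b hb) with h2 | h2 | h2 | h2
        · exact absurd h2 hb1
        · exact Or.inl h2
        · exact absurd (h2 ▸ hb) hzU
        · exact Or.inr h2
      have hb : y * a * y⁻¹ ∈ U := conj_mem hyN haU
      have hb1 : y * a * y⁻¹ ≠ 1 := by
        intro h1; rw [mul_inv_eq_one] at h1; exact ha1 (by simpa using h1)
      have hab : y * a * y⁻¹ ≠ a := by
        intro h1
        rw [mul_inv_eq_iff_eq_mul] at h1
        exact ha1 (hf a haU h1.symm)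
      have htt : t * (t * z) = z := by rw [← mul_assoc, ht2, one_mul]
      apply hzU
      rcases key a haU ha1 with h1 | h1 <;> rcases key _ hb hb1 with h2 | h2
      · exact absurd (h2.trans h1.symm) hab
      · rw [← htt, ← h2]
        nth_rewrite 1 [← h1]
        exact mul_mem haU hb
      · rw [← htt, ← h1]
        nth_rewrite 1 [← h2]
        exact mul_mem hb haU
      · exact absurd (h2.trans h1.symm) hab
  have hwP : w ∈ (P : Subgroup G) := hUP hwU
  have hw2 : w * w = 1 := hU2 w hwU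
  have hwi : w⁻¹ = w := inv_eq_of_mul_eq_one_left hw2
  -- product of two elements outside T lies in T
  have hout : ∀ a ∈ (P : Subgroup G), a ∉ T → w⁻¹ * a ∈ T := by
    intro a ha haT
    apply D.memT _ (mul_mem (inv_mem hwP) ha)
    have h1 := D.mv a ha haT
    have h2 := D.mv w hwP hwT
    have h3 : w⁻¹ * a * t * (w⁻¹ * a)⁻¹ = w⁻¹ * (a * t * a⁻¹) * w := by group
    rw [h1, ← h2] at h3
    have h4 : w⁻¹ * (w * t * w⁻¹) * w = t := by group
    rw [h4, mul_inv_eq_iff_eq_mul] at h3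
    exact h3
  -- elements of U ∩ T
  have hUT : ∀ b ∈ U, b ∈ T → b = 1 ∨ b = z := by
    intro b hb hbT
    have hwb : w * b = b * w := hUab w hwU b hb
    have hwz : w * z = z * w := hzc w hwP
    rcases D.V b hbT (hU2 b hb) with h2 | h2 | h2 | h2
    · exact Or.inl h2
    · exfalso
      rw [h2] at hwb
      exact hwT (D.memT w hwP hwb)
    · exact Or.inr h2
    · exfalso
      rw [h2] at hwb
      apply hwT
      apply D.memT w hwP
      have h3 : (w * t) * z = (t * w) * z := by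
        calc (w * t) * z = w * (t * z) := by group
          _ = t * z * w := hwb
          _ = t * (z * w) := by group
          _ = t * (w * z) := by rw [hwz]
          _ = (t * w) * z := by group
      exact mul_right_cancel h3
  -- z ∈ U
  have hzU : z ∈ U := by
    by_contra hzU
    have h1 : ∀ b ∈ U, b = 1 ∨ b = w := by
      intro b hb
      by_cases hbT : b ∈ T
      · rcases hUT b hb hbT with h2 | h2
        · exact Or.inl h2
        · exact absurd (h2 ▸ hb) hzU
      · right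
        have h3 := hUT _ (mul_mem (inv_mem hwU) hb) (hout b (hUP hb) hbT)
        rcases h3 with h4 | h4
        · exact (inv_mul_eq_one.1 h4).symm
        · exact absurd (h4 ▸ (mul_mem (inv_mem hwU) hb)) hzU
    rcases h1 _ (conj_mem hyN hwU) with h2 | h2
    · rw [mul_inv_eq_one] at h2
      have : w = 1 := by simpa using h2
      exact hwT (this ▸ one_mem _)
    · rw [mul_inv_eq_iff_eq_mul] at h2
      have := hf w hwU h2.symm
      exact hwT (this ▸ one_mem _)
  have hU4 : ∀ b ∈ U, b = 1 ∨ b = z ∨ b = w ∨ b = w * z := by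
    intro b hb
    by_cases hbT : b ∈ T
    · rcases hUT b hb hbT with h2 | h2
      · exact Or.inl h2
      · exact Or.inr (Or.inl h2)
    · have h3 := hUT _ (mul_mem (inv_mem hwU) hb) (hout b (hUP hb) hbT)
      rcases h3 with h4 | h4
      · exact Or.inr (Or.inr (Or.inl (inv_mul_eq_one.1 h4).symm))
      · exact Or.inr (Or.inr (Or.inr (inv_mul_eq_iff_eq_mul.1 h4)))
  -- the centralizer of U
  set K : Subgroup G := Subgroup.centralizer (U : Set G) with hK
  have hKm : ∀ c, c ∈ K ↔ ∀ u ∈ U, u * c = c * u := by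
    intro c; rw [hK, Subgroup.mem_centralizer_iff]; rfl
  have hKP : K ≤ (P : Subgroup G) := by
    intro c hc
    exact hzc' c (((hKm c).1 hc z hzU).symm)
  have hKp : IsPGroup 2 K := hPp.to_le hKP
  have hUK : U ≤ K := by
    intro u hu
    rw [hKm]; intro v hv; exact hUab v hv u hu
  have hKyN : y ∈ Subgroup.normalizer (K : Set G) := by
    have key : ∀ v ∈ Subgroup.normalizer (U : Set G), ∀ a ∈ K, v * a * v⁻¹ ∈ K := by
      intro v hv a ha
      rw [hKm] at ha ⊢
      intro u hu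
      have h1 := ha _ (conj_mem' hv hu)
      calc u * (v * a * v⁻¹) = v * ((v⁻¹ * u * v) * a) * v⁻¹ := by group
        _ = v * (a * (v⁻¹ * u * v)) * v⁻¹ := by rw [h1]
        _ = v * a * v⁻¹ * u := by group
    apply mem_nz (key y hyN)
    intro a ha
    have := key y⁻¹ (inv_mem hyN) a ha
    simpa using this
  have hwne : w ≠ 1 := by rintro rfl; exact hwT (one_mem _)
  have hfK := fpf h hp2 hr hr2.symm hKp hKyN hyr (fun hall => hwne (hf w hwU (hall w (hUK hwU))))
  have hyU : Subgroup.zpowers y ≤ Subgroup.normalizer (U : Set G) := Subgroup.zpowers_le.2 hyN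
  have hnrm := h.nrm 2 r U (Subgroup.zpowers y) hp2 hr hr2.symm hUp hUb (isPGroup_zpowers hyr) hyU
  have hKU : ∀ c ∈ K, c ∈ U := by
    intro c hc
    have hcN : c ∈ Subgroup.normalizer (U : Set G) := by
      apply mem_nz
      · intro a ha
        rw [← (hKm c).1 hc a ha, mul_inv_cancel_right]; exact ha
      · intro a ha
        have h1 := (hKm c).1 hc a ha
        have : c⁻¹ * a * c = c⁻¹ * (a * c) := by group
        rw [this, h1, inv_mul_cancel_left]; exact ha
    have h1 : c * y * c⁻¹ ∈ U ⊔ Subgroup.zpowers y :=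
      conj_mem (hnrm hcN) (Subgroup.mem_sup_right (Subgroup.mem_zpowers y))
    have h2 : c * y * c⁻¹ * y⁻¹ ∈ U ⊔ Subgroup.zpowers y :=
      mul_mem h1 (inv_mem (Subgroup.mem_sup_right (Subgroup.mem_zpowers y)))
    have h3 : c * y * c⁻¹ * y⁻¹ ∈ K := by
      have := mul_mem hc (conj_mem hKyN (inv_mem hc))
      simpa [mul_assoc] using this
    obtain ⟨u, hu, v, hv, he⟩ := mem_sup_of_nz hyU h2
    have hvK : v ∈ K := by
      have : v = u⁻¹ * (c * y * c⁻¹ * y⁻¹) := by rw [he]; group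
      rw [this]; exact mul_mem (inv_mem (hUK hu)) h3
    obtain ⟨m, hm⟩ := pow_eq_one_of_mem hKp hvK
    obtain ⟨m', hm'⟩ := pow_eq_one_of_mem (isPGroup_zpowers hyr) hv
    have hv1 := eq_one_of_pp hp2 hr hr2.symm hm hm'
    rw [hv1, mul_one] at he
    -- the coset
    obtain ⟨b, ⟨u', hu', rfl⟩, hb2⟩ := fixpt hr hyr ((fun u => c⁻¹ * u) '' (U : Set G)) (by
      rintro _ ⟨u', hu', rfl⟩
      refine ⟨u * (y * u' * y⁻¹), mul_mem hu (conj_mem hyN hu'), ?_⟩
      have e1 : y * c⁻¹ * y⁻¹ = c⁻¹ * u := by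
        rw [← he]; group
      calc c⁻¹ * (u * (y * u' * y⁻¹)) = (c⁻¹ * u) * (y * u' * y⁻¹) := by group
        _ = (y * c⁻¹ * y⁻¹) * (y * u' * y⁻¹) := by rw [e1]
        _ = y * (c⁻¹ * u') * y⁻¹ := by group) (by
      have hc1 : Nat.card ((fun u => c⁻¹ * u) '' (U : Set G)) = Nat.card U :=
        Nat.card_image_of_injective (mul_right_injective c⁻¹) _
      rw [hc1]
      obtain ⟨m, hm⟩ := IsPGroup.iff_card.1 hUp
      rw [hm]
      intro hd
      exact hr2 ((Nat.prime_dvd_prime_iff_eq hr hp2).1 (hr.dvd_of_dvd_pow hd)))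
    have hb3 := hfK _ (mul_mem (inv_mem hc) (hUK hu')) hb2
    have : c = u' := inv_mul_eq_one.1 hb3
    rw [this]; exact hu'
  -- C_T(w) = {1, z}
  have hCT : ∀ a ∈ T, a * w = w * a → a = 1 ∨ a = z := by
    intro a ha haw
    have haK : a ∈ K := by
      rw [hKm]
      intro u hu
      have haz : a * z = z * a := hzc a (D.TP ha)
      rcases hU4 u hu with h1 | h1 | h1 | h1
      · rw [h1]; simp
      · rw [h1]; exact haz.symm
      · rw [h1]; exact haw.symm
      · rw [h1]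
        exact (Commute.mul_right (show Commute a w from haw) (show Commute a z from haz)).symm
    exact hUT a (hKU a haK) ha
  have hmvw := D.mv w hwP hwT
  by_cases hcase : ∀ a ∈ T, a⁻¹ * (w * a * w⁻¹) = 1 ∨ a⁻¹ * (w * a * w⁻¹) = z
  · -- P normalizes U
    have hTN : ∀ a ∈ T, ∀ u ∈ U, a * u * a⁻¹ ∈ U := by
      intro a ha u hu
      have haz : a * z = z * a := hzc a (D.TP ha)
      have hazz : a * z * a⁻¹ = z := by rw [haz, mul_inv_cancel_right]
      have haw : a * w * a⁻¹ ∈ U := by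
        have h1 := hcase a⁻¹ (inv_mem ha)
        rw [inv_inv] at h1
        have h2 : a * w * a⁻¹ = (a * (w * a⁻¹ * w⁻¹)) * w := by group
        rw [h2]
        rcases h1 with h1 | h1
        · rw [h1, one_mul]; exact hwU
        · rw [h1]; exact mul_mem hzU hwU
      rcases hU4 u hu with h1 | h1 | h1 | h1
      · rw [h1]; simp
      · rw [h1, hazz]; exact hzU
      · rw [h1]; exact haw
      · rw [h1]
        have h2 : a * (w * z) * a⁻¹ = (a * w * a⁻¹) * (a * z * a⁻¹) := by group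
        rw [h2, hazz]
        exact mul_mem haw hzU
    have hPN : (P : Subgroup G) ≤ Subgroup.normalizer (U : Set G) := by
      rw [Subgroup.le_normalizer_iff]
      intro g hg u hu
      by_cases hgT : g ∈ T
      · exact hTN g hgT u hu
      · have h1 := hTN _ (hout g hg hgT) u hu
        have h2 : g * u * g⁻¹ = w * ((w⁻¹ * g) * u * (w⁻¹ * g)⁻¹) * w⁻¹ := by group
        rw [h2, hUab w hwU _ h1, mul_inv_cancel_right]
        exact h1
    have hcoU := h.max 2 U hp2 hUp hUb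
    have hEq : (P : Subgroup G) = Subgroup.normalizer (U : Set G) := by
      rcases lt_or_eq_of_le hPN with h1 | h1
      · exact absurd (D.co.2 _ h1) hcoU.1
      · exact h1
    have hyP : y ∈ (P : Subgroup G) := by rw [hEq]; exact hyN
    obtain ⟨m, hm⟩ := pow_eq_one_of_mem hPp hyP
    have hy1 := eq_one_of_pp hp2 hr hr2.symm hm hyr
    exact hwne (hf w hwU (by rw [hy1]; simp))
  · push Not at hcase
    obtain ⟨a, ha, hne1, hnez⟩ := hcase
    set c0 := a⁻¹ * (w * a * w⁻¹) with hc0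
    have hwN : w ∈ Subgroup.normalizer (T : Set G) := D.nT hwP
    have hc0T : c0 ∈ T := mul_mem (inv_mem ha) (conj_mem hwN ha)
    have hc0w : w * c0 * w⁻¹ = c0⁻¹ := by
      rw [hc0]
      calc w * (a⁻¹ * (w * a * w⁻¹)) * w⁻¹ = (w * a⁻¹ * w⁻¹) * ((w * w) * a * (w * w)⁻¹) := by group
        _ = (w * a⁻¹ * w⁻¹) * a := by rw [hw2]; group
        _ = (a⁻¹ * (w * a * w⁻¹))⁻¹ := by group
    have hc02 : c0 * c0 ≠ 1 := by
      intro h1
      have h2 : c0⁻¹ = c0 := inv_eq_of_mul_eq_one_left h1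
      rw [h2, mul_inv_eq_iff_eq_mul] at hc0w
      rcases hCT c0 hc0T hc0w.symm with h3 | h3
      · exact hne1 h3
      · exact hnez h3
    -- descend to an element of order 4
    have hdesc : ∀ (n : ℕ) (c : G), c ∈ T → w * c * w⁻¹ = c⁻¹ → c * c ≠ 1 → c ^ 2 ^ n = 1 →
        ∃ c' ∈ T, w * c' * w⁻¹ = c'⁻¹ ∧ c' * c' ≠ 1 ∧ (c' * c') * (c' * c') = 1 := by
      intro n
      induction n with
      | zero =>
        intro c _ _ h1 h2
        exfalso; apply h1
        rw [pow_zero, pow_one] at h2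
        rw [h2, one_mul]
      | succ n ih =>
        intro c hcT hcw hc2 hcn
        by_cases h4 : (c * c) * (c * c) = 1
        · exact ⟨c, hcT, hcw, hc2, h4⟩
        · apply ih (c * c) (mul_mem hcT hcT) _ h4
          · rw [← pow_two, ← pow_mul, ← pow_succ']; exact hcn
          · have : w * (c * c) * w⁻¹ = (w * c * w⁻¹) * (w * c * w⁻¹) := by group
            rw [this, hcw]; group
    obtain ⟨n, hn⟩ := pow_eq_one_of_mem hTp hc0T
    obtain ⟨c, hcT, hcw, hc2, hc4⟩ := hdesc n c0 hc0T hc0w hc02 hn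
    have hccw : (c * c) * w = w * (c * c) := by
      have h1 : w * (c * c) * w⁻¹ = (w * c * w⁻¹) * (w * c * w⁻¹) := by group
      rw [hcw] at h1
      have h2 : c⁻¹ * c⁻¹ = c * c := by
        rw [← mul_inv_rev]; exact inv_eq_of_mul_eq_one_left hc4
      rw [h2, mul_inv_eq_iff_eq_mul] at h1
      exact h1.symm
    have hcz : c * c = z := by
      rcases hCT _ (mul_mem hcT hcT) hccw with h1 | h1
      · exact absurd h1 hc2
      · exact h1
    have hct : c * t = t * c := D.ab c hcT t D.tT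
    have hfin : (c * t) * w = w * (c * t) := by
      have h1 : w * (c * t) * w⁻¹ = (w * c * w⁻¹) * (w * t * w⁻¹) := by group
      rw [hcw, hmvw, htz, ← hcz] at h1
      have h2 : c⁻¹ * (c * c * t) = c * t := by group
      rw [h2, mul_inv_eq_iff_eq_mul] at h1
      exact h1.symm
    have hsq : (c * t) * (c * t) = z := by
      calc (c * t) * (c * t) = c * (t * c) * t := by group
        _ = c * (c * t) * t := by rw [hct]
        _ = (c * c) * (t * t) := by group
        _ = z := by rw [ht2, mul_one, hcz]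
    rcases hCT _ (mul_mem hcT D.tT) hfin with h1 | h1
    · rw [h1, one_mul] at hsq
      exact D.z1 hsq.symm
    · rw [h1, hz2] at hsq
      exact D.z1 hsq.symm

/-- PIECE A2 of S4233 -/
theorem caseA2 {G : Type*} [Group G] [Finite G] (h : Star68.Star G) (hns : ¬ Group.IsSolvable G)
    (hB1 : ∀ t : G, orderOf t = 2 → ¬ IsPGroup 2 (Subgroup.centralizer ({t} : Set G)) →
      ∃ (q : ℕ) (Q : Subgroup G), Star68.QS t q Q)
    (hA : ∀ (P : Sylow 2 G) (z : G), z ∈ P → orderOf z = 2 → (∀ x ∈ P, x * z = z * x) →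
      Subgroup.centralizer ({z} : Set G) = P)
    (t : G) (ht : orderOf t = 2) (hnot : ¬ IsPGroup 2 (Subgroup.centralizer ({t} : Set G))) : False := by
  obtain ⟨P, T, z, D⟩ := exists_dat h hns hB1 hA t ht hnot
  exact final h hns D

end Cfsg.Agent.Lib.Star68A2h22
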