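import Cfsg.Agent.Lib.Star68Red
import Cfsg.Agent.Lib.Star68PSL
import Cfsg.Agent.Lib.Cover13

/-! # S4233: final assembly (helper68) -/

set_option autoImplicit false
set_option linter.all false

namespace Cfsg.Agent.Lib.Star68

open Subgroup Cfsg
open scoped Pointwise commutatorElement

local notation "PSL13" => Matrix.ProjectiveSpecialLinearGroup (Fin 2) (ZMod 13)

variable {G : Type*} [Group G] [Finite G]

structure Ctx {G : Type*} [Group G] (S : Subgroup G) (q : G →* PSL13) : Prop where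
  h : Hyp G
  nS : S.Normal
  sS : Group.IsSolvable S
  max : ∀ N : Subgroup G, N.Normal → Group.IsSolvable N → N ≤ S
  surj : Function.Surjective q
  ker : q.ker = S

variable {S : Subgroup G} {q : G →* PSL13}

theorem Ctx.q_eq_one (c : Ctx S q) {g : G} : q g = 1 ↔ g ∈ S := by
  rw [← c.ker, MonoidHom.mem_ker]

theorem Ctx.nz (c : Ctx S q) {p : ℕ} (hp : p.Prime) {H : Subgroup G} (hH : IsPGroup p H) (hHS : ¬ H ≤ S) :
    normalizer (H : Set G) = normalizer ((S ⊔ H : Subgroup G) : Set G) := by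
  haveI := c.nS
  exact normalizer_eq_sup c.h c.max c.sS hp hH hHS

theorem Ctx.S_le (c : Ctx S q) {p : ℕ} (hp : p.Prime) {H : Subgroup G} (hH : IsPGroup p H) (hHS : ¬ H ≤ S) :
    S ≤ normalizer (H : Set G) := by
  haveI := c.nS
  exact le_normalizer_of c.h c.max c.sS hp hH hHS

theorem Ctx.mem_nz (c : Ctx S q) {p : ℕ} (hp : p.Prime) {H : Subgroup G} (hH : IsPGroup p H) (hHS : ¬ H ≤ S) {g : G}
    (hg : ∀ y ∈ H.map q, q g * y * (q g)⁻¹ ∈ H.map q) : g ∈ normalizer (H : Set G) := by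
  haveI := c.nS
  rw [c.nz hp hH hHS]
  have h1 : S ⊔ H = (H.map q).comap q := by
    rw [Subgroup.comap_map_eq, c.ker, sup_comm]
  rw [h1, ← Subgroup.comap_normalizer_eq_of_surjective _ c.surj, Subgroup.mem_comap]
  haveI : Finite PSL13 := Finite.of_surjective q c.surj
  haveI : Finite ((H.map q : Subgroup PSL13) : Set PSL13) := Set.toFinite _
  exact mem_normalizer_fintype hg

theorem Ctx.index (c : Ctx S q) : S.index = 1092 := by
  rw [← c.ker, Subgroup.index_ker, MonoidHom.range_eq_top.2 c.surj]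
  rw [Subgroup.card_top, card_psl13]

theorem Ctx.not_le (c : Ctx S q) {p : ℕ} [hp : Fact p.Prime] (hd : p ∣ 1092) (P : Sylow p G) : ¬ (P : Subgroup G) ≤ S := by
  intro hle
  have h1 : S.index ∣ (P : Subgroup G).index := Subgroup.index_dvd_of_le hle
  rw [c.index] at h1
  exact P.not_dvd_index (hd.trans h1)

theorem Ctx.comm_mem (c : Ctx S q) {p : ℕ} [hp : Fact p.Prime] (hd : p ∣ 1092) (P : Sylow p G) {x s : G} (hx : x ∈ P) (hs : s ∈ S) :
    x * s * x⁻¹ * s⁻¹ ∈ pCore p G := by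
  haveI := c.nS
  have h1 : S ≤ normalizer ((P : Subgroup G) : Set G) := c.S_le hp.out P.2 (c.not_le hd P)
  have h2 : x * s * x⁻¹ * s⁻¹ ∈ (P : Subgroup G) := by
    have h3 : s * x⁻¹ * s⁻¹ ∈ (P : Subgroup G) := (mem_normalizer_iff.1 (h1 hs) x⁻¹).1 (inv_mem hx)
    have h4 := mul_mem hx h3
    have h5 : x * (s * x⁻¹ * s⁻¹) = x * s * x⁻¹ * s⁻¹ := by group
    rwa [h5] at h4
  have h3 : x * s * x⁻¹ * s⁻¹ ∈ S := S.mul_mem (c.nS.conj_mem s hs x) (S.inv_mem hs)
  -- P ∩ S normal in S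
  have hn : ((P : Subgroup G).subgroupOf S).Normal := normal_subgroupOf_of_le_normalizer h1
  have hp' : IsPGroup p ((P : Subgroup G).subgroupOf S) := P.2.comap_subtype
  have h4 := Cores.le_pCore hn hp'
  exact Cores.map_pCore_subtype_le p S ⟨⟨_, h3⟩, h4 (by rw [mem_subgroupOf]; exact h2), rfl⟩

/-- elements acting trivially on `S O_p(G) / O_p(G)` -/
def CC (p : ℕ) (S : Subgroup G) : Subgroup G :=
  (centralizer ((S.map (QuotientGroup.mk' (pCore p G)) : Subgroup (G ⧸ pCore p G)) : Set (G ⧸ pCore p G))).comap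
    (QuotientGroup.mk' (pCore p G))

theorem mem_CC {p : ℕ} {g : G} : g ∈ CC p S ↔ ∀ s ∈ S, g * s * g⁻¹ * s⁻¹ ∈ pCore p G := by
  unfold CC
  rw [Subgroup.mem_comap, Subgroup.mem_centralizer_iff]
  constructor
  · intro h s hs
    have h1 := h (QuotientGroup.mk' (pCore p G) s) ⟨s, hs, rfl⟩
    rw [← QuotientGroup.ker_mk' (pCore p G), MonoidHom.mem_ker, map_mul, map_mul, map_mul, map_inv, map_inv, ← h1]
    group
  · rintro h _ ⟨s, hs, rfl⟩
    have h1 := h s hs
    rw [← QuotientGroup.ker_mk' (pCore p G), MonoidHom.mem_ker, map_mul, map_mul, map_mul, map_inv, map_inv,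
      mul_inv_eq_one, mul_inv_eq_iff_eq_mul] at h1
    exact h1.symm

theorem CC_normal (c : Ctx S q) (p : ℕ) : (CC p S).Normal := by
  haveI := c.nS
  haveI : (S.map (QuotientGroup.mk' (pCore p G))).Normal := Subgroup.Normal.map c.nS _ (QuotientGroup.mk'_surjective _)
  unfold CC
  infer_instance

theorem eq_top_of_normal {K : Subgroup PSL13} (hK : K.Normal) (h : K ≠ ⊥) : K = ⊤ := by
  haveI := simple_psl13
  exact (IsSimpleGroup.eq_bot_or_eq_top_of_normal K hK).resolve_left h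

theorem CC_map (c : Ctx S q) {p : ℕ} [hp : Fact p.Prime] (hd : p ∣ 1092) : (CC p S).map q = ⊤ := by
  haveI := CC_normal c p
  obtain ⟨P⟩ : Nonempty (Sylow p G) := inferInstance
  apply eq_top_of_normal (Subgroup.Normal.map inferInstance _ c.surj)
  intro h
  apply c.not_le hd P
  intro x hx
  rw [← c.q_eq_one]
  have h1 : q x ∈ (CC p S).map q := ⟨x, mem_CC.2 (fun s hs => c.comm_mem hd P hx hs), rfl⟩
  rw [h] at h1
  exact h1

theorem commutator_psl13 : ⁅(⊤ : Subgroup PSL13), (⊤ : Subgroup PSL13)⁆ = ⊤ := by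
  apply eq_top_of_normal inferInstance
  intro h
  rw [Subgroup.commutator_eq_bot_iff_le_centralizer] at h
  obtain ⟨x, g, hx, hg⟩ := exists_inv (p := 3) (Or.inl rfl)
  have h1 : x * g = g * x := (Subgroup.mem_centralizer_iff.1 (h (mem_top g)) x (mem_top x))
  rw [← h1, mul_inv_cancel_right] at hg
  have h2 : x ^ 2 = 1 := by
    rw [pow_two]; nth_rw 1 [hg]; group
  have h3 := orderOf_dvd_of_pow_eq_one h2
  rw [hx] at h3
  omega

/-- `C_G(S)` maps onto `G/S` -/
theorem Ctx.cent_map (c : Ctx S q) : (centralizer (S : Set G)).map q = ⊤ := by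
  haveI := c.nS
  haveI h2 := CC_normal c 2
  haveI h3 := CC_normal c 3
  haveI : Fact (Nat.Prime 2) := ⟨Nat.prime_two⟩
  haveI : Fact (Nat.Prime 3) := ⟨Nat.prime_three⟩
  have h4 : (⁅CC 2 S, CC 3 S⁆).map q = ⊤ := by
    rw [Subgroup.map_commutator, CC_map c (by norm_num), CC_map c (by norm_num), commutator_psl13]
  rw [eq_top_iff, ← h4]
  apply Subgroup.map_mono
  refine (Subgroup.commutator_le_inf _ _).trans ?_
  rintro g ⟨hg2, hg3⟩
  rw [Subgroup.mem_centralizer_iff]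
  intro s hs
  have e2 := mem_CC.1 hg2 s hs
  have e3 := mem_CC.1 hg3 s hs
  obtain ⟨j, hj⟩ := Cores.isPGroup_pCore 2 G ⟨_, e2⟩
  obtain ⟨k, hk⟩ := Cores.isPGroup_pCore 3 G ⟨_, e3⟩
  have hj' : (g * s * g⁻¹ * s⁻¹) ^ 2 ^ j = 1 := by simpa using congrArg Subtype.val hj
  have hk' : (g * s * g⁻¹ * s⁻¹) ^ 3 ^ k = 1 := by simpa using congrArg Subtype.val hk
  have h5 : g * s * g⁻¹ * s⁻¹ = 1 := by
    have h6 : orderOf (g * s * g⁻¹ * s⁻¹) ∣ Nat.gcd (2 ^ j) (3 ^ k) :=
      Nat.dvd_gcd (orderOf_dvd_of_pow_eq_one hj') (orderOf_dvd_of_pow_eq_one hk')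
    have h7 : Nat.gcd (2 ^ j) (3 ^ k) = 1 := Nat.Coprime.pow _ _ (by norm_num)
    rw [h7] at h6
    exact orderOf_eq_one_iff.1 (Nat.dvd_one.1 h6)
  rw [mul_inv_eq_one, mul_inv_eq_iff_eq_mul] at h5
  exact h5.symm

/-- the perfect part -/
def XX (S : Subgroup G) : Subgroup G := ⁅centralizer (S : Set G), centralizer (S : Set G)⁆

theorem Ctx.XX_normal (c : Ctx S q) : (XX S).Normal := by
  haveI := c.nS
  unfold XX; infer_instance

theorem XX_le : XX S ≤ centralizer (S : Set G) := Subgroup.commutator_le_self _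

theorem Ctx.XX_map (c : Ctx S q) : (XX S).map q = ⊤ := by
  unfold XX
  rw [Subgroup.map_commutator, c.cent_map, commutator_psl13]

theorem XX_comm {x s : G} (hx : x ∈ XX S) (hs : s ∈ S) : s * x = x * s :=
  (Subgroup.mem_centralizer_iff.1 (XX_le hx)) s hs

theorem Ctx.XX_sup (c : Ctx S q) : XX S ⊔ S = ⊤ := by
  have h1 := congrArg (Subgroup.comap q) c.XX_map
  rw [Subgroup.comap_map_eq, c.ker, Subgroup.comap_top] at h1
  exact h1

/-- every element of `C_G(S)` is `x z`, `x ∈ X`, `z ∈ S ∩ C_G(S)` -/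
theorem Ctx.exists_decomp (c : Ctx S q) (g : G) : ∃ x ∈ XX S, ∃ z ∈ S, g = x * z := by
  haveI := c.nS
  have h1 : g ∈ XX S ⊔ S := by rw [c.XX_sup]; exact mem_top g
  rw [sup_comm, SubgroupTools.mem_sup_of_le_normalizer' (by rw [normalizer_eq_top_iff.2 c.nS]; exact le_top)] at h1
  obtain ⟨x, hx, z, hz, rfl⟩ := h1
  exact ⟨x, hx, z, hz, rfl⟩

theorem Ctx.XX_perf (c : Ctx S q) : ⁅XX S, XX S⁆ = XX S := by
  apply le_antisymm (Subgroup.commutator_le_self _)
  have h0 : XX S = ⁅centralizer (S : Set G), centralizer (S : Set G)⁆ := rfl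
  conv_lhs => rw [h0]
  rw [Subgroup.commutator_le]
  intro a ha b hb
  obtain ⟨x, hx, z, hz, rfl⟩ := c.exists_decomp a
  obtain ⟨y, hy, w, hw, rfl⟩ := c.exists_decomp b
  -- z, w central in C_G(S)
  have hzC : ∀ u ∈ centralizer (S : Set G), z * u = u * z := fun u hu => (Subgroup.mem_centralizer_iff.1 hu) z hz
  have hwC : ∀ u ∈ centralizer (S : Set G), w * u = u * w := fun u hu => (Subgroup.mem_centralizer_iff.1 hu) w hw
  have hxC := XX_le hx
  have hyC := XX_le hy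
  have hz' : z ∈ centralizer (S : Set G) := by
    have := (centralizer (S : Set G)).mul_mem ((centralizer (S : Set G)).inv_mem hxC) ha
    simpa using this
  have e1 : ⁅x * z, y * w⁆ = ⁅x, y⁆ := by
    rw [commutatorElement_def, commutatorElement_def, mul_inv_rev, mul_inv_rev]
    have c1 : z * y = y * z := hzC y hyC
    have c2 : w * x = x * w := hwC x hxC
    have c3 : w * z = z * w := hwC z hz'
    have c4 : w * x⁻¹ = x⁻¹ * w := hwC _ (inv_mem hxC)
    have c5 : z * w = w * z := c3.symm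
    calc x * z * (y * w) * (z⁻¹ * x⁻¹) * (w⁻¹ * y⁻¹)
        = x * (z * y) * (w * z⁻¹) * x⁻¹ * w⁻¹ * y⁻¹ := by group
      _ = x * (y * z) * (z⁻¹ * w) * x⁻¹ * w⁻¹ * y⁻¹ := by
        rw [c1]
        have : w * z⁻¹ = z⁻¹ * w := by
          rw [eq_inv_mul_iff_mul_eq, ← mul_assoc, ← c3, mul_assoc, mul_inv_cancel, mul_one]
        rw [this]
      _ = x * y * (w * x⁻¹) * w⁻¹ * y⁻¹ := by group
      _ = x * y * (x⁻¹ * w) * w⁻¹ * y⁻¹ := by rw [c4]
      _ = x * y * x⁻¹ * y⁻¹ := by group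
  rw [e1]
  exact Subgroup.commutator_mem_commutator hx hy

theorem Ctx.XX_commutator (c : Ctx S q) : commutator (XX S) = ⊤ := by
  apply Subgroup.map_injective (XX S).subtype_injective
  rw [Subgroup.map_subtype_commutator, c.XX_perf, ← MonoidHom.range_eq_map, Subgroup.range_subtype]

theorem Ctx.cover (c : Ctx S q) : (XX S ⊓ S = ⊥ ∧ Nonempty (XX S ≃* PSL13)) ∨
    (Nat.card (XX S ⊓ S : Subgroup G) = 2 ∧ Nonempty (XX S ≃* Matrix.SpecialLinearGroup (Fin 2) (ZMod 13))) := by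
  haveI := c.nS
  let f : XX S →* PSL13 := q.comp (XX S).subtype
  have hf : Function.Surjective f := by
    intro y
    have h1 : y ∈ (XX S).map q := by rw [c.XX_map]; exact mem_top y
    obtain ⟨x, hx, rfl⟩ := h1
    exact ⟨⟨x, hx⟩, rfl⟩
  have hk : f.ker = S.subgroupOf (XX S) := by
    ext x
    rw [MonoidHom.mem_ker, mem_subgroupOf]
    exact c.q_eq_one
  have e : Nonempty (XX S ⧸ S.subgroupOf (XX S) ≃* PSL13) :=
    ⟨(QuotientGroup.quotientMulEquivOfEq hk.symm).trans (QuotientGroup.quotientKerEquivOfSurjective f hf)⟩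
  have hc : S.subgroupOf (XX S) ≤ Subgroup.center (XX S) := by
    intro z hz
    rw [mem_subgroupOf] at hz
    rw [Subgroup.mem_center_iff]
    intro x
    apply Subtype.ext
    exact (XX_comm x.2 hz).symm
  have hmap : (S.subgroupOf (XX S)).map (XX S).subtype = XX S ⊓ S := by
    rw [Subgroup.subgroupOf_map_subtype, inf_comm]
  rcases Cover13.cover13 c.XX_commutator (S.subgroupOf (XX S)) hc e with ⟨h1, h2⟩ | ⟨h1, h2⟩
  · left
    refine ⟨?_, h2⟩
    rw [← hmap, h1, Subgroup.map_bot]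
  · right
    refine ⟨?_, h2⟩
    rw [← hmap, Subgroup.card_map_of_injective (XX S).subtype_injective, h1]

theorem Ctx.sq_eq_one (c : Ctx S q) {z : G} (hx : z ∈ XX S) (hs : z ∈ S) : z ^ 2 = 1 := by
  rcases c.cover with ⟨h, -⟩ | ⟨h, -⟩
  · have : z ∈ XX S ⊓ S := ⟨hx, hs⟩
    rw [h, Subgroup.mem_bot] at this
    rw [this, one_pow]
  · have h1 : (⟨z, hx, hs⟩ : (XX S ⊓ S : Subgroup G)) ^ 2 = 1 := by rw [← h]; exact pow_card_eq_one'
    simpa using congrArg Subtype.val h1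

end Cfsg.Agent.Lib.Star68
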