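import Cfsg.Agent.Lib.Star68Fin
import Cfsg.Agent.Lib.RankTwoNilp
import Cfsg.Agent.S4211

/-! # S4233: final assembly, part 2 (helper68) -/

set_option autoImplicit false
set_option linter.all false

namespace Cfsg.Agent.Lib.Star68

open Subgroup Cfsg
open scoped Pointwise commutatorElement

local notation "PSL13" => Matrix.ProjectiveSpecialLinearGroup (Fin 2) (ZMod 13)

variable {G : Type*} [Group G] [Finite G] {S : Subgroup G} {q : G →* PSL13}

theorem isPGroup_zpowers' {p k : ℕ} {x : G} (h : x ^ p ^ k = 1) : IsPGroup p (zpowers x) := by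
  rintro ⟨y, hy⟩
  obtain ⟨j, rfl⟩ := Subgroup.mem_zpowers_iff.1 hy
  refine ⟨k, ?_⟩
  apply Subtype.ext
  show (x ^ j) ^ p ^ k = 1
  rw [← zpow_natCast, zpow_comm, zpow_natCast, h, one_zpow]

theorem Ctx.exists_X (c : Ctx S q) (y : PSL13) : ∃ x ∈ XX S, q x = y := by
  have h1 : y ∈ (XX S).map q := by rw [c.XX_map]; exact mem_top y
  obtain ⟨x, hx, h⟩ := h1
  exact ⟨x, hx, h⟩

theorem Ctx.inv_of (c : Ctx S q) {p : ℕ} (hp : p.Prime) {y g : G} (hy : y ^ p = 1) (hq : q y ≠ 1)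
    (hg : q g * q y * (q g)⁻¹ = (q y)⁻¹) : g * y * g⁻¹ = y⁻¹ := by
  haveI := Fact.mk hp
  have hP : IsPGroup p (zpowers y) := isPGroup_zpowers' (k := 1) (by rw [pow_one]; exact hy)
  have hS : ¬ zpowers y ≤ S := fun h => hq (c.q_eq_one.2 (h (mem_zpowers y)))
  have hn : g ∈ normalizer ((zpowers y : Subgroup G) : Set G) := by
    refine c.mem_nz hp hP hS ?_
    rintro _ ⟨z, hz, rfl⟩
    obtain ⟨k, rfl⟩ := Subgroup.mem_zpowers_iff.1 hz
    refine ⟨(y⁻¹) ^ k, (zpowers y).zpow_mem ((zpowers y).inv_mem (mem_zpowers y)) _, ?_⟩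
    rw [map_zpow, map_inv, ← hg, conj_zpow, map_zpow]
  have h1 : g * y * g⁻¹ ∈ zpowers y := (mem_normalizer_iff.1 hn y).1 (mem_zpowers y)
  obtain ⟨k, hk⟩ := Subgroup.mem_zpowers_iff.1 h1
  have h2 : orderOf (q y) = p := orderOf_eq_prime (by rw [← map_pow, hy, map_one]) hq
  have h3 : (q y) ^ (k + 1) = 1 := by
    have h4 := congrArg q hk
    rw [map_zpow, map_mul, map_mul, map_inv, hg] at h4
    rw [zpow_add_one, h4, inv_mul_cancel]
  have h4 : (p : ℤ) ∣ k + 1 := by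
    rw [← h2]; exact orderOf_dvd_iff_zpow_eq_one.2 h3
  obtain ⟨m, hm⟩ := h4
  have h5 : y ^ (k + 1) = 1 := by rw [hm, zpow_mul, zpow_natCast, hy, one_zpow]
  rw [← hk, eq_inv_iff_mul_eq_one, ← zpow_add_one, h5]

theorem Ctx.exists_lift (c : Ctx S q) {p : ℕ} (hp : p.Prime) (hp2 : p ≠ 2) {y : PSL13} (hy : orderOf y = p) :
    ∃ x ∈ XX S, q x = y ∧ x ^ p = 1 := by
  obtain ⟨x, hx, rfl⟩ := c.exists_X y
  have h1 : x ^ p ∈ S := by rw [← c.q_eq_one, map_pow, ← hy, pow_orderOf_eq_one]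
  have h2 := c.sq_eq_one ((XX S).pow_mem hx p) h1
  obtain ⟨m, hm⟩ := hp.odd_of_ne_two hp2
  refine ⟨x ^ (p + 1), (XX S).pow_mem hx _, ?_, ?_⟩
  · rw [map_pow, pow_succ, ← hy, pow_orderOf_eq_one, one_mul]
  · rw [← pow_mul, show (p + 1) * p = p * 2 * (m + 1) by rw [hm]; ring, pow_mul, pow_mul, h2, one_pow]

theorem Ctx.no_elem (c : Ctx S q) {p : ℕ} (hp : p = 3 ∨ p = 7 ∨ p = 13) {s : G} (hs : s ∈ S) (h : s ^ p = 1) : s = 1 := by
  have hpp : p.Prime := by rcases hp with rfl | rfl | rfl <;> norm_num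
  have hp2 : p ≠ 2 := by rcases hp with rfl | rfl | rfl <;> norm_num
  obtain ⟨y, g', hy, hg'⟩ := exists_inv hp
  obtain ⟨x, hx, rfl, hxp⟩ := c.exists_lift hpp hp2 hy
  obtain ⟨g, hg, rfl⟩ := c.exists_X g'
  have hq1 : q x ≠ 1 := by
    intro h1; rw [h1, orderOf_one] at hy; exact hpp.one_lt.ne hy
  have e1 := c.inv_of hpp hxp hq1 hg'
  have hqs : q (x * s) = q x := by rw [map_mul, c.q_eq_one.2 hs, mul_one]
  have hcomm : Commute x s := (XX_comm hx hs).symm
  have e2 := c.inv_of hpp (y := x * s) (g := g) (by rw [hcomm.mul_pow, hxp, h, one_mul]) (by rw [hqs]; exact hq1)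
    (by rw [hqs]; exact hg')
  have e3 : g * (x * s) * g⁻¹ = (g * x * g⁻¹) * s := by
    have h1 : s * g⁻¹ = g⁻¹ * s := XX_comm (inv_mem hg) hs
    rw [mul_assoc, mul_assoc x, h1]; group
  rw [e3, e1, mul_inv_rev, (hcomm.inv_inv).eq.symm] at e2
  have e4 : s = s⁻¹ := mul_left_cancel e2
  have e5 : s ^ 2 = 1 := by rw [pow_two]; nth_rw 1 [e4]; group
  have h6 : orderOf s ∣ Nat.gcd 2 p := Nat.dvd_gcd (orderOf_dvd_of_pow_eq_one e5) (orderOf_dvd_of_pow_eq_one h)
  have h7 : Nat.gcd 2 p = 1 := (Nat.coprime_primes Nat.prime_two hpp).2 (Ne.symm hp2)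
  rw [h7] at h6
  exact orderOf_eq_one_iff.1 (Nat.dvd_one.1 h6)

theorem Ctx.two_elem (c : Ctx S q) {s : G} (hs : s ∈ S) {k : ℕ} (hk : s ^ 2 ^ k = 1) : s ∈ XX S := by
  haveI hf2 : Fact (Nat.Prime 2) := ⟨Nat.prime_two⟩
  obtain ⟨a', b', g', ha2, hb2, ha1, hb1, hab, hcm, hg1, hg2⟩ := exists_four
  obtain ⟨a, ha, rfl⟩ := c.exists_X a'
  obtain ⟨b, hb, rfl⟩ := c.exists_X b'
  obtain ⟨g, hg, rfl⟩ := c.exists_X g'
  have hsa : s * a = a * s := XX_comm ha hs
  have hsb : s * b = b * s := XX_comm hb hs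
  have hsg : s * g = g * s := XX_comm hg hs
  let Z : Subgroup G := XX S ⊓ S
  have hZ1 : ∀ z ∈ Z, z ^ 2 = 1 := fun z hz => c.sq_eq_one hz.1 hz.2
  have hZX : ∀ z ∈ Z, ∀ x ∈ XX S, z * x = x * z := fun z hz x hx => XX_comm hx hz.2
  have hZs : ∀ z ∈ Z, s * z = z * s := fun z hz => XX_comm hz.1 hs
  have hZ : IsPGroup 2 Z := fun z => ⟨1, by
    apply Subtype.ext
    have := hZ1 z z.2
    simpa using this⟩
  have hinZ : ∀ x ∈ XX S, q x = 1 → x ∈ Z := fun x hx h => ⟨hx, c.q_eq_one.1 h⟩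
  have haa : a * a ∈ Z := hinZ _ ((XX S).mul_mem ha ha) (by rw [map_mul, ha2])
  have ha4 : a ^ 4 = 1 := by
    have := hZ1 _ haa
    rw [← this, ← pow_two, ← pow_mul]
  let u := a * s
  have hcas : Commute a s := hsa.symm
  have hu : u ^ 2 ^ (k + 2) = 1 := by
    show (a * s) ^ 2 ^ (k + 2) = 1
    rw [hcas.mul_pow]
    have e1 : a ^ 2 ^ (k + 2) = 1 := by
      rw [show 2 ^ (k + 2) = 4 * 2 ^ k by ring, pow_mul, ha4, one_pow]
    have e2 : s ^ 2 ^ (k + 2) = 1 := by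
      rw [show 2 ^ (k + 2) = 2 ^ k * 4 by ring, pow_mul, hk, one_pow]
    rw [e1, e2, one_mul]
  have hU : IsPGroup 2 (zpowers u) := isPGroup_zpowers' hu
  have hUZ : zpowers u ≤ normalizer (Z : Set G) := by
    rw [Subgroup.zpowers_le]
    haveI : Finite ((Z : Subgroup G) : Set G) := Set.toFinite _
    apply mem_normalizer_fintype
    intro z hz
    have e1 : u * z * u⁻¹ = z := by
      rw [mul_inv_eq_iff_eq_mul]
      show a * s * z = z * (a * s)
      rw [mul_assoc, hZs z hz, ← mul_assoc, ← hZX z hz a ha, mul_assoc]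
    rw [e1]; exact hz
  let A : Subgroup G := zpowers u ⊔ Z
  have hA : IsPGroup 2 A := IsPGroup.to_sup_of_normal_right' hU hZ hUZ
  have huA : u ∈ A := mem_sup_left (mem_zpowers u)
  have hZA : Z ≤ A := le_sup_right
  have hbA : zpowers b ≤ normalizer (A : Set G) := by
    rw [Subgroup.zpowers_le]
    haveI : Finite ((A : Subgroup G) : Set G) := Set.toFinite _
    apply mem_normalizer_fintype
    have e1 : A ≤ A.comap (MulAut.conj b).toMonoidHom := by
      apply sup_le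
      · rw [Subgroup.zpowers_le]
        show b * (a * s) * b⁻¹ ∈ A
        have h1 : b * a * b⁻¹ * a⁻¹ ∈ Z := by
          apply hinZ
          · exact (XX S).mul_mem ((XX S).mul_mem ((XX S).mul_mem hb ha) (inv_mem hb)) (inv_mem ha)
          · rw [map_mul, map_mul, map_mul, map_inv, map_inv, ← hcm]; group
        have h2 : b * (a * s) * b⁻¹ = (b * a * b⁻¹ * a⁻¹) * u := by
          show b * (a * s) * b⁻¹ = (b * a * b⁻¹ * a⁻¹) * (a * s)
          have h3 : s * b⁻¹ = b⁻¹ * s := XX_comm (inv_mem hb) hs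
          rw [mul_assoc, mul_assoc a, h3]; group
        rw [h2]
        exact A.mul_mem (hZA h1) huA
      · intro z hz
        show b * z * b⁻¹ ∈ A
        rw [← hZX z hz b hb, mul_inv_cancel_right]
        exact hZA hz
    intro n hn
    exact e1 hn
  have hB : IsPGroup 2 (zpowers b) := by
    refine isPGroup_zpowers' (k := 2) ?_
    have h1 : b * b ∈ Z := hinZ _ ((XX S).mul_mem hb hb) (by rw [map_mul, hb2])
    have := hZ1 _ h1
    rw [← this, ← pow_two, ← pow_mul]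
    norm_num
  let H : Subgroup G := zpowers b ⊔ A
  have hH : IsPGroup 2 H := IsPGroup.to_sup_of_normal_right' hB hA hbA
  have hbH : b ∈ H := mem_sup_left (mem_zpowers b)
  have hAH : A ≤ H := le_sup_right
  have huH : u ∈ H := hAH huA
  have hHS : ¬ H ≤ S := fun h => hb1 (c.q_eq_one.2 (h hbH))
  have hqu : q u = q a := by
    show q (a * s) = q a
    rw [map_mul, c.q_eq_one.2 hs, mul_one]
  have hgn : g ∈ normalizer (H : Set G) := by
    refine c.mem_nz Nat.prime_two hH hHS ?_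
    have e1 : H ≤ (H.map q).comap ((MulAut.conj (q g)).toMonoidHom.comp q) := by
      apply sup_le
      · rw [Subgroup.zpowers_le]
        show q g * q b * (q g)⁻¹ ∈ H.map q
        rw [hg2]
        exact ⟨u * b, H.mul_mem huH hbH, by rw [map_mul, hqu]⟩
      · apply sup_le
        · rw [Subgroup.zpowers_le]
          show q g * q u * (q g)⁻¹ ∈ H.map q
          rw [hqu, hg1]
          exact ⟨b, hbH, rfl⟩
        · intro z hz
          show q g * q z * (q g)⁻¹ ∈ H.map q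
          rw [c.q_eq_one.2 hz.2, mul_one, mul_inv_cancel]
          exact one_mem _
    rintro _ ⟨y, hy, rfl⟩
    exact e1 hy
  have hsH : s ∈ H := by
    have e1 : g * u * g⁻¹ ∈ H := (mem_normalizer_iff.1 hgn u).1 huH
    have e2 : b⁻¹ * (g * a * g⁻¹) ∈ Z := by
      apply hinZ
      · exact (XX S).mul_mem (inv_mem hb) ((XX S).mul_mem ((XX S).mul_mem hg ha) (inv_mem hg))
      · rw [map_mul, map_mul, map_mul, map_inv, map_inv, hg1, inv_mul_cancel]
    have e3 : s = (b⁻¹ * (g * a * g⁻¹))⁻¹ * b⁻¹ * (g * u * g⁻¹) := by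
      show s = (b⁻¹ * (g * a * g⁻¹))⁻¹ * b⁻¹ * (g * (a * s) * g⁻¹)
      have h3 : s * g⁻¹ = g⁻¹ * s := XX_comm (inv_mem hg) hs
      rw [mul_assoc g (a * s), mul_assoc a s, h3]; group
    rw [e3]
    exact H.mul_mem (H.mul_mem (H.inv_mem (hAH (hZA e2))) (H.inv_mem hbH)) e1
  rw [show H = zpowers b ⊔ A from rfl, sup_comm, SubgroupTools.mem_sup_of_le_normalizer' hbA] at hsH
  obtain ⟨w, hw, n, hn, hwn⟩ := hsH
  rw [show A = zpowers u ⊔ Z from rfl, sup_comm, SubgroupTools.mem_sup_of_le_normalizer' hUZ] at hn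
  obtain ⟨v, hv, z, hz, rfl⟩ := hn
  obtain ⟨j, rfl⟩ := Subgroup.mem_zpowers_iff.1 hw
  obtain ⟨i, rfl⟩ := Subgroup.mem_zpowers_iff.1 hv
  -- i, j even
  have hqz : q z = 1 := c.q_eq_one.2 hz.2
  have e1 : (q b) ^ j * (q a) ^ i = 1 := by
    have := congrArg q hwn
    rw [map_mul, map_mul, map_zpow, map_zpow, hqu, hqz, mul_one, c.q_eq_one.2 hs] at this
    exact this
  have pow_ev : ∀ (x : PSL13), x * x = 1 → ∀ m : ℤ, Even m → x ^ m = 1 := by
    rintro x hx m ⟨t, rfl⟩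
    rw [zpow_add, ← (Commute.refl x).mul_zpow t, hx, one_zpow]
  have pow_od : ∀ (x : PSL13), x * x = 1 → ∀ m : ℤ, Odd m → x ^ m = x := by
    rintro x hx m ⟨t, rfl⟩
    rw [zpow_add_one, pow_ev x hx (2 * t) ⟨t, by ring⟩, one_mul]
  have hi : Even i := by
    by_contra hi
    rw [Int.not_even_iff_odd] at hi
    rw [pow_od _ ha2 i hi] at e1
    rcases Int.even_or_odd j with hj | hj
    · rw [pow_ev _ hb2 j hj, one_mul] at e1
      exact ha1 e1
    · rw [pow_od _ hb2 j hj] at e1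
      apply hab
      have h1 : q b = (q a)⁻¹ := eq_inv_of_mul_eq_one_left e1
      rw [h1, eq_inv_iff_mul_eq_one, ha2]
  -- s^(1-i) in X
  have e2 : s ^ (1 - i) ∈ XX S := by
    have h1 : u ^ i = a ^ i * s ^ i := hcas.mul_zpow i
    have h2 : s = (b ^ j * (a ^ i) * z) * s ^ i := by
      rw [h1] at hwn
      have h3 : s ^ i * z = z * s ^ i := by
        have : Commute s z := hZs z hz
        exact (this.zpow_left i).eq
      calc s = b ^ j * (a ^ i * s ^ i * z) := hwn.symm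
        _ = b ^ j * (a ^ i * (s ^ i * z)) := by group
        _ = b ^ j * (a ^ i * (z * s ^ i)) := by rw [h3]
        _ = _ := by group
    have h3 : s ^ (1 - i) = b ^ j * (a ^ i) * z := by
      rw [zpow_sub, zpow_one, mul_inv_eq_iff_eq_mul]; exact h2
    rw [h3]
    exact (XX S).mul_mem ((XX S).mul_mem ((XX S).zpow_mem hb j) ((XX S).zpow_mem ha i)) hz.1
  have hcop : IsCoprime (1 - i) ((2 : ℤ) ^ k) := by
    apply IsCoprime.pow_right
    obtain ⟨t, ht⟩ := hi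
    exact ⟨1, t, by rw [ht]; ring⟩
  obtain ⟨r1, r2, hr⟩ := hcop
  have e3 : s = (s ^ (1 - i)) ^ r1 := by
    have h1 : s ^ ((2 : ℤ) ^ k) = 1 := by
      have : ((2 : ℤ) ^ k) = ((2 ^ k : ℕ) : ℤ) := by push_cast; rfl
      rw [this, zpow_natCast, hk]
    calc s = s ^ (r1 * (1 - i) + r2 * 2 ^ k) := by rw [hr, zpow_one]
      _ = (s ^ (1 - i)) ^ r1 * (s ^ ((2 : ℤ) ^ k)) ^ r2 := by
        rw [zpow_add, mul_comm r1, zpow_mul, mul_comm r2, zpow_mul]
      _ = _ := by rw [h1, one_zpow, mul_one]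
  rw [e3]
  exact (XX S).zpow_mem e2 r1

end Cfsg.Agent.Lib.Star68
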