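import Cfsg.Agent.Lib.Star68Fin2

/-! # S4233: final assembly, part 3 (helper68) -/

set_option autoImplicit false
set_option linter.all false

namespace Cfsg.Agent.Lib.Star68

open Subgroup Cfsg
open scoped Pointwise commutatorElement

local notation "PSL13" => Matrix.ProjectiveSpecialLinearGroup (Fin 2) (ZMod 13)

variable {G : Type*} [Group G] [Finite G] {S : Subgroup G} {q : G →* PSL13}

theorem Ctx.seven_elem (c : Ctx S q) {x : G} (hx : x ∈ S) {k : ℕ} (hk : x ^ 7 ^ k = 1) : x = 1 := by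
  induction k with
  | zero => simpa using hk
  | succ k ih =>
    apply ih
    apply c.no_elem (p := 7) (Or.inr (Or.inl rfl)) (S.pow_mem hx _)
    rw [← pow_mul, ← pow_succ, hk]

theorem Ctx.norm_pgroup (c : Ctx S q) {r : ℕ} (hr : r.Prime) {Q : Subgroup G} (hQ : IsPGroup r Q) (hQS : Q ≤ S) :
    S ≤ normalizer (Q : Set G) := by
  haveI := c.nS
  by_cases h7 : r = 7
  · subst h7
    have h1 : Q = ⊥ := by
      rw [eq_bot_iff]
      intro x hx
      obtain ⟨k, hk⟩ := hQ ⟨x, hx⟩
      have hk' : x ^ 7 ^ k = 1 := by simpa using congrArg Subtype.val hk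
      exact c.seven_elem (hQS hx) hk'
    rw [h1, normalizer_eq_top_iff.2 inferInstance]; exact le_top
  · obtain ⟨y, g', hy, hg'⟩ := exists_inv (p := 7) (Or.inr (Or.inl rfl))
    obtain ⟨x, hx, rfl, hxp⟩ := c.exists_lift (p := 7) (by norm_num) (by norm_num) hy
    have hq1 : q x ≠ 1 := by
      intro h1; rw [h1, orderOf_one] at hy; omega
    have hH : IsPGroup 7 (zpowers x) := isPGroup_zpowers' (k := 1) (by rw [pow_one]; exact hxp)
    have hHS : ¬ zpowers x ≤ S := fun h => hq1 (c.q_eq_one.2 (h (mem_zpowers x)))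
    have hcomm : ∀ w ∈ Q, ∀ v ∈ zpowers x, w * v = v * w := fun w hw v hv =>
      XX_comm ((Subgroup.zpowers_le.2 hx) hv) (hQS hw)
    have hn : Q ≤ normalizer ((zpowers x : Subgroup G) : Set G) := by
      intro w hw
      haveI : Finite ((zpowers x : Subgroup G) : Set G) := Set.toFinite _
      apply mem_normalizer_fintype
      intro v hv
      rw [hcomm w hw v hv, mul_inv_cancel_right]; exact hv
    have hn' : zpowers x ≤ normalizer (Q : Set G) := by
      intro v hv
      haveI : Finite ((Q : Subgroup G) : Set G) := Set.toFinite _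
      apply mem_normalizer_fintype
      intro w hw
      rw [← hcomm w hw v hv, mul_inv_cancel_right]; exact hw
    have h1 := normalizer_le_normalizer_sup c.h c.max (p := 7) (q := r) (by norm_num) hr (Ne.symm h7) hH hHS hQ hn
    have h2 := c.S_le (by norm_num : Nat.Prime 7) hH hHS
    rw [h1, sup_comm] at h2
    exact h2.trans (normalizer_sup_le hr (by norm_num) h7 hQ hH hn')

theorem Ctx.norm_all (c : Ctx S q) {T : Subgroup G} (hT : T ≤ S) : S ≤ normalizer (T : Set G) := by
  intro s hs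
  haveI : Finite ((T : Subgroup G) : Set G) := Set.toFinite _
  apply mem_normalizer_fintype
  have e1 : T ≤ T.comap (MulAut.conj s).toMonoidHom := by
    apply RankTwoNilp.le_of_primePow
    rintro r hr x hx ⟨k, hk⟩
    have h1 := c.norm_pgroup hr (isPGroup_zpowers' hk) ((Subgroup.zpowers_le.2 hx).trans hT)
    have h2 : s * x * s⁻¹ ∈ zpowers x := (mem_normalizer_iff.1 (h1 hs) x).1 (mem_zpowers x)
    exact (Subgroup.zpowers_le.2 hx) h2
  intro n hn
  exact e1 hn

theorem Ctx.S_comm (c : Ctx S q) : ∀ x ∈ S, ∀ y ∈ S, x * y = y * x := by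
  by_contra hcon
  have hna : ¬ IsMulCommutative S := by
    intro h
    apply hcon
    intro x hx y hy
    exact congrArg Subtype.val (h.is_comm.comm (⟨x, hx⟩ : S) ⟨y, hy⟩)
  have hn : ∀ H : Subgroup S, H.Normal := by
    intro H
    have h1 := c.norm_all (T := H.map S.subtype) (Subgroup.map_subtype_le H)
    have h2 : ((H.map S.subtype).subgroupOf S).Normal := normal_subgroupOf_of_le_normalizer h1
    have h3 : (H.map S.subtype).subgroupOf S = H := by
      rw [Subgroup.subgroupOf, Subgroup.comap_map_eq_self_of_injective S.subtype_injective]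
    rwa [h3] at h2
  obtain ⟨Q, -, -, ⟨e⟩, -⟩ := Cfsg.Agent.S4211.result hna hn
  -- an element of order 4
  let a : Q := e.symm (QuaternionGroup.a 1)
  have ha : a ^ 4 = 1 := by
    apply e.injective
    rw [map_pow, map_one, MulEquiv.apply_symm_apply]
    decide
  have ha2 : a ^ 2 ≠ 1 := by
    intro h
    have h1 := congrArg e h
    rw [map_pow, map_one, MulEquiv.apply_symm_apply] at h1
    revert h1
    decide
  have h4 : (((a : S) : G)) ^ 2 ^ 2 = 1 := by
    have := congrArg (fun z : Q => ((z : S) : G)) ha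
    simpa using this
  have h5 := c.two_elem (a : S).2 h4
  have h6 := c.sq_eq_one h5 (a : S).2
  apply ha2
  apply Subtype.ext
  apply Subtype.ext
  simpa using h6

/-- elements of odd order of `S` -/
def SO (c : Ctx S q) : Subgroup G where
  carrier := {x | x ∈ S ∧ Odd (orderOf x)}
  one_mem' := ⟨S.one_mem, by rw [orderOf_one]; exact odd_one⟩
  mul_mem' := by
    rintro x y ⟨hx, ox⟩ ⟨hy, oy⟩
    refine ⟨S.mul_mem hx hy, ?_⟩
    have h1 : orderOf (x * y) ∣ orderOf x * orderOf y :=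
      (Commute.orderOf_mul_dvd_mul_orderOf (c.S_comm x hx y hy))
    exact Odd.of_dvd_nat (ox.mul oy) h1
  inv_mem' := by
    rintro x ⟨hx, ox⟩
    exact ⟨S.inv_mem hx, by rw [orderOf_inv]; exact ox⟩

theorem mem_SO (c : Ctx S q) {x : G} : x ∈ SO c ↔ x ∈ S ∧ Odd (orderOf x) := Iff.rfl

theorem SO_normal (c : Ctx S q) : (SO c).Normal := by
  constructor
  rintro x ⟨hx, ox⟩ g
  refine ⟨c.nS.conj_mem x hx g, ?_⟩
  have : orderOf (g * x * g⁻¹) = orderOf x := by
    have h1 : g * x * g⁻¹ = MulAut.conj g x := rfl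
    rw [h1]
    exact orderOf_injective (MulAut.conj g).toMonoidHom (MulAut.conj g).injective x
  rw [this]; exact ox

theorem XX_inf_SO (c : Ctx S q) : XX S ⊓ SO c = ⊥ := by
  rw [eq_bot_iff]
  rintro x ⟨hx, hs, ho⟩
  have h1 := orderOf_dvd_of_pow_eq_one (c.sq_eq_one hx hs)
  have h2 : orderOf x = 1 := by
    rcases (Nat.dvd_prime Nat.prime_two).1 h1 with h | h
    · exact h
    · rw [h] at ho; exact absurd ho (by decide)
  exact orderOf_eq_one_iff.1 h2

theorem XX_sup_SO (c : Ctx S q) : XX S ⊔ SO c = ⊤ := by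
  rw [eq_top_iff]
  intro g _
  obtain ⟨x, hx, z, hz, rfl⟩ := c.exists_decomp g
  refine mul_mem (mem_sup_left hx) ?_
  have hpos : orderOf z ≠ 0 := (orderOf_pos z).ne'
  obtain ⟨k, m, hm, hkm⟩ := Nat.exists_eq_two_pow_mul_odd hpos
  have hcop : IsCoprime ((2 ^ k : ℕ) : ℤ) (m : ℤ) := by
    rw [Nat.isCoprime_iff_coprime]
    exact Nat.Coprime.pow_left _ ((Nat.coprime_two_left).2 hm)
  obtain ⟨u, v, huv⟩ := hcop
  have h1 : z = (z ^ 2 ^ k) ^ u * (z ^ m) ^ v := by
    calc z = z ^ (u * ((2 ^ k : ℕ) : ℤ) + v * (m : ℤ)) := by rw [huv, zpow_one]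
      _ = _ := by rw [zpow_add, mul_comm u, zpow_mul, mul_comm v, zpow_mul, zpow_natCast, zpow_natCast]
  rw [h1]
  refine mul_mem (mem_sup_right ((SO c).zpow_mem ?_ u)) (mem_sup_left ((XX S).zpow_mem ?_ v))
  · refine ⟨S.pow_mem hz _, ?_⟩
    have h2 : (z ^ 2 ^ k) ^ m = 1 := by rw [← pow_mul, ← hkm, pow_orderOf_eq_one]
    exact Odd.of_dvd_nat hm (orderOf_dvd_of_pow_eq_one h2)
  · apply c.two_elem (S.pow_mem hz m) (k := k)
    rw [← pow_mul, mul_comm, ← hkm, pow_orderOf_eq_one]

theorem Ctx.card_XX (c : Ctx S q) : Nat.card (XX S) ∣ 2184 := by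
  haveI := c.nS
  have h1 : Nat.card (XX S) = Nat.card (S.subgroupOf (XX S)) * (S.subgroupOf (XX S)).index :=
    (Subgroup.card_mul_index _).symm
  have h2 : (S.subgroupOf (XX S)).index = 1092 := by
    have h3 : S.relIndex (XX S) = S.relIndex (XX S ⊔ S) := by
      rw [Subgroup.relIndex_sup_right]
    rw [c.XX_sup, Subgroup.relIndex_top_right] at h3
    rw [← c.index, ← h3]; rfl
  have h4 : Nat.card (S.subgroupOf (XX S)) ∣ 2 := by
    have h5 : Nat.card (S.subgroupOf (XX S)) = Nat.card (XX S ⊓ S : Subgroup G) := by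
      rw [← Subgroup.card_map_of_injective (XX S).subtype_injective, Subgroup.subgroupOf_map_subtype, inf_comm]
    rw [h5]
    rcases c.cover with ⟨h, -⟩ | ⟨h, -⟩
    · rw [h, Subgroup.card_bot]; exact one_dvd _
    · rw [h]
  rw [h1, h2]
  exact mul_dvd_mul_right h4 1092

theorem coprime_XX_SO (c : Ctx S q) : (Nat.card (XX S)).Coprime (Nat.card (SO c)) := by
  apply Nat.coprime_of_dvd
  intro r hr h1 h2
  haveI := Fact.mk hr
  obtain ⟨x, hx⟩ := exists_prime_orderOf_dvd_card' r h2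
  have hx' : orderOf (x : G) = r := by rw [Subgroup.orderOf_coe, hx]
  have hodd : Odd r := by rw [← hx']; exact x.2.2
  have h3 : r ∣ 2184 := h1.trans c.card_XX
  have h4 : r = 2 ∨ r = 3 ∨ r = 7 ∨ r = 13 := by
    have h5 : r ∈ Nat.primeFactors 2184 := Nat.mem_primeFactors.2 ⟨hr, h3, by norm_num⟩
    have h6 : Nat.primeFactors 2184 = {2, 3, 7, 13} := by decide +kernel
    rw [h6] at h5
    simpa using h5
  rcases h4 with h | h
  · rw [h] at hodd; exact absurd hodd (by decide)
  · have h5 := c.no_elem h x.2.1 (by rw [← hx', pow_orderOf_eq_one])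
    rw [h5, orderOf_one] at hx'
    exact hr.one_lt.ne hx'

theorem final (c : Ctx S q) :
    ∃ K T : Subgroup G, K.Normal ∧ T.Normal ∧ K ⊓ T = ⊥ ∧ K ⊔ T = ⊤ ∧
      (Nonempty (K ≃* Matrix.ProjectiveSpecialLinearGroup (Fin 2) (ZMod 13)) ∨
        Nonempty (K ≃* Matrix.SpecialLinearGroup (Fin 2) (ZMod 13))) ∧
      IsMulCommutative T ∧ (Nat.card K).Coprime (Nat.card T) := by
  refine ⟨XX S, SO c, c.XX_normal, SO_normal c, XX_inf_SO c, XX_sup_SO c, ?_, ?_, coprime_XX_SO c⟩
  · rcases c.cover with ⟨-, h⟩ | ⟨-, h⟩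
    · exact Or.inl h
    · exact Or.inr h
  · refine ⟨⟨fun x y => ?_⟩⟩
    apply Subtype.ext
    exact c.S_comm x x.2.1 y y.2.1

/-- the theorem from the recognition of the quotient by the solvable radical -/
theorem main.{u} {G : Type u} [Group G] [Finite G]
    (hiso : ∀ (L : Type u) [Group L] [Finite L], Star L → ¬ Group.IsSolvable L → Nonempty (L ≃* PSL13))
    (hG : ¬ Group.IsSolvable G) (h : Hyp G) :
    ∃ K T : Subgroup G, K.Normal ∧ T.Normal ∧ K ⊓ T = ⊥ ∧ K ⊔ T = ⊤ ∧
      (Nonempty (K ≃* Matrix.ProjectiveSpecialLinearGroup (Fin 2) (ZMod 13)) ∨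
        Nonempty (K ≃* Matrix.SpecialLinearGroup (Fin 2) (ZMod 13))) ∧
      IsMulCommutative T ∧ (Nat.card K).Coprime (Nat.card T) := by
  obtain ⟨S, hSn, hSs, hmax⟩ := EppoFour.exists_solv_radical G
  haveI := hSn
  obtain ⟨e⟩ := hiso (G ⧸ S) (star_quotient h hmax hSs) (not_solvable_quotient hG hSs)
  have c : Ctx S (e.toMonoidHom.comp (QuotientGroup.mk' S)) := by
    refine ⟨h, hSn, hSs, hmax, ?_, ?_⟩
    · exact e.surjective.comp (QuotientGroup.mk'_surjective S)
    · ext x
      rw [MonoidHom.mem_ker]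
      show e (QuotientGroup.mk' S x) = 1 ↔ x ∈ S
      rw [map_eq_one_iff e e.injective]
      exact QuotientGroup.eq_one_iff x
  exact final c

end Cfsg.Agent.Lib.Star68
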