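import Cfsg.Agent.Lib.Star68
import Cfsg.Agent.Lib.Cores
import Cfsg.Agent.Lib.EppoFour
import Cfsg.Agent.Lib.SubgroupTools

/-! # S4233: reduction to the quotient by the solvable radical (helper68) -/

set_option autoImplicit false
set_option linter.all false

namespace Cfsg.Agent.Lib.Star68

open Subgroup
open scoped Pointwise

/-- the hypothesis of S4233 -/
def Hyp (G : Type*) [Group G] : Prop := ∀ H : Subgroup G, ¬ H.IsSubnormal →
      (∃ p q : ℕ, p.Prime ∧ q.Prime ∧ ∀ r : ℕ, r.Prime → r ∣ Nat.card H → r = p ∨ r = q) →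
      IsCoatom (Subgroup.normalizer (H : Set G))

variable {G : Type*} [Group G]

theorem pow_mul_mem {H Q : Subgroup G} (hn : Q ≤ normalizer (H : Set G)) {a c : G} (ha : a ∈ H) (hc : c ∈ Q) (n : ℕ) :
    ∃ b ∈ H, (a * c) ^ n = b * c ^ n := by
  induction n with
  | zero => exact ⟨1, H.one_mem, by simp⟩
  | succ n ih =>
    obtain ⟨b, hb, h1⟩ := ih
    have h2 : c ^ n * a * (c ^ n)⁻¹ ∈ H := (mem_normalizer_iff.1 (hn (Q.pow_mem hc n)) a).1 ha
    refine ⟨b * (c ^ n * a * (c ^ n)⁻¹), H.mul_mem hb h2, ?_⟩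
    rw [pow_succ, h1, pow_succ]
    group

/-- `p`-elements of `H ⊔ Q` lie in `H` -/
theorem mem_left_of_pow {p q : ℕ} (hp : p.Prime) (hq : q.Prime) (hpq : p ≠ q) {H Q : Subgroup G}
    (hQ : IsPGroup q Q) (hn : Q ≤ normalizer (H : Set G)) {x : G} (hx : x ∈ H ⊔ Q) {k : ℕ} (hk : x ^ p ^ k = 1) : x ∈ H := by
  rw [SubgroupTools.mem_sup_of_le_normalizer hn] at hx
  obtain ⟨a, ha, c, hc, rfl⟩ := hx
  obtain ⟨b, hb, h1⟩ := pow_mul_mem hn ha hc (p ^ k)
  have h2 : c ^ p ^ k ∈ H := by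
    have h3 : c ^ p ^ k = b⁻¹ := by
      rw [h1] at hk
      exact eq_inv_of_mul_eq_one_right hk
    rw [h3]; exact H.inv_mem hb
  -- c has q-power order
  obtain ⟨j, hj⟩ := hQ ⟨c, hc⟩
  have hj' : c ^ q ^ j = 1 := by simpa using congrArg Subtype.val hj
  have hcop : Nat.Coprime (p ^ k) (q ^ j) := Nat.Coprime.pow _ _ ((Nat.coprime_primes hp hq).2 hpq)
  have h4 : c ∈ H := by
    have h5 : (c : G) ^ (Nat.gcd (p ^ k) (q ^ j)) ∈ H := by
      have h6 : ((Nat.gcd (p ^ k) (q ^ j) : ℕ) : ℤ) = (p ^ k : ℕ) * Nat.gcdA (p ^ k) (q ^ j) + (q ^ j : ℕ) * Nat.gcdB (p ^ k) (q ^ j) :=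
        Nat.gcd_eq_gcd_ab _ _
      rw [← zpow_natCast c (Nat.gcd _ _), h6, zpow_add, zpow_mul, zpow_mul, zpow_natCast, zpow_natCast, hj', one_zpow, mul_one]
      exact H.zpow_mem h2 _
    rw [hcop, pow_one] at h5
    exact h5
  exact H.mul_mem ha h4

theorem normalizer_sup_le [Finite G] {p q : ℕ} (hp : p.Prime) (hq : q.Prime) (hpq : p ≠ q) {H Q : Subgroup G}
    (hH : IsPGroup p H) (hQ : IsPGroup q Q) (hn : Q ≤ normalizer (H : Set G)) :
    normalizer ((H ⊔ Q : Subgroup G) : Set G) ≤ normalizer (H : Set G) := by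
  have key : ∀ g ∈ normalizer ((H ⊔ Q : Subgroup G) : Set G), ∀ x ∈ H, g * x * g⁻¹ ∈ H := by
    intro g hg x hx
    have h1 : g * x * g⁻¹ ∈ H ⊔ Q := (mem_normalizer_iff.1 hg x).1 (mem_sup_left hx)
    obtain ⟨k, hk⟩ := hH ⟨x, hx⟩
    have hk' : x ^ p ^ k = 1 := by simpa using congrArg Subtype.val hk
    refine mem_left_of_pow hp hq hpq hQ hn h1 (k := k) ?_
    rw [conj_pow, hk']; group
  intro g hg
  rw [mem_normalizer_iff]
  intro x
  refine ⟨key g hg x, fun h => ?_⟩
  have h1 := key g⁻¹ ((normalizer _).inv_mem hg) _ h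
  have h2 : g⁻¹ * (g * x * g⁻¹) * g⁻¹⁻¹ = x := by group
  rwa [h2] at h1

theorem prime_dvd_sup [Finite G] {p q : ℕ} (hp : p.Prime) (hq : q.Prime) {H Q : Subgroup G}
    (hH : IsPGroup p H) (hQ : IsPGroup q Q) (hn : Q ≤ normalizer (H : Set G)) {r : ℕ} (hr : r.Prime)
    (hd : r ∣ Nat.card (H ⊔ Q : Subgroup G)) : r = p ∨ r = q := by
  haveI := Fact.mk hp
  haveI := Fact.mk hq
  haveI := Fact.mk hr
  obtain ⟨x, hx⟩ := exists_prime_orderOf_dvd_card' r hd
  -- x ∈ H ⊔ Q of order r; if r ≠ p, q then contradiction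
  by_contra hcon
  push Not at hcon
  obtain ⟨hrp, hrq⟩ := hcon
  have hxx : (x : G) ^ r = 1 := by
    have := pow_orderOf_eq_one x
    rw [hx] at this
    simpa using congrArg Subtype.val this
  have h1 : (x : G) ∈ H := by
    refine mem_left_of_pow (p := r) (q := q) hr hq hrq hQ hn x.2 (k := 1) (by rw [pow_one]; exact hxx)
  obtain ⟨j, hj⟩ := hH ⟨x, h1⟩
  have hj' : (x : G) ^ p ^ j = 1 := by simpa using congrArg Subtype.val hj
  have h2 : orderOf (x : G) = r := by rw [Subgroup.orderOf_coe, hx]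
  have h3 : r ∣ p ^ j := by rw [← h2]; exact orderOf_dvd_of_pow_eq_one hj'
  exact hrp ((Nat.prime_dvd_prime_iff_eq hr hp).1 (hr.dvd_of_dvd_pow h3))

section

variable [Finite G] {S : Subgroup G} [S.Normal]

theorem isSolvable_sup' {X Y : Subgroup G} (h1 : Group.IsSolvable X) (h2 : Group.IsSolvable Y)
    (hn : Y ≤ normalizer (X : Set G)) : Group.IsSolvable ↥(X ⊔ Y) := by
  have hXn : (X.subgroupOf (X ⊔ Y)).Normal := by
    apply normal_subgroupOf_of_le_normalizer
    exact sup_le le_normalizer hn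
  have h3 : Group.IsSolvable ↥(X.subgroupOf (X ⊔ Y)) :=
    Group.isSolvable_of_isSolvable_injective
      (f := (Subgroup.subgroupOfEquivOfLe (le_sup_left : X ≤ X ⊔ Y)).toMonoidHom)
      (Subgroup.subgroupOfEquivOfLe (le_sup_left : X ≤ X ⊔ Y)).injective
  have h4 : Group.IsSolvable (↥(X ⊔ Y) ⧸ X.subgroupOf (X ⊔ Y)) := by
    have hsurj : Function.Surjective
        ((QuotientGroup.mk' (X.subgroupOf (X ⊔ Y))).comp
          (Subgroup.inclusion (le_sup_right : Y ≤ X ⊔ Y))) := by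
      intro q
      obtain ⟨z, rfl⟩ := QuotientGroup.mk'_surjective _ q
      have hz := z.2
      rw [SubgroupTools.mem_sup_of_le_normalizer hn] at hz
      obtain ⟨x, hx, y, hy, hxy⟩ := hz
      refine ⟨⟨y, hy⟩, ?_⟩
      simp only [MonoidHom.comp_apply, QuotientGroup.mk'_apply]
      rw [QuotientGroup.eq, mem_subgroupOf]
      have h5 : ((((Subgroup.inclusion (le_sup_right : Y ≤ X ⊔ Y)) ⟨y, hy⟩)⁻¹ * z :
          ↥(X ⊔ Y)) : G) = y⁻¹ * x * y := by
        rw [Subgroup.coe_mul, ← hxy]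
        simp [mul_assoc]
      rw [h5]
      have h6 := (mem_normalizer_iff.mp (inv_mem (hn hy)) x).mp hx
      simpa using h6
    exact Group.isSolvable_of_surjective hsurj
  exact Group.isSolvable_of_ker_le_range (X.subgroupOf (X ⊔ Y)).subtype
    (QuotientGroup.mk' (X.subgroupOf (X ⊔ Y))) (by
      rw [QuotientGroup.ker_mk', range_subtype])



theorem isSolvable_of_pgroup {p : ℕ} (hp : p.Prime) {H : Subgroup G} (hH : IsPGroup p H) : Group.IsSolvable H := by
  haveI := Fact.mk hp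
  have := hH.isNilpotent
  infer_instance

theorem not_subnormal (hS : ∀ N : Subgroup G, N.Normal → Group.IsSolvable N → N ≤ S) {p : ℕ} (hp : p.Prime)
    {H : Subgroup G} (hH : IsPGroup p H) (hHS : ¬ H ≤ S) : ¬ H.IsSubnormal := by
  intro hs
  haveI := Fact.mk hp
  exact hHS ((Cores.le_pCore_of_isSubnormal hs hH).trans
    (hS _ inferInstance (isSolvable_of_pgroup hp (Cores.isPGroup_pCore p G))))

theorem isCoatom_normalizer (h : Hyp G) (hS : ∀ N : Subgroup G, N.Normal → Group.IsSolvable N → N ≤ S) {p : ℕ} (hp : p.Prime)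
    {H : Subgroup G} (hH : IsPGroup p H) (hHS : ¬ H ≤ S) : IsCoatom (normalizer (H : Set G)) := by
  refine h H (not_subnormal hS hp hH hHS) ⟨p, p, hp, hp, fun r hr hd => ?_⟩
  haveI := Fact.mk hp
  obtain ⟨n, hn⟩ := IsPGroup.iff_card.1 hH
  rw [hn] at hd
  exact Or.inl ((Nat.prime_dvd_prime_iff_eq hr hp).1 (hr.dvd_of_dvd_pow hd))

theorem normalizer_sup_ne_top (hS : ∀ N : Subgroup G, N.Normal → Group.IsSolvable N → N ≤ S) (hSs : Group.IsSolvable S) {p : ℕ} (hp : p.Prime)
    {H : Subgroup G} (hH : IsPGroup p H) (hHS : ¬ H ≤ S) : normalizer ((S ⊔ H : Subgroup G) : Set G) ≠ ⊤ := by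
  intro ht
  have hn : (S ⊔ H).Normal := normalizer_eq_top_iff.1 ht
  have h1 : Group.IsSolvable (S ⊔ H : Subgroup G) := by
    refine isSolvable_sup' hSs (isSolvable_of_pgroup hp hH) ?_
    rw [normalizer_eq_top_iff.2 inferInstance]; exact le_top
  exact hHS (le_sup_right.trans (hS _ hn h1))

theorem normalizer_le_sup (H : Subgroup G) : normalizer (H : Set G) ≤ normalizer ((S ⊔ H : Subgroup G) : Set G) := by
  intro g hg
  have h1 : g ∈ normalizer (S : Set G) := by rw [normalizer_eq_top_iff.2 inferInstance]; exact mem_top _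
  rw [mem_normalizer_iff_map_conj_eq] at *
  rw [Subgroup.map_sup, hg, h1]

theorem normalizer_eq_sup (h : Hyp G) (hS : ∀ N : Subgroup G, N.Normal → Group.IsSolvable N → N ≤ S) (hSs : Group.IsSolvable S) {p : ℕ} (hp : p.Prime)
    {H : Subgroup G} (hH : IsPGroup p H) (hHS : ¬ H ≤ S) :
    normalizer (H : Set G) = normalizer ((S ⊔ H : Subgroup G) : Set G) := by
  have h1 := isCoatom_normalizer h hS hp hH hHS
  by_contra hne
  exact normalizer_sup_ne_top hS hSs hp hH hHS (h1.2 _ (lt_of_le_of_ne (normalizer_le_sup H) hne))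

/-- `S` normalizes every `p`-subgroup outside `S` -/
theorem le_normalizer_of (h : Hyp G) (hS : ∀ N : Subgroup G, N.Normal → Group.IsSolvable N → N ≤ S) (hSs : Group.IsSolvable S) {p : ℕ} (hp : p.Prime)
    {H : Subgroup G} (hH : IsPGroup p H) (hHS : ¬ H ≤ S) : S ≤ normalizer (H : Set G) := by
  rw [normalizer_eq_sup h hS hSs hp hH hHS]
  exact le_sup_left.trans le_normalizer

theorem normalizer_le_normalizer_sup (h : Hyp G) (hS : ∀ N : Subgroup G, N.Normal → Group.IsSolvable N → N ≤ S)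
    {p q : ℕ} (hp : p.Prime) (hq : q.Prime) (hpq : p ≠ q)
    {H Q : Subgroup G} (hH : IsPGroup p H) (hHS : ¬ H ≤ S) (hQ : IsPGroup q Q) (hn : Q ≤ normalizer (H : Set G)) :
    normalizer (H : Set G) = normalizer ((H ⊔ Q : Subgroup G) : Set G) := by
  have h1 := isCoatom_normalizer h hS hp hH hHS
  have h2 : ¬ (H ⊔ Q).IsSubnormal := by
    intro hs
    refine not_subnormal hS hp hH hHS (IsSubnormal.trans (le_sup_left : H ≤ H ⊔ Q) ?_ hs)
    exact (normal_subgroupOf_of_le_normalizer (sup_le le_normalizer hn)).isSubnormal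
  have h3 : IsCoatom (normalizer ((H ⊔ Q : Subgroup G) : Set G)) :=
    h _ h2 ⟨p, q, hp, hq, fun r hr hd => prime_dvd_sup hp hq hH hQ hn hr hd⟩
  by_contra hne
  exact h1.1 (h3.2 _ (lt_of_le_of_ne (normalizer_sup_le hp hq hpq hH hQ hn) (Ne.symm hne)))

theorem exists_lift {p : ℕ} (hp : p.Prime) (H : Subgroup (G ⧸ S)) (hH : IsPGroup p H) :
    ∃ K : Subgroup G, IsPGroup p K ∧ K.map (QuotientGroup.mk' S) = H := by
  haveI := Fact.mk hp
  let f : H.comap (QuotientGroup.mk' S) →* H :=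
    ((QuotientGroup.mk' S).comp (H.comap (QuotientGroup.mk' S)).subtype).codRestrict H (fun x => x.2)
  have hf : Function.Surjective f := by
    rintro ⟨y, hy⟩
    obtain ⟨x, rfl⟩ := QuotientGroup.mk'_surjective S y
    exact ⟨⟨x, hy⟩, rfl⟩
  obtain ⟨P⟩ : Nonempty (Sylow p (H.comap (QuotientGroup.mk' S))) := inferInstance
  have h1 : (P : Subgroup _).map f = ⊤ := by
    have h2 : ((P.mapSurjective hf : Sylow p H) : Subgroup H) = ⊤ := by
      have h3 : IsPGroup p (⊤ : Subgroup H) := hH.of_equiv Subgroup.topEquiv.symm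
      exact ((P.mapSurjective hf).3 h3 le_top).symm
    rw [← Sylow.coe_mapSurjective hf, h2]
  refine ⟨(P : Subgroup _).map (H.comap (QuotientGroup.mk' S)).subtype, P.2.map _, ?_⟩
  rw [Subgroup.map_map]
  have h4 : (QuotientGroup.mk' S).comp (H.comap (QuotientGroup.mk' S)).subtype = H.subtype.comp f := rfl
  rw [h4, ← Subgroup.map_map, h1, ← MonoidHom.range_eq_map, Subgroup.range_subtype]

theorem comap_normalizer_map (H : Subgroup G) :
    (normalizer ((H.map (QuotientGroup.mk' S) : Subgroup (G ⧸ S)) : Set (G ⧸ S))).comap (QuotientGroup.mk' S) =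
      normalizer ((S ⊔ H : Subgroup G) : Set G) := by
  rw [Subgroup.comap_normalizer_eq_of_surjective _ (QuotientGroup.mk'_surjective S), Subgroup.comap_map_eq, QuotientGroup.ker_mk', sup_comm]

theorem star_quotient (h : Hyp G) (hS : ∀ N : Subgroup G, N.Normal → Group.IsSolvable N → N ≤ S) (hSs : Group.IsSolvable S) :
    Star (G ⧸ S) := by
  constructor
  · intro p H hp hH hH1
    obtain ⟨K, hK, rfl⟩ := exists_lift hp H hH
    have hKS : ¬ K ≤ S := by
      intro hle
      apply hH1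
      rw [Subgroup.map_eq_bot_iff, QuotientGroup.ker_mk']
      exact hle
    have h1 := isCoatom_normalizer h hS hp hK hKS
    rw [normalizer_eq_sup h hS hSs hp hK hKS, ← comap_normalizer_map] at h1
    refine ⟨fun ht => h1.1 (by rw [ht, Subgroup.comap_top]), fun L hL => ?_⟩
    have h2 := h1.2 (L.comap (QuotientGroup.mk' S)) ?_
    · rw [← Subgroup.map_comap_eq_self_of_surjective (QuotientGroup.mk'_surjective S) L, h2,
        ← MonoidHom.range_eq_map, MonoidHom.range_eq_top.2 (QuotientGroup.mk'_surjective S)]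
    · exact (Subgroup.comap_lt_comap_of_surjective (QuotientGroup.mk'_surjective S)).2 hL
  · intro p q H Q hp hq hpq hH hH1 hQ hn
    obtain ⟨K, hK, rfl⟩ := exists_lift hp H hH
    obtain ⟨L, hL, rfl⟩ := exists_lift hq Q hQ
    have hKS : ¬ K ≤ S := by
      intro hle
      apply hH1
      rw [Subgroup.map_eq_bot_iff, QuotientGroup.ker_mk']
      exact hle
    have h1 := normalizer_eq_sup h hS hSs hp hK hKS
    have hLn : L ≤ normalizer (K : Set G) := by
      rw [h1, ← comap_normalizer_map, ← Subgroup.map_le_iff_le_comap]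
      exact hn
    have h2 := normalizer_le_normalizer_sup h hS hp hq hpq hK hKS hL hLn
    intro x hx
    obtain ⟨g, rfl⟩ := QuotientGroup.mk'_surjective S x
    have hg : g ∈ normalizer (K : Set G) := by
      rw [h1, ← comap_normalizer_map]; exact hx
    rw [h2] at hg
    have h3 := normalizer_le_sup (S := S) (K ⊔ L) hg
    rw [← comap_normalizer_map, Subgroup.map_sup] at h3
    exact h3

theorem not_solvable_quotient (hG : ¬ Group.IsSolvable G) (hSs : Group.IsSolvable S) : ¬ Group.IsSolvable (G ⧸ S) :=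
  fun hq => hG (EppoFour.solvable_of_quot S hSs hq)

end

end Cfsg.Agent.Lib.Star68
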