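import Cfsg.Agent.Lib.Star68
import Cfsg.Agent.Lib.RelSylow
import Cfsg.Agent.Lib.Transfer
import Cfsg.Agent.Lib.PF14Odd

/-!
S4233, piece A1 (helper30): a finite nonsolvable group with the local condition `Star` has an involution whose
centralizer is not a 2-group.
-/

set_option autoImplicit false
set_option linter.all false

namespace Cfsg.Agent.Lib.StarA1h30

open Subgroup Cfsg.Agent.Lib.Star68 Cfsg.Agent.Lib.RelSylow

variable {G : Type*} [Group G]

/-- `N_G(R)` for a cyclic group -/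
abbrev NZ (y : G) : Subgroup G := normalizer ((zpowers y : Subgroup G) : Set G)

/-- a nontrivial 2-element has a power of order two -/
theorem exists_inv [Finite G] {H : Subgroup G} (hH : IsPGroup 2 H) {x : G} (hx : x ∈ H) (h1 : x ≠ 1) :
    ∃ k : ℕ, orderOf (x ^ k) = 2 := by
  haveI : Fact (Nat.Prime 2) := ⟨Nat.prime_two⟩
  have h2 : 2 ∣ orderOf x := by
    obtain ⟨m, hm⟩ := (IsPGroup.iff_orderOf (p := 2)).1 hH ⟨x, hx⟩
    rw [Subgroup.orderOf_mk] at hm
    rw [hm]
    cases m with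
    | zero =>
      rw [pow_zero, orderOf_eq_one_iff] at hm
      exact absurd hm h1
    | succ m => exact dvd_pow_self 2 (Nat.succ_ne_zero m)
  exact ⟨orderOf x / 2, orderOf_pow_orderOf_div (orderOf_pos x).ne' h2⟩

theorem odd_inv {y t : G} (hcit : ∀ t : G, orderOf t = 2 → IsPGroup 2 (centralizer ({t} : Set G))) (hy : y ≠ 1)
    (hyo : Odd (orderOf y)) (ht : orderOf t = 2) (hc : y * t = t * y) : False := by
  haveI : Fact (Nat.Prime 2) := ⟨Nat.prime_two⟩
  have h1 : y ∈ centralizer ({t} : Set G) := by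
    rw [mem_centralizer_singleton_iff]
    first | exact hc | exact hc.symm
  obtain ⟨m, hm⟩ := (IsPGroup.iff_orderOf (p := 2)).1 (hcit t ht) ⟨y, h1⟩
  rw [Subgroup.orderOf_mk] at hm
  cases m with
  | zero =>
    rw [pow_zero, orderOf_eq_one_iff] at hm
    exact hy hm
  | succ m =>
    rw [hm, pow_succ] at hyo
    exact (Nat.not_even_iff_odd.2 hyo) ⟨2 ^ m, by ring⟩

theorem cent_eq {t : G} (ht : orderOf t = 2) : NZ t = centralizer ({t} : Set G) := by
  have htt : t * t = 1 := by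
    have := pow_orderOf_eq_one t
    rwa [ht, pow_two] at this
  have ht1 : t ≠ 1 := by
    rintro rfl
    rw [orderOf_one] at ht
    exact absurd ht (by norm_num)
  have hz : ∀ k : ℤ, t ^ k = 1 ∨ t ^ k = t := by
    intro k
    have h2 : t ^ (2 : ℤ) = 1 := by
      rw [show (2 : ℤ) = ((2 : ℕ) : ℤ) from rfl, zpow_natCast, pow_two, htt]
    rcases Int.even_or_odd' k with ⟨m, rfl | rfl⟩
    · left
      rw [zpow_mul, h2, one_zpow]
    · right
      rw [zpow_add, zpow_mul, zpow_one, h2, one_zpow, one_mul]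
  ext g
  rw [mem_centralizer_singleton_iff]
  constructor
  · intro hg
    have h1 : g * t * g⁻¹ ∈ zpowers t := (mem_normalizer_iff.1 hg t).1 (mem_zpowers t)
    obtain ⟨k, hk⟩ := mem_zpowers_iff.1 h1
    rcases hz k with h | h
    · exfalso
      rw [h] at hk
      apply ht1
      have h2 : g * t = g := (mul_inv_eq_one.1 hk.symm)
      exact mul_eq_left.1 h2
    · rw [h] at hk
      have h2 : g * t = t * g := by
        rw [← mul_inv_eq_iff_eq_mul]
        exact hk.symm
      first | exact h2 | exact h2.symm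
  · intro hg
    have hg' : g * t = t * g := by first | exact hg | exact hg.symm
    rw [mem_normalizer_iff]
    have key : ∀ u : G, u ∈ zpowers t → g * u * g⁻¹ = u := by
      intro u hu
      obtain ⟨k, rfl⟩ := mem_zpowers_iff.1 hu
      have : Commute g (t ^ k) := Commute.zpow_right hg' k
      rw [this.eq, mul_inv_cancel_right]
    intro u
    constructor
    · intro hu
      rw [key u hu]
      exact hu
    · intro hu
      have h3 : g * u * g⁻¹ = u := by
        have h4 := key _ hu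
        have h5 : g * u * g⁻¹ = g⁻¹ * (g * (g * u * g⁻¹) * g⁻¹) * g := by group
        rw [h4] at h5
        rw [h5]
        group
      rw [h3] at hu
      exact hu


/-- Sylow 2-subgroups are maximal subgroups. -/
theorem coatom_syl [Finite G] (h : Star68.Star G) (hcit : ∀ t : G, orderOf t = 2 → IsPGroup 2 (centralizer ({t} : Set G)))
    {P : Subgroup G} (hP : IsSyl 2 P ⊤) (hne : P ≠ ⊥) : IsCoatom P := by
  haveI : Fact (Nat.Prime 2) := ⟨Nat.prime_two⟩
  haveI : Nontrivial P := (Subgroup.nontrivial_iff_ne_bot P).2 hne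
  have hc : Nontrivial (center P) := hP.2.1.center_nontrivial
  obtain ⟨z0, hz0, hz1⟩ := (Subgroup.nontrivial_iff_exists_ne_one (center P)).1 hc
  have hz1' : (z0 : G) ≠ 1 := fun h => hz1 (Subtype.ext h)
  obtain ⟨k, hk⟩ := exists_inv hP.2.1 z0.2 hz1'
  have h1 : P ≤ centralizer ({(z0 : G) ^ k} : Set G) := by
    intro x hx
    rw [mem_centralizer_singleton_iff]
    have h2 := mem_center_iff.1 hz0 ⟨x, hx⟩
    have h3 : Commute x (z0 : G) := congrArg Subtype.val h2
    have h4 : x * (z0 : G) ^ k = (z0 : G) ^ k * x := (h3.pow_right k).eq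
    first | exact h4 | exact h4.symm
  have h2 := hP.eq_of_le (hcit _ hk) le_top h1
  rw [h2, ← cent_eq hk]
  refine h.max 2 (zpowers ((z0 : G) ^ k)) Nat.prime_two (IsPGroup.of_card (n := 1) ?_) ?_
  · rw [Nat.card_zpowers, hk, pow_one]
  · rw [Ne, zpowers_eq_bot]
    intro h5
    rw [h5, orderOf_one] at hk
    exact absurd hk (by norm_num)

/-- the situation -/
structure Ctx (H : Subgroup G) (y : G) (r : ℕ) : Prop where
  star : Star68.Star G
  cit : ∀ t : G, orderOf t = 2 → IsPGroup 2 (centralizer ({t} : Set G))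
  hH : IsPGroup 2 H
  ne : H ≠ ⊥
  pr : r.Prime
  r2 : r ≠ 2
  ord : orderOf y = r
  mem : y ∈ normalizer (H : Set G)

namespace Ctx

variable [Finite G] {H : Subgroup G} {y : G} {r : ℕ} (C : Ctx H y r)
include C

theorem y1 : y ≠ 1 := by
  intro h
  have := C.ord
  rw [h, orderOf_one] at this
  exact C.pr.ne_one this.symm

theorem odd : Odd (orderOf y) := by
  rw [C.ord]
  exact C.pr.odd_of_ne_two C.r2

theorem fpf {K : Subgroup G} (hK : IsPGroup 2 K) {x : G} (hx : x ∈ K) (hc : y * x = x * y) : x = 1 := by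
  by_contra h1
  obtain ⟨k, hk⟩ := exists_inv hK hx h1
  have h2 : Commute y x := hc
  exact odd_inv C.cit C.y1 C.odd hk (h2.pow_right k).eq

theorem rR : IsPGroup r (zpowers y) := IsPGroup.of_card (n := 1) (by rw [Nat.card_zpowers, C.ord, pow_one])

theorem Rne : zpowers y ≠ ⊥ := by
  rw [Ne, zpowers_eq_bot]
  exact C.y1

theorem Rle : zpowers y ≤ normalizer (H : Set G) := by
  rw [zpowers_le]
  exact C.mem

theorem ndvd : ¬ r ∣ Nat.card H := by
  haveI : Fact (Nat.Prime 2) := ⟨Nat.prime_two⟩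
  intro hd
  obtain ⟨k, hk⟩ := IsPGroup.iff_card.1 C.hH
  rw [hk] at hd
  exact C.r2 ((Nat.prime_dvd_prime_iff_eq C.pr Nat.prime_two).1 (C.pr.dvd_of_dvd_pow hd))

theorem frat {m : G} (hm : m ∈ normalizer (H : Set G)) : ∃ a ∈ H, ∃ x ∈ NZ y, m = a * x := by
  haveI : Fact r.Prime := ⟨C.pr⟩
  exact exists_normalizer_of_sup C.ndvd C.rR C.Rle
    (C.star.nrm 2 r H (zpowers y) Nat.prime_two C.pr C.r2.symm C.hH C.ne C.rR C.Rle hm)

theorem tri {a : G} (ha : a ∈ H) (hn : a ∈ NZ y) : a = 1 := by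
  haveI : Fact r.Prime := ⟨C.pr⟩
  have h1 : a * y * a⁻¹ ∈ zpowers y := (mem_normalizer_iff.1 hn y).1 (mem_zpowers y)
  have h2 : a * y * a⁻¹ * y⁻¹ ∈ zpowers y := mul_mem h1 (inv_mem (mem_zpowers y))
  have h3 : y * a⁻¹ * y⁻¹ ∈ H := (mem_normalizer_iff.1 C.mem a⁻¹).1 (inv_mem ha)
  have h4 : a * y * a⁻¹ * y⁻¹ ∈ H := by
    have e : a * y * a⁻¹ * y⁻¹ = a * (y * a⁻¹ * y⁻¹) := by group
    rw [e]
    exact mul_mem ha h3
  have h5 : a * y * a⁻¹ * y⁻¹ = 1 := eq_one_of_mem C.ndvd C.rR h4 h2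
  have h6 : a * y = y * a := mul_inv_eq_iff_eq_mul.1 (mul_inv_eq_one.1 h5)
  exact C.fpf C.hH ha h6.symm

theorem sq {u c : G} (hu : u ∈ H) (hc : c ∈ normalizer (H : Set G)) (h : (u * c) * (u * c) = 1) : c * c ∈ H := by
  have h2 : c * u * c⁻¹ ∈ H := (mem_normalizer_iff.1 hc u).1 hu
  have h3 : (u * (c * u * c⁻¹)) * (c * c) = 1 := by
    calc (u * (c * u * c⁻¹)) * (c * c) = (u * c) * (u * c) := by group
      _ = 1 := h
  rw [eq_inv_of_mul_eq_one_right h3]
  exact inv_mem (mul_mem hu h2)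

theorem fact {e : G} (he : e ∈ normalizer (H : Set G)) (hee : e * e = 1) (hn : e ∉ H) :
    ∃ a ∈ H, ∃ n ∈ NZ y, n ∈ normalizer (H : Set G) ∧ e = a * n ∧ n * n = 1 ∧ n ≠ 1 := by
  obtain ⟨a, ha, x, hx, rfl⟩ := C.frat he
  have hxH : x ∈ normalizer (H : Set G) := by
    have := mul_mem (inv_mem (le_normalizer ha)) he
    rwa [inv_mul_cancel_left] at this
  have h4 : x * x = 1 := C.tri (C.sq ha hxH hee) (mul_mem hx hx)
  refine ⟨a, ha, x, hx, hxH, rfl, h4, ?_⟩
  rintro rfl
  exact hn (by simpa using ha)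

theorem ordn {n : G} (hnn : n * n = 1) (h1 : n ≠ 1) : orderOf n = 2 := by
  haveI : Fact (Nat.Prime 2) := ⟨Nat.prime_two⟩
  exact orderOf_eq_prime (by rw [pow_two, hnn]) h1

theorem inv {n : G} (hn : n ∈ NZ y) (hnn : n * n = 1) (h1 : n ≠ 1) : n * y * n⁻¹ = y⁻¹ := by
  have hni : n⁻¹ = n := inv_eq_of_mul_eq_one_right hnn
  have ha : n * y * n⁻¹ ∈ zpowers y := (mem_normalizer_iff.1 hn y).1 (mem_zpowers y)
  have hcomm : y * (n * y * n) = (n * y * n) * y := by
    rw [hni] at ha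
    obtain ⟨k, hk⟩ := mem_zpowers_iff.1 ha
    rw [← hk]
    exact (Commute.zpow_right (Commute.refl y) k).eq
  have hb : n * y * n⁻¹ * y ∈ zpowers y := mul_mem ha (mem_zpowers y)
  have hbn : (n * y * n⁻¹ * y) * n = n * (n * y * n⁻¹ * y) := by
    rw [hni]
    calc n * y * n * y * n = (n * y * n * y) * n := rfl
      _ = (y * (n * y * n)) * n := by rw [hcomm]
      _ = y * n * y * (n * n) := by group
      _ = (n * n) * y * n * y := by rw [hnn]; group
      _ = n * (n * y * n * y) := by group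
  by_cases hb1 : n * y * n⁻¹ * y = 1
  · exact eq_inv_of_mul_eq_one_left hb1
  · exfalso
    have hbo : Odd (orderOf (n * y * n⁻¹ * y)) := by
      have h2 := orderOf_dvd_of_mem_zpowers hb
      exact C.odd.of_dvd_nat h2
    exact odd_inv C.cit hb1 hbo (C.ordn hnn h1) hbn

theorem two {e f : G} (he : e ∈ normalizer (H : Set G)) (hf : f ∈ normalizer (H : Set G)) (hee : e * e = 1)
    (hff : f * f = 1) (heH : e ∉ H) (hfH : f ∉ H) (hc : e * f = f * e) : e * f ∈ H := by
  obtain ⟨a, ha, n, hn, hnH, rfl, hnn, hn1⟩ := C.fact he hee heH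
  obtain ⟨b, hb, m, hm, hmH, rfl, hmm, hm1⟩ := C.fact hf hff hfH
  have i1 := C.inv hn hnn hn1
  have i2 := C.inv hm hmm hm1
  have hcy : y * (n * m) = (n * m) * y := by
    have j1 : n * y⁻¹ * n⁻¹ = y := by
      have : n * y⁻¹ * n⁻¹ = (n * y * n⁻¹)⁻¹ := by group
      rw [this, i1, inv_inv]
    calc y * (n * m) = (n * y⁻¹ * n⁻¹) * (n * m) := by rw [j1]
      _ = n * y⁻¹ * m := by group
      _ = n * (m * y * m⁻¹) * m := by rw [i2]
      _ = (n * m) * y := by group
  have h1 : a * n * (b * m) = a * (n * b * n⁻¹) * (n * m) := by group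
  have h2 : a * (n * b * n⁻¹) ∈ H := mul_mem ha ((mem_normalizer_iff.1 hnH b).1 hb)
  have h3 : (n * m) * (n * m) ∈ H := by
    apply C.sq h2 (mul_mem hnH hmH)
    rw [← h1]
    calc (a * n * (b * m)) * (a * n * (b * m)) = (a * n * (b * m)) * ((b * m) * (a * n)) := by rw [hc]
      _ = (a * n) * ((b * m) * (b * m)) * (a * n) := by group
      _ = (a * n) * (a * n) := by rw [hff]; group
      _ = 1 := hee
  have h4 : (n * m) * (n * m) = 1 := C.tri h3 (mul_mem (mul_mem hn hm) (mul_mem hn hm))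
  by_cases hc1 : n * m = 1
  · rw [h1, hc1, mul_one]
    exact h2
  · exact (odd_inv C.cit C.y1 C.odd (C.ordn h4 hc1) hcy).elim

theorem invR {n : G} (hn : n ∈ NZ y) (hnn : n * n = 1) (h1 : n ≠ 1) {c : G} (hc : c ∈ zpowers y) : n * c * n⁻¹ = c⁻¹ := by
  obtain ⟨k, rfl⟩ := mem_zpowers_iff.1 hc
  rw [← conj_zpow, C.inv hn hnn h1, inv_zpow]

theorem comR {a b : G} (ha : a ∈ zpowers y) (hb : b ∈ zpowers y) : a * b = b * a := by
  obtain ⟨k, rfl⟩ := mem_zpowers_iff.1 ha
  obtain ⟨l, rfl⟩ := mem_zpowers_iff.1 hb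
  exact (Commute.zpow_zpow (Commute.refl y) k l).eq

theorem cent {n : G} (hn : n ∈ NZ y) (hnn : n * n = 1) (h1 : n ≠ 1) {x : G} (hx : x * y = y * x) : x ∈ zpowers y := by
  haveI : Fact (Nat.Prime 2) := ⟨Nat.prime_two⟩
  have ho := C.ordn hnn h1
  have hxN : x ∈ NZ y := by
    rw [mem_normalizer_iff]
    have key : ∀ u : G, u ∈ zpowers y → x * u * x⁻¹ = u := by
      intro u hu
      obtain ⟨k, rfl⟩ := mem_zpowers_iff.1 hu
      have : Commute x (y ^ k) := Commute.zpow_right hx k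
      rw [this.eq, mul_inv_cancel_right]
    intro u
    constructor
    · intro hu
      rw [key u hu]
      exact hu
    · intro hu
      have h3 : x * u * x⁻¹ = u := by
        have h4 := key _ hu
        have h5 : x * u * x⁻¹ = x⁻¹ * (x * (x * u * x⁻¹) * x⁻¹) * x := by group
        rw [h4] at h5
        rw [h5]
        group
      rw [h3] at hu
      exact hu
  have hnle : zpowers n ≤ NZ y := by
    rw [zpowers_le]
    exact hn
  have hn2 : IsPGroup 2 (zpowers n) := IsPGroup.of_card (n := 1) (by rw [Nat.card_zpowers, ho, pow_one])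
  have h2 := C.star.nrm r 2 (zpowers y) (zpowers n) C.pr Nat.prime_two C.r2 C.rR C.Rne hn2 hnle hxN
  have h3 : x * n * x⁻¹ ∈ zpowers y ⊔ zpowers n := (mem_normalizer_iff.1 h2 n).1 (mem_sup_right (mem_zpowers n))
  rw [sup_comm, ← SetLike.mem_coe, coe_mul_of_left_le_normalizer_right _ _ hnle] at h3
  obtain ⟨ν, hν, ρ, hρ, e⟩ := h3
  have hν' : ν = 1 ∨ ν = n := by
    obtain ⟨k, rfl⟩ := mem_zpowers_iff.1 hν
    have h2 : n ^ (2 : ℤ) = 1 := by
      rw [show (2 : ℤ) = ((2 : ℕ) : ℤ) from rfl, zpow_natCast, pow_two, hnn]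
    rcases Int.even_or_odd' k with ⟨m, rfl | rfl⟩
    · left
      rw [zpow_mul, h2, one_zpow]
    · right
      rw [zpow_add, zpow_mul, zpow_one, h2, one_zpow, one_mul]
  have e' : ν * ρ = x * n * x⁻¹ := e
  have hox : orderOf (x * n * x⁻¹) = 2 := by
    apply C.ordn
    · calc (x * n * x⁻¹) * (x * n * x⁻¹) = x * (n * n) * x⁻¹ := by group
        _ = 1 := by rw [hnn]; group
    · intro h
      apply h1
      have : n = x⁻¹ * (x * n * x⁻¹) * x := by group
      rw [this, h]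
      group
  rcases hν' with rfl | rfl
  · exfalso
    rw [one_mul] at e'
    rw [← e'] at hox
    have h4 := orderOf_dvd_of_mem_zpowers hρ
    rw [hox] at h4
    exact (Nat.not_even_iff_odd.2 C.odd) (even_iff_two_dvd.2 h4)
  · -- `x ν x⁻¹ = ν ρ`, `ρ = c * c`
    set c : G := ρ ^ ((orderOf y + 1) / 2) with hc
    have hcm : c ∈ zpowers y := pow_mem hρ _
    have hcc : c * c = ρ := by
      have h5 : (orderOf y + 1) / 2 + (orderOf y + 1) / 2 = orderOf y + 1 := by
        obtain ⟨m, hm⟩ := C.odd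
        omega
      rw [hc, ← pow_add, h5, pow_succ]
      have h6 : ρ ^ orderOf y = 1 := by
        obtain ⟨k, rfl⟩ := mem_zpowers_iff.1 hρ
        rw [← zpow_natCast, ← zpow_mul, mul_comm, zpow_mul, zpow_natCast, pow_orderOf_eq_one, one_zpow]
      rw [h6, one_mul]
    have h7 : ν * c * ν⁻¹ = c⁻¹ := C.invR hn hnn h1 hcm
    -- `c⁻¹ ν c = ν c c = x ν x⁻¹`
    have h8 : c⁻¹ * ν * c = x * ν * x⁻¹ := by
      rw [← e', ← hcc, ← h7]
      group
    have h9 : (c * x) * ν = ν * (c * x) := by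
      have : x * ν = c⁻¹ * ν * c * x := by rw [h8]; group
      calc (c * x) * ν = c * (x * ν) := by group
        _ = c * (c⁻¹ * ν * c * x) := by rw [this]
        _ = ν * (c * x) := by group
    have h10 : c * x ∈ centralizer ({ν} : Set G) := by
      rw [mem_centralizer_singleton_iff]
      first | exact h9 | exact h9.symm
    have h11 : y * (c * x) = (c * x) * y := by
      rw [← mul_assoc, C.comR (mem_zpowers y) hcm, mul_assoc, ← hx, mul_assoc]
    have h12 := C.fpf (C.cit ν ho) h10 h11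
    rw [eq_inv_of_mul_eq_one_right h12]
    exact inv_mem hcm

theorem norm_le (hr : r = 3) {n : G} (hn : n ∈ NZ y) (hnH : n ∈ normalizer (H : Set G)) (hnn : n * n = 1) (h1 : n ≠ 1) :
    NZ y ≤ normalizer (H : Set G) := by
  intro x hx
  have h3 : y ^ (3 : ℤ) = 1 := by
    rw [show (3 : ℤ) = ((3 : ℕ) : ℤ) from rfl, zpow_natCast, ← hr, ← C.ord, pow_orderOf_eq_one]
  have h2 : x * y * x⁻¹ ∈ zpowers y := (mem_normalizer_iff.1 hx y).1 (mem_zpowers y)
  obtain ⟨k, hk⟩ := mem_zpowers_iff.1 h2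
  have hk3 : y ^ k = y ^ (k % 3) := by
    conv_lhs => rw [← Int.emod_add_mul_ediv k 3]
    rw [zpow_add, zpow_mul, h3, one_zpow, mul_one]
  have hcase : k % 3 = 0 ∨ k % 3 = 1 ∨ k % 3 = 2 := by omega
  rw [hk3] at hk
  rcases hcase with h | h | h
  · exfalso
    rw [h, zpow_zero] at hk
    apply C.y1
    have : y = x⁻¹ * (x * y * x⁻¹) * x := by group
    rw [this, ← hk]
    group
  · rw [h, zpow_one] at hk
    have h4 : x * y = y * x := mul_inv_eq_iff_eq_mul.1 hk.symm
    exact C.Rle (C.cent hn hnn h1 h4)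
  · rw [h] at hk
    have h5 : y ^ (2 : ℤ) = y⁻¹ := by
      have : y ^ (2 : ℤ) = y ^ (3 : ℤ) * y⁻¹ := by group
      rw [this, h3, one_mul]
    rw [h5] at hk
    have i1 := C.inv hn hnn h1
    have h6 : (x * n) * y = y * (x * n) := by
      calc (x * n) * y = x * (n * y * n⁻¹) * n := by group
        _ = (x * y * x⁻¹)⁻¹ * (x * n) := by rw [i1]; group
        _ = y * (x * n) := by rw [← hk, inv_inv]
    have h7 := C.Rle (C.cent hn hnn h1 h6)
    have h8 := mul_mem h7 (inv_mem hnH)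
    rwa [mul_inv_cancel_right] at h8

end Ctx

/-- the central elements of order at most two -/
def VV (H : Subgroup G) : Subgroup G where
  carrier := {v | v ∈ H ∧ (∀ a ∈ H, a * v = v * a) ∧ v * v = 1}
  mul_mem' := by
    rintro v w ⟨h1, h2, h3⟩ ⟨h4, h5, h6⟩
    refine ⟨mul_mem h1 h4, fun a ha => ?_, ?_⟩
    · rw [← mul_assoc, h2 a ha, mul_assoc, h5 a ha, mul_assoc]
    · calc v * w * (v * w) = v * (w * v) * w := by group
        _ = v * (v * w) * w := by rw [h2 w h4]
        _ = (v * v) * (w * w) := by group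
        _ = 1 := by rw [h3, h6, one_mul]
  one_mem' := ⟨one_mem _, fun a _ => by simp, one_mul 1⟩
  inv_mem' := by
    rintro v ⟨h1, h2, h3⟩
    have e : v⁻¹ = v := inv_eq_of_mul_eq_one_right h3
    rw [e]
    exact ⟨h1, h2, h3⟩

theorem VV_inv [Finite G] {P : Subgroup G} (hP : IsPGroup 2 P) (hne : P ≠ ⊥) : ∃ v ∈ VV P, orderOf v = 2 := by
  haveI : Fact (Nat.Prime 2) := ⟨Nat.prime_two⟩
  haveI : Nontrivial P := (Subgroup.nontrivial_iff_ne_bot P).2 hne
  have hc : Nontrivial (center P) := hP.center_nontrivial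
  obtain ⟨z0, hz0, hz1⟩ := (Subgroup.nontrivial_iff_exists_ne_one (center P)).1 hc
  have hz1' : (z0 : G) ≠ 1 := fun h => hz1 (Subtype.ext h)
  obtain ⟨k, hk⟩ := exists_inv hP z0.2 hz1'
  refine ⟨(z0 : G) ^ k, ⟨pow_mem z0.2 k, ?_, ?_⟩, hk⟩
  · intro x hx
    have h2 := mem_center_iff.1 hz0 ⟨x, hx⟩
    have h3 : Commute x (z0 : G) := congrArg Subtype.val h2
    exact (h3.pow_right k).eq
  · have := pow_orderOf_eq_one ((z0 : G) ^ k)
    rwa [hk, pow_two] at this

theorem VV_norm {H : Subgroup G} {y v : G} (hy : y ∈ normalizer (H : Set G)) (hv : v ∈ VV H) : y * v * y⁻¹ ∈ VV H := by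
  obtain ⟨h1, h2, h3⟩ := hv
  refine ⟨(mem_normalizer_iff.1 hy v).1 h1, ?_, ?_⟩
  · intro a ha
    have h4 : y⁻¹ * a * (y⁻¹)⁻¹ ∈ H := (mem_normalizer_iff.1 (inv_mem hy) a).1 ha
    have h5 := h2 _ h4
    calc a * (y * v * y⁻¹) = y * ((y⁻¹ * a * (y⁻¹)⁻¹) * v) * y⁻¹ := by group
      _ = y * (v * (y⁻¹ * a * (y⁻¹)⁻¹)) * y⁻¹ := by rw [h5]
      _ = y * v * y⁻¹ * a := by group
  · calc y * v * y⁻¹ * (y * v * y⁻¹) = y * (v * v) * y⁻¹ := by group
      _ = 1 := by rw [h3]; group

theorem syl_top [Finite G] {S M : Subgroup G} (hS : IsSyl 2 S M) (hN : normalizer (S : Set G) ≤ M) : IsSyl 2 S ⊤ := by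
  haveI : Fact (Nat.Prime 2) := ⟨Nat.prime_two⟩
  obtain ⟨Q, hSQ, hQ⟩ := exists_isSyl_ge hS.2.1 (le_top (a := S))
  by_cases h : S = Q
  · rw [h]
    exact hQ
  · exfalso
    have hlt : S.subgroupOf Q ≠ ⊤ := by
      intro h2
      rw [subgroupOf_eq_top] at h2
      exact h (le_antisymm hSQ h2)
    haveI : Group.IsNilpotent Q := hQ.2.1.isNilpotent
    have h3 := Group.normalizerCondition_of_isNilpotent (G := Q) (S.subgroupOf Q) (lt_top_iff_ne_top.2 hlt)
    obtain ⟨x, hx, hx'⟩ := SetLike.exists_of_lt h3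
    have hxN : (x : G) ∈ normalizer (S : Set G) := by
      rw [mem_normalizer_iff]
      intro u
      constructor
      · intro hu
        have h4 := (mem_normalizer_iff.1 hx ⟨u, hSQ hu⟩).1 (by rw [mem_subgroupOf]; exact hu)
        rw [mem_subgroupOf] at h4
        exact h4
      · intro hu
        have huQ : u ∈ Q := by
          have h5 := mul_mem (mul_mem (inv_mem x.2) (hSQ hu)) x.2
          have e : (x : G)⁻¹ * (x * u * (x : G)⁻¹) * x = u := by group
          rwa [e] at h5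
        have h4 := (mem_normalizer_iff.1 hx ⟨u, huQ⟩).2 (by rw [mem_subgroupOf]; exact hu)
        rw [mem_subgroupOf] at h4
        exact h4
    have hT : S = Q ⊓ normalizer (S : Set G) :=
      hS.eq_of_le (hQ.2.1.to_le inf_le_left) (inf_le_right.trans hN) (le_inf hSQ le_normalizer)
    apply hx'
    rw [mem_subgroupOf, hT]
    exact ⟨x.2, hxN⟩

namespace Ctx

variable [Finite G] {H : Subgroup G} {y : G} {r : ℕ} (C : Ctx H y r)
include C

theorem r3 (hV : Nat.card (VV H) ≤ 4) : r = 3 := by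
  obtain ⟨v, hv, hvo⟩ := VV_inv C.hH C.ne
  have hpow : ∀ i : ℕ, y ^ i * v * (y ^ i)⁻¹ ∈ VV H := fun i => VV_norm (pow_mem C.mem i) hv
  let f : Option (Fin r) → VV H := fun o => match o with
    | none => 1
    | some i => ⟨y ^ (i : ℕ) * v * (y ^ (i : ℕ))⁻¹, hpow i⟩
  have hf : Function.Injective f := by
    have hne1 : ∀ i : ℕ, y ^ i * v * (y ^ i)⁻¹ ≠ 1 := by
      intro i h
      have h1 : v = 1 := by
        have e : v = (y ^ i)⁻¹ * (y ^ i * v * (y ^ i)⁻¹) * y ^ i := by group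
        rw [e, h]
        group
      rw [h1, orderOf_one] at hvo
      exact absurd hvo (by norm_num)
    have key : ∀ i j : ℕ, i < j → j < r → y ^ i * v * (y ^ i)⁻¹ = y ^ j * v * (y ^ j)⁻¹ → False := by
      intro i j hij hj h
      have h1 : y ^ (j - i) * v = v * y ^ (j - i) := by
        have e : y ^ j = y ^ i * y ^ (j - i) := by
          rw [← pow_add]
          congr 1
          omega
        rw [e] at h
        have h2 : v = y ^ (j - i) * v * (y ^ (j - i))⁻¹ := by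
          calc v = (y ^ i)⁻¹ * (y ^ i * v * (y ^ i)⁻¹) * y ^ i := by group
            _ = (y ^ i)⁻¹ * (y ^ i * y ^ (j - i) * v * (y ^ i * y ^ (j - i))⁻¹) * y ^ i := by rw [h]
            _ = y ^ (j - i) * v * (y ^ (j - i))⁻¹ := by
              generalize y ^ i = a
              generalize y ^ (j - i) = b
              group
        exact (mul_inv_eq_iff_eq_mul.1 h2.symm)
      have h2 : y ^ (j - i) ≠ 1 := by
        intro h3
        have h4 := orderOf_dvd_of_pow_eq_one h3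
        rw [C.ord] at h4
        have h5 := Nat.le_of_dvd (by omega) h4
        omega
      have h3 : Odd (orderOf (y ^ (j - i))) := C.odd.of_dvd_nat (orderOf_pow_dvd _)
      exact odd_inv C.cit h2 h3 hvo h1
    intro a b hab
    rcases a with _ | ⟨i, hi⟩ <;> rcases b with _ | ⟨j, hj⟩
    · rfl
    · exact (hne1 j (congrArg Subtype.val hab).symm).elim
    · exact (hne1 i (congrArg Subtype.val hab)).elim
    · have h1 : y ^ i * v * (y ^ i)⁻¹ = y ^ j * v * (y ^ j)⁻¹ := congrArg Subtype.val hab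
      rcases lt_trichotomy i j with h | h | h
      · exact (key i j h hj h1).elim
      · subst h
        rfl
      · exact (key j i h hi h1.symm).elim
  have h1 := Nat.card_le_card_of_injective f hf
  have h2 : Nat.card (Option (Fin r)) = r + 1 := by
    rw [Nat.card_eq_fintype_card, Fintype.card_option, Fintype.card_fin]
  have h3 := C.pr.two_le
  have h4 := C.r2
  omega

theorem exists_E : ∃ E : Subgroup G, E ≤ normalizer (H : Set G) ∧ (∀ a ∈ E, a * a = 1) ∧ (∃ e ∈ E, e ∉ H) ∧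
    ∀ A : Subgroup G, A ≤ H → (∀ a ∈ A, a * a = 1) → Nat.card A ≤ Nat.card E := by
  haveI : Fact (Nat.Prime 2) := ⟨Nat.prime_two⟩
  obtain ⟨S, hHS, hS⟩ := exists_isSyl_ge C.hH (le_normalizer (H := H))
  by_contra hcon
  have hall : ∀ E : Subgroup G, E ≤ S → (∀ a ∈ E, a * a = 1) →
      (∀ A : Subgroup G, A ≤ S → (∀ a ∈ A, a * a = 1) → Nat.card A ≤ Nat.card E) → E ≤ H := by
    intro E hE h2 h3
    by_contra h4
    obtain ⟨e, he, heH⟩ := SetLike.not_le_iff_exists.1 h4
    exact hcon ⟨E, hE.trans hS.1, h2, ⟨e, he, heH⟩, fun A hA h5 => h3 A (hA.trans hHS) h5⟩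
  let X : Set G := {x | ∃ E : Subgroup G, E ≤ S ∧ (∀ a ∈ E, a * a = 1) ∧
    (∀ A : Subgroup G, A ≤ S → (∀ a ∈ A, a * a = 1) → Nat.card A ≤ Nat.card E) ∧ x ∈ E}
  have hXH : X ⊆ (H : Set G) := by
    rintro x ⟨E, h1, h2, h3, h4⟩
    exact hall E h1 h2 h3 h4
  have hJH : closure X ≤ H := (closure_le _).2 hXH
  have hJ2 : IsPGroup 2 (closure X) := C.hH.to_le hJH
  obtain ⟨t, htV, ht⟩ := VV_inv C.hH C.ne
  have htt : t * t = 1 := htV.2.2
  have htH : t ∈ H := htV.1
  obtain ⟨E0, ⟨hE1, hE2⟩, hE3⟩ := Set.exists_max_image {E : Subgroup G | E ≤ S ∧ ∀ a ∈ E, a * a = 1}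
    (fun E => Nat.card E) (Set.toFinite _) ⟨⊥, bot_le, by
      intro a ha
      rw [mem_bot.1 ha, one_mul]⟩
  have hJne : closure X ≠ ⊥ := by
    intro hbot
    have h4 : E0 ≤ closure X := fun x hx => subset_closure ⟨E0, hE1, hE2, fun A hA h5 => hE3 A ⟨hA, h5⟩, hx⟩
    rw [hbot, le_bot_iff] at h4
    have h5 : Nat.card (zpowers t) ≤ Nat.card E0 := hE3 (zpowers t) ⟨by
      rw [zpowers_le]
      exact hHS htH, by
      intro a ha
      obtain ⟨k, rfl⟩ := mem_zpowers_iff.1 ha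
      rw [← (Commute.refl t).mul_zpow, htt, one_zpow]⟩
    rw [h4, Nat.card_zpowers, ht] at h5
    simp at h5
  have hnorm : ∀ K : Subgroup G, (∀ g ∈ K, ∀ x ∈ X, g * x * g⁻¹ ∈ X) → K ≤ normalizer ((closure X : Subgroup G) : Set G) := by
    intro K hK g hg
    rw [mem_normalizer_iff_map]
    apply Subgroup.eq_of_le_of_card_ge
    · rw [MonoidHom.map_closure, closure_le]
      rintro _ ⟨x, hx, rfl⟩
      exact subset_closure (hK g hg x hx)
    · rw [card_conj]
  have hconj : ∀ g : G, ∀ E : Subgroup G, (∀ a ∈ E, a * a = 1) →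
      (∀ A : Subgroup G, A ≤ S → (∀ a ∈ A, a * a = 1) → Nat.card A ≤ Nat.card E) →
      E.map (MulAut.conj g).toMonoidHom ≤ S → ∀ x ∈ E, g * x * g⁻¹ ∈ X := by
    intro g E h2 h3 h4 x hx
    refine ⟨E.map (MulAut.conj g).toMonoidHom, h4, ?_, ?_, ⟨x, hx, rfl⟩⟩
    · rintro _ ⟨a, ha, rfl⟩
      show g * a * g⁻¹ * (g * a * g⁻¹) = 1
      calc g * a * g⁻¹ * (g * a * g⁻¹) = g * (a * a) * g⁻¹ := by group
        _ = 1 := by rw [h2 a ha]; group
    · intro A hA h5
      rw [card_conj]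
      exact h3 A hA h5
  have hM1 : normalizer (H : Set G) ≤ normalizer ((closure X : Subgroup G) : Set G) := by
    apply hnorm
    rintro g hg x ⟨E, h1, h2, h3, h4⟩
    apply hconj g E h2 h3 _ x h4
    rintro _ ⟨a, ha, rfl⟩
    exact hHS ((mem_normalizer_iff.1 hg a).1 (hall E h1 h2 h3 ha))
  have hN1 : normalizer (S : Set G) ≤ normalizer ((closure X : Subgroup G) : Set G) := by
    apply hnorm
    rintro g hg x ⟨E, h1, h2, h3, h4⟩
    apply hconj g E h2 h3 _ x h4
    rintro _ ⟨a, ha, rfl⟩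
    exact (mem_normalizer_iff.1 hg a).1 (h1 ha)
  have hJc := C.star.max 2 (closure X) Nat.prime_two hJ2 hJne
  have hMc := C.star.max 2 H Nat.prime_two C.hH C.ne
  have hM : normalizer ((closure X : Subgroup G) : Set G) = normalizer (H : Set G) := by
    rcases hMc.le_iff.1 hM1 with h | h
    · exact (hJc.1 h).elim
    · exact h
  rw [hM] at hN1
  have hStop := syl_top hS hN1
  have hSne : S ≠ ⊥ := by
    intro h
    rw [h, le_bot_iff] at hHS
    exact C.ne hHS
  have hSc := coatom_syl C.star C.cit hStop hSne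
  rcases hSc.le_iff.1 hS.1 with h | h
  · exact hMc.1 h
  · have hyS : y ∈ S := by
      rw [← h]
      exact C.mem
    exact C.y1 (C.fpf hS.2.1 hyS rfl)

theorem card_V {E : Subgroup G} (hE : E ≤ normalizer (H : Set G)) (hE2 : ∀ a ∈ E, a * a = 1)
    (hmax : ∀ A : Subgroup G, A ≤ H → (∀ a ∈ A, a * a = 1) → Nat.card A ≤ Nat.card E)
    {a n : G} (he : a * n ∈ E) (heH : a * n ∉ H) (ha : a ∈ H) (hn : n ∈ NZ y) (hnn : n * n = 1) (hn1 : n ≠ 1) :
    Nat.card (VV H) ≤ 4 := by
  have hcomm : ∀ b ∈ E, ∀ c ∈ E, b * c = c * b := by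
    intro b hb c hc
    have h1 : (b * c)⁻¹ = b * c := inv_eq_of_mul_eq_one_right (hE2 _ (mul_mem hb hc))
    have h2 : b⁻¹ = b := inv_eq_of_mul_eq_one_right (hE2 b hb)
    have h3 : c⁻¹ = c := inv_eq_of_mul_eq_one_right (hE2 c hc)
    rw [← h1, mul_inv_rev, h2, h3]
  have hidx : H.relIndex E = 2 := by
    rw [relIndex_eq_two_iff]
    refine ⟨a * n, he, fun b hb => ?_⟩
    by_cases hbH : b ∈ H
    · refine Or.inr ⟨hbH, fun h => heH ?_⟩
      have := mul_mem (inv_mem hbH) h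
      rwa [inv_mul_cancel_left] at this
    · exact Or.inl ⟨C.two (hE hb) (hE he) (hE2 b hb) (hE2 _ he) hbH heH (hcomm b hb _ he), hbH⟩
  have hA0 : (E ⊓ H).relIndex E = 2 := by
    rw [inf_relIndex_left]
    exact hidx
  have hcardE : Nat.card (E ⊓ H : Subgroup G) * 2 = Nat.card E := by
    have := relIndex_mul_relIndex (⊥ : Subgroup G) (E ⊓ H) E bot_le inf_le_left
    rwa [relIndex_bot_left, relIndex_bot_left, hA0] at this
  have hA0V : E ⊓ H ≤ normalizer (VV H : Set G) := by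
    intro b hb
    have hbN : b ∈ normalizer (H : Set G) := le_normalizer hb.2
    rw [mem_normalizer_iff]
    intro v
    constructor
    · intro hv
      exact VV_norm hbN hv
    · intro hv
      have h1 := VV_norm (inv_mem hbN) hv
      have e : b⁻¹ * (b * v * b⁻¹) * (b⁻¹)⁻¹ = v := by group
      rwa [e] at h1
  have hWH : (E ⊓ H) ⊔ VV H ≤ H := sup_le inf_le_right (fun v hv => hv.1)
  have hW2 : ∀ w ∈ (E ⊓ H) ⊔ VV H, w * w = 1 := by
    intro w hw
    rw [← SetLike.mem_coe, coe_mul_of_left_le_normalizer_right _ _ hA0V] at hw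
    obtain ⟨b, hb, v, hv, rfl⟩ := hw
    show b * v * (b * v) = 1
    have h1 : b * v = v * b := hv.2.1 b hb.2
    calc b * v * (b * v) = b * (v * b) * v := by group
      _ = b * (b * v) * v := by rw [h1]
      _ = (b * b) * (v * v) := by group
      _ = 1 := by rw [hE2 b hb.1, hv.2.2, one_mul]
  have hWcard := hmax _ hWH hW2
  have hW' : Nat.card (E ⊓ H : Subgroup G) * (E ⊓ H).relIndex ((E ⊓ H) ⊔ VV H) = Nat.card ((E ⊓ H) ⊔ VV H : Subgroup G) := by
    have := relIndex_mul_relIndex (⊥ : Subgroup G) (E ⊓ H) ((E ⊓ H) ⊔ VV H) bot_le le_sup_left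
    rwa [relIndex_bot_left, relIndex_bot_left] at this
  have hle2 : (E ⊓ H).relIndex ((E ⊓ H) ⊔ VV H) ≤ 2 := by
    have h1 : Nat.card (E ⊓ H : Subgroup G) * (E ⊓ H).relIndex ((E ⊓ H) ⊔ VV H) ≤ Nat.card (E ⊓ H : Subgroup G) * 2 := by
      rw [hW', hcardE]
      exact hWcard
    exact Nat.le_of_mul_le_mul_left h1 Nat.card_pos
  have hne : ∀ K L : Subgroup G, K.relIndex L ≠ 0 := fun K L => index_ne_zero_of_finite
  have h3 : (E ⊓ H).relIndex (VV H) ≤ 2 := (relIndex_le_of_le_right le_sup_right (hne _ _)).trans hle2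
  have h4 : E ⊓ H ≤ centralizer ({a * n} : Set G) := by
    intro b hb
    rw [mem_centralizer_singleton_iff]
    first | exact hcomm b hb.1 _ he | exact (hcomm b hb.1 _ he).symm
  have h5 : (centralizer ({a * n} : Set G)).relIndex (VV H) ≤ 2 := (relIndex_le_of_le_left h4 (hne _ _)).trans h3
  have hmc : ∀ u v : G, v ∈ centralizer ({u} : Set G) ↔ v * u = u * v := by
    intro u v
    rw [mem_centralizer_singleton_iff]
  have h6 : (centralizer ({n} : Set G)).relIndex (VV H) ≤ 2 := by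
    rw [← inf_relIndex_right] at h5 ⊢
    have e : centralizer ({n} : Set G) ⊓ VV H = centralizer ({a * n} : Set G) ⊓ VV H := by
      ext v
      rw [mem_inf, mem_inf, hmc, hmc]
      constructor
      · rintro ⟨h7, h8⟩
        refine ⟨?_, h8⟩
        rw [← mul_assoc, ← h8.2.1 a ha, mul_assoc, h7, mul_assoc]
      · rintro ⟨h7, h8⟩
        refine ⟨?_, h8⟩
        rw [← mul_assoc, ← h8.2.1 a ha, mul_assoc, mul_assoc] at h7
        exact mul_left_cancel h7
    rw [e]
    exact h5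
  have h7 : (centralizer ({y⁻¹ * n * y} : Set G)).relIndex (VV H) ≤ 2 := by
    have h8 : (centralizer ({n} : Set G)).map (MulAut.conj y⁻¹).toMonoidHom = centralizer ({y⁻¹ * n * y} : Set G) := by
      ext u
      rw [mem_conj_iff, hmc, hmc]
      constructor
      · intro h9
        calc u * (y⁻¹ * n * y) = y⁻¹ * (((y⁻¹)⁻¹ * u * y⁻¹) * n) * y := by group
          _ = y⁻¹ * (n * ((y⁻¹)⁻¹ * u * y⁻¹)) * y := by rw [h9]
          _ = y⁻¹ * n * y * u := by group
      · intro h9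
        calc ((y⁻¹)⁻¹ * u * y⁻¹) * n = y * (u * (y⁻¹ * n * y)) * y⁻¹ := by group
          _ = y * (y⁻¹ * n * y * u) * y⁻¹ := by rw [h9]
          _ = n * ((y⁻¹)⁻¹ * u * y⁻¹) := by group
    have h9 : (VV H).map (MulAut.conj y⁻¹).toMonoidHom = VV H := by
      apply Subgroup.eq_of_le_of_card_ge
      · rintro _ ⟨v, hv, rfl⟩
        exact VV_norm (inv_mem C.mem) hv
      · rw [card_conj]
    have h10 := relIndex_map_map_of_injective (f := (MulAut.conj y⁻¹).toMonoidHom) (centralizer ({n} : Set G)) (VV H)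
      (MulAut.conj y⁻¹).injective
    rw [h8, h9] at h10
    rw [h10]
    exact h6
  have h10 : (centralizer ({n} : Set G) ⊓ centralizer ({y⁻¹ * n * y} : Set G)).relIndex (VV H) ≤ 4 :=
    relIndex_inf_le.trans (Nat.mul_le_mul h6 h7)
  rw [← inf_relIndex_right] at h10
  have h11 : (centralizer ({n} : Set G) ⊓ centralizer ({y⁻¹ * n * y} : Set G)) ⊓ VV H = ⊥ := by
    rw [eq_bot_iff]
    intro v hv
    rw [mem_inf, mem_inf, hmc, hmc] at hv
    obtain ⟨⟨hv1, hv2⟩, hv3⟩ := hv
    rw [mem_bot]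
    have i1 := C.inv hn hnn hn1
    have e : n * (y⁻¹ * n * y) = y ^ 2 := by
      have j1 : n * y⁻¹ * n⁻¹ = y := by
        have : n * y⁻¹ * n⁻¹ = (n * y * n⁻¹)⁻¹ := by group
        rw [this, i1, inv_inv]
      calc n * (y⁻¹ * n * y) = (n * y⁻¹ * n⁻¹) * (n * n) * y := by group
        _ = y ^ 2 := by rw [j1, hnn, mul_one, pow_two]
    have hc2 : Commute v (y ^ 2) := by
      rw [← e]
      exact Commute.mul_right hv1 hv2
    have hc3 : Commute v y := by
      have h12 : (y ^ 2) ^ ((orderOf y + 1) / 2) = y := by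
        rw [← pow_mul]
        have h13 : 2 * ((orderOf y + 1) / 2) = orderOf y + 1 := by
          obtain ⟨m, hm⟩ := C.odd
          omega
        rw [h13, pow_succ, pow_orderOf_eq_one, one_mul]
      have h14 := hc2.pow_right ((orderOf y + 1) / 2)
      rwa [h12] at h14
    exact C.fpf C.hH hv3.1 hc3.eq.symm
  rw [h11, relIndex_bot_left] at h10
  exact h10

theorem false : False := by
  obtain ⟨E, hE, hE2, ⟨e, he, heH⟩, hmax⟩ := C.exists_E
  obtain ⟨a, ha, n, hn, hnH, rfl, hnn, hn1⟩ := C.fact (hE he) (hE2 _ he) heH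
  have hr := C.r3 (C.card_V hE hE2 hmax he heH ha hn hnn hn1)
  have h1 := C.norm_le hr hn hnH hnn hn1
  have h2 := C.star.max r (zpowers y) C.pr C.rR C.Rne
  have h3 := C.star.max 2 H Nat.prime_two C.hH C.ne
  rcases h2.le_iff.1 h1 with h | h
  · exact h3.1 h
  · apply C.ne
    rw [eq_bot_iff]
    intro x hx
    rw [mem_bot]
    apply C.tri hx
    have h4 : x ∈ normalizer (H : Set G) := le_normalizer hx
    rw [h] at h4
    exact h4

end Ctx

/-- **Piece A1.** -/
theorem caseA1 {G : Type*} [Group G] [Finite G] (h : Star68.Star G) (hns : ¬ Group.IsSolvable G)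
    (hcit : ∀ t : G, orderOf t = 2 → IsPGroup 2 (Subgroup.centralizer ({t} : Set G))) : False := by
  haveI : Fact (Nat.Prime 2) := ⟨Nat.prime_two⟩
  apply hns
  by_cases hl : ∀ D : Subgroup G, IsPGroup 2 D → D ≠ ⊥ →
      ∀ g ∈ normalizer (D : Set G), Nat.Coprime (orderOf g) 2 → g ∈ centralizer (D : Set G)
  · obtain ⟨P, N, hN, hc⟩ := Cfsg.Agent.Lib.Transfer.hasNormalPComplement_of_local hl
    have hNo : Odd (Nat.card N) := by
      rw [← Nat.not_even_iff_odd, even_iff_two_dvd, ← hc.index_eq_card]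
      exact P.not_dvd_index
    have hNs : Group.IsSolvable N := Cfsg.Agent.Lib.PF14Odd.odd_order hNo
    have hq : IsPGroup 2 (G ⧸ N) := by
      obtain ⟨k, hk⟩ := IsPGroup.iff_card.1 P.2
      apply IsPGroup.of_card (n := k)
      rw [← hk]
      exact hc.symm.index_eq_card
    have := hq.isNilpotent
    have hQs : Group.IsSolvable (G ⧸ N) := inferInstance
    exact Group.isSolvable_of_ker_le_range N.subtype (QuotientGroup.mk' N) (by simp)
  · exfalso
    push Not at hl
    obtain ⟨D, hD, hDne, g, hg, hgo, hgc⟩ := hl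
    have hg1 : g ≠ 1 := by
      rintro rfl
      exact hgc (one_mem _)
    have hgo1 : orderOf g ≠ 1 := fun h1 => hg1 (orderOf_eq_one_iff.1 h1)
    obtain ⟨r, hr, hrd⟩ := Nat.exists_prime_and_dvd hgo1
    have hr2 : r ≠ 2 := by
      rintro rfl
      have := Nat.Coprime.eq_one_of_dvd hgo.symm hrd
      omega
    have C : Ctx D (g ^ (orderOf g / r)) r :=
      ⟨h, hcit, hD, hDne, hr, hr2, orderOf_pow_orderOf_div (orderOf_pos g).ne' hrd, pow_mem hg _⟩
    exact C.false

end Cfsg.Agent.Lib.StarA1h30
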