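import Cfsg.Agent.Lib.FusionRealized
import Cfsg.Agent.Lib.FusionSemi

/-!
# Supersoluble fusion systems: a negative criterion (helper21)
-/

set_option autoImplicit false

namespace Cfsg.Agent.Lib.SuperFus

open Cfsg Cfsg.FusionSystem Cfsg.Agent.Lib.FusionBasic Cfsg.Agent.Lib.FusionSat Cfsg.Agent.Lib.FusionNormal
  Cfsg.Agent.Lib.FusionAlperin Cfsg.Agent.Lib.FusionGroup Cfsg.Agent.Lib.FusionRealized

variable {Ω : Type*} [Group Ω] {S : Subgroup Ω} {F : FusionSystem S} {p : ℕ}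

/-- `S` has a chain of strongly closed subgroups with cyclic steps -/
def Super (F : FusionSystem S) : Prop :=
  ∃ (m : ℕ) (c : Fin (m + 1) → Subgroup Ω), c 0 = ⊥ ∧ c (Fin.last m) = S ∧
    (∀ i : Fin (m + 1), F.StronglyClosed (c i)) ∧
    ∀ i : Fin m, c i.castSucc ≤ c i.succ ∧ ∃ x ∈ S, c i.succ = c i.castSucc ⊔ Subgroup.zpowers x

theorem cyc_aux {T W : Subgroup Ω} {x : Ω} (hx : x ∈ Subgroup.normalizer (T : Set Ω))
    (hW : W ≤ T ⊔ Subgroup.zpowers x) : ∃ w ∈ W, ∀ v ∈ W, ∃ k : ℤ, (w ^ k)⁻¹ * v ∈ T := by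
  obtain ⟨N, hN⟩ : ∃ N, N = T ⊔ Subgroup.zpowers x := ⟨_, rfl⟩
  rw [← hN] at hW
  have hTN : T ≤ N := by rw [hN]; exact le_sup_left
  have hxN : x ∈ N := by rw [hN]; exact Subgroup.mem_sup_right (Subgroup.mem_zpowers x)
  have hNn : N ≤ Subgroup.normalizer (T : Set Ω) := by
    rw [hN]; exact sup_le Subgroup.le_normalizer (by rw [Subgroup.zpowers_le]; exact hx)
  have hTn : (T.subgroupOf N).Normal := Subgroup.normal_subgroupOf_of_le_normalizer hNn
  have hcyc : IsCyclic (N ⧸ T.subgroupOf N) := by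
    refine ⟨QuotientGroup.mk ⟨x, hxN⟩, fun y => ?_⟩
    obtain ⟨⟨y, hy⟩, rfl⟩ := QuotientGroup.mk_surjective y
    have hy' : y ∈ Subgroup.zpowers x ⊔ T := by rw [sup_comm, ← hN]; exact hy
    obtain ⟨_, ⟨k, rfl⟩, z, hz, hyz⟩ := (mem_sup_of_normalizes (by rw [Subgroup.zpowers_le]; exact hx)).1 hy'
    refine ⟨k, ?_⟩
    show (QuotientGroup.mk (⟨x, hxN⟩ : N) : N ⧸ T.subgroupOf N) ^ k = _
    rw [← QuotientGroup.mk_zpow, QuotientGroup.eq, Subgroup.mem_subgroupOf]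
    have h1 : ((((⟨x, hxN⟩ : N) ^ k)⁻¹ * ⟨y, hy⟩ : N) : Ω) = (x ^ k)⁻¹ * y := rfl
    rw [h1, ← hyz]
    simpa using hz
  let W1 := (W.subgroupOf N).map (QuotientGroup.mk' (T.subgroupOf N))
  have hW1 : IsCyclic W1 := inferInstance
  obtain ⟨⟨g, w, hw, hwg⟩, hg⟩ := hW1.exists_generator
  refine ⟨w, Subgroup.mem_subgroupOf.1 hw, fun v hv => ?_⟩
  obtain ⟨k, hk⟩ := hg ⟨QuotientGroup.mk' _ ⟨v, hW hv⟩, ⟨_, Subgroup.mem_subgroupOf.2 hv, rfl⟩⟩
  refine ⟨k, ?_⟩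
  have h2 : g ^ k = QuotientGroup.mk' (T.subgroupOf N) ⟨v, hW hv⟩ := congrArg Subtype.val hk
  rw [← hwg, ← map_zpow, QuotientGroup.mk'_apply, QuotientGroup.mk'_apply, QuotientGroup.eq,
    Subgroup.mem_subgroupOf] at h2
  exact h2

theorem not_super [Finite S] (Z W : Subgroup Ω) (hWS : W ≤ S)
    (hcyc : ∀ w ∈ W, ¬ W ≤ Z ⊔ Subgroup.zpowers w)
    (hTW : ∀ T : Subgroup Ω, F.StronglyClosed T → T ⊓ W ≤ Z ∨ W ≤ T) : ¬ Super F := by
  rintro ⟨m, c, h0, hl, hsc, hst⟩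
  have key : ∀ i : Fin (m + 1), c i ⊓ W ≤ Z := by
    intro i
    induction i using Fin.induction with
    | zero => rw [h0, bot_inf_eq]; exact bot_le
    | succ i ih =>
      rcases hTW _ (hsc i.succ) with h | h
      · exact h
      · exfalso
        obtain ⟨x, hxS, hx⟩ := (hst i).2
        obtain ⟨w, hw, hwv⟩ := cyc_aux (T := c i.castSucc) (W := W) (x := x)
          (normalizes_of_stronglyClosed (hsc i.castSucc) hxS) (by rw [← hx]; exact h)
        apply hcyc w hw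
        intro v hv
        obtain ⟨k, hk⟩ := hwv v hv
        have h1 : (w ^ k)⁻¹ * v ∈ Z := ih ⟨hk, W.mul_mem (W.inv_mem (W.zpow_mem hw k)) hv⟩
        have h2 : v = w ^ k * ((w ^ k)⁻¹ * v) := by group
        rw [h2]
        exact Subgroup.mul_mem _ (Subgroup.mem_sup_right (Subgroup.zpow_mem _ (Subgroup.mem_zpowers w) k))
          (Subgroup.mem_sup_left h1)
  have h3 := key (Fin.last m)
  rw [hl, inf_eq_right.2 hWS] at h3
  exact hcyc 1 W.one_mem (h3.trans le_sup_left)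

theorem exists_not_super [Finite S] [Fact p.Prime] {G : Type*} [Group G] [Finite G] (T : Sylow p G)
    (e : S ≃* (T : Subgroup G)) (Z W : Subgroup G) (hWT : W ≤ (T : Subgroup G))
    (hcyc : ∀ w ∈ W, ¬ W ≤ Z ⊔ Subgroup.zpowers w)
    (hfus : ∀ R : Subgroup G, R ≤ (T : Subgroup G) →
      (∀ x ∈ R, ∀ g : G, g * x * g⁻¹ ∈ (T : Subgroup G) → g * x * g⁻¹ ∈ R) →
      ∀ a ∈ R, a ∈ W → a ∉ Z → W ≤ R) : ∃ F : FusionSystem S, F.IsSaturated p ∧ ¬ Super F := by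
  obtain ⟨ι, hιdef⟩ : ∃ ι : S →* G, ι = (T : Subgroup G).subtype.comp e.toMonoidHom := ⟨_, rfl⟩
  have hι : Function.Injective ι := by
    rw [hιdef]
    exact (T : Subgroup G).subtype_injective.comp e.injective
  have hrange : (T : Subgroup G) = ι.range := by
    rw [hιdef]
    ext x
    constructor
    · intro hx
      exact ⟨e.symm ⟨x, hx⟩, by simp⟩
    · rintro ⟨s, rfl⟩
      exact (e s).2
  have hreal := FusionSemi.pull_isRealizedBy ι hι
  refine ⟨FusionSemi.pull ι hι, isSaturated_of_isRealizedBy ι hreal T hrange, ?_⟩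
  have hmem : ∀ (Y : Subgroup G) (x : Ω), x ∈ (Y.comap ι).map S.subtype ↔ ∃ hx : x ∈ S, ι ⟨x, hx⟩ ∈ Y := by
    intro Y x
    constructor
    · rintro ⟨s, hs, rfl⟩
      exact ⟨s.2, hs⟩
    · rintro ⟨hx, h⟩
      exact ⟨⟨x, hx⟩, h, rfl⟩
  refine not_super ((Z.comap ι).map S.subtype) ((W.comap ι).map S.subtype) ?_ ?_ ?_
  · intro x hx
    exact ((hmem W x).1 hx).1
  · intro w hw hle
    obtain ⟨hwS, hwW⟩ := (hmem W w).1 hw
    apply hcyc _ hwW
    intro b hb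
    have hbT := hWT hb
    rw [hrange] at hbT
    obtain ⟨s, rfl⟩ := hbT
    have h1 : (s : Ω) ∈ (W.comap ι).map S.subtype := (hmem W s).2 ⟨s.2, hb⟩
    have h2 : (Z.comap ι).map S.subtype ⊔ Subgroup.zpowers w ≤
        ((Z ⊔ Subgroup.zpowers (ι ⟨w, hwS⟩)).comap ι).map S.subtype := by
      refine sup_le ?_ ?_
      · exact Subgroup.map_mono (Subgroup.comap_mono le_sup_left)
      · rw [Subgroup.zpowers_le]
        exact (hmem _ w).2 ⟨hwS, Subgroup.mem_sup_right (Subgroup.mem_zpowers _)⟩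
    exact ((hmem _ s).1 (h2 (hle h1))).2
  · intro T₁ hT₁
    by_contra hcon
    push Not at hcon
    obtain ⟨hc1, hc2⟩ := hcon
    apply hc2
    obtain ⟨a, ⟨haT, haW⟩, haZ⟩ := SetLike.not_le_iff_exists.1 hc1
    obtain ⟨haS, haW'⟩ := (hmem W a).1 haW
    have hR := hfus ((T₁.subgroupOf S).map ι) (by
        rintro _ ⟨s, hs, rfl⟩
        rw [hrange]; exact ⟨s, rfl⟩) (by
        rintro _ ⟨s, hs, rfl⟩ g hg
        rw [hrange] at hg
        obtain ⟨t, ht⟩ := hg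
        -- the map on `zpowers s`
        have hzS : Subgroup.zpowers (s : Ω) ≤ S := by rw [Subgroup.zpowers_le]; exact s.2
        obtain ⟨f, hf, hf2⟩ := exists_fmap_of_conj (P := Subgroup.zpowers (s : Ω)) hreal hzS g (by
          rintro _ ⟨k, rfl⟩
          have h1 : lift ι ((s : Ω) ^ k) = ι (s ^ k) := by
            rw [← lift_coe]; rfl
          show g * lift ι ((s : Ω) ^ k) * g⁻¹ ∈ ι.range
          rw [h1, map_zpow, ← conj_zpow, ← ht]
          exact ι.range.zpow_mem (show ι t ∈ ι.range from ⟨t, rfl⟩) k)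
        have h3 := hf2 s (Subgroup.mem_zpowers _)
        have h4 := StronglyClosed.map_mem _ hT₁ hf (Subgroup.mem_zpowers _) (Subgroup.mem_subgroupOf.1 hs)
        have h5 : f s = t := by
          apply lift_inj hι (hf.map_mem (Subgroup.mem_zpowers _)) t.2
          rw [h3, lift_coe, lift_coe, ht]
        rw [← ht]
        rw [h5] at h4
        exact ⟨t, Subgroup.mem_subgroupOf.2 h4, rfl⟩)
      (ι ⟨a, haS⟩) ⟨⟨a, haS⟩, Subgroup.mem_subgroupOf.2 haT, rfl⟩ haW' (fun h => haZ ((hmem Z a).2 ⟨haS, h⟩))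
    intro b hb
    obtain ⟨hbS, hbW⟩ := (hmem W b).1 hb
    obtain ⟨s, hs, hsb⟩ := hR hbW
    have := hι hsb
    rw [this] at hs
    exact Subgroup.mem_subgroupOf.1 hs

end Cfsg.Agent.Lib.SuperFus
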