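import Cfsg.Agent.Lib.CosetFacts
set_option autoImplicit false
set_option linter.all false
namespace Cfsg.Agent.Lib.SuzCertA
open Cfsg.Agent.Lib.BenesPerm Cfsg.Agent.Lib.CosetFacts
noncomputable def r0_0 : Nat := (nat_lit 0x2d1fdf3acc078481e7d0fcb1d5bb5e333a0442efed712d65d7a983c745787c5311b32804177e9f51323ea8d6a028635d0220e2bf40c5ececd3e9402c789c853dc84eb1dbd2547301e08fd988b1d9cf8d8a1e0d4ccb6df64536c590d4ce23098b71d40da5cdbb77f30eceb1a28b59389ba145d31d8e83a2388c24b31ec8d83387538e27aebad825645dc3b5156079ab050e00e55f507703994b56de55fb77a3a4d9a590c0a9b8e1e0d1fbe41c1c9cc94c2b660e7da17db96c6bf56666be8c42b69b6f0019832af898781067c07b9c1b031d80f46671fd7e363e21960f6b1f2)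
noncomputable def r0_1 : Nat := (nat_lit 0xb80e5ce991d0bccc8b0917b1a86453e17ec51199c5764f5844922c69da06879040cd3a49e0502914c0891bb157c20a68184694c22e2e279602369a40bfe0217ea4f00701c34b18094e06161137000172112b2220d008918879101608f04012240628333000110032713021ebf04342401f2cdd40001c438270c080309602403940008238c04448087614022067e1c018700dc000270200218020d0080803a0141032017d70034f0f60001b48011d1a01c0610ff0c8600691400280000e0f8811038ffe60680020181de0311f80060738e19904680e21f2fe309c6fd014060)
noncomputable def r0_2 : Nat := (nat_lit 0xbe709c4322b8419bb90962279099e625c4116aa20f942860e4915a039200082558202140180e4349b08620ab5e11001064158002002088e06024006dc8d4844080332703d1508825a00010201000c50000802328580c938021000c008000012600000200200005cf81808080004100003d0d72500120002000008040060309392380840080110808d60080001c05d002001dc007248600012000c009c071bc23100900f97000400d20003f48219c12418071e78909080f390004400e8ec392a6039110898072010104354904003440000221001800200230308067d85f700)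
noncomputable def r0_3 : Nat := (nat_lit 0x3830dca7a0b881dabb09744348e1d72102305aabce862920a0130a430a40085418e9ac1d185ef35dc20f38480c930f79d8050081280024e666079e7f405cb560a573200250680825202c0831b190cc820198214c68040a2070801c105800131444408301212307cd8108b1a902528000104d61200d2015000002404186010d0020080220420d4000a80080001c44001a0012001824801c020020000800802001010500820003410001c02009c0000040000000880108080003800700000180a00001000180001c04003141000435008403a1027d8001d21f8030180420000)
noncomputable def r0_4 : Nat := (nat_lit 0x340d1c146910142c9c924810513015545c423f000041c095a0082880c09610891012081528000001c968800435010000080100081082188400030004208d400401502000081200010102810000000098002100020300009a841000000800410324409800000000002088000000213800001041060000014200002c0110000043047888008804048087e0000000021d000000fc000200600032000d00008f61c341032017b7000400d60001f4801801a01e801f871e87007394004c00e80c01a17c01e8ef87872210100043e038b8a4400001e118210000c004002000000000)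
noncomputable def r0_5 : Nat := (nat_lit 0x3fed1ddabb1b9c3d2732df7f5dbfda765c633e2bbcb0a657ae413826f832100e419c9ac4f985ef34574873b3356830f797c45908228218ca666779e39c008b5249471270258481835b0000831b190c4020388236cd805020860801c101804132644090301212326c18908b1a9025000413249630001204000000000508601490020080220020d480880008202042400020010008004800000002000080000000101070180001000000000200000000000000000080008080010000000000000000000000000000000000000000000000000000000000000000000000000000)
noncomputable def r0_6 : Nat := (nat_lit 0x80000000000000000000000000000000000000000000000200000000000000000000000000000000000000000000000000000000000000000000000000000000000000000000000000000000000000000000000000000000000000000000000000000000000000000000000000000000000000000000000000000000000000000000000000000000000000000000000000000000000000000000000000000000000000000000000000000000000000000000000000000000000000000000000000000000000000000000000000000000000000)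
noncomputable def r0 : List Nat := (List.cons r0_0 (List.cons r0_1 (List.cons r0_2 (List.cons r0_3 (List.cons r0_4 (List.cons r0_5 (List.cons r0_6 List.nil)))))))
noncomputable def r1_0 : Nat := (nat_lit 0x4be242df779e0d5207c50246fe9d8c1600c05125e31087089d50615640a064484a8a09453d01016a10000d558930069e03c6c0522201409112c20a1002c40ad009a4c63302cc8c0c2455000210c111000348516000f07f00d0c04a0a66004a2ca010c44000800dc4289098cc000a020b20079008000088103361004200000d428180206004502825421010081e26000211a005004200be84100201091008005509108958008062a00a1b8004c432012714800420000042201001690288400000220208007c0580002443d21004022894003194000c16e80b98084141100)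
noncomputable def r1_1 : Nat := (nat_lit 0x2256fa20102cc05088473c1a7e7408e8c40d040493403910018956681440b854c485ad319651d0a281500a006ac8d91b6954081291028075891b843458000d5175085a804c001ca060462901880188150508048500100250062d0008a2805004321a480040581808026a8c078334818880e200c95800880081073d140f24004044800800078404c482452000400b02100200ae00441310408831048406200000109410004a8a002001042009040c0310104000018000d00024080000800e070042022100818780180002443d680900228b42b83000b7a408c100d541280130)
noncomputable def r1_2 : Nat := (nat_lit 0x112a31290eb8822da2920d236ec03b8a05d109989144940cd81147c5761226286c5cc11341e006211f00a09bf4c431762b0462e96028015931ba8009a68ea400501d4c0f5203421e2060850892280080020248502000e14f4110000a462219824ca409c440904031c00ca0b00108428210300f0108a602100032200a9200002c0202000a100004280486041c01042a01001bc0004076003002040821230108001400108df0208042a0021f900141f201030680200c01016a200140070029b2045a480404002c0090014000000000020080000500081840080818100604000)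
noncomputable def r1_3 : Nat := (nat_lit 0x100df023ee9b8226e3d7c4012fa29e1e11d349c95003a5a998b085e86216a26c4c1c5b9c44fd04254910e082040dd1d09d0365e150280448902a0501408cb30b000cbc0c12120b082221131082000561d68048602000f05e2601c08026400d090d2499648410c0308284b0889491120a00902e0408a220000060814ab200002c48030028300012282580140c09020a01100a900040508006061488012000000110400004a420814000021010000002000000000c080902d420022060000002000000002802000000180400000100000040000440000020800001040080000)
noncomputable def r1_4 : Nat := (nat_lit 0x167c203d0671d2bd5440027417e0d9054074800000425a74025620c31cc1540204283052008000002300089f08030040200000800040713000000000002040ad88140040001401402050408002004200882000008003019068000420002044908800080000000010830006010990000008820010004011000032010400020001800000200000204201400000030000008005100002480360000802043000800050100091400000280000b8000c0b001070680200400010a00010007006830047a68040400140010014041d20000002814218004014210410100800000000)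
noncomputable def r1_5 : Nat := (nat_lit 0x116ff22bfefe9f2d36d64a0727bc979e55de49d951479187db55a7d557da33746c5e5a9864f7042b2fa06457f505e1d68e636de9502c074ab3aa0505e68ee310d88d4ccb3217469a2c64131082004141de0248516800454d0411c0c826400d0108a41964c010c039ccbce0d84099028e1a384e8308a2a1000070815a3200302c520200282000022c0512040c013026010c00810440700000041400016001000100400000202080400002001000000000000000000001000020000000000000000000000000000000000000000000000000000000000000000000000000000)
noncomputable def r1_6 : Nat := (nat_lit 0x80000000000000000000000000000000000000000000000000200000000000000000000000000000000800000000000000000000000000000000000000000000000000000000000000000000080000000000000000000000000000000000000000000000000000000000000000000000000000000000000000000000000000000000000000000000000000000000000000000000000000000000000000000000000000000000000000000000000000000000000000000000000000000000000000000000000000000000000000000000000000)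
noncomputable def r1 : List Nat := (List.cons r1_0 (List.cons r1_1 (List.cons r1_2 (List.cons r1_3 (List.cons r1_4 (List.cons r1_5 (List.cons r1_6 List.nil)))))))
noncomputable def r2_0 : Nat := (nat_lit 0x1820c08e71c68f0f3f8901014301822850286f20801fe14f88649ad44567706c404ec24f6d011891029e1251641904056ec550c98ad99023203218022e628039cb239050310a556087deebf324d908ea8021ed01058010d880c9717a0540a5376e32129108910104ccd1c0489e621d29121b6ec25039b4250284420601091b03e834407869010c848be8680205993c61a6003404757721c210e661d89c865fb8c1015012f512be6c32437d48bc15b0a00406fd60151e9b5280006c7080d0d10393f00e76f00501f1a7987e501880d9f300102fdb1001e1c2c4fbdc0d03ca22)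
noncomputable def r2_1 : Nat := (nat_lit 0x100d20069c0721cb5290400c0805e28437264200433c08f2023d881430304da80184783820001f92a3e8040144104e06c04e8811f03218910605012d9aca6260325a24930c68180854eb1023e80005c0100d78d17c646800211713a3c4c443c00461d021800295b22040a81e405042c0bfba94942ba91c82c080426cf7108ba804403073428100000010a0072403084505400658a8005f6200000015cb0060100146000c003808064000009401041040071818809c8000802800010131a00b88001103800000c60200010000882c983001b0f9c86ddee1106061910690000)
noncomputable def r2_2 : Nat := (nat_lit 0xc3d180c2380a0774809000090101e6fa803f9300400c2482223d8804c8ca28813a0076d080545782a3c024050011cf96c090c80a20020d070214000800d24114121a24801ff6141b18e890035a002180032ed8817e0c6fd001010c4fa000414200214008000020e1056084c004304001818f8a162a294c029080430cf791f916bc800185000c000808000704440188470c4000c050705f600c760d89f41c2381a080004c0000a8ce4437c0801b47182e101110ef0001b080006a81f100a11800181d6c8023800400618000db71001833dc0000006dc100004f00842000000)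
noncomputable def r2_3 : Nat := (nat_lit 0xc1fda086a40a6737d2020009280106617206d30041bc2ca224488004b85a6dc93a842e64a444d922a288244000001e12488e4404200205150611050a92526bd431d82003160c101b1dc3a2234a002601121100890268020000143bc564cc030200619001880280e02468accc44020282a43a8e802da8488010410141108a80382000306142840000500025044402005a0848070028100000001000000010200801400000002b480001c0000a00000000000610800c40000013800000000103000461000e40000000000680200040000000400000000100004021800480000)
noncomputable def r2_4 : Nat := (nat_lit 0xeca002990551c080fa020d1121c6a77021400041a014580437080046a108a8440150f0000116a10968004140000a448810001c0004188003040002928a80042383001004e20c005428100230008780003ef8507c0209800100040a8000004000404000000060012100401004724000018380160203440280814003e700490000800202001000084000020202210c0504080000040043600c201088080000000008000c00100006443400800143182024010861000000800002808100a01800201c8ec000000000000004038a00040000041402100000c00000000000000)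
noncomputable def r2_5 : Nat := (nat_lit 0xc3fda0c2a50f76f75268020d390566e77227d300000c38fa264b8814fefb6561be856e24a455c113aaa004014011d5d008cacc1820061d97051505080058ebd0305b24903a4e1c1b4981a2213a00a001132228d10202020000033ce424c84302006110098802e0e10568ecdc40700041a20d0e8229aa0000104001621080800024000231028400080000a206462204420940008004100000001000000004000001400000001008000000000000000000000000000000000000000000000000000000000000000000000000000000000000000000000000000000000000000)
noncomputable def r2_6 : Nat := (nat_lit 0x0)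
noncomputable def r2 : List Nat := (List.cons r2_0 (List.cons r2_1 (List.cons r2_2 (List.cons r2_3 (List.cons r2_4 (List.cons r2_5 (List.cons r2_6 List.nil)))))))
noncomputable def r3_0 : Nat := (nat_lit 0x3ad5dbc8832a9b6284b8a017c4211a63c71b710a2854bca04a101a48a16a7ee12895170fcd194025c661f7c56a203a7e060a85f820cac2680c084443e641e9344ed6d403f3e290ef24cc18555a40000e3f42e09fc1e8181d08809eb08a55283d0ca4eaa3c1a1ffcbaec56ef32f001807c3ad058a740352602ebfd296d05e0713e3b2d723d829a70a0a68068680b34ce824cec8e18072a9f1910101ca1f46018259611b63ba3c30fc429d01061b95806be4460c76f4caa45158364767bccecbf01230cec2d6bd719581996741b67610337dab4c109fd8168cf205935b60822a)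
noncomputable def r3_1 : Nat := (nat_lit 0x3c590021812ffc9f04bcd8ab00683402585353e09984d1a4541b2442b3798880638893223029db0b4cd3f4aee268501b550000904f01818c790824ce9c260434cca02403c7e461ee9e7f0097458b5b201734c13f397f6ce0086017be71750e01d4c8289001a07e8df2014ef1fb102003fe2bff4877e48791580a02e8047bca2cc3c2d7dc837a270a052006fefecc1eeffb8e04fe6f8cae0180c20203e6787e3f815e3ff4183fcf109be23e17e0160469e878718018e45b805fc00d800f0108fde1c708cce0003e020600988e06c031c071a41090ef19bf056cd2442001002c)
noncomputable def r3_2 : Nat := (nat_lit 0x3ae461d9d08480a18e0df76ee9131b366143c20fe3a479831aed065d1cc0008040f70167a942a42e7afc8b18a86815c5ca004011770987a677d0cb5b0425b68b0ac6f6e804006401a2204015c19e0b2880012760e4808c00ab8a40406455016e5a1ce823fe1781520006100c003f6178022a0030001862215cbdd0008a24309003812000117818b5b32af90101004f000001550069040001e3eef00080001c00003c00091d4000001d000058020007860000001800180002e0000a0020040b8242001000880100000000600000401000718000108f19a6056cd4461b806040)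
noncomputable def r3_3 : Nat := (nat_lit 0x3184679206860819821cf180e4520924b111d3cedbc0c08212f50e4d1ec61880407792699d2a37af4852008402486a65ed003640b80b062209d8349d6427029f8ac6e017c5e0c0050450a097d81550842a40c0c204900c81a1e1a8810375234386c4c49445a017f3e217613c3b3f5000bc041f7800d8a011780a00008a2412904002f0000378a7ada0d90178078c4001e38f2801811c804001c240008200002c003c26e82280303000063e200400000600000000e018bf8100080007900a000200000010087c40143821000000000e04001010448000010020000000000000)
noncomputable def r3_4 : Nat := (nat_lit 0x2154668150190be08c30814092d9612d04200e000200009440a00008116100ebe080506001000c001000010aa00018202d9c001ff02c18c7002800368004c0284000000000000000220e00020ca2ba000010102000040810a6a03406408803fdcf83803800180104080004208002000000002100000400004b5d010140000000401046090001a121b005001008000000001440000000000002db0080040001120001911000800000000001000000001e0800008000040000400080020040381c20018c8c48100000000e10006a48000000800824000000010000040000000)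
noncomputable def r3_5 : Nat := (nat_lit 0x3bf547fbd78798bb8adff9ff0d7fb994b053d3efdbe4d5ab56130e4a93d00889667f926d9d3a376fcfd388d46a797a67ed0237718803c5ae0b0eb4ce4c274d144c86e4148400e101a1104082985550842a41c1e234904e400ac1a8c10320221054f87494440011620297615e111010048006002800182600200200109a241390440120000000800218f9010001004e0061802800010480018001400082000010000000183a80001019020020000004000000000000000001400002000000080000000000000000000000000000000000000000000000000000000000000000)
noncomputable def r3_6 : Nat := (nat_lit 0x800000000000000000000000001000000000000000000000000000000000000000000000000000000000000000000000000000000000000000000000000000000000000000000000000000000000000000000000000000000000000000000000000000000000000000000000000000000000000000000000000000000000000000000000000000000000000000000000000000000000000000000000000000000000000000000000000000000000000000000000000000000000000000000000000000000000000000000000000000000000000000000000000000000)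
noncomputable def r3 : List Nat := (List.cons r3_0 (List.cons r3_1 (List.cons r3_2 (List.cons r3_3 (List.cons r3_4 (List.cons r3_5 (List.cons r3_6 List.nil)))))))
noncomputable def r4_0 : Nat := (nat_lit 0xaffa6e4d6995cc31410ac70117ed40f6410ba1704e1fb5ffc0ca69f869061adf9cd9900cf9a742eaf405c32eaac38e7c801377afe590f87fe015bfc494f0fe320080243c229003814ac9aa28ed4dfe01c3ac01a01f8e7c008469e4a9b77041124c0380001f0781795000f80347fdfffc1e718bffcff7741c80803b8d0fe3f83007ef33c5006fffdee7fff8787316ff9fcd0a001e0600181163df928083edc0345a80001380030c0e0183f87f9bfb8461f7e8007f7c3ffd41ff687e80c0e0075c600e7c8da00301c39dde461f65abe3b8da3cc5640db878893c39118018c3a)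
noncomputable def r4_1 : Nat := (nat_lit 0x3402192c20d8a24b10047cf63bd6e19aaaf982b895d7eb82200e451f29678679c61197868ffbf407ef1fbbecc203c79814f700811984042d0002c2ff86140fbc00050043fbc100bc1a03005f18f7df06e3c5c7eef407087f08400100000880010060210001e47fe800000fe0c07ffbfffc27e03ffd3e37002effc0000e81c0000383f334502efffdf2fffffff84167fe78df5ffe0786fe3476c20922103e823fffbfffff07ffcf0d63e34000001c106c1f7eff891afc0020000027000c0f007dffff190ce400301e3fe5ff8e006c3ffcf23c00207f2008001c0211606a003c)
noncomputable def r4_2 : Nat := (nat_lit 0x3ffb0ffbf71e001f4921fb3f39f01dd4984b97bfeb24d679fbf917e0a02000a9017042788ffff44673dfe0dfeabbff77c02ab7fbee5b0ff6ffff5c00904fb0403ee3ffec3c057783e200015c88f4df06ffffc7f03dfc77ffe5affeffe3773feeffa59efffe19800c18d7701f000000000240000500000301deffc3fffeff1ffe7ffd0ccba3d1000019800000004009000000200000004001f7fffedff3407dd00140001438000000fc00017800001fbbe080007000000057e0007800f0000f82000000000007c00021c6000000483838c200002018220000010211406b0ec0)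
noncomputable def r4_3 : Nat := (nat_lit 0x369b0ee419dd847f59e5db803a9ebc4fba9bb7f0f53bc25fe603f7b0b3c18656fe7ff7fe0204086de08074102ef438eff4c9800affdf8ffff023fb00939f00402efffe10041ef7c3f03c1ba3542b00e00000c81500041000fff161b5700881effffdefff801f800c199ff01f003ffffc000f013afe3e3486280838000e0104021002f31c58283fffef7ff807804176f878dfdfe00786be3600c200081000002c9a143febc7fc0f0d03e37e87e1a3a00200800000e500ffa81fc680ef03d0f0020400001300f80fa1c000040000000000000000000000100000000000000000)
noncomputable def r4_4 : Nat := (nat_lit 0x40b1e0c2821efaca81cc004356821dbd2e2bc40001b00400408000053f9af28870008060061832da0000008c65bc710002237f1008694080000a000079440002100000038000040023c1adca40020e01c3a08000000097f1a4e9e4a93773e1004d870000000000001080000000000000048010402004387d00038472080000007fd0ce3abd7c00210000000000201000000000000004000f700092200807dd365ebc01000000000000000000000006c020000710a3b0000000000000000000800000100190000000000000000010000000000000000000000000000000000)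
noncomputable def r4_5 : Nat := (nat_lit 0x3ffb18eb79fd6ffff9291f8f36bedc5f72f32f70f524ea26a603f538703829d7797dd7f80204084050c07433065400c834dd80011987947f0023eb009448e000111d0250001b80c013000123502b000000000015080418001a5001440008801124f879000016000c18c08000004024000220040102024000200000000001040210010008002800021f000000004210000000c00000000002000000001080001000140013c000000060000080000010000000000000000028000020000000100000000000000000000000000000000000000000000000000000000000000000)
noncomputable def r4_6 : Nat := (nat_lit 0xa000000000000000000000000000000000000000000000000000000000000000000000000000000000000000000000000000000000000000000000000000000000000000000000000000000000000000000000000000000000000000000000000000000000000000000000000000000000000000000000000000000000000000000000000000000000000000000000000000000000000000000000000000000000000000000000000000000000000000000000000000000000000000000000000000000000000000000000000000000000000000000000000000000000)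
noncomputable def r4 : List Nat := (List.cons r4_0 (List.cons r4_1 (List.cons r4_2 (List.cons r4_3 (List.cons r4_4 (List.cons r4_5 (List.cons r4_6 List.nil)))))))
noncomputable def r5_0 : Nat := (nat_lit 0x645074fe0669824f98790f833b05e9d29d0a3bc4fc00210038096337b8a8441aaaa52e53c4fbf8e68f228023961cfb8929e920688906714ebec710020abf27cf404249d8e448b76001020a800ae31497a0401e3e11025201912160519a0430034418021ed05bba2001903a08109e2004d084117808c24011150801981d0884c006380040c12211012001fa8000000001892b00841840203cd01c600600050128022082726008708a9b01abc601f0081105830cc08600e0421c04c40a5008654240010088446260f182300060424200011041020031210021c080441010482)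
noncomputable def r5_1 : Nat := (nat_lit 0x3cf57696acff04843bc2c89eb97c57b5b9b143755103f69cd030c6ccda1810c5a1a5deb809efab928d718ce821c6245f1a9e4f70210244145a898207208e0638f64568018a440f54e82060fbd2e1d609c7d8350b9a1b00108c1044761de71c00904760003e00bac02011e6a7c1c9520c4d1320178d80022ae1c70dc10016c0000002098880c0611064d039ab88001f1a0001492642007900001800000000000101020980484cc000521000108000008010c8308c0864600000800040840006d46643188c6006220e1023a89000002444002000206002000200080641851000)
noncomputable def r5_2 : Nat := (nat_lit 0x3ee707d5446fa247ce62fa76eb856c72b041ce9a2f8bcb69d1acf7fda10a08b1535202437320539d47a5e1821c640a4129014006a883608c953140fa002924c005216c8bc484106a00206000011000480a0030f0e2520430701028c00c08c0e080420425c161014200000410000992001304400f800002280000040001c48248062008000604010004d0041030201e010000b10842007803cc0004060018210200c000066c410400fb800158801e1ed8180000081000004625007f80350f808040801400808264111a130000000004820020002040021002180806618414c8)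
noncomputable def r5_3 : Nat := (nat_lit 0x36d761da2c6d8447cfe2d204ebf45d75b993cffe7bc0f298d190f7a8a208085411f7b2617b887b1c400142003a67f16138899186a9836018edc9738f0003d754808d4c92a4821242002041e213ff0050360000d000100420600290c4110084c080420024758602600009b7108100200018044014808000032120080000440200020200000800610002000630200001010000480c0200490002000800400010000100000102018400041000a4c00d00000010004800800021118000404806180000001000000000000000000000400000400000000000000000000000000000)
noncomputable def r5_4 : Nat := (nat_lit 0x437762028901ca4085000006400104b19e225c0000000162000280202121000000020060410010000020000260000040000000800900b0d00008000000800000788210080178000000001000000001000000000010200101a10000008080120340490000000000000180000000bf20000000003000002120000080000000008046008080a00002086d0000000001f000001b10000003003c200080000106313014000066c400000ff80035800121ec01080218418c0004620007f80b40906c04402088cc004401e0820801000200004000010000000000000000000000000)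
noncomputable def r5_5 : Nat := (nat_lit 0x3e9777ffecff9ce3c7e2faf26ff57f5db9f3eeff7bcbfe7ef3b8ffffa01a18d599ffb2657fa8f81fef97e58a2667fb653b999988a9936b1dffcdf38e20a7f750f7856d9f0c84936a012040e233ff00403c0805f9615005201a02b8c411008500b4469024f78602402011b71081cbc004921c4318000004112120000100540200020000088000412080000e202000000000110008020000000000000000000010000000000001040000000200800000000000000000000000010000000000000000000000000000000000000000000000000000000000000000000000000000)
noncomputable def r5_6 : Nat := (nat_lit 0x80800000000080000000000000000040000000000000000000000000000000000000000000000000000000000000000000000000000000000000000000000004000000000000000000000000000000000000000000000800000000000000000000000000000000000000000000000000000000000000000000000000000000001000000000000000000000000000000020000000000000000000000000000000000000000000000000000000000000000000000000000000000000000000000000000000000000000000000000000000000000000000000000000000000)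
noncomputable def r5 : List Nat := (List.cons r5_0 (List.cons r5_1 (List.cons r5_2 (List.cons r5_3 (List.cons r5_4 (List.cons r5_5 (List.cons r5_6 List.nil)))))))
noncomputable def r6_0 : Nat := (nat_lit 0x15e9e7959f69451d52c0d20de0c7c5a4180e8089a3108045e3482d804a10000200694d5801348601bc0da5464d2e09486430eb1000046d27c0e1d3b1f0f06da0137960a694d1a10236f20102648040b428e313181b5031873c5183d8b28b4040909c894037124a28c6920d0154bc6f3210b9878ca2100c9a04017402273000a01250a420800504005c818564c05459c0a105449002290c80a4020d0285086406224467c000a004000040800280001e460288400a1013001ced001900140401997b011a0144000200040b80020043f301000950092902182cd000863d8a0784)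
noncomputable def r6_1 : Nat := (nat_lit 0x1f68e57deb48451c5258ac80e6cdf43e5004800f9ed10f05c7082121aa790280340171881b98a002fcd98146593ee882376a2a1140080e67dc2fee0c38f440281b9bff8408d5e1c13d9200822402025402e2d6285214534f187f019892010004d00d41fc064c12003656808954deaee03001e08cc060139a0c0b042047c1194011c51870c02d424250370160e0100300c15c47082402480346442d040000622c4042aed8d94308042c88a6080008008c1800418222453580060000202002190803050241098002000408900a020ba341208150064c0a1aac490a1e98048198)
noncomputable def r6_2 : Nat := (nat_lit 0x38c382e81108008e3108d04e802e143610bc55906126029c08080020246a00000740005480023404e0c0c03857b0000240204802104827d403000000e3844c07941822c41f7500c20b670000282016f0000910780f8428ef0020000020200025b008482240008405e0300c520bc28b0402382f74e201cf180000740133e50cf0a3943020300012525138080000c563c4023505002829c803e4001c0685a8248402410650d9c000102c80020800081fc81cc810802054249ce800190032065ed16c4008005401d804800322b00000800000306040080200000108061d84f660)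
noncomputable def r6_3 : Nat := (nat_lit 0x3cebe7f57f48009e6358d0cfee0ff7a858be958fefdb0bf41a9420212e2c0083b8417cd51ab8b7856c60453f93992baa737ec3a2304c06441fafdabdcb346dafe7402200900080c207706182502266e82a8920194d9039a01c380b8020aac4653004482066541824c6388dd25f18250422040e786241c8020002780136640c90b6012820b204c2425588094000c578c4832d4210002980800240100185800806020e465400020010800882130004800000a000203010248002000020040018010c00000810000000080302300042900040217026100012a6c20089802a0000)
noncomputable def r6_4 : Nat := (nat_lit 0x40b660028310400108200106120011e108e46a0000080192101ad80d01200000000020501040010012100000d80000000200002024ceb88400000000008004009fa000004150000400061000000001800002042020400082540000000004042c21bbe0000000008008800000026ea00008000048000021a00000c020100006004101040020505a129300000000003000000450000004803c6000d040028208060438908d9c000002c800018000c1ecc1e0850820247001cec001900300606d8704508414f81d2040000b0c20009624000080009e10000013c000020000000)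
noncomputable def r6_5 : Nat := (nat_lit 0x1d6be7fdff79049e63dad4dfef2ff7ba58bed7afefdb8ffd3b9dada1fe3a0083b8417ed41bbcb715fdc1c53fddb92baa737ecba2324cefcc5fafdabdebbc6deff9e222849c4481c24f700082702266e02a89007b4d9039e725680b8020aa8467f21bf6206654182ce6b08dd25fe6c10402bc2f786201cc000002700336640c90b3843020b000c7e37808090000c560c403350000082980000040100085800404020c4f580000001000008200000000000000000020002480000000000000000000000000000000000000000000000000000000000000000000000000000000)
noncomputable def r6_6 : Nat := (nat_lit 0x10000000020000000000000000000000000000000000000000000000000000000000000000000000000000000000000000000000000000000000000000000000000000000000000000000000000000000000000000800000000000000000000000000000000000000000000000000000000000000000800000000000000000000000000000000000000000000000000000000000000000000000000000000000000000000000000000000000000000000000000000000000000000000000000000000000000000000000000000000000000000)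
noncomputable def r6 : List Nat := (List.cons r6_0 (List.cons r6_1 (List.cons r6_2 (List.cons r6_3 (List.cons r6_4 (List.cons r6_5 (List.cons r6_6 List.nil)))))))
noncomputable def R : List (List Nat) := (List.cons r0 (List.cons r1 (List.cons r2 (List.cons r3 (List.cons r4 (List.cons r5 (List.cons r6 List.nil)))))))
noncomputable def d6 : Nat := (nat_lit 0x1418020086ba608c250120001008412441200000006002002212540100c464409480204441404002021200204014150880144884820000201000420402821000000019200214208000905102490802910000848022041082005024094421100440000108812142080142048001100909021002108a2041228402148808820a4020020a0900000082406212142204211080b045414421201021408052141111111010022410a28852121940511100208014284488808a4200a444448188802200a284848024051103104405242000a2190208000291050000810040400002)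
noncomputable def d5 : Nat := (nat_lit 0x10080001300411000080401000280004208100080340000080100000465220204000100800000201008001540180000404020015248806200020800da4008030812924011206081168a0800080000a40023c2000484d24c00c90108c200000a42300a920010041994c608083424092020a08ca0406111000c0840224421352121104051402994840829004043110080c4400410a422009020842141092208a84809201091021844000924010880810444224422441211108212002202404109111442421211088084881248921291112499445614488a8882429118208220)
noncomputable def d4 : Nat := (nat_lit 0x40000000000002020000c0010220010040000000000000000800000010000000000120000080002000000000000002004000000040000000000020200000c0000000000000000040600001000008000020000000000000000000040000000000000000000000420000000a000000001002400000802000000000000000008000000000000000000000000088000002000000101000400000000004000000000000000000002000040000040000000000000000000000000800000000000000000020000000000000001009004000004022090004404640284405004000)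
noncomputable def d3 : Nat := (nat_lit 0x2000428500000710000001280400800240c10040a0240a00081204000011000004080020400100000000015040000000408040020201100210000010800001109000008110800000005200020005100081000020001020010000000804000200201000000000000208000008004000040000100000808010004002100000010080000240040000000000000008000002000000001400a0800082000810000040080004000000220008080004050000201000102000028000120100020100004002100010000400004002040090000820081200022002001000880141100)
noncomputable def d2 : Nat := (nat_lit 0x2240257184290080005058da2c6c21900080008d5a4010305518040a901008012001281010b2a000c54108088a8282020122022200040c048b08a42400104140248049048400021040200008800494004880004200100800542408000022108091094048444890000108210201108280800000148800421280422901008400400400280082840252401411010004421001014a00000810018410040400000040208009090a8800100900003002080c1010800210000140054400120060042c0048080001088280084042010000400008400010004800000030002200802490)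
noncomputable def d1 : Nat := (nat_lit 0x1ca900884000040d008082040100140618020362208184850240208028820088112a124609000f050804e1a2002120e09401010028111288444451890085100c0264202200cc8106091100863490210022140938694120a00100a2c31018862108049420930242a4201010704000201616046100031404841030804810504894024784a41012280815808c2c28401906281e008a0a80860003029208a008e606802246640021450184600206a00220c309089188112c0480194008880c1100c4a0411818244032223821888200842e4400240000a10010110c040022030844)
noncomputable def d0 : Nat := (nat_lit 0x200000000020000200000000000801080000100090800844001020800008a4004080008100a2090044000004908201880900100010010800210000024a00000048042000048200402004002420004400401100800012802041020010844008020042024080000000481004a4040400900082400000040011080020200000880110000400121200200808000204800000120000008044048001200400000024400800044000000804008002402082040000020402000200081011002021002000000400840040000200000000000000000800000200000100000080008)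
noncomputable def D : Net := (Net.cons (nat_lit 0) d0 (Net.cons (nat_lit 1) d1 (Net.cons (nat_lit 2) d2 (Net.cons (nat_lit 3) d3 (Net.cons (nat_lit 4) d4 (Net.cons (nat_lit 5) d5 (Net.cons (nat_lit 6) d6 Net.nil)))))))
noncomputable def Tp0 : Nat := (nat_lit 0x3a200280800ac5002e5002b2c00afe003df002b7c00b0d003df00142800ac1003df002adc0057f003df002cc00065200040001a1c00b2a00365002c2400b2d003c2002bc400b0b003a1002aa400ade002e6002b84006ba003a4002c2400b2c002c300292000aaf003a0002c8000abb000220023e400937001440023e00091700025002c2000b0f000c20026a0009d00002200260000a33002c20009f8009070000000269000a5d000650025ac0048e003c5002a8800aeb001a400154c00a41003a200278c00a39003a5002a7400a55000250024d000935000260024840099f0018000290800aa30000000273000a97000060029f000a7e0002500266000a44003e5001acc006ba003bf0017a400a68002a3002420003fc0018400248800972000c600278400a7f001a1000fb800435001440025100099100181002628009df00066000f940093f001210025300093d003bf00240c0091400184000e3800970001df00208400811001c3002330008e5000260022a4008b00016200037c0089a001820021480089b001c60022bc008880004300209000852001c200235c008ce001620020340081d000020020cc008630010100201c0080c001c500219c008a7001a1002224008b7000a10004280089e000000021280088a000020020f4008770012200227400870001a30021a4008ad001430021c4008b20000000000000000)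
noncomputable def Tp1 : Nat := (nat_lit 0x3a2002b2400aca0000500280c00ac8003df002c30001be003c00016cc0050a003c20015f40057f003df001af000b1c002c1001a1c00adc003c2002c4800b09003c4002c3000af10000000284400ade0002000154400aa90030100288800ad2002c3002c2400b29003a4002b0c00b200002100277000aa1001440024e8009890002600257c00962000c1002c5c00b2000042002bdc00afc002c2000ea8009620002000297000a5e00061002b8000ae7003c000299000aeb001a40019dc00b060014400251400992003a200295800a9d003bf002404009320002600268000a570002600247c009950000200273400a99000810026e0009c400065000e940099e000200014e800a8e003bf00142000ae2002a30025a000558003bf00248800966000c6002a0000aab003420012b00096f000410025640095a00183000fc8009580016500255c00541000260025200094c001e300240c00909002c100246c0096d000e200209000824001df00233000824001a10021e4008b0001df002170000df001df0022c40089b001c100221c008af0004300214c008a1001c0002338008d80016200208800843001c0002344008bf0000000201c0081a001c000224c008a7000060022240088f001a500042c008ad0000000212400889001820021540087b0002500038c0089c001bf0021c4008ad000e5000328008730000100000000000)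
noncomputable def Tp2 : Nat := (nat_lit 0x3df0025f40097e002e2002bf800ac8003df00292c0028c000000025f800a2f0034100298000a71003c2001948006bc003a0002aa000add003df002c48003c4003c1002c2400b0c000610025b000a1100164000acc0091600301002bc400b2c00283001148009ec003a2002c0c00ac300166002770009ef0014400276800a3f00025001154009fb00025000c3800963000c10024640097b002e2002a0c00a250000000273400a98003a6002a9800ae0003c0002a8800b1300022000e280098d0014400278c00a430006100269400a56003a10023d8009010002600296000a5a0002600266c00a4700144002310008e7000250024b0009c20028100284000a2700164000a380090d003a00017a400508002a30028300067a003a40024240092200281002aac00a150034000183c006600018600256400944001600024f000958001600010c0005410004500255800431003bf0025c800909000200009a000914001df0021e800824001df00220000810001a50022b8008cb001df0022b80015b001df00237c008db001c1002350008e400043002288008e1000000021f0008cd0016100210c0082c001c50022fc008cf001c10022ec0087f000e300206800821001a10022b00088f001a60021b8008aa000050022280088d0018200228c008cd001200021bc0089c001a200042c0087100126000450008940000200000000000)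
noncomputable def Tp3 : Nat := (nat_lit 0x3df0028bc00366002e0002b2c00aff003df002b7c001ba0000000280400ac40002600298000a670002200149000a7d00120002a9c00af2003df00294c0051a00060000e5000996000200025b000a1600164000f90009870004400265c00a49002830027d400ab6000c2001328009860034200184400a1e00144002a9000b04000610027e0005b10002500281000a07000c500290000af7002e600289400a8200000002310008f3003bf00284c00b1a0002200141c00a640006200290000a41003bf002a6400a430002200269400a63000060025400095300161002968009c10000000267000a51001440023d4009110034100293800a920018400248c009760016400249c0097a0002000141800a5f000c1001208009f7003a40025b8009aa0028500287000aaa000200015b800ab000144002328008d50016300231c008ea000260026280098c00141000fb000431003bf000d6c0096d00020000d7000972001df0021a800852001df00234000040001df000390008de000e00022b8008ae0002300037c0089b0000100211400886001c0002394008e1001c10022f0008cd0004600207400842001c100233c008be001c00022f4008bb000e30021000084c0002000042c008ac000e30020140080b000020021280088b0000000204c0082c0002100208c00851001a10006800013a00126002254008b30000300000000000)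
noncomputable def Tp4 : Nat := (nat_lit 0x3df002be400251000210028f000aff003df002c380024900005002b1400ac900186002c5000a6b001c40029f400ab700125002bc80066c003df0013e800a7a003c0002c2800b12003a00019e400ae10016400274c00a3e0004400292800b0b002c0000bfc00954000c200289800a3d0038200198000aec003a4002b4000b24002e50027d800a1b0000600281400acc003df0016e800b05001a400142800a25000450023c0008f5000a1000ca40095d0002600269800a6600062002c1400b06003a500273000a43003a1002a7000a63002810007d0009020016500272400a590002500291c00a52001440024bc009830000200293800b0f001840026b000a27001640026c800a2c001a400141800a24002e600177000a0c003a400286800a700002500125400a1a002c50015a000a0d0014400240000904001630023e400918000200026280098e000260009a800917000e1000d6c00970003a300245000972001df00213000825001df00235800035001ff0022800015b001df00056c008dc0002300056c008db0000000206c0083e001030020d00085c001c20022ec008bc0004600210c00883000810020a000850001c50022e4008bd000e300220400893001a500042c00871000e300205c008200006200202c0081e000000020bc0085f000c200018000823000a10021740089f001210022cc008730000400000000000)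
noncomputable def Tp5 : Nat := (nat_lit 0x1620028c000af9000020028f000b01003df0029340035f0000000280800ac5003460029c400b1600002002548009e60004200154400aa7003c0001468004fa0036500292000ad8003a0001ae800b28001a4001540009eb000430012c000a21002c0001148009ea003a2002b3800af300381002bb00065f000c4002594009f4002e600286c00abd0002600085c00906003df002c18006a6002e4002a0800a6c000410026f8009cd000a600284c00abe0006100296000a6900022000c2c00960003a5002a5c00b0700041000f98009d20028500107c009e80000000268400a5a00041002670009a10014400273400a390002500291800a4e0028400284000a73001640029e400af60010400286000ad9002e60019e8006b4003a2002ae400a70002e50027dc005f3002c10028340056e0014400253400959001630024f00098b00020000e340099000026000e2400988003bf00246c00970002640007a800901001df00204400064001df00225800057001e50003900015b001c000056c0015b001df00227c0015b000000021040087d001c2002390008e1001df00238c008d2001660022d8008d3001610020a00084f000c100204800827001c0002194008810002000045c008b5000e30020dc0084b0006100212000885000020020680083f000c200214400825000a10022c4008df0013f0021a4008b20000500000000000)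
noncomputable def Tp6 : Nat := (nat_lit 0x630024380097d000000028ec00b00003df002c3c0036700000002b2400aca000000029c800b19000830024a0009b4000a2002ab400b25003df002c240029300365002c2800b2e003a2002ac8006ba001a4002aa000ab40038200282c00612003a20025cc0096e003a0002bcc00acf00006002bb000aed000c400281800abc002e100266400a1b0002600241c0095e003c40019dc006a600184000f280097f0002000269400a60003bf002a9400abe001660029a4009c000022001184009fd000000025ec00a2b003a600298c00aa2000610015e8009ee0002500295c00a5b00025002a2c00a8d0000200278c00aac0000000266800a4e000e40025a400a0a00026000a38009240002200142000a620004200286400ae3003a00029c000aba002e00027dc00a1a00045001130009f3001860026440094d00180000fc80098b001860025680099000020000e280098c0018400246c009710026400240c0094e001df00015c0080a0016000215c00896000420020280080e00002002280008e0001df000390008dd000e2002114008820000300221c008d4001230020e00085e001c0002184008a40016000213400828000c6002184008a4001c50021fc008650010500045c008b5000e30021b800890000e10020e40084700001002200008d00016300204000825001030020580082b000250001e8008300002000001400800)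
noncomputable def Tp7 : Nat := (nat_lit 0x3df0028c00090e000220014ec00a8f003df002c200024e0000000293c00b0e00022000eb8009aa00020000f10009b5003bf002ba800b27003df002cb0003bf000830024140095b003a2002ca000b2b003bf002ad000a9e00381002cbc00b33003a20027d4005f3003a0001b8800b02002e100273c00a1f003a5002c9000abc002e1002b2800b0800020000c3400962001c400197800b020018400149800a310002500298400a65003a10027e400aa50016500299800a8700040002580009fc000000028b400af5003a2002a8800a65000450027ac00ab300181002a1800a8a00181002a3400a5b000460023980090e0002000291800a50002820029cc00a0a0002600249c009ad0004200286000ae20002500243000976003a1000c4400922002e6002aa8009f700321001a14005a80018100250c009930018600262c003ef001250023f800946000250026200098e003bf000e380097100163002318008e9001c00001900005700166002294008da000400000f40080e001df002380008de001c200056c000e4000410020200081b000260020ac0085a001230021c8008b4001c00022f8008ba0016200209c0084d000c100204c00813001c5002304008d2000410020d8000c8001a60021a0008900017f0021200084700000002200008d2000c2002040008100002600204000824000250002e8008640006600001400800)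
noncomputable def Tp8 : Nat := (nat_lit 0x1620024380090e000410028d400a3a003df002b280036600184002478004b0003a10029c800ab9003df002c28009b5003a1002ab800aea003df002b48004ce002a2000c5400905002e30015d800a20003a4002aa000a9e000230011fc00a0b003a00027d400a1b003a4001b84006e2002e10026a4009ce0002200231c008f70002100280800ac00002500257800964002e200259400540002e20029b000a310002000141c00a6100045000c280095d0016000299800a8900002002a2400b1f003a1002c3c00af5000220024e0009d800046002acc00ab5000000026f800a840019f00294800a8c0000000239c0090f00061002668009a40034500295000a73000260026b8009b2003bf00286000a62000250025e000a27003a500170000a70001640023e8002db00341002b5400ada001450023ac008eb0018500262c009df001810026400094600045002354001fc003a2000d080038e002a20024800094f00283000bfc00955001df00221c008da0004000202800064001600021e00088700186002150008a1001220020200080800026002170008a8001260022d00088100000002018008190016200215800896000c600218800862000050020b800831000000020d80086b000060020b4008330017f00222c0088a000e30020c4008590017f00213c00850000260020980085300026002190008690007f00001800800)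
noncomputable def Tp9 : Nat := (nat_lit 0x3df0009440090e003bf0028e800a8f003df002b240097d0018400266400a22003a5002ae400ad2003df002920003c3003a1002c9800b30003df00170000a2e002a000241400318002e3002ac800aee003a50028f800aa80002300176800adb003a0002ad800ae80002000146800a7a000000026a400a6e000210024e8009d5003bf0028ac00ac000021002afc00acd002e1002b3c006e2002e2002c5000afa0002000299400a67000450027e4009fc003c0002a9800b1e00022000adc0093e000020028b000af5003bf002a1000aa3003400029cc00a5600005002a1400a860018100270c00a520004500243800911000060024bc009ca000250023b8009230002500272000a91003a200142000a180028200289c005e1003a5002ae800ad1001640025000041e0004500171400ad5001450024680091a0018000277c009e0000000023f800946001610026200093900026000778008f8001210023bc0092000042000b7400955001df002174000df000060021000087a000020020f000878001630020980085400121002104008410006200208400846001c30022d00086d000000020700083f001c200233c008d6000c60022f4008bd000000020540082e001df0022380086a001a1002240008b8001620021280088a000e3002194008a70016200023c0084f0002100228c008e3000250002b4008580006000001400006)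
noncomputable def Tp10 : Nat := (nat_lit 0x3c000094400251003bf0014ec00b000000200280800ac7003c3002c4000b0c003df002ae400372003df002658009b4003a30018fc00aad003c2001338005c0002a000256c0046b003c3002cbc00b310000000274c00a9b00303001acc00b2800221000c600095100022000e4800996000650029a800a6f00025002a9000b22003bf0027e800af4000260024340097700041002b0c00ace00165002a0400b14001800029b000b14003df002c7c00ac2003c5002c7800aa5000020023f800947003a2002a4800af6003bf002908009be000250026c000a740018100291c00a850002500270c00a8a000410028d000a390000600272c00a9400025002494009ac00066002a4400a75003a2002b640061f0028500178400a2a003a5002ae000ad300164002784009ed000e100171400aba00181002504009e000026000784008fb00020000adc0093d00166000fa8004f100026000ae000939000210009200090a002c2000bfc00415001df0020ac0089a00006002200008cc000000020f000876000c2002098008260012100220800882000260020d000866001c50021b0008b4001c00023b4008d30000600225c008d6001df002290008b9000000020c400833001c60021300086a001a00022e0008ab001620022340088f00020000170008200016200037800899000000020e800874001a200042400858000c100007800801)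
noncomputable def Tp11 : Nat := (nat_lit 0x3bf0028ec00a930006100098c00913003c0002c3400b10003df0029c800257003df0024a0009e6003a3002c4400b26000220017ec00ae9002a00027c800a09000220012bc00a20003a000282800a9d0002600285800a17002a4002544009550002100292c00b0a00386002c8c00b150000200275800a9f003bf002be000abf000260025e800a29001840024c400986002e5002be800b1d00046000f28009ba003c2002a2400ac2000c600277400a7800062002774009e50002200271c00a90001640023c00090e00000002498009b000181002a1000a650004600230c008f00014400278800a4200006002a5400a980034100295000a77000660029e4009c6003a100289000ad9002810028a800a1900061002b4c00ad400164002aa800ab8000c4002570009f00002000051c008ca00026000af40094100020000b0800948001660010c0009db000260024ec003ec002a100253c00975000c100245400974001df00221c00070000e30020600081f0016200221c0087600162002150008980012200221800886001df00219800892001c60021fc0086c001c60023b0008ed001c600233c008d8001c50022f4008a4000020020540082f001df0021b400872001a60022ac008b7000e30020540082a000250020840008d0017f0020e400885000000020ec00875001a00021600010a0010600005400020)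
noncomputable def Tp12 : Nat := (nat_lit 0x3a00014ec00a3b0000000244c00985003c4002c3800b0d003df002c640034e003df002548009b70006400294c00b1100022001af000b30002a200256c009f100021002bc000b31003a1002a6c005c4002a500283800683002a4002798009ec0000000292c00b0c00381002c6000b2300066000eb0009a7003a60028b400abf000260028ac00af40018400274000a3d0002000134800a32000460026ec009bc00041002a0400a87000c6002a9400b1a000000023f400945003bf002bf400a90001640024a400981000c1000ad8009260000200274c00a9c000460023c4008f30019f0024fc0098f00025002314008f4003400029dc00a4c001a400271800a36003a000287400a24000000025e400a2a003a6002b5400ad6002e6002ae800ab8000c40027dc00aba00040002320001e50002600250800943000250025240094a000050024f0009db000450024e00093d002a30025d40094e00182000920008ef001df00229400045000e30020f00084a001c20022b8008cb00182002284008d900122002350008d4001c200213000866001c6002308008d2001c1002360008ec000020020b80085f001c2002290008be0000100219c008bd001c600224c0086d001a5002240008c0000e30020cc0085b0002100224c008950017f002110008740004500201400817000e300201000811000220000ec0080f)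
noncomputable def Tp13 : Nat := (nat_lit 0x3bf002b1000ac6000250023a000910002c30026d400a12003df0029c400305003df0029f4009e7003df002c440064e0002500155400aad001c10027c4009f1003c3002ccc00af0003a400177800a9b00081001a0c00ab1002a4002abc00ab6000820007a80090100382002c8800b18000660026a000a6a000260024640098900025002bd000af800184002a6800b03000200028cc00afb00181002974009bc0006100297000a6c003a100141800a180000000251c009e4003bf0028d40053a001640026f800a34001650027bc0065f0002600275000a9d000410026fc009c900181000e2c0093f00161002a6000a5e0034500293000a76001a6002bd800a36003440017fc00a1d000250025e400a28003260011fc00a08000c40027d800ab90006100285000a1c00181002638003fe000410025080094d000200023fc00949001660024f000957000260024000094b003bf0023d80094e0039f000d7000915001df00215c00811000e30021e80088e001df00232c000e4001df002390008d9001df002384008a1000000020a800856001df002288008c2001c0002358008d0000010022e8008ed001c60022f8008ba001df00219c0089100026002058008320000500212c0088c000e30021a0008aa0012600224c008720017f0020e800884000410020ec00870000e3002050008290004000009400803)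
noncomputable def Tp14 : Nat := (nat_lit 0x3bf002800009ff0002500244800982002c30029ec00adf003df002c58004570028400254800420003df002c9800b1b00025002ab800b26002a00027c4005c7001a300292400aef003a00028f8005de001e5001250009e9003a4002ba000b29002c3000e400095100386002c5c00b220000500275c00aa0003a6002b4000b040002500266400a45000e40027f800abb000020025f000a2d001850029b00052600025000e70009a2003a1002b9400b21001250023f4008fd003bf00139400a8e003bf00278800a34000200010c8009ef0002000076c008f6000250023c80092a000400024e00093f0017f00294000a96000410026d800a76001a5002bd800afd003bf00297c005ff00020000d7400973003a6002b68005da002e2002868009f60004500285000a15001a3000fb80098e00144002324008eb000200025280094c00125002324008c900045002320008ca00144002318008e90039f0025d000268001df0022200084f001c30021e80086a000050021d80087900003002268008d9001df00239400852001c10022a000866001df0021b0008e2001c6002340008d70016100008c00802000c60022f0008bc001c000213000867000260020d400867001a00023000088c001220022700086e000000020d40086a001600021100083a000410000d000806000e30020c000858001850004240010a)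
noncomputable def Tp15 : Nat := (nat_lit 0x3bf002b1c00ac50002500261400a38003df00292c00a7b003df0029ac005b30028400279c0057f0008100194800b1b000220017e400aea0002200282400ad7001a3002c2c00b32003a100283c00a3e002e60017cc00ae40022400286c00ad2002c3002658009e6003a0002af000b1700005002a8400b230014400231c008ea0000000266400a4d000c2000eb000931000410025f000980001850029ac00a830002500297000a5d00026002b9400ae60012500251c009e4003a00014e8004e5003bf0028e400aac0034100295400ab300020000acc00933000250026fc009c100180002644009d90016100272c00a500034100291000a7c0002500247800994003a0001418005ff003a20024240035b003a2001768006b3001e400242400966000c6002500009b9001bf0010d4009de001440023f00091a001810026300094a00061000adc008fe0012500252c009d9001440023d80091400383000d7000268001df0021180082800000002174008af00025002298008ac001df0022bc0089a0018600209400852001c2002220008a8001c20022880086c000060021f8008ce0002200200800809001c50022e8008bc0000000203000821000e10020d400835000000020500082d001250021b80089e000060021300088e001800021dc00855001250021bc0089d001a3000428008640002200042c008ad)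
noncomputable def T : Tr := (Tr.node (Tr.node (Tr.node (Tr.node (Tr.leaf Tp0) (Tr.leaf Tp8)) (Tr.node (Tr.leaf Tp4) (Tr.leaf Tp12))) (Tr.node (Tr.node (Tr.leaf Tp2) (Tr.leaf Tp10)) (Tr.node (Tr.leaf Tp6) (Tr.leaf Tp14)))) (Tr.node (Tr.node (Tr.node (Tr.leaf Tp1) (Tr.leaf Tp9)) (Tr.node (Tr.leaf Tp5) (Tr.leaf Tp13))) (Tr.node (Tr.node (Tr.leaf Tp3) (Tr.leaf Tp11)) (Tr.node (Tr.leaf Tp7) (Tr.leaf Tp15)))))
noncomputable def DTp0 : Nat := (nat_lit 0x500000000ae90000200000000a9a0000400000000a4f0000200000000a3a0000200000000a210000500000000a130000500000000a0600006000000009fa000050000000056c00001000000009d6000060000000053a00005000000009b900001000000009aa0000500000000505000050000000099a000010000000098d000030000000097e00005000000004ad00002000000009690000200000000961000010000000044100005000000003f20000000000000931000010000000092b00002000000009250000000000000921000050000000038b000050000000036a0000000000000342000060000000030a000050000000090100001000000008fa00001000000002ac000030000000027000001000000008e700001000000008ca00000000000001c2000050000000089f000020000000087e0000100000000864000050000000085c00005000000000e4000000000000084b00002000000008400000500000000837000010000000082d000020000000008f000010000000081a0000100000000814000050000000080b00001000000000400000500000000003)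
noncomputable def DTp1 : Nat := (nat_lit 0x200000000aee0000500000000a9c000000000000063f0000500000000a3b0000300000000a220000100000000a1600000000000005c000000000000005b300006000000009e900002000000009d700001000000009c6000000000000052600000000000009ab0000600000000505000050000000099b00001000000004f3000010000000097f00001000000004af000050000000096900005000000009610000300000000443000000000000094000000000000003e4000060000000092b00006000000009260000500000000921000010000000091a000010000000090e0000200000000342000010000000090700002000000002c600000000000008fb00001000000002ae000010000000027400006000000008e700000000000001e600005000000001c200001000000008a1000050000000087e0000200000000865000030000000085d0000000000000852000000000000084c000050000000084000001000000000c6000010000000082e000030000000008f000020000000081b0000600000000814000060000000080b00001000000000450000600000000011)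
noncomputable def DTp2 : Nat := (nat_lit 0xaef0000100000000a9f0000100000000a53000010000000063b0000100000000a2300000000000005e900002000000005c000001000000009fc000010000000057600001000000009d800005000000009c7000020000000052600002000000009ab0000100000000506000060000000099c0000200000000991000020000000097f00002000000004b0000020000000096a0000600000000961000050000000095b000020000000094400002000000003e400001000000003dc0000500000000927000010000000039b000020000000091a0000000000000910000020000000035b000050000000090700005000000002c600005000000008fb00001000000008f6000020000000028500000000000008e800006000000001e600001000000001c300002000000008a2000020000000087f000020000000086c00001000000001140000100000000853000020000000084c00003000000008410000100000000838000010000000082f0000100000000095000010000000081c0000100000000815000000000000080d0000000000000804000060000000001d)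
noncomputable def DTp3 : Nat := (nat_lit 0x200000000aef0000200000000aa00000500000000a640000100000000a3d0000100000000a2600005000000005e900006000000005c000000000000009fe000000000000057700002000000009d9000000000000053b000060000000052600001000000009ac000050000000050600000000000004fa000010000000099200005000000004d200002000000004b5000010000000096b00001000000009620000200000000445000010000000094500006000000003e4000000000000092c00000000000003bd000000000000039c000060000000091a0000100000000911000050000000035b000010000000030d000050000000090200005000000002bd00005000000008f6000010000000028800002000000008e800001000000001ea00005000000008c300006000000008a20000100000000883000000000000013000005000000001140000600000000855000050000000084c00000000000008420000600000000838000050000000082f0000000000000824000000000000081d0000500000000815000030000000005f00002000000008040000200000000023)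
noncomputable def DTp4 : Nat := (nat_lit 0x600000000aa40000100000000a670000100000000a3f0000200000000a290000100000000a1700006000000005c100005000000009ff00001000000009eb00001000000009da00000000000009ca00005000000009bd00002000000009ac0000600000000506000000000000099d0000000000000994000050000000098100002000000004c000006000000004850000600000000963000000000000045000006000000009450000100000000935000060000000092c00001000000003c3000060000000039c000010000000091c0000100000000912000030000000035c000060000000030d00002000000002d400001000000008fc00006000000008f6000010000000028900002000000008e900001000000008d500001000000008c400003000000008af00006000000008860000500000000130000010000000085e000010000000085600000000000000db0000000000000844000020000000083900000000000008300000000000000825000010000000081e000000000000081600001000000000630000500000000804000010000000002c)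
noncomputable def DTp5 : Nat := (nat_lit 0x100000000aa70000100000000a6a0000000000000a400000500000000a2b0000500000000a1800002000000005c200006000000009ff000050000000057a00000000000009dd00005000000009ca00006000000009bd00001000000009ae00006000000009a5000020000000099d000020000000099400000000000004e500001000000004c60000600000000486000010000000096400001000000004520000100000000947000020000000093600000000000003dd00002000000003c300005000000003a4000010000000091d0000200000000912000020000000090a000000000000030e00001000000002d700002000000008fc00006000000002b300000000000008ee0000300000000268000040000000020f00006000000008c400002000000008b100006000000001550000100000000131000060000000085e000010000000085700005000000000db0000200000000844000050000000083900001000000008310000100000000826000030000000081e0000200000000816000010000000006400006000000008040000000000000032)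
noncomputable def DTp6 : Nat := (nat_lit 0xaad0000100000000a6b0000000000000a410000100000000a2c00005000000005ec0000100000000a080000500000000a0000001000000009ec00005000000009dd00001000000009cb00006000000009be00000000000009af0000100000000507000050000000099d000060000000099400005000000004e500000000000004ca00005000000004890000100000000965000000000000095c0000500000000951000050000000093600005000000003dd000000000000092800001000000003a600005000000003900000100000000384000010000000035d000010000000031100006000000002e400006000000008fc00001000000008f700002000000008ee0000500000000268000010000000021100002000000008c600000000000001970000100000000896000000000000013f000010000000085f0000600000000858000060000000084d0000300000000844000060000000083900000000000008320000600000000827000060000000081e00005000000008160000000000000810000010000000004c0000200000000032)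
noncomputable def DTp7 : Nat := (nat_lit 0x100000000aae0000200000000a6d0000000000000a430000100000000a2d00005000000005ed00005000000005c70000600000000a00000020000000057d000050000000054c00002000000009cb00000000000009c000005000000009af0000500000000507000000000000099f000000000000099500001000000009820000000000000976000050000000048b0000600000000965000020000000095c0000100000000952000010000000093700006000000003dd000020000000092800001000000003a800001000000003920000100000000916000010000000090b000060000000031400000000000002e700006000000008fd00005000000008f7000000000000028e00001000000008ea000000000000021700006000000001db00005000000001970000000000000897000060000000013f00000000000008600000100000000859000010000000084e0000600000000844000010000000083a00002000000008320000600000000828000000000000081f0000100000000817000000000000081100000000000000500000600000000032)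
noncomputable def DTp8 : Nat := (nat_lit 0x6000000006790000600000000a6d0000600000000a450000600000000a2d0000300000000a1b0000100000000a090000100000000a0100001000000009ed000010000000055000005000000009cb00002000000009c000001000000009b10000000000000508000050000000099f000010000000099600002000000009820000200000000976000000000000048c0000500000000967000060000000095c000010000000095300006000000003e600001000000003df000060000000092800000000000003ac000000000000091e0000000000000917000000000000090c000050000000090800006000000002e700005000000002c000006000000002b4000010000000029700005000000008ea000060000000022400001000000008c70000100000000198000020000000089700006000000001420000600000000860000000000000085a000030000000084f0000100000000846000060000000083a00001000000008330000100000000829000020000000081f0000000000000082000020000000081100001000000008050000300000000034)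
noncomputable def DTp9 : Nat := (nat_lit 0xaaf0000200000000a710000000000000a480000300000000a2f00001000000005f800000000000005d00000600000000a0100000000000009f0000050000000055000005000000009cc00005000000009c000001000000009b200005000000009a600001000000009a000001000000004f800005000000009830000000000000977000050000000048c000050000000046b000060000000095d00001000000004110000100000000938000060000000092d00001000000003c800005000000003ac000020000000091e0000200000000917000020000000090c0000100000000328000050000000090400006000000002c000000000000008f800001000000008f0000020000000026a000010000000022e00005000000008c700000000000001a1000060000000089800001000000001440000000000000861000050000000085a000050000000084f0000500000000847000060000000083b00005000000000bc0000600000000829000050000000081f0000000000000818000050000000081100002000000008050000600000000034)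
noncomputable def DTp10 : Nat := (nat_lit 0x5000000006850000000000000a780000200000000a480000000000000a3100005000000005f800002000000005d90000500000000a0200002000000009f000001000000009e100001000000009d000000000000009c200002000000009b300000000000009a700005000000009a0000000000000099700000000000009840000200000000978000010000000096e000010000000046e000010000000095e0000500000000954000050000000093a000010000000092e00000000000003c90000500000000922000060000000091e0000500000000917000000000000090d000030000000032900005000000002e800006000000002c200002000000008f800001000000008f100000000000008eb000030000000024700006000000001e000006000000001a1000010000000089a00006000000001450000200000000861000010000000085b000060000000084f0000600000000847000010000000083c0000200000000834000010000000082a000060000000081f0000200000000818000060000000081100006000000008050000300000000035)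
noncomputable def DTp11 : Nat := (nat_lit 0xab2000030000000064e0000000000000a490000500000000a3200006000000005ff0000100000000a0b0000200000000a0300001000000005ac00005000000009e100006000000009d100006000000009c200001000000009b5000000000000050a00006000000009a100002000000009970000200000000984000020000000097a0000200000000495000050000000047e000010000000095f0000000000000418000010000000093b000000000000092f00005000000003c900001000000003ae000000000000091f0000100000000918000020000000090d000060000000032900004000000002f400001000000008ff00005000000008f800000000000008f2000020000000026c000060000000024700001000000008c800001000000001a5000010000000089b00001000000008760000500000000861000010000000010900006000000008510000600000000848000000000000083d0000500000000834000050000000082a00001000000008200000500000000818000010000000007000003000000008060000000000000038)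
noncomputable def DTp12 : Nat := (nat_lit 0x300000000ad200002000000006520000200000000a4a0000100000000a330000500000000a1e00002000000005de0000100000000a0400001000000009f400001000000009e200006000000009d200001000000009c300005000000009b6000060000000050a00006000000009a200001000000009980000500000000984000050000000097a00006000000004950000100000000968000060000000045e0000500000000955000020000000093c000020000000092f00005000000003ca0000000000000923000050000000091f0000500000000389000050000000090d000050000000032d000010000000030000005000000008ff00001000000008f900001000000002a8000050000000026c000010000000024900000000000008c900000000000008b6000000000000015b000020000000087a0000000000000862000060000000010900001000000000de0000100000000849000060000000083d0000300000000835000000000000082b00001000000008210000600000000818000020000000081200006000000008060000600000000038)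
noncomputable def DTp13 : Nat := (nat_lit 0xad80000200000000a810000300000000a4b0000600000000a350000500000000a1f00005000000005de0000500000000a0500005000000009f8000010000000055400001000000009d300006000000009c300001000000009b700001000000009a800006000000009a300002000000009980000000000000986000050000000097b00001000000004aa00002000000004810000500000000960000000000000041e000010000000093e000050000000092f0000000000000929000000000000092400001000000003980000500000000919000000000000036600002000000009090000200000000303000050000000090000006000000002b500001000000008f3000060000000026c000010000000024a00002000000008c900002000000008b6000020000000015b000060000000087b0000200000000862000060000000010a00000000000000e30000600000000849000020000000083e0000500000000835000020000000082b00001000000008220000100000000819000050000000081200001000000008090000100000000803)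
noncomputable def DTp14 : Nat := (nat_lit 0x200000000ad80000100000000a880000300000000a4d0000000000000a370000100000000a200000500000000a0f0000000000000a0600001000000009f9000000000000055500005000000009d300002000000009c500005000000009b800005000000009a800005000000009a40000600000000998000060000000098700002000000004ce000000000000096f00006000000004820000100000000462000060000000041f00001000000003ee0000500000000930000050000000092900005000000009240000200000000398000060000000038a000020000000036600005000000009090000000000000906000010000000090100006000000002b600006000000008f4000010000000026e000000000000025100006000000008c900001000000001ba000050000000015b000010000000087c0000500000000862000010000000085c00002000000000e3000010000000084a000010000000083f000000000000083700000000000000b400006000000008220000300000000819000060000000081200000000000000570000300000000803)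
noncomputable def DTp15 : Nat := (nat_lit 0x200000000adb0000500000000a880000600000000a4d0000500000000a3700001000000006120000100000000a120000200000000a0600005000000009fa00001000000009e600005000000009d5000010000000053a00000000000009b900006000000009a9000020000000050500003000000009990000500000000989000020000000097d000060000000096f00000000000009690000000000000961000020000000095700006000000003f10000600000000930000060000000092a0000100000000925000010000000039a000010000000038b000000000000036a00001000000003410000500000000906000030000000090100005000000002b700001000000008f5000010000000026f00005000000008e600006000000001e200003000000001bc000030000000089f000000000000087e0000100000000863000020000000085c00002000000000e4000050000000084a00000000000008400000200000000837000060000000082c000000000000008f00006000000008190000600000000813000010000000080b0000500000000803)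
noncomputable def DT : Tr := (Tr.node (Tr.node (Tr.node (Tr.node (Tr.leaf DTp0) (Tr.leaf DTp8)) (Tr.node (Tr.leaf DTp4) (Tr.leaf DTp12))) (Tr.node (Tr.node (Tr.leaf DTp2) (Tr.leaf DTp10)) (Tr.node (Tr.leaf DTp6) (Tr.leaf DTp14)))) (Tr.node (Tr.node (Tr.node (Tr.leaf DTp1) (Tr.leaf DTp9)) (Tr.node (Tr.leaf DTp5) (Tr.leaf DTp13))) (Tr.node (Tr.node (Tr.leaf DTp3) (Tr.leaf DTp11)) (Tr.node (Tr.leaf DTp7) (Tr.leaf DTp15)))))
noncomputable def s0 (t : Scr) : Scr := (Scr.cons (nat_lit 17) (nat_lit 1) (Step.L (Step.L (Step.D (nat_lit 0) Step.done))) (Scr.cons (nat_lit 55) (nat_lit 3) (Step.L (Step.L (Step.L (Step.D (nat_lit 0) Step.done)))) (Scr.cons (nat_lit 57) (nat_lit 0) (Step.L (Step.D (nat_lit 0) (Step.F (nat_lit 7) (Step.L (Step.L (Step.L (Step.L (Step.L (Step.L (Step.L (Step.L (Step.L (Step.L (Step.L (Step.B (nat_lit 7) Step.done))))))))))))))) (Scr.cons (nat_lit 0) (nat_lit 0) (Step.B (nat_lit 6) (Step.F (nat_lit 8) Step.done)) (Scr.cons (nat_lit 23) (nat_lit 1) (Step.L (Step.L (Step.L (Step.L (Step.D (nat_lit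 1) Step.done))))) (Scr.cons (nat_lit 57) (nat_lit 2) (Step.L (Step.L (Step.D (nat_lit 1) (Step.F (nat_lit 10) (Step.L (Step.L (Step.L (Step.L (Step.L (Step.L (Step.L (Step.L (Step.L (Step.L Step.done)))))))))))))) (Scr.cons (nat_lit 19) (nat_lit 1) (Step.L (Step.D (nat_lit 3) (Step.D (nat_lit 15) Step.done))) (Scr.cons (nat_lit 8) (nat_lit 1) (Step.L (Step.L (Step.D (nat_lit 3) Step.done))) (Scr.cons (nat_lit 56) (nat_lit 3) (Step.L (Step.L (Step.L (Step.L (Step.L (Step.L (Step.L (Step.L (Step.L (Step.L (Step.B (nat_lit 12) (Step.U (nat_lit 15) (Step.F (nat_lit 13) (Step.L (Step.L (Step.L (Step.L (Step.L (Step.L Step.done))))))))))))))))))) (Scr.cons (nat_lit 24) (nat_lit 1) (Step.L (Step.L (Step.D (nat_lit 173) Step.done))) (Scr.cons (nat_lit 11) (nat_lit 0) (Step.U (nat_lit 113) (Step.L (Step.D (nat_lit 178) Step.done))) (Scr.cons (nat_lit 55) (nat_lit 2) (Step.L (Step.L (Step.D (nat_lit 56) (Step.D (nat_lit 115) Step.done)))) (Scr.cons (nat_lit 22) (nat_lit 0) (Step.L (Step.L (Step.D (nat_lit 148) Step.done)))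 (Scr.cons (nat_lit 55) (nat_lit 3) (Step.U (nat_lit 149) (Step.D (nat_lit 148) (Step.F (nat_lit 18) (Step.D (nat_lit 179) Step.done)))) (Scr.cons (nat_lit 31) (nat_lit 2) (Step.F (nat_lit 19) (Step.U (nat_lit 149) (Step.L (Step.L (Step.L (Step.L (Step.L (Step.L (Step.L (Step.L (Step.L (Step.L (Step.L (Step.B (nat_lit 17) Step.done)))))))))))))) (Scr.cons (nat_lit 18) (nat_lit 0) (Step.U (nat_lit 105) (Step.L (Step.B (nat_lit 17) (Step.F (nat_lit 20) (Step.U (nat_lit 179) (Step.D (nat_lit 178) Step.done)))))) (Scr.cons (nat_lit 18) (nat_lit 0) (Step.L (Step.L (Step.D (nat_lit 4) (Step.D (nat_lit 20) (Step.D (nat_lit 48) Step.done))))) (Scr.cons (nat_lit 17) (nat_lit 0) (Step.L (Step.B (nat_lit 22) (Step.D (nat_lit 100) Step.done))) (Scr.cons (nat_lit 55) (nat_lit 3) (Step.F (nat_lit 23) (Step.L (Step.L (Step.D (nat_lit 105) Step.done)))) (Scr.cons (nat_lit 18) (nat_lit 0) (Step.L (Step.L (Step.D (nat_lit 17) (Step.D (nat_lit 41) (Step.D (nat_lit 88) Step.done))))) (Scr.cons (nat_lit 19) (nat_lit 1) (Step.L (Step.L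 (Step.B (nat_lit 25) Step.done))) (Scr.cons (nat_lit 8) (nat_lit 1) (Step.F (nat_lit 26) (Step.L (Step.L Step.done))) (Scr.cons (nat_lit 11) (nat_lit 0) (Step.U (nat_lit 4) (Step.L (Step.D (nat_lit 17) Step.done))) (Scr.cons (nat_lit 20) (nat_lit 1) (Step.U (nat_lit 20) (Step.B (nat_lit 28) (Step.D (nat_lit 41) Step.done))) (Scr.cons (nat_lit 11) (nat_lit 0) (Step.U (nat_lit 48) (Step.B (nat_lit 29) (Step.D (nat_lit 88) Step.done))) (Scr.cons (nat_lit 10) (nat_lit 0) (Step.F (nat_lit 27) (Step.F (nat_lit 30) (Step.D (nat_lit 100) Step.done))) (Scr.cons (nat_lit 25) (nat_lit 1) (Step.F (nat_lit 24) (Step.F (nat_lit 31) (Step.D (nat_lit 173) Step.done))) (Scr.cons (nat_lit 3) (nat_lit 0) (Step.B (nat_lit 16) (Step.F (nat_lit 21) (Step.B (nat_lit 32) Step.done))) (Scr.cons (nat_lit 2) (nat_lit 0) (Step.B (nat_lit 15) (Step.F (nat_lit 33) Step.done)) (Scr.cons (nat_lit 9) (nat_lit 1) (Step.L (Step.L (Step.B (nat_lit 34) (Step.U (nat_lit 113) (Step.L Step.done))))) (Scr.cons (nat_lit 9) (nat_lit 1) (Step.U (nat_lit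 93) (Step.U (nat_lit 43) (Step.L (Step.L (Step.D (nat_lit 159) Step.done))))) (Scr.cons (nat_lit 11) (nat_lit 1) (Step.U (nat_lit 177) (Step.B (nat_lit 36) (Step.D (nat_lit 223) Step.done))) (Scr.cons (nat_lit 11) (nat_lit 0) (Step.U (nat_lit 22) (Step.L (Step.D (nat_lit 43) Step.done))) (Scr.cons (nat_lit 23) (nat_lit 0) (Step.U (nat_lit 16) (Step.L (Step.L (Step.L (Step.D (nat_lit 36) Step.done))))) (Scr.cons (nat_lit 22) (nat_lit 0) (Step.U (nat_lit 38) (Step.B (nat_lit 39) (Step.D (nat_lit 83) Step.done))) (Scr.cons (nat_lit 23) (nat_lit 1) (Step.U (nat_lit 163) (Step.U (nat_lit 85) (Step.B (nat_lit 40) (Step.D (nat_lit 162) (Step.D (nat_lit 227) Step.done))))) (Scr.cons (nat_lit 8) (nat_lit 1) (Step.U (nat_lit 58) (Step.D (nat_lit 57) (Step.D (nat_lit 116) Step.done))) (Scr.cons (nat_lit 17) (nat_lit 1) (Step.U (nat_lit 59) (Step.D (nat_lit 57) (Step.D (nat_lit 117) Step.done))) (Scr.cons (nat_lit 17) (nat_lit 0) (Step.U (nat_lit 5) (Step.L (Step.D (nat_lit 23) Step.done))) (Scr.cons (nat_lit 18) (nat_lit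 1) (Step.U (nat_lit 59) (Step.U (nat_lit 24) (Step.B (nat_lit 44) (Step.D (nat_lit 55) (Step.D (nat_lit 112) Step.done))))) t))))))))))))))))))))))))))))))))))))))))
noncomputable def s1 (t : Scr) : Scr := (Scr.cons (nat_lit 9) (nat_lit 1) (Step.L (Step.L (Step.L (Step.L (Step.D (nat_lit 6) Step.done))))) (Scr.cons (nat_lit 30) (nat_lit 0) (Step.U (nat_lit 111) (Step.U (nat_lit 55) (Step.U (nat_lit 23) (Step.L (Step.D (nat_lit 6) (Step.F (nat_lit 46) (Step.L (Step.L (Step.L (Step.L (Step.L (Step.L (Step.L (Step.L (Step.L (Step.L (Step.L (Step.L (Step.D (nat_lit 157) Step.done))))))))))))))))))) (Scr.cons (nat_lit 19) (nat_lit 1) (Step.F (nat_lit 47) (Step.U (nat_lit 111) (Step.D (nat_lit 112) Step.done))) (Scr.cons (nat_lit 18) (nat_lit 0) (Step.L (Step.L (Step.L (Step.L (Step.D (nat_lit 156) Step.done))))) (Scr.cons (nat_lit 17) (nat_lit 1) (Step.B (nat_lit 47) (Step.U (nat_lit 157) (Step.B (nat_lit 49) Step.done))) (Scr.cons (nat_lit 11) (nat_lit 1) (Step.U (nat_lit 35) (Step.L (Step.D (nat_lit 81) Step.done)))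 (Scr.cons (nat_lit 54) (nat_lit 2) (Step.L (Step.L (Step.L (Step.L (Step.L (Step.L (Step.L (Step.D (nat_lit 35) Step.done)))))))) (Scr.cons (nat_lit 9) (nat_lit 0) (Step.F (nat_lit 51) (Step.F (nat_lit 52) (Step.L (Step.L (Step.D (nat_lit 37) Step.done))))) (Scr.cons (nat_lit 11) (nat_lit 0) (Step.U (nat_lit 16) (Step.L (Step.D (nat_lit 37) Step.done))) (Scr.cons (nat_lit 9) (nat_lit 0) (Step.U (nat_lit 16) (Step.L (Step.L (Step.L (Step.D (nat_lit 16) Step.done))))) (Scr.cons (nat_lit 54) (nat_lit 0) (Step.U (nat_lit 79) (Step.D (nat_lit 81) (Step.B (nat_lit 53) (Step.F (nat_lit 54) (Step.F (nat_lit 55) (Step.B (nat_lit 54) (Step.F (nat_lit 53) (Step.U (nat_lit 81) (Step.D (nat_lit 80) Step.done))))))))) (Scr.cons (nat_lit 2) (nat_lit 0) (Step.D (nat_lit 80) (Step.F (nat_lit 56) Step.done)) (Scr.cons (nat_lit 19) (nat_lit 1) (Step.L (Step.B (nat_lit 57) (Step.D (nat_lit 153) Step.done))) (Scr.cons (nat_lit 56) (nat_lit 3) (Step.D (nat_lit 117) (Step.F (nat_lit 43) (Step.B (nat_lit 45) (Step.F (nat_lit 48) (Step.F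 (nat_lit 47) (Step.B (nat_lit 50) (Step.U (nat_lit 156) (Step.B (nat_lit 58) (Step.U (nat_lit 153) (Step.U (nat_lit 79) (Step.L (Step.L (Step.L (Step.L (Step.L (Step.L (Step.L (Step.D (nat_lit 30) (Step.D (nat_lit 68) (Step.D (nat_lit 133) Step.done)))))))))))))))))))) (Scr.cons (nat_lit 2) (nat_lit 0) (Step.D (nat_lit 133) (Step.F (nat_lit 59) (Step.D (nat_lit 116) Step.done))) (Scr.cons (nat_lit 0) (nat_lit 0) (Step.B (nat_lit 42) (Step.F (nat_lit 60) (Step.D (nat_lit 132) Step.done))) (Scr.cons (nat_lit 0) (nat_lit 0) (Step.D (nat_lit 132) (Step.F (nat_lit 61) Step.done)) (Scr.cons (nat_lit 7) (nat_lit 1) (Step.U (nat_lit 119) (Step.F (nat_lit 62) (Step.U (nat_lit 68) (Step.U (nat_lit 30) (Step.L (Step.L (Step.D (nat_lit 16) (Step.D (nat_lit 38) (Step.D (nat_lit 85) Step.done))))))))) (Scr.cons (nat_lit 9) (nat_lit 0) (Step.U (nat_lit 61) (Step.U (nat_lit 25) (Step.D (nat_lit 24) (Step.D (nat_lit 58) (Step.D (nat_lit 119) Step.done))))) (Scr.cons (nat_lit 8) (nat_lit 0) (Step.F (nat_lit 63) (Step.F (nat_lit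 64) (Step.D (nat_lit 123) Step.done))) (Scr.cons (nat_lit 24) (nat_lit 1) (Step.U (nat_lit 163) (Step.B (nat_lit 65) (Step.D (nat_lit 205) Step.done))) (Scr.cons (nat_lit 8) (nat_lit 1) (Step.U (nat_lit 19) (Step.D (nat_lit 18) (Step.D (nat_lit 44) Step.done))) (Scr.cons (nat_lit 22) (nat_lit 1) (Step.U (nat_lit 47) (Step.B (nat_lit 67) (Step.D (nat_lit 95) Step.done))) (Scr.cons (nat_lit 24) (nat_lit 1) (Step.U (nat_lit 26) (Step.D (nat_lit 25) (Step.D (nat_lit 63) Step.done))) (Scr.cons (nat_lit 9) (nat_lit 1) (Step.U (nat_lit 128) (Step.U (nat_lit 64) (Step.B (nat_lit 69) (Step.D (nat_lit 126) (Step.D (nat_lit 208) Step.done))))) (Scr.cons (nat_lit 8) (nat_lit 1) (Step.U (nat_lit 128) (Step.D (nat_lit 127) (Step.D (nat_lit 210) Step.done))) (Scr.cons (nat_lit 25) (nat_lit 1) (Step.U (nat_lit 49) (Step.B (nat_lit 29) (Step.D (nat_lit 89) Step.done))) (Scr.cons (nat_lit 11) (nat_lit 0) (Step.U (nat_lit 101) (Step.B (nat_lit 72) (Step.D (nat_lit 167) Step.done))) (Scr.cons (nat_lit 17) (nat_lit 1) (Step.L (Step.D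 (nat_lit 11) (Step.D (nat_lit 32) Step.done))) (Scr.cons (nat_lit 55) (nat_lit 2) (Step.U (nat_lit 33) (Step.D (nat_lit 32) (Step.F (nat_lit 74) (Step.L Step.done)))) (Scr.cons (nat_lit 18) (nat_lit 1) (Step.U (nat_lit 147) (Step.U (nat_lit 76) (Step.B (nat_lit 75) (Step.L (Step.D (nat_lit 149) Step.done))))) (Scr.cons (nat_lit 23) (nat_lit 0) (Step.B (nat_lit 76) (Step.B (nat_lit 19) (Step.B (nat_lit 20) (Step.U (nat_lit 115) (Step.D (nat_lit 114) Step.done))))) (Scr.cons (nat_lit 8) (nat_lit 1) (Step.U (nat_lit 53) (Step.D (nat_lit 52) (Step.D (nat_lit 106) Step.done))) (Scr.cons (nat_lit 23) (nat_lit 0) (Step.U (nat_lit 76) (Step.U (nat_lit 33) (Step.D (nat_lit 31) (Step.D (nat_lit 74) (Step.D (nat_lit 142) Step.done))))) (Scr.cons (nat_lit 22) (nat_lit 1) (Step.U (nat_lit 74) (Step.D (nat_lit 71) (Step.D (nat_lit 138) Step.done))) (Scr.cons (nat_lit 17) (nat_lit 1) (Step.U (nat_lit 73) (Step.D (nat_lit 71) (Step.D (nat_lit 137) Step.done))) (Scr.cons (nat_lit 55) (nat_lit 2) (Step.U (nat_lit 138) (Step.D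 (nat_lit 137) (Step.F (nat_lit 81) (Step.D (nat_lit 141) Step.done)))) (Scr.cons (nat_lit 24) (nat_lit 1) (Step.U (nat_lit 74) (Step.D (nat_lit 72) (Step.D (nat_lit 139) Step.done))) (Scr.cons (nat_lit 8) (nat_lit 0) (Step.U (nat_lit 11) (Step.L (Step.D (nat_lit 30) Step.done))) (Scr.cons (nat_lit 9) (nat_lit 1) (Step.U (nat_lit 72) (Step.U (nat_lit 31) (Step.B (nat_lit 84) (Step.D (nat_lit 68) (Step.D (nat_lit 133) Step.done))))) t))))))))))))))))))))))))))))))))))))))))
noncomputable def s2 (t : Scr) : Scr := (Scr.cons (nat_lit 7) (nat_lit 0) (Step.U (nat_lit 57) (Step.U (nat_lit 24) (Step.U (nat_lit 5) (Step.L (Step.L (Step.L (Step.D (nat_lit 11) (Step.D (nat_lit 31) (Step.D (nat_lit 71) Step.done))))))))) (Scr.cons (nat_lit 1) (nat_lit 0) (Step.B (nat_lit 85) (Step.F (nat_lit 59) (Step.B (nat_lit 86) Step.done))) (Scr.cons (nat_lit 6) (nat_lit 0) (Step.U (nat_lit 139) (Step.B (nat_lit 87) (Step.D (nat_lit 138) Step.done))) (Scr.cons (nat_lit 2) (nat_lit 0) (Step.B (nat_lit 83) (Step.B (nat_lit 88) Step.done))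 (Scr.cons (nat_lit 19) (nat_lit 1) (Step.F (nat_lit 82) (Step.F (nat_lit 89) (Step.D (nat_lit 143) Step.done))) (Scr.cons (nat_lit 25) (nat_lit 1) (Step.U (nat_lit 21) (Step.B (nat_lit 28) (Step.D (nat_lit 42) Step.done))) (Scr.cons (nat_lit 20) (nat_lit 1) (Step.U (nat_lit 51) (Step.B (nat_lit 91) (Step.D (nat_lit 91) Step.done))) (Scr.cons (nat_lit 11) (nat_lit 0) (Step.U (nat_lit 104) (Step.B (nat_lit 92) (Step.D (nat_lit 170) Step.done))) (Scr.cons (nat_lit 8) (nat_lit 0) (Step.F (nat_lit 50) (Step.U (nat_lit 111) (Step.D (nat_lit 110) Step.done))) (Scr.cons (nat_lit 19) (nat_lit 0) (Step.F (nat_lit 94) (Step.F (nat_lit 49) (Step.D (nat_lit 158) Step.done))) (Scr.cons (nat_lit 9) (nat_lit 1) (Step.L (Step.L (Step.L (Step.L (Step.D (nat_lit 158) Step.done))))) (Scr.cons (nat_lit 55) (nat_lit 2) (Step.L (Step.B (nat_lit 25) (Step.B (nat_lit 27) (Step.D (nat_lit 173) Step.done)))) (Scr.cons (nat_lit 31) (nat_lit 0) (Step.B (nat_lit 95) (Step.F (nat_lit 96) (Step.D (nat_lit 173) (Step.F (nat_lit 97) (Step.L (Step.L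 (Step.L (Step.L (Step.L (Step.L (Step.D (nat_lit 17) (Step.D (nat_lit 42) (Step.D (nat_lit 91) (Step.D (nat_lit 170) Step.done)))))))))))))) (Scr.cons (nat_lit 10) (nat_lit 0) (Step.U (nat_lit 5) (Step.L (Step.D (nat_lit 11) Step.done))) (Scr.cons (nat_lit 20) (nat_lit 1) (Step.F (nat_lit 44) (Step.B (nat_lit 99) (Step.D (nat_lit 32) Step.done))) (Scr.cons (nat_lit 11) (nat_lit 0) (Step.U (nat_lit 55) (Step.B (nat_lit 100) (Step.D (nat_lit 75) Step.done))) (Scr.cons (nat_lit 10) (nat_lit 0) (Step.U (nat_lit 110) (Step.B (nat_lit 101) (Step.D (nat_lit 144) Step.done))) (Scr.cons (nat_lit 25) (nat_lit 0) (Step.B (nat_lit 93) (Step.F (nat_lit 98) (Step.B (nat_lit 102) Step.done))) (Scr.cons (nat_lit 55) (nat_lit 3) (Step.U (nat_lit 45) (Step.U (nat_lit 18) (Step.D (nat_lit 21) (Step.D (nat_lit 51) Step.done)))) (Scr.cons (nat_lit 23) (nat_lit 1) (Step.F (nat_lit 103) (Step.U (nat_lit 104) (Step.F (nat_lit 104) (Step.D (nat_lit 96) (Step.D (nat_lit 184) Step.done))))) (Scr.cons (nat_lit 7) (nat_lit 1) (Step.F (nat_lit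 105) (Step.U (nat_lit 144) (Step.U (nat_lit 75) (Step.F (nat_lit 74) (Step.L (Step.L (Step.L (Step.L (Step.D (nat_lit 171) Step.done))))))))) (Scr.cons (nat_lit 22) (nat_lit 0) (Step.F (nat_lit 106) (Step.U (nat_lit 184) (Step.D (nat_lit 183) Step.done))) (Scr.cons (nat_lit 57) (nat_lit 1) (Step.F (nat_lit 103) (Step.U (nat_lit 104) (Step.U (nat_lit 51) (Step.U (nat_lit 21) (Step.U (nat_lit 4) (Step.L (Step.L (Step.L (Step.L (Step.L (Step.L (Step.D (nat_lit 105) (Step.F (nat_lit 24) (Step.D (nat_lit 192) Step.done)))))))))))))) (Scr.cons (nat_lit 18) (nat_lit 0) (Step.U (nat_lit 75) (Step.U (nat_lit 32) (Step.D (nat_lit 31) (Step.D (nat_lit 73) (Step.D (nat_lit 140) Step.done))))) (Scr.cons (nat_lit 17) (nat_lit 1) (Step.F (nat_lit 108) (Step.U (nat_lit 144) (Step.B (nat_lit 109) Step.done))) (Scr.cons (nat_lit 17) (nat_lit 1) (Step.U (nat_lit 20) (Step.D (nat_lit 18) (Step.D (nat_lit 45) Step.done))) (Scr.cons (nat_lit 7) (nat_lit 0) (Step.F (nat_lit 81) (Step.D (nat_lit 140) (Step.F (nat_lit 110) (Step.U (nat_lit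 192) (Step.U (nat_lit 100) (Step.U (nat_lit 48) (Step.B (nat_lit 111) (Step.D (nat_lit 96) (Step.D (nat_lit 183) Step.done))))))))) (Scr.cons (nat_lit 55) (nat_lit 3) (Step.U (nat_lit 137) (Step.U (nat_lit 71) (Step.D (nat_lit 74) (Step.D (nat_lit 143) Step.done)))) (Scr.cons (nat_lit 23) (nat_lit 1) (Step.U (nat_lit 172) (Step.D (nat_lit 171) (Step.B (nat_lit 107) (Step.F (nat_lit 112) (Step.B (nat_lit 113) Step.done))))) (Scr.cons (nat_lit 22) (nat_lit 1) (Step.L (Step.L (Step.D (nat_lit 172) Step.done))) (Scr.cons (nat_lit 5) (nat_lit 0) (Step.B (nat_lit 97) (Step.F (nat_lit 33) Step.done)) (Scr.cons (nat_lit 22) (nat_lit 1) (Step.L (Step.D (nat_lit 94) (Step.D (nat_lit 181) Step.done))) (Scr.cons (nat_lit 55) (nat_lit 2) (Step.L (Step.L (Step.D (nat_lit 94) (Step.D (nat_lit 181) Step.done)))) (Scr.cons (nat_lit 18) (nat_lit 1) (Step.U (nat_lit 54) (Step.U (nat_lit 22) (Step.L (Step.L (Step.L Step.done))))) (Scr.cons (nat_lit 17) (nat_lit 1) (Step.U (nat_lit 54) (Step.D (nat_lit 52) (Step.D (nat_lit 107) Step.done)))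 (Scr.cons (nat_lit 30) (nat_lit 2) (Step.U (nat_lit 142) (Step.B (nat_lit 80) (Step.B (nat_lit 82) (Step.B (nat_lit 90) (Step.F (nat_lit 114) (Step.F (nat_lit 115) (Step.B (nat_lit 116) (Step.F (nat_lit 34) (Step.L (Step.B (nat_lit 117) (Step.F (nat_lit 118) (Step.L (Step.L (Step.L (Step.L (Step.L (Step.F (nat_lit 119) (Step.B (nat_lit 120) (Step.U (nat_lit 107) (Step.D (nat_lit 106) Step.done)))))))))))))))))))) (Scr.cons (nat_lit 6) (nat_lit 0) (Step.B (nat_lit 79) (Step.B (nat_lit 121) Step.done)) (Scr.cons (nat_lit 55) (nat_lit 4) (Step.U (nat_lit 109) (Step.B (nat_lit 78) (Step.F (nat_lit 122) (Step.D (nat_lit 147) (Step.B (nat_lit 77) Step.done))))) (Scr.cons (nat_lit 6) (nat_lit 0) (Step.B (nat_lit 77) (Step.F (nat_lit 123) Step.done)) (Scr.cons (nat_lit 23) (nat_lit 0) (Step.U (nat_lit 22) (Step.L (Step.D (nat_lit 4) (Step.D (nat_lit 21) (Step.D (nat_lit 50) Step.done))))) t))))))))))))))))))))))))))))))))))))))))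
noncomputable def s3 (t : Scr) : Scr := (Scr.cons (nat_lit 24) (nat_lit 0) (Step.U (nat_lit 53) (Step.B (nat_lit 125) (Step.D (nat_lit 103) Step.done))) (Scr.cons (nat_lit 9) (nat_lit 1) (Step.U (nat_lit 53) (Step.U (nat_lit 22) (Step.L (Step.D (nat_lit 22) (Step.D (nat_lit 53) Step.done))))) (Scr.cons (nat_lit 57) (nat_lit 1) (Step.F (nat_lit 126) (Step.F (nat_lit 127) (Step.D (nat_lit 109) (Step.F (nat_lit 124) (Step.B (nat_lit 76) (Step.U (nat_lit 149) (Step.L (Step.L (Step.L (Step.L (Step.D (nat_lit 17) (Step.D (nat_lit 41) (Step.D (nat_lit 89) (Step.D (nat_lit 167) Step.done)))))))))))))) (Scr.cons (nat_lit 55) (nat_lit 0) (Step.B (nat_lit 124) (Step.U (nat_lit 109) (Step.B (nat_lit 126) (Step.B (nat_lit 128) Step.done)))) (Scr.cons (nat_lit 25) (nat_lit 1) (Step.U (nat_lit 26) (Step.B (nat_lit 99) (Step.D (nat_lit 33) Step.done))) (Scr.cons (nat_lit 11) (nat_lit 0) (Step.U (nat_lit 64) (Step.B (nat_lit 130) (Step.D (nat_lit 76) Step.done))) (Scr.cons (nat_lit 20) (nat_lit 1) (Step.U (nat_lit 129) (Step.B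 (nat_lit 131) (Step.D (nat_lit 147) Step.done))) (Scr.cons (nat_lit 10) (nat_lit 1) (Step.B (nat_lit 73) (Step.F (nat_lit 129) (Step.F (nat_lit 132) Step.done))) (Scr.cons (nat_lit 17) (nat_lit 0) (Step.U (nat_lit 127) (Step.D (nat_lit 129) (Step.F (nat_lit 133) Step.done))) (Scr.cons (nat_lit 19) (nat_lit 0) (Step.U (nat_lit 193) (Step.F (nat_lit 134) (Step.D (nat_lit 210) Step.done))) (Scr.cons (nat_lit 55) (nat_lit 2) (Step.U (nat_lit 46) (Step.D (nat_lit 45) (Step.F (nat_lit 111) (Step.D (nat_lit 49) Step.done)))) (Scr.cons (nat_lit 22) (nat_lit 1) (Step.U (nat_lit 21) (Step.D (nat_lit 18) (Step.D (nat_lit 46) Step.done))) (Scr.cons (nat_lit 17) (nat_lit 1) (Step.F (nat_lit 136) (Step.F (nat_lit 137) (Step.D (nat_lit 51) Step.done))) (Scr.cons (nat_lit 24) (nat_lit 1) (Step.U (nat_lit 21) (Step.D (nat_lit 19) (Step.D (nat_lit 47) Step.done))) (Scr.cons (nat_lit 9) (nat_lit 1) (Step.U (nat_lit 103) (Step.U (nat_lit 50) (Step.B (nat_lit 139) (Step.D (nat_lit 98) (Step.D (nat_lit 189) Step.done))))) (Scr.cons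 (nat_lit 22) (nat_lit 0) (Step.F (nat_lit 126) (Step.B (nat_lit 78) (Step.F (nat_lit 122) (Step.D (nat_lit 145) Step.done)))) (Scr.cons (nat_lit 0) (nat_lit 0) (Step.D (nat_lit 145) (Step.F (nat_lit 141) Step.done)) (Scr.cons (nat_lit 22) (nat_lit 1) (Step.U (nat_lit 12) (Step.D (nat_lit 11) (Step.D (nat_lit 33) Step.done))) (Scr.cons (nat_lit 23) (nat_lit 1) (Step.U (nat_lit 7) (Step.L (Step.L (Step.L (Step.D (nat_lit 12) Step.done))))) (Scr.cons (nat_lit 22) (nat_lit 1) (Step.U (nat_lit 7) (Step.D (nat_lit 5) (Step.D (nat_lit 26) Step.done))) (Scr.cons (nat_lit 18) (nat_lit 1) (Step.U (nat_lit 187) (Step.U (nat_lit 97) (Step.B (nat_lit 136) (Step.D (nat_lit 101) (Step.F (nat_lit 134) Step.done))))) (Scr.cons (nat_lit 7) (nat_lit 1) (Step.F (nat_lit 140) (Step.F (nat_lit 142) (Step.U (nat_lit 76) (Step.F (nat_lit 143) (Step.F (nat_lit 144) (Step.B (nat_lit 145) (Step.D (nat_lit 64) (Step.D (nat_lit 127) (Step.F (nat_lit 146) Step.done))))))))) (Scr.cons (nat_lit 17) (nat_lit 0) (Step.U (nat_lit 185) (Step.D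 (nat_lit 187) (Step.F (nat_lit 147) Step.done))) (Scr.cons (nat_lit 7) (nat_lit 0) (Step.U (nat_lit 18) (Step.U (nat_lit 4) (Step.L (Step.L (Step.L (Step.L (Step.L (Step.D (nat_lit 17) (Step.D (nat_lit 39) Step.done))))))))) (Scr.cons (nat_lit 23) (nat_lit 0) (Step.U (nat_lit 97) (Step.U (nat_lit 46) (Step.B (nat_lit 149) (Step.D (nat_lit 86) (Step.D (nat_lit 164) Step.done))))) (Scr.cons (nat_lit 9) (nat_lit 1) (Step.U (nat_lit 19) (Step.U (nat_lit 4) (Step.L (Step.D (nat_lit 4) (Step.D (nat_lit 19) Step.done))))) (Scr.cons (nat_lit 23) (nat_lit 0) (Step.U (nat_lit 98) (Step.U (nat_lit 47) (Step.F (nat_lit 151) (Step.D (nat_lit 47) (Step.D (nat_lit 98) Step.done))))) (Scr.cons (nat_lit 24) (nat_lit 0) (Step.U (nat_lit 189) (Step.F (nat_lit 152) (Step.D (nat_lit 189) Step.done))) (Scr.cons (nat_lit 55) (nat_lit 3) (Step.F (nat_lit 150) (Step.D (nat_lit 187) (Step.F (nat_lit 147) (Step.F (nat_lit 153) (Step.F (nat_lit 148) Step.done))))) (Scr.cons (nat_lit 5) (nat_lit 0) (Step.F (nat_lit 148) (Step.F (nat_lit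 154) Step.done)) (Scr.cons (nat_lit 19) (nat_lit 1) (Step.F (nat_lit 155) (Step.U (nat_lit 189) (Step.D (nat_lit 190) Step.done))) (Scr.cons (nat_lit 24) (nat_lit 0) (Step.F (nat_lit 156) (Step.F (nat_lit 150) (Step.D (nat_lit 186) Step.done))) (Scr.cons (nat_lit 22) (nat_lit 0) (Step.U (nat_lit 188) (Step.F (nat_lit 152) (Step.D (nat_lit 188) Step.done))) (Scr.cons (nat_lit 55) (nat_lit 2) (Step.F (nat_lit 157) (Step.U (nat_lit 190) (Step.D (nat_lit 188) (Step.F (nat_lit 158) Step.done)))) (Scr.cons (nat_lit 19) (nat_lit 1) (Step.U (nat_lit 51) (Step.B (nat_lit 139) (Step.D (nat_lit 99) Step.done))) (Scr.cons (nat_lit 30) (nat_lit 3) (Step.U (nat_lit 209) (Step.D (nat_lit 208) (Step.F (nat_lit 70) (Step.B (nat_lit 71) (Step.F (nat_lit 135) (Step.U (nat_lit 193) (Step.U (nat_lit 101) (Step.B (nat_lit 138) (Step.U (nat_lit 51) (Step.B (nat_lit 139) (Step.D (nat_lit 98) (Step.D (nat_lit 188) (Step.F (nat_lit 159) (Step.U (nat_lit 186) (Step.U (nat_lit 97) (Step.F (nat_lit 137) (Step.D (nat_lit 51) (Step.B (nat_lit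 160) (Step.D (nat_lit 191) Step.done))))))))))))))))))) (Scr.cons (nat_lit 17) (nat_lit 0) (Step.F (nat_lit 161) (Step.U (nat_lit 209) (Step.D (nat_lit 207) Step.done))) (Scr.cons (nat_lit 18) (nat_lit 1) (Step.F (nat_lit 162) (Step.U (nat_lit 191) (Step.U (nat_lit 99) (Step.D (nat_lit 98) (Step.D (nat_lit 190) Step.done))))) (Scr.cons (nat_lit 9) (nat_lit 1) (Step.U (nat_lit 40) (Step.U (nat_lit 17) (Step.L (Step.L (Step.D (nat_lit 80) Step.done))))) (Scr.cons (nat_lit 1) (nat_lit 0) (Step.B (nat_lit 164) (Step.F (nat_lit 56) Step.done)) t))))))))))))))))))))))))))))))))))))))))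
noncomputable def s4 (t : Scr) : Scr := (Scr.cons (nat_lit 7) (nat_lit 1) (Step.U (nat_lit 77) (Step.U (nat_lit 34) (Step.U (nat_lit 13) (Step.F (nat_lit 13) (Step.L (Step.L (Step.L (Step.D (nat_lit 79) (Step.F (nat_lit 165) Step.done))))))))) (Scr.cons (nat_lit 8) (nat_lit 0) (Step.U (nat_lit 39) (Step.D (nat_lit 40) (Step.F (nat_lit 166) Step.done))) (Scr.cons (nat_lit 24) (nat_lit 1) (Step.U (nat_lit 86) (Step.B (nat_lit 167) (Step.D (nat_lit 150) Step.done))) (Scr.cons (nat_lit 9) (nat_lit 0) (Step.B (nat_lit 163) (Step.F (nat_lit 156) (Step.U (nat_lit 164) (Step.B (nat_lit 168) (Step.D (nat_lit 214) Step.done))))) (Scr.cons (nat_lit 23) (nat_lit 0) (Step.U (nat_lit 151) (Step.U (nat_lit 78) (Step.D (nat_lit 77) (Step.D (nat_lit 150) (Step.D (nat_lit 214) Step.done))))) (Scr.cons (nat_lit 24) (nat_lit 0) (Step.B (nat_lit 169) (Step.F (nat_lit 170) (Step.D (nat_lit 216) Step.done))) (Scr.cons (nat_lit 24) (nat_lit 1) (Step.U (nat_lit 46) (Step.D (nat_lit 44) (Step.D (nat_lit 95) Step.done))) (Scr.cons (nat_lit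 9) (nat_lit 1) (Step.U (nat_lit 186) (Step.U (nat_lit 97) (Step.B (nat_lit 172) (Step.D (nat_lit 182) (Step.D (nat_lit 237) Step.done))))) (Scr.cons (nat_lit 23) (nat_lit 1) (Step.L (Step.L (Step.L (Step.L (Step.D (nat_lit 2) Step.done))))) (Scr.cons (nat_lit 24) (nat_lit 1) (Step.U (nat_lit 2) (Step.L (Step.D (nat_lit 9) Step.done))) (Scr.cons (nat_lit 9) (nat_lit 0) (Step.U (nat_lit 13) (Step.U (nat_lit 3) (Step.B (nat_lit 174) (Step.B (nat_lit 175) (Step.D (nat_lit 29) Step.done))))) (Scr.cons (nat_lit 8) (nat_lit 0) (Step.U (nat_lit 34) (Step.B (nat_lit 176) (Step.D (nat_lit 67) Step.done))) (Scr.cons (nat_lit 9) (nat_lit 1) (Step.F (nat_lit 177) (Step.D (nat_lit 77) (Step.F (nat_lit 167) (Step.F (nat_lit 149) (Step.D (nat_lit 44) Step.done))))) (Scr.cons (nat_lit 23) (nat_lit 0) (Step.U (nat_lit 29) (Step.U (nat_lit 9) (Step.B (nat_lit 46) (Step.D (nat_lit 28) (Step.D (nat_lit 66) Step.done))))) (Scr.cons (nat_lit 22) (nat_lit 0) (Step.U (nat_lit 67) (Step.B (nat_lit 179) (Step.D (nat_lit 131) Step.done)))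 (Scr.cons (nat_lit 23) (nat_lit 0) (Step.U (nat_lit 182) (Step.U (nat_lit 95) (Step.F (nat_lit 178) (Step.B (nat_lit 180) (Step.D (nat_lit 211) Step.done))))) (Scr.cons (nat_lit 0) (nat_lit 0) (Step.D (nat_lit 185) (Step.F (nat_lit 154) Step.done)) (Scr.cons (nat_lit 8) (nat_lit 1) (Step.F (nat_lit 156) (Step.F (nat_lit 182) (Step.D (nat_lit 186) Step.done))) (Scr.cons (nat_lit 8) (nat_lit 1) (Step.U (nat_lit 6) (Step.D (nat_lit 5) (Step.D (nat_lit 25) Step.done))) (Scr.cons (nat_lit 22) (nat_lit 1) (Step.U (nat_lit 28) (Step.B (nat_lit 184) (Step.D (nat_lit 63) Step.done))) (Scr.cons (nat_lit 7) (nat_lit 1) (Step.F (nat_lit 173) (Step.F (nat_lit 183) (Step.F (nat_lit 163) (Step.U (nat_lit 207) (Step.U (nat_lit 126) (Step.F (nat_lit 185) (Step.D (nat_lit 66) (Step.D (nat_lit 131) (Step.D (nat_lit 211) Step.done))))))))) (Scr.cons (nat_lit 22) (nat_lit 0) (Step.U (nat_lit 236) (Step.B (nat_lit 181) (Step.F (nat_lit 186) Step.done))) (Scr.cons (nat_lit 23) (nat_lit 1) (Step.F (nat_lit 171) (Step.B (nat_lit 163)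 (Step.B (nat_lit 157) (Step.B (nat_lit 173) (Step.F (nat_lit 187) Step.done))))) (Scr.cons (nat_lit 8) (nat_lit 1) (Step.F (nat_lit 169) (Step.U (nat_lit 207) (Step.D (nat_lit 208) Step.done))) (Scr.cons (nat_lit 22) (nat_lit 0) (Step.F (nat_lit 189) (Step.F (nat_lit 170) (Step.D (nat_lit 215) Step.done))) (Scr.cons (nat_lit 23) (nat_lit 0) (Step.U (nat_lit 126) (Step.U (nat_lit 63) (Step.D (nat_lit 61) (Step.D (nat_lit 124) (Step.D (nat_lit 206) Step.done))))) (Scr.cons (nat_lit 24) (nat_lit 1) (Step.F (nat_lit 190) (Step.U (nat_lit 208) (Step.B (nat_lit 191) Step.done))) (Scr.cons (nat_lit 8) (nat_lit 1) (Step.F (nat_lit 192) (Step.U (nat_lit 215) (Step.D (nat_lit 216) Step.done))) (Scr.cons (nat_lit 22) (nat_lit 1) (Step.U (nat_lit 124) (Step.D (nat_lit 123) (Step.D (nat_lit 205) Step.done))) (Scr.cons (nat_lit 7) (nat_lit 0) (Step.U (nat_lit 188) (Step.U (nat_lit 98) (Step.B (nat_lit 68) (Step.D (nat_lit 182) (Step.D (nat_lit 236) (Step.F (nat_lit 188) (Step.F (nat_lit 193) (Step.U (nat_lit 206) (Step.B (nat_lit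 194) Step.done))))))))) (Scr.cons (nat_lit 8) (nat_lit 0) (Step.F (nat_lit 147) (Step.U (nat_lit 189) (Step.D (nat_lit 188) Step.done))) (Scr.cons (nat_lit 9) (nat_lit 1) (Step.F (nat_lit 41) (Step.B (nat_lit 66) (Step.F (nat_lit 195) (Step.F (nat_lit 196) (Step.B (nat_lit 146) (Step.D (nat_lit 210) Step.done)))))) (Scr.cons (nat_lit 10) (nat_lit 0) (Step.U (nat_lit 56) (Step.L (Step.D (nat_lit 94) Step.done))) (Scr.cons (nat_lit 11) (nat_lit 0) (Step.U (nat_lit 114) (Step.B (nat_lit 198) (Step.D (nat_lit 180) Step.done))) (Scr.cons (nat_lit 25) (nat_lit 0) (Step.F (nat_lit 199) (Step.F (nat_lit 77) (Step.F (nat_lit 132) Step.done))) (Scr.cons (nat_lit 3) (nat_lit 0) (Step.F (nat_lit 199) (Step.F (nat_lit 123) Step.done)) (Scr.cons (nat_lit 20) (nat_lit 0) (Step.U (nat_lit 108) (Step.D (nat_lit 109) (Step.F (nat_lit 201) Step.done))) (Scr.cons (nat_lit 55) (nat_lit 3) (Step.B (nat_lit 134) (Step.B (nat_lit 133) (Step.F (nat_lit 200) (Step.F (nat_lit 202) Step.done)))) (Scr.cons (nat_lit 24) (nat_lit 0) (Step.U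 (nat_lit 194) (Step.F (nat_lit 203) (Step.D (nat_lit 210) Step.done))) (Scr.cons (nat_lit 6) (nat_lit 0) (Step.D (nat_lit 227) (Step.B (nat_lit 197) (Step.F (nat_lit 204) Step.done))) t))))))))))))))))))))))))))))))))))))))))
noncomputable def s5 (t : Scr) : Scr := (Scr.cons (nat_lit 2) (nat_lit 0) (Step.D (nat_lit 194) (Step.F (nat_lit 205) (Step.D (nat_lit 226) Step.done))) (Scr.cons (nat_lit 2) (nat_lit 0) (Step.D (nat_lit 226) (Step.F (nat_lit 206) Step.done)) (Scr.cons (nat_lit 11) (nat_lit 0) (Step.U (nat_lit 36) (Step.L (Step.D (nat_lit 82) Step.done))) (Scr.cons (nat_lit 10) (nat_lit 0) (Step.U (nat_lit 83) (Step.B (nat_lit 208) (Step.D (nat_lit 161) Step.done))) (Scr.cons (nat_lit 11) (nat_lit 0) (Step.U (nat_lit 162) (Step.B (nat_lit 209) (Step.D (nat_lit 225) Step.done))) (Scr.cons (nat_lit 28) (nat_lit 8) (Step.U (nat_lit 229) (Step.U (nat_lit 177) (Step.U (nat_lit 93) (Step.F (nat_lit 38) (Step.D (nat_lit 53) (Step.D (nat_lit 108) (Step.F (nat_lit 207) (Step.B (nat_lit 210) Step.done)))))))) (Scr.cons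 (nat_lit 10) (nat_lit 0) (Step.U (nat_lit 52) (Step.B (nat_lit 38) (Step.D (nat_lit 92) Step.done))) (Scr.cons (nat_lit 54) (nat_lit 4) (Step.U (nat_lit 228) (Step.U (nat_lit 175) (Step.F (nat_lit 212) (Step.D (nat_lit 106) (Step.F (nat_lit 78) (Step.D (nat_lit 108) (Step.F (nat_lit 207) (Step.B (nat_lit 210) Step.done)))))))) (Scr.cons (nat_lit 25) (nat_lit 1) (Step.U (nat_lit 135) (Step.D (nat_lit 134) (Step.D (nat_lit 212) Step.done))) (Scr.cons (nat_lit 23) (nat_lit 0) (Step.U (nat_lit 43) (Step.L (Step.D (nat_lit 17) (Step.D (nat_lit 42) (Step.D (nat_lit 90) Step.done))))) (Scr.cons (nat_lit 22) (nat_lit 0) (Step.U (nat_lit 92) (Step.B (nat_lit 215) (Step.D (nat_lit 168) Step.done))) (Scr.cons (nat_lit 24) (nat_lit 1) (Step.U (nat_lit 33) (Step.B (nat_lit 84) (Step.D (nat_lit 70) Step.done))) (Scr.cons (nat_lit 22) (nat_lit 0) (Step.U (nat_lit 52) (Step.B (nat_lit 125) (Step.D (nat_lit 102) Step.done))) (Scr.cons (nat_lit 24) (nat_lit 0) (Step.F (nat_lit 218) (Step.D (nat_lit 106) (Step.F (nat_lit 122) (Step.D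 (nat_lit 146) Step.done)))) (Scr.cons (nat_lit 2) (nat_lit 0) (Step.D (nat_lit 146) (Step.F (nat_lit 219) Step.done)) (Scr.cons (nat_lit 22) (nat_lit 1) (Step.U (nat_lit 42) (Step.D (nat_lit 39) (Step.D (nat_lit 86) Step.done))) (Scr.cons (nat_lit 7) (nat_lit 0) (Step.U (nat_lit 168) (Step.U (nat_lit 90) (Step.B (nat_lit 221) (Step.D (nat_lit 164) (Step.F (nat_lit 182) (Step.U (nat_lit 97) (Step.F (nat_lit 137) (Step.D (nat_lit 50) (Step.D (nat_lit 102) Step.done))))))))) (Scr.cons (nat_lit 9) (nat_lit 0) (Step.U (nat_lit 136) (Step.F (nat_lit 217) (Step.D (nat_lit 76) (Step.B (nat_lit 220) (Step.F (nat_lit 222) Step.done))))) (Scr.cons (nat_lit 24) (nat_lit 0) (Step.U (nat_lit 175) (Step.B (nat_lit 216) (Step.F (nat_lit 223) Step.done))) (Scr.cons (nat_lit 23) (nat_lit 1) (Step.U (nat_lit 135) (Step.U (nat_lit 68) (Step.D (nat_lit 70) (Step.D (nat_lit 136) (Step.F (nat_lit 224) Step.done))))) (Scr.cons (nat_lit 11) (nat_lit 1) (Step.F (nat_lit 214) (Step.B (nat_lit 225) (Step.D (nat_lit 228) Step.done))) (Scr.cons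 (nat_lit 11) (nat_lit 1) (Step.U (nat_lit 69) (Step.D (nat_lit 68) (Step.D (nat_lit 134) Step.done))) (Scr.cons (nat_lit 10) (nat_lit 1) (Step.U (nat_lit 27) (Step.B (nat_lit 184) (Step.D (nat_lit 62) Step.done))) (Scr.cons (nat_lit 8) (nat_lit 1) (Step.U (nat_lit 65) (Step.B (nat_lit 228) (Step.D (nat_lit 125) Step.done))) (Scr.cons (nat_lit 54) (nat_lit 2) (Step.U (nat_lit 69) (Step.F (nat_lit 84) (Step.F (nat_lit 99) (Step.D (nat_lit 25) (Step.D (nat_lit 62) (Step.D (nat_lit 125) (Step.F (nat_lit 229) (Step.D (nat_lit 130) Step.done)))))))) (Scr.cons (nat_lit 11) (nat_lit 1) (Step.U (nat_lit 8) (Step.B (nat_lit 46) (Step.D (nat_lit 27) Step.done))) (Scr.cons (nat_lit 54) (nat_lit 2) (Step.U (nat_lit 8) (Step.L (Step.L (Step.L (Step.L (Step.L (Step.L (Step.D (nat_lit 8) Step.done)))))))) (Scr.cons (nat_lit 9) (nat_lit 1) (Step.U (nat_lit 65) (Step.F (nat_lit 231) (Step.F (nat_lit 232) (Step.B (nat_lit 231) (Step.D (nat_lit 65) Step.done))))) (Scr.cons (nat_lit 11) (nat_lit 1) (Step.U (nat_lit 130) (Step.F (nat_lit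 233) (Step.D (nat_lit 130) Step.done))) (Scr.cons (nat_lit 9) (nat_lit 0) (Step.F (nat_lit 227) (Step.B (nat_lit 230) (Step.F (nat_lit 234) (Step.F (nat_lit 230) (Step.B (nat_lit 227) Step.done))))) (Scr.cons (nat_lit 24) (nat_lit 1) (Step.U (nat_lit 212) (Step.F (nat_lit 235) (Step.D (nat_lit 212) Step.done))) (Scr.cons (nat_lit 9) (nat_lit 0) (Step.F (nat_lit 213) (Step.F (nat_lit 226) (Step.F (nat_lit 236) (Step.B (nat_lit 226) (Step.B (nat_lit 213) (Step.U (nat_lit 225) Step.done)))))) (Scr.cons (nat_lit 0) (nat_lit 0) (Step.B (nat_lit 211) (Step.B (nat_lit 237) (Step.U (nat_lit 161) Step.done))) (Scr.cons (nat_lit 23) (nat_lit 0) (Step.U (nat_lit 37) (Step.L (Step.L (Step.L (Step.D (nat_lit 82) Step.done))))) (Scr.cons (nat_lit 24) (nat_lit 1) (Step.F (nat_lit 239) (Step.F (nat_lit 53) (Step.D (nat_lit 155) Step.done))) (Scr.cons (nat_lit 2) (nat_lit 0) (Step.D (nat_lit 229) (Step.B (nat_lit 238) (Step.B (nat_lit 240) Step.done))) (Scr.cons (nat_lit 1) (nat_lit 0) (Step.F (nat_lit 37) (Step.B (nat_lit 241)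 (Step.D (nat_lit 219) Step.done))) (Scr.cons (nat_lit 25) (nat_lit 1) (Step.L (Step.D (nat_lit 81) (Step.D (nat_lit 155) Step.done))) (Scr.cons (nat_lit 11) (nat_lit 0) (Step.L (Step.B (nat_lit 243) (Step.D (nat_lit 219) Step.done))) (Scr.cons (nat_lit 3) (nat_lit 0) (Step.D (nat_lit 223) (Step.B (nat_lit 242) (Step.F (nat_lit 244) Step.done))) t))))))))))))))))))))))))))))))))))))))))
noncomputable def s6 (t : Scr) : Scr := (Scr.cons (nat_lit 2) (nat_lit 0) (Step.D (nat_lit 159) (Step.B (nat_lit 245) (Step.D (nat_lit 221) Step.done))) (Scr.cons (nat_lit 2) (nat_lit 0) (Step.D (nat_lit 221) (Step.F (nat_lit 246) Step.done)) (Scr.cons (nat_lit 22) (nat_lit 0) (Step.U (nat_lit 84) (Step.B (nat_lit 239) (Step.D (nat_lit 161) Step.done))) (Scr.cons (nat_lit 10) (nat_lit 0) (Step.U (nat_lit 38) (Step.B (nat_lit 54) (Step.D (nat_lit 84) Step.done))) (Scr.cons (nat_lit 8) (nat_lit 0) (Step.U (nat_lit 38) (Step.F (nat_lit 55) (Step.D (nat_lit 38) Step.done))) (Scr.cons (nat_lit 54) (nat_lit 6) (Step.F (nat_lit 249) (Step.F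 (nat_lit 250) (Step.U (nat_lit 38) (Step.B (nat_lit 54) (Step.F (nat_lit 53) (Step.U (nat_lit 81) (Step.B (nat_lit 57) (Step.D (nat_lit 152) Step.done)))))))) (Scr.cons (nat_lit 24) (nat_lit 1) (Step.F (nat_lit 248) (Step.B (nat_lit 251) (Step.D (nat_lit 217) Step.done))) (Scr.cons (nat_lit 2) (nat_lit 0) (Step.B (nat_lit 213) (Step.B (nat_lit 237) (Step.B (nat_lit 252) Step.done))) (Scr.cons (nat_lit 25) (nat_lit 1) (Step.U (nat_lit 154) (Step.D (nat_lit 152) (Step.D (nat_lit 217) Step.done))) (Scr.cons (nat_lit 3) (nat_lit 0) (Step.D (nat_lit 228) (Step.B (nat_lit 253) (Step.F (nat_lit 254) Step.done))) (Scr.cons (nat_lit 24) (nat_lit 1) (Step.L (Step.B (nat_lit 57) (Step.D (nat_lit 154) Step.done))) (Scr.cons (nat_lit 2) (nat_lit 0) (Step.D (nat_lit 175) (Step.B (nat_lit 255) (Step.F (nat_lit 256) Step.done))) (Scr.cons (nat_lit 1) (nat_lit 0) (Step.U (nat_lit 174) (Step.B (nat_lit 257) (Step.L Step.done))) (Scr.cons (nat_lit 7) (nat_lit 1) (Step.U (nat_lit 174) (Step.U (nat_lit 92) (Step.U (nat_lit 43) (Step.L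 (Step.L (Step.L (Step.D (nat_lit 43) (Step.D (nat_lit 92) (Step.D (nat_lit 174) Step.done))))))))) (Scr.cons (nat_lit 0) (nat_lit 0) (Step.F (nat_lit 258) (Step.F (nat_lit 259) (Step.B (nat_lit 258) (Step.D (nat_lit 220) Step.done)))) (Scr.cons (nat_lit 0) (nat_lit 0) (Step.D (nat_lit 220) (Step.F (nat_lit 260) Step.done)) (Scr.cons (nat_lit 19) (nat_lit 1) (Step.U (nat_lit 160) (Step.D (nat_lit 159) (Step.D (nat_lit 224) Step.done))) (Scr.cons (nat_lit 5) (nat_lit 0) (Step.U (nat_lit 224) (Step.B (nat_lit 245) (Step.D (nat_lit 222) Step.done))) (Scr.cons (nat_lit 22) (nat_lit 1) (Step.U (nat_lit 120) (Step.F (nat_lit 62) (Step.D (nat_lit 135) Step.done))) (Scr.cons (nat_lit 24) (nat_lit 1) (Step.U (nat_lit 60) (Step.D (nat_lit 58) (Step.D (nat_lit 120) Step.done))) (Scr.cons (nat_lit 22) (nat_lit 1) (Step.U (nat_lit 60) (Step.D (nat_lit 57) (Step.D (nat_lit 118) Step.done))) (Scr.cons (nat_lit 8) (nat_lit 0) (Step.F (nat_lit 264) (Step.F (nat_lit 265) (Step.B (nat_lit 266) Step.done))) (Scr.cons (nat_lit 9)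 (nat_lit 0) (Step.U (nat_lit 174) (Step.D (nat_lit 175) (Step.F (nat_lit 225) (Step.B (nat_lit 267) (Step.D (nat_lit 203) Step.done))))) (Scr.cons (nat_lit 2) (nat_lit 0) (Step.F (nat_lit 268) (Step.B (nat_lit 258) (Step.D (nat_lit 221) (Step.F (nat_lit 246) Step.done)))) (Scr.cons (nat_lit 55) (nat_lit 2) (Step.U (nat_lit 118) (Step.D (nat_lit 117) (Step.F (nat_lit 43) (Step.D (nat_lit 121) Step.done)))) (Scr.cons (nat_lit 55) (nat_lit 2) (Step.U (nat_lit 166) (Step.F (nat_lit 25) (Step.L (Step.D (nat_lit 172) Step.done)))) (Scr.cons (nat_lit 55) (nat_lit 3) (Step.U (nat_lit 169) (Step.D (nat_lit 168) (Step.F (nat_lit 216) (Step.D (nat_lit 176) Step.done)))) (Scr.cons (nat_lit 57) (nat_lit 0) (Step.F (nat_lit 270) (Step.U (nat_lit 118) (Step.B (nat_lit 86) (Step.D (nat_lit 137) (Step.B (nat_lit 113) (Step.F (nat_lit 114) (Step.F (nat_lit 271) (Step.U (nat_lit 166) (Step.U (nat_lit 88) (Step.U (nat_lit 41) (Step.D (nat_lit 42) (Step.D (nat_lit 90) (Step.D (nat_lit 169) (Step.B (nat_lit 272) Step.done))))))))))))))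 (Scr.cons (nat_lit 18) (nat_lit 0) (Step.U (nat_lit 174) (Step.D (nat_lit 176) (Step.F (nat_lit 273) (Step.F (nat_lit 270) (Step.D (nat_lit 203) Step.done))))) (Scr.cons (nat_lit 5) (nat_lit 0) (Step.F (nat_lit 269) (Step.F (nat_lit 274) (Step.B (nat_lit 258) (Step.D (nat_lit 222) Step.done)))) (Scr.cons (nat_lit 2) (nat_lit 0) (Step.B (nat_lit 262) (Step.B (nat_lit 263) (Step.F (nat_lit 275) (Step.L Step.done)))) (Scr.cons (nat_lit 5) (nat_lit 0) (Step.D (nat_lit 160) (Step.B (nat_lit 276) Step.done)) (Scr.cons (nat_lit 54) (nat_lit 2) (Step.U (nat_lit 10) (Step.L (Step.L (Step.L (Step.L (Step.L (Step.B (nat_lit 13) (Step.D (nat_lit 14) Step.done)))))))) (Scr.cons (nat_lit 10) (nat_lit 1) (Step.L (Step.B (nat_lit 13) (Step.D (nat_lit 14) Step.done))) (Scr.cons (nat_lit 8) (nat_lit 1) (Step.B (nat_lit 278) (Step.F (nat_lit 279) (Step.L Step.done))) (Scr.cons (nat_lit 23) (nat_lit 0) (Step.U (nat_lit 64) (Step.U (nat_lit 26) (Step.D (nat_lit 24) (Step.D (nat_lit 60) (Step.D (nat_lit 122) Step.done))))) (Scr.cons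 (nat_lit 24) (nat_lit 0) (Step.U (nat_lit 128) (Step.B (nat_lit 281) (Step.D (nat_lit 204) Step.done))) (Scr.cons (nat_lit 11) (nat_lit 0) (Step.U (nat_lit 24) (Step.B (nat_lit 99) (Step.D (nat_lit 31) Step.done))) (Scr.cons (nat_lit 25) (nat_lit 1) (Step.U (nat_lit 60) (Step.B (nat_lit 283) (Step.D (nat_lit 74) Step.done))) (Scr.cons (nat_lit 11) (nat_lit 0) (Step.U (nat_lit 122) (Step.B (nat_lit 284) (Step.D (nat_lit 142) Step.done))) t))))))))))))))))))))))))))))))))))))))))
noncomputable def s7 (t : Scr) : Scr := (Scr.cons (nat_lit 3) (nat_lit 0) (Step.B (nat_lit 285) (Step.B (nat_lit 121) Step.done)) (Scr.cons (nat_lit 8) (nat_lit 1) (Step.U (nat_lit 93) (Step.D (nat_lit 92) (Step.D (nat_lit 175) Step.done))) (Scr.cons (nat_lit 54) (nat_lit 3) (Step.U (nat_lit 204) (Step.B (nat_lit 286) (Step.U (nat_lit 106) (Step.B (nat_lit 212) (Step.D (nat_lit 175) (Step.F (nat_lit 287) (Step.D (nat_lit 177) (Step.D (nat_lit 229) Step.done)))))))) (Scr.cons (nat_lit 3) (nat_lit 0) (Step.B (nat_lit 288) (Step.B (nat_lit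 238) (Step.F (nat_lit 208) Step.done))) (Scr.cons (nat_lit 6) (nat_lit 0) (Step.B (nat_lit 282) (Step.B (nat_lit 289) (Step.F (nat_lit 39) Step.done))) (Scr.cons (nat_lit 1) (nat_lit 0) (Step.F (nat_lit 70) (Step.B (nat_lit 290) (Step.U (nat_lit 16) Step.done))) (Scr.cons (nat_lit 0) (nat_lit 0) (Step.B (nat_lit 189) (Step.B (nat_lit 291) (Step.L Step.done))) (Scr.cons (nat_lit 1) (nat_lit 0) (Step.D (nat_lit 214) (Step.B (nat_lit 292) (Step.L Step.done))) (Scr.cons (nat_lit 22) (nat_lit 1) (Step.U (nat_lit 87) (Step.F (nat_lit 166) (Step.D (nat_lit 150) Step.done))) (Scr.cons (nat_lit 23) (nat_lit 0) (Step.U (nat_lit 165) (Step.U (nat_lit 87) (Step.B (nat_lit 165) (Step.D (nat_lit 154) (Step.D (nat_lit 218) Step.done))))) (Scr.cons (nat_lit 1) (nat_lit 0) (Step.B (nat_lit 225) (Step.B (nat_lit 255) (Step.D (nat_lit 218) Step.done))) (Scr.cons (nat_lit 3) (nat_lit 0) (Step.D (nat_lit 177) (Step.B (nat_lit 241) (Step.F (nat_lit 243) Step.done))) (Scr.cons (nat_lit 2) (nat_lit 0) (Step.D (nat_lit 93) (Step.B (nat_lit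 297) (Step.B (nat_lit 256) Step.done))) (Scr.cons (nat_lit 1) (nat_lit 0) (Step.B (nat_lit 296) (Step.U (nat_lit 218) (Step.F (nat_lit 298) (Step.U (nat_lit 43) Step.done)))) (Scr.cons (nat_lit 6) (nat_lit 0) (Step.B (nat_lit 295) (Step.F (nat_lit 296) (Step.B (nat_lit 299) (Step.L Step.done)))) (Scr.cons (nat_lit 1) (nat_lit 0) (Step.D (nat_lit 165) (Step.B (nat_lit 300) (Step.D (nat_lit 17) Step.done))) (Scr.cons (nat_lit 6) (nat_lit 0) (Step.F (nat_lit 224) (Step.B (nat_lit 255) (Step.U (nat_lit 154) Step.done))) (Scr.cons (nat_lit 1) (nat_lit 0) (Step.D (nat_lit 136) (Step.B (nat_lit 302) (Step.F (nat_lit 165) Step.done))) (Scr.cons (nat_lit 2) (nat_lit 0) (Step.B (nat_lit 217) (Step.B (nat_lit 303) (Step.U (nat_lit 40) Step.done))) (Scr.cons (nat_lit 9) (nat_lit 0) (Step.U (nat_lit 36) (Step.L (Step.L (Step.L (Step.D (nat_lit 36) Step.done))))) (Scr.cons (nat_lit 2) (nat_lit 0) (Step.D (nat_lit 204) (Step.B (nat_lit 289) (Step.F (nat_lit 305) Step.done))) (Scr.cons (nat_lit 3) (nat_lit 0) (Step.F (nat_lit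 286) (Step.B (nat_lit 306) (Step.B (nat_lit 208) Step.done))) (Scr.cons (nat_lit 6) (nat_lit 0) (Step.B (nat_lit 122) (Step.B (nat_lit 307) (Step.F (nat_lit 239) Step.done))) (Scr.cons (nat_lit 1) (nat_lit 0) (Step.F (nat_lit 304) (Step.D (nat_lit 76) (Step.B (nat_lit 308) (Step.U (nat_lit 37) Step.done)))) (Scr.cons (nat_lit 0) (nat_lit 0) (Step.F (nat_lit 293) (Step.F (nat_lit 294) (Step.B (nat_lit 301) (Step.B (nat_lit 309) (Step.F (nat_lit 280) Step.done))))) (Scr.cons (nat_lit 0) (nat_lit 0) (Step.F (nat_lit 280) (Step.F (nat_lit 310) Step.done)) (Scr.cons (nat_lit 11) (nat_lit 0) (Step.L (Step.L (Step.D (nat_lit 341) Step.done))) (Scr.cons (nat_lit 9) (nat_lit 0) (Step.L (Step.L (Step.L (Step.L (Step.D (nat_lit 341) Step.done))))) (Scr.cons (nat_lit 28) (nat_lit 0) (Step.B (nat_lit 312) (Step.F (nat_lit 313) (Step.L (Step.L (Step.L (Step.L (Step.L (Step.L Step.done)))))))) (Scr.cons (nat_lit 11) (nat_lit 1) (Step.U (nat_lit 277) (Step.L (Step.D (nat_lit 372) Step.done))) (Scr.cons (nat_lit 54) (nat_lit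 2) (Step.L (Step.L (Step.L (Step.L (Step.L (Step.L (Step.L (Step.D (nat_lit 239) Step.done)))))))) (Scr.cons (nat_lit 32) (nat_lit 14) (Step.L (Step.L (Step.L (Step.B (nat_lit 316) (Step.U (nat_lit 239) (Step.L (Step.L (Step.L (Step.L (Step.L (Step.L (Step.L (Step.L (Step.L (Step.L (Step.L (Step.L (Step.L (Step.L (Step.L (Step.L (Step.L (Step.L (Step.L (Step.L (Step.L (Step.L (Step.L (Step.L (Step.L (Step.L (Step.L (Step.L (Step.L (Step.L (Step.L (Step.L (Step.L (Step.L (Step.L (Step.L (Step.L (Step.L (Step.L (Step.L (Step.L (Step.L (Step.L (Step.L (Step.L (Step.L (Step.L (Step.L (Step.L (Step.L (Step.L (Step.L (Step.L (Step.L (Step.L (Step.L (Step.L (Step.L (Step.L (Step.L (Step.L (Step.L (Step.L (Step.L (Step.L (Step.L (Step.L (Step.L (Step.L (Step.L (Step.L (Step.L (Step.D (nat_lit 277) Step.done)))))))))))))))))))))))))))))))))))))))))))))))))))))))))))))))))))))))))))))) (Scr.cons (nat_lit 1) (nat_lit 0) (Step.F (nat_lit 315) (Step.F (nat_lit 317) (Step.L Step.done))) (Scr.cons (nat_lit 3) (nat_lit 0) (Step.D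 (nat_lit 372) (Step.B (nat_lit 318) Step.done)) (Scr.cons (nat_lit 13) (nat_lit 0) (Step.L (Step.L (Step.D (nat_lit 368) Step.done))) (Scr.cons (nat_lit 9) (nat_lit 1) (Step.U (nat_lit 283) (Step.L (Step.L (Step.D (nat_lit 265) (Step.D (nat_lit 365) Step.done))))) (Scr.cons (nat_lit 8) (nat_lit 1) (Step.L (Step.D (nat_lit 233) (Step.D (nat_lit 276) Step.done))) (Scr.cons (nat_lit 8) (nat_lit 1) (Step.L (Step.L (Step.D (nat_lit 370) Step.done))) (Scr.cons (nat_lit 10) (nat_lit 0) (Step.F (nat_lit 322) (Step.L (Step.B (nat_lit 323) Step.done))) (Scr.cons (nat_lit 13) (nat_lit 0) (Step.L (Step.L (Step.D (nat_lit 257) Step.done))) t))))))))))))))))))))))))))))))))))))))))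
noncomputable def s8 (t : Scr) : Scr := (Scr.cons (nat_lit 14) (nat_lit 0) (Step.U (nat_lit 259) (Step.B (nat_lit 325) (Step.D (nat_lit 334) Step.done))) (Scr.cons (nat_lit 10) (nat_lit 0) (Step.U (nat_lit 198) (Step.L (Step.D (nat_lit 233) Step.done))) (Scr.cons (nat_lit 54) (nat_lit 2) (Step.U (nat_lit 288) (Step.L (Step.L (Step.L (Step.L (Step.L (Step.D (nat_lit 257) (Step.D (nat_lit 335) Step.done)))))))) (Scr.cons (nat_lit 11) (nat_lit 1) (Step.U (nat_lit 239) (Step.L (Step.D (nat_lit 288) Step.done))) (Scr.cons (nat_lit 11) (nat_lit 1) (Step.L (Step.L (Step.D (nat_lit 266) Step.done))) (Scr.cons (nat_lit 9) (nat_lit 1) (Step.F (nat_lit 328) (Step.F (nat_lit 329) (Step.F (nat_lit 316) (Step.B (nat_lit 330) (Step.D (nat_lit 373) Step.done))))) (Scr.cons (nat_lit 11) (nat_lit 0) (Step.F (nat_lit 331) (Step.U (nat_lit 335) (Step.D (nat_lit 334) Step.done))) (Scr.cons (nat_lit 54) (nat_lit 6) (Step.U (nat_lit 246) (Step.B (nat_lit 327) (Step.D (nat_lit 276) (Step.F (nat_lit 322) (Step.L (Step.L (Step.D (nat_lit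 266) (Step.D (nat_lit 373) (Step.B (nat_lit 332) Step.done))))))))) (Scr.cons (nat_lit 13) (nat_lit 0) (Step.U (nat_lit 198) (Step.L (Step.D (nat_lit 233) Step.done))) (Scr.cons (nat_lit 15) (nat_lit 0) (Step.U (nat_lit 246) (Step.B (nat_lit 334) (Step.D (nat_lit 276) Step.done))) (Scr.cons (nat_lit 4) (nat_lit 0) (Step.B (nat_lit 326) (Step.F (nat_lit 333) (Step.B (nat_lit 335) Step.done))) (Scr.cons (nat_lit 11) (nat_lit 0) (Step.U (nat_lit 259) (Step.L (Step.D (nat_lit 265) Step.done))) (Scr.cons (nat_lit 3) (nat_lit 0) (Step.F (nat_lit 324) (Step.F (nat_lit 336) (Step.B (nat_lit 337) Step.done))) (Scr.cons (nat_lit 2) (nat_lit 0) (Step.D (nat_lit 370) (Step.B (nat_lit 338) (Step.D (nat_lit 365) Step.done))) (Scr.cons (nat_lit 7) (nat_lit 0) (Step.L (Step.L (Step.L (Step.L (Step.L (Step.L (Step.L (Step.L (Step.D (nat_lit 368) Step.done))))))))) (Scr.cons (nat_lit 1) (nat_lit 0) (Step.B (nat_lit 321) (Step.F (nat_lit 339) (Step.B (nat_lit 340) Step.done))) (Scr.cons (nat_lit 15) (nat_lit 0) (Step.U (nat_lit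 283) (Step.L (Step.D (nat_lit 369) Step.done))) (Scr.cons (nat_lit 4) (nat_lit 0) (Step.B (nat_lit 320) (Step.F (nat_lit 341) (Step.B (nat_lit 342) Step.done))) (Scr.cons (nat_lit 2) (nat_lit 0) (Step.D (nat_lit 369) (Step.F (nat_lit 343) Step.done)) (Scr.cons (nat_lit 23) (nat_lit 0) (Step.L (Step.L (Step.L (Step.D (nat_lit 199) (Step.D (nat_lit 248) Step.done))))) (Scr.cons (nat_lit 22) (nat_lit 0) (Step.L (Step.B (nat_lit 345) (Step.D (nat_lit 313) Step.done))) (Scr.cons (nat_lit 55) (nat_lit 3) (Step.U (nat_lit 315) (Step.D (nat_lit 313) (Step.F (nat_lit 346) (Step.L Step.done)))) (Scr.cons (nat_lit 55) (nat_lit 2) (Step.U (nat_lit 312) (Step.L (Step.L (Step.D (nat_lit 317) Step.done)))) (Scr.cons (nat_lit 23) (nat_lit 0) (Step.U (nat_lit 256) (Step.U (nat_lit 202) (Step.L (Step.D (nat_lit 255) (Step.D (nat_lit 331) Step.done))))) (Scr.cons (nat_lit 55) (nat_lit 2) (Step.U (nat_lit 200) (Step.L (Step.L (Step.D (nat_lit 202) Step.done)))) (Scr.cons (nat_lit 57) (nat_lit 1) (Step.F (nat_lit 349) (Step.U (nat_lit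 256) (Step.F (nat_lit 350) (Step.U (nat_lit 200) (Step.L (Step.L (Step.L (Step.L (Step.L (Step.L (Step.L (Step.L (Step.D (nat_lit 312) (Step.D (nat_lit 473) Step.done)))))))))))))) (Scr.cons (nat_lit 18) (nat_lit 1) (Step.U (nat_lit 332) (Step.D (nat_lit 331) (Step.B (nat_lit 351) (Step.U (nat_lit 473) (Step.B (nat_lit 348) Step.done))))) (Scr.cons (nat_lit 55) (nat_lit 3) (Step.U (nat_lit 328) (Step.L (Step.D (nat_lit 255) (Step.D (nat_lit 332) Step.done)))) (Scr.cons (nat_lit 55) (nat_lit 2) (Step.U (nat_lit 342) (Step.L (Step.L (Step.L Step.done)))) (Scr.cons (nat_lit 31) (nat_lit 2) (Step.F (nat_lit 347) (Step.U (nat_lit 315) (Step.U (nat_lit 248) (Step.U (nat_lit 199) (Step.L (Step.L (Step.D (nat_lit 312) (Step.B (nat_lit 348) (Step.F (nat_lit 352) (Step.F (nat_lit 353) (Step.U (nat_lit 328) (Step.L (Step.D (nat_lit 342) (Step.B (nat_lit 354) Step.done)))))))))))))) (Scr.cons (nat_lit 23) (nat_lit 0) (Step.L (Step.L (Step.L (Step.D (nat_lit 234) (Step.D (nat_lit 279) Step.done))))) (Scr.cons (nat_lit 22)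 (nat_lit 0) (Step.L (Step.B (nat_lit 356) (Step.D (nat_lit 392) Step.done))) (Scr.cons (nat_lit 17) (nat_lit 1) (Step.L (Step.L (Step.D (nat_lit 396) Step.done))) (Scr.cons (nat_lit 55) (nat_lit 2) (Step.F (nat_lit 357) (Step.D (nat_lit 396) (Step.F (nat_lit 358) (Step.D (nat_lit 398) Step.done)))) (Scr.cons (nat_lit 55) (nat_lit 2) (Step.U (nat_lit 213) (Step.L (Step.L (Step.L Step.done)))) (Scr.cons (nat_lit 57) (nat_lit 0) (Step.B (nat_lit 359) (Step.U (nat_lit 398) (Step.L (Step.L (Step.L (Step.L (Step.F (nat_lit 360) (Step.U (nat_lit 213) (Step.L (Step.L (Step.L (Step.L (Step.L (Step.B (nat_lit 346) Step.done)))))))))))))) (Scr.cons (nat_lit 23) (nat_lit 0) (Step.L (Step.B (nat_lit 346) (Step.F (nat_lit 361) (Step.F (nat_lit 357) (Step.L Step.done))))) (Scr.cons (nat_lit 23) (nat_lit 0) (Step.L (Step.L (Step.L (Step.F (nat_lit 347) (Step.D (nat_lit 475) Step.done))))) (Scr.cons (nat_lit 18) (nat_lit 0) (Step.U (nat_lit 316) (Step.U (nat_lit 249) (Step.D (nat_lit 248) (Step.D (nat_lit 315) (Step.D (nat_lit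 475) Step.done))))) (Scr.cons (nat_lit 55) (nat_lit 1) (Step.B (nat_lit 364) (Step.F (nat_lit 363) (Step.L (Step.D (nat_lit 343) Step.done)))) t))))))))))))))))))))))))))))))))))))))))
noncomputable def s9 (t : Scr) : Scr := (Scr.cons (nat_lit 18) (nat_lit 0) (Step.U (nat_lit 201) (Step.L (Step.L (Step.L (Step.D (nat_lit 201) Step.done))))) (Scr.cons (nat_lit 23) (nat_lit 1) (Step.L (Step.L (Step.L (Step.D (nat_lit 201) (Step.D (nat_lit 254) Step.done))))) (Scr.cons (nat_lit 55) (nat_lit 3) (Step.L (Step.L (Step.L (Step.D (nat_lit 319) Step.done)))) (Scr.cons (nat_lit 57) (nat_lit 1) (Step.F (nat_lit 365) (Step.U (nat_lit 316) (Step.U (nat_lit 249) (Step.U (nat_lit 199) (Step.L (Step.L (Step.L (Step.D (nat_lit 201) (Step.F (nat_lit 366) (Step.D (nat_lit 254) (Step.F (nat_lit 367) (Step.D (nat_lit 319) (Step.F (nat_lit 368) (Step.L Step.done)))))))))))))) (Scr.cons (nat_lit 55) (nat_lit 0) (Step.B (nat_lit 363) (Step.F (nat_lit 364) (Step.B (nat_lit 365) (Step.B (nat_lit 369) Step.done)))) (Scr.cons (nat_lit 55)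 (nat_lit 3) (Step.U (nat_lit 394) (Step.D (nat_lit 392) (Step.F (nat_lit 357) (Step.D (nat_lit 396) Step.done)))) (Scr.cons (nat_lit 22) (nat_lit 1) (Step.B (nat_lit 371) (Step.F (nat_lit 358) (Step.D (nat_lit 398) Step.done))) (Scr.cons (nat_lit 17) (nat_lit 1) (Step.L (Step.L (Step.D (nat_lit 400) Step.done))) (Scr.cons (nat_lit 55) (nat_lit 3) (Step.U (nat_lit 346) (Step.L (Step.L (Step.D (nat_lit 400) Step.done)))) (Scr.cons (nat_lit 55) (nat_lit 2) (Step.U (nat_lit 254) (Step.F (nat_lit 366) (Step.D (nat_lit 252) (Step.D (nat_lit 326) Step.done)))) (Scr.cons (nat_lit 31) (nat_lit 2) (Step.F (nat_lit 374) (Step.U (nat_lit 346) (Step.L (Step.L (Step.L (Step.L (Step.L (Step.L (Step.L (Step.L (Step.L (Step.D (nat_lit 201) (Step.D (nat_lit 254) (Step.B (nat_lit 375) Step.done)))))))))))))) (Scr.cons (nat_lit 22) (nat_lit 1) (Step.U (nat_lit 254) (Step.D (nat_lit 252) (Step.D (nat_lit 326) Step.done))) (Scr.cons (nat_lit 22) (nat_lit 1) (Step.L (Step.L (Step.D (nat_lit 317) Step.done))) (Scr.cons (nat_lit 17)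 (nat_lit 1) (Step.L (Step.L (Step.D (nat_lit 328) Step.done))) (Scr.cons (nat_lit 55) (nat_lit 2) (Step.U (nat_lit 329) (Step.D (nat_lit 328) (Step.F (nat_lit 379) (Step.D (nat_lit 330) Step.done)))) (Scr.cons (nat_lit 22) (nat_lit 1) (Step.U (nat_lit 255) (Step.L (Step.D (nat_lit 329) Step.done))) (Scr.cons (nat_lit 17) (nat_lit 1) (Step.F (nat_lit 380) (Step.F (nat_lit 381) (Step.D (nat_lit 332) Step.done))) (Scr.cons (nat_lit 7) (nat_lit 0) (Step.F (nat_lit 358) (Step.L (Step.B (nat_lit 373) (Step.B (nat_lit 376) (Step.F (nat_lit 377) (Step.F (nat_lit 367) (Step.B (nat_lit 378) (Step.F (nat_lit 352) (Step.F (nat_lit 382) Step.done))))))))) (Scr.cons (nat_lit 23) (nat_lit 1) (Step.B (nat_lit 371) (Step.B (nat_lit 383) (Step.U (nat_lit 330) (Step.L (Step.D (nat_lit 479) Step.done))))) (Scr.cons (nat_lit 25) (nat_lit 1) (Step.L (Step.L (Step.D (nat_lit 344) Step.done))) (Scr.cons (nat_lit 29) (nat_lit 4) (Step.B (nat_lit 364) (Step.F (nat_lit 363) (Step.L (Step.D (nat_lit 344) Step.done)))) (Scr.cons (nat_lit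 25) (nat_lit 1) (Step.U (nat_lit 199) (Step.L (Step.D (nat_lit 234) Step.done))) (Scr.cons (nat_lit 20) (nat_lit 1) (Step.U (nat_lit 249) (Step.B (nat_lit 387) (Step.D (nat_lit 280) Step.done))) (Scr.cons (nat_lit 11) (nat_lit 0) (Step.U (nat_lit 316) (Step.B (nat_lit 388) (Step.D (nat_lit 395) Step.done))) (Scr.cons (nat_lit 10) (nat_lit 1) (Step.B (nat_lit 385) (Step.F (nat_lit 386) (Step.B (nat_lit 389) Step.done))) (Scr.cons (nat_lit 22) (nat_lit 0) (Step.F (nat_lit 390) (Step.L (Step.L Step.done))) (Scr.cons (nat_lit 55) (nat_lit 2) (Step.B (nat_lit 391) (Step.L (Step.L (Step.D (nat_lit 479) Step.done)))) (Scr.cons (nat_lit 17) (nat_lit 1) (Step.F (nat_lit 392) (Step.F (nat_lit 390) (Step.D (nat_lit 480) Step.done))) (Scr.cons (nat_lit 23) (nat_lit 0) (Step.L (Step.L (Step.L (Step.D (nat_lit 200) (Step.D (nat_lit 251) Step.done))))) (Scr.cons (nat_lit 22) (nat_lit 0) (Step.L (Step.B (nat_lit 394) (Step.D (nat_lit 321) Step.done))) (Scr.cons (nat_lit 55) (nat_lit 3) (Step.U (nat_lit 322) (Step.D (nat_lit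 321) (Step.F (nat_lit 395) (Step.D (nat_lit 323) Step.done)))) (Scr.cons (nat_lit 18) (nat_lit 1) (Step.U (nat_lit 322) (Step.U (nat_lit 251) (Step.B (nat_lit 350) (Step.D (nat_lit 256) (Step.D (nat_lit 333) Step.done))))) (Scr.cons (nat_lit 14) (nat_lit 0) (Step.U (nat_lit 201) (Step.L (Step.D (nat_lit 235) Step.done))) (Scr.cons (nat_lit 13) (nat_lit 0) (Step.U (nat_lit 252) (Step.B (nat_lit 398) (Step.D (nat_lit 282) Step.done))) (Scr.cons (nat_lit 14) (nat_lit 0) (Step.U (nat_lit 324) (Step.B (nat_lit 399) (Step.D (nat_lit 401) Step.done))) (Scr.cons (nat_lit 18) (nat_lit 1) (Step.U (nat_lit 345) (Step.U (nat_lit 260) (Step.B (nat_lit 360) (Step.L (Step.D (nat_lit 346) Step.done))))) (Scr.cons (nat_lit 23) (nat_lit 0) (Step.B (nat_lit 401) (Step.B (nat_lit 374) (Step.B (nat_lit 376) (Step.U (nat_lit 326) (Step.D (nat_lit 324) Step.done))))) (Scr.cons (nat_lit 26) (nat_lit 1) (Step.U (nat_lit 202) (Step.L (Step.D (nat_lit 213) Step.done))) (Scr.cons (nat_lit 14) (nat_lit 0) (Step.U (nat_lit 256) (Step.B (nat_lit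 403) (Step.D (nat_lit 260) Step.done))) (Scr.cons (nat_lit 21) (nat_lit 1) (Step.U (nat_lit 333) (Step.B (nat_lit 404) (Step.D (nat_lit 345) Step.done))) t))))))))))))))))))))))))))))))))))))))))
noncomputable def s10 (t : Scr) : Scr := (Scr.cons (nat_lit 26) (nat_lit 0) (Step.F (nat_lit 400) (Step.F (nat_lit 402) (Step.F (nat_lit 405) Step.done))) (Scr.cons (nat_lit 23) (nat_lit 1) (Step.F (nat_lit 396) (Step.B (nat_lit 397) (Step.F (nat_lit 406) (Step.U (nat_lit 401) (Step.D (nat_lit 403) Step.done))))) (Scr.cons (nat_lit 18) (nat_lit 0) (Step.U (nat_lit 235) (Step.L (Step.L (Step.L (Step.D (nat_lit 235) Step.done))))) (Scr.cons (nat_lit 17) (nat_lit 0) (Step.U (nat_lit 282) (Step.F (nat_lit 408) (Step.D (nat_lit 282) Step.done))) (Scr.cons (nat_lit 31) (nat_lit 2) (Step.F (nat_lit 395) (Step.D (nat_lit 323) (Step.B (nat_lit 407) (Step.U (nat_lit 403) (Step.F (nat_lit 409) (Step.D (nat_lit 401) (Step.B (nat_lit 406) (Step.U (nat_lit 333) (Step.U (nat_lit 256) (Step.U (nat_lit 202) (Step.L (Step.L (Step.L (Step.D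 (nat_lit 480) Step.done)))))))))))))) (Scr.cons (nat_lit 22) (nat_lit 1) (Step.L (Step.L (Step.D (nat_lit 202) Step.done))) (Scr.cons (nat_lit 17) (nat_lit 1) (Step.B (nat_lit 350) (Step.F (nat_lit 411) (Step.L Step.done))) (Scr.cons (nat_lit 7) (nat_lit 0) (Step.F (nat_lit 372) (Step.B (nat_lit 384) (Step.B (nat_lit 393) (Step.F (nat_lit 410) (Step.U (nat_lit 321) (Step.U (nat_lit 251) (Step.B (nat_lit 412) (Step.L (Step.L Step.done))))))))) (Scr.cons (nat_lit 25) (nat_lit 1) (Step.L (Step.L (Step.D (nat_lit 398) Step.done))) (Scr.cons (nat_lit 11) (nat_lit 0) (Step.L (Step.F (nat_lit 413) (Step.F (nat_lit 414) (Step.D (nat_lit 478) Step.done)))) (Scr.cons (nat_lit 1) (nat_lit 0) (Step.D (nat_lit 478) (Step.F (nat_lit 415) Step.done)) (Scr.cons (nat_lit 9) (nat_lit 0) (Step.L (Step.L (Step.L (Step.L (Step.D (nat_lit 367) Step.done))))) (Scr.cons (nat_lit 30) (nat_lit 3) (Step.L (Step.B (nat_lit 417) (Step.U (nat_lit 367) (Step.L (Step.L (Step.L (Step.L (Step.L (Step.L (Step.L (Step.L (Step.L (Step.L (Step.L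 (Step.L (Step.L (Step.L (Step.L (Step.L Step.done))))))))))))))))))) (Scr.cons (nat_lit 17) (nat_lit 1) (Step.L (Step.L (Step.D (nat_lit 688) Step.done))) (Scr.cons (nat_lit 19) (nat_lit 0) (Step.L (Step.L (Step.D (nat_lit 525) Step.done))) (Scr.cons (nat_lit 18) (nat_lit 1) (Step.F (nat_lit 420) (Step.L (Step.L (Step.L (Step.L Step.done))))) (Scr.cons (nat_lit 19) (nat_lit 0) (Step.L (Step.L (Step.D (nat_lit 499) Step.done))) (Scr.cons (nat_lit 56) (nat_lit 1) (Step.L (Step.D (nat_lit 688) (Step.F (nat_lit 419) (Step.F (nat_lit 421) (Step.U (nat_lit 525) (Step.L (Step.L (Step.L (Step.L (Step.L (Step.L (Step.L (Step.L (Step.L (Step.L (Step.L (Step.D (nat_lit 499) (Step.F (nat_lit 422) (Step.L Step.done))))))))))))))))))) (Scr.cons (nat_lit 9) (nat_lit 1) (Step.U (nat_lit 725) (Step.L (Step.L (Step.L (Step.D (nat_lit 730) Step.done))))) (Scr.cons (nat_lit 19) (nat_lit 0) (Step.L (Step.L (Step.D (nat_lit 725) Step.done))) (Scr.cons (nat_lit 9) (nat_lit 1) (Step.L (Step.L (Step.L (Step.D (nat_lit 496) (Step.D (nat_lit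 698) Step.done))))) (Scr.cons (nat_lit 14) (nat_lit 0) (Step.U (nat_lit 348) (Step.L (Step.D (nat_lit 496) Step.done))) (Scr.cons (nat_lit 15) (nat_lit 0) (Step.U (nat_lit 503) (Step.B (nat_lit 427) (Step.D (nat_lit 698) Step.done))) (Scr.cons (nat_lit 23) (nat_lit 1) (Step.U (nat_lit 532) (Step.L (Step.L (Step.L (Step.D (nat_lit 540) Step.done))))) (Scr.cons (nat_lit 55) (nat_lit 2) (Step.U (nat_lit 532) (Step.L (Step.L (Step.D (nat_lit 533) Step.done)))) (Scr.cons (nat_lit 23) (nat_lit 0) (Step.U (nat_lit 320) (Step.U (nat_lit 250) (Step.L (Step.L (Step.D (nat_lit 441) Step.done))))) (Scr.cons (nat_lit 22) (nat_lit 0) (Step.U (nat_lit 481) (Step.B (nat_lit 431) (Step.D (nat_lit 639) Step.done))) (Scr.cons (nat_lit 55) (nat_lit 3) (Step.U (nat_lit 640) (Step.D (nat_lit 639) (Step.F (nat_lit 432) (Step.D (nat_lit 683) Step.done)))) (Scr.cons (nat_lit 31) (nat_lit 2) (Step.F (nat_lit 433) (Step.U (nat_lit 640) (Step.U (nat_lit 441) (Step.L (Step.L (Step.L (Step.L (Step.L (Step.L (Step.L (Step.L (Step.L (Step.D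 (nat_lit 532) (Step.B (nat_lit 430) Step.done)))))))))))))) (Scr.cons (nat_lit 18) (nat_lit 0) (Step.F (nat_lit 429) (Step.B (nat_lit 430) (Step.F (nat_lit 434) (Step.U (nat_lit 683) (Step.D (nat_lit 682) Step.done))))) (Scr.cons (nat_lit 18) (nat_lit 0) (Step.L (Step.L (Step.D (nat_lit 265) (Step.D (nat_lit 366) (Step.D (nat_lit 538) Step.done))))) (Scr.cons (nat_lit 30) (nat_lit 0) (Step.U (nat_lit 503) (Step.U (nat_lit 348) (Step.L (Step.L (Step.L (Step.L (Step.L (Step.L (Step.L (Step.L (Step.L (Step.L (Step.L (Step.L (Step.L (Step.L (Step.L (Step.L (Step.L Step.done))))))))))))))))))) (Scr.cons (nat_lit 17) (nat_lit 1) (Step.B (nat_lit 437) (Step.L (Step.B (nat_lit 436) Step.done))) (Scr.cons (nat_lit 55) (nat_lit 1) (Step.F (nat_lit 435) (Step.U (nat_lit 540) (Step.B (nat_lit 436) (Step.F (nat_lit 438) Step.done)))) (Scr.cons (nat_lit 26) (nat_lit 1) (Step.U (nat_lit 250) (Step.L (Step.L Step.done))) (Scr.cons (nat_lit 14) (nat_lit 0) (Step.U (nat_lit 320) (Step.B (nat_lit 440) (Step.L Step.done))) (Scr.cons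 (nat_lit 13) (nat_lit 0) (Step.U (nat_lit 481) (Step.B (nat_lit 441) (Step.D (nat_lit 493) Step.done))) (Scr.cons (nat_lit 14) (nat_lit 0) (Step.U (nat_lit 682) (Step.B (nat_lit 442) (Step.D (nat_lit 696) Step.done))) (Scr.cons (nat_lit 26) (nat_lit 0) (Step.F (nat_lit 428) (Step.F (nat_lit 439) (Step.B (nat_lit 443) Step.done))) (Scr.cons (nat_lit 13) (nat_lit 0) (Step.U (nat_lit 502) (Step.B (nat_lit 427) (Step.D (nat_lit 697) Step.done))) t))))))))))))))))))))))))))))))))))))))))
noncomputable def s11 (t : Scr) : Scr := (Scr.cons (nat_lit 8) (nat_lit 0) (Step.F (nat_lit 438) (Step.U (nat_lit 503) (Step.D (nat_lit 502) Step.done))) (Scr.cons (nat_lit 14) (nat_lit 0) (Step.U (nat_lit 265) (Step.L (Step.D (nat_lit 358) Step.done))) (Scr.cons (nat_lit 15) (nat_lit 0) (Step.U (nat_lit 290) (Step.L (Step.D (nat_lit 370) Step.done))) (Scr.cons (nat_lit 4) (nat_lit 0) (Step.B (nat_lit 448) (Step.B (nat_lit 338) (Step.B (nat_lit 447) Step.done))) (Scr.cons (nat_lit 4) (nat_lit 0) (Step.B (nat_lit 447) (Step.F (nat_lit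 449) Step.done)) (Scr.cons (nat_lit 21) (nat_lit 1) (Step.U (nat_lit 366) (Step.B (nat_lit 450) (Step.D (nat_lit 426) Step.done))) (Scr.cons (nat_lit 14) (nat_lit 0) (Step.U (nat_lit 538) (Step.B (nat_lit 451) (Step.D (nat_lit 624) Step.done))) (Scr.cons (nat_lit 15) (nat_lit 1) (Step.F (nat_lit 445) (Step.F (nat_lit 446) (Step.B (nat_lit 452) Step.done))) (Scr.cons (nat_lit 8) (nat_lit 1) (Step.F (nat_lit 453) (Step.U (nat_lit 697) (Step.D (nat_lit 698) Step.done))) (Scr.cons (nat_lit 1) (nat_lit 0) (Step.D (nat_lit 358) (Step.F (nat_lit 449) Step.done)) (Scr.cons (nat_lit 18) (nat_lit 0) (Step.L (Step.L (Step.B (nat_lit 455) (Step.D (nat_lit 426) (Step.D (nat_lit 624) Step.done))))) (Scr.cons (nat_lit 17) (nat_lit 0) (Step.F (nat_lit 454) (Step.F (nat_lit 456) (Step.D (nat_lit 721) Step.done))) (Scr.cons (nat_lit 55) (nat_lit 2) (Step.F (nat_lit 444) (Step.B (nat_lit 457) (Step.U (nat_lit 721) (Step.D (nat_lit 723) Step.done)))) (Scr.cons (nat_lit 23) (nat_lit 1) (Step.U (nat_lit 723) (Step.L (Step.L (Step.L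 (Step.D (nat_lit 724) Step.done))))) (Scr.cons (nat_lit 31) (nat_lit 0) (Step.F (nat_lit 425) (Step.B (nat_lit 426) (Step.B (nat_lit 444) (Step.B (nat_lit 458) (Step.B (nat_lit 459) (Step.U (nat_lit 724) (Step.L (Step.L (Step.L (Step.L (Step.L (Step.D (nat_lit 359) (Step.D (nat_lit 520) (Step.D (nat_lit 726) Step.done)))))))))))))) (Scr.cons (nat_lit 55) (nat_lit 3) (Step.L (Step.L (Step.D (nat_lit 359) (Step.D (nat_lit 520) Step.done)))) (Scr.cons (nat_lit 23) (nat_lit 0) (Step.F (nat_lit 424) (Step.B (nat_lit 460) (Step.U (nat_lit 726) (Step.F (nat_lit 461) (Step.L Step.done))))) (Scr.cons (nat_lit 24) (nat_lit 1) (Step.F (nat_lit 462) (Step.U (nat_lit 730) (Step.L Step.done))) (Scr.cons (nat_lit 25) (nat_lit 1) (Step.U (nat_lit 264) (Step.L (Step.L Step.done))) (Scr.cons (nat_lit 20) (nat_lit 1) (Step.U (nat_lit 360) (Step.B (nat_lit 464) (Step.L Step.done))) (Scr.cons (nat_lit 11) (nat_lit 0) (Step.U (nat_lit 524) (Step.B (nat_lit 465) (Step.L Step.done))) (Scr.cons (nat_lit 9) (nat_lit 1) (Step.L (Step.L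 (Step.L (Step.D (nat_lit 348) (Step.D (nat_lit 503) Step.done))))) (Scr.cons (nat_lit 31) (nat_lit 0) (Step.L (Step.B (nat_lit 467) (Step.F (nat_lit 439) (Step.F (nat_lit 435) (Step.F (nat_lit 429) (Step.U (nat_lit 532) (Step.L (Step.L (Step.L (Step.L (Step.L (Step.D (nat_lit 264) (Step.D (nat_lit 360) (Step.D (nat_lit 524) Step.done)))))))))))))) (Scr.cons (nat_lit 25) (nat_lit 0) (Step.F (nat_lit 466) (Step.F (nat_lit 468) (Step.L Step.done))) (Scr.cons (nat_lit 19) (nat_lit 1) (Step.U (nat_lit 537) (Step.L (Step.D (nat_lit 739) Step.done))) (Scr.cons (nat_lit 18) (nat_lit 0) (Step.U (nat_lit 268) (Step.L (Step.L (Step.L (Step.D (nat_lit 374) Step.done))))) (Scr.cons (nat_lit 17) (nat_lit 0) (Step.U (nat_lit 376) (Step.B (nat_lit 471) (Step.D (nat_lit 551) Step.done))) (Scr.cons (nat_lit 56) (nat_lit 2) (Step.F (nat_lit 472) (Step.U (nat_lit 376) (Step.U (nat_lit 268) (Step.L (Step.L (Step.L (Step.L (Step.L (Step.L (Step.L (Step.L (Step.L (Step.L (Step.L (Step.L (Step.L (Step.L (Step.L (Step.L Step.done)))))))))))))))))))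 (Scr.cons (nat_lit 19) (nat_lit 0) (Step.F (nat_lit 473) (Step.F (nat_lit 472) (Step.D (nat_lit 554) Step.done))) (Scr.cons (nat_lit 18) (nat_lit 1) (Step.F (nat_lit 474) (Step.L (Step.L (Step.L (Step.D (nat_lit 537) Step.done))))) (Scr.cons (nat_lit 8) (nat_lit 1) (Step.U (nat_lit 377) (Step.D (nat_lit 376) (Step.D (nat_lit 554) Step.done))) (Scr.cons (nat_lit 19) (nat_lit 0) (Step.U (nat_lit 377) (Step.B (nat_lit 471) (Step.D (nat_lit 552) Step.done))) (Scr.cons (nat_lit 17) (nat_lit 1) (Step.L (Step.L (Step.D (nat_lit 371) Step.done))) (Scr.cons (nat_lit 2) (nat_lit 0) (Step.D (nat_lit 365) (Step.F (nat_lit 339) Step.done)) (Scr.cons (nat_lit 30) (nat_lit 0) (Step.D (nat_lit 739) (Step.F (nat_lit 470) (Step.F (nat_lit 475) (Step.F (nat_lit 476) (Step.B (nat_lit 477) (Step.U (nat_lit 552) (Step.U (nat_lit 374) (Step.B (nat_lit 478) (Step.U (nat_lit 371) (Step.F (nat_lit 479) (Step.U (nat_lit 265) (Step.L (Step.L (Step.L (Step.L (Step.L (Step.L (Step.L (Step.L (Step.D (nat_lit 616) Step.done))))))))))))))))))))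 (Scr.cons (nat_lit 0) (nat_lit 0) (Step.D (nat_lit 616) (Step.F (nat_lit 480) (Step.D (nat_lit 738) Step.done))) (Scr.cons (nat_lit 0) (nat_lit 0) (Step.D (nat_lit 738) (Step.F (nat_lit 481) Step.done)) (Scr.cons (nat_lit 8) (nat_lit 1) (Step.L (Step.L (Step.D (nat_lit 607) Step.done))) (Scr.cons (nat_lit 15) (nat_lit 0) (Step.L (Step.L (Step.D (nat_lit 548) Step.done))) (Scr.cons (nat_lit 13) (nat_lit 0) (Step.U (nat_lit 536) (Step.L (Step.D (nat_lit 729) Step.done))) t))))))))))))))))))))))))))))))))))))))))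
noncomputable def s12 (t : Scr) : Scr := (Scr.cons (nat_lit 9) (nat_lit 0) (Step.L (Step.L (Step.L (Step.L (Step.D (nat_lit 610) Step.done))))) (Scr.cons (nat_lit 8) (nat_lit 0) (Step.U (nat_lit 536) (Step.L (Step.D (nat_lit 738) Step.done))) (Scr.cons (nat_lit 2) (nat_lit 0) (Step.B (nat_lit 487) (Step.F (nat_lit 481) (Step.B (nat_lit 486) Step.done))) (Scr.cons (nat_lit 2) (nat_lit 0) (Step.B (nat_lit 486) (Step.F (nat_lit 488) Step.done)) (Scr.cons (nat_lit 15) (nat_lit 1) (Step.F (nat_lit 485) (Step.F (nat_lit 489) (Step.L Step.done))) (Scr.cons (nat_lit 9) (nat_lit 1) (Step.U (nat_lit 548) (Step.L (Step.L (Step.L (Step.F (nat_lit 490) Step.done))))) (Scr.cons (nat_lit 7) (nat_lit 1) (Step.U (nat_lit 541) (Step.L (Step.L (Step.L (Step.L (Step.L (Step.L (Step.D (nat_lit 729) (Step.F (nat_lit 491) Step.done))))))))) (Scr.cons (nat_lit 14) (nat_lit 0) (Step.L (Step.L (Step.D (nat_lit 541) Step.done))) (Scr.cons (nat_lit 13) (nat_lit 1) (Step.F (nat_lit 483) (Step.B (nat_lit 484) (Step.F (nat_lit 492) (Step.F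 (nat_lit 493) Step.done)))) (Scr.cons (nat_lit 0) (nat_lit 0) (Step.B (nat_lit 483) (Step.B (nat_lit 494) Step.done)) (Scr.cons (nat_lit 18) (nat_lit 0) (Step.L (Step.L (Step.B (nat_lit 467) (Step.B (nat_lit 437) (Step.L Step.done))))) (Scr.cons (nat_lit 8) (nat_lit 1) (Step.L (Step.D (nat_lit 453) (Step.D (nat_lit 654) Step.done))) (Scr.cons (nat_lit 14) (nat_lit 0) (Step.L (Step.L (Step.D (nat_lit 269) Step.done))) (Scr.cons (nat_lit 13) (nat_lit 0) (Step.U (nat_lit 295) (Step.B (nat_lit 498) (Step.D (nat_lit 378) Step.done))) (Scr.cons (nat_lit 21) (nat_lit 1) (Step.U (nat_lit 434) (Step.B (nat_lit 499) (Step.D (nat_lit 556) Step.done))) (Scr.cons (nat_lit 14) (nat_lit 0) (Step.U (nat_lit 633) (Step.B (nat_lit 500) (Step.D (nat_lit 758) Step.done))) (Scr.cons (nat_lit 23) (nat_lit 0) (Step.L (Step.L (Step.L (Step.L (Step.D (nat_lit 292) Step.done))))) (Scr.cons (nat_lit 22) (nat_lit 0) (Step.U (nat_lit 295) (Step.B (nat_lit 502) (Step.D (nat_lit 429) Step.done))) (Scr.cons (nat_lit 55) (nat_lit 3) (Step.U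 (nat_lit 430) (Step.D (nat_lit 429) (Step.F (nat_lit 503) (Step.D (nat_lit 434) Step.done)))) (Scr.cons (nat_lit 18) (nat_lit 0) (Step.U (nat_lit 456) (Step.L (Step.L (Step.D (nat_lit 454) (Step.D (nat_lit 657) Step.done))))) (Scr.cons (nat_lit 31) (nat_lit 0) (Step.F (nat_lit 505) (Step.U (nat_lit 456) (Step.L (Step.L (Step.L (Step.L (Step.L (Step.L (Step.L (Step.L (Step.L (Step.B (nat_lit 502) (Step.D (nat_lit 430) (Step.D (nat_lit 629) Step.done)))))))))))))) (Scr.cons (nat_lit 23) (nat_lit 0) (Step.U (nat_lit 633) (Step.F (nat_lit 504) (Step.D (nat_lit 629) (Step.F (nat_lit 506) (Step.U (nat_lit 657) Step.done))))) (Scr.cons (nat_lit 21) (nat_lit 1) (Step.U (nat_lit 454) (Step.L (Step.D (nat_lit 566) Step.done))) (Scr.cons (nat_lit 26) (nat_lit 0) (Step.F (nat_lit 501) (Step.B (nat_lit 507) (Step.B (nat_lit 508) Step.done))) (Scr.cons (nat_lit 55) (nat_lit 2) (Step.B (nat_lit 509) (Step.U (nat_lit 566) (Step.D (nat_lit 565) (Step.D (nat_lit 765) Step.done)))) (Scr.cons (nat_lit 18) (nat_lit 0) (Step.U (nat_lit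 286) (Step.L (Step.L (Step.D (nat_lit 284) (Step.D (nat_lit 404) Step.done))))) (Scr.cons (nat_lit 17) (nat_lit 0) (Step.U (nat_lit 408) (Step.B (nat_lit 511) (Step.D (nat_lit 580) Step.done))) (Scr.cons (nat_lit 19) (nat_lit 0) (Step.L (Step.L (Step.D (nat_lit 414) Step.done))) (Scr.cons (nat_lit 9) (nat_lit 1) (Step.U (nat_lit 528) (Step.U (nat_lit 361) (Step.L (Step.L (Step.F (nat_lit 473) Step.done))))) (Scr.cons (nat_lit 14) (nat_lit 0) (Step.U (nat_lit 291) (Step.L (Step.D (nat_lit 374) Step.done))) (Scr.cons (nat_lit 13) (nat_lit 0) (Step.U (nat_lit 428) (Step.B (nat_lit 515) (Step.D (nat_lit 551) Step.done))) (Scr.cons (nat_lit 14) (nat_lit 0) (Step.B (nat_lit 514) (Step.F (nat_lit 516) (Step.D (nat_lit 627) Step.done))) (Scr.cons (nat_lit 14) (nat_lit 0) (Step.U (nat_lit 361) (Step.L (Step.D (nat_lit 522) Step.done))) (Scr.cons (nat_lit 15) (nat_lit 1) (Step.F (nat_lit 517) (Step.U (nat_lit 528) (Step.B (nat_lit 518) Step.done))) (Scr.cons (nat_lit 56) (nat_lit 3) (Step.U (nat_lit 596) (Step.U (nat_lit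 413) (Step.D (nat_lit 414) (Step.F (nat_lit 513) (Step.L (Step.L (Step.L (Step.L (Step.L (Step.L (Step.L (Step.L (Step.L (Step.L (Step.L (Step.L (Step.L (Step.D (nat_lit 522) (Step.F (nat_lit 519) Step.done))))))))))))))))))) (Scr.cons (nat_lit 18) (nat_lit 0) (Step.U (nat_lit 238) (Step.L (Step.L (Step.L (Step.D (nat_lit 291) Step.done))))) (Scr.cons (nat_lit 17) (nat_lit 0) (Step.U (nat_lit 293) (Step.B (nat_lit 521) (Step.D (nat_lit 428) Step.done))) (Scr.cons (nat_lit 18) (nat_lit 1) (Step.B (nat_lit 520) (Step.U (nat_lit 627) (Step.F (nat_lit 522) (Step.D (nat_lit 431) (Step.D (nat_lit 631) Step.done))))) (Scr.cons (nat_lit 7) (nat_lit 1) (Step.F (nat_lit 523) (Step.U (nat_lit 596) (Step.U (nat_lit 413) (Step.L (Step.L (Step.L (Step.D (nat_lit 286) (Step.D (nat_lit 408) (Step.D (nat_lit 588) Step.done))))))))) (Scr.cons (nat_lit 17) (nat_lit 0) (Step.F (nat_lit 524) (Step.U (nat_lit 631) (Step.D (nat_lit 630) Step.done))) t))))))))))))))))))))))))))))))))))))))))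
noncomputable def s13 (t : Scr) : Scr := (Scr.cons (nat_lit 7) (nat_lit 0) (Step.U (nat_lit 438) (Step.U (nat_lit 296) (Step.L (Step.L (Step.L (Step.D (nat_lit 238) (Step.D (nat_lit 293) (Step.D (nat_lit 431) (Step.D (nat_lit 630) Step.done))))))))) (Scr.cons (nat_lit 18) (nat_lit 1) (Step.F (nat_lit 512) (Step.D (nat_lit 588) (Step.B (nat_lit 525) (Step.F (nat_lit 526) (Step.D (nat_lit 636) Step.done))))) (Scr.cons (nat_lit 55) (nat_lit 3) (Step.U (nat_lit 636) (Step.U (nat_lit 438) (Step.D (nat_lit 440) (Step.D (nat_lit 638) Step.done)))) (Scr.cons (nat_lit 23) (nat_lit 1) (Step.U (nat_lit 440) (Step.U (nat_lit 296) (Step.L (Step.D (nat_lit 300) (Step.D (nat_lit 452) Step.done))))) (Scr.cons (nat_lit 18) (nat_lit 0) (Step.U (nat_lit 300) (Step.L (Step.L (Step.L (Step.D (nat_lit 450) Step.done))))) (Scr.cons (nat_lit 31) (nat_lit 2) (Step.U (nat_lit 590) (Step.B (nat_lit 512) (Step.B (nat_lit 527) (Step.B (nat_lit 528) (Step.U (nat_lit 638) (Step.B (nat_lit 529) (Step.U (nat_lit 452) (Step.B (nat_lit 530) (Step.U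 (nat_lit 450) (Step.L (Step.L (Step.L (Step.D (nat_lit 455) (Step.D (nat_lit 658) Step.done)))))))))))))) (Scr.cons (nat_lit 24) (nat_lit 1) (Step.U (nat_lit 590) (Step.D (nat_lit 589) (Step.D (nat_lit 783) Step.done))) (Scr.cons (nat_lit 55) (nat_lit 2) (Step.U (nat_lit 582) (Step.F (nat_lit 511) (Step.D (nat_lit 408) (Step.D (nat_lit 590) Step.done)))) (Scr.cons (nat_lit 22) (nat_lit 1) (Step.U (nat_lit 410) (Step.D (nat_lit 408) (Step.D (nat_lit 590) Step.done))) (Scr.cons (nat_lit 17) (nat_lit 1) (Step.B (nat_lit 533) (Step.F (nat_lit 534) (Step.D (nat_lit 592) Step.done))) (Scr.cons (nat_lit 23) (nat_lit 1) (Step.U (nat_lit 410) (Step.U (nat_lit 286) (Step.L (Step.L (Step.D (nat_lit 420) Step.done))))) (Scr.cons (nat_lit 23) (nat_lit 0) (Step.U (nat_lit 303) (Step.U (nat_lit 245) (Step.D (nat_lit 244) (Step.D (nat_lit 302) (Step.D (nat_lit 458) Step.done))))) (Scr.cons (nat_lit 22) (nat_lit 0) (Step.U (nat_lit 459) (Step.B (nat_lit 537) (Step.D (nat_lit 660) Step.done))) (Scr.cons (nat_lit 55) (nat_lit 3)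 (Step.U (nat_lit 661) (Step.D (nat_lit 660) (Step.F (nat_lit 538) (Step.D (nat_lit 664) Step.done)))) (Scr.cons (nat_lit 18) (nat_lit 0) (Step.U (nat_lit 197) (Step.L (Step.L (Step.D (nat_lit 196) (Step.D (nat_lit 244) Step.done))))) (Scr.cons (nat_lit 31) (nat_lit 2) (Step.F (nat_lit 539) (Step.U (nat_lit 661) (Step.U (nat_lit 458) (Step.U (nat_lit 302) (Step.F (nat_lit 540) (Step.U (nat_lit 197) (Step.L (Step.L (Step.L (Step.L (Step.L (Step.L (Step.D (nat_lit 420) (Step.D (nat_lit 606) Step.done)))))))))))))) (Scr.cons (nat_lit 18) (nat_lit 0) (Step.U (nat_lit 592) (Step.B (nat_lit 536) (Step.D (nat_lit 606) (Step.F (nat_lit 541) (Step.U (nat_lit 664) (Step.D (nat_lit 662) Step.done)))))) (Scr.cons (nat_lit 1) (nat_lit 0) (Step.D (nat_lit 662) (Step.F (nat_lit 542) Step.done)) (Scr.cons (nat_lit 8) (nat_lit 1) (Step.U (nat_lit 460) (Step.D (nat_lit 459) (Step.D (nat_lit 663) Step.done))) (Scr.cons (nat_lit 19) (nat_lit 1) (Step.U (nat_lit 461) (Step.D (nat_lit 460) (Step.D (nat_lit 665) Step.done))) (Scr.cons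 (nat_lit 21) (nat_lit 1) (Step.U (nat_lit 196) (Step.L (Step.D (nat_lit 231) Step.done))) (Scr.cons (nat_lit 26) (nat_lit 1) (Step.U (nat_lit 245) (Step.B (nat_lit 546) (Step.D (nat_lit 273) Step.done))) (Scr.cons (nat_lit 14) (nat_lit 0) (Step.U (nat_lit 303) (Step.B (nat_lit 547) (Step.D (nat_lit 387) Step.done))) (Scr.cons (nat_lit 21) (nat_lit 1) (Step.U (nat_lit 461) (Step.B (nat_lit 548) (Step.D (nat_lit 569) Step.done))) (Scr.cons (nat_lit 9) (nat_lit 0) (Step.U (nat_lit 483) (Step.U (nat_lit 325) (Step.D (nat_lit 324) (Step.D (nat_lit 482) (Step.D (nat_lit 684) Step.done))))) (Scr.cons (nat_lit 22) (nat_lit 0) (Step.U (nat_lit 230) (Step.L (Step.D (nat_lit 270) Step.done))) (Scr.cons (nat_lit 17) (nat_lit 1) (Step.U (nat_lit 231) (Step.D (nat_lit 230) (Step.D (nat_lit 271) Step.done))) (Scr.cons (nat_lit 55) (nat_lit 2) (Step.F (nat_lit 551) (Step.D (nat_lit 271) (Step.F (nat_lit 552) (Step.D (nat_lit 273) Step.done)))) (Scr.cons (nat_lit 18) (nat_lit 1) (Step.U (nat_lit 564) (Step.U (nat_lit 385) (Step.B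 (nat_lit 553) (Step.D (nat_lit 387) (Step.D (nat_lit 569) Step.done))))) (Scr.cons (nat_lit 15) (nat_lit 0) (Step.U (nat_lit 482) (Step.B (nat_lit 400) (Step.D (nat_lit 578) Step.done))) (Scr.cons (nat_lit 18) (nat_lit 0) (Step.U (nat_lit 319) (Step.B (nat_lit 367) (Step.B (nat_lit 375) (Step.F (nat_lit 376) (Step.U (nat_lit 400) (Step.D (nat_lit 399) Step.done)))))) (Scr.cons (nat_lit 1) (nat_lit 0) (Step.D (nat_lit 399) (Step.F (nat_lit 556) Step.done)) (Scr.cons (nat_lit 17) (nat_lit 1) (Step.B (nat_lit 348) (Step.F (nat_lit 378) (Step.D (nat_lit 319) Step.done))) (Scr.cons (nat_lit 7) (nat_lit 1) (Step.U (nat_lit 401) (Step.U (nat_lit 282) (Step.U (nat_lit 235) (Step.L (Step.L (Step.L (Step.B (nat_lit 557) (Step.F (nat_lit 558) (Step.D (nat_lit 473) Step.done))))))))) (Scr.cons (nat_lit 8) (nat_lit 1) (Step.U (nat_lit 578) (Step.B (nat_lit 559) (Step.D (nat_lit 675) Step.done))) (Scr.cons (nat_lit 23) (nat_lit 0) (Step.U (nat_lit 287) (Step.L (Step.L (Step.D (nat_lit 285) (Step.D (nat_lit 405) Step.done)))))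 (Scr.cons (nat_lit 22) (nat_lit 0) (Step.U (nat_lit 411) (Step.B (nat_lit 561) (Step.D (nat_lit 583) Step.done))) (Scr.cons (nat_lit 17) (nat_lit 1) (Step.U (nat_lit 412) (Step.D (nat_lit 411) (Step.D (nat_lit 593) Step.done))) (Scr.cons (nat_lit 55) (nat_lit 2) (Step.F (nat_lit 562) (Step.D (nat_lit 593) (Step.F (nat_lit 563) (Step.D (nat_lit 594) Step.done)))) (Scr.cons (nat_lit 18) (nat_lit 1) (Step.U (nat_lit 412) (Step.U (nat_lit 287) (Step.L (Step.D (nat_lit 289) (Step.D (nat_lit 417) Step.done))))) t))))))))))))))))))))))))))))))))))))))))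
noncomputable def s14 (t : Scr) : Scr := (Scr.cons (nat_lit 55) (nat_lit 2) (Step.U (nat_lit 651) (Step.F (nat_lit 530) (Step.D (nat_lit 451) (Step.D (nat_lit 653) Step.done)))) (Scr.cons (nat_lit 57) (nat_lit 0) (Step.F (nat_lit 566) (Step.U (nat_lit 651) (Step.U (nat_lit 450) (Step.L (Step.L (Step.L (Step.L (Step.L (Step.L (Step.L (Step.L (Step.D (nat_lit 289) (Step.D (nat_lit 417) (Step.D (nat_lit 603) Step.done)))))))))))))) (Scr.cons (nat_lit 23) (nat_lit 0) (Step.U (nat_lit 594) (Step.B (nat_lit 565) (Step.D (nat_lit 603) (Step.F (nat_lit 567) (Step.U (nat_lit 653) (Step.D (nat_lit 652) Step.done)))))) (Scr.cons (nat_lit 1) (nat_lit 0) (Step.D (nat_lit 652) (Step.F (nat_lit 568) Step.done)) (Scr.cons (nat_lit 17) (nat_lit 0) (Step.U (nat_lit 451) (Step.B (nat_lit 530) (Step.D (nat_lit 650) Step.done))) (Scr.cons (nat_lit 22) (nat_lit 0) (Step.U (nat_lit 195) (Step.L (Step.D (nat_lit 240) Step.done))) (Scr.cons (nat_lit 55) (nat_lit 3) (Step.U (nat_lit 241) (Step.D (nat_lit 240) (Step.F (nat_lit 571) (Step.D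 (nat_lit 243) Step.done)))) (Scr.cons (nat_lit 23) (nat_lit 1) (Step.U (nat_lit 447) (Step.U (nat_lit 298) (Step.B (nat_lit 572) (Step.D (nat_lit 301) (Step.D (nat_lit 457) Step.done))))) (Scr.cons (nat_lit 18) (nat_lit 0) (Step.U (nat_lit 242) (Step.L (Step.L (Step.D (nat_lit 241) (Step.D (nat_lit 298) Step.done))))) (Scr.cons (nat_lit 55) (nat_lit 2) (Step.U (nat_lit 447) (Step.F (nat_lit 574) (Step.D (nat_lit 299) (Step.D (nat_lit 449) Step.done)))) (Scr.cons (nat_lit 23) (nat_lit 0) (Step.U (nat_lit 289) (Step.L (Step.L (Step.L (Step.D (nat_lit 415) Step.done))))) (Scr.cons (nat_lit 22) (nat_lit 0) (Step.U (nat_lit 416) (Step.B (nat_lit 576) (Step.D (nat_lit 599) Step.done))) (Scr.cons (nat_lit 55) (nat_lit 3) (Step.U (nat_lit 600) (Step.D (nat_lit 599) (Step.F (nat_lit 577) (Step.D (nat_lit 602) Step.done)))) (Scr.cons (nat_lit 31) (nat_lit 2) (Step.F (nat_lit 578) (Step.U (nat_lit 600) (Step.U (nat_lit 415) (Step.L (Step.L (Step.L (Step.L (Step.L (Step.L (Step.L (Step.D (nat_lit 241) (Step.D (nat_lit 298)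 (Step.D (nat_lit 447) (Step.B (nat_lit 575) Step.done)))))))))))))) (Scr.cons (nat_lit 18) (nat_lit 0) (Step.F (nat_lit 573) (Step.B (nat_lit 575) (Step.F (nat_lit 579) (Step.U (nat_lit 602) (Step.D (nat_lit 601) Step.done))))) (Scr.cons (nat_lit 17) (nat_lit 1) (Step.U (nat_lit 417) (Step.D (nat_lit 416) (Step.D (nat_lit 602) Step.done))) (Scr.cons (nat_lit 55) (nat_lit 2) (Step.F (nat_lit 577) (Step.D (nat_lit 602) (Step.F (nat_lit 581) (Step.D (nat_lit 603) Step.done)))) (Scr.cons (nat_lit 31) (nat_lit 2) (Step.U (nat_lit 646) (Step.U (nat_lit 446) (Step.U (nat_lit 297) (Step.F (nat_lit 571) (Step.D (nat_lit 243) (Step.D (nat_lit 301) (Step.D (nat_lit 457) (Step.B (nat_lit 580) (Step.U (nat_lit 601) (Step.B (nat_lit 577) (Step.B (nat_lit 582) (Step.F (nat_lit 567) (Step.U (nat_lit 653) (Step.B (nat_lit 570) Step.done)))))))))))))) (Scr.cons (nat_lit 17) (nat_lit 1) (Step.U (nat_lit 446) (Step.D (nat_lit 445) (Step.D (nat_lit 644) Step.done))) (Scr.cons (nat_lit 55) (nat_lit 2) (Step.U (nat_lit 645) (Step.D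 (nat_lit 644) (Step.F (nat_lit 584) (Step.D (nat_lit 646) Step.done)))) (Scr.cons (nat_lit 18) (nat_lit 1) (Step.B (nat_lit 564) (Step.F (nat_lit 569) (Step.B (nat_lit 570) (Step.F (nat_lit 583) (Step.F (nat_lit 585) Step.done))))) (Scr.cons (nat_lit 57) (nat_lit 0) (Step.U (nat_lit 644) (Step.D (nat_lit 645) (Step.F (nat_lit 586) (Step.B (nat_lit 564) (Step.U (nat_lit 594) (Step.B (nat_lit 565) (Step.U (nat_lit 417) (Step.B (nat_lit 576) (Step.U (nat_lit 415) (Step.L (Step.L (Step.L (Step.D (nat_lit 421) (Step.D (nat_lit 613) Step.done)))))))))))))) (Scr.cons (nat_lit 24) (nat_lit 1) (Step.U (nat_lit 467) (Step.D (nat_lit 466) (Step.D (nat_lit 668) Step.done))) (Scr.cons (nat_lit 23) (nat_lit 0) (Step.U (nat_lit 468) (Step.U (nat_lit 309) (Step.L (Step.D (nat_lit 467) (Step.D (nat_lit 669) Step.done))))) (Scr.cons (nat_lit 8) (nat_lit 1) (Step.L (Step.D (nat_lit 198) (Step.D (nat_lit 246) Step.done))) (Scr.cons (nat_lit 17) (nat_lit 1) (Step.L (Step.B (nat_lit 590) (Step.D (nat_lit 307) Step.done))) (Scr.cons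 (nat_lit 55) (nat_lit 2) (Step.U (nat_lit 308) (Step.D (nat_lit 307) (Step.F (nat_lit 591) (Step.D (nat_lit 309) Step.done)))) (Scr.cons (nat_lit 1) (nat_lit 0) (Step.D (nat_lit 334) (Step.F (nat_lit 333) (Step.D (nat_lit 306) Step.done))) (Scr.cons (nat_lit 1) (nat_lit 0) (Step.D (nat_lit 306) (Step.F (nat_lit 593) Step.done)) (Scr.cons (nat_lit 55) (nat_lit 3) (Step.U (nat_lit 336) (Step.U (nat_lit 257) (Step.D (nat_lit 258) (Step.D (nat_lit 339) Step.done)))) (Scr.cons (nat_lit 23) (nat_lit 1) (Step.L (Step.L (Step.L (Step.L (Step.D (nat_lit 258) Step.done))))) (Scr.cons (nat_lit 18) (nat_lit 0) (Step.L (Step.L (Step.B (nat_lit 596) (Step.D (nat_lit 339) (Step.D (nat_lit 488) Step.done))))) (Scr.cons (nat_lit 23) (nat_lit 1) (Step.L (Step.L (Step.L (Step.L (Step.D (nat_lit 494) Step.done))))) (Scr.cons (nat_lit 17) (nat_lit 0) (Step.U (nat_lit 491) (Step.L (Step.D (nat_lit 691) Step.done))) (Scr.cons (nat_lit 55) (nat_lit 3) (Step.F (nat_lit 599) (Step.U (nat_lit 491) (Step.L (Step.D (nat_lit 693) Step.done))))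 (Scr.cons (nat_lit 17) (nat_lit 1) (Step.F (nat_lit 520) (Step.U (nat_lit 596) (Step.D (nat_lit 598) Step.done))) (Scr.cons (nat_lit 19) (nat_lit 0) (Step.U (nat_lit 432) (Step.B (nat_lit 522) (Step.D (nat_lit 628) Step.done))) (Scr.cons (nat_lit 8) (nat_lit 1) (Step.U (nat_lit 294) (Step.D (nat_lit 293) (Step.D (nat_lit 432) Step.done))) (Scr.cons (nat_lit 9) (nat_lit 1) (Step.L (Step.L (Step.L (Step.D (nat_lit 238) (Step.D (nat_lit 294) Step.done))))) (Scr.cons (nat_lit 19) (nat_lit 0) (Step.U (nat_lit 495) (Step.B (nat_lit 369) (Step.L Step.done))) t))))))))))))))))))))))))))))))))))))))))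
noncomputable def s15 (t : Scr) : Scr := (Scr.cons (nat_lit 8) (nat_lit 1) (Step.L (Step.D (nat_lit 343) (Step.D (nat_lit 495) Step.done))) (Scr.cons (nat_lit 56) (nat_lit 1) (Step.U (nat_lit 597) (Step.D (nat_lit 598) (Step.F (nat_lit 601) (Step.U (nat_lit 627) (Step.D (nat_lit 628) (Step.F (nat_lit 602) (Step.F (nat_lit 603) (Step.F (nat_lit 604) (Step.L (Step.L (Step.L (Step.L (Step.L (Step.F (nat_lit 605) (Step.F (nat_lit 606) (Step.L (Step.L (Step.L (Step.D (nat_lit 691) Step.done))))))))))))))))))) (Scr.cons (nat_lit 57) (nat_lit 1) (Step.F (nat_lit 589) (Step.U (nat_lit 468) (Step.F (nat_lit 592) (Step.U (nat_lit 308) (Step.B (nat_lit 594) (Step.D (nat_lit 336) (Step.B (nat_lit 595) (Step.D (nat_lit 488) (Step.F (nat_lit 597) (Step.D (nat_lit 494) (Step.F (nat_lit 598) (Step.D (nat_lit 693) (Step.F (nat_lit 600) (Step.F (nat_lit 607) Step.done)))))))))))))) (Scr.cons (nat_lit 19) (nat_lit 1) (Step.U (nat_lit 598) (Step.D (nat_lit 597) (Step.F (nat_lit 608) Step.done))) (Scr.cons (nat_lit 18) (nat_lit 1)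 (Step.U (nat_lit 421) (Step.L (Step.L (Step.D (nat_lit 413) (Step.D (nat_lit 598) Step.done))))) (Scr.cons (nat_lit 19) (nat_lit 1) (Step.U (nat_lit 421) (Step.L (Step.D (nat_lit 611) Step.done))) (Scr.cons (nat_lit 9) (nat_lit 1) (Step.F (nat_lit 588) (Step.D (nat_lit 669) (Step.F (nat_lit 609) (Step.F (nat_lit 610) (Step.B (nat_lit 611) Step.done))))) (Scr.cons (nat_lit 9) (nat_lit 1) (Step.L (Step.L (Step.L (Step.L (Step.D (nat_lit 466) Step.done))))) (Scr.cons (nat_lit 23) (nat_lit 0) (Step.F (nat_lit 612) (Step.U (nat_lit 668) (Step.F (nat_lit 613) (Step.D (nat_lit 472) (Step.D (nat_lit 674) Step.done))))) (Scr.cons (nat_lit 24) (nat_lit 1) (Step.F (nat_lit 614) (Step.F (nat_lit 611) (Step.D (nat_lit 613) Step.done))) (Scr.cons (nat_lit 24) (nat_lit 1) (Step.U (nat_lit 312) (Step.L (Step.D (nat_lit 472) Step.done))) (Scr.cons (nat_lit 9) (nat_lit 1) (Step.B (nat_lit 587) (Step.F (nat_lit 615) (Step.U (nat_lit 674) (Step.F (nat_lit 616) (Step.D (nat_lit 473) (Step.D (nat_lit 675) Step.done)))))) (Scr.cons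 (nat_lit 0) (nat_lit 0) (Step.B (nat_lit 560) (Step.F (nat_lit 617) (Step.F (nat_lit 584) Step.done))) (Scr.cons (nat_lit 13) (nat_lit 0) (Step.U (nat_lit 240) (Step.L (Step.D (nat_lit 270) Step.done))) (Scr.cons (nat_lit 14) (nat_lit 0) (Step.U (nat_lit 297) (Step.B (nat_lit 619) (Step.D (nat_lit 385) Step.done))) (Scr.cons (nat_lit 21) (nat_lit 1) (Step.U (nat_lit 446) (Step.B (nat_lit 620) (Step.D (nat_lit 564) Step.done))) (Scr.cons (nat_lit 4) (nat_lit 0) (Step.B (nat_lit 555) (Step.B (nat_lit 618) (Step.B (nat_lit 621) Step.done))) (Scr.cons (nat_lit 1) (nat_lit 0) (Step.F (nat_lit 554) (Step.F (nat_lit 622) (Step.D (nat_lit 684) Step.done))) (Scr.cons (nat_lit 2) (nat_lit 0) (Step.B (nat_lit 550) (Step.F (nat_lit 623) Step.done)) (Scr.cons (nat_lit 15) (nat_lit 0) (Step.U (nat_lit 325) (Step.B (nat_lit 399) (Step.D (nat_lit 402) Step.done))) (Scr.cons (nat_lit 14) (nat_lit 0) (Step.U (nat_lit 483) (Step.B (nat_lit 625) (Step.D (nat_lit 579) Step.done))) (Scr.cons (nat_lit 15) (nat_lit 1) (Step.F (nat_lit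 545) (Step.B (nat_lit 549) (Step.F (nat_lit 624) (Step.B (nat_lit 626) Step.done)))) (Scr.cons (nat_lit 5) (nat_lit 0) (Step.D (nat_lit 665) (Step.B (nat_lit 627) Step.done)) (Scr.cons (nat_lit 17) (nat_lit 0) (Step.F (nat_lit 544) (Step.B (nat_lit 628) (Step.D (nat_lit 775) Step.done))) (Scr.cons (nat_lit 8) (nat_lit 1) (Step.U (nat_lit 379) (Step.D (nat_lit 378) (Step.D (nat_lit 555) Step.done))) (Scr.cons (nat_lit 17) (nat_lit 1) (Step.U (nat_lit 557) (Step.B (nat_lit 630) (Step.D (nat_lit 757) Step.done))) (Scr.cons (nat_lit 56) (nat_lit 1) (Step.F (nat_lit 532) (Step.F (nat_lit 533) (Step.B (nat_lit 535) (Step.F (nat_lit 543) (Step.D (nat_lit 663) (Step.B (nat_lit 629) (Step.U (nat_lit 775) (Step.U (nat_lit 579) (Step.U (nat_lit 402) (Step.F (nat_lit 409) (Step.U (nat_lit 282) (Step.U (nat_lit 235) (Step.L (Step.L (Step.L (Step.D (nat_lit 269) (Step.D (nat_lit 379) (Step.D (nat_lit 557) (Step.B (nat_lit 631) Step.done))))))))))))))))))) (Scr.cons (nat_lit 19) (nat_lit 1) (Step.U (nat_lit 556) (Step.D (nat_lit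 555) (Step.D (nat_lit 757) Step.done))) (Scr.cons (nat_lit 9) (nat_lit 0) (Step.F (nat_lit 531) (Step.B (nat_lit 532) (Step.B (nat_lit 632) (Step.F (nat_lit 633) (Step.D (nat_lit 758) Step.done))))) (Scr.cons (nat_lit 24) (nat_lit 1) (Step.U (nat_lit 455) (Step.L (Step.D (nat_lit 656) Step.done))) (Scr.cons (nat_lit 19) (nat_lit 0) (Step.F (nat_lit 510) (Step.F (nat_lit 634) (Step.U (nat_lit 658) (Step.B (nat_lit 635) Step.done)))) (Scr.cons (nat_lit 6) (nat_lit 0) (Step.D (nat_lit 765) (Step.B (nat_lit 636) (Step.U (nat_lit 656) Step.done))) (Scr.cons (nat_lit 0) (nat_lit 0) (Step.D (nat_lit 565) (Step.B (nat_lit 637) (Step.B (nat_lit 497) Step.done))) (Scr.cons (nat_lit 0) (nat_lit 0) (Step.B (nat_lit 497) (Step.F (nat_lit 638) Step.done)) (Scr.cons (nat_lit 14) (nat_lit 0) (Step.L (Step.L (Step.D (nat_lit 577) Step.done))) (Scr.cons (nat_lit 13) (nat_lit 0) (Step.L (Step.B (nat_lit 640) (Step.D (nat_lit 774) Step.done))) (Scr.cons (nat_lit 19) (nat_lit 1) (Step.L (Step.D (nat_lit 281) (Step.D (nat_lit 397)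 Step.done))) (Scr.cons (nat_lit 9) (nat_lit 0) (Step.U (nat_lit 576) (Step.F (nat_lit 642) (Step.L (Step.L (Step.D (nat_lit 577) Step.done))))) (Scr.cons (nat_lit 8) (nat_lit 0) (Step.U (nat_lit 773) (Step.B (nat_lit 643) (Step.D (nat_lit 774) Step.done))) (Scr.cons (nat_lit 24) (nat_lit 1) (Step.L (Step.L (Step.D (nat_lit 352) Step.done))) t))))))))))))))))))))))))))))))))))))))))
noncomputable def s16 (t : Scr) : Scr := (Scr.cons (nat_lit 19) (nat_lit 1) (Step.L (Step.B (nat_lit 645) (Step.D (nat_lit 509) Step.done))) (Scr.cons (nat_lit 22) (nat_lit 1) (Step.U (nat_lit 352) (Step.L (Step.D (nat_lit 508) Step.done))) (Scr.cons (nat_lit 19) (nat_lit 1) (Step.U (nat_lit 649) (Step.D (nat_lit 648) (Step.D (nat_lit 799) Step.done))) (Scr.cons (nat_lit 24) (nat_lit 1) (Step.L (Step.L (Step.D (nat_lit 318) Step.done))) (Scr.cons (nat_lit 24) (nat_lit 1) (Step.U (nat_lit 254) (Step.D (nat_lit 253) (Step.D (nat_lit 327) Step.done))) (Scr.cons (nat_lit 9) (nat_lit 0) (Step.U (nat_lit 477) (Step.F (nat_lit 649) (Step.B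 (nat_lit 367) (Step.B (nat_lit 650) (Step.D (nat_lit 485) Step.done))))) (Scr.cons (nat_lit 8) (nat_lit 1) (Step.U (nat_lit 253) (Step.D (nat_lit 252) (Step.D (nat_lit 325) Step.done))) (Scr.cons (nat_lit 22) (nat_lit 1) (Step.U (nat_lit 327) (Step.B (nat_lit 652) (Step.D (nat_lit 484) Step.done))) (Scr.cons (nat_lit 19) (nat_lit 0) (Step.U (nat_lit 253) (Step.F (nat_lit 366) (Step.D (nat_lit 253) Step.done))) (Scr.cons (nat_lit 55) (nat_lit 2) (Step.U (nat_lit 327) (Step.F (nat_lit 654) (Step.B (nat_lit 652) (Step.D (nat_lit 484) Step.done)))) (Scr.cons (nat_lit 55) (nat_lit 2) (Step.F (nat_lit 614) (Step.U (nat_lit 611) (Step.L (Step.D (nat_lit 747) Step.done)))) (Scr.cons (nat_lit 22) (nat_lit 1) (Step.U (nat_lit 612) (Step.L (Step.D (nat_lit 747) Step.done))) (Scr.cons (nat_lit 17) (nat_lit 1) (Step.B (nat_lit 656) (Step.F (nat_lit 657) (Step.D (nat_lit 787) Step.done))) (Scr.cons (nat_lit 24) (nat_lit 1) (Step.L (Step.L (Step.D (nat_lit 612) Step.done))) (Scr.cons (nat_lit 23) (nat_lit 0) (Step.U (nat_lit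 422) (Step.L (Step.L (Step.L (Step.D (nat_lit 614) Step.done))))) (Scr.cons (nat_lit 18) (nat_lit 1) (Step.U (nat_lit 600) (Step.U (nat_lit 415) (Step.L (Step.D (nat_lit 422) (Step.D (nat_lit 617) Step.done))))) (Scr.cons (nat_lit 23) (nat_lit 0) (Step.F (nat_lit 661) (Step.B (nat_lit 578) (Step.B (nat_lit 579) (Step.U (nat_lit 449) (Step.D (nat_lit 448) Step.done))))) (Scr.cons (nat_lit 29) (nat_lit 0) (Step.F (nat_lit 660) (Step.D (nat_lit 617) (Step.B (nat_lit 662) (Step.D (nat_lit 647) Step.done)))) (Scr.cons (nat_lit 17) (nat_lit 1) (Step.B (nat_lit 663) (Step.U (nat_lit 647) (Step.D (nat_lit 649) Step.done))) (Scr.cons (nat_lit 30) (nat_lit 3) (Step.U (nat_lit 678) (Step.B (nat_lit 651) (Step.U (nat_lit 485) (Step.B (nat_lit 653) (Step.F (nat_lit 655) (Step.F (nat_lit 650) (Step.F (nat_lit 367) (Step.B (nat_lit 378) (Step.F (nat_lit 348) (Step.B (nat_lit 616) (Step.D (nat_lit 674) (Step.B (nat_lit 658) (Step.U (nat_lit 787) (Step.F (nat_lit 659) (Step.D (nat_lit 614) (Step.B (nat_lit 664) (Step.U (nat_lit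 649) (Step.D (nat_lit 648) (Step.D (nat_lit 798) Step.done))))))))))))))))))) (Scr.cons (nat_lit 17) (nat_lit 0) (Step.F (nat_lit 665) (Step.U (nat_lit 678) (Step.D (nat_lit 677) Step.done))) (Scr.cons (nat_lit 23) (nat_lit 0) (Step.U (nat_lit 477) (Step.U (nat_lit 318) (Step.B (nat_lit 604) (Step.D (nat_lit 433) (Step.D (nat_lit 632) Step.done))))) (Scr.cons (nat_lit 22) (nat_lit 0) (Step.U (nat_lit 677) (Step.B (nat_lit 667) (Step.D (nat_lit 794) Step.done))) (Scr.cons (nat_lit 1) (nat_lit 0) (Step.D (nat_lit 610) (Step.F (nat_lit 488) Step.done)) (Scr.cons (nat_lit 18) (nat_lit 1) (Step.U (nat_lit 741) (Step.F (nat_lit 669) (Step.D (nat_lit 611) (Step.F (nat_lit 612) (Step.D (nat_lit 801) Step.done))))) (Scr.cons (nat_lit 55) (nat_lit 3) (Step.U (nat_lit 741) (Step.U (nat_lit 536) (Step.L (Step.D (nat_lit 742) Step.done)))) (Scr.cons (nat_lit 55) (nat_lit 2) (Step.U (nat_lit 363) (Step.L (Step.L (Step.L Step.done)))) (Scr.cons (nat_lit 18) (nat_lit 1) (Step.U (nat_lit 736) (Step.U (nat_lit 531) (Step.B (nat_lit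 672) (Step.L (Step.D (nat_lit 743) Step.done))))) (Scr.cons (nat_lit 31) (nat_lit 0) (Step.U (nat_lit 678) (Step.U (nat_lit 477) (Step.U (nat_lit 318) (Step.L (Step.B (nat_lit 613) (Step.D (nat_lit 668) (Step.D (nat_lit 801) (Step.F (nat_lit 670) (Step.B (nat_lit 671) (Step.U (nat_lit 742) (Step.L (Step.L (Step.D (nat_lit 743) (Step.F (nat_lit 673) Step.done)))))))))))))) (Scr.cons (nat_lit 55) (nat_lit 2) (Step.D (nat_lit 736) (Step.F (nat_lit 674) (Step.U (nat_lit 678) (Step.D (nat_lit 677) (Step.B (nat_lit 668) Step.done))))) (Scr.cons (nat_lit 9) (nat_lit 1) (Step.L (Step.L (Step.L (Step.L (Step.D (nat_lit 349) Step.done))))) (Scr.cons (nat_lit 23) (nat_lit 0) (Step.U (nat_lit 531) (Step.U (nat_lit 363) (Step.B (nat_lit 676) (Step.D (nat_lit 505) (Step.D (nat_lit 702) Step.done))))) (Scr.cons (nat_lit 6) (nat_lit 0) (Step.B (nat_lit 668) (Step.F (nat_lit 675) (Step.B (nat_lit 677) Step.done))) (Scr.cons (nat_lit 1) (nat_lit 0) (Step.D (nat_lit 702) (Step.F (nat_lit 678) Step.done)) (Scr.cons (nat_lit 19)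 (nat_lit 0) (Step.L (Step.L (Step.D (nat_lit 349) Step.done))) (Scr.cons (nat_lit 55) (nat_lit 2) (Step.U (nat_lit 505) (Step.F (nat_lit 680) (Step.L (Step.D (nat_lit 508) Step.done)))) (Scr.cons (nat_lit 18) (nat_lit 0) (Step.U (nat_lit 799) (Step.D (nat_lit 798) (Step.B (nat_lit 666) (Step.F (nat_lit 679) (Step.B (nat_lit 681) (Step.D (nat_lit 706) Step.done)))))) (Scr.cons (nat_lit 2) (nat_lit 0) (Step.B (nat_lit 648) (Step.B (nat_lit 682) Step.done)) (Scr.cons (nat_lit 7) (nat_lit 0) (Step.U (nat_lit 641) (Step.L (Step.L (Step.L (Step.L (Step.D (nat_lit 242) (Step.D (nat_lit 299) (Step.D (nat_lit 448) (Step.D (nat_lit 647) Step.done))))))))) (Scr.cons (nat_lit 23) (nat_lit 1) (Step.U (nat_lit 604) (Step.U (nat_lit 418) (Step.L (Step.L (Step.D (nat_lit 620) Step.done))))) t))))))))))))))))))))))))))))))))))))))))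
noncomputable def s17 (t : Scr) : Scr := (Scr.cons (nat_lit 18) (nat_lit 0) (Step.L (Step.L (Step.L (Step.L (Step.D (nat_lit 418) Step.done))))) (Scr.cons (nat_lit 55) (nat_lit 2) (Step.U (nat_lit 604) (Step.F (nat_lit 686) (Step.D (nat_lit 419) (Step.D (nat_lit 605) Step.done)))) (Scr.cons (nat_lit 22) (nat_lit 1) (Step.U (nat_lit 420) (Step.D (nat_lit 419) (Step.D (nat_lit 605) Step.done))) (Scr.cons (nat_lit 17) (nat_lit 1) (Step.B (nat_lit 687) (Step.F (nat_lit 688) (Step.D (nat_lit 606) Step.done))) (Scr.cons (nat_lit 17) (nat_lit 1) (Step.U (nat_lit 461) (Step.D (nat_lit 459) (Step.D (nat_lit 664) Step.done))) (Scr.cons (nat_lit 17) (nat_lit 1) (Step.U (nat_lit 196) (Step.D (nat_lit 195) (Step.D (nat_lit 243) Step.done))) (Scr.cons (nat_lit 55) (nat_lit 2) (Step.F (nat_lit 571) (Step.D (nat_lit 243) (Step.F (nat_lit 691) (Step.D (nat_lit 245) Step.done)))) (Scr.cons (nat_lit 18) (nat_lit 1) (Step.U (nat_lit 446) (Step.U (nat_lit 297) (Step.B (nat_lit 692) (Step.D (nat_lit 303) (Step.D (nat_lit 461) Step.done)))))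 (Scr.cons (nat_lit 17) (nat_lit 1) (Step.U (nat_lit 421) (Step.L (Step.D (nat_lit 608) Step.done))) (Scr.cons (nat_lit 55) (nat_lit 2) (Step.U (nat_lit 609) (Step.D (nat_lit 608) (Step.F (nat_lit 694) (Step.D (nat_lit 613) Step.done)))) (Scr.cons (nat_lit 22) (nat_lit 1) (Step.L (Step.L (Step.D (nat_lit 609) Step.done))) (Scr.cons (nat_lit 17) (nat_lit 1) (Step.F (nat_lit 695) (Step.F (nat_lit 696) (Step.D (nat_lit 615) Step.done))) (Scr.cons (nat_lit 7) (nat_lit 1) (Step.F (nat_lit 685) (Step.B (nat_lit 689) (Step.F (nat_lit 541) (Step.F (nat_lit 690) (Step.F (nat_lit 693) (Step.B (nat_lit 584) (Step.B (nat_lit 587) (Step.B (nat_lit 697) (Step.D (nat_lit 788) Step.done))))))))) (Scr.cons (nat_lit 22) (nat_lit 0) (Step.L (Step.L (Step.D (nat_lit 442) Step.done))) (Scr.cons (nat_lit 55) (nat_lit 3) (Step.U (nat_lit 443) (Step.D (nat_lit 442) (Step.F (nat_lit 699) (Step.D (nat_lit 444) Step.done)))) (Scr.cons (nat_lit 57) (nat_lit 0) (Step.F (nat_lit 687) (Step.U (nat_lit 604) (Step.U (nat_lit 418) (Step.L (Step.L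 (Step.L (Step.L (Step.L (Step.L (Step.L (Step.L (Step.L (Step.D (nat_lit 443) (Step.B (nat_lit 700) Step.done)))))))))))))) (Scr.cons (nat_lit 18) (nat_lit 0) (Step.F (nat_lit 685) (Step.B (nat_lit 687) (Step.B (nat_lit 701) (Step.U (nat_lit 444) (Step.L Step.done))))) (Scr.cons (nat_lit 55) (nat_lit 4) (Step.U (nat_lit 619) (Step.D (nat_lit 620) (Step.B (nat_lit 702) (Step.D (nat_lit 643) Step.done)))) (Scr.cons (nat_lit 8) (nat_lit 0) (Step.L (Step.L (Step.D (nat_lit 263) Step.done))) (Scr.cons (nat_lit 19) (nat_lit 1) (Step.L (Step.B (nat_lit 704) (Step.D (nat_lit 354) Step.done))) (Scr.cons (nat_lit 56) (nat_lit 2) (Step.F (nat_lit 703) (Step.U (nat_lit 619) (Step.L (Step.B (nat_lit 705) (Step.U (nat_lit 354) (Step.U (nat_lit 263) (Step.L (Step.L (Step.L (Step.L (Step.L (Step.L (Step.L (Step.L (Step.L (Step.L (Step.L (Step.L (Step.D (nat_lit 549) Step.done))))))))))))))))))) (Scr.cons (nat_lit 24) (nat_lit 0) (Step.F (nat_lit 706) (Step.U (nat_lit 643) (Step.D (nat_lit 642) Step.done))) (Scr.cons (nat_lit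 14) (nat_lit 0) (Step.L (Step.L (Step.D (nat_lit 549) Step.done))) (Scr.cons (nat_lit 26) (nat_lit 1) (Step.F (nat_lit 707) (Step.F (nat_lit 708) (Step.D (nat_lit 620) Step.done))) (Scr.cons (nat_lit 13) (nat_lit 0) (Step.L (Step.L (Step.D (nat_lit 383) Step.done))) (Scr.cons (nat_lit 14) (nat_lit 0) (Step.L (Step.B (nat_lit 710) (Step.D (nat_lit 561) Step.done))) (Scr.cons (nat_lit 15) (nat_lit 1) (Step.F (nat_lit 709) (Step.U (nat_lit 642) (Step.B (nat_lit 711) Step.done))) (Scr.cons (nat_lit 8) (nat_lit 0) (Step.F (nat_lit 698) (Step.B (nat_lit 712) (Step.D (nat_lit 762) Step.done))) (Scr.cons (nat_lit 18) (nat_lit 0) (Step.B (nat_lit 684) (Step.F (nat_lit 663) (Step.U (nat_lit 614) (Step.D (nat_lit 615) (Step.D (nat_lit 788) Step.done))))) (Scr.cons (nat_lit 19) (nat_lit 0) (Step.F (nat_lit 713) (Step.F (nat_lit 714) (Step.D (nat_lit 797) Step.done))) (Scr.cons (nat_lit 8) (nat_lit 1) (Step.L (Step.D (nat_lit 383) (Step.D (nat_lit 562) Step.done))) (Scr.cons (nat_lit 17) (nat_lit 1) (Step.U (nat_lit 563)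 (Step.B (nat_lit 716) (Step.D (nat_lit 763) Step.done))) (Scr.cons (nat_lit 19) (nat_lit 1) (Step.U (nat_lit 380) (Step.D (nat_lit 379) (Step.D (nat_lit 557) Step.done))) (Scr.cons (nat_lit 18) (nat_lit 1) (Step.U (nat_lit 380) (Step.U (nat_lit 269) (Step.L (Step.L (Step.D (nat_lit 384) Step.done))))) (Scr.cons (nat_lit 19) (nat_lit 1) (Step.U (nat_lit 384) (Step.L (Step.D (nat_lit 563) Step.done))) (Scr.cons (nat_lit 9) (nat_lit 0) (Step.U (nat_lit 759) (Step.F (nat_lit 718) (Step.B (nat_lit 719) (Step.B (nat_lit 720) (Step.D (nat_lit 764) Step.done))))) (Scr.cons (nat_lit 9) (nat_lit 1) (Step.U (nat_lit 281) (Step.L (Step.L (Step.D (nat_lit 269) (Step.D (nat_lit 379) Step.done))))) (Scr.cons (nat_lit 18) (nat_lit 0) (Step.U (nat_lit 576) (Step.U (nat_lit 397) (Step.B (nat_lit 722) (Step.D (nat_lit 557) (Step.D (nat_lit 759) Step.done))))) (Scr.cons (nat_lit 56) (nat_lit 1) (Step.L (Step.B (nat_lit 646) (Step.U (nat_lit 509) (Step.B (nat_lit 647) (Step.D (nat_lit 706) (Step.F (nat_lit 683) (Step.U (nat_lit 649)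 (Step.D (nat_lit 647) (Step.F (nat_lit 684) (Step.D (nat_lit 797) (Step.F (nat_lit 715) (Step.U (nat_lit 762) (Step.U (nat_lit 561) (Step.D (nat_lit 562) (Step.D (nat_lit 763) (Step.F (nat_lit 717) (Step.D (nat_lit 764) (Step.F (nat_lit 721) (Step.F (nat_lit 723) (Step.D (nat_lit 773) Step.done)))))))))))))))))))) (Scr.cons (nat_lit 2) (nat_lit 0) (Step.F (nat_lit 644) (Step.F (nat_lit 724) (Step.L Step.done))) t))))))))))))))))))))))))))))))))))))))))
noncomputable def s18 (t : Scr) : Scr := (Scr.cons (nat_lit 4) (nat_lit 0) (Step.B (nat_lit 641) (Step.B (nat_lit 725) Step.done)) (Scr.cons (nat_lit 14) (nat_lit 0) (Step.L (Step.L (Step.D (nat_lit 770) Step.done))) (Scr.cons (nat_lit 8) (nat_lit 0) (Step.U (nat_lit 357) (Step.L (Step.L Step.done))) (Scr.cons (nat_lit 9) (nat_lit 1) (Step.U (nat_lit 719) (Step.U (nat_lit 518) (Step.B (nat_lit 728) (Step.L (Step.L Step.done))))) (Scr.cons (nat_lit 7) (nat_lit 0) (Step.U (nat_lit 707) (Step.U (nat_lit 510) (Step.L (Step.L (Step.L (Step.L (Step.D (nat_lit 357) (Step.D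 (nat_lit 518) (Step.D (nat_lit 718) Step.done))))))))) (Scr.cons (nat_lit 14) (nat_lit 0) (Step.U (nat_lit 305) (Step.L (Step.D (nat_lit 390) Step.done))) (Scr.cons (nat_lit 13) (nat_lit 0) (Step.U (nat_lit 464) (Step.B (nat_lit 731) (Step.D (nat_lit 573) Step.done))) (Scr.cons (nat_lit 14) (nat_lit 0) (Step.U (nat_lit 666) (Step.B (nat_lit 732) (Step.D (nat_lit 771) Step.done))) (Scr.cons (nat_lit 14) (nat_lit 0) (Step.U (nat_lit 510) (Step.L (Step.D (nat_lit 699) Step.done))) (Scr.cons (nat_lit 9) (nat_lit 0) (Step.L (Step.L (Step.L (Step.L (Step.D (nat_lit 305) Step.done))))) (Scr.cons (nat_lit 8) (nat_lit 0) (Step.U (nat_lit 424) (Step.B (nat_lit 735) (Step.D (nat_lit 464) Step.done))) (Scr.cons (nat_lit 9) (nat_lit 1) (Step.U (nat_lit 791) (Step.U (nat_lit 621) (Step.B (nat_lit 736) (Step.D (nat_lit 666) (Step.D (nat_lit 800) Step.done))))) (Scr.cons (nat_lit 18) (nat_lit 0) (Step.L (Step.L (Step.L (Step.L (Step.D (nat_lit 355) Step.done))))) (Scr.cons (nat_lit 55) (nat_lit 2) (Step.U (nat_lit 516) (Step.F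 (nat_lit 738) (Step.D (nat_lit 357) (Step.D (nat_lit 519) Step.done)))) (Scr.cons (nat_lit 23) (nat_lit 0) (Step.U (nat_lit 517) (Step.U (nat_lit 356) (Step.D (nat_lit 355) (Step.D (nat_lit 516) (Step.D (nat_lit 716) Step.done))))) (Scr.cons (nat_lit 23) (nat_lit 0) (Step.L (Step.L (Step.L (Step.L (Step.D (nat_lit 262) Step.done))))) (Scr.cons (nat_lit 22) (nat_lit 0) (Step.U (nat_lit 263) (Step.B (nat_lit 741) (Step.D (nat_lit 350) Step.done))) (Scr.cons (nat_lit 17) (nat_lit 1) (Step.L (Step.D (nat_lit 263) (Step.D (nat_lit 354) Step.done))) (Scr.cons (nat_lit 55) (nat_lit 2) (Step.F (nat_lit 742) (Step.D (nat_lit 354) (Step.F (nat_lit 743) (Step.D (nat_lit 356) Step.done)))) (Scr.cons (nat_lit 18) (nat_lit 1) (Step.U (nat_lit 703) (Step.U (nat_lit 506) (Step.B (nat_lit 744) (Step.D (nat_lit 517) (Step.D (nat_lit 717) Step.done))))) (Scr.cons (nat_lit 23) (nat_lit 0) (Step.U (nat_lit 269) (Step.L (Step.L (Step.D (nat_lit 267) (Step.D (nat_lit 375) Step.done))))) (Scr.cons (nat_lit 22) (nat_lit 0) (Step.U (nat_lit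 378) (Step.B (nat_lit 746) (Step.D (nat_lit 553) Step.done))) (Scr.cons (nat_lit 24) (nat_lit 0) (Step.U (nat_lit 555) (Step.B (nat_lit 747) (Step.D (nat_lit 756) Step.done))) (Scr.cons (nat_lit 55) (nat_lit 2) (Step.F (nat_lit 748) (Step.D (nat_lit 757) (Step.F (nat_lit 631) (Step.D (nat_lit 760) Step.done)))) (Scr.cons (nat_lit 19) (nat_lit 0) (Step.U (nat_lit 409) (Step.B (nat_lit 511) (Step.D (nat_lit 581) Step.done))) (Scr.cons (nat_lit 8) (nat_lit 1) (Step.U (nat_lit 409) (Step.D (nat_lit 408) (Step.D (nat_lit 589) Step.done))) (Scr.cons (nat_lit 55) (nat_lit 2) (Step.U (nat_lit 776) (Step.F (nat_lit 750) (Step.B (nat_lit 751) (Step.D (nat_lit 783) Step.done)))) (Scr.cons (nat_lit 55) (nat_lit 3) (Step.U (nat_lit 351) (Step.D (nat_lit 350) (Step.F (nat_lit 742) (Step.D (nat_lit 354) Step.done)))) (Scr.cons (nat_lit 18) (nat_lit 0) (Step.L (Step.L (Step.D (nat_lit 262) (Step.D (nat_lit 351) (Step.D (nat_lit 507) Step.done))))) (Scr.cons (nat_lit 23) (nat_lit 1) (Step.U (nat_lit 504) (Step.U (nat_lit 348)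 (Step.L (Step.L (Step.L Step.done))))) (Scr.cons (nat_lit 19) (nat_lit 0) (Step.F (nat_lit 446) (Step.F (nat_lit 436) (Step.D (nat_lit 539) Step.done))) (Scr.cons (nat_lit 55) (nat_lit 3) (Step.F (nat_lit 756) (Step.U (nat_lit 502) (Step.D (nat_lit 504) (Step.D (nat_lit 701) Step.done)))) (Scr.cons (nat_lit 9) (nat_lit 1) (Step.U (nat_lit 409) (Step.U (nat_lit 286) (Step.L (Step.L (Step.D (nat_lit 539) Step.done))))) (Scr.cons (nat_lit 57) (nat_lit 0) (Step.U (nat_lit 714) (Step.U (nat_lit 514) (Step.U (nat_lit 353) (Step.D (nat_lit 354) (Step.F (nat_lit 753) (Step.D (nat_lit 507) (Step.F (nat_lit 754) (Step.L (Step.F (nat_lit 755) (Step.D (nat_lit 701) (Step.F (nat_lit 757) (Step.F (nat_lit 758) (Step.B (nat_lit 750) (Step.D (nat_lit 776) Step.done)))))))))))))) (Scr.cons (nat_lit 23) (nat_lit 1) (Step.U (nat_lit 514) (Step.U (nat_lit 353) (Step.B (nat_lit 742) (Step.D (nat_lit 506) (Step.D (nat_lit 704) Step.done))))) (Scr.cons (nat_lit 18) (nat_lit 0) (Step.D (nat_lit 757) (Step.F (nat_lit 632) (Step.F (nat_lit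 752) (Step.F (nat_lit 759) (Step.U (nat_lit 714) (Step.B (nat_lit 760) Step.done)))))) (Scr.cons (nat_lit 6) (nat_lit 0) (Step.D (nat_lit 704) (Step.F (nat_lit 761) (Step.B (nat_lit 748) Step.done))) (Scr.cons (nat_lit 5) (nat_lit 0) (Step.F (nat_lit 749) (Step.F (nat_lit 762) (Step.D (nat_lit 703) Step.done))) (Scr.cons (nat_lit 6) (nat_lit 0) (Step.D (nat_lit 760) (Step.B (nat_lit 763) Step.done)) (Scr.cons (nat_lit 24) (nat_lit 0) (Step.U (nat_lit 281) (Step.B (nat_lit 356) (Step.D (nat_lit 393) Step.done))) t))))))))))))))))))))))))))))))))))))))))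
noncomputable def s19 (t : Scr) : Scr := (Scr.cons (nat_lit 31) (nat_lit 0) (Step.U (nat_lit 720) (Step.U (nat_lit 518) (Step.D (nat_lit 519) (Step.F (nat_lit 739) (Step.D (nat_lit 716) (Step.F (nat_lit 740) (Step.D (nat_lit 717) (Step.F (nat_lit 745) (Step.F (nat_lit 764) (Step.U (nat_lit 557) (Step.F (nat_lit 722) (Step.B (nat_lit 765) (Step.D (nat_lit 575) (Step.D (nat_lit 772) Step.done)))))))))))))) (Scr.cons (nat_lit 26) (nat_lit 1) (Step.U (nat_lit 199) (Step.L (Step.D (nat_lit 234) Step.done))) (Scr.cons (nat_lit 14) (nat_lit 0) (Step.U (nat_lit 248) (Step.B (nat_lit 767) (Step.D (nat_lit 279) Step.done))) (Scr.cons (nat_lit 15) (nat_lit 0) (Step.U (nat_lit 314) (Step.B (nat_lit 768) (Step.D (nat_lit 393) Step.done))) (Scr.cons (nat_lit 21) (nat_lit 1) (Step.U (nat_lit 474) (Step.B (nat_lit 769) (Step.D (nat_lit 575) Step.done))) (Scr.cons (nat_lit 14) (nat_lit 0) (Step.U (nat_lit 676) (Step.B (nat_lit 770) (Step.D (nat_lit 772) Step.done))) (Scr.cons (nat_lit 26) (nat_lit 1) (Step.B (nat_lit 766) (Step.F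 (nat_lit 771) (Step.D (nat_lit 804) Step.done))) (Scr.cons (nat_lit 13) (nat_lit 0) (Step.U (nat_lit 357) (Step.L (Step.D (nat_lit 500) Step.done))) (Scr.cons (nat_lit 14) (nat_lit 0) (Step.U (nat_lit 518) (Step.B (nat_lit 773) (Step.D (nat_lit 700) Step.done))) (Scr.cons (nat_lit 21) (nat_lit 0) (Step.F (nat_lit 772) (Step.U (nat_lit 720) (Step.B (nat_lit 774) Step.done))) (Scr.cons (nat_lit 24) (nat_lit 1) (Step.U (nat_lit 199) (Step.L (Step.D (nat_lit 247) Step.done))) (Scr.cons (nat_lit 9) (nat_lit 1) (Step.U (nat_lit 314) (Step.U (nat_lit 248) (Step.B (nat_lit 776) (Step.D (nat_lit 310) (Step.D (nat_lit 469) Step.done))))) (Scr.cons (nat_lit 18) (nat_lit 0) (Step.U (nat_lit 676) (Step.U (nat_lit 474) (Step.B (nat_lit 777) (Step.D (nat_lit 671) (Step.D (nat_lit 802) Step.done))))) (Scr.cons (nat_lit 19) (nat_lit 1) (Step.U (nat_lit 470) (Step.D (nat_lit 469) (Step.D (nat_lit 671) Step.done))) (Scr.cons (nat_lit 23) (nat_lit 0) (Step.L (Step.L (Step.L (Step.L (Step.D (nat_lit 423) Step.done))))) (Scr.cons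 (nat_lit 22) (nat_lit 0) (Step.U (nat_lit 424) (Step.B (nat_lit 780) (Step.D (nat_lit 618) Step.done))) (Scr.cons (nat_lit 18) (nat_lit 0) (Step.U (nat_lit 471) (Step.U (nat_lit 311) (Step.D (nat_lit 310) (Step.D (nat_lit 470) (Step.D (nat_lit 672) Step.done))))) (Scr.cons (nat_lit 19) (nat_lit 0) (Step.U (nat_lit 673) (Step.B (nat_lit 782) (Step.D (nat_lit 803) Step.done))) (Scr.cons (nat_lit 19) (nat_lit 1) (Step.U (nat_lit 249) (Step.B (nat_lit 776) (Step.D (nat_lit 311) Step.done))) (Scr.cons (nat_lit 9) (nat_lit 1) (Step.U (nat_lit 476) (Step.U (nat_lit 316) (Step.B (nat_lit 784) (Step.D (nat_lit 471) (Step.D (nat_lit 673) Step.done))))) (Scr.cons (nat_lit 24) (nat_lit 0) (Step.U (nat_lit 476) (Step.B (nat_lit 365) (Step.D (nat_lit 495) Step.done))) (Scr.cons (nat_lit 8) (nat_lit 0) (Step.L (Step.B (nat_lit 417) (Step.D (nat_lit 542) Step.done))) (Scr.cons (nat_lit 19) (nat_lit 1) (Step.L (Step.B (nat_lit 787) (Step.D (nat_lit 748) Step.done))) (Scr.cons (nat_lit 9) (nat_lit 1) (Step.F (nat_lit 788) (Step.L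 (Step.L (Step.L (Step.L Step.done))))) (Scr.cons (nat_lit 55) (nat_lit 3) (Step.U (nat_lit 748) (Step.U (nat_lit 542) (Step.D (nat_lit 543) (Step.D (nat_lit 749) Step.done)))) (Scr.cons (nat_lit 23) (nat_lit 1) (Step.U (nat_lit 463) (Step.U (nat_lit 304) (Step.L (Step.D (nat_lit 367) (Step.D (nat_lit 543) Step.done))))) (Scr.cons (nat_lit 18) (nat_lit 1) (Step.U (nat_lit 425) (Step.L (Step.L (Step.D (nat_lit 304) (Step.D (nat_lit 462) Step.done))))) (Scr.cons (nat_lit 17) (nat_lit 1) (Step.U (nat_lit 425) (Step.D (nat_lit 424) (Step.D (nat_lit 622) Step.done))) (Scr.cons (nat_lit 55) (nat_lit 2) (Step.F (nat_lit 781) (Step.D (nat_lit 622) (Step.F (nat_lit 793) (Step.D (nat_lit 623) Step.done)))) (Scr.cons (nat_lit 31) (nat_lit 0) (Step.F (nat_lit 783) (Step.F (nat_lit 785) (Step.B (nat_lit 786) (Step.B (nat_lit 605) (Step.F (nat_lit 789) (Step.B (nat_lit 790) (Step.U (nat_lit 749) (Step.F (nat_lit 791) (Step.U (nat_lit 463) (Step.D (nat_lit 462) (Step.F (nat_lit 792) (Step.D (nat_lit 623) (Step.F (nat_lit 794)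 (Step.D (nat_lit 789) Step.done)))))))))))))) (Scr.cons (nat_lit 23) (nat_lit 1) (Step.U (nat_lit 792) (Step.U (nat_lit 621) (Step.B (nat_lit 781) (Step.D (nat_lit 789) (Step.F (nat_lit 795) Step.done))))) (Scr.cons (nat_lit 9) (nat_lit 0) (Step.U (nat_lit 802) (Step.F (nat_lit 779) (Step.D (nat_lit 672) (Step.D (nat_lit 803) (Step.F (nat_lit 796) Step.done))))) (Scr.cons (nat_lit 24) (nat_lit 0) (Step.U (nat_lit 791) (Step.D (nat_lit 792) (Step.F (nat_lit 797) Step.done))) (Scr.cons (nat_lit 29) (nat_lit 4) (Step.F (nat_lit 775) (Step.U (nat_lit 804) (Step.B (nat_lit 778) (Step.F (nat_lit 798) Step.done)))) (Scr.cons (nat_lit 7) (nat_lit 1) (Step.F (nat_lit 737) (Step.F (nat_lit 799) (Step.U (nat_lit 700) (Step.U (nat_lit 500) (Step.L (Step.L (Step.L (Step.L (Step.D (nat_lit 699) Step.done))))))))) (Scr.cons (nat_lit 13) (nat_lit 0) (Step.U (nat_lit 707) (Step.B (nat_lit 734) (Step.F (nat_lit 800) Step.done))) (Scr.cons (nat_lit 15) (nat_lit 1) (Step.F (nat_lit 733) (Step.D (nat_lit 800) (Step.F (nat_lit 801)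 Step.done))) (Scr.cons (nat_lit 9) (nat_lit 0) (Step.L (Step.L (Step.L (Step.L (Step.D (nat_lit 390) Step.done))))) (Scr.cons (nat_lit 8) (nat_lit 0) (Step.U (nat_lit 550) (Step.B (nat_lit 803) (Step.D (nat_lit 573) Step.done))) (Scr.cons (nat_lit 9) (nat_lit 0) (Step.F (nat_lit 730) (Step.F (nat_lit 802) (Step.U (nat_lit 771) (Step.F (nat_lit 804) (Step.D (nat_lit 755) Step.done))))) t))))))))))))))))))))))))))))))))))))))))
noncomputable def s20 (t : Scr) : Scr := (Scr.cons (nat_lit 8) (nat_lit 1) (Step.F (nat_lit 805) (Step.U (nat_lit 718) (Step.D (nat_lit 719) Step.done))) (Scr.cons (nat_lit 7) (nat_lit 1) (Step.F (nat_lit 729) (Step.F (nat_lit 806) (Step.U (nat_lit 755) (Step.U (nat_lit 550) (Step.L (Step.L (Step.L (Step.L (Step.D (nat_lit 770) Step.done))))))))) (Scr.cons (nat_lit 13) (nat_lit 0) (Step.L (Step.B (nat_lit 727) (Step.F (nat_lit 807) Step.done))) (Scr.cons (nat_lit 8) (nat_lit 1) (Step.L (Step.D (nat_lit 435) (Step.D (nat_lit 634) Step.done))) (Scr.cons (nat_lit 19) (nat_lit 1) (Step.L (Step.L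 (Step.D (nat_lit 406) Step.done))) (Scr.cons (nat_lit 9) (nat_lit 1) (Step.U (nat_lit 587) (Step.U (nat_lit 407) (Step.B (nat_lit 810) (Step.D (nat_lit 584) (Step.D (nat_lit 778) Step.done))))) (Scr.cons (nat_lit 8) (nat_lit 1) (Step.U (nat_lit 587) (Step.D (nat_lit 586) (Step.D (nat_lit 780) Step.done))) (Scr.cons (nat_lit 8) (nat_lit 0) (Step.L (Step.L (Step.D (nat_lit 257) Step.done))) (Scr.cons (nat_lit 54) (nat_lit 3) (Step.L (Step.L (Step.L (Step.L (Step.B (nat_lit 813) (Step.U (nat_lit 257) (Step.L (Step.D (nat_lit 337) Step.done)))))))) (Scr.cons (nat_lit 20) (nat_lit 1) (Step.U (nat_lit 406) (Step.B (nat_lit 814) (Step.D (nat_lit 486) Step.done))) (Scr.cons (nat_lit 11) (nat_lit 0) (Step.U (nat_lit 584) (Step.B (nat_lit 815) (Step.D (nat_lit 687) Step.done))) (Scr.cons (nat_lit 10) (nat_lit 0) (Step.U (nat_lit 777) (Step.B (nat_lit 816) (Step.D (nat_lit 809) Step.done))) (Scr.cons (nat_lit 20) (nat_lit 1) (Step.L (Step.B (nat_lit 312) (Step.D (nat_lit 492) Step.done))) (Scr.cons (nat_lit 11) (nat_lit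 0) (Step.U (nat_lit 501) (Step.B (nat_lit 818) (Step.D (nat_lit 694) Step.done))) (Scr.cons (nat_lit 54) (nat_lit 0) (Step.B (nat_lit 312) (Step.F (nat_lit 313) (Step.L (Step.L (Step.L (Step.L (Step.L (Step.D (nat_lit 340) Step.done)))))))) (Scr.cons (nat_lit 17) (nat_lit 1) (Step.L (Step.B (nat_lit 820) (Step.D (nat_lit 490) Step.done))) (Scr.cons (nat_lit 19) (nat_lit 1) (Step.U (nat_lit 371) (Step.F (nat_lit 479) (Step.D (nat_lit 366) Step.done))) (Scr.cons (nat_lit 30) (nat_lit 1) (Step.U (nat_lit 501) (Step.B (nat_lit 821) (Step.U (nat_lit 490) (Step.U (nat_lit 340) (Step.L (Step.L (Step.L (Step.L (Step.L (Step.L (Step.L (Step.L (Step.L (Step.L (Step.D (nat_lit 371) (Step.B (nat_lit 822) (Step.D (nat_lit 538) (Step.F (nat_lit 438) (Step.B (nat_lit 437) Step.done))))))))))))))))))) (Scr.cons (nat_lit 8) (nat_lit 1) (Step.B (nat_lit 823) (Step.L (Step.D (nat_lit 539) Step.done))) (Scr.cons (nat_lit 10) (nat_lit 1) (Step.F (nat_lit 819) (Step.B (nat_lit 824) (Step.D (nat_lit 744) Step.done))) (Scr.cons (nat_lit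 9) (nat_lit 1) (Step.L (Step.L (Step.L (Step.L (Step.D (nat_lit 337) Step.done))))) (Scr.cons (nat_lit 14) (nat_lit 0) (Step.F (nat_lit 826) (Step.L (Step.D (nat_lit 341) Step.done))) (Scr.cons (nat_lit 21) (nat_lit 1) (Step.U (nat_lit 486) (Step.B (nat_lit 827) (Step.D (nat_lit 492) Step.done))) (Scr.cons (nat_lit 14) (nat_lit 0) (Step.U (nat_lit 687) (Step.B (nat_lit 828) (Step.D (nat_lit 694) Step.done))) (Scr.cons (nat_lit 13) (nat_lit 0) (Step.F (nat_lit 825) (Step.F (nat_lit 829) (Step.D (nat_lit 809) Step.done))) (Scr.cons (nat_lit 15) (nat_lit 0) (Step.U (nat_lit 539) (Step.L (Step.D (nat_lit 722) Step.done))) (Scr.cons (nat_lit 16) (nat_lit 0) (Step.B (nat_lit 817) (Step.F (nat_lit 830) (Step.U (nat_lit 744) (Step.B (nat_lit 831) (Step.D (nat_lit 812) Step.done))))) (Scr.cons (nat_lit 9) (nat_lit 1) (Step.U (nat_lit 546) (Step.L (Step.L (Step.L (Step.D (nat_lit 722) Step.done))))) (Scr.cons (nat_lit 11) (nat_lit 1) (Step.U (nat_lit 753) (Step.B (nat_lit 833) (Step.D (nat_lit 812) Step.done))) (Scr.cons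 (nat_lit 14) (nat_lit 0) (Step.U (nat_lit 407) (Step.L (Step.D (nat_lit 585) Step.done))) (Scr.cons (nat_lit 13) (nat_lit 0) (Step.U (nat_lit 586) (Step.B (nat_lit 835) (Step.D (nat_lit 779) Step.done))) (Scr.cons (nat_lit 11) (nat_lit 0) (Step.L (Step.L (Step.D (nat_lit 545) Step.done))) (Scr.cons (nat_lit 19) (nat_lit 1) (Step.U (nat_lit 523) (Step.L (Step.L Step.done))) (Scr.cons (nat_lit 9) (nat_lit 1) (Step.U (nat_lit 815) (Step.U (nat_lit 731) (Step.B (nat_lit 838) (Step.D (nat_lit 751) (Step.D (nat_lit 819) Step.done))))) (Scr.cons (nat_lit 20) (nat_lit 1) (Step.L (Step.L (Step.D (nat_lit 523) Step.done))) (Scr.cons (nat_lit 11) (nat_lit 0) (Step.L (Step.B (nat_lit 840) (Step.D (nat_lit 731) Step.done))) (Scr.cons (nat_lit 25) (nat_lit 1) (Step.L (Step.L (Step.D (nat_lit 808) Step.done))) (Scr.cons (nat_lit 55) (nat_lit 3) (Step.U (nat_lit 534) (Step.L (Step.L (Step.D (nat_lit 535) Step.done)))) (Scr.cons (nat_lit 55) (nat_lit 2) (Step.U (nat_lit 526) (Step.L (Step.L (Step.L Step.done)))) (Scr.cons (nat_lit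 23) (nat_lit 1) (Step.L (Step.L (Step.L (Step.D (nat_lit 489) (Step.D (nat_lit 689) Step.done))))) t))))))))))))))))))))))))))))))))))))))))
noncomputable def s21 (t : Scr) : Scr := (Scr.cons (nat_lit 18) (nat_lit 0) (Step.L (Step.L (Step.L (Step.L (Step.D (nat_lit 489) Step.done))))) (Scr.cons (nat_lit 31) (nat_lit 0) (Step.F (nat_lit 437) (Step.F (nat_lit 467) (Step.D (nat_lit 526) (Step.B (nat_lit 844) (Step.B (nat_lit 845) (Step.U (nat_lit 689) (Step.F (nat_lit 846) (Step.L (Step.L (Step.L (Step.L (Step.L (Step.D (nat_lit 535) (Step.D (nat_lit 740) Step.done)))))))))))))) (Scr.cons (nat_lit 23) (nat_lit 0) (Step.U (nat_lit 737) (Step.B (nat_lit 843) (Step.D (nat_lit 740) (Step.F (nat_lit 847) (Step.L Step.done))))) (Scr.cons (nat_lit 17) (nat_lit 1) (Step.L (Step.L (Step.D (nat_lit 681) Step.done))) (Scr.cons (nat_lit 21) (nat_lit 1) (Step.L (Step.L (Step.D (nat_lit 278) Step.done))) (Scr.cons (nat_lit 14) (nat_lit 0) (Step.L (Step.B (nat_lit 850) (Step.D (nat_lit 391) Step.done))) (Scr.cons (nat_lit 26)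 (nat_lit 1) (Step.U (nat_lit 467) (Step.B (nat_lit 851) (Step.D (nat_lit 574) Step.done))) (Scr.cons (nat_lit 13) (nat_lit 0) (Step.L (Step.L (Step.D (nat_lit 491) Step.done))) (Scr.cons (nat_lit 14) (nat_lit 0) (Step.U (nat_lit 680) (Step.B (nat_lit 853) (Step.D (nat_lit 692) Step.done))) (Scr.cons (nat_lit 18) (nat_lit 1) (Step.U (nat_lit 692) (Step.B (nat_lit 599) (Step.F (nat_lit 607) (Step.F (nat_lit 608) (Step.U (nat_lit 669) (Step.D (nat_lit 670) Step.done)))))) (Scr.cons (nat_lit 4) (nat_lit 0) (Step.B (nat_lit 854) (Step.B (nat_lit 855) Step.done)) (Scr.cons (nat_lit 21) (nat_lit 0) (Step.F (nat_lit 852) (Step.D (nat_lit 670) (Step.F (nat_lit 856) Step.done))) (Scr.cons (nat_lit 22) (nat_lit 1) (Step.U (nat_lit 467) (Step.D (nat_lit 465) (Step.D (nat_lit 667) Step.done))) (Scr.cons (nat_lit 56) (nat_lit 0) (Step.U (nat_lit 522) (Step.L (Step.L (Step.L (Step.L (Step.L (Step.L (Step.L (Step.L (Step.L (Step.L (Step.L (Step.L (Step.L (Step.L (Step.L (Step.D (nat_lit 413) (Step.D (nat_lit 597) (Step.F (nat_lit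 608) Step.done))))))))))))))))))) (Scr.cons (nat_lit 7) (nat_lit 0) (Step.F (nat_lit 858) (Step.D (nat_lit 669) (Step.F (nat_lit 859) (Step.U (nat_lit 522) (Step.L (Step.L (Step.L (Step.L (Step.L Step.done))))))))) (Scr.cons (nat_lit 14) (nat_lit 0) (Step.L (Step.L (Step.F (nat_lit 860) Step.done))) (Scr.cons (nat_lit 13) (nat_lit 1) (Step.F (nat_lit 852) (Step.B (nat_lit 858) (Step.F (nat_lit 861) Step.done))) (Scr.cons (nat_lit 7) (nat_lit 0) (Step.U (nat_lit 527) (Step.U (nat_lit 361) (Step.L (Step.L (Step.L (Step.L (Step.L (Step.L (Step.F (nat_lit 862) Step.done))))))))) (Scr.cons (nat_lit 18) (nat_lit 1) (Step.U (nat_lit 681) (Step.D (nat_lit 680) (Step.F (nat_lit 857) (Step.F (nat_lit 863) (Step.D (nat_lit 734) Step.done))))) (Scr.cons (nat_lit 17) (nat_lit 1) (Step.U (nat_lit 529) (Step.D (nat_lit 527) (Step.D (nat_lit 734) Step.done))) (Scr.cons (nat_lit 18) (nat_lit 1) (Step.U (nat_lit 364) (Step.L (Step.L (Step.D (nat_lit 361) (Step.D (nat_lit 529) Step.done))))) (Scr.cons (nat_lit 17) (nat_lit 1) (Step.U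 (nat_lit 364) (Step.L (Step.D (nat_lit 534) Step.done))) (Scr.cons (nat_lit 7) (nat_lit 1) (Step.L (Step.L (Step.L (Step.B (nat_lit 849) (Step.B (nat_lit 864) (Step.F (nat_lit 865) (Step.F (nat_lit 866) (Step.B (nat_lit 867) (Step.D (nat_lit 737) Step.done))))))))) (Scr.cons (nat_lit 22) (nat_lit 1) (Step.F (nat_lit 848) (Step.F (nat_lit 868) (Step.D (nat_lit 808) Step.done))) (Scr.cons (nat_lit 9) (nat_lit 0) (Step.U (nat_lit 690) (Step.L (Step.D (nat_lit 501) (Step.B (nat_lit 823) (Step.L Step.done))))) (Scr.cons (nat_lit 8) (nat_lit 0) (Step.F (nat_lit 869) (Step.F (nat_lit 870) (Step.D (nat_lit 811) Step.done))) (Scr.cons (nat_lit 20) (nat_lit 1) (Step.L (Step.L (Step.D (nat_lit 544) Step.done))) (Scr.cons (nat_lit 11) (nat_lit 0) (Step.U (nat_lit 690) (Step.B (nat_lit 872) (Step.D (nat_lit 750) Step.done))) (Scr.cons (nat_lit 54) (nat_lit 3) (Step.U (nat_lit 815) (Step.F (nat_lit 841) (Step.L (Step.B (nat_lit 842) (Step.B (nat_lit 871) (Step.U (nat_lit 811) (Step.B (nat_lit 873) (Step.D (nat_lit 817) Step.done))))))))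 (Scr.cons (nat_lit 19) (nat_lit 1) (Step.L (Step.L (Step.D (nat_lit 544) Step.done))) (Scr.cons (nat_lit 9) (nat_lit 1) (Step.U (nat_lit 752) (Step.U (nat_lit 545) (Step.B (nat_lit 875) (Step.D (nat_lit 750) (Step.D (nat_lit 817) Step.done))))) (Scr.cons (nat_lit 11) (nat_lit 0) (Step.F (nat_lit 839) (Step.B (nat_lit 874) (Step.F (nat_lit 876) Step.done))) (Scr.cons (nat_lit 11) (nat_lit 0) (Step.U (nat_lit 585) (Step.L (Step.D (nat_lit 751) Step.done))) (Scr.cons (nat_lit 10) (nat_lit 0) (Step.U (nat_lit 779) (Step.B (nat_lit 878) (Step.D (nat_lit 818) Step.done))) (Scr.cons (nat_lit 54) (nat_lit 2) (Step.U (nat_lit 753) (Step.U (nat_lit 546) (Step.B (nat_lit 837) (Step.D (nat_lit 752) (Step.F (nat_lit 877) (Step.U (nat_lit 819) (Step.D (nat_lit 818) (Step.F (nat_lit 879) Step.done)))))))) (Scr.cons (nat_lit 15) (nat_lit 0) (Step.U (nat_lit 780) (Step.B (nat_lit 836) (Step.F (nat_lit 880) Step.done))) (Scr.cons (nat_lit 14) (nat_lit 1) (Step.B (nat_lit 832) (Step.F (nat_lit 834) (Step.F (nat_lit 881) Step.done)))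 (Scr.cons (nat_lit 17) (nat_lit 1) (Step.L (Step.L (Step.D (nat_lit 406) Step.done))) (Scr.cons (nat_lit 7) (nat_lit 1) (Step.F (nat_lit 811) (Step.B (nat_lit 812) (Step.F (nat_lit 882) (Step.U (nat_lit 777) (Step.U (nat_lit 584) (Step.F (nat_lit 883) (Step.L (Step.D (nat_lit 595) (Step.D (nat_lit 786) Step.done))))))))) (Scr.cons (nat_lit 18) (nat_lit 0) (Step.U (nat_lit 584) (Step.U (nat_lit 406) (Step.L (Step.D (nat_lit 521) (Step.D (nat_lit 728) Step.done))))) t))))))))))))))))))))))))))))))))))))))))
noncomputable def s22 (t : Scr) : Scr := (Scr.cons (nat_lit 19) (nat_lit 0) (Step.U (nat_lit 778) (Step.B (nat_lit 885) (Step.D (nat_lit 814) Step.done))) (Scr.cons (nat_lit 16) (nat_lit 1) (Step.U (nat_lit 261) (Step.L (Step.L (Step.L (Step.D (nat_lit 347) Step.done))))) (Scr.cons (nat_lit 15) (nat_lit 1) (Step.L (Step.L (Step.D (nat_lit 261) Step.done))) (Scr.cons (nat_lit 8) (nat_lit 1) (Step.F (nat_lit 888) (Step.L (Step.L Step.done))) (Scr.cons (nat_lit 10) (nat_lit 1) (Step.F (nat_lit 887) (Step.B (nat_lit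 889) (Step.L Step.done))) (Scr.cons (nat_lit 17) (nat_lit 1) (Step.U (nat_lit 498) (Step.B (nat_lit 890) (Step.D (nat_lit 521) Step.done))) (Scr.cons (nat_lit 54) (nat_lit 2) (Step.F (nat_lit 887) (Step.F (nat_lit 888) (Step.L (Step.L (Step.L (Step.L (Step.L (Step.D (nat_lit 497) Step.done)))))))) (Scr.cons (nat_lit 11) (nat_lit 1) (Step.U (nat_lit 497) (Step.L (Step.D (nat_lit 497) Step.done))) (Scr.cons (nat_lit 8) (nat_lit 1) (Step.F (nat_lit 892) (Step.B (nat_lit 890) (Step.L Step.done))) (Scr.cons (nat_lit 19) (nat_lit 1) (Step.U (nat_lit 521) (Step.L (Step.D (nat_lit 727) Step.done))) (Scr.cons (nat_lit 17) (nat_lit 0) (Step.U (nat_lit 777) (Step.B (nat_lit 885) (Step.D (nat_lit 813) Step.done))) (Scr.cons (nat_lit 8) (nat_lit 0) (Step.F (nat_lit 884) (Step.U (nat_lit 778) (Step.D (nat_lit 777) Step.done))) (Scr.cons (nat_lit 30) (nat_lit 3) (Step.F (nat_lit 884) (Step.B (nat_lit 886) (Step.U (nat_lit 814) (Step.U (nat_lit 728) (Step.F (nat_lit 891) (Step.U (nat_lit 498) (Step.B (nat_lit 892) (Step.F (nat_lit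 893) (Step.B (nat_lit 894) (Step.D (nat_lit 727) (Step.F (nat_lit 895) (Step.D (nat_lit 728) (Step.D (nat_lit 813) (Step.F (nat_lit 896) (Step.F (nat_lit 897) (Step.U (nat_lit 786) (Step.U (nat_lit 595) (Step.L (Step.L (Step.L Step.done)))))))))))))))))))) (Scr.cons (nat_lit 1) (nat_lit 0) (Step.D (nat_lit 786) (Step.B (nat_lit 898) (Step.L Step.done))) (Scr.cons (nat_lit 0) (nat_lit 0) (Step.D (nat_lit 595) (Step.B (nat_lit 899) (Step.B (nat_lit 809) Step.done))) (Scr.cons (nat_lit 0) (nat_lit 0) (Step.B (nat_lit 809) (Step.F (nat_lit 900) Step.done)) (Scr.cons (nat_lit 2) (nat_lit 0) (Step.F (nat_lit 897) (Step.B (nat_lit 898) (Step.L Step.done))) (Scr.cons (nat_lit 4) (nat_lit 0) (Step.F (nat_lit 832) (Step.B (nat_lit 902) (Step.L Step.done))) (Scr.cons (nat_lit 3) (nat_lit 0) (Step.D (nat_lit 812) (Step.B (nat_lit 903) (Step.L Step.done))) (Scr.cons (nat_lit 2) (nat_lit 0) (Step.D (nat_lit 722) (Step.B (nat_lit 904) (Step.D (nat_lit 558) Step.done))) (Scr.cons (nat_lit 2) (nat_lit 0) (Step.D (nat_lit 558)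 (Step.F (nat_lit 905) Step.done)) (Scr.cons (nat_lit 9) (nat_lit 0) (Step.L (Step.L (Step.L (Step.L (Step.D (nat_lit 745) Step.done))))) (Scr.cons (nat_lit 19) (nat_lit 1) (Step.L (Step.B (nat_lit 907) (Step.D (nat_lit 816) Step.done))) (Scr.cons (nat_lit 18) (nat_lit 0) (Step.L (Step.L (Step.L (Step.L (Step.D (nat_lit 685) Step.done))))) (Scr.cons (nat_lit 17) (nat_lit 0) (Step.U (nat_lit 686) (Step.B (nat_lit 909) (Step.D (nat_lit 806) Step.done))) (Scr.cons (nat_lit 19) (nat_lit 1) (Step.L (Step.L (Step.D (nat_lit 746) Step.done))) (Scr.cons (nat_lit 17) (nat_lit 1) (Step.L (Step.L (Step.D (nat_lit 810) Step.done))) (Scr.cons (nat_lit 9) (nat_lit 1) (Step.L (Step.F (nat_lit 421) (Step.U (nat_lit 525) (Step.L (Step.D (nat_lit 732) Step.done))))) (Scr.cons (nat_lit 17) (nat_lit 1) (Step.F (nat_lit 857) (Step.B (nat_lit 862) (Step.D (nat_lit 733) Step.done))) (Scr.cons (nat_lit 30) (nat_lit 3) (Step.U (nat_lit 679) (Step.L (Step.L (Step.L (Step.L (Step.L (Step.L (Step.L (Step.L (Step.L (Step.L (Step.L (Step.L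 (Step.L (Step.L (Step.L (Step.L (Step.D (nat_lit 547) (Step.D (nat_lit 754) Step.done))))))))))))))))))) (Scr.cons (nat_lit 17) (nat_lit 0) (Step.F (nat_lit 915) (Step.U (nat_lit 679) (Step.L Step.done))) (Scr.cons (nat_lit 19) (nat_lit 1) (Step.L (Step.L (Step.D (nat_lit 679) Step.done))) (Scr.cons (nat_lit 9) (nat_lit 0) (Step.U (nat_lit 685) (Step.L (Step.L (Step.B (nat_lit 917) (Step.D (nat_lit 805) Step.done))))) (Scr.cons (nat_lit 56) (nat_lit 2) (Step.F (nat_lit 911) (Step.L (Step.L (Step.L (Step.L (Step.D (nat_lit 810) (Step.F (nat_lit 912) (Step.B (nat_lit 913) (Step.U (nat_lit 732) (Step.D (nat_lit 733) (Step.F (nat_lit 914) (Step.U (nat_lit 680) (Step.L (Step.F (nat_lit 916) (Step.F (nat_lit 915) (Step.D (nat_lit 805) (Step.F (nat_lit 918) (Step.F (nat_lit 909) (Step.D (nat_lit 686) (Step.D (nat_lit 807) Step.done)))))))))))))))))))) (Scr.cons (nat_lit 1) (nat_lit 0) (Step.D (nat_lit 807) (Step.F (nat_lit 919) Step.done)) (Scr.cons (nat_lit 18) (nat_lit 1) (Step.F (nat_lit 910) (Step.B (nat_lit 920)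 (Step.U (nat_lit 746) (Step.D (nat_lit 745) (Step.D (nat_lit 816) Step.done))))) (Scr.cons (nat_lit 11) (nat_lit 0) (Step.L (Step.L (Step.D (nat_lit 685) Step.done))) (Scr.cons (nat_lit 10) (nat_lit 0) (Step.U (nat_lit 785) (Step.B (nat_lit 922) (Step.D (nat_lit 806) Step.done))) (Scr.cons (nat_lit 13) (nat_lit 0) (Step.U (nat_lit 595) (Step.L (Step.D (nat_lit 785) Step.done))) (Scr.cons (nat_lit 4) (nat_lit 0) (Step.F (nat_lit 924) (Step.B (nat_lit 899) (Step.L Step.done))) t))))))))))))))))))))))))))))))))))))))))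
noncomputable def s23 (t : Scr) : Scr := (Scr.cons (nat_lit 3) (nat_lit 0) (Step.F (nat_lit 923) (Step.B (nat_lit 925) (Step.D (nat_lit 795) Step.done))) (Scr.cons (nat_lit 11) (nat_lit 1) (Step.L (Step.L (Step.D (nat_lit 795) Step.done))) (Scr.cons (nat_lit 1) (nat_lit 0) (Step.F (nat_lit 921) (Step.B (nat_lit 926) (Step.F (nat_lit 927) Step.done))) (Scr.cons (nat_lit 2) (nat_lit 0) (Step.B (nat_lit 908) (Step.B (nat_lit 928) (Step.D (nat_lit 796) Step.done))) (Scr.cons (nat_lit 2) (nat_lit 0) (Step.D (nat_lit 796) (Step.F (nat_lit 929) Step.done)) (Scr.cons (nat_lit 9) (nat_lit 0) (Step.L (Step.L (Step.D (nat_lit 296) (Step.D (nat_lit 439) (Step.D (nat_lit 637) Step.done))))) (Scr.cons (nat_lit 15) (nat_lit 0) (Step.F (nat_lit 931) (Step.L (Step.D (nat_lit 695) Step.done))) (Scr.cons (nat_lit 19) (nat_lit 1) (Step.U (nat_lit 338) (Step.D (nat_lit 337) (Step.D (nat_lit 486) Step.done))) (Scr.cons (nat_lit 11) (nat_lit 0) (Step.U (nat_lit 296) (Step.L (Step.D (nat_lit 436) Step.done))) (Scr.cons (nat_lit 8) (nat_lit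 1) (Step.L (Step.L (Step.D (nat_lit 437) Step.done))) (Scr.cons (nat_lit 0) (nat_lit 0) (Step.B (nat_lit 884) (Step.B (nat_lit 898) (Step.B (nat_lit 935) Step.done))) (Scr.cons (nat_lit 2) (nat_lit 0) (Step.D (nat_lit 778) (Step.B (nat_lit 936) (Step.U (nat_lit 437) Step.done))) (Scr.cons (nat_lit 1) (nat_lit 0) (Step.D (nat_lit 584) (Step.B (nat_lit 937) (Step.D (nat_lit 436) Step.done))) (Scr.cons (nat_lit 3) (nat_lit 0) (Step.B (nat_lit 934) (Step.F (nat_lit 938) (Step.B (nat_lit 815) Step.done))) (Scr.cons (nat_lit 2) (nat_lit 0) (Step.B (nat_lit 933) (Step.F (nat_lit 939) (Step.D (nat_lit 439) Step.done))) (Scr.cons (nat_lit 1) (nat_lit 0) (Step.U (nat_lit 637) (Step.F (nat_lit 940) (Step.D (nat_lit 487) Step.done))) (Scr.cons (nat_lit 21) (nat_lit 1) (Step.U (nat_lit 338) (Step.L (Step.L Step.done))) (Scr.cons (nat_lit 14) (nat_lit 0) (Step.U (nat_lit 487) (Step.B (nat_lit 942) (Step.L Step.done))) (Scr.cons (nat_lit 4) (nat_lit 0) (Step.F (nat_lit 932) (Step.B (nat_lit 941) (Step.B (nat_lit 943) Step.done)))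 (Scr.cons (nat_lit 2) (nat_lit 0) (Step.D (nat_lit 695) (Step.B (nat_lit 944) Step.done)) (Scr.cons (nat_lit 7) (nat_lit 0) (Step.F (nat_lit 694) (Step.B (nat_lit 610) (Step.F (nat_lit 601) (Step.U (nat_lit 627) (Step.U (nat_lit 428) (Step.U (nat_lit 291) (Step.L (Step.D (nat_lit 427) (Step.D (nat_lit 625) Step.done))))))))) (Scr.cons (nat_lit 55) (nat_lit 3) (Step.U (nat_lit 608) (Step.L (Step.L (Step.D (nat_lit 615) Step.done)))) (Scr.cons (nat_lit 22) (nat_lit 0) (Step.F (nat_lit 698) (Step.U (nat_lit 620) (Step.D (nat_lit 619) Step.done))) (Scr.cons (nat_lit 23) (nat_lit 0) (Step.F (nat_lit 946) (Step.B (nat_lit 947) (Step.D (nat_lit 788) (Step.B (nat_lit 948) (Step.D (nat_lit 790) Step.done))))) (Scr.cons (nat_lit 8) (nat_lit 1) (Step.U (nat_lit 626) (Step.D (nat_lit 625) (Step.D (nat_lit 793) Step.done))) (Scr.cons (nat_lit 19) (nat_lit 1) (Step.L (Step.D (nat_lit 290) (Step.D (nat_lit 426) Step.done))) (Scr.cons (nat_lit 9) (nat_lit 1) (Step.U (nat_lit 626) (Step.U (nat_lit 427) (Step.B (nat_lit 951) (Step.D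 (nat_lit 624) (Step.F (nat_lit 453) Step.done))))) (Scr.cons (nat_lit 19) (nat_lit 0) (Step.B (nat_lit 453) (Step.F (nat_lit 456) (Step.D (nat_lit 722) Step.done))) (Scr.cons (nat_lit 5) (nat_lit 0) (Step.B (nat_lit 953) (Step.B (nat_lit 904) (Step.L Step.done))) (Scr.cons (nat_lit 1) (nat_lit 0) (Step.B (nat_lit 952) (Step.B (nat_lit 954) (Step.L Step.done))) (Scr.cons (nat_lit 0) (nat_lit 0) (Step.F (nat_lit 950) (Step.B (nat_lit 955) (Step.L Step.done))) (Scr.cons (nat_lit 2) (nat_lit 0) (Step.D (nat_lit 793) (Step.B (nat_lit 956) (Step.L Step.done))) (Scr.cons (nat_lit 6) (nat_lit 0) (Step.F (nat_lit 949) (Step.B (nat_lit 957) (Step.L Step.done))) (Scr.cons (nat_lit 1) (nat_lit 0) (Step.D (nat_lit 790) (Step.B (nat_lit 958) (Step.L Step.done))) (Scr.cons (nat_lit 0) (nat_lit 0) (Step.D (nat_lit 619) (Step.B (nat_lit 959) (Step.D (nat_lit 705) Step.done))) (Scr.cons (nat_lit 0) (nat_lit 0) (Step.D (nat_lit 705) (Step.F (nat_lit 960) Step.done)) (Scr.cons (nat_lit 8) (nat_lit 1) (Step.U (nat_lit 382) (Step.D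 (nat_lit 381) (Step.D (nat_lit 559) Step.done))) (Scr.cons (nat_lit 17) (nat_lit 1) (Step.U (nat_lit 513) (Step.D (nat_lit 511) (Step.D (nat_lit 708) Step.done))) (Scr.cons (nat_lit 55) (nat_lit 2) (Step.U (nat_lit 709) (Step.D (nat_lit 708) (Step.F (nat_lit 963) (Step.D (nat_lit 713) Step.done)))) (Scr.cons (nat_lit 22) (nat_lit 1) (Step.U (nat_lit 514) (Step.D (nat_lit 511) (Step.D (nat_lit 709) Step.done))) t))))))))))))))))))))))))))))))))))))))))
noncomputable def s24 (t : Scr) : Scr := (Scr.cons (nat_lit 17) (nat_lit 1) (Step.F (nat_lit 964) (Step.F (nat_lit 965) (Step.D (nat_lit 714) Step.done))) (Scr.cons (nat_lit 10) (nat_lit 1) (Step.U (nat_lit 591) (Step.B (nat_lit 751) (Step.D (nat_lit 782) Step.done))) (Scr.cons (nat_lit 14) (nat_lit 0) (Step.U (nat_lit 286) (Step.L (Step.L Step.done))) (Scr.cons (nat_lit 15) (nat_lit 0) (Step.U (nat_lit 409) (Step.B (nat_lit 968) (Step.D (nat_lit 546) Step.done))) (Scr.cons (nat_lit 16) (nat_lit 1) (Step.U (nat_lit 784) (Step.U (nat_lit 591) (Step.B (nat_lit 969)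 (Step.D (nat_lit 753) (Step.F (nat_lit 881) Step.done))))) (Scr.cons (nat_lit 10) (nat_lit 1) (Step.U (nat_lit 781) (Step.B (nat_lit 812) (Step.F (nat_lit 970) Step.done))) (Scr.cons (nat_lit 13) (nat_lit 0) (Step.F (nat_lit 967) (Step.D (nat_lit 784) (Step.F (nat_lit 971) Step.done))) (Scr.cons (nat_lit 54) (nat_lit 3) (Step.U (nat_lit 437) (Step.L (Step.L (Step.L (Step.L (Step.L (Step.D (nat_lit 362) (Step.D (nat_lit 530) Step.done)))))))) (Scr.cons (nat_lit 11) (nat_lit 0) (Step.U (nat_lit 635) (Step.B (nat_lit 973) (Step.D (nat_lit 735) Step.done))) (Scr.cons (nat_lit 1) (nat_lit 0) (Step.B (nat_lit 811) (Step.B (nat_lit 936) (Step.D (nat_lit 635) Step.done))) (Scr.cons (nat_lit 3) (nat_lit 0) (Step.F (nat_lit 974) (Step.F (nat_lit 975) (Step.D (nat_lit 781) Step.done))) (Scr.cons (nat_lit 1) (nat_lit 0) (Step.F (nat_lit 882) (Step.B (nat_lit 902) (Step.L Step.done))) (Scr.cons (nat_lit 0) (nat_lit 0) (Step.B (nat_lit 812) (Step.B (nat_lit 977) (Step.L Step.done))) (Scr.cons (nat_lit 3) (nat_lit 0) (Step.B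 (nat_lit 976) (Step.U (nat_lit 781) (Step.B (nat_lit 978) (Step.L Step.done)))) (Scr.cons (nat_lit 4) (nat_lit 0) (Step.B (nat_lit 972) (Step.F (nat_lit 976) (Step.B (nat_lit 979) (Step.L Step.done)))) (Scr.cons (nat_lit 3) (nat_lit 0) (Step.D (nat_lit 782) (Step.B (nat_lit 980) (Step.L Step.done))) (Scr.cons (nat_lit 6) (nat_lit 0) (Step.U (nat_lit 783) (Step.B (nat_lit 981) (Step.L Step.done))) (Scr.cons (nat_lit 5) (nat_lit 0) (Step.B (nat_lit 752) (Step.B (nat_lit 982) (Step.L Step.done))) (Scr.cons (nat_lit 1) (nat_lit 0) (Step.B (nat_lit 759) (Step.B (nat_lit 983) (Step.L Step.done))) (Scr.cons (nat_lit 0) (nat_lit 0) (Step.B (nat_lit 966) (Step.B (nat_lit 984) (Step.D (nat_lit 381) Step.done))) (Scr.cons (nat_lit 24) (nat_lit 1) (Step.U (nat_lit 514) (Step.D (nat_lit 512) (Step.D (nat_lit 711) Step.done))) (Scr.cons (nat_lit 9) (nat_lit 1) (Step.L (Step.L (Step.L (Step.D (nat_lit 232) (Step.D (nat_lit 275) Step.done))))) (Scr.cons (nat_lit 8) (nat_lit 1) (Step.U (nat_lit 275) (Step.D (nat_lit 274) (Step.D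 (nat_lit 389) Step.done))) (Scr.cons (nat_lit 18) (nat_lit 0) (Step.U (nat_lit 232) (Step.L (Step.L (Step.D (nat_lit 231) (Step.D (nat_lit 272) Step.done))))) (Scr.cons (nat_lit 17) (nat_lit 0) (Step.U (nat_lit 274) (Step.B (nat_lit 989) (Step.D (nat_lit 386) Step.done))) (Scr.cons (nat_lit 19) (nat_lit 0) (Step.U (nat_lit 389) (Step.B (nat_lit 990) (Step.D (nat_lit 568) Step.done))) (Scr.cons (nat_lit 30) (nat_lit 0) (Step.U (nat_lit 715) (Step.U (nat_lit 515) (Step.F (nat_lit 743) (Step.L (Step.L (Step.L (Step.L (Step.L (Step.L (Step.L (Step.L (Step.L (Step.L (Step.B (nat_lit 987) (Step.B (nat_lit 988) (Step.B (nat_lit 991) (Step.U (nat_lit 568) (Step.D (nat_lit 567) (Step.D (nat_lit 766) Step.done))))))))))))))))))) (Scr.cons (nat_lit 18) (nat_lit 0) (Step.U (nat_lit 515) (Step.U (nat_lit 354) (Step.D (nat_lit 353) (Step.D (nat_lit 513) (Step.D (nat_lit 712) Step.done))))) (Scr.cons (nat_lit 19) (nat_lit 1) (Step.F (nat_lit 992) (Step.U (nat_lit 715) (Step.B (nat_lit 993) Step.done))) (Scr.cons (nat_lit 17)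 (nat_lit 1) (Step.B (nat_lit 992) (Step.U (nat_lit 766) (Step.D (nat_lit 767) Step.done))) (Scr.cons (nat_lit 18) (nat_lit 1) (Step.U (nat_lit 572) (Step.U (nat_lit 388) (Step.B (nat_lit 990) (Step.D (nat_lit 567) (Step.D (nat_lit 767) Step.done))))) (Scr.cons (nat_lit 19) (nat_lit 1) (Step.U (nat_lit 572) (Step.D (nat_lit 571) (Step.D (nat_lit 769) Step.done))) (Scr.cons (nat_lit 8) (nat_lit 1) (Step.U (nat_lit 571) (Step.D (nat_lit 570) (Step.D (nat_lit 768) Step.done))) (Scr.cons (nat_lit 9) (nat_lit 0) (Step.L (Step.L (Step.L (Step.L (Step.D (nat_lit 655) Step.done))))) (Scr.cons (nat_lit 7) (nat_lit 0) (Step.U (nat_lit 565) (Step.L (Step.L (Step.L (Step.L (Step.D (nat_lit 232) (Step.D (nat_lit 274) (Step.D (nat_lit 388) (Step.D (nat_lit 570) Step.done))))))))) (Scr.cons (nat_lit 1) (nat_lit 0) (Step.F (nat_lit 1000) (Step.B (nat_lit 637) (Step.D (nat_lit 655) Step.done))) (Scr.cons (nat_lit 2) (nat_lit 0) (Step.B (nat_lit 999) (Step.F (nat_lit 1001) (Step.D (nat_lit 768) Step.done))) (Scr.cons (nat_lit 0)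 (nat_lit 0) (Step.B (nat_lit 998) (Step.F (nat_lit 1002) (Step.D (nat_lit 659) Step.done))) (Scr.cons (nat_lit 0) (nat_lit 0) (Step.D (nat_lit 659) (Step.F (nat_lit 1003) Step.done)) (Scr.cons (nat_lit 56) (nat_lit 0) (Step.F (nat_lit 963) (Step.D (nat_lit 712) (Step.F (nat_lit 994) (Step.F (nat_lit 992) (Step.B (nat_lit 995) (Step.F (nat_lit 996) (Step.B (nat_lit 997) (Step.U (nat_lit 769) (Step.F (nat_lit 1004) (Step.L (Step.L (Step.L (Step.L (Step.L (Step.L (Step.L (Step.D (nat_lit 263) (Step.D (nat_lit 353) (Step.D (nat_lit 512) (Step.D (nat_lit 710) Step.done)))))))))))))))))))) t))))))))))))))))))))))))))))))))))))))))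
noncomputable def s25 (t : Scr) : Scr := (Scr.cons (nat_lit 5) (nat_lit 0) (Step.D (nat_lit 710) (Step.F (nat_lit 1005) (Step.U (nat_lit 708) Step.done))) (Scr.cons (nat_lit 6) (nat_lit 0) (Step.U (nat_lit 711) (Step.B (nat_lit 1006) (Step.D (nat_lit 709) Step.done))) (Scr.cons (nat_lit 2) (nat_lit 0) (Step.B (nat_lit 986) (Step.B (nat_lit 1007) Step.done)) (Scr.cons (nat_lit 19) (nat_lit 1) (Step.F (nat_lit 964) (Step.F (nat_lit 1008) (Step.D (nat_lit 714) Step.done))) (Scr.cons (nat_lit 2) (nat_lit 0) (Step.F (nat_lit 985) (Step.B (nat_lit 1009) (Step.B (nat_lit 984) (Step.D (nat_lit 382) Step.done)))) (Scr.cons (nat_lit 0) (nat_lit 0) (Step.F (nat_lit 962) (Step.F (nat_lit 1010) (Step.U (nat_lit 381) Step.done))) (Scr.cons (nat_lit 3) (nat_lit 0) (Step.U (nat_lit 761) (Step.B (nat_lit 1011) (Step.L Step.done))) (Scr.cons (nat_lit 54) (nat_lit 2) (Step.U (nat_lit 560) (Step.U (nat_lit 382) (Step.L (Step.L (Step.L (Step.D (nat_lit 382) (Step.B (nat_lit 962) (Step.D (nat_lit 761) Step.done)))))))) (Scr.cons (nat_lit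 10) (nat_lit 0) (Step.U (nat_lit 270) (Step.L (Step.D (nat_lit 381) Step.done))) (Scr.cons (nat_lit 3) (nat_lit 0) (Step.U (nat_lit 560) (Step.F (nat_lit 1010) (Step.F (nat_lit 1014) Step.done))) (Scr.cons (nat_lit 8) (nat_lit 0) (Step.U (nat_lit 270) (Step.L (Step.D (nat_lit 270) Step.done))) (Scr.cons (nat_lit 2) (nat_lit 0) (Step.F (nat_lit 1012) (Step.F (nat_lit 1013) (Step.B (nat_lit 1015) (Step.F (nat_lit 1016) Step.done)))) (Scr.cons (nat_lit 0) (nat_lit 0) (Step.D (nat_lit 270) (Step.F (nat_lit 1017) Step.done)) t)))))))))))))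
noncomputable def scr : Scr := (s0 (s1 (s2 (s3 (s4 (s5 (s6 (s7 (s8 (s9 (s10 (s11 (s12 (s13 (s14 (s15 (s16 (s17 (s18 (s19 (s20 (s21 (s22 (s23 (s24 (s25 Scr.nil))))))))))))))))))))))))))
noncomputable def E : Ex := (Ex.cons (nat_lit 0) (nat_lit 0) (nat_lit 0) (Ex.cons (nat_lit 1) (nat_lit 0) (nat_lit 1) (Ex.cons (nat_lit 2) (nat_lit 0) (nat_lit 2) (Ex.cons (nat_lit 3) (nat_lit 0) (nat_lit 3) (Ex.cons (nat_lit 4) (nat_lit 0) (nat_lit 4) (Ex.cons (nat_lit 5) (nat_lit 0) (nat_lit 5) (Ex.cons (nat_lit 0) (nat_lit 6) (nat_lit 9) (Ex.cons (nat_lit 6) (nat_lit 32) (nat_lit 11) (Ex.cons (nat_lit 5) (nat_lit 266) (nat_lit 14) (Ex.cons (nat_lit 1) (nat_lit 314) (nat_lit 35) (Ex.cons (nat_lit 2) (nat_lit 228) (nat_lit 247) (Ex.cons (nat_lit 0) (nat_lit 347) (nat_lit 261) (Ex.cons (nat_lit 5) (nat_lit 347) (nat_lit 277) (Ex.cons (nat_lit 0) (nat_lit 87) (nat_lit 311) (Ex.cons (nat_lit 2) (nat_lit 1045) (nat_lit 314) (Ex.cons (nat_lit 3) (nat_lit 616) (nat_lit 319) (Ex.cons (nat_lit 2) (nat_lit 910) (nat_lit 344) (Ex.cons (nat_lit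 1) (nat_lit 1073) (nat_lit 355) (Ex.cons (nat_lit 6) (nat_lit 1265) (nat_lit 362) (Ex.cons (nat_lit 0) (nat_lit 1345) (nat_lit 370) (Ex.cons (nat_lit 1) (nat_lit 1077) (nat_lit 416) (Ex.cons (nat_lit 0) (nat_lit 1632) (nat_lit 418) (Ex.cons (nat_lit 1) (nat_lit 1448) (nat_lit 423) (Ex.cons (nat_lit 2) (nat_lit 1715) (nat_lit 463) (Ex.cons (nat_lit 6) (nat_lit 1716) (nat_lit 469) (Ex.cons (nat_lit 0) (nat_lit 1288) (nat_lit 482) (Ex.cons (nat_lit 0) (nat_lit 1535) (nat_lit 495) (Ex.cons (nat_lit 5) (nat_lit 1722) (nat_lit 496) (Ex.cons (nat_lit 0) (nat_lit 1253) (nat_lit 639) (Ex.cons (nat_lit 4) (nat_lit 1702) (nat_lit 726) (Ex.cons (nat_lit 4) (nat_lit 1762) (nat_lit 808) (Ex.cons (nat_lit 0) (nat_lit 1274) (nat_lit 901) (Ex.cons (nat_lit 2) (nat_lit 1472) (nat_lit 906) (Ex.cons (nat_lit 2) (nat_lit 1724) (nat_lit 930) (Ex.cons (nat_lit 2) (nat_lit 1407) (nat_lit 945) (Ex.cons (nat_lit 0) (nat_lit 1290) (nat_lit 961) (Ex.cons (nat_lit 0) (nat_lit 593) (nat_lit 1018) Ex.nil)))))))))))))))))))))))))))))))))))))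
noncomputable def nd : Nat := (nat_lit 820)
noncomputable def g : Nat := (nat_lit 6)
end Cfsg.Agent.Lib.SuzCertA
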