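import Cfsg.Agent.Lib.SuzRel
import Cfsg.Agent.Lib.CosetInst
import Cfsg.Agent.Lib.SuzNetsA
import Cfsg.Agent.Lib.SuzCertA

set_option autoImplicit false
set_option maxRecDepth 100000

namespace Cfsg.Agent.Lib.SuzA
open Cfsg.Spor Cfsg.Agent.Lib.BenesPerm Cfsg.Agent.Lib.BenesAct Cfsg.Agent.Lib.BenesWord
open Cfsg.Agent.Lib.BenesPlane Cfsg.Agent.Lib.CosetClosure Cfsg.Agent.Lib.CosetFacts
open Cfsg.Agent.Lib.CosetMain Cfsg.Agent.Lib.CoxBridge Cfsg.Agent.Lib.CosetGroup Cfsg.Agent.Lib.CosetInst
open Cfsg.Agent.Lib.SuzRel Cfsg.Agent.Lib.SuzNetsA Cfsg.Agent.Lib.SuzCertA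

/-- words for the subgroup -/
def WS : List Wd := [Wd.g 0, Wd.g 1, Wd.g 2, Wd.g 3, Wd.g 4, Wd.g 5]
/-- patterns -/
def pats : List Wd := pats0 ++ []

theorem c_nets : netsCheck (2 ^ 11) nets = true := by decide +kernel
theorem c_iv : ivK nets 11 iv 7 = true := by decide +kernel
theorem c_full : fullInvK nets 1782 7 = true := by decide +kernel
theorem c_len : lenK R 7 7 = true := by decide +kernel
theorem c_sym : symK nets iv R 7 = true := by decide +kernel
theorem c_disj : disjK D 1 = true := by decide +kernel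
theorem c_tree : treeK nets 11 D = true := by decide +kernel
theorem c_treelet : netLetK 7 D = true := by decide +kernel
theorem c_dtab : dtabK (2 ^ 11) nd DT = true := by decide +kernel
theorem c_facts : factsK nets iv R 7 1782 (2 ^ 11) nd T DT (pats.map (fun W => (W.flat iv).reverse)) 6 scr = true := by decide +kernel
theorem c_ex : exK nets R 7 T (6 + scr.len) E = true := by decide +kernel
theorem c_simdlet : simdLetK iv 7 simd = true := by decide +kernel
theorem c_cover : relsMK nets iv R 7 (simd.map (splitW iv)) (exM E D) (fun ms => coverK nets iv 1782 ms 7) = true := by decide +kernel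
theorem c_rels : relsK nets 11 iv rels = true := by decide +kernel

/-- further elements of the group used as letters -/
noncomputable def HL : List (CoxPresented Suz.Gen Suz.edges Suz.extra) := []

theorem c_rel (W : Wd) (h : W ∈ rels) : relK nets 11 (W.flat iv) = true := relK_of_relsK c_rels W h

theorem rel_eval (L : List (CoxPresented Suz.Gen Suz.edges Suz.extra)) : ∀ W ∈ rels, W.eval (C.x L) = 1 := by
  have h := C.rel_x L
  intro W hW
  rcases List.mem_append.mp hW with h1 | h1
  · exact h.1 W (by rw [show coxWds Suz.edges C.gen C.nn = coxW from coxW_eq]; exact h1)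
  · exact h.2.1 W h1

theorem x_iv : ∀ c, C.x HL (iv c) = (C.x HL c)⁻¹ := by
  have h2 : ∀ i, i < 7 → C.x HL i = (C.x HL i)⁻¹ := fun i hi => mul_eq_one_iff_eq_inv.mp ((C.rel_x HL).2.2 i hi)
  intro c
  by_cases hc : c < 7
  · interval_cases c
    · exact h2 0 (by norm_num)
    · exact h2 1 (by norm_num)
    · exact h2 2 (by norm_num)
    · exact h2 3 (by norm_num)
    · exact h2 4 (by norm_num)
    · exact h2 5 (by norm_num)
    · exact h2 6 (by norm_num)
  · have h1 : iv c = c := ivOf_ge _ (by simpa using hc)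
    obtain ⟨d, rfl⟩ := Nat.exists_eq_add_of_le (not_lt.mp hc)
    rw [h1, show C.x HL (7 + d) = 1 from C.x_ge HL d, inv_one]

theorem phi_exists : ∃ φ : CoxPresented Suz.Gen Suz.edges Suz.extra →* Equiv.Perm ℕ, ∀ c, φ (C.x HL c) = sperm nets c := by
  refine exists_phi C (iv := iv) (k := 11) (rels := rels) rfl c_nets c_rel (fun c hc => ivOf_ge _ hc) c_iv ?_ ?_ ?_ ?_
  · intro c hc
    change c < 7 at hc
    interval_cases c <;> rfl
  · intro c
    have h1 : iv (C.ng + c) = C.ng + c := ivOf_ge _ (by simp [C])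
    rw [h1, C.x_ge]; simp [HL]
  · intro c; right; simp [nets, C]
  · intro c _; simp [HL]

theorem map_exists (H : Subgroup (CoxPresented Suz.Gen Suz.edges Suz.extra)) (hH : H = Subgroup.closure (wset (C.x HL) WS)) :
    ∃ f : ℕ → (CoxPresented Suz.Gen Suz.edges Suz.extra) ⧸ H, f 0 = ((1 : (CoxPresented Suz.Gen Suz.edges Suz.extra)) : (CoxPresented Suz.Gen Suz.edges Suz.extra) ⧸ H) ∧
      ∀ c i, c < 7 → i < 1782 → C.x HL c • f i = f (sig nets c i) := by
  refine exists_map (P := 7) (D := D) (R := R) (simd := simd) (pats := pats) (scr := scr) (E := E) (T := T) (DT := DT)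
    (nd := nd) (g := 6)
    c_nets (by norm_num) c_iv c_full c_len c_sym x_iv ?_ c_disj c_tree c_treelet ?_ c_dtab ?_ c_facts c_ex
    (fun q hq => c_rel _ (mem_zip_left hq)) (fun q hq => rel_eval HL _ (mem_zip_left hq)) c_simdlet c_cover
  · rfl
  · apply eval_pats
    · intro W hW
      simp only [triv, List.mem_cons, List.not_mem_nil, or_false] at hW
      have h2 := (C.rel_x HL).2.2
      rcases hW with rfl | rfl | rfl | rfl | rfl | rfl | rfl <;> exact h2 _ (by decide)
    · exact rel_eval HL
    · intro W hW; exact absurd hW (by simp)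
  · intro j hj
    have key : ∀ c, c < 6 → C.x HL c ∈ H := by
      intro c hc
      rw [hH]
      interval_cases c
      · exact mem_wset (W := Wd.g 0) (by simp [WS])
      · exact mem_wset (W := Wd.g 1) (by simp [WS])
      · exact mem_wset (W := Wd.g 2) (by simp [WS])
      · exact mem_wset (W := Wd.g 3) (by simp [WS])
      · exact mem_wset (W := Wd.g 4) (by simp [WS])
      · exact mem_wset (W := Wd.g 5) (by simp [WS])
    have h1 : ∀ j, j < 6 → eSrc (T.get j) = 0 ∧ eDst (T.get j) = 0 ∧ eLet (T.get j) = j := by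
      decide +kernel
    obtain ⟨h2, h3, h4⟩ := h1 j hj
    refine ⟨h2, h3, ?_⟩
    rw [h4]
    exact smul_one_coset (key j hj)

end Cfsg.Agent.Lib.SuzA
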