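import Cfsg.Agent.Lib.SuzA

set_option autoImplicit false
set_option maxRecDepth 100000

namespace Cfsg.Agent.Lib.SuzAIdx
open Cfsg.Spor Cfsg.Agent.Lib.BenesPerm Cfsg.Agent.Lib.BenesAct Cfsg.Agent.Lib.BenesWord
open Cfsg.Agent.Lib.BenesPlane Cfsg.Agent.Lib.CosetClosure Cfsg.Agent.Lib.CosetFacts
open Cfsg.Agent.Lib.CosetMain Cfsg.Agent.Lib.CoxBridge Cfsg.Agent.Lib.CosetGroup Cfsg.Agent.Lib.CosetInst
open Cfsg.Agent.Lib.SuzRel Cfsg.Agent.Lib.SuzNetsA Cfsg.Agent.Lib.SuzCertA Cfsg.Agent.Lib.SuzA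

/-- reachability steps for the whole group -/
def steps0 : List ℕ := [6, 1, 0, 2, 5, 3, 1, 2, 4, 1, 5, 0, 3, 6, 1, 2, 3, 1, 6, 0, 5, 4, 2, 1, 0, 2, 1, 5]

/-- orbit mask -/
noncomputable def M0 : ℕ := (nat_lit 0xc7ff80df3ffffffffff80ffffffffff7fff7fb1147fdff2ce7fdffffffffffffffffffffffffff987e18dffffbffffffffffffff7fe7e03f27c31757ffb73fff1c01c7dda79bf3ffffffffffffffffffffff8637e19ffeffdffffffffffffff8fc3f01f9ee3b8b1ffebf3bfffc0c03dc6fb2ffd9d7fffffffffffffff867fc5ff9fffffffffff187801fb8b8b9fe33afff30062b8bbdafffffffffe2fcbacfffffffdb8001c51772dafc6002eeeffffffcb96b3ffffe580045bbbbb00777ffffe596b7fffd802eee0effff2dbfff85dc6fff7fff96effffff7ffffffffffe)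
/-- steps -/
def l0 : List ℕ := [1, 0, 2, 5, 3, 1, 2, 4, 1, 5, 0, 3, 1, 2, 3, 1, 0, 5, 1, 2, 4, 5, 1, 3]

theorem o0_inv : invK nets (WS.map (Wd.flat iv)) M0 = true := by decide +kernel
theorem o0_reach : reachK nets (stepsW (WS.map (Wd.flat iv)) l0) (2 ^ 1) (fun V => Nat.beq V M0) = true := by decide +kernel
theorem o0_lt : M0 < 2 ^ 2 ^ 11 := by decide +kernel
theorem o0_pop : popK 11 M0 = 1365 := by decide +kernel

/-- orbit mask -/
noncomputable def M1 : ℕ := (nat_lit 0x338007f20c00000000007f00000000008000804eeb80200d31802000000000000000000000000006781e72000040000000000000080181fc0d83ce8a80048c000e3fe382258640c000000000000000000000079c81e600100200000000000000703c0fe0611c474e00140c40003f3fc23904d00262800000000000000079803a00600000000000e787fe047474601cc5000cff9d4744250000000001d034530000000247ffe3ae88d25039ffd11100000034694c00001a7ffba44444ff88800001a694800027fd111f10000d240007a2390008000691000000800000000000)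
/-- steps -/
def l1 : List ℕ := [0, 3, 4, 5, 1, 2, 3, 2, 1, 0, 3, 4, 5, 1, 2, 0, 1]

theorem o1_inv : invK nets (WS.map (Wd.flat iv)) M1 = true := by decide +kernel
theorem o1_reach : reachK nets (stepsW (WS.map (Wd.flat iv)) l1) (2 ^ 47) (fun V => Nat.beq V M1) = true := by decide +kernel
theorem o1_lt : M1 < 2 ^ 2 ^ 11 := by decide +kernel
theorem o1_pop : popK 11 M1 = 416 := by decide +kernel

theorem c_fix : invK nets (WS.map (Wd.flat iv)) (2 ^ 0) = true := by decide +kernel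
theorem c_inv0 : invK nets ((letterW 7).map (Wd.flat iv)) (2 ^ 1782 - 1) = true := by decide +kernel
theorem c_reach0 : reachK nets (stepsW ((letterW 7).map (Wd.flat iv)) steps0) (2 ^ 0) (fun V => Nat.beq V (2 ^ 1782 - 1)) = true := by decide +kernel

/-- index and orbits of the subgroup generated by the images of a, …, f -/
theorem main (H : Subgroup Suz) (hH : H = Subgroup.closure (wset (C.x HL) WS)) :
    H.index = 1782 ∧ (∃ q₁ q₂ : Suz ⧸ H, (MulAction.orbit H q₁).ncard = 416 ∧ (MulAction.orbit H q₂).ncard = 1365) := by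
  obtain ⟨φ, hφ⟩ := phi_exists
  obtain ⟨f, hf0, hf⟩ := map_exists H hH
  have h := cert_index (k := 11) (n := 1782) (nc := 7) c_nets hφ x_iv (C.closure_letters HL) (by norm_num) (by norm_num)
    c_full WS c_fix steps0 c_inv0 c_reach0 H hH f hf0 hf

  refine ⟨h.1, f 47, f 1, ?_, ?_⟩
  · rw [(h.2 47 M1 l1 (by norm_num) o1_lt o1_inv o1_reach).2, o1_pop]
  · rw [(h.2 1 M0 l0 (by norm_num) o0_lt o0_inv o0_reach).2, o0_pop]

end Cfsg.Agent.Lib.SuzAIdx
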