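import Cfsg.Agent.Lib.SuzRel
import Cfsg.Agent.Lib.CosetChain

set_option autoImplicit false
set_option linter.all false
set_option maxRecDepth 100000

namespace Cfsg.Agent.Lib.SuzL1
open Cfsg.Spor Cfsg.Agent.Lib.BenesPerm Cfsg.Agent.Lib.BenesAct Cfsg.Agent.Lib.BenesWord
open Cfsg.Agent.Lib.BenesPlane Cfsg.Agent.Lib.CosetClosure Cfsg.Agent.Lib.CosetFacts
open Cfsg.Agent.Lib.CosetMain Cfsg.Agent.Lib.CoxBridge Cfsg.Agent.Lib.CosetGroup Cfsg.Agent.Lib.CosetInst Cfsg.Agent.Lib.CosetInj
open Cfsg.Agent.Lib.BenesPack Cfsg.Agent.Lib.CosetPack Cfsg.Agent.Lib.CosetChain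
open Cfsg.Agent.Lib.SuzRel (rels)

noncomputable def m0_0 : Nat := (nat_lit 0x14541404011445140040545441550041055001140001400405110114505005410404040004010100401405511045114004010104)
noncomputable def m0_1 : Nat := (nat_lit 0x132030222030001003303021331101132223333102312110321023031210323013310001223232320210102222100213113010)
noncomputable def m0_2 : Nat := (nat_lit 0x50708070105070c03040b070d0b0c090b090b080b080e090e050a0205090609050509050904040a0808080408010c0e0b030b00)
noncomputable def m0_3 : Nat := (nat_lit 0x500004004a009600a2007900bc007200600014009d00a90013003d001900340008008400610086009f006c007700cc00ff00a0)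
noncomputable def m0_4 : Nat := (nat_lit 0x5d85000008010000caf70000d65100009a1000000cc10000d8a700009f8000004e470000c867000087640000fdf700004e00)
noncomputable def m0_5 : Nat := (nat_lit 0x8a22800000000d88314510000000032281889000000001610580400000000dc5579ef00000000fb8f87710000000081780000)
noncomputable def m0_6 : Nat := (nat_lit 0x8200001000002000000000000000013e79b7fecd77dcd0000000000000000343a78d73bf9d41600000000000000001200817100000000)
noncomputable def m0_7 : Nat := (nat_lit 0xcbcda628c50629430400a2a8560080100000000000000000000000000000000004107086120080100000000000000000)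
noncomputable def m0_8 : Nat := (nat_lit 0xcbc58628c4062941040020801200801000000000000000000000000000000000)
noncomputable def m0_9 : Nat := (nat_lit 0xcbc58628c406294104002080120080100000000000000000000000000000000000000000000000000000000000000000)
noncomputable def m0_10 : Nat := (nat_lit 0x820000100000200000000000000008bc186a8c40621410000000000000000041070861200801000000000000000000000000000000000)
noncomputable def m0_11 : Nat := (nat_lit 0x8a22800000000706700d100000000108000090000000010515845000000001410708600000000120081710000000000000000)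
noncomputable def m0_12 : Nat := (nat_lit 0x4500000004410000f04700001650000016d000000400000054a600009141000046060000c10e000092710000817000000000)
noncomputable def m0_13 : Nat := (nat_lit 0x10000400ec0096009200880008005200000004001900cd0047003900190034004c00840068008900800011006200d9004e0000)
noncomputable def m0_14 : Nat := (nat_lit 0x4050807040c070803040f030d0300090f0d0b040e0802050a010e0604090209010109050900040a0808080508000d0f0a080a00)
noncomputable def m0_15 : Nat := (nat_lit 0x132030222030001003303001331101130223333102312110121023031210323013310001223232320210102222100011331000)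
noncomputable def m0_16 : Nat := (nat_lit 0x14541404011445140040545441550041055001140001400405110114505005410404040004010100401405511045114004010100)
noncomputable def n0 : Net := (Net.cons (nat_lit 1) m0_0 (Net.cons (nat_lit 2) m0_1 (Net.cons (nat_lit 4) m0_2 (Net.cons (nat_lit 8) m0_3 (Net.cons (nat_lit 16) m0_4 (Net.cons (nat_lit 32) m0_5 (Net.cons (nat_lit 64) m0_6 (Net.cons (nat_lit 128) m0_7 (Net.cons (nat_lit 256) m0_8 (Net.cons (nat_lit 128) m0_9 (Net.cons (nat_lit 64) m0_10 (Net.cons (nat_lit 32) m0_11 (Net.cons (nat_lit 16) m0_12 (Net.cons (nat_lit 8) m0_13 (Net.cons (nat_lit 4) m0_14 (Net.cons (nat_lit 2) m0_15 (Net.cons (nat_lit 1) m0_16 Net.nil)))))))))))))))))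
noncomputable def m1_0 : Nat := (nat_lit 0x54414000144014000114151410015514104005005150501540014540011101155541100400104554404014410110050140040014)
noncomputable def m1_1 : Nat := (nat_lit 0x33030201101010203003132303303323013202201012101012011032021220032322000020101213000001102022020203302112)
noncomputable def m1_2 : Nat := (nat_lit 0xb080e0a060b070f02000a0b040e050c0c0300010204050900040d02080c0c06000a01040d040702060301010a09030d07030304)
noncomputable def m1_3 : Nat := (nat_lit 0x9c00c40038001600b50013006600f800e4008d007a005400d500ce005000150084004c000a002b0002007c00170009003b0010)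
noncomputable def m1_4 : Nat := (nat_lit 0xa8ce000094d800004ef9000022d0000099ad0000a15500002ffb0000054f000002d100000aa9000008100000bbeb00004900)
noncomputable def m1_5 : Nat := (nat_lit 0x380d00100000000026d2a927000000005e723c3a00000000608a3153000000004af9b95d00000000b2f5c7fe0000000086e90000)
noncomputable def m1_6 : Nat := (nat_lit 0x180c0010800044200000000000000000a441c2ae6fffb9dd0000000000000000fd2e7af3775e7eab00000000000000002014c6aa00000000)
noncomputable def m1_7 : Nat := (nat_lit 0x3a9d011c8ab1c5346d2b3c110000422200000000000000000000000000000000450a3801200446a20000000000000000)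
noncomputable def m1_8 : Nat := (nat_lit 0x2291010c0ab181144d2a3c110000422200000000000000000000000000000000)
noncomputable def m1_9 : Nat := (nat_lit 0x2291010c0ab181144d2a3c11000042220000000000000000000000000000000000000000000000000000000000000000)
noncomputable def m1_10 : Nat := (nat_lit 0x180c001080004420000000000000000026b1010c0a3180040000000000000000450a3801200446a200000000000000000000000000000000)
noncomputable def m1_11 : Nat := (nat_lit 0x380d0010000000000432a00b00000000648a1f22000000006820387900000000600a3801000000002014c6aa0000000000000000)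
noncomputable def m1_12 : Nat := (nat_lit 0xb81c0000ae40000046ea000000480000bbb50000010f00000ca30000a515000008a9000002a100002012000082e900000000)
noncomputable def m1_13 : Nat := (nat_lit 0x8000fc0020002e009d001b004400d200cc00a700580056005900460072003d00ae0066000200010002007c0017002b00090000)
noncomputable def m1_14 : Nat := (nat_lit 0x9080e0a0009070f02000a09020c070e0d0b00010006050b02060e08000e060402080b020f060100000101020809010f05010100)
noncomputable def m1_15 : Nat := (nat_lit 0x23030201101010203001332303303323111220223012321012010230001200032022000020101213000001102022020203302110)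
noncomputable def m1_16 : Nat := (nat_lit 0x54414000144014000114151410015514504005005150501540050540011101155041100400004554404014410110050140040014)
noncomputable def n1 : Net := (Net.cons (nat_lit 1) m1_0 (Net.cons (nat_lit 2) m1_1 (Net.cons (nat_lit 4) m1_2 (Net.cons (nat_lit 8) m1_3 (Net.cons (nat_lit 16) m1_4 (Net.cons (nat_lit 32) m1_5 (Net.cons (nat_lit 64) m1_6 (Net.cons (nat_lit 128) m1_7 (Net.cons (nat_lit 256) m1_8 (Net.cons (nat_lit 128) m1_9 (Net.cons (nat_lit 64) m1_10 (Net.cons (nat_lit 32) m1_11 (Net.cons (nat_lit 16) m1_12 (Net.cons (nat_lit 8) m1_13 (Net.cons (nat_lit 4) m1_14 (Net.cons (nat_lit 2) m1_15 (Net.cons (nat_lit 1) m1_16 Net.nil)))))))))))))))))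
noncomputable def m2_0 : Nat := (nat_lit 0x54510411151155015115051050144515555111054510540145554411050101044005155105111440450151450001500054000440)
noncomputable def m2_1 : Nat := (nat_lit 0x10212110200232113030330120202012101201213132300331130221220130103000122303013333101203312002312001220110)
noncomputable def m2_2 : Nat := (nat_lit 0xb010f04070d09030106030c0d0a0a080805030c030d0b0006080b020c0b0c070d000004020208020e06020a000b040a05030e0c)
noncomputable def m2_3 : Nat := (nat_lit 0x47001700df00ee009900320030002a008d0019003700df00d2001c008100ec0027005c008700d00084004f00a2000300970030)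
noncomputable def m2_4 : Nat := (nat_lit 0xdfa70000cf2300003af2000008e3000078fe0000c8be0000bd900000489800000004000040820000c85900002ba700000300)
noncomputable def m2_5 : Nat := (nat_lit 0x440a0290000000003ed1f58f00000000b051a710000000004c00636a000000005b04da7f00000000b7ffb5cf00000000a8820000)
noncomputable def m2_6 : Nat := (nat_lit 0x440a02100891240000000000000000000bb1adcf770ed8bd0000000000000000d8b32f10bcfdaf9000000000000000000459a58200000000)
noncomputable def m2_7 : Nat := (nat_lit 0x674ac29b19916c2530000090085125000000000000000000000000000000000008000a100459a5800000000000000000)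
noncomputable def m2_8 : Nat := (nat_lit 0x2340c08b11004825300000100851250000000000000000000000000000000000)
noncomputable def m2_9 : Nat := (nat_lit 0x2340c08b1100482530000010085125000000000000000000000000000000000000000000000000000000000000000000)
noncomputable def m2_10 : Nat := (nat_lit 0x440a02100891240000000000000000000300c08b11000825000000000000000008000a100459a58000000000000000000000000000000000)
noncomputable def m2_11 : Nat := (nat_lit 0x440a0290000000002e51b50c000000002841e52a00000000501026100000000008000a90000000000459a5820000000000000000)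
noncomputable def m2_12 : Nat := (nat_lit 0x4e030000cea300003842000008f3000070ae0000c0a20000b580000080400000000000008020000000d90000a80200000000)
noncomputable def m2_13 : Nat := (nat_lit 0x7001700df00ee009900ba0022002200850019002d005700500014004100690027009c00250050000400ce0001008200030000)
noncomputable def m2_14 : Nat := (nat_lit 0x9010e04030d010201060b040a0a0a000006030c010c0b00070c0a000c0f080209000004000008000c0400080209010805030200)
noncomputable def m2_15 : Nat := (nat_lit 0x10212010200232013030330120202112101201213132300201110221220131003000112203013333101203302002202001200110)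
noncomputable def m2_16 : Nat := (nat_lit 0x14510411151154015111051050144515155111054510540145154411054111044005105105111040450151410001400054000440)
noncomputable def n2 : Net := (Net.cons (nat_lit 1) m2_0 (Net.cons (nat_lit 2) m2_1 (Net.cons (nat_lit 4) m2_2 (Net.cons (nat_lit 8) m2_3 (Net.cons (nat_lit 16) m2_4 (Net.cons (nat_lit 32) m2_5 (Net.cons (nat_lit 64) m2_6 (Net.cons (nat_lit 128) m2_7 (Net.cons (nat_lit 256) m2_8 (Net.cons (nat_lit 128) m2_9 (Net.cons (nat_lit 64) m2_10 (Net.cons (nat_lit 32) m2_11 (Net.cons (nat_lit 16) m2_12 (Net.cons (nat_lit 8) m2_13 (Net.cons (nat_lit 4) m2_14 (Net.cons (nat_lit 2) m2_15 (Net.cons (nat_lit 1) m2_16 Net.nil)))))))))))))))))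
noncomputable def m3_0 : Nat := (nat_lit 0x114101145510140115451001551440550110501415151554415514040540450554505054111415441415541501001005014040)
noncomputable def m3_1 : Nat := (nat_lit 0x30220133100011333113032032312230010202301222002133113130313012110230232130313123032100321201231000010)
noncomputable def m3_2 : Nat := (nat_lit 0xd060e070b0908010f0c030b07060b0409070a0c0e02080306010e01060005020d030d0a010b0a0c030a000008010407000800)
noncomputable def m3_3 : Nat := (nat_lit 0x2800140038003a00c300890077008d00a5008b0068007900930093001900e1000d007600e1001a002e00df00c6001200170080)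
noncomputable def m3_4 : Nat := (nat_lit 0x2d89000040580000453d00007cb80000397e00002524000069ce000011740000a893000078f9000036e7000032fe00005e00)
noncomputable def m3_5 : Nat := (nat_lit 0x810036000000006134fb5d000000000870404000000000903102ce00000000f5ba972400000000e9df6ed900000000a0da0000)
noncomputable def m3_6 : Nat := (nat_lit 0x320800404000000000000000003a9bfecdf6bf9e2700000000000000001e61e9ab1fc769fb0000000000000000090168d800000000)
noncomputable def m3_7 : Nat := (nat_lit 0x639510366808d64404e101260900f2d80000000000000000000000000000000014000122090160d80000000000000000)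
noncomputable def m3_8 : Nat := (nat_lit 0x639510046008960404600122090060d800000000000000000000000000000000)
noncomputable def m3_9 : Nat := (nat_lit 0x639510046008960404600122090060d80000000000000000000000000000000000000000000000000000000000000000)
noncomputable def m3_10 : Nat := (nat_lit 0x3208004040000000000000000063d5110460089600000000000000000014000122090160d800000000000000000000000000000000)
noncomputable def m3_11 : Nat := (nat_lit 0x810036000000008a49c780000000000225636a0000000004a2c008000000001400014200000000090168d80000000000000000)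
noncomputable def m3_12 : Nat := (nat_lit 0x8810000cf8b0000d26800001b9000003f27000002580000c16c00002480000038390000a2d7000020c10000a0d800000000)
noncomputable def m3_13 : Nat := (nat_lit 0xc00a900f000a3000a0002003c00a20012006200b800ea00e400a4006e00010041009e00260072006900d900c4001000160000)
noncomputable def m3_14 : Nat := (nat_lit 0x6040209010a0e0f050808090909090803090b0d0c06050b05060e000b0a05020e0209080508050d04070c000508030405000800)
noncomputable def m3_15 : Nat := (nat_lit 0x33301120010130320233200002103120313001301022313111322132023102101000220323120312132032101223000212000000)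
noncomputable def m3_16 : Nat := (nat_lit 0x51445151154510154055451000550441150510501405151504015514040140450554505054111405441411541501011000010040)
noncomputable def n3 : Net := (Net.cons (nat_lit 1) m3_0 (Net.cons (nat_lit 2) m3_1 (Net.cons (nat_lit 4) m3_2 (Net.cons (nat_lit 8) m3_3 (Net.cons (nat_lit 16) m3_4 (Net.cons (nat_lit 32) m3_5 (Net.cons (nat_lit 64) m3_6 (Net.cons (nat_lit 128) m3_7 (Net.cons (nat_lit 256) m3_8 (Net.cons (nat_lit 128) m3_9 (Net.cons (nat_lit 64) m3_10 (Net.cons (nat_lit 32) m3_11 (Net.cons (nat_lit 16) m3_12 (Net.cons (nat_lit 8) m3_13 (Net.cons (nat_lit 4) m3_14 (Net.cons (nat_lit 2) m3_15 (Net.cons (nat_lit 1) m3_16 Net.nil)))))))))))))))))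
noncomputable def m4_0 : Nat := (nat_lit 0x51510410041554041154001111415014500051104011150515414140101000504014014551400551401541140511440500440000)
noncomputable def m4_1 : Nat := (nat_lit 0x11030111230033233102122003013121000101212200300001230131322120330310023221020231333201020113020221302000)
noncomputable def m4_2 : Nat := (nat_lit 0x50e090f010d090f060c00050308010b00080c010a080a0507040a060f0b0402050f01080b0e0a0505060600050d000d09080000)
noncomputable def m4_3 : Nat := (nat_lit 0x1100910010004400be0006006000f9004200380075007200500045005800760066007900c7001d0087007d006e001d00190080)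
noncomputable def m4_4 : Nat := (nat_lit 0x221f00002c790000e7860000a92e0000c555000041af0000ec92000034ad000001350000cb730000907700009fff00001800)
noncomputable def m4_5 : Nat := (nat_lit 0x5ca200000000ade1004300000000c94d5480000000000299d02f000000007b72580f00000000ef7deffc00000000e2f00000)
noncomputable def m4_6 : Nat := (nat_lit 0x10a20109814000000000000000005e39ee4c76b62cbf000000000000000080cfb792dc8df7f00000000000000000000deff000000000)
noncomputable def m4_7 : Nat := (nat_lit 0xff207ce32109814c00c45c82200983400000000000000000000000000000000000801002000de7f00000000000000000)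
noncomputable def m4_8 : Nat := (nat_lit 0xff206c412000000c00c410820009834000000000000000000000000000000000)
noncomputable def m4_9 : Nat := (nat_lit 0xff206c412000000c00c41082000983400000000000000000000000000000000000000000000000000000000000000000)
noncomputable def m4_10 : Nat := (nat_lit 0x10a2010981400000000000000000f7606c4120000000000000000000000000801002000de7f000000000000000000000000000000000)
noncomputable def m4_11 : Nat := (nat_lit 0x5ca200000000f9638400000000008bc9fc0300000000484b1000000000000080104000000000000deff00000000000000000)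
noncomputable def m4_12 : Nat := (nat_lit 0x28090000107b00007dc20000c0cb00009841000008ad00002ed200000199000000210000cf740000896d000082f000000000)
noncomputable def m4_13 : Nat := (nat_lit 0x1d009300560040003800d50080008d004100be001e000300c2004000e500900084003c00a60000008b00700072001000180000)
noncomputable def m4_14 : Nat := (nat_lit 0x907050f0a0a090a06050a0e030b010102090d0c040d0c04080400040800040204000a0902000b0e05070700040c000c09080000)
noncomputable def m4_15 : Nat := (nat_lit 0x23203013002300322121212220101103211231020333110010200031110310103222313001310210033203020113020221302000)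
noncomputable def m4_16 : Nat := (nat_lit 0x4041105114051455051404110151114050110150140415440141455514551051501004004000544101540140511440500440000)
noncomputable def n4 : Net := (Net.cons (nat_lit 1) m4_0 (Net.cons (nat_lit 2) m4_1 (Net.cons (nat_lit 4) m4_2 (Net.cons (nat_lit 8) m4_3 (Net.cons (nat_lit 16) m4_4 (Net.cons (nat_lit 32) m4_5 (Net.cons (nat_lit 64) m4_6 (Net.cons (nat_lit 128) m4_7 (Net.cons (nat_lit 256) m4_8 (Net.cons (nat_lit 128) m4_9 (Net.cons (nat_lit 64) m4_10 (Net.cons (nat_lit 32) m4_11 (Net.cons (nat_lit 16) m4_12 (Net.cons (nat_lit 8) m4_13 (Net.cons (nat_lit 4) m4_14 (Net.cons (nat_lit 2) m4_15 (Net.cons (nat_lit 1) m4_16 Net.nil)))))))))))))))))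
noncomputable def m5_0 : Nat := (nat_lit 0x55540101500111401041404444450044050010555505500410010440554044455054515041044111454414554015010445040101)
noncomputable def m5_1 : Nat := (nat_lit 0x22310210220321213030133120022210013101301130311013112333021021011323030120122303122230132310030000021000)
noncomputable def m5_2 : Nat := (nat_lit 0x9090301080c060d070f0d0a090d0c020e02050a090b0f070f020b0806030a000005000a070b050a0a02020f01080b010a080300)
noncomputable def m5_3 : Nat := (nat_lit 0x12004a00bc002d0083007a009c009c0001008300ee002800af00a100e900cb00e50041004700ad006e00e6006f002500850020)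
noncomputable def m5_4 : Nat := (nat_lit 0x5da100007a350000a60d00005b370000cef70000c02200004e0b00001f0400007183000080a7000000a00000337f00008400)
noncomputable def m5_5 : Nat := (nat_lit 0x41008008000000007c0440a300000000df0b85d3000000000a30001d000000007d779f5b00000000efab79c60000000050460000)
noncomputable def m5_6 : Nat := (nat_lit 0x80080c80000400000000000000007df35ca3e3328fab00000000000000008efcf7ffff9b629c00000000000000008e80600600000000)
noncomputable def m5_7 : Nat := (nat_lit 0x718380080c819b67c30483180ec0620600000000000000000000000000000000005486380e8060040000000000000000)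
noncomputable def m5_8 : Nat := (nat_lit 0x7183000000019b63820483180ec0600400000000000000000000000000000000)
noncomputable def m5_9 : Nat := (nat_lit 0x7183000000019b63820483180ec060040000000000000000000000000000000000000000000000000000000000000000)
noncomputable def m5_10 : Nat := (nat_lit 0x80080c80000400000000000000006186000002019b630000000000000000005486380e80600400000000000000000000000000000000)
noncomputable def m5_11 : Nat := (nat_lit 0x4100800800000000fc054823000000009b800015000000005e33115b000000000854063c000000008e8060060000000000000000)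
noncomputable def m5_12 : Nat := (nat_lit 0x4d80000028610000920f00008fe1000018f50000144400009c8900004902000000a0000020a1000006860000104600000000)
noncomputable def m5_13 : Nat := (nat_lit 0x10004200cc0031008300fe004c004c00010002006a0068000a0020004c008e004000a400630009004800c20048000400840000)
noncomputable def m5_14 : Nat := (nat_lit 0x1030104040209070f08060d010c060a06050a0d0b0b070f020f0606030a000001040a040b010808020c04010a010100080200)
noncomputable def m5_15 : Nat := (nat_lit 0x22310210220321213030133120022210013121301130311013012311021021211321030300122301022230132310030000021000)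
noncomputable def m5_16 : Nat := (nat_lit 0x4540101500111401041404444450044050010555505500410010440554044455054515041044151414400454011010445040100)
noncomputable def n5 : Net := (Net.cons (nat_lit 1) m5_0 (Net.cons (nat_lit 2) m5_1 (Net.cons (nat_lit 4) m5_2 (Net.cons (nat_lit 8) m5_3 (Net.cons (nat_lit 16) m5_4 (Net.cons (nat_lit 32) m5_5 (Net.cons (nat_lit 64) m5_6 (Net.cons (nat_lit 128) m5_7 (Net.cons (nat_lit 256) m5_8 (Net.cons (nat_lit 128) m5_9 (Net.cons (nat_lit 64) m5_10 (Net.cons (nat_lit 32) m5_11 (Net.cons (nat_lit 16) m5_12 (Net.cons (nat_lit 8) m5_13 (Net.cons (nat_lit 4) m5_14 (Net.cons (nat_lit 2) m5_15 (Net.cons (nat_lit 1) m5_16 Net.nil)))))))))))))))))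
noncomputable def nets : List Net := [n0, n1, n2, n3, n4, n5]

noncomputable def r0_0 : Nat := (nat_lit 0xa722989213e15b51246b414d5ce6523614b01970619b1e498600a73d46cacf6129e96ae8175242070503befd1f1002e26f155ad2)
noncomputable def r0_1 : Nat := (nat_lit 0xb5fe3eea6d63005e3a7be0b3262a308437c1e083801020d840965c0040c2c1c130006cf1858279e1696c828964731b89aaa12000)
noncomputable def r0_2 : Nat := (nat_lit 0x803c005014803a000100040004a30206800013400001ac9cc26a00088c06df41200643ce00020388000c04904609b8a0fb9b880)
noncomputable def r0_3 : Nat := (nat_lit 0x81da00c1e0209a8022191c2626070e40cd18042861022d38090443030028e31218c02ce779907997c9032368008640010000000)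
noncomputable def r0_4 : Nat := (nat_lit 0xd23c68071e3b0298026bd0c3667000c464508186801020004496a000c00000041200000000000000000000000000000000000000)
noncomputable def r0_5 : Nat := (nat_lit 0x0)
noncomputable def r0 : List Nat := (List.cons r0_0 (List.cons r0_1 (List.cons r0_2 (List.cons r0_3 (List.cons r0_4 (List.cons r0_5 List.nil))))))
noncomputable def r1_0 : Nat := (nat_lit 0xeca975a4b95b45282728390c590e9126083c09104089124846e301040242280500252844200809528d4a8e9a1938c17a46850880)
noncomputable def r1_1 : Nat := (nat_lit 0xa9a476ac15b54d9a300871a2182310014050210202080000000810100008100080084c810019f8b54ff8e37ee3169110200190)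
noncomputable def r1_2 : Nat := (nat_lit 0x9a1a40545150888049510100801520014010000280000044300000000080400000848000018d0014b98005ae0005200082000)
noncomputable def r1_3 : Nat := (nat_lit 0x1b324144112904923202958fb1c227208483020602a1c0844c004000000080000010848004058d08443988218a1021000000000)
noncomputable def r1_4 : Nat := (nat_lit 0x11aa1a4ec5775488a24ad49791ca3620044102060281c0804410000000000040000002000020400002000000000000000000000)
noncomputable def r1_5 : Nat := (nat_lit 0x0)
noncomputable def r1 : List Nat := (List.cons r1_0 (List.cons r1_1 (List.cons r1_2 (List.cons r1_3 (List.cons r1_4 (List.cons r1_5 List.nil))))))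
noncomputable def r2_0 : Nat := (nat_lit 0xdf0465c4ca1228e8318f856acfdd689c0d4fd0b3674aba8d20d47a4170905940c80e5b23281ed4890b402f9a03b2d57b31a0a402)
noncomputable def r2_1 : Nat := (nat_lit 0xf6801c0cc8b2821401bd67aa940858804406024e063018166035100a00423220c0041108480c80100a408d145bc4a10401000000)
noncomputable def r2_2 : Nat := (nat_lit 0xc0454094a940284c00304001095901072000080460a9f6065c58201054d202e185580096068105f004b024158000070204a0000)
noncomputable def r2_3 : Nat := (nat_lit 0xf384804d82120780c1932fea481850d8f64f82862000025200e0f030400202681380000a60000019000002410000810000000000)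
noncomputable def r2_4 : Nat := (nat_lit 0xed84d449ca22a784c18f2feacf6040c8f64e82822970601060c5904a003000000002000000000000000000000000000000000000)
noncomputable def r2_5 : Nat := (nat_lit 0x100000008400040000000000004000010000000000000000000000000000000000000000000000000000000000000000000)
noncomputable def r2 : List Nat := (List.cons r2_0 (List.cons r2_1 (List.cons r2_2 (List.cons r2_3 (List.cons r2_4 (List.cons r2_5 List.nil))))))
noncomputable def r3_0 : Nat := (nat_lit 0x94444dc2954a58fa24ccd053b8a6ea8254124317065d8114095a302c9049ac4149c92940f25454415a9804d0633c060068010a)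
noncomputable def r3_1 : Nat := (nat_lit 0xaf2081c32102d0b24777b80068c688f587c3acd83c6c1e78cea441c00c82421e000002080000000012000092c216511800000c)
noncomputable def r3_2 : Nat := (nat_lit 0xa60880125c800688490108000802b800031281000050c10050008080000c600000002400000050012110092e2165518703120)
noncomputable def r3_3 : Nat := (nat_lit 0x94244943808e545ac169b893e407ab5191f241c23c610068ca4c19901c80485c8183025ae08205420001450001280000000000)
noncomputable def r3_4 : Nat := (nat_lit 0xb564c023a564446a00988813e403028010b1005008240010070408000000060000000000000000000000000000000000000000)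
noncomputable def r3_5 : Nat := (nat_lit 0x100000210000000000004000000000000000000000000000000000000000000000000000000000000000000000000000000)
noncomputable def r3 : List Nat := (List.cons r3_0 (List.cons r3_1 (List.cons r3_2 (List.cons r3_3 (List.cons r3_4 (List.cons r3_5 List.nil))))))
noncomputable def r4_0 : Nat := (nat_lit 0xd331912014e3e0c283b11fdb96d07887925d9462041d42bc77015021e5b350353f5a010dde00f97407eac820566000c22100071a)
noncomputable def r4_1 : Nat := (nat_lit 0xf644a3010741e288c3d21ecbea127c7be41e9784595050bf90cea2ca0011dfc2200003f21700ee00b7b40020a0000000210ac01c)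
noncomputable def r4_2 : Nat := (nat_lit 0x4e049a082ee1e802001440407de57cfc80000000002fa51dff350000000e019fc00000408000ec0007b40020a4000080210ac760)
noncomputable def r4_3 : Nat := (nat_lit 0xb15000281443ad8803901eda6b127fff045c97045971521deffa22cbc5b28199fe5bde009ff70000f00000000000000000000000)
noncomputable def r4_4 : Nat := (nat_lit 0xff7b9a26381f458a0304425180128302844000000000120010c50000000000060000000000000000000000000000000000000000)
noncomputable def r4_5 : Nat := (nat_lit 0x2000810010000000000000000000000000000000000000000000000000000000000000000000000000000000000000000000)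
noncomputable def r4 : List Nat := (List.cons r4_0 (List.cons r4_1 (List.cons r4_2 (List.cons r4_3 (List.cons r4_4 (List.cons r4_5 List.nil))))))
noncomputable def r5_0 : Nat := (nat_lit 0x2dcbca636821b31489c096a02402cb16c48a8d0c2834281009092440c01280421200008201800080f800201084039f0018b2c2c4)
noncomputable def r5_1 : Nat := (nat_lit 0x1e9f5643d76d4611a1cef62584604315648646808024081238528400000202000000000001000080b80030dd84082288290281f8)
noncomputable def r5_2 : Nat := (nat_lit 0xf3f409f09a01c0a05e8010238108019008002b000000000031230004800000033000000004800080d40030eb840bdd8877b17b20)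
noncomputable def r5_3 : Nat := (nat_lit 0xffffdffaff6df9b5df0cee37ad6a8aae0c9e2c08b0242a040870040400028001200000c0178001006c1000770000e7003b014320)
noncomputable def r5_4 : Nat := (nat_lit 0xffffdffaff6df9b5df8cfe37ad6a8bbe0c9e2f08b0242a0431530404800000021000000000000000000000000000000000000000)
noncomputable def r5_5 : Nat := (nat_lit 0x2000000000000000000040000000000000000000000000000000000000000000000000000000000000000000)
noncomputable def r5 : List Nat := (List.cons r5_0 (List.cons r5_1 (List.cons r5_2 (List.cons r5_3 (List.cons r5_4 (List.cons r5_5 List.nil))))))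
noncomputable def R : List (List Nat) := (List.cons r0 (List.cons r1 (List.cons r2 (List.cons r3 (List.cons r4 (List.cons r5 List.nil))))))
noncomputable def d5 : Nat := (nat_lit 0x200400920048002101485294204012411062450a1489448452292488492409494a2940525454014a88005260004200080002)
noncomputable def d4 : Nat := (nat_lit 0x8044c0400000243008a0200008000009004011020008000000081010000000008000002000008a080124db0912542910a02000)
noncomputable def d3 : Nat := (nat_lit 0xed0090121c4801010410000408021014002008002081024002200104024220110024204481080920b42442202408818046050880)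
noncomputable def d2 : Nat := (nat_lit 0x7b0220210150020a001011200002220090210080000000880204000800848020000490168122004090100080010a0088105250)
noncomputable def d1 : Nat := (nat_lit 0x1204080902200a904042428204604c88e402868c181460361018a0c0c0311248d602110208048001020000040004200421408424)
noncomputable def d0 : Nat := (nat_lit 0x1008004a40081840c0081018101000c00000060810021410002010400020010800000200000000001000080001000020108)
noncomputable def D : Net := (Net.cons (nat_lit 0) d0 (Net.cons (nat_lit 1) d1 (Net.cons (nat_lit 2) d2 (Net.cons (nat_lit 3) d3 (Net.cons (nat_lit 4) d4 (Net.cons (nat_lit 5) d5 Net.nil))))))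
noncomputable def Tp0 : Nat := (nat_lit 0x24000041c00107001420008800022000242000894001070025f000898002250025f0008c000231001a10004980022b000200004880022a001210008840022800022000404002240000000089800232002df0008bc00108002c2000888001680016300037000222001820003f400221002210005b80012f000a10004a40022c0004200049c0022d001000000cc0002d0011f000804000330011f000838000640011f0008340021a000ff00082c00219000c200018000210000c200081000204000ff0008580007e000200001f800219001030008180020b000e500083c002180000000080800208000250008180020c000e0000298000a6000230002040021b000e200086c0021f000c20008480020a000e500082800214000c200012400209000230001f80021a000c2000870000a6000040000000000000002000000000000000000000000000)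
noncomputable def Tp1 : Nat := (nat_lit 0x25f00041c0022500063000880002250025f0008c8001070006500089400230000220004980022e000200008ac00233002420008a00022a001800003fc002210006500089800231002c300053000108002df00053000227002df0008a400168001630002840021e000c100089c0022f002200004d80022c002220004d80016d001c30004d80022d0011f0000b4002030011f00081c000490011f00085000218000ff0001f800215000c20001f800219000df00084000211000c30008100020a000a10008580021d0010300083400215000e10008600020e000e200085c0020f0002500083400217000600000cc00203000ff0002980021d0002300018800213000e20008500021a0002100082400212000c200019000213000230002980021f000c00002980021d000c50008700021d00003000000000000000100000000000)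
noncomputable def T : Tr := (Tr.node (Tr.leaf Tp0) (Tr.leaf Tp1))
noncomputable def DTp0 : Nat := (nat_lit 0x50000000022a000020000000022500002000000001510000000000000151000030000000014c000050000000012500001000000001250000200000000123000050000000012200003000000002230000200000000222000030000000010d00003000000001080000200000000107000000000000010700005000000000ff00000000000000d4000010000000021e00003000000000ca00000000000000be000010000000021a000000000000009c00002000000000810000000000000081000010000000021300005000000002120000500000000210000020000000020d000000000000020c000020000000020b000000000000020b0000100000000064000050000000020900003000000000600000200000000060000000000000006000001000000002080000500000000207000000000000020600001000000002050000100000000051000010000000004c000030000000004800005000000002010000100000000201000010000000003c000050000000020000001000000000350000300000000030000050000000002d000000000000002d0000100000000024)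
noncomputable def DT : Tr := (Tr.leaf DTp0)
noncomputable def s0 (t : Scr) : Scr := (Scr.cons (nat_lit 40) (nat_lit 3) (Step.U (nat_lit 28) (Step.L (Step.L (Step.L (Step.L (Step.L (Step.L (Step.L (Step.L (Step.L (Step.L (Step.L (Step.L (Step.L (Step.L (Step.L (Step.L (Step.L (Step.D (nat_lit 29) Step.done))))))))))))))))))) (Scr.cons (nat_lit 18) (nat_lit 1) (Step.B (nat_lit 5) (Step.U (nat_lit 29) (Step.L Step.done))) (Scr.cons (nat_lit 7) (nat_lit 1) (Step.F (nat_lit 6) (Step.U (nat_lit 28) (Step.D (nat_lit 29) Step.done))) (Scr.cons (nat_lit 19) (nat_lit 1) (Step.L (Step.D (nat_lit 18) (Step.D (nat_lit 26) Step.done))) (Scr.cons (nat_lit 10) (nat_lit 0) (Step.L (Step.B (nat_lit 8) (Step.D (nat_lit 31) Step.done))) (Scr.cons (nat_lit 39) (nat_lit 2) (Step.L (Step.L (Step.L (Step.L (Step.L (Step.L (Step.L (Step.D (nat_lit 9) Step.done)))))))) (Scr.cons (nat_lit 18) (nat_lit 1) (Step.L (Step.B (nat_lit 10) (Step.D (nat_lit 19) Step.done))) (Scr.cons (nat_lit 17) (nat_lit 0) (Step.U (nat_lit 10) (Step.L (Step.L (Step.L (Step.D (nat_lit 20) Step.done))))) (Scr.cons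 (nat_lit 10) (nat_lit 1) (Step.U (nat_lit 9) (Step.L (Step.D (nat_lit 18) Step.done))) (Scr.cons (nat_lit 8) (nat_lit 0) (Step.F (nat_lit 13) (Step.F (nat_lit 10) (Step.L (Step.L (Step.D (nat_lit 10) Step.done))))) (Scr.cons (nat_lit 18) (nat_lit 1) (Step.F (nat_lit 12) (Step.F (nat_lit 14) (Step.D (nat_lit 26) Step.done))) (Scr.cons (nat_lit 8) (nat_lit 0) (Step.U (nat_lit 27) (Step.F (nat_lit 11) (Step.D (nat_lit 20) (Step.B (nat_lit 15) (Step.D (nat_lit 31) Step.done))))) (Scr.cons (nat_lit 19) (nat_lit 1) (Step.L (Step.D (nat_lit 9) (Step.D (nat_lit 19) Step.done))) (Scr.cons (nat_lit 10) (nat_lit 0) (Step.L (Step.B (nat_lit 17) (Step.D (nat_lit 27) Step.done))) (Scr.cons (nat_lit 39) (nat_lit 5) (Step.B (nat_lit 9) (Step.F (nat_lit 16) (Step.F (nat_lit 18) (Step.D (nat_lit 29) (Step.F (nat_lit 7) (Step.B (nat_lit 9) (Step.F (nat_lit 16) (Step.F (nat_lit 18) (Step.D (nat_lit 29) Step.done))))))))) (Scr.cons (nat_lit 0) (nat_lit 0) (Step.B (nat_lit 7) (Step.F (nat_lit 19) Step.done)) (Scr.cons (nat_lit 9) (nat_lit 1) (Step.L (Step.L (Step.D (nat_lit 3) Step.done)))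 (Scr.cons (nat_lit 17) (nat_lit 0) (Step.U (nat_lit 6) (Step.L (Step.D (nat_lit 0) (Step.D (nat_lit 5) (Step.D (nat_lit 12) Step.done))))) (Scr.cons (nat_lit 16) (nat_lit 0) (Step.U (nat_lit 13) (Step.B (nat_lit 22) (Step.D (nat_lit 23) Step.done))) (Scr.cons (nat_lit 16) (nat_lit 1) (Step.U (nat_lit 2) (Step.D (nat_lit 1) (Step.D (nat_lit 8) Step.done))) (Scr.cons (nat_lit 40) (nat_lit 2) (Step.F (nat_lit 23) (Step.U (nat_lit 13) (Step.U (nat_lit 6) (Step.L (Step.L (Step.L (Step.L (Step.L (Step.L (Step.L (Step.L (Step.L (Step.L (Step.L (Step.L (Step.L (Step.D (nat_lit 2) (Step.B (nat_lit 24) (Step.D (nat_lit 15) Step.done))))))))))))))))))) (Scr.cons (nat_lit 18) (nat_lit 0) (Step.F (nat_lit 25) (Step.F (nat_lit 23) (Step.D (nat_lit 24) Step.done))) (Scr.cons (nat_lit 17) (nat_lit 1) (Step.F (nat_lit 26) (Step.U (nat_lit 15) (Step.U (nat_lit 8) (Step.D (nat_lit 7) (Step.D (nat_lit 14) Step.done))))) (Scr.cons (nat_lit 10) (nat_lit 0) (Step.U (nat_lit 6) (Step.L (Step.D (nat_lit 11) Step.done))) (Scr.cons (nat_lit 9) (nat_lit 0) (Step.U (nat_lit 13) (Step.B (nat_lit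 28) (Step.D (nat_lit 21) Step.done))) (Scr.cons (nat_lit 16) (nat_lit 1) (Step.L (Step.D (nat_lit 16) (Step.D (nat_lit 25) Step.done))) (Scr.cons (nat_lit 8) (nat_lit 1) (Step.U (nat_lit 22) (Step.U (nat_lit 11) (Step.L (Step.L (Step.D (nat_lit 29) Step.done))))) (Scr.cons (nat_lit 1) (nat_lit 0) (Step.B (nat_lit 31) (Step.F (nat_lit 19) (Step.L Step.done))) (Scr.cons (nat_lit 10) (nat_lit 0) (Step.U (nat_lit 4) (Step.L (Step.D (nat_lit 10) Step.done))) (Scr.cons (nat_lit 8) (nat_lit 0) (Step.U (nat_lit 4) (Step.L (Step.L (Step.L (Step.D (nat_lit 4) Step.done))))) (Scr.cons (nat_lit 39) (nat_lit 0) (Step.U (nat_lit 16) (Step.D (nat_lit 18) (Step.B (nat_lit 14) (Step.F (nat_lit 33) (Step.F (nat_lit 34) (Step.B (nat_lit 33) (Step.F (nat_lit 14) (Step.U (nat_lit 18) (Step.D (nat_lit 17) Step.done))))))))) (Scr.cons (nat_lit 2) (nat_lit 0) (Step.D (nat_lit 17) (Step.F (nat_lit 35) Step.done)) (Scr.cons (nat_lit 18) (nat_lit 1) (Step.L (Step.B (nat_lit 36) (Step.D (nat_lit 25) Step.done))) (Scr.cons (nat_lit 2) (nat_lit 0) (Step.D (nat_lit 22) (Step.B (nat_lit 32) (Step.B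 (nat_lit 37) Step.done))) (Scr.cons (nat_lit 0) (nat_lit 0) (Step.B (nat_lit 30) (Step.F (nat_lit 38) (Step.D (nat_lit 21) Step.done))) (Scr.cons (nat_lit 3) (nat_lit 0) (Step.B (nat_lit 29) (Step.F (nat_lit 39) (Step.B (nat_lit 8) Step.done))) (Scr.cons (nat_lit 2) (nat_lit 0) (Step.B (nat_lit 15) (Step.F (nat_lit 40) (Step.D (nat_lit 24) Step.done))) (Scr.cons (nat_lit 1) (nat_lit 0) (Step.F (nat_lit 27) (Step.F (nat_lit 41) (Step.U (nat_lit 20) Step.done))) (Scr.cons (nat_lit 5) (nat_lit 0) (Step.D (nat_lit 14) (Step.B (nat_lit 42) (Step.L Step.done))) (Scr.cons (nat_lit 1) (nat_lit 0) (Step.D (nat_lit 7) (Step.B (nat_lit 43) (Step.L Step.done))) t))))))))))))))))))))))))))))))))))))))))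
noncomputable def s1 (t : Scr) : Scr := (Scr.cons (nat_lit 0) (nat_lit 0) (Step.D (nat_lit 1) (Step.B (nat_lit 44) (Step.B (nat_lit 21) Step.done))) (Scr.cons (nat_lit 0) (nat_lit 0) (Step.B (nat_lit 21) (Step.F (nat_lit 45) Step.done)) (Scr.cons (nat_lit 10) (nat_lit 0) (Step.L (Step.L (Step.D (nat_lit 45) Step.done))) (Scr.cons (nat_lit 8) (nat_lit 0) (Step.L (Step.L (Step.L (Step.L (Step.D (nat_lit 45) Step.done))))) (Scr.cons (nat_lit 21) (nat_lit 0) (Step.B (nat_lit 47) (Step.F (nat_lit 48) (Step.L (Step.L (Step.L (Step.L (Step.L (Step.L Step.done)))))))) (Scr.cons (nat_lit 8) (nat_lit 1) (Step.L (Step.L (Step.L (Step.L (Step.D (nat_lit 44) Step.done))))) (Scr.cons (nat_lit 39) (nat_lit 0) (Step.B (nat_lit 47) (Step.F (nat_lit 48) (Step.L (Step.L (Step.L (Step.L (Step.L (Step.D (nat_lit 44) Step.done)))))))) (Scr.cons (nat_lit 6) (nat_lit 0) (Step.L (Step.B (nat_lit 50) (Step.F (nat_lit 51) (Step.L (Step.L (Step.L (Step.L (Step.L (Step.L Step.done))))))))) (Scr.cons (nat_lit 10) (nat_lit 1) (Step.U (nat_lit 39) (Step.L (Step.D (nat_lit 47) Step.done))) (Scr.cons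 (nat_lit 39) (nat_lit 2) (Step.L (Step.L (Step.L (Step.L (Step.L (Step.L (Step.L (Step.D (nat_lit 33) Step.done)))))))) (Scr.cons (nat_lit 9) (nat_lit 0) (Step.L (Step.L (Step.D (nat_lit 30) Step.done))) (Scr.cons (nat_lit 10) (nat_lit 0) (Step.L (Step.B (nat_lit 55) (Step.D (nat_lit 34) Step.done))) (Scr.cons (nat_lit 39) (nat_lit 6) (Step.U (nat_lit 41) (Step.F (nat_lit 56) (Step.L (Step.L (Step.L (Step.L (Step.L (Step.L (Step.L Step.done))))))))) (Scr.cons (nat_lit 2) (nat_lit 0) (Step.D (nat_lit 41) (Step.B (nat_lit 57) Step.done)) (Scr.cons (nat_lit 23) (nat_lit 14) (Step.L (Step.L (Step.L (Step.B (nat_lit 54) (Step.U (nat_lit 33) (Step.L (Step.L (Step.L (Step.L (Step.L (Step.L (Step.L (Step.L (Step.L (Step.L (Step.L (Step.L (Step.L (Step.L (Step.L (Step.L (Step.L (Step.L (Step.L (Step.L (Step.L (Step.L (Step.L (Step.L (Step.L (Step.L (Step.L (Step.L (Step.L (Step.L (Step.L (Step.L (Step.L (Step.L (Step.L (Step.L (Step.L (Step.L (Step.L (Step.L (Step.L (Step.L (Step.L (Step.L (Step.L (Step.L (Step.L (Step.L (Step.L (Step.B (nat_lit 56) (Step.B (nat_lit 58)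 (Step.L (Step.L (Step.L (Step.L (Step.L (Step.L (Step.L (Step.L (Step.L (Step.L (Step.L (Step.L (Step.L (Step.L (Step.L (Step.L (Step.L (Step.L (Step.L (Step.L (Step.L (Step.D (nat_lit 39) Step.done)))))))))))))))))))))))))))))))))))))))))))))))))))))))))))))))))))))))))))))) (Scr.cons (nat_lit 1) (nat_lit 0) (Step.F (nat_lit 53) (Step.F (nat_lit 59) (Step.L Step.done))) (Scr.cons (nat_lit 3) (nat_lit 0) (Step.D (nat_lit 47) (Step.B (nat_lit 60) Step.done)) (Scr.cons (nat_lit 7) (nat_lit 1) (Step.U (nat_lit 38) (Step.D (nat_lit 37) (Step.D (nat_lit 50) Step.done))) (Scr.cons (nat_lit 18) (nat_lit 0) (Step.U (nat_lit 38) (Step.L (Step.D (nat_lit 49) Step.done))) (Scr.cons (nat_lit 18) (nat_lit 1) (Step.L (Step.L (Step.D (nat_lit 36) Step.done))) (Scr.cons (nat_lit 9) (nat_lit 1) (Step.L (Step.L (Step.D (nat_lit 33) Step.done))) (Scr.cons (nat_lit 10) (nat_lit 1) (Step.U (nat_lit 33) (Step.L (Step.D (nat_lit 40) Step.done))) (Scr.cons (nat_lit 39) (nat_lit 2) (Step.U (nat_lit 40) (Step.L (Step.L (Step.L (Step.L (Step.L (Step.D (nat_lit 35) (Step.D (nat_lit 42) Step.done))))))))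 (Scr.cons (nat_lit 9) (nat_lit 1) (Step.L (Step.D (nat_lit 35) (Step.D (nat_lit 42) Step.done))) (Scr.cons (nat_lit 16) (nat_lit 1) (Step.U (nat_lit 43) (Step.B (nat_lit 68) (Step.D (nat_lit 51) Step.done))) (Scr.cons (nat_lit 17) (nat_lit 1) (Step.L (Step.L (Step.L (Step.L (Step.D (nat_lit 43) Step.done))))) (Scr.cons (nat_lit 18) (nat_lit 1) (Step.L (Step.L (Step.D (nat_lit 46) Step.done))) (Scr.cons (nat_lit 40) (nat_lit 0) (Step.U (nat_lit 48) (Step.L (Step.B (nat_lit 64) (Step.U (nat_lit 36) (Step.B (nat_lit 65) (Step.B (nat_lit 66) (Step.B (nat_lit 67) (Step.D (nat_lit 51) (Step.F (nat_lit 69) (Step.F (nat_lit 70) (Step.B (nat_lit 71) (Step.U (nat_lit 46) (Step.L (Step.L (Step.L (Step.L (Step.L (Step.L (Step.D (nat_lit 38) (Step.B (nat_lit 63) Step.done)))))))))))))))))))) (Scr.cons (nat_lit 16) (nat_lit 0) (Step.U (nat_lit 37) (Step.L (Step.D (nat_lit 48) Step.done))) (Scr.cons (nat_lit 5) (nat_lit 0) (Step.B (nat_lit 63) (Step.F (nat_lit 72) (Step.F (nat_lit 73) Step.done))) (Scr.cons (nat_lit 0) (nat_lit 0) (Step.F (nat_lit 62) (Step.B (nat_lit 74) (Step.U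 (nat_lit 37) Step.done))) (Scr.cons (nat_lit 2) (nat_lit 0) (Step.D (nat_lit 50) (Step.B (nat_lit 75) Step.done)) (Scr.cons (nat_lit 9) (nat_lit 0) (Step.U (nat_lit 32) (Step.L (Step.D (nat_lit 37) Step.done))) (Scr.cons (nat_lit 7) (nat_lit 0) (Step.U (nat_lit 32) (Step.L (Step.D (nat_lit 32) Step.done))) (Scr.cons (nat_lit 39) (nat_lit 2) (Step.F (nat_lit 76) (Step.F (nat_lit 77) (Step.F (nat_lit 78) (Step.B (nat_lit 77) (Step.B (nat_lit 76) (Step.L (Step.L (Step.D (nat_lit 32) (Step.B (nat_lit 77) Step.done))))))))) (Scr.cons (nat_lit 0) (nat_lit 0) (Step.D (nat_lit 37) (Step.F (nat_lit 79) Step.done)) t))))))))))))))))))))))))))))))))))))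
noncomputable def scr : Scr := (s0 (s1 Scr.nil))
noncomputable def E : Ex := (Ex.cons (nat_lit 0) (nat_lit 0) (nat_lit 0) (Ex.cons (nat_lit 1) (nat_lit 0) (nat_lit 1) (Ex.cons (nat_lit 2) (nat_lit 0) (nat_lit 2) (Ex.cons (nat_lit 3) (nat_lit 0) (nat_lit 3) (Ex.cons (nat_lit 4) (nat_lit 0) (nat_lit 4) (Ex.cons (nat_lit 0) (nat_lit 166) (nat_lit 20) (Ex.cons (nat_lit 0) (nat_lit 45) (nat_lit 46) (Ex.cons (nat_lit 2) (nat_lit 365) (nat_lit 49) (Ex.cons (nat_lit 1) (nat_lit 303) (nat_lit 52) (Ex.cons (nat_lit 3) (nat_lit 264) (nat_lit 61) (Ex.cons (nat_lit 0) (nat_lit 263) (nat_lit 80) Ex.nil)))))))))))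
noncomputable def nd : Nat := (nat_lit 52)
noncomputable def g : Nat := (nat_lit 5)

/-- letters of the group -/
def sub : List ℕ := [0, 1, 2, 3, 4, 5]
/-- letters of the subgroup -/
def sub' : List ℕ := [0, 1, 2, 3, 4]

/-- relators in the local letters -/
def lrels : List Wd := [(Wd.pow (Wd.mul (Wd.g 0) (Wd.g 1)) 5),
  (Wd.pow (Wd.mul (Wd.g 0) (Wd.g 2)) 2),
  (Wd.pow (Wd.mul (Wd.g 1) (Wd.g 2)) 3),
  (Wd.pow (Wd.mul (Wd.g 0) (Wd.g 3)) 2),
  (Wd.pow (Wd.mul (Wd.g 1) (Wd.g 3)) 2),
  (Wd.pow (Wd.mul (Wd.g 2) (Wd.g 3)) 8),
  (Wd.pow (Wd.mul (Wd.g 0) (Wd.g 4)) 2),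
  (Wd.pow (Wd.mul (Wd.g 1) (Wd.g 4)) 2),
  (Wd.pow (Wd.mul (Wd.g 2) (Wd.g 4)) 2),
  (Wd.pow (Wd.mul (Wd.g 3) (Wd.g 4)) 3),
  (Wd.pow (Wd.mul (Wd.g 0) (Wd.g 5)) 2),
  (Wd.pow (Wd.mul (Wd.g 1) (Wd.g 5)) 3),
  (Wd.pow (Wd.mul (Wd.g 2) (Wd.g 5)) 2),
  (Wd.pow (Wd.mul (Wd.g 3) (Wd.g 5)) 2),
  (Wd.pow (Wd.mul (Wd.g 4) (Wd.g 5)) 2),
  (Wd.mul (Wd.g 0) (Wd.inv (Wd.pow (Wd.mul (Wd.g 2) (Wd.g 3)) 4))),
  (Wd.pow (Wd.mul (Wd.mul (Wd.mul (Wd.g 0) (Wd.g 1)) (Wd.g 2)) (Wd.g 5)) 5),
  (Wd.pow (Wd.mul (Wd.pow (Wd.mul (Wd.mul (Wd.mul (Wd.mul (Wd.g 1) (Wd.g 2)) (Wd.g 3)) (Wd.g 2)) (Wd.g 3)) 5) (Wd.g 4)) 3)]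

/-- periods -/
def pers : List ℕ := [2, 2, 2, 2, 2, 2, 2, 2, 2, 2, 2, 2, 2, 2, 2, 9, 4, 26]

theorem c_relok : relOK rels lrels sub = true := by decide
theorem c_nets : netsCheck (2 ^ 9) nets = true := by decide +kernel
theorem c_iv : ivK nets 9 ivI 6 = true := by decide +kernel
theorem c_full : fullInvK nets 416 6 = true := by decide +kernel
theorem c_len : lenK R 6 6 = true := by decide +kernel
theorem c_sym : symK nets ivI R 6 = true := by decide +kernel
theorem c_disj : disjK D 1 = true := by decide +kernel
theorem c_tree : treeK nets 9 D = true := by decide +kernel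
theorem c_treelet : netLetK 6 D = true := by decide +kernel
theorem c_dtab : dtabK (2 ^ 9) nd DT = true := by decide +kernel
theorem c_given : ∀ j, j < 5 → eSrc (T.get j) = 0 ∧ eDst (T.get j) = 0 ∧ eLet (T.get j) < sub.length ∧
  nthK 0 sub (eLet (T.get j)) ∈ sub' := by decide +kernel
theorem c_facts : factsK nets ivI R 6 416 (2 ^ 9) nd T DT ((lpats 6 lrels).map (fun W => (W.flat ivI).reverse)) 5 scr = true := by decide +kernel
theorem c_ex : exK nets R 6 T (5 + scr.len) E = true := by decide +kernel
theorem c_simdlet : simdLetK ivI 6 (lrels.zip pers) = true := by decide +kernel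
theorem c_cover : force (2 ^ 9) (fun N => relsMDK nets ivI R N 3 6 ((lrels.zip pers).map (splitW ivI)) (exM E D) (fun ms => coverK nets ivI 416 ms 6)) = true := by decide +kernel
theorem c_rels : relsD nets 9 4 ivI lrels = true := by decide +kernel

/-- the step of the chain -/
theorem step {G : Type*} [Group G] {x : ℕ → G} (hrels : ∀ W ∈ rels, W.eval x = 1) (hinv : ∀ c ∈ sub, x c * x c = 1)
    (hfin : Finite (LG x [0, 1, 2, 3, 4])) : Finite (LG x [0, 1, 2, 3, 4, 5]) ∧ Nat.card (LG x [0, 1, 2, 3, 4, 5]) ≤ 416 * Nat.card (LG x [0, 1, 2, 3, 4]) :=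
  CosetChain.step hrels sub sub' pers c_relok hinv (by decide) (j := 3) (jk := 4) (P := 6) (D := D) (R := R)
    (scr := scr) (E := E) (T := T) (DT := DT) (nd := nd) (g := 5) (k := 9) (n := 416) rfl
    c_nets (by norm_num) (by norm_num) (by norm_num) c_iv c_full c_len c_sym c_disj c_tree c_treelet c_dtab c_given
    (by decide) c_facts c_ex c_rels c_simdlet c_cover hfin

end Cfsg.Agent.Lib.SuzL1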