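import Cfsg.Agent.Lib.SuzRel
import Cfsg.Agent.Lib.CosetChain

set_option autoImplicit false
set_option linter.all false
set_option maxRecDepth 100000

namespace Cfsg.Agent.Lib.SuzL2
open Cfsg.Spor Cfsg.Agent.Lib.BenesPerm Cfsg.Agent.Lib.BenesAct Cfsg.Agent.Lib.BenesWord
open Cfsg.Agent.Lib.BenesPlane Cfsg.Agent.Lib.CosetClosure Cfsg.Agent.Lib.CosetFacts
open Cfsg.Agent.Lib.CosetMain Cfsg.Agent.Lib.CoxBridge Cfsg.Agent.Lib.CosetGroup Cfsg.Agent.Lib.CosetInst Cfsg.Agent.Lib.CosetInj
open Cfsg.Agent.Lib.BenesPack Cfsg.Agent.Lib.CosetPack Cfsg.Agent.Lib.CosetChain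
open Cfsg.Agent.Lib.SuzRel (rels)

noncomputable def m0_0 : Nat := (nat_lit 0x500104011040441004010545454414450541554000004140010001401005014004400)
noncomputable def m0_1 : Nat := (nat_lit 0x233123003110120310121202110001020202103010203310223122202012331200010)
noncomputable def m0_2 : Nat := (nat_lit 0x5050d090f0f040a010e0f060001060b01080f08020801060c060908070c00030e00)
noncomputable def m0_3 : Nat := (nat_lit 0x1c0017002f009500ad00b8006c009400050074008500fa00ca00120012009d0080)
noncomputable def m0_4 : Nat := (nat_lit 0x989e00006f5400001dc000008a90000002c1000012100000e89500007ffb00001800)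
noncomputable def m0_5 : Nat := (nat_lit 0x9891002000000000202cfbdf0000000094ef9dfb0000000013e4e34e0000000062580000)
noncomputable def m0_6 : Nat := (nat_lit 0x10800000000400400000000000000000eb1766f49d5366a000000000000000000004624800000000)
noncomputable def m0_7 : Nat := (nat_lit 0x1080000000040040881100200000000000000000000000000000000000000000881304b0000062000000000000000000)
noncomputable def m0_8 : Nat := (nat_lit 0x1080000000040040881100200000000000000000000000000000000000000000)
noncomputable def m0_9 : Nat := (nat_lit 0x108000000004004088110020000000000000000000000000000000000000000000000000000000000000000000000000)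
noncomputable def m0_10 : Nat := (nat_lit 0x10800000000400400000000000000000881304b00000620000000000000000000000000000000000)
noncomputable def m0_11 : Nat := (nat_lit 0x9891002000000000660460c400000000801304a000000000000462480000000000000000)
noncomputable def m0_12 : Nat := (nat_lit 0x989400005d0000000b14000088c00000029100009280000060040000625800000000)
noncomputable def m0_13 : Nat := (nat_lit 0x480043007b00a3009900ac00480000000500f00005007a004a0012001200180000)
noncomputable def m0_14 : Nat := (nat_lit 0x101090f0b0b0208010e0b040001060b01080f08020801060c060908070c00010800)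
noncomputable def m0_15 : Nat := (nat_lit 0x233123003110120310121202110001020202103010201310221122202002321200000)
noncomputable def m0_16 : Nat := (nat_lit 0x500104011040441004010545454414450541554000004140010001401005014004400)
noncomputable def n0 : Net := (Net.cons (nat_lit 1) m0_0 (Net.cons (nat_lit 2) m0_1 (Net.cons (nat_lit 4) m0_2 (Net.cons (nat_lit 8) m0_3 (Net.cons (nat_lit 16) m0_4 (Net.cons (nat_lit 32) m0_5 (Net.cons (nat_lit 64) m0_6 (Net.cons (nat_lit 128) m0_7 (Net.cons (nat_lit 256) m0_8 (Net.cons (nat_lit 128) m0_9 (Net.cons (nat_lit 64) m0_10 (Net.cons (nat_lit 32) m0_11 (Net.cons (nat_lit 16) m0_12 (Net.cons (nat_lit 8) m0_13 (Net.cons (nat_lit 4) m0_14 (Net.cons (nat_lit 2) m0_15 (Net.cons (nat_lit 1) m0_16 Net.nil)))))))))))))))))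
noncomputable def m1_0 : Nat := (nat_lit 0x5505414014050445450054000405105551041511010000450014004044000140500050)
noncomputable def m1_1 : Nat := (nat_lit 0x2001203003220312102000231020203133102213132210130000121001300100000030)
noncomputable def m1_2 : Nat := (nat_lit 0xe02030e0d04030e0a0b000008000b0100080b0c0d0c020208060502050a0c08010708)
noncomputable def m1_3 : Nat := (nat_lit 0x5900e700e200d30082007a004d000c002e007200200062000500a10001008b00a00020)
noncomputable def m1_4 : Nat := (nat_lit 0x5b810000da7e0000da360000cc3200000d0000000d000000a43e0000f9dd00008000)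
noncomputable def m1_5 : Nat := (nat_lit 0x281200800000000056a57f500000000a6f9b6bf0000000057634be30000000049c00000)
noncomputable def m1_6 : Nat := (nat_lit 0x201000000000000000000000000000098bce54cd4bea9480000000000000000042209c000000000)
noncomputable def m1_7 : Nat := (nat_lit 0x2010000000000000080200800000040000000000000000000000000000000008898a40c042209400000000000000000)
noncomputable def m1_8 : Nat := (nat_lit 0x201000000000000008020080000004000000000000000000000000000000000)
noncomputable def m1_9 : Nat := (nat_lit 0x20100000000000000802008000000400000000000000000000000000000000000000000000000000000000000000000)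
noncomputable def m1_10 : Nat := (nat_lit 0x20100000000000000000000000000008898a40c0422094000000000000000000000000000000000)
noncomputable def m1_11 : Nat := (nat_lit 0x281200800000000002841400000000088b8a80c00000000042209c00000000000000000)
noncomputable def m1_12 : Nat := (nat_lit 0x2810000125c0000503400004032000001000000010000000422000049c000000000)
noncomputable def m1_13 : Nat := (nat_lit 0x5900e300e000f100800078004d001d002e007200200062000500a10089000100800000)
noncomputable def m1_14 : Nat := (nat_lit 0xc00010c0d06010e080a000008010a0100080a0c0d0c0202080e050a0d020400000200)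
noncomputable def m1_15 : Nat := (nat_lit 0x2001202003220302102000231020203133102213132210130000121001300100000020)
noncomputable def m1_16 : Nat := (nat_lit 0x5505414014050445450054000405105551041511010000450014004044000140500050)
noncomputable def n1 : Net := (Net.cons (nat_lit 1) m1_0 (Net.cons (nat_lit 2) m1_1 (Net.cons (nat_lit 4) m1_2 (Net.cons (nat_lit 8) m1_3 (Net.cons (nat_lit 16) m1_4 (Net.cons (nat_lit 32) m1_5 (Net.cons (nat_lit 64) m1_6 (Net.cons (nat_lit 128) m1_7 (Net.cons (nat_lit 256) m1_8 (Net.cons (nat_lit 128) m1_9 (Net.cons (nat_lit 64) m1_10 (Net.cons (nat_lit 32) m1_11 (Net.cons (nat_lit 16) m1_12 (Net.cons (nat_lit 8) m1_13 (Net.cons (nat_lit 4) m1_14 (Net.cons (nat_lit 2) m1_15 (Net.cons (nat_lit 1) m1_16 Net.nil)))))))))))))))))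
noncomputable def m2_0 : Nat := (nat_lit 0x5511041015000145550510410004445011150005415044105411015051000050104004)
noncomputable def m2_1 : Nat := (nat_lit 0x1213303133332303121032010302202320331202101323113202002030111211310000)
noncomputable def m2_2 : Nat := (nat_lit 0x200020f0103090d090c090d0505050a000c0802020c00010a000109080600090b0e00)
noncomputable def m2_3 : Nat := (nat_lit 0x30034000600080007003800e00030004600c800f6005900f400180011000700dd0080)
noncomputable def m2_4 : Nat := (nat_lit 0x4348000016b400004c1e0000144900001887000004d7000021ee00002a7000001800)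
noncomputable def m2_5 : Nat := (nat_lit 0x4040000000000000b288f97f000000005937ceef00000000de99f0980000000022100000)
noncomputable def m2_6 : Nat := (nat_lit 0x4000000000000800000000000000000025e83f57c9ce36910000000000000000c088301000000000)
noncomputable def m2_7 : Nat := (nat_lit 0x400000000000080000400000000820000000000000000000000000000000000001400641808830100000000000000000)
noncomputable def m2_8 : Nat := (nat_lit 0x4000000000000800004000000008200000000000000000000000000000000000)
noncomputable def m2_9 : Nat := (nat_lit 0x400000000000080000400000000820000000000000000000000000000000000000000000000000000000000000000000)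
noncomputable def m2_10 : Nat := (nat_lit 0x40000000000008000000000000000000014006418088301000000000000000000000000000000000)
noncomputable def m2_11 : Nat := (nat_lit 0x40400000000000002da83d16000000000140060100000000c08830100000000000000000)
noncomputable def m2_12 : Nat := (nat_lit 0x404800000b08000012690000089f000000d100001481000020880000221000000000)
noncomputable def m2_13 : Nat := (nat_lit 0x30028000c006900d6005900b100a2001600d800c6004900e400180010000200180000)
noncomputable def m2_14 : Nat := (nat_lit 0x20002060100090401050205050c0d0a000c0002020c00010a00010908060009090800)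
noncomputable def m2_15 : Nat := (nat_lit 0x13123133110303103210210300020300331002101323113202002030111201210000)
noncomputable def m2_16 : Nat := (nat_lit 0x5511041015000145550510410004445011150005415044105411015051000050104000)
noncomputable def n2 : Net := (Net.cons (nat_lit 1) m2_0 (Net.cons (nat_lit 2) m2_1 (Net.cons (nat_lit 4) m2_2 (Net.cons (nat_lit 8) m2_3 (Net.cons (nat_lit 16) m2_4 (Net.cons (nat_lit 32) m2_5 (Net.cons (nat_lit 64) m2_6 (Net.cons (nat_lit 128) m2_7 (Net.cons (nat_lit 256) m2_8 (Net.cons (nat_lit 128) m2_9 (Net.cons (nat_lit 64) m2_10 (Net.cons (nat_lit 32) m2_11 (Net.cons (nat_lit 16) m2_12 (Net.cons (nat_lit 8) m2_13 (Net.cons (nat_lit 4) m2_14 (Net.cons (nat_lit 2) m2_15 (Net.cons (nat_lit 1) m2_16 Net.nil)))))))))))))))))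
noncomputable def m3_0 : Nat := (nat_lit 0x540101010010540514554544505414110510405100051151104014400414400404014)
noncomputable def m3_1 : Nat := (nat_lit 0x3010032232233303232122330122311333012220201313232223221112202232022332)
noncomputable def m3_2 : Nat := (nat_lit 0x80b06080305060a0809090f080e0e000c0808090d07030d060604060d0c0d00020b04)
noncomputable def m3_3 : Nat := (nat_lit 0x1b00da004c007e00d40038009f00e000dd00b0009400f600da006800610025007c0010)
noncomputable def m3_4 : Nat := (nat_lit 0xd98c000020990000904b000020c600005f640000a2230000a0370000f7ff00006800)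
noncomputable def m3_5 : Nat := (nat_lit 0x920800000000000065a4a7bd00000000f3faf45300000000dfecdfec0000000083a80000)
noncomputable def m3_6 : Nat := (nat_lit 0x9208000040000040000000000000000024911bfeb855cbaa00000000000000000804cba800000000)
noncomputable def m3_7 : Nat := (nat_lit 0x9208000040000040000000000000032000000000000000000000000000000000201000120804cba80000000000000000)
noncomputable def m3_8 : Nat := (nat_lit 0x9208000040000040000000000000032000000000000000000000000000000000)
noncomputable def m3_9 : Nat := (nat_lit 0x920800004000004000000000000003200000000000000000000000000000000000000000000000000000000000000000)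
noncomputable def m3_10 : Nat := (nat_lit 0x92080000400000400000000000000000201000120804cba800000000000000000000000000000000)
noncomputable def m3_11 : Nat := (nat_lit 0x920800000000000004901b6a0000000028140012000000000804cba80000000000000000)
noncomputable def m3_12 : Nat := (nat_lit 0xc0080000d15100002e8100001c44000023a20000c22400008204000083a800000000)
noncomputable def m3_13 : Nat := (nat_lit 0x1b0003008c0001000a009c004300ca00710074001a0090009a00680021002100680000)
noncomputable def m3_14 : Nat := (nat_lit 0x1000d0109040d0a060b030a080a000202000407030905010000000009080900020100)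
noncomputable def m3_15 : Nat := (nat_lit 0x3010232310002122110100010100111331010020201311232223221112202232000110)
noncomputable def m3_16 : Nat := (nat_lit 0x540101010010540514554544505414110510405100051151104014400414400404014)
noncomputable def n3 : Net := (Net.cons (nat_lit 1) m3_0 (Net.cons (nat_lit 2) m3_1 (Net.cons (nat_lit 4) m3_2 (Net.cons (nat_lit 8) m3_3 (Net.cons (nat_lit 16) m3_4 (Net.cons (nat_lit 32) m3_5 (Net.cons (nat_lit 64) m3_6 (Net.cons (nat_lit 128) m3_7 (Net.cons (nat_lit 256) m3_8 (Net.cons (nat_lit 128) m3_9 (Net.cons (nat_lit 64) m3_10 (Net.cons (nat_lit 32) m3_11 (Net.cons (nat_lit 16) m3_12 (Net.cons (nat_lit 8) m3_13 (Net.cons (nat_lit 4) m3_14 (Net.cons (nat_lit 2) m3_15 (Net.cons (nat_lit 1) m3_16 Net.nil)))))))))))))))))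
noncomputable def m4_0 : Nat := (nat_lit 0x4045505504011400551004005100001140515040411105455104100015141051145501)
noncomputable def m4_1 : Nat := (nat_lit 0x2323313103120302022112331212111013112100113100011213223212313012033020)
noncomputable def m4_2 : Nat := (nat_lit 0x70e0a0b0d0e0401040f0001000409080e0e0a0909000a0f060f070900090c00080200)
noncomputable def m4_3 : Nat := (nat_lit 0x4800cf00350055009f0014008d00ee002000a40089003e00d100720042002a00b700a0)
noncomputable def m4_4 : Nat := (nat_lit 0x4979000079a500003d2b000043a200000c830000e0720000c73b0000ffff00001e00)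
noncomputable def m4_5 : Nat := (nat_lit 0x48240000000000e736d9f600000000285f0b6100000000bdb67def0000000040ce0000)
noncomputable def m4_6 : Nat := (nat_lit 0x402000000000000000000000000000d7a9ce9e5d20768e0000000000000000012070ce00000000)
noncomputable def m4_7 : Nat := (nat_lit 0x40200000000000000804000120000400000000000000000000000000000000420986100520708e0000000000000000)
noncomputable def m4_8 : Nat := (nat_lit 0x40200000000000000804000120000400000000000000000000000000000000)
noncomputable def m4_9 : Nat := (nat_lit 0x4020000000000000080400012000040000000000000000000000000000000000000000000000000000000000000000)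
noncomputable def m4_10 : Nat := (nat_lit 0x402000000000000000000000000000420986100520708e00000000000000000000000000000000)
noncomputable def m4_11 : Nat := (nat_lit 0x4824000000000085a00a0e000000004600e61000000000012070ce0000000000000000)
noncomputable def m4_12 : Nat := (nat_lit 0x1680000b126000051200000050b0000c0020000841700002162000040ce00000000)
noncomputable def m4_13 : Nat := (nat_lit 0x48004d00a7005f000d00b4008d00e40080003e003100a400a10083000a0082000e0000)
noncomputable def m4_14 : Nat := (nat_lit 0x50e0a030d04010b0c0d0a060a0e020a03080b0201040b060c0e0e0208000409020800)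
noncomputable def m4_15 : Nat := (nat_lit 0x2223201103101020022110202212311000210300100322010031223032311022021200)
noncomputable def m4_16 : Nat := (nat_lit 0x4045505504011400551004005100001140515040411105455104100015041000011100)
noncomputable def n4 : Net := (Net.cons (nat_lit 1) m4_0 (Net.cons (nat_lit 2) m4_1 (Net.cons (nat_lit 4) m4_2 (Net.cons (nat_lit 8) m4_3 (Net.cons (nat_lit 16) m4_4 (Net.cons (nat_lit 32) m4_5 (Net.cons (nat_lit 64) m4_6 (Net.cons (nat_lit 128) m4_7 (Net.cons (nat_lit 256) m4_8 (Net.cons (nat_lit 128) m4_9 (Net.cons (nat_lit 64) m4_10 (Net.cons (nat_lit 32) m4_11 (Net.cons (nat_lit 16) m4_12 (Net.cons (nat_lit 8) m4_13 (Net.cons (nat_lit 4) m4_14 (Net.cons (nat_lit 2) m4_15 (Net.cons (nat_lit 1) m4_16 Net.nil)))))))))))))))))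
noncomputable def nets : List Net := [n0, n1, n2, n3, n4]

noncomputable def r0_0 : Nat := (nat_lit 0x2b9292c7c3ca86b2695e211ca8ea48a094236454f410508813e04f30131bb6c48accaa)
noncomputable def r0_1 : Nat := (nat_lit 0x7d0a0d058a706884729380480102940a202a0004043780987c00fcc01c83b8df35102c)
noncomputable def r0_2 : Nat := (nat_lit 0x8c21af4c13f09a83001b80288802142024aa00950567c0b069e08d8f10e03807868900)
noncomputable def r0_3 : Nat := (nat_lit 0xfdca0a121000d107080000200860010a000a4100f003c20702e902036000c000000000)
noncomputable def r0_4 : Nat := (nat_lit 0x41c2455612700ba1005282088012100024000000000000000000000000000000000000)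
noncomputable def r0 : List Nat := (List.cons r0_0 (List.cons r0_1 (List.cons r0_2 (List.cons r0_3 (List.cons r0_4 List.nil)))))
noncomputable def r1_0 : Nat := (nat_lit 0x2cd2a5bc584f38b0996cb33429ddc2a89428a4544511d28911084d33131b06c7884ca2)
noncomputable def r1_1 : Nat := (nat_lit 0x4100016018053464c319066000020d00200001204001c00f11e071fc1c643810211904)
noncomputable def r1_2 : Nat := (nat_lit 0x80002971881534a68109022000020e00000001300010c0010c200000000020160e2000)
noncomputable def r1_3 : Nat := (nat_lit 0x82233c019318d0665220160001cd80000001c0003010c0000c20003000040000000000)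
noncomputable def r1_4 : Nat := (nat_lit 0x4210b41880c24029101100000820e0000000130000000000000000000000000000000)
noncomputable def r1 : List Nat := (List.cons r1_0 (List.cons r1_1 (List.cons r1_2 (List.cons r1_3 (List.cons r1_4 List.nil)))))
noncomputable def r2_0 : Nat := (nat_lit 0x7f442090227a050c67040ce1000032c610c021220888042845e104200b70f93253312)
noncomputable def r2_1 : Nat := (nat_lit 0x4a961d8264290000022000858000192c2024015615880040841e1856851c8520400130)
noncomputable def r2_2 : Nat := (nat_lit 0x5d08a520002c42428220dc0f960033716b78033c0f004500041c107687298a42822240)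
noncomputable def r2_3 : Nat := (nat_lit 0x4dd24806504041020a03000580410c080528004014004a000000080400a10040002200)
noncomputable def r2_4 : Nat := (nat_lit 0x574e5da43c6b0f50046285880011300100000100000000000000000000000000000000)
noncomputable def r2 : List Nat := (List.cons r2_0 (List.cons r2_1 (List.cons r2_2 (List.cons r2_3 (List.cons r2_4 List.nil)))))
noncomputable def r3_0 : Nat := (nat_lit 0x802304419220122540a148014201850120008180202884008010000020004010010100)
noncomputable def r3_1 : Nat := (nat_lit 0x8023044096201204401148004203970301428908080020000000000020004010200100)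
noncomputable def r3_2 : Nat := (nat_lit 0x8001044096240240c09044008002920001800088002000000000000020004010211000)
noncomputable def r3_3 : Nat := (nat_lit 0x1026001100003145000004414001000120408800080824008212020080000000000000)
noncomputable def r3_4 : Nat := (nat_lit 0x902704518624232180b04a418206820220820008200080000000000000000000000000)
noncomputable def r3 : List Nat := (List.cons r3_0 (List.cons r3_1 (List.cons r3_2 (List.cons r3_3 (List.cons r3_4 List.nil)))))
noncomputable def r4_0 : Nat := (nat_lit 0xeb0598106038073e01c28b8cc2f2381d033c1cca4699314c9986618898403004000214)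
noncomputable def r4_1 : Nat := (nat_lit 0x5d49e874408105f009e00f05a2fdc81e879fe04b82ee0170e2078200e0004000002018)
noncomputable def r4_2 : Nat := (nat_lit 0x5f0db8f0643f07ce8d22f48f5ccf3a414c419ae008002c000010000000000000002240)
noncomputable def r4_3 : Nat := (nat_lit 0xfb5cd1842cc2083104c403002030c00080206400040012000008000000000000000000)
noncomputable def r4_4 : Nat := (nat_lit 0xed51e91448d80d070804a00508421808040800c0100040000000000000000000000000)
noncomputable def r4 : List Nat := (List.cons r4_0 (List.cons r4_1 (List.cons r4_2 (List.cons r4_3 (List.cons r4_4 List.nil)))))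
noncomputable def R : List (List Nat) := (List.cons r0 (List.cons r1 (List.cons r2 (List.cons r3 (List.cons r4 List.nil)))))
noncomputable def d4 : Nat := (nat_lit 0xa206091200a000401100400000050020000100200080020440186606320c93251102)
noncomputable def d3 : Nat := (nat_lit 0x6f50b984494a4c121a44a114295048a8942824545511528c19886599194932448a44a4)
noncomputable def d2 : Nat := (nat_lit 0x80010050809010a42188022000aa800200834081806600316221820060004008108808)
noncomputable def d1 : Nat := (nat_lit 0x100840020420030904020888c20030150314180a028821408006000080808020400210)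
noncomputable def d0 : Nat := (nat_lit 0x400202005004080205403140502404840822008000c000010000000040100002040)
noncomputable def D : Net := (Net.cons (nat_lit 0) d0 (Net.cons (nat_lit 1) d1 (Net.cons (nat_lit 2) d2 (Net.cons (nat_lit 3) d3 (Net.cons (nat_lit 4) d4 Net.nil)))))
noncomputable def Tp0 : Nat := (nat_lit 0x13f0000bc002140013f0008940021f0013f000880002210013f0008e80020b0013f000868002110013f0009200002f0013f00089c0002a0013f0009040002b0013f0008b0000280013f0008b40004d0013f0008f40022e000e200093c0024e000e20001980023d000200000e00021a000410001340021d000000008740022d000a1000808002020013f00093c0023d0013f0008f00022d0013f0008ec0022c0013f00090800241000630008e000241000e200094800252000e00008c000237000a10008dc00247000a200085c002240000100085c00226000000008d000246001200008e4002450000000083400215000000008e40024b000e10009080024c0006100087800228000000008800022f000000008a40023a0000100086800229000810008f800241000220000a00020a00020000808002040000100082800211000010008700022c0006300089c00231001210008e4002480012200094400251000e00008c800232000e000085000214000e200092800243000810008500021f0006300083800213000e200088000213000010008d80024a0000200086000225000010008100020700002000000000000000000000000000)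
noncomputable def Tp1 : Nat := (nat_lit 0x1220000bc0002f0013f0008d4002140013f000860002120013f0008bc002130013f0008a40020a0013f0008a80021d0013f0008e4000200013f0008c40003c0013f0008f80001e0013f000870000380013f000900000660013f00093800240000010008f40024e000200001340022a000410001980022e000a20008b800240000a200082400209000a1000800002000013f0008a80023f0013f0009340021c0013f0009300023e0013f0008c400250001220008e000245000e100094c0025300000000898002360000100089000234000a200080c002030000000091c0025300001000918002520013f0009140024b0000000081c0020c0000000090800250000610008bc0023a000e20008bc00221000000008ec0024c000020008f00024d000010009000024f000800008280020b00020000814002080002000080000201000000008440021c000000008b00023e00063000860002210013f00092000249000e20001d000244000e00008880022200001000910002510008100088800230000e20008c000236000630008200020b000210000f000220000010008e400249000020008380021600003000000000000000100000000000)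
noncomputable def T : Tr := (Tr.node (Tr.leaf Tp0) (Tr.leaf Tp1))
noncomputable def DTp0 : Nat := (nat_lit 0x3000000002450000200000000241000030000000023c000020000000023a00003000000002350000000000000235000030000000023300003000000002320000200000000231000030000000022d000030000000022b000010000000022a00003000000002280000000000000227000030000000022500003000000002230000200000000222000030000000021f000030000000021d000030000000021b000020000000021a0000000000000219000030000000021600003000000002150000300000000214000030000000021200000000000002120000300000000210000030000000020f000000000000020e000010000000020d000020000000002f000010000000002a000000000000020900001000000002080000300000000206000030000000020500002000000002040000000000000203000030000000020100003000000002000000200000000009)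
noncomputable def DTp1 : Nat := (nat_lit 0x2000000002460000300000000243000030000000023f000010000000023b000020000000023800002000000002350000200000000234000010000000023300001000000002320000000000000231000010000000022d000030000000022a000020000000022900002000000002270000200000000226000010000000022500000000000002230000100000000221000030000000021e000020000000021c000000000000021b00003000000002190000100000000218000000000000021600001000000002150000000000000213000020000000021200002000000002110000100000000210000010000000020f000030000000020d000020000000020c000010000000020b000030000000020900000000000000270000200000000207000020000000001e0000100000000205000030000000020300002000000002020000100000000201000020000000000d)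
noncomputable def DT : Tr := (Tr.node (Tr.leaf DTp0) (Tr.leaf DTp1))
noncomputable def s0 (t : Scr) : Scr := (Scr.cons (nat_lit 9) (nat_lit 1) (Step.U (nat_lit 4) (Step.D (nat_lit 3) (Step.D (nat_lit 7) Step.done))) (Scr.cons (nat_lit 7) (nat_lit 0) (Step.U (nat_lit 14) (Step.U (nat_lit 8) (Step.B (nat_lit 4) (Step.D (nat_lit 13) (Step.D (nat_lit 22) Step.done))))) (Scr.cons (nat_lit 6) (nat_lit 0) (Step.U (nat_lit 24) (Step.B (nat_lit 5) (Step.D (nat_lit 37) Step.done))) (Scr.cons (nat_lit 7) (nat_lit 1) (Step.U (nat_lit 57) (Step.U (nat_lit 39) (Step.B (nat_lit 6) (Step.D (nat_lit 53) (Step.D (nat_lit 73) Step.done))))) (Scr.cons (nat_lit 9) (nat_lit 1) (Step.U (nat_lit 54) (Step.D (nat_lit 53) (Step.D (nat_lit 74) Step.done))) (Scr.cons (nat_lit 9) (nat_lit 1) (Step.L (Step.D (nat_lit 18) (Step.D (nat_lit 32) Step.done))) (Scr.cons (nat_lit 7) (nat_lit 0) (Step.F (nat_lit 9) (Step.L (Step.L (Step.D (nat_lit 11) (Step.D (nat_lit 19) Step.done))))) (Scr.cons (nat_lit 27) (nat_lit 3) (Step.U (nat_lit 8) (Step.U (nat_lit 4) (Step.U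 (nat_lit 1) (Step.L (Step.L (Step.L (Step.L (Step.D (nat_lit 11) Step.done)))))))) (Scr.cons (nat_lit 9) (nat_lit 0) (Step.U (nat_lit 14) (Step.B (nat_lit 11) (Step.D (nat_lit 19) Step.done))) (Scr.cons (nat_lit 27) (nat_lit 2) (Step.U (nat_lit 48) (Step.U (nat_lit 31) (Step.D (nat_lit 32) (Step.B (nat_lit 10) (Step.F (nat_lit 12) (Step.B (nat_lit 5) (Step.D (nat_lit 37) (Step.D (nat_lit 54) Step.done)))))))) (Scr.cons (nat_lit 7) (nat_lit 1) (Step.U (nat_lit 20) (Step.L (Step.L (Step.D (nat_lit 18) (Step.D (nat_lit 31) Step.done))))) (Scr.cons (nat_lit 9) (nat_lit 1) (Step.U (nat_lit 34) (Step.B (nat_lit 14) (Step.D (nat_lit 48) Step.done))) (Scr.cons (nat_lit 7) (nat_lit 0) (Step.F (nat_lit 8) (Step.F (nat_lit 13) (Step.F (nat_lit 15) (Step.D (nat_lit 50) (Step.D (nat_lit 67) Step.done))))) (Scr.cons (nat_lit 9) (nat_lit 1) (Step.U (nat_lit 68) (Step.D (nat_lit 67) (Step.D (nat_lit 81) Step.done))) (Scr.cons (nat_lit 6) (nat_lit 1) (Step.U (nat_lit 20) (Step.L (Step.D (nat_lit 20) Step.done))) (Scr.cons (nat_lit 8) (nat_lit 1) (Step.U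 (nat_lit 34) (Step.F (nat_lit 18) (Step.D (nat_lit 34) Step.done))) (Scr.cons (nat_lit 6) (nat_lit 1) (Step.U (nat_lit 50) (Step.F (nat_lit 19) (Step.D (nat_lit 50) Step.done))) (Scr.cons (nat_lit 27) (nat_lit 2) (Step.L (Step.L (Step.L (Step.D (nat_lit 20) (Step.D (nat_lit 34) (Step.D (nat_lit 50) (Step.F (nat_lit 20) (Step.D (nat_lit 68) Step.done)))))))) (Scr.cons (nat_lit 7) (nat_lit 0) (Step.F (nat_lit 17) (Step.F (nat_lit 21) (Step.L (Step.B (nat_lit 21) (Step.B (nat_lit 17) Step.done))))) (Scr.cons (nat_lit 27) (nat_lit 0) (Step.U (nat_lit 72) (Step.D (nat_lit 74) (Step.B (nat_lit 16) (Step.D (nat_lit 81) (Step.F (nat_lit 22) (Step.U (nat_lit 81) (Step.F (nat_lit 16) (Step.U (nat_lit 74) (Step.D (nat_lit 73) Step.done))))))))) (Scr.cons (nat_lit 1) (nat_lit 0) (Step.B (nat_lit 7) (Step.F (nat_lit 23) Step.done)) (Scr.cons (nat_lit 8) (nat_lit 0) (Step.U (nat_lit 24) (Step.B (nat_lit 12) (Step.D (nat_lit 33) Step.done))) (Scr.cons (nat_lit 9) (nat_lit 0) (Step.U (nat_lit 39) (Step.B (nat_lit 25) (Step.D (nat_lit 49) Step.done)))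 (Scr.cons (nat_lit 8) (nat_lit 1) (Step.U (nat_lit 44) (Step.D (nat_lit 43) (Step.D (nat_lit 62) Step.done))) (Scr.cons (nat_lit 9) (nat_lit 1) (Step.U (nat_lit 28) (Step.D (nat_lit 27) (Step.D (nat_lit 44) Step.done))) (Scr.cons (nat_lit 8) (nat_lit 1) (Step.U (nat_lit 17) (Step.D (nat_lit 16) (Step.D (nat_lit 28) Step.done))) (Scr.cons (nat_lit 9) (nat_lit 1) (Step.U (nat_lit 10) (Step.D (nat_lit 9) (Step.D (nat_lit 17) Step.done))) (Scr.cons (nat_lit 6) (nat_lit 1) (Step.U (nat_lit 0) (Step.L (Step.D (nat_lit 1) Step.done))) (Scr.cons (nat_lit 8) (nat_lit 1) (Step.U (nat_lit 2) (Step.B (nat_lit 31) (Step.D (nat_lit 4) Step.done))) (Scr.cons (nat_lit 6) (nat_lit 1) (Step.U (nat_lit 5) (Step.B (nat_lit 32) (Step.D (nat_lit 8) Step.done))) (Scr.cons (nat_lit 27) (nat_lit 2) (Step.L (Step.L (Step.L (Step.D (nat_lit 1) (Step.D (nat_lit 4) (Step.D (nat_lit 8) (Step.F (nat_lit 33) (Step.D (nat_lit 10) Step.done)))))))) (Scr.cons (nat_lit 6) (nat_lit 1) (Step.F (nat_lit 34) (Step.L (Step.D (nat_lit 11) Step.done))) (Scr.cons (nat_lit 5)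 (nat_lit 0) (Step.F (nat_lit 27) (Step.F (nat_lit 28) (Step.F (nat_lit 29) (Step.F (nat_lit 30) (Step.B (nat_lit 35) (Step.D (nat_lit 19) (Step.D (nat_lit 33) (Step.D (nat_lit 49) (Step.D (nat_lit 65) Step.done))))))))) (Scr.cons (nat_lit 9) (nat_lit 1) (Step.U (nat_lit 64) (Step.D (nat_lit 63) (Step.D (nat_lit 79) Step.done))) (Scr.cons (nat_lit 9) (nat_lit 1) (Step.U (nat_lit 26) (Step.D (nat_lit 25) (Step.D (nat_lit 41) Step.done))) (Scr.cons (nat_lit 7) (nat_lit 0) (Step.U (nat_lit 60) (Step.U (nat_lit 42) (Step.B (nat_lit 38) (Step.D (nat_lit 59) (Step.D (nat_lit 77) Step.done))))) (Scr.cons (nat_lit 8) (nat_lit 1) (Step.U (nat_lit 41) (Step.D (nat_lit 40) (Step.D (nat_lit 58) Step.done))) (Scr.cons (nat_lit 6) (nat_lit 1) (Step.U (nat_lit 59) (Step.B (nat_lit 40) (Step.D (nat_lit 76) Step.done))) (Scr.cons (nat_lit 8) (nat_lit 1) (Step.U (nat_lit 32) (Step.D (nat_lit 30) (Step.D (nat_lit 47) Step.done))) (Scr.cons (nat_lit 6) (nat_lit 0) (Step.F (nat_lit 42) (Step.B (nat_lit 10) (Step.D (nat_lit 33) Step.done))) t))))))))))))))))))))))))))))))))))))))))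
noncomputable def s1 (t : Scr) : Scr := (Scr.cons (nat_lit 5) (nat_lit 0) (Step.U (nat_lit 30) (Step.U (nat_lit 18) (Step.L (Step.L (Step.L (Step.L (Step.D (nat_lit 15) (Step.D (nat_lit 25) (Step.D (nat_lit 40) Step.done))))))))) (Scr.cons (nat_lit 9) (nat_lit 1) (Step.U (nat_lit 47) (Step.B (nat_lit 44) (Step.D (nat_lit 58) Step.done))) (Scr.cons (nat_lit 7) (nat_lit 1) (Step.U (nat_lit 66) (Step.U (nat_lit 49) (Step.F (nat_lit 43) (Step.B (nat_lit 45) (Step.D (nat_lit 76) Step.done))))) (Scr.cons (nat_lit 6) (nat_lit 1) (Step.U (nat_lit 66) (Step.D (nat_lit 65) (Step.D (nat_lit 80) Step.done))) (Scr.cons (nat_lit 6) (nat_lit 1) (Step.U (nat_lit 57) (Step.D (nat_lit 56) (Step.D (nat_lit 75) Step.done))) (Scr.cons (nat_lit 8) (nat_lit 1) (Step.U (nat_lit 7) (Step.D (nat_lit 6) (Step.D (nat_lit 12) Step.done))) (Scr.cons (nat_lit 6) (nat_lit 1) (Step.U (nat_lit 13) (Step.B (nat_lit 49) (Step.D (nat_lit 21) Step.done))) (Scr.cons (nat_lit 5) (nat_lit 0) (Step.U (nat_lit 69) (Step.U (nat_lit 51) (Step.U (nat_lit 35) (Step.F (nat_lit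 50) (Step.D (nat_lit 22) (Step.D (nat_lit 37) (Step.D (nat_lit 53) (Step.D (nat_lit 72) (Step.F (nat_lit 24) (Step.B (nat_lit 48) Step.done)))))))))) (Scr.cons (nat_lit 0) (nat_lit 0) (Step.B (nat_lit 48) (Step.F (nat_lit 51) Step.done)) (Scr.cons (nat_lit 9) (nat_lit 1) (Step.U (nat_lit 70) (Step.D (nat_lit 69) (Step.D (nat_lit 82) Step.done))) (Scr.cons (nat_lit 8) (nat_lit 1) (Step.U (nat_lit 52) (Step.D (nat_lit 51) (Step.D (nat_lit 70) Step.done))) (Scr.cons (nat_lit 6) (nat_lit 1) (Step.U (nat_lit 71) (Step.B (nat_lit 54) (Step.D (nat_lit 83) Step.done))) (Scr.cons (nat_lit 9) (nat_lit 1) (Step.U (nat_lit 23) (Step.D (nat_lit 22) (Step.D (nat_lit 38) Step.done))) (Scr.cons (nat_lit 7) (nat_lit 0) (Step.U (nat_lit 3) (Step.U (nat_lit 1) (Step.L (Step.D (nat_lit 1) (Step.D (nat_lit 3) Step.done))))) (Scr.cons (nat_lit 27) (nat_lit 2) (Step.U (nat_lit 23) (Step.U (nat_lit 13) (Step.U (nat_lit 7) (Step.F (nat_lit 57) (Step.D (nat_lit 7) (Step.D (nat_lit 13) (Step.B (nat_lit 50) (Step.D (nat_lit 36) Step.done)))))))) (Scr.cons (nat_lit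 9) (nat_lit 1) (Step.U (nat_lit 36) (Step.D (nat_lit 35) (Step.D (nat_lit 52) Step.done))) (Scr.cons (nat_lit 7) (nat_lit 1) (Step.U (nat_lit 55) (Step.F (nat_lit 56) (Step.B (nat_lit 58) (Step.B (nat_lit 59) (Step.D (nat_lit 71) Step.done))))) (Scr.cons (nat_lit 8) (nat_lit 1) (Step.U (nat_lit 38) (Step.D (nat_lit 37) (Step.D (nat_lit 54) Step.done))) (Scr.cons (nat_lit 6) (nat_lit 1) (Step.B (nat_lit 13) (Step.F (nat_lit 61) (Step.D (nat_lit 55) Step.done))) (Scr.cons (nat_lit 5) (nat_lit 0) (Step.F (nat_lit 55) (Step.F (nat_lit 60) (Step.F (nat_lit 62) (Step.F (nat_lit 15) (Step.F (nat_lit 19) (Step.B (nat_lit 15) (Step.B (nat_lit 62) (Step.B (nat_lit 60) (Step.B (nat_lit 55) Step.done))))))))) (Scr.cons (nat_lit 7) (nat_lit 0) (Step.F (nat_lit 53) (Step.D (nat_lit 83) (Step.F (nat_lit 63) (Step.U (nat_lit 83) (Step.B (nat_lit 53) Step.done))))) (Scr.cons (nat_lit 2) (nat_lit 0) (Step.D (nat_lit 75) (Step.F (nat_lit 51) Step.done)) (Scr.cons (nat_lit 8) (nat_lit 0) (Step.U (nat_lit 56) (Step.B (nat_lit 26) (Step.D (nat_lit 65)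 Step.done))) (Scr.cons (nat_lit 27) (nat_lit 7) (Step.F (nat_lit 26) (Step.D (nat_lit 57) (Step.B (nat_lit 52) (Step.D (nat_lit 82) (Step.F (nat_lit 64) (Step.U (nat_lit 82) (Step.F (nat_lit 65) (Step.B (nat_lit 66) (Step.D (nat_lit 80) Step.done))))))))) (Scr.cons (nat_lit 0) (nat_lit 0) (Step.B (nat_lit 47) (Step.F (nat_lit 67) (Step.D (nat_lit 65) Step.done))) (Scr.cons (nat_lit 1) (nat_lit 0) (Step.F (nat_lit 46) (Step.B (nat_lit 68) (Step.F (nat_lit 36) Step.done))) (Scr.cons (nat_lit 0) (nat_lit 0) (Step.B (nat_lit 41) (Step.B (nat_lit 69) (Step.F (nat_lit 27) Step.done))) (Scr.cons (nat_lit 1) (nat_lit 0) (Step.U (nat_lit 77) (Step.B (nat_lit 70) (Step.F (nat_lit 28) Step.done))) (Scr.cons (nat_lit 2) (nat_lit 0) (Step.B (nat_lit 39) (Step.B (nat_lit 71) (Step.D (nat_lit 45) Step.done))) (Scr.cons (nat_lit 1) (nat_lit 0) (Step.D (nat_lit 60) (Step.B (nat_lit 72) (Step.D (nat_lit 63) Step.done))) (Scr.cons (nat_lit 3) (nat_lit 0) (Step.U (nat_lit 79) (Step.F (nat_lit 73) (Step.D (nat_lit 61) Step.done))) (Scr.cons (nat_lit 7)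 (nat_lit 1) (Step.U (nat_lit 0) (Step.L (Step.L (Step.L (Step.D (nat_lit 0) Step.done))))) (Scr.cons (nat_lit 9) (nat_lit 1) (Step.U (nat_lit 2) (Step.F (nat_lit 75) (Step.D (nat_lit 2) Step.done))) (Scr.cons (nat_lit 7) (nat_lit 0) (Step.U (nat_lit 9) (Step.U (nat_lit 5) (Step.F (nat_lit 76) (Step.D (nat_lit 5) (Step.D (nat_lit 9) Step.done))))) (Scr.cons (nat_lit 6) (nat_lit 1) (Step.U (nat_lit 29) (Step.B (nat_lit 29) (Step.D (nat_lit 45) Step.done))) (Scr.cons (nat_lit 27) (nat_lit 2) (Step.U (nat_lit 46) (Step.U (nat_lit 29) (Step.U (nat_lit 17) (Step.F (nat_lit 77) (Step.D (nat_lit 17) (Step.D (nat_lit 29) (Step.B (nat_lit 78) (Step.D (nat_lit 64) Step.done)))))))) (Scr.cons (nat_lit 7) (nat_lit 1) (Step.L (Step.L (Step.B (nat_lit 34) (Step.B (nat_lit 30) (Step.D (nat_lit 29) Step.done))))) (Scr.cons (nat_lit 9) (nat_lit 1) (Step.L (Step.B (nat_lit 80) (Step.D (nat_lit 46) Step.done))) (Scr.cons (nat_lit 8) (nat_lit 1) (Step.L (Step.D (nat_lit 15) (Step.D (nat_lit 26) Step.done))) (Scr.cons (nat_lit 6) (nat_lit 1) (Step.L (Step.B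 (nat_lit 82) (Step.D (nat_lit 42) Step.done))) t))))))))))))))))))))))))))))))))))))))))
noncomputable def s2 (t : Scr) : Scr := (Scr.cons (nat_lit 27) (nat_lit 2) (Step.L (Step.L (Step.L (Step.L (Step.L (Step.L (Step.B (nat_lit 83) (Step.D (nat_lit 61) Step.done)))))))) (Scr.cons (nat_lit 9) (nat_lit 1) (Step.U (nat_lit 61) (Step.D (nat_lit 60) (Step.D (nat_lit 78) Step.done))) (Scr.cons (nat_lit 7) (nat_lit 0) (Step.F (nat_lit 37) (Step.F (nat_lit 79) (Step.F (nat_lit 81) (Step.B (nat_lit 84) (Step.B (nat_lit 85) Step.done))))) (Scr.cons (nat_lit 3) (nat_lit 0) (Step.U (nat_lit 78) (Step.B (nat_lit 72) (Step.D (nat_lit 64) Step.done))) (Scr.cons (nat_lit 2) (nat_lit 0) (Step.F (nat_lit 74) (Step.B (nat_lit 86) (Step.B (nat_lit 87) (Step.F (nat_lit 79) Step.done)))) (Scr.cons (nat_lit 1) (nat_lit 0) (Step.B (nat_lit 37) (Step.B (nat_lit 74) (Step.B (nat_lit 88) (Step.F (nat_lit 81) Step.done)))) (Scr.cons (nat_lit 3) (nat_lit 0) (Step.D (nat_lit 64) (Step.B (nat_lit 89) (Step.L Step.done))) (Scr.cons (nat_lit 2) (nat_lit 0) (Step.D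 (nat_lit 45) (Step.B (nat_lit 90) (Step.L Step.done))) (Scr.cons (nat_lit 1) (nat_lit 0) (Step.F (nat_lit 28) (Step.B (nat_lit 91) (Step.L Step.done))) (Scr.cons (nat_lit 0) (nat_lit 0) (Step.F (nat_lit 27) (Step.B (nat_lit 92) (Step.L Step.done))) (Scr.cons (nat_lit 1) (nat_lit 0) (Step.F (nat_lit 36) (Step.B (nat_lit 93) (Step.L Step.done))) (Scr.cons (nat_lit 0) (nat_lit 0) (Step.D (nat_lit 65) (Step.B (nat_lit 94) (Step.L Step.done))) (Scr.cons (nat_lit 3) (nat_lit 0) (Step.B (nat_lit 26) (Step.B (nat_lit 95) (Step.L Step.done))) (Scr.cons (nat_lit 2) (nat_lit 0) (Step.U (nat_lit 57) (Step.B (nat_lit 96) (Step.L Step.done))) (Scr.cons (nat_lit 1) (nat_lit 0) (Step.F (nat_lit 24) (Step.B (nat_lit 97) (Step.L Step.done))) (Scr.cons (nat_lit 3) (nat_lit 0) (Step.D (nat_lit 61) (Step.B (nat_lit 88) (Step.U (nat_lit 46) Step.done))) (Scr.cons (nat_lit 2) (nat_lit 0) (Step.D (nat_lit 42) (Step.B (nat_lit 99) (Step.U (nat_lit 29) Step.done))) (Scr.cons (nat_lit 1) (nat_lit 0) (Step.F (nat_lit 38) (Step.B (nat_lit 100) (Step.F (nat_lit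 30) Step.done))) (Scr.cons (nat_lit 0) (nat_lit 0) (Step.F (nat_lit 40) (Step.B (nat_lit 101) (Step.B (nat_lit 35) Step.done))) (Scr.cons (nat_lit 1) (nat_lit 0) (Step.B (nat_lit 45) (Step.B (nat_lit 102) (Step.D (nat_lit 19) Step.done))) (Scr.cons (nat_lit 0) (nat_lit 0) (Step.B (nat_lit 42) (Step.B (nat_lit 103) (Step.D (nat_lit 33) Step.done))) (Scr.cons (nat_lit 3) (nat_lit 0) (Step.B (nat_lit 25) (Step.F (nat_lit 104) (Step.U (nat_lit 32) Step.done))) (Scr.cons (nat_lit 2) (nat_lit 0) (Step.F (nat_lit 6) (Step.B (nat_lit 105) (Step.D (nat_lit 31) Step.done))) (Scr.cons (nat_lit 1) (nat_lit 0) (Step.U (nat_lit 53) (Step.B (nat_lit 106) (Step.F (nat_lit 14) Step.done))) (Scr.cons (nat_lit 0) (nat_lit 0) (Step.F (nat_lit 98) (Step.U (nat_lit 72) (Step.B (nat_lit 107) (Step.F (nat_lit 18) Step.done)))) (Scr.cons (nat_lit 2) (nat_lit 0) (Step.D (nat_lit 20) (Step.F (nat_lit 108) Step.done)) t))))))))))))))))))))))))))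
noncomputable def scr : Scr := (s0 (s1 (s2 Scr.nil)))
noncomputable def E : Ex := (Ex.cons (nat_lit 0) (nat_lit 0) (nat_lit 0) (Ex.cons (nat_lit 1) (nat_lit 0) (nat_lit 1) (Ex.cons (nat_lit 2) (nat_lit 0) (nat_lit 2) (Ex.cons (nat_lit 3) (nat_lit 0) (nat_lit 3) (Ex.cons (nat_lit 2) (nat_lit 47) (nat_lit 109) Ex.nil)))))
noncomputable def nd : Nat := (nat_lit 84)
noncomputable def g : Nat := (nat_lit 4)

/-- letters of the group -/
def sub : List ℕ := [0, 1, 2, 3, 4]
/-- letters of the subgroup -/
def sub' : List ℕ := [0, 1, 2, 3]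

/-- relators in the local letters -/
def lrels : List Wd := [(Wd.pow (Wd.mul (Wd.g 0) (Wd.g 1)) 5),
  (Wd.pow (Wd.mul (Wd.g 0) (Wd.g 2)) 2),
  (Wd.pow (Wd.mul (Wd.g 1) (Wd.g 2)) 3),
  (Wd.pow (Wd.mul (Wd.g 0) (Wd.g 3)) 2),
  (Wd.pow (Wd.mul (Wd.g 1) (Wd.g 3)) 2),
  (Wd.pow (Wd.mul (Wd.g 2) (Wd.g 3)) 8),
  (Wd.pow (Wd.mul (Wd.g 0) (Wd.g 4)) 2),
  (Wd.pow (Wd.mul (Wd.g 1) (Wd.g 4)) 2),
  (Wd.pow (Wd.mul (Wd.g 2) (Wd.g 4)) 2),
  (Wd.pow (Wd.mul (Wd.g 3) (Wd.g 4)) 3),
  (Wd.mul (Wd.g 0) (Wd.inv (Wd.pow (Wd.mul (Wd.g 2) (Wd.g 3)) 4))),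
  (Wd.pow (Wd.mul (Wd.pow (Wd.mul (Wd.mul (Wd.mul (Wd.mul (Wd.g 1) (Wd.g 2)) (Wd.g 3)) (Wd.g 2)) (Wd.g 3)) 5) (Wd.g 4)) 3)]

/-- periods -/
def pers : List ℕ := [2, 2, 2, 2, 2, 2, 2, 2, 2, 2, 9, 26]

theorem c_relok : relOK rels lrels sub = true := by decide
theorem c_nets : netsCheck (2 ^ 9) nets = true := by decide +kernel
theorem c_iv : ivK nets 9 ivI 5 = true := by decide +kernel
theorem c_full : fullInvK nets 280 5 = true := by decide +kernel
theorem c_len : lenK R 5 5 = true := by decide +kernel
theorem c_sym : symK nets ivI R 5 = true := by decide +kernel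
theorem c_disj : disjK D 1 = true := by decide +kernel
theorem c_tree : treeK nets 9 D = true := by decide +kernel
theorem c_treelet : netLetK 5 D = true := by decide +kernel
theorem c_dtab : dtabK (2 ^ 9) nd DT = true := by decide +kernel
theorem c_given : ∀ j, j < 4 → eSrc (T.get j) = 0 ∧ eDst (T.get j) = 0 ∧ eLet (T.get j) < sub.length ∧
  nthK 0 sub (eLet (T.get j)) ∈ sub' := by decide +kernel
theorem c_facts : factsK nets ivI R 5 280 (2 ^ 9) nd T DT ((lpats 5 lrels).map (fun W => (W.flat ivI).reverse)) 4 scr = true := by decide +kernel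
theorem c_ex : exK nets R 5 T (4 + scr.len) E = true := by decide +kernel
theorem c_simdlet : simdLetK ivI 5 (lrels.zip pers) = true := by decide +kernel
theorem c_cover : force (2 ^ 9) (fun N => relsMDK nets ivI R N 3 5 ((lrels.zip pers).map (splitW ivI)) (exM E D) (fun ms => coverK nets ivI 280 ms 5)) = true := by decide +kernel
theorem c_rels : relsD nets 9 4 ivI lrels = true := by decide +kernel

/-- the step of the chain -/
theorem step {G : Type*} [Group G] {x : ℕ → G} (hrels : ∀ W ∈ rels, W.eval x = 1) (hinv : ∀ c ∈ sub, x c * x c = 1)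
    (hfin : Finite (LG x [0, 1, 2, 3])) : Finite (LG x [0, 1, 2, 3, 4]) ∧ Nat.card (LG x [0, 1, 2, 3, 4]) ≤ 280 * Nat.card (LG x [0, 1, 2, 3]) :=
  CosetChain.step hrels sub sub' pers c_relok hinv (by decide) (j := 3) (jk := 4) (P := 5) (D := D) (R := R)
    (scr := scr) (E := E) (T := T) (DT := DT) (nd := nd) (g := 4) (k := 9) (n := 280) rfl
    c_nets (by norm_num) (by norm_num) (by norm_num) c_iv c_full c_len c_sym c_disj c_tree c_treelet c_dtab c_given
    (by decide) c_facts c_ex c_rels c_simdlet c_cover hfin

end Cfsg.Agent.Lib.SuzL2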