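import Cfsg.Agent.Lib.SuzRel
import Cfsg.Agent.Lib.CosetChain

set_option autoImplicit false
set_option linter.all false
set_option maxRecDepth 100000

namespace Cfsg.Agent.Lib.SuzL3
open Cfsg.Spor Cfsg.Agent.Lib.BenesPerm Cfsg.Agent.Lib.BenesAct Cfsg.Agent.Lib.BenesWord
open Cfsg.Agent.Lib.BenesPlane Cfsg.Agent.Lib.CosetClosure Cfsg.Agent.Lib.CosetFacts
open Cfsg.Agent.Lib.CosetMain Cfsg.Agent.Lib.CoxBridge Cfsg.Agent.Lib.CosetGroup Cfsg.Agent.Lib.CosetInst Cfsg.Agent.Lib.CosetInj
open Cfsg.Agent.Lib.BenesPack Cfsg.Agent.Lib.CosetPack Cfsg.Agent.Lib.CosetChain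
open Cfsg.Agent.Lib.SuzRel (rels)

noncomputable def m0_0 : Nat := (nat_lit 0x1501451501140501010055005441400014)
noncomputable def m0_1 : Nat := (nat_lit 0x2001122020310112100010300321233132)
noncomputable def m0_2 : Nat := (nat_lit 0x4020a090a060706070403000c00010704)
noncomputable def m0_3 : Nat := (nat_lit 0x4800a3009300610025000400c400fd0010)
noncomputable def m0_4 : Nat := (nat_lit 0x48800000075d00001ff600000e7900008900)
noncomputable def m0_5 : Nat := (nat_lit 0x800000000000000f28fb0ab0000000000090000)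
noncomputable def m0_6 : Nat := (nat_lit 0x80000004080000100000000000000007086200900000000)
noncomputable def m0_7 : Nat := (nat_lit 0x8000000408000010000000000000000)
noncomputable def m0_8 : Nat := (nat_lit 0x80000004080000100000000000000000000000000000000)
noncomputable def m0_9 : Nat := (nat_lit 0x800000000000000708620090000000000000000)
noncomputable def m0_10 : Nat := (nat_lit 0x488000000209000050820000000900000000)
noncomputable def m0_11 : Nat := (nat_lit 0x4800810093002100210004000000890000)
noncomputable def m0_12 : Nat := (nat_lit 0x400080908000200020007040800010100)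
noncomputable def m0_13 : Nat := (nat_lit 0x2001120020310112100010300321233110)
noncomputable def m0_14 : Nat := (nat_lit 0x1501451501140501010054004401000014)
noncomputable def n0 : Net := (Net.cons (nat_lit 1) m0_0 (Net.cons (nat_lit 2) m0_1 (Net.cons (nat_lit 4) m0_2 (Net.cons (nat_lit 8) m0_3 (Net.cons (nat_lit 16) m0_4 (Net.cons (nat_lit 32) m0_5 (Net.cons (nat_lit 64) m0_6 (Net.cons (nat_lit 128) m0_7 (Net.cons (nat_lit 64) m0_8 (Net.cons (nat_lit 32) m0_9 (Net.cons (nat_lit 16) m0_10 (Net.cons (nat_lit 8) m0_11 (Net.cons (nat_lit 4) m0_12 (Net.cons (nat_lit 2) m0_13 (Net.cons (nat_lit 1) m0_14 Net.nil)))))))))))))))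
noncomputable def m1_0 : Nat := (nat_lit 0x100114450510410100411055005111401)
noncomputable def m1_1 : Nat := (nat_lit 0x1233001330302202032122211203020010)
noncomputable def m1_2 : Nat := (nat_lit 0xa0602050a0d020508040e040a08000304)
noncomputable def m1_3 : Nat := (nat_lit 0x6e00ae00e3005200520071006f0020)
noncomputable def m1_4 : Nat := (nat_lit 0x51f70000cb2d0000dede0000ce00)
noncomputable def m1_5 : Nat := (nat_lit 0x35f334c20000000010c60000)
noncomputable def m1_6 : Nat := (nat_lit 0x800000000000000000212110c200000000)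
noncomputable def m1_7 : Nat := (nat_lit 0x800000000000000000)
noncomputable def m1_8 : Nat := (nat_lit 0x8000000000000000000000000000000000)
noncomputable def m1_9 : Nat := (nat_lit 0x212110c20000000000000000)
noncomputable def m1_10 : Nat := (nat_lit 0x10d200000121000010c600000000)
noncomputable def m1_11 : Nat := (nat_lit 0x6400a600e2005200520050004e0000)
noncomputable def m1_12 : Nat := (nat_lit 0x80302050a0d020508040e040a08000200)
noncomputable def m1_13 : Nat := (nat_lit 0x222000330302202032122211203020010)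
noncomputable def m1_14 : Nat := (nat_lit 0x100114050500410100411055005111400)
noncomputable def n1 : Net := (Net.cons (nat_lit 1) m1_0 (Net.cons (nat_lit 2) m1_1 (Net.cons (nat_lit 4) m1_2 (Net.cons (nat_lit 8) m1_3 (Net.cons (nat_lit 16) m1_4 (Net.cons (nat_lit 32) m1_5 (Net.cons (nat_lit 64) m1_6 (Net.cons (nat_lit 128) m1_7 (Net.cons (nat_lit 64) m1_8 (Net.cons (nat_lit 32) m1_9 (Net.cons (nat_lit 16) m1_10 (Net.cons (nat_lit 8) m1_11 (Net.cons (nat_lit 4) m1_12 (Net.cons (nat_lit 2) m1_13 (Net.cons (nat_lit 1) m1_14 Net.nil)))))))))))))))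
noncomputable def m2_0 : Nat := (nat_lit 0x1511504441150540104445151100401510)
noncomputable def m2_1 : Nat := (nat_lit 0x2010310033032231122123213201123112)
noncomputable def m2_2 : Nat := (nat_lit 0xd09020302060f030400070e0d03030704)
noncomputable def m2_3 : Nat := (nat_lit 0x50002300490082001900ae0055005b00b0)
noncomputable def m2_4 : Nat := (nat_lit 0x10000000468e00009f7d0000affa00000b00)
noncomputable def m2_5 : Nat := (nat_lit 0x400000000000720bb8a300000000a08a0000)
noncomputable def m2_6 : Nat := (nat_lit 0x40001000000000000000000000001001a08200000000)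
noncomputable def m2_7 : Nat := (nat_lit 0x4000100000000000000000000000)
noncomputable def m2_8 : Nat := (nat_lit 0x40001000000000000000000000000000000000000000)
noncomputable def m2_9 : Nat := (nat_lit 0x4000000000001001a0820000000000000000)
noncomputable def m2_10 : Nat := (nat_lit 0x100000006208000010810000a08a00000000)
noncomputable def m2_11 : Nat := (nat_lit 0x5000000013001900a2001d0022000b0000)
noncomputable def m2_12 : Nat := (nat_lit 0x503000000000800030300090a01030300)
noncomputable def m2_13 : Nat := (nat_lit 0x2010211023122230122122212201123110)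
noncomputable def m2_14 : Nat := (nat_lit 0x1511504441150540104445151100401510)
noncomputable def n2 : Net := (Net.cons (nat_lit 1) m2_0 (Net.cons (nat_lit 2) m2_1 (Net.cons (nat_lit 4) m2_2 (Net.cons (nat_lit 8) m2_3 (Net.cons (nat_lit 16) m2_4 (Net.cons (nat_lit 32) m2_5 (Net.cons (nat_lit 64) m2_6 (Net.cons (nat_lit 128) m2_7 (Net.cons (nat_lit 64) m2_8 (Net.cons (nat_lit 32) m2_9 (Net.cons (nat_lit 16) m2_10 (Net.cons (nat_lit 8) m2_11 (Net.cons (nat_lit 4) m2_12 (Net.cons (nat_lit 2) m2_13 (Net.cons (nat_lit 1) m2_14 Net.nil)))))))))))))))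
noncomputable def m3_0 : Nat := (nat_lit 0x4445151114101101550451440004410440)
noncomputable def m3_1 : Nat := (nat_lit 0x2333232032020300013223301212231300)
noncomputable def m3_2 : Nat := (nat_lit 0x10c0e07040b08010c0d0403020d020f08)
noncomputable def m3_3 : Nat := (nat_lit 0xfa00da00e0004700020069007f0020)
noncomputable def m3_4 : Nat := (nat_lit 0x541700003fe80000f69f00009e00)
noncomputable def m3_5 : Nat := (nat_lit 0x6977c2760000000000160000)
noncomputable def m3_6 : Nat := (nat_lit 0x400000000000000000961401600000000)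
noncomputable def m3_7 : Nat := (nat_lit 0x40000000000000000)
noncomputable def m3_8 : Nat := (nat_lit 0x400000000000000000000000000000000)
noncomputable def m3_9 : Nat := (nat_lit 0x96140160000000000000000)
noncomputable def m3_10 : Nat := (nat_lit 0x6216000008610000001600000000)
noncomputable def m3_11 : Nat := (nat_lit 0x3200b0000b00240061000000960000)
noncomputable def m3_12 : Nat := (nat_lit 0x4040506000202060f060107000f0200)
noncomputable def m3_13 : Nat := (nat_lit 0x133232032020300003220220103320200)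
noncomputable def m3_14 : Nat := (nat_lit 0x4401150114101101550451440004410440)
noncomputable def n3 : Net := (Net.cons (nat_lit 1) m3_0 (Net.cons (nat_lit 2) m3_1 (Net.cons (nat_lit 4) m3_2 (Net.cons (nat_lit 8) m3_3 (Net.cons (nat_lit 16) m3_4 (Net.cons (nat_lit 32) m3_5 (Net.cons (nat_lit 64) m3_6 (Net.cons (nat_lit 128) m3_7 (Net.cons (nat_lit 64) m3_8 (Net.cons (nat_lit 32) m3_9 (Net.cons (nat_lit 16) m3_10 (Net.cons (nat_lit 8) m3_11 (Net.cons (nat_lit 4) m3_12 (Net.cons (nat_lit 2) m3_13 (Net.cons (nat_lit 1) m3_14 Net.nil)))))))))))))))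
noncomputable def nets : List Net := [n0, n1, n2, n3]

noncomputable def r0_0 : Nat := (nat_lit 0x2225749479409ce0ca9045012c06091128)
noncomputable def r0_1 : Nat := (nat_lit 0x85128d014600804400109102c65984000)
noncomputable def r0_2 : Nat := (nat_lit 0x601090d3f04224000081004501e0da4c40)
noncomputable def r0_3 : Nat := (nat_lit 0xa200f2c00a5000100010020080000)
noncomputable def r0_4 : Nat := (nat_lit 0x61104a4087020820400000000000000000)
noncomputable def r0 : List Nat := (List.cons r0_0 (List.cons r0_1 (List.cons r0_2 (List.cons r0_3 (List.cons r0_4 List.nil)))))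
noncomputable def r1_0 : Nat := (nat_lit 0x7328c84c4e2b7c4aa91651024a2514488)
noncomputable def r1_1 : Nat := (nat_lit 0x641000460c66181400000000080000040)
noncomputable def r1_2 : Nat := (nat_lit 0x624231231c40301a00060000080000000)
noncomputable def r1_3 : Nat := (nat_lit 0x63090000400000000000000080000000)
noncomputable def r1_4 : Nat := (nat_lit 0x606281468064200c00000000000200000)
noncomputable def r1 : List Nat := (List.cons r1_0 (List.cons r1_1 (List.cons r1_2 (List.cons r1_3 (List.cons r1_4 List.nil)))))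
noncomputable def r2_0 : Nat := (nat_lit 0x1598e0401420c312152a02204001042200)
noncomputable def r2_1 : Nat := (nat_lit 0x6088a9400280832219eb87ba52082c8000)
noncomputable def r2_2 : Nat := (nat_lit 0x219840c080008800380104000010000000)
noncomputable def r2_3 : Nat := (nat_lit 0x7400090412a10120002100000000000000)
noncomputable def r2_4 : Nat := (nat_lit 0x559849808680493024a400000001000000)
noncomputable def r2 : List Nat := (List.cons r2_0 (List.cons r2_1 (List.cons r2_2 (List.cons r2_3 (List.cons r2_4 List.nil)))))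
noncomputable def r3_0 : Nat := (nat_lit 0x60cc003000810110200228244050820812)
noncomputable def r3_1 : Nat := (nat_lit 0x6c0003802000000200238268200020814)
noncomputable def r3_2 : Nat := (nat_lit 0x7e0d10380201001030063022c258840080)
noncomputable def r3_3 : Nat := (nat_lit 0x78c2020008c00108002000000000000000)
noncomputable def r3_4 : Nat := (nat_lit 0x60e020000000000000000000000000000)
noncomputable def r3 : List Nat := (List.cons r3_0 (List.cons r3_1 (List.cons r3_2 (List.cons r3_3 (List.cons r3_4 List.nil)))))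
noncomputable def R : List (List Nat) := (List.cons r0 (List.cons r1 (List.cons r2 (List.cons r3 List.nil))))
noncomputable def d3 : Nat := (nat_lit 0x130ac86b42694450a91051024a2514440)
noncomputable def d2 : Nat := (nat_lit 0xa45123149482080c00048450944821928)
noncomputable def d1 : Nat := (nat_lit 0x60884048021008281464908a92090c2212)
noncomputable def d0 : Nat := (nat_lit 0x1402010000814312210a22204010208084)
noncomputable def D : Net := (Net.cons (nat_lit 0) d0 (Net.cons (nat_lit 1) d1 (Net.cons (nat_lit 2) d2 (Net.cons (nat_lit 3) d3 Net.nil))))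
noncomputable def Tp0 : Nat := (nat_lit 0x1210007b8001ee0013f0007ec001ad0013f000748001950013f0007bc00171000000005b8001940000000071c001dd001020005b40015e000210005400016e00022000208001850019f0007b8000700018100063c0017700021000194001360000100058c0018a0013f000714001e800000000660001b8001220007e0001f80006000050400141001210007fc001f8001220007d4001ec00002000638001b0000000004ac001450004100041000106001230005e000190000030005200014e000020004c40014d00001000788001f5001000005fc001960002000011800114001230004e80014d00102000760001e4000000004140010a00002000694001c0000200006dc001cc00001000734001e600102000618001940008100011800113000010004bc0014c000000006d0001cd00001000610001a9000200001f000163000010004940013c000000004fc0015f00001000710001db00001000750001d50000000054c00173000010005c40019800122000684001a3000810001580012000000000484001370008100048400135000000004d8001520010300060800188000200000a0001080000000000000000)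
noncomputable def Tp1 : Nat := (nat_lit 0x19f0001c0001430013f0007f8001c90013f0006ec001b500000000540001710010000061800195001030007a8001f1001030006140019500022000668001b5000210006b4001c70000000069c001c20019f0006980018f000220001fc001760013f0006740018a0013f0007ac001af0013f0007f4001980013f000740001f900060000594001650000000041c0010c001230007d8001ff00122000758001e2000430005980016a000420004380011600123000680001b10000100043c00119000020005380016f000820004e80015500100000690001b60002000016400125001230005640016f00001000704001d80000000042c00110000c20004980013b0002000073c001e5001010007c8001f9000010005840018600081000164001230002100007c0010500001000650001b4001210006bc001c5000200005900018b001220004940006f000c200060400184000020007c0001fd001210007a0001eb000000005d40019b000020006e8001d1000000004cc0014f000810001a800138000000004e400156000810004e400153000000005500017400103000698001ac000210001c0001430000200000000000)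
noncomputable def Tp2 : Nat := (nat_lit 0x1810001c0000700013f0007cc001e00013f00074c001aa0013f0007e8001500010000076c001e7001030007ec001fe001030006a8001b5000220006ec001ce00021000724001de00103000780001ee0019f00070800167000200001c40014400000000628001ae0013f0007500018b0013f0007c0001b9000010006e0001d0000600006340018d0006200040000100000020006cc001cb00081000688001be000430006380019100042000460001280000100051c00169000020004b000146000030004680011e00082000564001780012300075c001d9000000004740012f001230005f400196001020007dc001ed000010005280016b000c30006000018700001000790001f7000220001300011c001020006d0001ab001020005300013d000220000e80011100021000168001270012000077c001f000020000630001af00121000574001640000000058400184000c200045400124000000006a4001c4000020006740019f00123000754001e8000e30005f800199001210001e8001570000000056000179000820005ec0019e000000005dc0019d00121000624001ac001030004f40007b0000300000000000)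
noncomputable def Tp3 : Nat := (nat_lit 0x13f0007f0001ee0013f0007a8001c70013f0007a40016e001000007bc001fa000210007a4001fa00103000718001ce000000005300016d000220007cc001fe001030007cc001fc0019f00076800144001830005d80018f0013f0005dc001ae0013f0006f0001630013f000770001d10013f0007c8001b8000610007d0001f40006100041c0010700001000794001f6000810006fc001d60000100050800165000000004640012a00002000644001b10000200052000168000030004b000131000010004480011d001230007b0001ed0010000048c00130000000004f00015c00123000488001300000200064c001b2000c3000694001ab000010005700017f000210004cc0014b00102000734001c80000000052c0016c0010200048c0012f000220001ec00160001200007f4001f200102000630001af001210006040018c000c0000604001870000000049c0013e00000000714001dc0000100067c001bd000000004d400151000e300068c001ba001210005680017a000020005e80017c000010005f0001a100001000674001bc00121000698001ae00103000578000820002000007400103)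
noncomputable def T : Tr := (Tr.node (Tr.node (Tr.leaf Tp0) (Tr.leaf Tp2)) (Tr.node (Tr.leaf Tp1) (Tr.leaf Tp3)))
noncomputable def DTp0 : Nat := (nat_lit 0x1000000001ee00003000000001e500000000000001e100001000000001dc00001000000001d700000000000001d100003000000001cb00002000000001c900002000000001c400003000000001c000002000000001bc00003000000001b700001000000001b300000000000001ab00003000000001a800001000000001a4000030000000019c00003000000001970000300000000193000010000000018d00000000000001880000000000000183000020000000017f000010000000017800001000000001740000300000000170000030000000016c000020000000016900003000000001640000100000000082000030000000015f000020000000015c000030000000015800000000000001550000200000000152000010000000014f000020000000014a0000000000000146000020000000007c000010000000013f000030000000013b000020000000013900002000000001360000300000000133000030000000012e000000000000012c0000200000000070000000000000006e00003000000001240000300000000120000000000000011f000020000000011d000010000000011a0000000000000116000010000000011400000000000000530000000000000111000000000000010e0000200000000045000020000000010a0000200000000106000020000000010300000000000001010000000000000013)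
noncomputable def DTp1 : Nat := (nat_lit 0x1000000001ef00002000000001e600003000000001e100002000000001de00001000000001d900002000000001d200002000000001cc00001000000001ca00002000000001c600002000000001c100002000000001bd00001000000001b900003000000001b300003000000001ad00002000000001a900003000000001a4000030000000019e000020000000019800001000000001950000100000000190000020000000018800003000000001830000100000000180000030000000017b00003000000001740000200000000171000020000000016e000010000000016a000020000000016500000000000001620000000000000160000030000000015d000010000000015900002000000001560000200000000153000030000000014f000030000000014a00003000000001460000300000000141000030000000013f000020000000013c000000000000013a000010000000013700002000000001340000100000000130000010000000012d000020000000012a0000100000000128000010000000006c0000300000000121000020000000011f000010000000011e000000000000011b0000100000000117000030000000011400002000000000530000300000000111000030000000010e0000100000000047000010000000010b0000100000000108000020000000010400003000000001010000100000000015)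
noncomputable def DTp2 : Nat := (nat_lit 0x1000000001f100002000000001e700002000000001e300002000000001df00002000000001da00002000000001d300003000000001cc00003000000001ca00003000000001c700003000000001c200003000000001be00001000000001bb00000000000001b500000000000001b000000000000001aa00002000000001a600002000000001a0000010000000019900002000000001960000100000000192000030000000018900001000000001850000000000000182000020000000017d00001000000001750000100000000172000010000000016f000020000000016b000010000000016600003000000001620000300000000160000010000000015e000020000000015a000030000000015700001000000001540000200000000150000030000000014b000020000000014700002000000001420000100000000140000000000000013d000030000000007a000030000000013700003000000001340000000000000131000000000000012e000010000000012b000030000000012800003000000001260000100000000122000030000000011f0000000000000061000010000000011c0000300000000118000000000000011500002000000000560000200000000112000020000000010f000010000000010c000030000000010b0000100000000109000030000000010400000000000001020000100000000100)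
noncomputable def DTp3 : Nat := (nat_lit 0x2000000001f400001000000001ea00003000000001e300001000000001e000002000000001db00003000000001d400001000000001ce00001000000001cb00001000000001c800003000000001c300002000000001bf00003000000001bb00002000000001b700000000000001b200002000000001aa00001000000001a800003000000001a2000000000000019a00001000000001970000000000000193000030000000018b00001000000001870000200000000182000010000000017e000030000000017500002000000001730000000000000170000010000000016c000020000000016700002000000001630000200000000161000010000000015f000030000000015b000010000000015800003000000001540000300000000151000000000000014d000000000000014900003000000001440000300000000140000020000000013e000010000000013b000020000000013800003000000001350000200000000132000020000000012e000030000000012b00000000000001290000200000000127000000000000012400002000000001200000200000000061000030000000011c00002000000001190000300000000115000030000000011300001000000000510000100000000110000000000000010d00002000000000420000300000000109000020000000010500002000000001020000300000000100)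
noncomputable def DT : Tr := (Tr.node (Tr.node (Tr.leaf DTp0) (Tr.leaf DTp2)) (Tr.node (Tr.leaf DTp1) (Tr.leaf DTp3)))
noncomputable def s0 (t : Scr) : Scr := (Scr.cons (nat_lit 7) (nat_lit 1) (Step.L (Step.D (nat_lit 0) (Step.D (nat_lit 3) Step.done))) (Scr.cons (nat_lit 5) (nat_lit 1) (Step.L (Step.B (nat_lit 3) (Step.D (nat_lit 8) Step.done))) (Scr.cons (nat_lit 4) (nat_lit 0) (Step.L (Step.L (Step.L (Step.L (Step.B (nat_lit 4) (Step.D (nat_lit 13) (Step.D (nat_lit 23) (Step.D (nat_lit 41) (Step.D (nat_lit 67) Step.done))))))))) (Scr.cons (nat_lit 8) (nat_lit 0) (Step.U (nat_lit 61) (Step.L (Step.L Step.done))) (Scr.cons (nat_lit 7) (nat_lit 0) (Step.U (nat_lit 94) (Step.B (nat_lit 6) (Step.L Step.done))) (Scr.cons (nat_lit 8) (nat_lit 0) (Step.U (nat_lit 130) (Step.B (nat_lit 7) (Step.D (nat_lit 136) Step.done))) (Scr.cons (nat_lit 7) (nat_lit 0) (Step.U (nat_lit 166) (Step.B (nat_lit 8) (Step.D (nat_lit 172) Step.done))) (Scr.cons (nat_lit 4) (nat_lit 0) (Step.U (nat_lit 137) (Step.U (nat_lit 98)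 (Step.U (nat_lit 64) (Step.L (Step.L (Step.L (Step.L (Step.D (nat_lit 136) (Step.D (nat_lit 172) Step.done))))))))) (Scr.cons (nat_lit 8) (nat_lit 1) (Step.B (nat_lit 9) (Step.F (nat_lit 10) (Step.D (nat_lit 174) Step.done))) (Scr.cons (nat_lit 7) (nat_lit 1) (Step.U (nat_lit 54) (Step.D (nat_lit 52) (Step.D (nat_lit 82) Step.done))) (Scr.cons (nat_lit 5) (nat_lit 1) (Step.U (nat_lit 84) (Step.B (nat_lit 12) (Step.D (nat_lit 116) Step.done))) (Scr.cons (nat_lit 7) (nat_lit 1) (Step.U (nat_lit 119) (Step.B (nat_lit 13) (Step.D (nat_lit 157) Step.done))) (Scr.cons (nat_lit 8) (nat_lit 1) (Step.U (nat_lit 157) (Step.D (nat_lit 156) (Step.D (nat_lit 188) Step.done))) (Scr.cons (nat_lit 6) (nat_lit 1) (Step.U (nat_lit 33) (Step.L (Step.L (Step.D (nat_lit 31) (Step.D (nat_lit 53) Step.done))))) (Scr.cons (nat_lit 8) (nat_lit 1) (Step.U (nat_lit 57) (Step.B (nat_lit 16) (Step.D (nat_lit 83) Step.done))) (Scr.cons (nat_lit 6) (nat_lit 0) (Step.U (nat_lit 123) (Step.U (nat_lit 88) (Step.B (nat_lit 17) (Step.D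 (nat_lit 117) (Step.D (nat_lit 158) Step.done))))) (Scr.cons (nat_lit 8) (nat_lit 1) (Step.U (nat_lit 124) (Step.D (nat_lit 123) (Step.D (nat_lit 161) Step.done))) (Scr.cons (nat_lit 5) (nat_lit 1) (Step.U (nat_lit 33) (Step.D (nat_lit 32) (Step.D (nat_lit 55) Step.done))) (Scr.cons (nat_lit 7) (nat_lit 1) (Step.U (nat_lit 57) (Step.B (nat_lit 20) (Step.D (nat_lit 86) Step.done))) (Scr.cons (nat_lit 5) (nat_lit 1) (Step.U (nat_lit 88) (Step.B (nat_lit 21) (Step.D (nat_lit 121) Step.done))) (Scr.cons (nat_lit 17) (nat_lit 2) (Step.U (nat_lit 122) (Step.U (nat_lit 87) (Step.U (nat_lit 56) (Step.D (nat_lit 55) (Step.D (nat_lit 86) (Step.D (nat_lit 121) (Step.F (nat_lit 22) (Step.D (nat_lit 124) Step.done)))))))) (Scr.cons (nat_lit 4) (nat_lit 0) (Step.L (Step.L (Step.L (Step.L (Step.L (Step.L (Step.L (Step.L (Step.D (nat_lit 32) Step.done))))))))) (Scr.cons (nat_lit 8) (nat_lit 1) (Step.L (Step.B (nat_lit 24) (Step.D (nat_lit 56) Step.done))) (Scr.cons (nat_lit 6) (nat_lit 1) (Step.L (Step.L (Step.L (Step.B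 (nat_lit 25) (Step.D (nat_lit 87) Step.done))))) (Scr.cons (nat_lit 8) (nat_lit 1) (Step.U (nat_lit 90) (Step.B (nat_lit 26) (Step.D (nat_lit 122) Step.done))) (Scr.cons (nat_lit 6) (nat_lit 0) (Step.F (nat_lit 19) (Step.F (nat_lit 23) (Step.F (nat_lit 27) (Step.D (nat_lit 126) (Step.D (nat_lit 163) Step.done))))) (Scr.cons (nat_lit 5) (nat_lit 1) (Step.U (nat_lit 51) (Step.D (nat_lit 50) (Step.D (nat_lit 79) Step.done))) (Scr.cons (nat_lit 17) (nat_lit 3) (Step.U (nat_lit 126) (Step.U (nat_lit 90) (Step.L (Step.L (Step.D (nat_lit 51) (Step.B (nat_lit 29) (Step.D (nat_lit 113) (Step.D (nat_lit 153) Step.done)))))))) (Scr.cons (nat_lit 8) (nat_lit 0) (Step.U (nat_lit 163) (Step.B (nat_lit 30) (Step.D (nat_lit 186) Step.done))) (Scr.cons (nat_lit 8) (nat_lit 1) (Step.U (nat_lit 113) (Step.D (nat_lit 112) (Step.D (nat_lit 152) Step.done))) (Scr.cons (nat_lit 6) (nat_lit 0) (Step.U (nat_lit 186) (Step.U (nat_lit 153) (Step.B (nat_lit 32) (Step.D (nat_lit 185) (Step.D (nat_lit 209) Step.done))))) (Scr.cons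 (nat_lit 17) (nat_lit 1) (Step.U (nat_lit 213) (Step.U (nat_lit 189) (Step.F (nat_lit 18) (Step.D (nat_lit 161) (Step.B (nat_lit 28) (Step.B (nat_lit 31) (Step.B (nat_lit 33) (Step.D (nat_lit 232) Step.done)))))))) (Scr.cons (nat_lit 5) (nat_lit 1) (Step.U (nat_lit 53) (Step.D (nat_lit 52) (Step.D (nat_lit 81) Step.done))) (Scr.cons (nat_lit 7) (nat_lit 1) (Step.U (nat_lit 83) (Step.B (nat_lit 35) (Step.D (nat_lit 115) Step.done))) (Scr.cons (nat_lit 5) (nat_lit 1) (Step.U (nat_lit 117) (Step.B (nat_lit 36) (Step.D (nat_lit 155) Step.done))) (Scr.cons (nat_lit 17) (nat_lit 2) (Step.U (nat_lit 157) (Step.U (nat_lit 116) (Step.U (nat_lit 82) (Step.D (nat_lit 81) (Step.D (nat_lit 115) (Step.D (nat_lit 155) (Step.F (nat_lit 37) (Step.D (nat_lit 159) Step.done)))))))) (Scr.cons (nat_lit 8) (nat_lit 1) (Step.U (nat_lit 159) (Step.D (nat_lit 158) (Step.D (nat_lit 189) Step.done))) (Scr.cons (nat_lit 6) (nat_lit 1) (Step.U (nat_lit 212) (Step.F (nat_lit 15) (Step.B (nat_lit 38) (Step.B (nat_lit 39) (Step.D (nat_lit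 213) Step.done))))) (Scr.cons (nat_lit 8) (nat_lit 1) (Step.F (nat_lit 34) (Step.F (nat_lit 40) (Step.D (nat_lit 235) Step.done))) (Scr.cons (nat_lit 7) (nat_lit 1) (Step.U (nat_lit 169) (Step.D (nat_lit 168) (Step.D (nat_lit 196) Step.done))) t))))))))))))))))))))))))))))))))))))))))
noncomputable def s1 (t : Scr) : Scr := (Scr.cons (nat_lit 5) (nat_lit 1) (Step.U (nat_lit 197) (Step.B (nat_lit 42) (Step.D (nat_lit 220) Step.done))) (Scr.cons (nat_lit 8) (nat_lit 1) (Step.U (nat_lit 196) (Step.D (nat_lit 195) (Step.D (nat_lit 219) Step.done))) (Scr.cons (nat_lit 6) (nat_lit 0) (Step.U (nat_lit 240) (Step.U (nat_lit 220) (Step.B (nat_lit 44) (Step.D (nat_lit 239) (Step.D (nat_lit 253) Step.done))))) (Scr.cons (nat_lit 6) (nat_lit 0) (Step.U (nat_lit 21) (Step.L (Step.L (Step.D (nat_lit 20) (Step.D (nat_lit 36) Step.done))))) (Scr.cons (nat_lit 7) (nat_lit 1) (Step.U (nat_lit 39) (Step.D (nat_lit 38) (Step.D (nat_lit 62) Step.done))) (Scr.cons (nat_lit 5) (nat_lit 1) (Step.U (nat_lit 63) (Step.B (nat_lit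 47) (Step.D (nat_lit 95) Step.done))) (Scr.cons (nat_lit 17) (nat_lit 2) (Step.U (nat_lit 129) (Step.U (nat_lit 93) (Step.U (nat_lit 60) (Step.F (nat_lit 46) (Step.D (nat_lit 39) (Step.D (nat_lit 63) (Step.B (nat_lit 48) (Step.D (nat_lit 132) Step.done)))))))) (Scr.cons (nat_lit 7) (nat_lit 1) (Step.U (nat_lit 97) (Step.B (nat_lit 48) (Step.D (nat_lit 132) Step.done))) (Scr.cons (nat_lit 5) (nat_lit 1) (Step.B (nat_lit 49) (Step.F (nat_lit 50) (Step.D (nat_lit 135) Step.done))) (Scr.cons (nat_lit 8) (nat_lit 1) (Step.U (nat_lit 37) (Step.D (nat_lit 36) (Step.D (nat_lit 60) Step.done))) (Scr.cons (nat_lit 17) (nat_lit 2) (Step.U (nat_lit 37) (Step.U (nat_lit 20) (Step.L (Step.L (Step.L (Step.L (Step.L (Step.L Step.done)))))))) (Scr.cons (nat_lit 6) (nat_lit 1) (Step.U (nat_lit 93) (Step.F (nat_lit 52) (Step.B (nat_lit 53) (Step.L (Step.D (nat_lit 100) Step.done))))) (Scr.cons (nat_lit 8) (nat_lit 1) (Step.U (nat_lit 129) (Step.B (nat_lit 54) (Step.D (nat_lit 140) Step.done))) (Scr.cons (nat_lit 7) (nat_lit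 1) (Step.L (Step.D (nat_lit 64) (Step.D (nat_lit 99) Step.done))) (Scr.cons (nat_lit 5) (nat_lit 1) (Step.U (nat_lit 100) (Step.B (nat_lit 56) (Step.D (nat_lit 139) Step.done))) (Scr.cons (nat_lit 7) (nat_lit 1) (Step.U (nat_lit 140) (Step.B (nat_lit 57) (Step.D (nat_lit 175) Step.done))) (Scr.cons (nat_lit 17) (nat_lit 2) (Step.U (nat_lit 140) (Step.U (nat_lit 100) (Step.L (Step.L (Step.L (Step.D (nat_lit 100) (Step.B (nat_lit 57) (Step.D (nat_lit 175) Step.done)))))))) (Scr.cons (nat_lit 8) (nat_lit 1) (Step.U (nat_lit 132) (Step.D (nat_lit 131) (Step.D (nat_lit 169) Step.done))) (Scr.cons (nat_lit 6) (nat_lit 1) (Step.F (nat_lit 59) (Step.F (nat_lit 55) (Step.B (nat_lit 49) (Step.B (nat_lit 60) (Step.D (nat_lit 197) Step.done))))) (Scr.cons (nat_lit 4) (nat_lit 1) (Step.U (nat_lit 223) (Step.U (nat_lit 200) (Step.U (nat_lit 171) (Step.F (nat_lit 51) (Step.B (nat_lit 55) (Step.B (nat_lit 58) (Step.B (nat_lit 61) (Step.B (nat_lit 43) (Step.D (nat_lit 240) Step.done))))))))) (Scr.cons (nat_lit 5) (nat_lit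 1) (Step.F (nat_lit 45) (Step.F (nat_lit 62) (Step.D (nat_lit 242) Step.done))) (Scr.cons (nat_lit 7) (nat_lit 1) (Step.U (nat_lit 180) (Step.D (nat_lit 179) (Step.D (nat_lit 205) Step.done))) (Scr.cons (nat_lit 8) (nat_lit 1) (Step.U (nat_lit 148) (Step.D (nat_lit 147) (Step.D (nat_lit 180) Step.done))) (Scr.cons (nat_lit 8) (nat_lit 1) (Step.L (Step.D (nat_lit 21) (Step.D (nat_lit 39) Step.done))) (Scr.cons (nat_lit 6) (nat_lit 0) (Step.L (Step.L (Step.B (nat_lit 66) (Step.D (nat_lit 63) (Step.D (nat_lit 96) Step.done))))) (Scr.cons (nat_lit 8) (nat_lit 1) (Step.U (nat_lit 47) (Step.D (nat_lit 46) (Step.D (nat_lit 76) Step.done))) (Scr.cons (nat_lit 8) (nat_lit 1) (Step.L (Step.D (nat_lit 1) (Step.D (nat_lit 5) Step.done))) (Scr.cons (nat_lit 6) (nat_lit 0) (Step.L (Step.L (Step.B (nat_lit 69) (Step.D (nat_lit 11) (Step.D (nat_lit 17) Step.done))))) (Scr.cons (nat_lit 17) (nat_lit 2) (Step.U (nat_lit 35) (Step.U (nat_lit 19) (Step.L (Step.L (Step.L (Step.B (nat_lit 70) (Step.D (nat_lit 28) (Step.D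 (nat_lit 47) Step.done)))))))) (Scr.cons (nat_lit 6) (nat_lit 1) (Step.L (Step.L (Step.L (Step.L (Step.D (nat_lit 19) Step.done))))) (Scr.cons (nat_lit 8) (nat_lit 1) (Step.L (Step.B (nat_lit 72) (Step.D (nat_lit 35) Step.done))) (Scr.cons (nat_lit 6) (nat_lit 0) (Step.F (nat_lit 68) (Step.F (nat_lit 71) (Step.F (nat_lit 73) (Step.L (Step.D (nat_lit 61) Step.done))))) (Scr.cons (nat_lit 5) (nat_lit 1) (Step.U (nat_lit 75) (Step.D (nat_lit 74) (Step.D (nat_lit 108) Step.done))) (Scr.cons (nat_lit 17) (nat_lit 2) (Step.U (nat_lit 134) (Step.F (nat_lit 67) (Step.F (nat_lit 6) (Step.F (nat_lit 74) (Step.U (nat_lit 76) (Step.D (nat_lit 75) (Step.B (nat_lit 75) (Step.D (nat_lit 148) Step.done)))))))) (Scr.cons (nat_lit 8) (nat_lit 1) (Step.U (nat_lit 97) (Step.D (nat_lit 96) (Step.D (nat_lit 134) Step.done))) (Scr.cons (nat_lit 6) (nat_lit 0) (Step.F (nat_lit 65) (Step.F (nat_lit 76) (Step.F (nat_lit 77) (Step.D (nat_lit 135) (Step.D (nat_lit 171) Step.done))))) (Scr.cons (nat_lit 5) (nat_lit 0) (Step.F (nat_lit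 64) (Step.B (nat_lit 78) (Step.D (nat_lit 200) Step.done))) (Scr.cons (nat_lit 8) (nat_lit 1) (Step.U (nat_lit 205) (Step.D (nat_lit 204) (Step.D (nat_lit 230) Step.done))) (Scr.cons (nat_lit 6) (nat_lit 1) (Step.U (nat_lit 242) (Step.U (nat_lit 223) (Step.F (nat_lit 79) (Step.B (nat_lit 80) (Step.D (nat_lit 249) Step.done))))) (Scr.cons (nat_lit 5) (nat_lit 0) (Step.L (Step.B (nat_lit 70) (Step.D (nat_lit 28) Step.done))) t))))))))))))))))))))))))))))))))))))))))
noncomputable def s2 (t : Scr) : Scr := (Scr.cons (nat_lit 6) (nat_lit 1) (Step.U (nat_lit 51) (Step.L (Step.B (nat_lit 82) (Step.D (nat_lit 46) (Step.D (nat_lit 75) Step.done))))) (Scr.cons (nat_lit 4) (nat_lit 1) (Step.U (nat_lit 183) (Step.U (nat_lit 151) (Step.U (nat_lit 112) (Step.F (nat_lit 29) (Step.B (nat_lit 83) (Step.B (nat_lit 75) (Step.D (nat_lit 147) (Step.D (nat_lit 179) (Step.D (nat_lit 204) Step.done))))))))) (Scr.cons (nat_lit 5) (nat_lit 1) (Step.U (nat_lit 207) (Step.B (nat_lit 84) (Step.D (nat_lit 229) Step.done))) (Scr.cons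 (nat_lit 8) (nat_lit 1) (Step.U (nat_lit 228) (Step.D (nat_lit 227) (Step.D (nat_lit 247) Step.done))) (Scr.cons (nat_lit 8) (nat_lit 1) (Step.U (nat_lit 92) (Step.D (nat_lit 91) (Step.D (nat_lit 127) Step.done))) (Scr.cons (nat_lit 6) (nat_lit 0) (Step.U (nat_lit 165) (Step.U (nat_lit 128) (Step.B (nat_lit 87) (Step.D (nat_lit 164) (Step.D (nat_lit 192) Step.done))))) (Scr.cons (nat_lit 5) (nat_lit 0) (Step.U (nat_lit 38) (Step.B (nat_lit 46) (Step.D (nat_lit 59) Step.done))) (Scr.cons (nat_lit 17) (nat_lit 3) (Step.U (nat_lit 128) (Step.U (nat_lit 92) (Step.F (nat_lit 89) (Step.D (nat_lit 62) (Step.D (nat_lit 95) (Step.F (nat_lit 48) (Step.D (nat_lit 97) (Step.D (nat_lit 135) Step.done)))))))) (Scr.cons (nat_lit 8) (nat_lit 0) (Step.U (nat_lit 165) (Step.B (nat_lit 90) (Step.D (nat_lit 171) Step.done))) (Scr.cons (nat_lit 7) (nat_lit 1) (Step.U (nat_lit 5) (Step.D (nat_lit 4) (Step.D (nat_lit 10) Step.done))) (Scr.cons (nat_lit 5) (nat_lit 1) (Step.U (nat_lit 11) (Step.B (nat_lit 92) (Step.D (nat_lit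 16) Step.done))) (Scr.cons (nat_lit 4) (nat_lit 0) (Step.U (nat_lit 74) (Step.U (nat_lit 46) (Step.U (nat_lit 28) (Step.U (nat_lit 17) (Step.B (nat_lit 93) (Step.D (nat_lit 27) (Step.D (nat_lit 45) (Step.D (nat_lit 73) (Step.D (nat_lit 107) Step.done))))))))) (Scr.cons (nat_lit 6) (nat_lit 0) (Step.U (nat_lit 147) (Step.U (nat_lit 108) (Step.B (nat_lit 94) (Step.D (nat_lit 146) (Step.D (nat_lit 178) Step.done))))) (Scr.cons (nat_lit 17) (nat_lit 2) (Step.U (nat_lit 216) (Step.F (nat_lit 88) (Step.B (nat_lit 91) (Step.F (nat_lit 78) (Step.U (nat_lit 180) (Step.B (nat_lit 95) (Step.D (nat_lit 203) (Step.D (nat_lit 228) Step.done)))))))) (Scr.cons (nat_lit 8) (nat_lit 1) (Step.U (nat_lit 193) (Step.D (nat_lit 192) (Step.D (nat_lit 216) Step.done))) (Scr.cons (nat_lit 6) (nat_lit 0) (Step.F (nat_lit 86) (Step.F (nat_lit 96) (Step.F (nat_lit 97) (Step.D (nat_lit 217) (Step.D (nat_lit 237) Step.done))))) (Scr.cons (nat_lit 17) (nat_lit 3) (Step.U (nat_lit 34) (Step.L (Step.L (Step.L (Step.B (nat_lit 82) (Step.U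 (nat_lit 28) (Step.D (nat_lit 29) (Step.D (nat_lit 48) Step.done)))))))) (Scr.cons (nat_lit 8) (nat_lit 0) (Step.U (nat_lit 58) (Step.B (nat_lit 99) (Step.D (nat_lit 77) Step.done))) (Scr.cons (nat_lit 7) (nat_lit 0) (Step.U (nat_lit 89) (Step.B (nat_lit 100) (Step.D (nat_lit 111) Step.done))) (Scr.cons (nat_lit 8) (nat_lit 0) (Step.U (nat_lit 125) (Step.B (nat_lit 101) (Step.D (nat_lit 150) Step.done))) (Scr.cons (nat_lit 7) (nat_lit 1) (Step.U (nat_lit 60) (Step.D (nat_lit 59) (Step.D (nat_lit 92) Step.done))) (Scr.cons (nat_lit 5) (nat_lit 1) (Step.L (Step.L (Step.D (nat_lit 20) Step.done))) (Scr.cons (nat_lit 7) (nat_lit 1) (Step.L (Step.B (nat_lit 104) (Step.D (nat_lit 37) Step.done))) (Scr.cons (nat_lit 7) (nat_lit 1) (Step.U (nat_lit 29) (Step.D (nat_lit 28) (Step.D (nat_lit 47) Step.done))) (Scr.cons (nat_lit 5) (nat_lit 1) (Step.B (nat_lit 71) (Step.F (nat_lit 106) (Step.D (nat_lit 48) Step.done))) (Scr.cons (nat_lit 4) (nat_lit 1) (Step.F (nat_lit 87) (Step.F (nat_lit 103) (Step.F (nat_lit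 52) (Step.F (nat_lit 105) (Step.B (nat_lit 73) (Step.B (nat_lit 107) (Step.D (nat_lit 77) (Step.D (nat_lit 111) (Step.D (nat_lit 150) Step.done))))))))) (Scr.cons (nat_lit 5) (nat_lit 1) (Step.U (nat_lit 164) (Step.B (nat_lit 108) (Step.D (nat_lit 182) Step.done))) (Scr.cons (nat_lit 17) (nat_lit 3) (Step.U (nat_lit 215) (Step.U (nat_lit 191) (Step.U (nat_lit 162) (Step.B (nat_lit 102) (Step.D (nat_lit 182) (Step.F (nat_lit 109) (Step.D (nat_lit 193) (Step.D (nat_lit 217) Step.done)))))))) (Scr.cons (nat_lit 8) (nat_lit 0) (Step.U (nat_lit 236) (Step.B (nat_lit 110) (Step.D (nat_lit 237) Step.done))) (Scr.cons (nat_lit 8) (nat_lit 1) (Step.U (nat_lit 226) (Step.D (nat_lit 225) (Step.D (nat_lit 245) Step.done))) (Scr.cons (nat_lit 6) (nat_lit 0) (Step.U (nat_lit 58) (Step.U (nat_lit 34) (Step.B (nat_lit 24) (Step.D (nat_lit 55) (Step.D (nat_lit 85) Step.done))))) (Scr.cons (nat_lit 5) (nat_lit 0) (Step.U (nat_lit 89) (Step.B (nat_lit 113) (Step.D (nat_lit 120) Step.done))) (Scr.cons (nat_lit 8) (nat_lit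 1) (Step.U (nat_lit 18) (Step.D (nat_lit 17) (Step.D (nat_lit 29) Step.done))) (Scr.cons (nat_lit 6) (nat_lit 0) (Step.U (nat_lit 49) (Step.U (nat_lit 30) (Step.B (nat_lit 115) (Step.D (nat_lit 48) (Step.D (nat_lit 77) Step.done))))) (Scr.cons (nat_lit 5) (nat_lit 0) (Step.U (nat_lit 78) (Step.B (nat_lit 116) (Step.D (nat_lit 111) Step.done))) (Scr.cons (nat_lit 17) (nat_lit 3) (Step.U (nat_lit 26) (Step.U (nat_lit 15) (Step.U (nat_lit 9) (Step.D (nat_lit 10) (Step.D (nat_lit 16) (Step.F (nat_lit 93) (Step.D (nat_lit 18) (Step.D (nat_lit 30) Step.done)))))))) (Scr.cons (nat_lit 8) (nat_lit 0) (Step.U (nat_lit 44) (Step.B (nat_lit 118) (Step.D (nat_lit 49) Step.done))) (Scr.cons (nat_lit 7) (nat_lit 0) (Step.U (nat_lit 72) (Step.B (nat_lit 119) (Step.D (nat_lit 78) Step.done))) (Scr.cons (nat_lit 8) (nat_lit 1) (Step.U (nat_lit 15) (Step.D (nat_lit 14) (Step.D (nat_lit 25) Step.done))) (Scr.cons (nat_lit 6) (nat_lit 0) (Step.U (nat_lit 44) (Step.U (nat_lit 26) (Step.B (nat_lit 121) (Step.D (nat_lit 43)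 (Step.D (nat_lit 70) Step.done))))) t))))))))))))))))))))))))))))))))))))))))
noncomputable def s3 (t : Scr) : Scr := (Scr.cons (nat_lit 5) (nat_lit 0) (Step.U (nat_lit 72) (Step.B (nat_lit 122) (Step.D (nat_lit 104) Step.done))) (Scr.cons (nat_lit 17) (nat_lit 3) (Step.F (nat_lit 114) (Step.B (nat_lit 101) (Step.F (nat_lit 117) (Step.F (nat_lit 120) (Step.B (nat_lit 123) (Step.U (nat_lit 104) (Step.D (nat_lit 105) (Step.D (nat_lit 144) Step.done)))))))) (Scr.cons (nat_lit 8) (nat_lit 0) (Step.U (nat_lit 160) (Step.B (nat_lit 124) (Step.D (nat_lit 177) Step.done))) (Scr.cons (nat_lit 8) (nat_lit 1) (Step.U (nat_lit 71) (Step.D (nat_lit 70) (Step.D (nat_lit 105) Step.done))) (Scr.cons (nat_lit 6) (nat_lit 0) (Step.U (nat_lit 145) (Step.U (nat_lit 106) (Step.B (nat_lit 126) (Step.D (nat_lit 144) (Step.D (nat_lit 177) Step.done))))) (Scr.cons (nat_lit 4) (nat_lit 0) (Step.U (nat_lit 4) (Step.U (nat_lit 1) (Step.L (Step.L (Step.L (Step.L (Step.D (nat_lit 0) (Step.D (nat_lit 2) (Step.D (nat_lit 6) Step.done)))))))))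 (Scr.cons (nat_lit 6) (nat_lit 0) (Step.U (nat_lit 14) (Step.U (nat_lit 9) (Step.B (nat_lit 128) (Step.D (nat_lit 12) (Step.D (nat_lit 22) Step.done))))) (Scr.cons (nat_lit 5) (nat_lit 0) (Step.U (nat_lit 24) (Step.B (nat_lit 129) (Step.D (nat_lit 40) Step.done))) (Scr.cons (nat_lit 7) (nat_lit 1) (Step.U (nat_lit 25) (Step.D (nat_lit 24) (Step.D (nat_lit 42) Step.done))) (Scr.cons (nat_lit 5) (nat_lit 1) (Step.U (nat_lit 43) (Step.B (nat_lit 131) (Step.D (nat_lit 69) Step.done))) (Scr.cons (nat_lit 17) (nat_lit 3) (Step.U (nat_lit 102) (Step.U (nat_lit 66) (Step.F (nat_lit 130) (Step.D (nat_lit 42) (Step.D (nat_lit 69) (Step.F (nat_lit 132) (Step.D (nat_lit 71) (Step.D (nat_lit 106) Step.done)))))))) (Scr.cons (nat_lit 8) (nat_lit 0) (Step.U (nat_lit 142) (Step.B (nat_lit 133) (Step.D (nat_lit 145) Step.done))) (Scr.cons (nat_lit 8) (nat_lit 1) (Step.U (nat_lit 66) (Step.D (nat_lit 65) (Step.D (nat_lit 101) Step.done))) (Scr.cons (nat_lit 6) (nat_lit 0) (Step.U (nat_lit 142) (Step.U (nat_lit 102) (Step.B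 (nat_lit 135) (Step.D (nat_lit 141) (Step.D (nat_lit 176) Step.done))))) (Scr.cons (nat_lit 17) (nat_lit 2) (Step.U (nat_lit 214) (Step.U (nat_lit 190) (Step.B (nat_lit 125) (Step.F (nat_lit 127) (Step.F (nat_lit 134) (Step.B (nat_lit 136) (Step.D (nat_lit 202) (Step.D (nat_lit 226) Step.done)))))))) (Scr.cons (nat_lit 6) (nat_lit 1) (Step.U (nat_lit 162) (Step.U (nat_lit 125) (Step.B (nat_lit 114) (Step.D (nat_lit 160) (Step.D (nat_lit 190) Step.done))))) (Scr.cons (nat_lit 8) (nat_lit 1) (Step.U (nat_lit 191) (Step.B (nat_lit 138) (Step.D (nat_lit 214) Step.done))) (Scr.cons (nat_lit 6) (nat_lit 0) (Step.F (nat_lit 112) (Step.F (nat_lit 137) (Step.F (nat_lit 139) (Step.D (nat_lit 215) (Step.D (nat_lit 236) Step.done))))) (Scr.cons (nat_lit 10) (nat_lit 1) (Step.U (nat_lit 246) (Step.D (nat_lit 247) (Step.B (nat_lit 98) (Step.F (nat_lit 111) (Step.F (nat_lit 140) (Step.U (nat_lit 245) (Step.D (nat_lit 244) (Step.D (nat_lit 255) Step.done)))))))) (Scr.cons (nat_lit 5) (nat_lit 0) (Step.U (nat_lit 179)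 (Step.B (nat_lit 95) (Step.D (nat_lit 203) Step.done))) (Scr.cons (nat_lit 6) (nat_lit 1) (Step.U (nat_lit 229) (Step.U (nat_lit 204) (Step.B (nat_lit 142) (Step.D (nat_lit 227) (Step.D (nat_lit 246) Step.done))))) (Scr.cons (nat_lit 8) (nat_lit 1) (Step.F (nat_lit 141) (Step.F (nat_lit 143) (Step.D (nat_lit 248) Step.done))) (Scr.cons (nat_lit 5) (nat_lit 1) (Step.U (nat_lit 7) (Step.D (nat_lit 6) (Step.D (nat_lit 12) Step.done))) (Scr.cons (nat_lit 5) (nat_lit 0) (Step.U (nat_lit 0) (Step.L (Step.D (nat_lit 0) Step.done))) (Scr.cons (nat_lit 6) (nat_lit 1) (Step.U (nat_lit 7) (Step.U (nat_lit 2) (Step.F (nat_lit 146) (Step.D (nat_lit 2) (Step.D (nat_lit 7) Step.done))))) (Scr.cons (nat_lit 4) (nat_lit 1) (Step.U (nat_lit 65) (Step.U (nat_lit 40) (Step.U (nat_lit 22) (Step.F (nat_lit 145) (Step.F (nat_lit 147) (Step.B (nat_lit 145) (Step.D (nat_lit 22) (Step.D (nat_lit 40) (Step.D (nat_lit 65) Step.done))))))))) (Scr.cons (nat_lit 7) (nat_lit 1) (Step.U (nat_lit 101) (Step.F (nat_lit 148) (Step.D (nat_lit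 101) Step.done))) (Scr.cons (nat_lit 5) (nat_lit 1) (Step.U (nat_lit 141) (Step.F (nat_lit 149) (Step.D (nat_lit 141) Step.done))) (Scr.cons (nat_lit 4) (nat_lit 0) (Step.U (nat_lit 244) (Step.U (nat_lit 225) (Step.U (nat_lit 202) (Step.U (nat_lit 176) (Step.F (nat_lit 150) (Step.D (nat_lit 176) (Step.D (nat_lit 202) (Step.D (nat_lit 225) (Step.D (nat_lit 244) Step.done))))))))) (Scr.cons (nat_lit 6) (nat_lit 0) (Step.F (nat_lit 144) (Step.U (nat_lit 255) (Step.F (nat_lit 151) (Step.D (nat_lit 255) (Step.B (nat_lit 144) Step.done))))) (Scr.cons (nat_lit 17) (nat_lit 7) (Step.U (nat_lit 208) (Step.D (nat_lit 207) (Step.B (nat_lit 85) (Step.D (nat_lit 248) (Step.F (nat_lit 152) (Step.U (nat_lit 248) (Step.U (nat_lit 229) (Step.D (nat_lit 230) (Step.D (nat_lit 249) Step.done))))))))) (Scr.cons (nat_lit 8) (nat_lit 1) (Step.U (nat_lit 184) (Step.D (nat_lit 183) (Step.D (nat_lit 208) Step.done))) (Scr.cons (nat_lit 1) (nat_lit 0) (Step.B (nat_lit 81) (Step.F (nat_lit 153) (Step.F (nat_lit 154) Step.done)))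 (Scr.cons (nat_lit 7) (nat_lit 1) (Step.U (nat_lit 152) (Step.D (nat_lit 151) (Step.D (nat_lit 184) Step.done))) (Scr.cons (nat_lit 0) (nat_lit 0) (Step.B (nat_lit 63) (Step.B (nat_lit 155) (Step.F (nat_lit 156) Step.done))) (Scr.cons (nat_lit 2) (nat_lit 0) (Step.B (nat_lit 45) (Step.B (nat_lit 157) (Step.D (nat_lit 185) Step.done))) (Scr.cons (nat_lit 1) (nat_lit 0) (Step.D (nat_lit 240) (Step.B (nat_lit 158) (Step.D (nat_lit 209) Step.done))) (Scr.cons (nat_lit 0) (nat_lit 0) (Step.B (nat_lit 43) (Step.B (nat_lit 159) (Step.D (nat_lit 232) Step.done))) (Scr.cons (nat_lit 1) (nat_lit 0) (Step.F (nat_lit 41) (Step.F (nat_lit 160) (Step.F (nat_lit 61) Step.done))) (Scr.cons (nat_lit 3) (nat_lit 0) (Step.D (nat_lit 235) (Step.B (nat_lit 161) (Step.U (nat_lit 175) Step.done))) t))))))))))))))))))))))))))))))))))))))))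
noncomputable def s4 (t : Scr) : Scr := (Scr.cons (nat_lit 2) (nat_lit 0) (Step.D (nat_lit 212) (Step.B (nat_lit 162) (Step.U (nat_lit 139) Step.done))) (Scr.cons (nat_lit 8) (nat_lit 1) (Step.U (nat_lit 99) (Step.D (nat_lit 98) (Step.D (nat_lit 138) Step.done))) (Scr.cons (nat_lit 1) (nat_lit 0) (Step.B (nat_lit 15) (Step.B (nat_lit 163) (Step.B (nat_lit 164) Step.done))) (Scr.cons (nat_lit 7) (nat_lit 1) (Step.U (nat_lit 138) (Step.D (nat_lit 137) (Step.D (nat_lit 174) Step.done))) (Scr.cons (nat_lit 0) (nat_lit 0) (Step.B (nat_lit 14) (Step.B (nat_lit 165) (Step.B (nat_lit 166) Step.done))) (Scr.cons (nat_lit 8) (nat_lit 1) (Step.L (Step.D (nat_lit 31) (Step.D (nat_lit 54) Step.done))) (Scr.cons (nat_lit 6) (nat_lit 0) (Step.L (Step.L (Step.B (nat_lit 168) (Step.D (nat_lit 84) (Step.D (nat_lit 118) Step.done))))) (Scr.cons (nat_lit 5) (nat_lit 1) (Step.L (Step.L (Step.D (nat_lit 68) Step.done))) (Scr.cons (nat_lit 17) (nat_lit 3) (Step.F (nat_lit 169) (Step.L (Step.L (Step.L (Step.L (Step.B (nat_lit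 170) (Step.D (nat_lit 103) (Step.D (nat_lit 143) Step.done)))))))) (Scr.cons (nat_lit 8) (nat_lit 1) (Step.F (nat_lit 171) (Step.U (nat_lit 118) (Step.D (nat_lit 119) Step.done))) (Scr.cons (nat_lit 1) (nat_lit 0) (Step.B (nat_lit 11) (Step.F (nat_lit 167) (Step.F (nat_lit 172) Step.done))) (Scr.cons (nat_lit 2) (nat_lit 0) (Step.U (nat_lit 194) (Step.B (nat_lit 173) (Step.U (nat_lit 143) Step.done))) (Scr.cons (nat_lit 3) (nat_lit 0) (Step.U (nat_lit 218) (Step.B (nat_lit 174) (Step.U (nat_lit 103) Step.done))) (Scr.cons (nat_lit 2) (nat_lit 0) (Step.U (nat_lit 238) (Step.B (nat_lit 175) (Step.U (nat_lit 68) Step.done))) (Scr.cons (nat_lit 5) (nat_lit 1) (Step.U (nat_lit 167) (Step.D (nat_lit 166) (Step.D (nat_lit 194) Step.done))) (Scr.cons (nat_lit 17) (nat_lit 3) (Step.U (nat_lit 224) (Step.U (nat_lit 201) (Step.U (nat_lit 173) (Step.F (nat_lit 8) (Step.D (nat_lit 167) (Step.B (nat_lit 177) (Step.D (nat_lit 218) (Step.D (nat_lit 238) Step.done)))))))) (Scr.cons (nat_lit 8) (nat_lit 0) (Step.U (nat_lit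 243) (Step.B (nat_lit 178) (Step.D (nat_lit 252) Step.done))) (Scr.cons (nat_lit 5) (nat_lit 0) (Step.L (Step.B (nat_lit 67) (Step.D (nat_lit 133) Step.done))) (Scr.cons (nat_lit 6) (nat_lit 1) (Step.U (nat_lit 173) (Step.U (nat_lit 136) (Step.B (nat_lit 180) (Step.D (nat_lit 170) (Step.D (nat_lit 199) Step.done))))) (Scr.cons (nat_lit 8) (nat_lit 1) (Step.U (nat_lit 201) (Step.B (nat_lit 181) (Step.D (nat_lit 222) Step.done))) (Scr.cons (nat_lit 6) (nat_lit 0) (Step.U (nat_lit 243) (Step.U (nat_lit 224) (Step.B (nat_lit 182) (Step.D (nat_lit 241) (Step.D (nat_lit 254) Step.done))))) (Scr.cons (nat_lit 8) (nat_lit 1) (Step.U (nat_lit 80) (Step.B (nat_lit 83) (Step.D (nat_lit 110) Step.done))) (Scr.cons (nat_lit 6) (nat_lit 0) (Step.U (nat_lit 154) (Step.U (nat_lit 114) (Step.B (nat_lit 184) (Step.D (nat_lit 149) (Step.D (nat_lit 181) Step.done))))) (Scr.cons (nat_lit 5) (nat_lit 0) (Step.U (nat_lit 187) (Step.B (nat_lit 185) (Step.D (nat_lit 206) Step.done))) (Scr.cons (nat_lit 7) (nat_lit 1) (Step.U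 (nat_lit 76) (Step.D (nat_lit 74) (Step.D (nat_lit 109) Step.done))) (Scr.cons (nat_lit 5) (nat_lit 0) (Step.F (nat_lit 187) (Step.B (nat_lit 74) (Step.D (nat_lit 94) Step.done))) (Scr.cons (nat_lit 17) (nat_lit 3) (Step.F (nat_lit 180) (Step.F (nat_lit 7) (Step.F (nat_lit 188) (Step.U (nat_lit 109) (Step.D (nat_lit 108) (Step.F (nat_lit 75) (Step.D (nat_lit 110) (Step.D (nat_lit 149) Step.done)))))))) (Scr.cons (nat_lit 8) (nat_lit 0) (Step.U (nat_lit 170) (Step.B (nat_lit 189) (Step.D (nat_lit 181) Step.done))) (Scr.cons (nat_lit 7) (nat_lit 0) (Step.U (nat_lit 198) (Step.B (nat_lit 190) (Step.D (nat_lit 206) Step.done))) (Scr.cons (nat_lit 5) (nat_lit 1) (Step.U (nat_lit 199) (Step.D (nat_lit 198) (Step.D (nat_lit 221) Step.done))) (Scr.cons (nat_lit 17) (nat_lit 3) (Step.U (nat_lit 234) (Step.U (nat_lit 211) (Step.B (nat_lit 186) (Step.F (nat_lit 191) (Step.D (nat_lit 221) (Step.F (nat_lit 192) (Step.D (nat_lit 222) (Step.D (nat_lit 241) Step.done)))))))) (Scr.cons (nat_lit 8) (nat_lit 0) (Step.U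 (nat_lit 251) (Step.B (nat_lit 193) (Step.D (nat_lit 254) Step.done))) (Scr.cons (nat_lit 6) (nat_lit 1) (Step.U (nat_lit 233) (Step.U (nat_lit 210) (Step.B (nat_lit 186) (Step.D (nat_lit 231) (Step.D (nat_lit 250) Step.done))))) (Scr.cons (nat_lit 7) (nat_lit 1) (Step.U (nat_lit 110) (Step.B (nat_lit 75) (Step.D (nat_lit 148) Step.done))) (Scr.cons (nat_lit 5) (nat_lit 1) (Step.B (nat_lit 76) (Step.F (nat_lit 196) (Step.D (nat_lit 149) Step.done))) (Scr.cons (nat_lit 4) (nat_lit 1) (Step.F (nat_lit 44) (Step.F (nat_lit 42) (Step.F (nat_lit 60) (Step.F (nat_lit 50) (Step.B (nat_lit 77) (Step.B (nat_lit 197) (Step.D (nat_lit 181) (Step.D (nat_lit 206) (Step.D (nat_lit 231) Step.done))))))))) (Scr.cons (nat_lit 5) (nat_lit 1) (Step.U (nat_lit 239) (Step.B (nat_lit 198) (Step.D (nat_lit 250) Step.done))) (Scr.cons (nat_lit 1) (nat_lit 0) (Step.D (nat_lit 253) (Step.B (nat_lit 157) (Step.F (nat_lit 32) Step.done))) (Scr.cons (nat_lit 7) (nat_lit 1) (Step.U (nat_lit 80) (Step.B (nat_lit 29) (Step.D (nat_lit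 113) Step.done))) (Scr.cons (nat_lit 0) (nat_lit 0) (Step.F (nat_lit 199) (Step.B (nat_lit 200) (Step.F (nat_lit 201) Step.done))) t))))))))))))))))))))))))))))))))))))))))
noncomputable def s5 (t : Scr) : Scr := (Scr.cons (nat_lit 1) (nat_lit 0) (Step.B (nat_lit 195) (Step.B (nat_lit 202) (Step.B (nat_lit 184) Step.done))) (Scr.cons (nat_lit 2) (nat_lit 0) (Step.D (nat_lit 233) (Step.B (nat_lit 203) (Step.D (nat_lit 149) Step.done))) (Scr.cons (nat_lit 1) (nat_lit 0) (Step.D (nat_lit 210) (Step.B (nat_lit 204) (Step.D (nat_lit 181) Step.done))) (Scr.cons (nat_lit 3) (nat_lit 0) (Step.U (nat_lit 211) (Step.B (nat_lit 205) (Step.F (nat_lit 190) Step.done))) (Scr.cons (nat_lit 2) (nat_lit 0) (Step.U (nat_lit 234) (Step.B (nat_lit 206) (Step.D (nat_lit 199) Step.done))) (Scr.cons (nat_lit 1) (nat_lit 0) (Step.U (nat_lit 251) (Step.B (nat_lit 207) (Step.F (nat_lit 181) Step.done))) (Scr.cons (nat_lit 3) (nat_lit 0) (Step.F (nat_lit 194) (Step.B (nat_lit 208) (Step.D (nat_lit 201) Step.done))) (Scr.cons (nat_lit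 2) (nat_lit 0) (Step.B (nat_lit 183) (Step.B (nat_lit 209) (Step.D (nat_lit 224) Step.done))) (Scr.cons (nat_lit 3) (nat_lit 0) (Step.F (nat_lit 179) (Step.B (nat_lit 210) (Step.B (nat_lit 178) Step.done))) (Scr.cons (nat_lit 1) (nat_lit 0) (Step.D (nat_lit 252) (Step.B (nat_lit 211) Step.done)) (Scr.cons (nat_lit 1) (nat_lit 0) (Step.F (nat_lit 176) (Step.F (nat_lit 212) (Step.B (nat_lit 176) (Step.B (nat_lit 5) Step.done)))) (Scr.cons (nat_lit 1) (nat_lit 0) (Step.B (nat_lit 5) (Step.F (nat_lit 213) Step.done)) t))))))))))))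
noncomputable def scr : Scr := (s0 (s1 (s2 (s3 (s4 (s5 Scr.nil))))))
noncomputable def E : Ex := (Ex.cons (nat_lit 0) (nat_lit 0) (nat_lit 0) (Ex.cons (nat_lit 2) (nat_lit 0) (nat_lit 1) (Ex.cons (nat_lit 3) (nat_lit 0) (nat_lit 2) (Ex.cons (nat_lit 1) (nat_lit 112) (nat_lit 214) Ex.nil))))
noncomputable def nd : Nat := (nat_lit 256)
noncomputable def g : Nat := (nat_lit 3)

/-- letters of the group -/
def sub : List ℕ := [0, 1, 2, 3]
/-- letters of the subgroup -/
def sub' : List ℕ := [0, 2, 3]

/-- relators in the local letters -/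
def lrels : List Wd := [(Wd.pow (Wd.mul (Wd.g 0) (Wd.g 1)) 5),
  (Wd.pow (Wd.mul (Wd.g 0) (Wd.g 2)) 2),
  (Wd.pow (Wd.mul (Wd.g 1) (Wd.g 2)) 3),
  (Wd.pow (Wd.mul (Wd.g 0) (Wd.g 3)) 2),
  (Wd.pow (Wd.mul (Wd.g 1) (Wd.g 3)) 2),
  (Wd.pow (Wd.mul (Wd.g 2) (Wd.g 3)) 8),
  (Wd.mul (Wd.g 0) (Wd.inv (Wd.pow (Wd.mul (Wd.g 2) (Wd.g 3)) 4)))]

/-- periods -/
def pers : List ℕ := [2, 2, 2, 2, 2, 2, 9]

theorem c_relok : relOK rels lrels sub = true := by decide
theorem c_nets : netsCheck (2 ^ 8) nets = true := by decide +kernel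
theorem c_iv : ivK nets 8 ivI 4 = true := by decide +kernel
theorem c_full : fullInvK nets 135 4 = true := by decide +kernel
theorem c_len : lenK R 5 4 = true := by decide +kernel
theorem c_sym : symK nets ivI R 4 = true := by decide +kernel
theorem c_disj : disjK D 1 = true := by decide +kernel
theorem c_tree : treeK nets 8 D = true := by decide +kernel
theorem c_treelet : netLetK 4 D = true := by decide +kernel
theorem c_dtab : dtabK (2 ^ 8) nd DT = true := by decide +kernel
theorem c_given : ∀ j, j < 3 → eSrc (T.get j) = 0 ∧ eDst (T.get j) = 0 ∧ eLet (T.get j) < sub.length ∧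
  nthK 0 sub (eLet (T.get j)) ∈ sub' := by decide +kernel
theorem c_facts : factsK nets ivI R 4 135 (2 ^ 8) nd T DT ((lpats 4 lrels).map (fun W => (W.flat ivI).reverse)) 3 scr = true := by decide +kernel
theorem c_ex : exK nets R 4 T (3 + scr.len) E = true := by decide +kernel
theorem c_simdlet : simdLetK ivI 4 (lrels.zip pers) = true := by decide +kernel
theorem c_cover : force (2 ^ 8) (fun N => relsMDK nets ivI R N 3 5 ((lrels.zip pers).map (splitW ivI)) (exM E D) (fun ms => coverK nets ivI 135 ms 4)) = true := by decide +kernel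
theorem c_rels : relsD nets 8 3 ivI lrels = true := by decide +kernel

/-- the step of the chain -/
theorem step {G : Type*} [Group G] {x : ℕ → G} (hrels : ∀ W ∈ rels, W.eval x = 1) (hinv : ∀ c ∈ sub, x c * x c = 1)
    (hfin : Finite (LG x [0, 2, 3])) : Finite (LG x [0, 1, 2, 3]) ∧ Nat.card (LG x [0, 1, 2, 3]) ≤ 135 * Nat.card (LG x [0, 2, 3]) :=
  CosetChain.step hrels sub sub' pers c_relok hinv (by decide) (j := 3) (jk := 3) (P := 5) (D := D) (R := R)
    (scr := scr) (E := E) (T := T) (DT := DT) (nd := nd) (g := 3) (k := 8) (n := 135) rfl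
    c_nets (by norm_num) (by norm_num) (by norm_num) c_iv c_full c_len c_sym c_disj c_tree c_treelet c_dtab c_given
    (by decide) c_facts c_ex c_rels c_simdlet c_cover hfin

end Cfsg.Agent.Lib.SuzL3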