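import Cfsg.Agent.Lib.SuzRel
import Cfsg.Agent.Lib.CosetChain

set_option autoImplicit false
set_option linter.all false
set_option maxRecDepth 100000

namespace Cfsg.Agent.Lib.SuzL4
open Cfsg.Spor Cfsg.Agent.Lib.BenesPerm Cfsg.Agent.Lib.BenesAct Cfsg.Agent.Lib.BenesWord
open Cfsg.Agent.Lib.BenesPlane Cfsg.Agent.Lib.CosetClosure Cfsg.Agent.Lib.CosetFacts
open Cfsg.Agent.Lib.CosetMain Cfsg.Agent.Lib.CoxBridge Cfsg.Agent.Lib.CosetGroup Cfsg.Agent.Lib.CosetInst Cfsg.Agent.Lib.CosetInj
open Cfsg.Agent.Lib.BenesPack Cfsg.Agent.Lib.CosetPack Cfsg.Agent.Lib.CosetChain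
open Cfsg.Agent.Lib.SuzRel (rels)

noncomputable def m0_0 : Nat := (nat_lit 0x4001)
noncomputable def m0_1 : Nat := (nat_lit 0x3030)
noncomputable def m0_2 : Nat := (nat_lit 0xf0c)
noncomputable def m0_3 : Nat := (nat_lit 0x30)
noncomputable def m0_4 : Nat := (nat_lit 0x300)
noncomputable def m0_5 : Nat := (nat_lit 0x3030)
noncomputable def n0 : Net := (Net.cons (nat_lit 1) m0_0 (Net.cons (nat_lit 2) m0_1 (Net.cons (nat_lit 4) m0_2 (Net.cons (nat_lit 8) m0_3 (Net.cons (nat_lit 4) m0_4 (Net.cons (nat_lit 2) m0_5 Net.nil))))))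
noncomputable def m1_0 : Nat := (nat_lit 0x1110)
noncomputable def m1_1 : Nat := (nat_lit 0x1001)
noncomputable def m1_2 : Nat := (nat_lit 0xf0a)
noncomputable def m1_3 : Nat := (nat_lit 0x50)
noncomputable def m1_4 : Nat := (nat_lit 0x500)
noncomputable def m1_5 : Nat := (nat_lit 0x1110)
noncomputable def n1 : Net := (Net.cons (nat_lit 1) m1_0 (Net.cons (nat_lit 2) m1_1 (Net.cons (nat_lit 4) m1_2 (Net.cons (nat_lit 8) m1_3 (Net.cons (nat_lit 4) m1_4 (Net.cons (nat_lit 1) m1_5 Net.nil))))))
noncomputable def m2_0 : Nat := (nat_lit 0x505)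
noncomputable def m2_1 : Nat := (nat_lit 0x303)
noncomputable def m2_2 : Nat := (nat_lit 0xf06)
noncomputable def m2_3 : Nat := (nat_lit 0x90)
noncomputable def m2_4 : Nat := (nat_lit 0x900)
noncomputable def m2_5 : Nat := (nat_lit 0x3030)
noncomputable def m2_6 : Nat := (nat_lit 0x5050)
noncomputable def n2 : Net := (Net.cons (nat_lit 1) m2_0 (Net.cons (nat_lit 2) m2_1 (Net.cons (nat_lit 4) m2_2 (Net.cons (nat_lit 8) m2_3 (Net.cons (nat_lit 4) m2_4 (Net.cons (nat_lit 2) m2_5 (Net.cons (nat_lit 1) m2_6 Net.nil)))))))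
noncomputable def nets : List Net := [n0, n1, n2]

noncomputable def r0_0 : Nat := (nat_lit 0xd57c)
noncomputable def r0_1 : Nat := (nat_lit 0x3fc0)
noncomputable def r0 : List Nat := (List.cons r0_0 (List.cons r0_1 List.nil))
noncomputable def r1_0 : Nat := (nat_lit 0x6000)
noncomputable def r1_1 : Nat := (nat_lit 0x0)
noncomputable def r1 : List Nat := (List.cons r1_0 (List.cons r1_1 List.nil))
noncomputable def r2_0 : Nat := (nat_lit 0x0)
noncomputable def r2_1 : Nat := (nat_lit 0x9000)
noncomputable def r2 : List Nat := (List.cons r2_0 (List.cons r2_1 List.nil))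
noncomputable def R : List (List Nat) := (List.cons r0 (List.cons r1 (List.cons r2 List.nil)))
noncomputable def d2 : Nat := (nat_lit 0x6968)
noncomputable def d1 : Nat := (nat_lit 0x9694)
noncomputable def d0 : Nat := (nat_lit 0x2)
noncomputable def D : Net := (Net.cons (nat_lit 0) d0 (Net.cons (nat_lit 1) d1 (Net.cons (nat_lit 2) d2 Net.nil)))
noncomputable def Tp0 : Nat := (nat_lit 0x0)
noncomputable def T : Tr := (Tr.leaf Tp0)
noncomputable def DTp0 : Nat := (nat_lit 0x0)
noncomputable def DT : Tr := (Tr.leaf DTp0)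
noncomputable def scr : Scr := Scr.nil
noncomputable def E : Ex := Ex.nil
noncomputable def nd : Nat := (nat_lit 0)
noncomputable def g : Nat := (nat_lit 0)

/-- letters of the group -/
def sub : List ℕ := [0, 2, 3]
/-- letters of the subgroup -/
def sub' : List ℕ := []

/-- relators in the local letters -/
def lrels : List Wd := [(Wd.pow (Wd.mul (Wd.g 0) (Wd.g 1)) 2),
  (Wd.pow (Wd.mul (Wd.g 0) (Wd.g 2)) 2),
  (Wd.pow (Wd.mul (Wd.g 1) (Wd.g 2)) 8),
  (Wd.mul (Wd.g 0) (Wd.inv (Wd.pow (Wd.mul (Wd.g 1) (Wd.g 2)) 4)))]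

/-- periods -/
def pers : List ℕ := [2, 2, 2, 9]

theorem c_relok : relOK rels lrels sub = true := by decide
theorem c_nets : netsCheck (2 ^ 4) nets = true := by decide +kernel
theorem c_iv : ivK nets 4 ivI 3 = true := by decide +kernel
theorem c_full : fullInvK nets 16 3 = true := by decide +kernel
theorem c_len : lenK R 2 3 = true := by decide +kernel
theorem c_sym : symK nets ivI R 3 = true := by decide +kernel
theorem c_disj : disjK D 1 = true := by decide +kernel
theorem c_tree : treeK nets 4 D = true := by decide +kernel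
theorem c_treelet : netLetK 3 D = true := by decide +kernel
theorem c_dtab : dtabK (2 ^ 4) nd DT = true := by decide +kernel
theorem c_given : ∀ j, j < 0 → eSrc (T.get j) = 0 ∧ eDst (T.get j) = 0 ∧ eLet (T.get j) < sub.length ∧
  nthK 0 sub (eLet (T.get j)) ∈ sub' := by decide +kernel
theorem c_facts : factsK nets ivI R 3 16 (2 ^ 4) nd T DT ((lpats 3 lrels).map (fun W => (W.flat ivI).reverse)) 0 scr = true := by decide +kernel
theorem c_ex : exK nets R 3 T (0 + scr.len) E = true := by decide +kernel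
theorem c_simdlet : simdLetK ivI 3 (lrels.zip pers) = true := by decide +kernel
theorem c_cover : force (2 ^ 4) (fun N => relsMDK nets ivI R N 1 2 ((lrels.zip pers).map (splitW ivI)) (exM E D) (fun ms => coverK nets ivI 16 ms 3)) = true := by decide +kernel
theorem c_rels : relsD nets 4 2 ivI lrels = true := by decide +kernel

/-- the step of the chain -/
theorem step {G : Type*} [Group G] {x : ℕ → G} (hrels : ∀ W ∈ rels, W.eval x = 1) (hinv : ∀ c ∈ sub, x c * x c = 1)
    (hfin : Finite (LG x [])) : Finite (LG x [0, 2, 3]) ∧ Nat.card (LG x [0, 2, 3]) ≤ 16 * Nat.card (LG x []) :=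
  CosetChain.step hrels sub sub' pers c_relok hinv (by decide) (j := 1) (jk := 2) (P := 2) (D := D) (R := R)
    (scr := scr) (E := E) (T := T) (DT := DT) (nd := nd) (g := 0) (k := 4) (n := 16) rfl
    c_nets (by norm_num) (by norm_num) (by norm_num) c_iv c_full c_len c_sym c_disj c_tree c_treelet c_dtab c_given
    (by decide) c_facts c_ex c_rels c_simdlet c_cover hfin

end Cfsg.Agent.Lib.SuzL4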