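import Cfsg.Agent.Lib.CosetOrder
import Cfsg.Agent.Lib.SuzAIdx
import Cfsg.Agent.Lib.SuzL1
import Cfsg.Agent.Lib.SuzL2
import Cfsg.Agent.Lib.SuzL3
import Cfsg.Agent.Lib.SuzL4

set_option autoImplicit false
set_option linter.all false
set_option maxRecDepth 100000

namespace Cfsg.Agent.Lib.SuzOrd
open Cfsg.Spor Cfsg.Agent.Lib.BenesPerm Cfsg.Agent.Lib.BenesAct Cfsg.Agent.Lib.BenesWord
open Cfsg.Agent.Lib.BenesPlane Cfsg.Agent.Lib.CosetClosure Cfsg.Agent.Lib.CosetFacts
open Cfsg.Agent.Lib.CosetMain Cfsg.Agent.Lib.CoxBridge Cfsg.Agent.Lib.CosetGroup Cfsg.Agent.Lib.CosetInst Cfsg.Agent.Lib.CosetInj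
open Cfsg.Agent.Lib.BenesPack Cfsg.Agent.Lib.CosetPack Cfsg.Agent.Lib.CosetChain Cfsg.Agent.Lib.CosetOrder
open Cfsg.Agent.Lib.SuzRel Cfsg.Agent.Lib.SuzNetsA Cfsg.Agent.Lib.SuzA Cfsg.Agent.Lib.SuzAIdx

/-- strong generators of level 1 -/
def ws1 : List (List ℕ) := [[0], [1], [2], [3], [4], [5]]

/-- basic orbit 1 -/
noncomputable def B1 : ℕ := (nat_lit 0xc7ff80df3ffffffffff80ffffffffff7fff7fb1147fdff2ce7fdffffffffffffffffffffffffff987e18dffffbffffffffffffff7fe7e03f27c31757ffb73fff1c01c7dda79bf3ffffffffffffffffffffff8637e19ffeffdffffffffffffff8fc3f01f9ee3b8b1ffebf3bfffc0c03dc6fb2ffd9d7fffffffffffffff867fc5ff9fffffffffff187801fb8b8b9fe33afff30062b8bbdafffffffffe2fcbacfffffffdb8001c51772dafc6002eeeffffffcb96b3ffffe580045bbbbb00777ffffe596b7fffd802eee0effff2dbfff85dc6fff7fff96effffff7ffffffffffe)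
/-- steps -/
def st1 : List ℕ := [1, 0, 2, 5, 3, 1, 2, 4, 1, 5, 0, 3, 1, 2, 3, 1, 0, 5, 1, 2, 4, 5, 1, 3]

theorem b1_fix0 : invK nets ws1 (2 ^ 0) = true := by decide +kernel
theorem b1_inv : invK nets ws1 B1 = true := by decide +kernel
theorem b1_reach : reachK nets (stepsW ws1 st1) (2 ^ 1) (fun V => Nat.beq V B1) = true := by decide +kernel
theorem b1_lt : B1 < 2 ^ 2 ^ 11 := by decide +kernel
theorem b1_pop : popK 11 B1 = 1365 := by decide +kernel

/-- strong generators of level 2 -/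
def ws2 : List (List ℕ) := [[0], [2], [3], [4], [5], [1, 2, 3, 2, 5, 1, 2, 3, 0, 1, 2, 0, 1], [1, 2, 3, 2, 1, 3, 1, 2, 3, 2, 0, 1]]

/-- basic orbit 2 -/
noncomputable def B2 : ℕ := (nat_lit 0x6f00021fefbffffff8033f7fffffe77fe3fa1043ec170023fdfff5fffff7ffffffffffffffff983a0809ff98fffffffffffffd7fc1a00723c10703ffb03bbf040005dca48be3cfefffffffffffffffffff82026005fe7e50ffffffffffffd0f8090038ee1b8803febe3a7ffc0002dc63b21381d2ffdffffffffffff8017c07f8687fffffff81808017b8b8803e13a5ff100620880823c3ffffffe03c8a439fffff998001c41010423c200200021bfffc89080efffe48004400808000001bffe410817ffc0020000007ff2007ff040401ff07fb9020fefe70bff9dfefffc)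
/-- steps -/
def st2 : List ℕ := [0, 1, 4, 5, 1, 3, 5, 2, 3, 5, 1, 2, 5, 3, 5, 2, 1]

theorem b2_fix0 : invK nets ws2 (2 ^ 0) = true := by decide +kernel
theorem b2_fix1 : invK nets ws2 (2 ^ 1) = true := by decide +kernel
theorem b2_inv : invK nets ws2 B2 = true := by decide +kernel
theorem b2_reach : reachK nets (stepsW ws2 st2) (2 ^ 2) (fun V => Nat.beq V B2) = true := by decide +kernel
theorem b2_lt : B2 < 2 ^ 2 ^ 11 := by decide +kernel
theorem b2_pop : popK 11 B2 = 1024 := by decide +kernel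

/-- strong generators of level 3 -/
def ws3 : List (List ℕ) := [[3], [4], [1, 2, 3, 2, 1, 3, 1, 2, 3, 2, 0, 1], [0, 2, 3, 2, 1, 0, 2, 1, 0, 3, 2, 1, 5, 2, 3, 2, 1, 0]]

/-- basic orbit 3 -/
noncomputable def B3 : ℕ := (nat_lit 0x40000000080001ee060000000000000000010000000100004180815c80868300000000000300177281e8bfd9c01000000600010000000000000000004000000000020019450884644a440000000000000400364103fd1589400000003800080000000000000000000000000100000400244a13084ba000000000001223cc4480000001000000040000001000000000000004a50b8000000003694d808000000000000000000000002a380000003094000000000000000000288000001088000000000010000000000000000000000000000000000000000)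
/-- steps -/
def st3 : List ℕ := [0, 1, 3, 0, 3, 1, 3, 0, 3, 0, 1, 0]

theorem b3_fix0 : invK nets ws3 (2 ^ 0) = true := by decide +kernel
theorem b3_fix1 : invK nets ws3 (2 ^ 1) = true := by decide +kernel
theorem b3_fix2 : invK nets ws3 (2 ^ 2) = true := by decide +kernel
theorem b3_inv : invK nets ws3 B3 = true := by decide +kernel
theorem b3_reach : reachK nets (stepsW ws3 st3) (2 ^ 160) (fun V => Nat.beq V B3) = true := by decide +kernel
theorem b3_lt : B3 < 2 ^ 2 ^ 11 := by decide +kernel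
theorem b3_pop : popK 11 B3 = 180 := by decide +kernel

theorem full_lt : (2 ^ 1782 - 1 : ℕ) < 2 ^ 2 ^ 11 := by decide +kernel
theorem full_pop : popK 11 (2 ^ 1782 - 1) = 1782 := by decide +kernel
theorem union_eq : unionK [M0, M1] = 2 ^ 1782 - 1 := by decide +kernel
theorem z0 : Nat.testBit M0 0 = false := by decide +kernel
theorem t0_1 : Nat.testBit M0 47 = false := by decide +kernel
theorem z1 : Nat.testBit M1 0 = false := by decide +kernel
theorem t1_0 : Nat.testBit M1 1 = false := by decide +kernel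
theorem arith : ∀ I : Finset (Fin 2), (1 + ∑ i ∈ I, ([1365, 416] : List ℕ)[i.1]'(by have := i.2; simpa using this)) ∣ 1782 →
    (1 + ∑ i ∈ I, ([1365, 416] : List ℕ)[i.1]'(by have := i.2; simpa using this)) = 1 ∨
    (1 + ∑ i ∈ I, ([1365, 416] : List ℕ)[i.1]'(by have := i.2; simpa using this)) = 1782 := by decide +kernel

/-- element of order 11 -/
def v0 : Wd := (Wd.mul (Wd.mul (Wd.mul (Wd.mul (Wd.mul (Wd.g 1) (Wd.g 4)) (Wd.g 5)) (Wd.g 2)) (Wd.g 6)) (Wd.g 3))
/-- element of order 11 -/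
def v3 : Wd := (Wd.mul (Wd.mul (Wd.mul (Wd.mul (Wd.mul (Wd.mul (Wd.mul (Wd.mul (Wd.mul (Wd.g 2) (Wd.g 5)) (Wd.g 1)) (Wd.g 5)) (Wd.g 2)) (Wd.g 6)) (Wd.g 4)) (Wd.g 3)) (Wd.g 1)) (Wd.g 2))
theorem v_rels : relsD nets 11 4 iv [Wd.pow v0 11, Wd.pow (Wd.mul (Wd.g 0) v0) 11, Wd.pow v3 11, Wd.pow (Wd.mul (Wd.g 3) v3) 11] = true := by decide +kernel

theorem rel_eval' : ∀ W ∈ rels, W.eval (C.x HL) = 1 := rel_eval HL

theorem invol : ∀ c, c < 7 → C.x HL c * C.x HL c = 1 := (C.rel_x HL).2.2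

theorem bound5 : Finite (LG (C.x HL) []) ∧ Nat.card (LG (C.x HL) []) ≤ 1 := bot_bound _

theorem bound4 : Finite (LG (C.x HL) [0, 2, 3]) ∧ Nat.card (LG (C.x HL) [0, 2, 3]) ≤ 16 :=
  chain_bound (n := 16) (Cfsg.Agent.Lib.SuzL4.step rel_eval' (by intro c hc; apply invol; revert c hc; decide)) bound5 (by norm_num)

theorem bound3 : Finite (LG (C.x HL) [0, 1, 2, 3]) ∧ Nat.card (LG (C.x HL) [0, 1, 2, 3]) ≤ 2160 :=
  chain_bound (n := 135) (Cfsg.Agent.Lib.SuzL3.step rel_eval' (by intro c hc; apply invol; revert c hc; decide)) bound4 (by norm_num)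

theorem bound2 : Finite (LG (C.x HL) [0, 1, 2, 3, 4]) ∧ Nat.card (LG (C.x HL) [0, 1, 2, 3, 4]) ≤ 604800 :=
  chain_bound (n := 280) (Cfsg.Agent.Lib.SuzL2.step rel_eval' (by intro c hc; apply invol; revert c hc; decide)) bound3 (by norm_num)

theorem bound1 : Finite (LG (C.x HL) [0, 1, 2, 3, 4, 5]) ∧ Nat.card (LG (C.x HL) [0, 1, 2, 3, 4, 5]) ≤ 251596800 :=
  chain_bound (n := 416) (Cfsg.Agent.Lib.SuzL1.step rel_eval' (by intro c hc; apply invol; revert c hc; decide)) bound2 (by norm_num)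

theorem H_eq : Subgroup.closure (wset (C.x HL) WS) = LG (C.x HL) [0, 1, 2, 3, 4, 5] := rfl

/-- everything about the presented group -/
theorem main : IsSimpleGroup (CoxPresented Suz.Gen Suz.edges Suz.extra) ∧ Nat.card (CoxPresented Suz.Gen Suz.edges Suz.extra) = 448345497600 ∧
    ∃ (φ : (CoxPresented Suz.Gen Suz.edges Suz.extra) →* Equiv.Perm ℕ), (∀ c, φ (C.x HL c) = sperm nets c) ∧ Function.Injective φ ∧
      ∀ g, (∀ b ∈ [160, 2, 1, 0], φ g b = b) → g = 1 := by
  have hgen := C.closure_letters HL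
  obtain ⟨φ, hφ⟩ := phi_exists
  obtain ⟨f, hf0, hf⟩ := map_exists _ rfl
  have hc := cert_full (k := 11) (n := 1782) (nc := 7) c_nets hφ x_iv hgen (by norm_num)
    c_full WS c_fix steps0 c_inv0 c_reach0 _ rfl f hf0 hf
  have hc' := cert_index (k := 11) (n := 1782) (nc := 7) c_nets hφ x_iv hgen (by norm_num) (by norm_num)
    c_full WS c_fix steps0 c_inv0 c_reach0 _ rfl f hf0 hf
  obtain ⟨hidx, heq, hpres, hfinj, horb, hfix, hfsurj⟩ := hc
  have hGU := index_bound (n := 1782) (V := 448345497600) hidx (by norm_num) H_eq bound1 (by norm_num)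
  obtain ⟨hG, hcU⟩ := hGU
  have hfr : Finite φ.range := Finite.of_surjective _ φ.rangeRestrict_surjective
  have hw : ∀ w : List ℕ, (w.map (sperm nets)).prod ∈ φ.range := fun w => word_mem_range hφ w
  have e0 : 1782 * Nat.card (stabs φ.range [0]) ≤ Nat.card φ.range :=
    level c_nets hfr hw [] ((letterW 7).map (Wd.flat iv)) (by intro b hb; exact absurd hb (by simp)) full_lt steps0 c_inv0 c_reach0 full_pop
  have lv1 : 1365 * Nat.card (stabs φ.range [1, 0]) ≤ Nat.card (stabs φ.range [0]) :=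
    level c_nets hfr hw [0] ws1 (by
      intro b hb
      simp only [List.mem_cons, List.not_mem_nil, or_false] at hb
      rcases hb with rfl
      · exact b1_fix0) b1_lt st1 b1_inv b1_reach b1_pop
  have e1 : 2432430 * Nat.card (stabs φ.range [1, 0]) ≤ Nat.card φ.range := level_trans e0 lv1 (by norm_num)
  have lv2 : 1024 * Nat.card (stabs φ.range [2, 1, 0]) ≤ Nat.card (stabs φ.range [1, 0]) :=
    level c_nets hfr hw [1, 0] ws2 (by
      intro b hb
      simp only [List.mem_cons, List.not_mem_nil, or_false] at hb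
      rcases hb with rfl | rfl
      · exact b2_fix1
      · exact b2_fix0) b2_lt st2 b2_inv b2_reach b2_pop
  have e2 : 2490808320 * Nat.card (stabs φ.range [2, 1, 0]) ≤ Nat.card φ.range := level_trans e1 lv2 (by norm_num)
  have lv3 : 180 * Nat.card (stabs φ.range [160, 2, 1, 0]) ≤ Nat.card (stabs φ.range [2, 1, 0]) :=
    level c_nets hfr hw [2, 1, 0] ws3 (by
      intro b hb
      simp only [List.mem_cons, List.not_mem_nil, or_false] at hb
      rcases hb with rfl | rfl | rfl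
      · exact b3_fix2
      · exact b3_fix1
      · exact b3_fix0) b3_lt st3 b3_inv b3_reach b3_pop
  have e3 : 448345497600 * Nat.card (stabs φ.range [160, 2, 1, 0]) ≤ Nat.card φ.range := level_trans e2 lv3 (by norm_num)
  obtain ⟨hcard, hinj, hbase⟩ := order_of_bounds φ hG (U := 448345497600) hcU e3
  refine ⟨?_, hcard, φ, hφ, hinj, hbase⟩
  have hev : ∀ W ∈ [Wd.pow v0 11, Wd.pow (Wd.mul (Wd.g 0) v0) 11, Wd.pow v3 11, Wd.pow (Wd.mul (Wd.g 3) v3) 11], W.eval (C.x HL) = 1 := fun W hW =>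
    eval_eq_one hinj c_nets x_iv hφ (relK_of_relsD c_nets v_rels W hW)
  apply simple_order (nc := 7) (n := 1782) (U := 448345497600) (p := 11) (h := 251596800) (φ := φ) (bs := [160, 2, 1, 0])
    (H := Subgroup.closure (wset (C.x HL) WS)) hgen hcard hG (by norm_num) hidx hfix horb (by decide) hbase
    ?_ (by norm_num) (by norm_num) (by norm_num) (by norm_num)
  · intro N hN hpN
    have n0 : C.x HL 0 ∈ N := mem_of_pow hpN (p := 11) (b := Wd.eval (C.x HL) v0)
      (hev (Wd.pow v0 11) (by simp)) (hev (Wd.pow (Wd.mul (Wd.g 0) v0) 11) (by simp))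
    have n3 : C.x HL 3 ∈ N := mem_of_pow hpN (p := 11) (b := Wd.eval (C.x HL) v3)
      (hev (Wd.pow v3 11) (by simp)) (hev (Wd.pow (Wd.mul (Wd.g 3) v3) 11) (by simp))
    have n1 : C.x HL 1 ∈ N := mem_of_odd hN (invol 1 (by norm_num)) (m := 5) (by norm_num) (rel_eval' (Wd.pow (Wd.mul (Wd.g 0) (Wd.g 1)) 5) (by decide)) n0
    have n4 : C.x HL 4 ∈ N := mem_of_odd hN (invol 4 (by norm_num)) (m := 3) (by norm_num) (rel_eval' (Wd.pow (Wd.mul (Wd.g 3) (Wd.g 4)) 3) (by decide)) n3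
    have n2 : C.x HL 2 ∈ N := mem_of_odd hN (invol 2 (by norm_num)) (m := 3) (by norm_num) (rel_eval' (Wd.pow (Wd.mul (Wd.g 1) (Wd.g 2)) 3) (by decide)) n1
    have n5 : C.x HL 5 ∈ N := mem_of_odd hN (invol 5 (by norm_num)) (m := 3) (by norm_num) (rel_eval' (Wd.pow (Wd.mul (Wd.g 1) (Wd.g 5)) 3) (by decide)) n1
    have n6 : C.x HL 6 ∈ N := mem_of_odd hN (invol 6 (by norm_num)) (m := 3) (by norm_num) (rel_eval' (Wd.pow (Wd.mul (Wd.g 1) (Wd.g 6)) 3) (by decide)) n1
    intro c hc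
    interval_cases c
    · exact n0
    · exact n1
    · exact n2
    · exact n3
    · exact n4
    · exact n5
    · exact n6
  · refine maximal_of_block hidx (by norm_num) (r := 2) (fun i => ([1365, 416] : List ℕ)[i.1]'(by have := i.2; simpa using this)) ?_ arith
    intro K hK
    refine block_of_masks (by norm_num) f hf0 hfinj hfsurj [1, 47] [M0, M1] [1365, 416] rfl rfl ?_ ?_ union_eq ?_ ?_ K hK
    · decide
    · intro i
      fin_cases i
      · have h2 := hc'.2 1 M0 l0 (by norm_num) o0_lt o0_inv o0_reach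
        exact ⟨h2.1, h2.2.trans o0_pop⟩
      · have h2 := hc'.2 47 M1 l1 (by norm_num) o1_lt o1_inv o1_reach
        exact ⟨h2.1, h2.2.trans o1_pop⟩
    · intro i j h
      fin_cases i <;> fin_cases j
      · rfl
      · exact absurd (h.symm.trans t1_0) (by decide)
      · exact absurd (h.symm.trans t0_1) (by decide)
      · rfl
    · intro i
      fin_cases i
      · exact z0
      · exact z1

end Cfsg.Agent.Lib.SuzOrd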