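import Cfsg.Agent.Lib.SuzOut79
import Cfsg.Agent.Lib.LaneOut79b

/-! The outer automorphism group of the Suzuki group has order 2 (helper79). -/

set_option autoImplicit false
set_option maxRecDepth 100000
set_option exponentiation.threshold 5000

namespace Cfsg.Agent.Lib.SuzOut79
open Cfsg Cfsg.Spor
open Cfsg.Agent.Lib.BenesPerm Cfsg.Agent.Lib.BenesAct Cfsg.Agent.Lib.BenesWord Cfsg.Agent.Lib.BenesPack
open Cfsg.Agent.Lib.TransLanes Cfsg.Agent.Lib.LaneTools Cfsg.Agent.Lib.LaneOut79
open Cfsg.Agent.Lib.SuzRel Cfsg.Agent.Lib.SuzNetsA Cfsg.Agent.Lib.SuzAIdx Cfsg.Agent.Lib.SuzA Cfsg.Agent.Lib.SuzOrd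
open Cfsg.Agent.Lib.CoxBridge Cfsg.Agent.Lib.CosetGroup Cfsg.Agent.Lib.CosetInj Cfsg.Agent.Lib.CosetOrder
open Cfsg.Agent.Lib.CosetChain

/-- the group -/
abbrev G : Type := CoxPresented Suz.Gen Suz.edges Suz.extra

/-- the letters -/
noncomputable abbrev x : ℕ → G := C.x HL

theorem tabs_ok : TabsOK nets 11 7 tabs := by
  intro c hc
  interval_cases c
  · exact tb0_ok
  · exact tb1_ok
  · exact tb2_ok
  · exact tb3_ok
  · exact tb4_ok
  · exact tb5_ok
  · exact tb6_ok

theorem pt {w : List ℕ} {i j : ℕ} (h : ptT tabs 7 w i j = true) (hi : i < 2048 := by norm_num) : wfn nets w i = j :=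
  ptT_spec (k := 11) c_nets tabs_ok (by norm_num; exact hi) h

theorem gen_top (P : Subgroup G) (h : ∀ c < 7, x c ∈ P) : P = ⊤ := by
  rw [eq_top_iff, ← C.closure_letters HL, Subgroup.closure_le]
  rintro g ⟨w, hw, rfl⟩
  obtain ⟨c, hc, rfl⟩ := List.mem_map.mp hw
  exact h c (List.mem_range.mp hc)

theorem M0_lt : M0 < 2 ^ 1782 := by decide +kernel
theorem M1_lt : M1 < 2 ^ 1782 := by decide +kernel

/-- the setting -/
theorem setting : Nat.card G = 448345497600 ∧ ∃ φ : G →* Equiv.Perm ℕ,
    LaneOut79.Ctx x φ nets 11 1782 iv Ms ∧ Function.Injective φ ∧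
    (∀ g, (∀ b ∈ [160, 2, 1, 0], φ g b = b) → g = 1) ∧
    (∀ g, (∀ b ∈ [2, 1, 0], φ g b = b) → ∀ q, B3.testBit (φ g q) = B3.testBit q) := by
  obtain ⟨-, hcard, φ, hφ, hinj, hbase⟩ := Cfsg.Agent.Lib.SuzOrd.main
  have hgen := C.closure_letters HL
  obtain ⟨f, hf0, hf⟩ := map_exists _ rfl
  have hc := cert_full (k := 11) (n := 1782) (nc := 7) c_nets hφ x_iv hgen (by norm_num)
    c_full WS c_fix steps0 c_inv0 c_reach0 _ rfl f hf0 hf
  have hc' := cert_index (k := 11) (n := 1782) (nc := 7) c_nets hφ x_iv hgen (by norm_num) (by norm_num)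
    c_full WS c_fix steps0 c_inv0 c_reach0 _ rfl f hf0 hf
  obtain ⟨hidx, heq, hlt, hfinj, horb, hfix, hfsurj⟩ := hc
  refine ⟨hcard, φ, ⟨c_nets, hφ, x_iv, by norm_num, by norm_num, hlt, ?_⟩, hinj, hbase, ?_⟩
  · intro M hM g hg q hq
    have hgH := mem_of_fix (by norm_num) hf0 heq g hg
    simp only [Ms, List.mem_cons, List.not_mem_nil, or_false] at hM
    rcases hM with rfl | rfl
    · exact mask_inv heq hlt hfinj (hc'.2 1 M0 l0 (by norm_num) o0_lt o0_inv o0_reach).1 (bits_lt M0_lt) hgH hq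
    · exact mask_inv heq hlt hfinj (hc'.2 47 M1 l1 (by norm_num) o1_lt o1_inv o1_reach).1 (bits_lt M1_lt) hgH hq
  · have hG : Finite G := Nat.finite_of_card_ne_zero (by rw [hcard]; norm_num)
    have hfr : Finite φ.range := Finite.of_surjective _ φ.rangeRestrict_surjective
    have hw : ∀ w : List ℕ, (w.map (sperm nets)).prod ∈ φ.range := fun w => word_mem_range hφ w
    have e0 : 1782 * Nat.card (stabs φ.range [0]) ≤ Nat.card φ.range :=
      level c_nets hfr hw [] ((letterW 7).map (Wd.flat iv)) (by intro b hb; exact absurd hb (by simp)) full_lt steps0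
        c_inv0 c_reach0 full_pop
    have lv1 : 1365 * Nat.card (stabs φ.range [1, 0]) ≤ Nat.card (stabs φ.range [0]) :=
      level c_nets hfr hw [0] ws1 (by
        intro b hb
        simp only [List.mem_cons, List.not_mem_nil, or_false] at hb
        rcases hb with rfl
        · exact b1_fix0) b1_lt st1 b1_inv b1_reach b1_pop
    have e1 : 2432430 * Nat.card (stabs φ.range [1, 0]) ≤ Nat.card φ.range := level_trans e0 lv1 (by norm_num)
    have lv2 : 1024 * Nat.card (stabs φ.range [2, 1, 0]) ≤ Nat.card (stabs φ.range [1, 0]) :=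
      level c_nets hfr hw [1, 0] ws2 (by
        intro b hb
        simp only [List.mem_cons, List.not_mem_nil, or_false] at hb
        rcases hb with rfl | rfl
        · exact b2_fix1
        · exact b2_fix0) b2_lt st2 b2_inv b2_reach b2_pop
    have e2 : 2490808320 * Nat.card (stabs φ.range [2, 1, 0]) ≤ Nat.card φ.range := level_trans e1 lv2 (by norm_num)
    have h1 : Nat.card φ.range ≤ Nat.card G := Nat.card_le_card_of_surjective _ φ.rangeRestrict_surjective
    have hle : Nat.card (stabs φ.range [2, 1, 0]) ≤ 180 := by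
      have h2 : 2490808320 * Nat.card (stabs φ.range [2, 1, 0]) ≤ 2490808320 * 180 := by
        refine le_trans e2 (le_trans h1 ?_)
        rw [hcard]
      exact Nat.le_of_mul_le_mul_left h2 (by norm_num)
    intro g hg q
    exact stabs_mask c_nets hfr hw [2, 1, 0] ws3 (by
      intro b hb
      simp only [List.mem_cons, List.not_mem_nil, or_false] at hb
      rcases hb with rfl | rfl | rfl
      · exact b3_fix2
      · exact b3_fix1
      · exact b3_fix0) b3_lt st3 b3_inv b3_reach b3_pop hle (g := φ g) (mem_stabs.mpr ⟨⟨g, rfl⟩, hg⟩) q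

section

variable {φ : G →* Equiv.Perm ℕ} (K : LaneOut79.Ctx x φ nets 11 1782 iv Ms) (hinj : Function.Injective φ)
  (hbase : ∀ g, (∀ b ∈ [160, 2, 1, 0], φ g b = b) → g = 1)
  (hB : ∀ g, (∀ b ∈ [2, 1, 0], φ g b = b) → ∀ q, B3.testBit (φ g q) = B3.testBit q)
include K

theorem φpt {w : List ℕ} {i j : ℕ} (h : ptT tabs 7 w i j = true) (hi : i < 2048 := by norm_num) :
    φ (Wx x w) i = j := by
  rw [K.φ_word]; exact pt h hi

/-- an element commuting with `X` fixes lane 0 -/
theorem fix0 (c : G) (hc : c * Wx x X = Wx x X * c) : φ c 0 = 0 := by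
  have h1 : φ (Wx x X) (φ c 0) = φ c 0 := by
    have h2 : φ (Wx x X) 0 = 0 := φpt K X_fix0
    rw [← Equiv.Perm.mul_apply, ← map_mul, ← hc, map_mul, Equiv.Perm.mul_apply, h2]
  rw [K.φ_word] at h1
  have h2 := (fixOK_spec (i := φ c 0) K.hns K.hn fixX (K.hlt c 0 K.h0)).2 h1
  by_contra hne
  have h3 : (1 : ℕ).testBit (φ c 0) = false := Nat.testBit_lt_two_pow (by
    have : 1 ≤ φ c 0 := Nat.one_le_iff_ne_zero.2 hne
    calc 1 < 2 ^ 1 := by norm_num
      _ ≤ 2 ^ φ c 0 := Nat.pow_le_pow_right (by norm_num) this)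
  rw [h3] at h2
  exact absurd h2 (by simp)

theorem fixU_mem (l : ℕ) (hl : l < 1782) (h : φ (Wx x U) l = l) : l ∈ [0, 555, 686, 1402, 1442, 1510] := by
  rw [K.φ_word] at h
  rw [← bitsK_spec]
  exact (fixOK_spec (i := l) K.hns K.hn fixU hl).2 h

include hbase in
/-- the centralizer of `X` -/
theorem centX (c : G) (hc : c * Wx x X = Wx x X * c) : c ∈ Subgroup.zpowers (Wx x X) := by
  refine K.step_cyc (tb := t155) (b := 155) (e := 13) (L := [(0, 0, 1)]) (reps := reps1) (M := M1) (pt t155_pt) bit1 sub1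
    cov1 (Subgroup.mem_zpowers _) (φpt K X_fix0) ?_ ?_ c hc (fix0 K c hc)
  · intro r hr hne c hc hcb
    have h1 : r ∈ (155 :: mis1.map (fun e => e.2.1)) := by
      rw [← bitsK_spec, Nat.eq_of_beq_eq_true mis1_cov, bitsK_spec]; exact hr
    rcases List.mem_cons.1 h1 with h1 | h1
    · exact hne h1
    · obtain ⟨e, he, her⟩ := List.mem_map.1 h1
      obtain ⟨h2, h3, h4, h5⟩ := misT_spec mis1_ok e he
      refine K.excl_mis hc (tb := t155) (tr := e.1) ?_ (pt h3) (pt h4) h5
      rw [K.φ_word, K.φ_word, pt t155_pt, pt h2, hcb, her]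
  · intro c hc hF
    have h1 : φ c 1 = 1 := K.pin hc hF X1_pin
    have hF' : Fx x φ c [t155, t1] := by
      refine ⟨hF.1, fun t ht => ?_⟩
      simp only [List.mem_cons, List.not_mem_nil, or_false] at ht
      rcases ht with rfl | rfl
      · exact hF.2 _ (by simp)
      · rw [φpt K t1_pt, h1]
    have : c = 1 := by
      apply hbase
      intro b hb
      simp only [List.mem_cons, List.not_mem_nil, or_false] at hb
      rcases hb with rfl | rfl | rfl | rfl
      · exact K.pin hc hF' pinX_160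
      · exact K.pin hc hF' pinX_2
      · exact h1
      · exact hF.1
    rw [this]; exact Subgroup.one_mem _

include hinj in
theorem UD_comm : Wx x D * Wx x U = Wx x U * Wx x D := by
  have := K.eq_of_rel hinj relUD
  rw [Wx_append, Wx_append] at this
  exact this.symm

include hinj in
theorem U_pow : Wx x U ^ 6 = 1 := by
  rw [← Wx_wpow]; exact K.one_of_rel hinj relU6

include hinj in
theorem D_sq : Wx x D ^ 2 = 1 := by
  have := K.one_of_rel hinj relD2
  rwa [Wx_append, ← pow_two] at this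

/-- the abelian group `⟨U, D⟩` -/
def KE : Subgroup G := Subgroup.closure {Wx x U, Wx x D}

include hinj in
theorem mem_KE {c : G} (hc : c ∈ KE) : ∃ i < 6, ∃ j < 2, c = Wx x U ^ i * Wx x D ^ j := by
  have hcomm : Commute (Wx x D) (Wx x U) := UD_comm K hinj
  have h1 : ∃ i j : ℕ, c = Wx x U ^ i * Wx x D ^ j := by
    unfold KE at hc
    induction hc using Subgroup.closure_induction with
    | mem y hy =>
      rcases hy with rfl | hy
      · exact ⟨1, 0, by simp⟩
      · exact ⟨0, 1, by rw [Set.mem_singleton_iff.1 hy]; simp⟩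
    | one => exact ⟨0, 0, by simp⟩
    | mul a b _ _ ha hb =>
      obtain ⟨i, j, rfl⟩ := ha
      obtain ⟨i', j', rfl⟩ := hb
      refine ⟨i + i', j + j', ?_⟩
      have h2 : Wx x D ^ j * Wx x U ^ i' = Wx x U ^ i' * Wx x D ^ j := (hcomm.pow_pow j i').eq
      calc Wx x U ^ i * Wx x D ^ j * (Wx x U ^ i' * Wx x D ^ j') =
          Wx x U ^ i * (Wx x D ^ j * Wx x U ^ i') * Wx x D ^ j' := by simp only [mul_assoc]
        _ = _ := by rw [h2, pow_add, pow_add]; simp only [mul_assoc]
    | inv a _ ha =>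
      obtain ⟨i, j, rfl⟩ := ha
      refine ⟨5 * i, 5 * j, ?_⟩
      have h2 : Commute (Wx x U ^ i) (Wx x D ^ j) := (hcomm.symm.pow_pow i j)
      have h3 : (Wx x U ^ i * Wx x D ^ j) ^ 6 = 1 := by
        rw [h2.mul_pow, ← pow_mul, ← pow_mul, mul_comm i 6, mul_comm j 6, pow_mul, U_pow K hinj, one_pow,
          show 6 * j = 2 * (3 * j) by ring, pow_mul, D_sq K hinj, one_pow, mul_one]
      rw [inv_eq_iff_mul_eq_one]
      calc Wx x U ^ i * Wx x D ^ j * (Wx x U ^ (5 * i) * Wx x D ^ (5 * j))
          = (Wx x U ^ i * Wx x D ^ j) * (Wx x U ^ i * Wx x D ^ j) ^ 5 := by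
            rw [h2.mul_pow, ← pow_mul, ← pow_mul, mul_comm i 5, mul_comm j 5]
        _ = 1 := by rw [← pow_succ', h3]
  obtain ⟨i, j, rfl⟩ := h1
  refine ⟨i % 6, Nat.mod_lt _ (by norm_num), j % 2, Nat.mod_lt _ (by norm_num), ?_⟩
  rw [← pow_eq_pow_mod i (U_pow K hinj), ← pow_eq_pow_mod j (D_sq K hinj)]

omit K in
theorem U_mem : Wx x U ∈ KE := Subgroup.subset_closure (by simp)
omit K in
theorem D_mem : Wx x D ∈ KE := Subgroup.subset_closure (by simp)

include hinj in
theorem Ws1_ok (i j : ℕ) : Wx x (wpow U i ++ wpow D j) ∈ KE ∧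
    Wx x (wpow U i ++ wpow D j) * Wx x U = Wx x U * Wx x (wpow U i ++ wpow D j) ∧
    φ (Wx x (wpow U i ++ wpow D j)) 0 = 0 ∧ φ (Wx x (wpow U i ++ wpow D j)) 686 = 686 := by
  have hcomm : Commute (Wx x D) (Wx x U) := UD_comm K hinj
  rw [Wx_append, Wx_wpow, Wx_wpow]
  refine ⟨KE.mul_mem (KE.pow_mem U_mem i) (KE.pow_mem D_mem j), ?_, ?_, ?_⟩
  · exact (((Commute.refl (Wx x U)).pow_left i).mul_left (hcomm.pow_left j)).eq
  · rw [map_mul, Equiv.Perm.mul_apply, map_pow, map_pow, Function.IsFixedPt.perm_pow (φpt K D_fix0) j]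
    exact Function.IsFixedPt.perm_pow (φpt K U_fix0) i
  · rw [map_mul, Equiv.Perm.mul_apply, map_pow, map_pow, Function.IsFixedPt.perm_pow (φpt K D_fix686) j]
    exact Function.IsFixedPt.perm_pow (φpt K U_fix686) i

include hbase hB in
/-- last part of the centralizer of `U` -/
theorem centU_end (c : G) (hc : c * Wx x U = Wx x U * c) (hF : Fx x φ c [t686, t188]) : c = 1 := by
  have h325 : φ c 325 = 325 := K.pin hc hF U2_pin
  have hF2 : Fx x φ c [t686, t188, t325] := by
    refine ⟨hF.1, fun t ht => ?_⟩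
    simp only [List.mem_cons, List.not_mem_nil, or_false] at ht
    rcases ht with rfl | rfl | rfl
    · exact hF.2 _ (by simp)
    · exact hF.2 _ (by simp)
    · rw [φpt K t325_pt, h325]
  have h30 : φ c 30 = 30 := by
    have h1 : andK nets iv Ms (2 ^ 1782 - 1) U [t686, t188, t325] U3 = bitsK [30, 1525] := Nat.eq_of_beq_eq_true U3_pair
    have h2 := K.and_fix hc hF2 (L := U3) (q := 30) (by rw [h1, bitsK_spec]; simp)
    rw [h1, bitsK_spec] at h2
    simp only [List.mem_cons, List.not_mem_nil, or_false] at h2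
    rcases h2 with h2 | h2
    · exact h2
    · exfalso
      refine K.excl_tri hc hF2 hB (tb := t30) (tr := t1525) ?_ (t := tt) ?_ (pt tt_y) (pt tt_z) tt_ne
      · rw [φpt K t30_pt, φpt K t1525_pt, h2]
      · intro b hb
        have h3 := triK_spec tt_ok
        have h4 : ∃ e ∈ ttL, e.1 = b ∧ e.1 < 2048 := by
          simp only [List.mem_cons, List.not_mem_nil, or_false] at hb
          rcases hb with rfl | rfl | rfl <;> simp [ttL]
        obtain ⟨e, he, heb, helt⟩ := h4
        obtain ⟨h5, h6⟩ := h3 e he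
        refine ⟨e.2.2.1, e.2.2.2, ?_⟩
        rw [← heb, K.φ_word, K.φ_word, pt h5 helt, pt h6]
  have hF3 : Fx x φ c [t686, t188, t325, t30] := by
    refine ⟨hF.1, fun t ht => ?_⟩
    simp only [List.mem_cons, List.not_mem_nil, or_false] at ht
    rcases ht with rfl | rfl | rfl | rfl
    · exact hF.2 _ (by simp)
    · exact hF.2 _ (by simp)
    · rw [φpt K t325_pt, h325]
    · rw [φpt K t30_pt, h30]
  refine K.pins hbase hc hF3 ?_
  intro b hb
  simp only [List.mem_cons, List.not_mem_nil, or_false] at hb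
  rcases hb with rfl | rfl | rfl | rfl
  · right; exact ⟨_, pinU_160⟩
  · right; exact ⟨_, pinU_2⟩
  · right; exact ⟨_, pinU_1⟩
  · left; rfl

include hinj hbase hB in
/-- the centralizer of `U` in the stabilizer of lane 0 -/
theorem centU (c : G) (hc : c * Wx x U = Wx x U * c) (hc0 : φ c 0 = 0) : c ∈ KE := by
  have h686 : φ c 686 = 686 := by
    have h1 : φ (Wx x U) (φ c 686) = φ c 686 := by
      have h2 : φ (Wx x U) 686 = 686 := φpt K U_fix686
      rw [← Equiv.Perm.mul_apply, ← map_mul, ← hc, map_mul, Equiv.Perm.mul_apply, h2]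
    have h2 := fixU_mem K _ (K.hlt c 686 (by norm_num)) h1
    have h3 : (bitsK [0, 555, 686, 1402, 1442, 1510] &&& M1) = 2 ^ 686 := Nat.eq_of_beq_eq_true M1_fix
    have h4 : M1.testBit (φ c 686) = true := by
      have h5 := K.hM M1 (by simp [Ms]) c hc0 686 (by norm_num)
      rw [h5]
      have h6 : (bitsK [0, 555, 686, 1402, 1442, 1510] &&& M1).testBit 686 = true := by
        rw [h3]; exact Nat.testBit_two_pow_self
      rw [Nat.testBit_and, Bool.and_eq_true] at h6
      exact h6.2
    have h5 : (bitsK [0, 555, 686, 1402, 1442, 1510] &&& M1).testBit (φ c 686) = true := by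
      rw [Nat.testBit_and, h4, Bool.and_true, bitsK_spec]; exact h2
    rw [h3, Nat.testBit_two_pow, decide_eq_true_eq] at h5
    exact h5.symm
  have ht686 : φ (Wx x t686) 0 = 686 := φpt K t686_pt
  refine K.step_cov (Ts := [t686]) (tb := t188) (b := 188) (L := U1) (Ws := Ws1) (reps := repsU) (pt t188_pt) bitU1
    covU1 ?_ ?_ ?_ c hc ⟨hc0, by
      intro t ht
      rw [List.mem_singleton.1 ht, ht686, h686]⟩
  · intro w hw
    obtain ⟨i, j, rfl⟩ : ∃ i j, w = wpow U i ++ wpow D j := by
      unfold Ws1 at hw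
      rw [List.mem_flatMap] at hw
      obtain ⟨i, _, hw⟩ := hw
      rcases List.mem_cons.1 hw with h | hw
      · exact ⟨i, 0, by rw [h]; simp [wpow]⟩
      · exact ⟨i, 1, by rw [List.mem_singleton.1 hw]; simp [wpow]⟩
    obtain ⟨h1, h2, h3, h4⟩ := Ws1_ok K hinj i j
    refine ⟨h1, h2, h3, ?_⟩
    intro t ht
    rw [List.mem_singleton.1 ht, ht686, h4]
  · intro r hr hne c hc hF hcb
    have h1 : r ∈ (188 :: misU.map (fun e => e.2.1)) := by
      rw [← bitsK_spec, Nat.eq_of_beq_eq_true misU_cov, bitsK_spec]; exact hr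
    rcases List.mem_cons.1 h1 with h1 | h1
    · exact hne h1
    · obtain ⟨e, he, her⟩ := List.mem_map.1 h1
      obtain ⟨h2, h3, h4, h5⟩ := misT_spec misU_ok e he
      refine K.excl_mis hc (tb := t188) (tr := e.1) ?_ (pt h3) (pt h4) h5
      rw [K.φ_word, K.φ_word, pt t188_pt, pt h2, hcb, her]
  · intro c hc hF
    rw [centU_end K hbase hB c hc hF]
    exact Subgroup.one_mem _

include hinj in
/-- a subgroup containing `X`, `U` and `W` is everything -/
theorem top_of (P : Subgroup G) (hX : Wx x X ∈ P) (hU : Wx x U ∈ P) (hW : Wx x W ∈ P) : P = ⊤ := by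
  have key : ∀ p : List ℕ, Wx x (flatK mvs p) ∈ P := by
    intro p
    induction p with
    | nil => exact P.one_mem
    | cons i p ih =>
      rw [flatK_cons, Wx_append]
      refine P.mul_mem ?_ ih
      rcases nthK_mem [] mvs i with h | h
      · rw [h]; exact P.one_mem
      · generalize nthK [] mvs i = v at h ⊢
        simp only [mvs, List.mem_cons, List.not_mem_nil, or_false] at h
        rcases h with h | h | h | h | h
        · rw [h]; exact hX
        · rw [h, Wx_iw K.hiv]; exact P.inv_mem hX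
        · rw [h]; exact hU
        · rw [h, Wx_iw K.hiv]; exact P.inv_mem hU
        · rw [h]; exact hW
  apply gen_top
  have h1 : ∀ (c : ℕ) (s : List ℕ), relD nets 11 4 (flatK mvs s ++ iw iv [c]) = true → x c ∈ P := by
    intro c s h
    have h2 := K.eq_of_rel hinj h
    have h3 : Wx x [c] = x c := by simp [Wx]
    rw [← h3, ← h2]
    exact key s
  intro c hc
  interval_cases c
  · exact h1 0 _ s0_ok
  · exact h1 1 _ s1_ok
  · exact h1 2 _ s2_ok
  · exact h1 3 _ s3_ok
  · exact h1 4 _ s4_ok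
  · exact h1 5 _ s5_ok
  · exact h1 6 _ s6_ok

/-- exclusion of a candidate through a power -/
theorem cand_ne {w : List ℕ} {m y z : ℕ} (h : ptT tabs 7 (wpow w m) y z = true) (hy : y < 2048) (hyz : y ≠ z)
    (h1 : Wx x w ^ m = 1) : False := by
  apply hyz
  have h2 := φpt K h hy
  rw [Wx_wpow, h1, map_one] at h2
  exact h2

include hinj hbase hB in
/-- elements inverting `U` -/
theorem invU_cases {R : List ℕ} {q : ℕ} (hR : relD nets 11 4 ((R ++ (U ++ iw iv R)) ++ iw iv (iw iv U)) = true)
    (hRq : ptT tabs 7 R 0 q = true) {c : G} (hcU : c * (Wx x U * c⁻¹) = (Wx x U)⁻¹) (hq : φ c 0 = q) :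
    ∃ i < 6, ∃ j < 2, c = Wx x (R ++ (wpow U i ++ wpow D j)) := by
  have hRU : Wx x R * (Wx x U * (Wx x R)⁻¹) = (Wx x U)⁻¹ := by
    have := K.eq_of_rel hinj hR
    rwa [Wx_append, Wx_append, Wx_iw K.hiv, Wx_iw K.hiv] at this
  have hR0 : φ (Wx x R) 0 = q := φpt K hRq
  have h1 : ((Wx x R)⁻¹ * c) * Wx x U = Wx x U * ((Wx x R)⁻¹ * c) := by
    have h2 : c * Wx x U = (Wx x U)⁻¹ * c := by
      have h : c * Wx x U * c⁻¹ = (Wx x U)⁻¹ := by rw [mul_assoc]; exact hcU
      rw [← h]; group
    have h3 : (Wx x R)⁻¹ * (Wx x U)⁻¹ = Wx x U * (Wx x R)⁻¹ := by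
      rw [← hRU]; group
    rw [mul_assoc, h2, ← mul_assoc, h3, mul_assoc]
  have h2 : φ ((Wx x R)⁻¹ * c) 0 = 0 := by
    rw [map_mul, Equiv.Perm.mul_apply, hq, ← hR0, ← Equiv.Perm.mul_apply, ← map_mul, inv_mul_cancel, map_one]
    rfl
  obtain ⟨i, hi, j, hj, hij⟩ := mem_KE K hinj (centU K hinj hbase hB _ h1 h2)
  refine ⟨i, hi, j, hj, ?_⟩
  rw [Wx_append, Wx_append, Wx_wpow, Wx_wpow, ← hij, mul_inv_cancel_left]

include hinj hbase hB in
/-- an automorphism fixing `X` and `U` is trivial -/
theorem aut_one (α : MulAut G) (hX : α (Wx x X) = Wx x X) (hU : α (Wx x U) = Wx x U) : α = 1 := by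
  have hWU : Wx x W * (Wx x U * (Wx x W)⁻¹) = (Wx x U)⁻¹ := by
    have := K.eq_of_rel hinj relR1
    rwa [Wx_append, Wx_append, Wx_iw K.hiv, Wx_iw K.hiv] at this
  have hXW : (Wx x X * Wx x W) ^ 5 = 1 := by
    have := K.eq_of_rel hinj relXW
    rwa [Wx_wpow, Wx_append, Wx_nil] at this
  set c := α (Wx x W) with hc
  have hcU : c * (Wx x U * c⁻¹) = (Wx x U)⁻¹ := by
    have h := congrArg α hWU
    rwa [map_mul, map_mul, map_inv, map_inv, hU] at h
  have hXc : (Wx x X * c) ^ 5 = 1 := by
    have h := congrArg α hXW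
    rwa [map_pow, map_mul, hX, map_one] at h
  have hU0 : φ (Wx x U) 0 = 0 := φpt K U_fix0
  have hUcU : Wx x U * (c * Wx x U) = c := by
    have h : c * Wx x U * c⁻¹ = (Wx x U)⁻¹ := by rw [mul_assoc]; exact hcU
    have h2 : c * Wx x U = (Wx x U)⁻¹ * c := by rw [← h]; group
    rw [h2, mul_inv_cancel_left]
  have hfix : φ (Wx x U) (φ c 0) = φ c 0 := by
    have h := congrArg (fun g => φ g 0) hUcU
    simp only [map_mul, Equiv.Perm.mul_apply, hU0] at h
    exact h
  have key : ∀ {R : List ℕ} {i j : ℕ}, c = Wx x (R ++ (wpow U i ++ wpow D j)) →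
      Wx x (X ++ (R ++ (wpow U i ++ wpow D j))) ^ 5 = 1 := by
    intro R i j h
    rw [Wx_append, ← h, hXc]
  have h7 : α (Wx x W) = Wx x W := by
    rw [← hc]
    have hm := fixU_mem K _ (K.hlt c 0 (by norm_num)) hfix
    simp only [List.mem_cons, List.not_mem_nil, or_false] at hm
    rcases hm with h | h | h | h | h | h
    · obtain ⟨i, hi, j, hj, hij⟩ := invU_cases K hinj hbase hB relR0 R0_pt hcU h
      have h5 := key hij
      exfalso
      interval_cases j <;> interval_cases i
      · exact cand_ne K cd_0_0_0 (by norm_num) (by norm_num) h5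
      · exact cand_ne K cd_0_1_0 (by norm_num) (by norm_num) h5
      · exact cand_ne K cd_0_2_0 (by norm_num) (by norm_num) h5
      · exact cand_ne K cd_0_3_0 (by norm_num) (by norm_num) h5
      · exact cand_ne K cd_0_4_0 (by norm_num) (by norm_num) h5
      · exact cand_ne K cd_0_5_0 (by norm_num) (by norm_num) h5
      · exact cand_ne K cd_0_0_1 (by norm_num) (by norm_num) h5
      · exact cand_ne K cd_0_1_1 (by norm_num) (by norm_num) h5
      · exact cand_ne K cd_0_2_1 (by norm_num) (by norm_num) h5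
      · exact cand_ne K cd_0_3_1 (by norm_num) (by norm_num) h5
      · exact cand_ne K cd_0_4_1 (by norm_num) (by norm_num) h5
      · exact cand_ne K cd_0_5_1 (by norm_num) (by norm_num) h5
    · obtain ⟨i, hi, j, hj, hij⟩ := invU_cases K hinj hbase hB relR1 R1_pt hcU h
      have h5 := key hij
      interval_cases j <;> interval_cases i
      · rw [hij]; simp [wpow, R1]
      · exact (cand_ne K cd_1_1_0 (by norm_num) (by norm_num) h5).elim
      · exact (cand_ne K cd_1_2_0 (by norm_num) (by norm_num) h5).elim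
      · exact (cand_ne K cd_1_3_0 (by norm_num) (by norm_num) h5).elim
      · exact (cand_ne K cd_1_4_0 (by norm_num) (by norm_num) h5).elim
      · exact (cand_ne K cd_1_5_0 (by norm_num) (by norm_num) h5).elim
      · exact (cand_ne K cd_1_0_1 (by norm_num) (by norm_num) h5).elim
      · exact (cand_ne K cd_1_1_1 (by norm_num) (by norm_num) h5).elim
      · exact (cand_ne K cd_1_2_1 (by norm_num) (by norm_num) h5).elim
      · exact (cand_ne K cd_1_3_1 (by norm_num) (by norm_num) h5).elim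
      · exact (cand_ne K cd_1_4_1 (by norm_num) (by norm_num) h5).elim
      · exact (cand_ne K cd_1_5_1 (by norm_num) (by norm_num) h5).elim
    · obtain ⟨i, hi, j, hj, hij⟩ := invU_cases K hinj hbase hB relR2 R2_pt hcU h
      have h5 := key hij
      exfalso
      interval_cases j <;> interval_cases i
      · exact cand_ne K cd_2_0_0 (by norm_num) (by norm_num) h5
      · exact cand_ne K cd_2_1_0 (by norm_num) (by norm_num) h5
      · exact cand_ne K cd_2_2_0 (by norm_num) (by norm_num) h5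
      · exact cand_ne K cd_2_3_0 (by norm_num) (by norm_num) h5
      · exact cand_ne K cd_2_4_0 (by norm_num) (by norm_num) h5
      · exact cand_ne K cd_2_5_0 (by norm_num) (by norm_num) h5
      · exact cand_ne K cd_2_0_1 (by norm_num) (by norm_num) h5
      · exact cand_ne K cd_2_1_1 (by norm_num) (by norm_num) h5
      · exact cand_ne K cd_2_2_1 (by norm_num) (by norm_num) h5
      · exact cand_ne K cd_2_3_1 (by norm_num) (by norm_num) h5
      · exact cand_ne K cd_2_4_1 (by norm_num) (by norm_num) h5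
      · exact cand_ne K cd_2_5_1 (by norm_num) (by norm_num) h5
    · obtain ⟨i, hi, j, hj, hij⟩ := invU_cases K hinj hbase hB relR3 R3_pt hcU h
      have h5 := key hij
      exfalso
      interval_cases j <;> interval_cases i
      · exact cand_ne K cd_3_0_0 (by norm_num) (by norm_num) h5
      · exact cand_ne K cd_3_1_0 (by norm_num) (by norm_num) h5
      · exact cand_ne K cd_3_2_0 (by norm_num) (by norm_num) h5
      · exact cand_ne K cd_3_3_0 (by norm_num) (by norm_num) h5
      · exact cand_ne K cd_3_4_0 (by norm_num) (by norm_num) h5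
      · exact cand_ne K cd_3_5_0 (by norm_num) (by norm_num) h5
      · exact cand_ne K cd_3_0_1 (by norm_num) (by norm_num) h5
      · exact cand_ne K cd_3_1_1 (by norm_num) (by norm_num) h5
      · exact cand_ne K cd_3_2_1 (by norm_num) (by norm_num) h5
      · exact cand_ne K cd_3_3_1 (by norm_num) (by norm_num) h5
      · exact cand_ne K cd_3_4_1 (by norm_num) (by norm_num) h5
      · exact cand_ne K cd_3_5_1 (by norm_num) (by norm_num) h5
    · obtain ⟨i, hi, j, hj, hij⟩ := invU_cases K hinj hbase hB relR4 R4_pt hcU h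
      have h5 := key hij
      exfalso
      interval_cases j <;> interval_cases i
      · exact cand_ne K cd_4_0_0 (by norm_num) (by norm_num) h5
      · exact cand_ne K cd_4_1_0 (by norm_num) (by norm_num) h5
      · exact cand_ne K cd_4_2_0 (by norm_num) (by norm_num) h5
      · exact cand_ne K cd_4_3_0 (by norm_num) (by norm_num) h5
      · exact cand_ne K cd_4_4_0 (by norm_num) (by norm_num) h5
      · exact cand_ne K cd_4_5_0 (by norm_num) (by norm_num) h5
      · exact cand_ne K cd_4_0_1 (by norm_num) (by norm_num) h5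
      · exact cand_ne K cd_4_1_1 (by norm_num) (by norm_num) h5
      · exact cand_ne K cd_4_2_1 (by norm_num) (by norm_num) h5
      · exact cand_ne K cd_4_3_1 (by norm_num) (by norm_num) h5
      · exact cand_ne K cd_4_4_1 (by norm_num) (by norm_num) h5
      · exact cand_ne K cd_4_5_1 (by norm_num) (by norm_num) h5
    · obtain ⟨i, hi, j, hj, hij⟩ := invU_cases K hinj hbase hB relR5 R5_pt hcU h
      have h5 := key hij
      exfalso
      interval_cases j <;> interval_cases i
      · exact cand_ne K cd_5_0_0 (by norm_num) (by norm_num) h5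
      · exact cand_ne K cd_5_1_0 (by norm_num) (by norm_num) h5
      · exact cand_ne K cd_5_2_0 (by norm_num) (by norm_num) h5
      · exact cand_ne K cd_5_3_0 (by norm_num) (by norm_num) h5
      · exact cand_ne K cd_5_4_0 (by norm_num) (by norm_num) h5
      · exact cand_ne K cd_5_5_0 (by norm_num) (by norm_num) h5
      · exact cand_ne K cd_5_0_1 (by norm_num) (by norm_num) h5
      · exact cand_ne K cd_5_1_1 (by norm_num) (by norm_num) h5
      · exact cand_ne K cd_5_2_1 (by norm_num) (by norm_num) h5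
      · exact cand_ne K cd_5_3_1 (by norm_num) (by norm_num) h5
      · exact cand_ne K cd_5_4_1 (by norm_num) (by norm_num) h5
      · exact cand_ne K cd_5_5_1 (by norm_num) (by norm_num) h5
  have h8 : α.toMonoidHom.eqLocus (MonoidHom.id G) = ⊤ := top_of K hinj _ hX hU h7
  ext g
  have : g ∈ α.toMonoidHom.eqLocus (MonoidHom.id G) := by rw [h8]; exact Subgroup.mem_top _
  exact this

end

end Cfsg.Agent.Lib.SuzOut79
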