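import Cfsg.Agent.Lib.SuzOut79b

/-! The outer automorphism group of the Suzuki group has order 2 (helper79). -/

set_option autoImplicit false
set_option maxRecDepth 100000
set_option exponentiation.threshold 5000

namespace Cfsg.Agent.Lib.SuzOut79
open Cfsg Cfsg.Spor
open Cfsg.Agent.Lib.BenesPerm Cfsg.Agent.Lib.BenesAct Cfsg.Agent.Lib.BenesWord Cfsg.Agent.Lib.BenesPack
open Cfsg.Agent.Lib.TransLanes Cfsg.Agent.Lib.LaneTools Cfsg.Agent.Lib.LaneOut79
open Cfsg.Agent.Lib.SuzRel Cfsg.Agent.Lib.SuzNetsA Cfsg.Agent.Lib.SuzAIdx Cfsg.Agent.Lib.SuzA Cfsg.Agent.Lib.SuzOrd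
open Cfsg.Agent.Lib.CoxBridge Cfsg.Agent.Lib.CosetGroup Cfsg.Agent.Lib.CosetChain

theorem x_ge7 (c : ℕ) (hc : ¬ c < 7) : x c = 1 := by
  obtain ⟨d, rfl⟩ := Nat.exists_eq_add_of_le (not_lt.mp hc)
  have h3 : 7 + d = C.ng + (0 + d) := by change 7 + d = 7 + (0 + d); omega
  show C.x HL (7 + d) = 1
  rw [h3, C.x_ge, List.getElem?_eq_none (by simp [HL])]; rfl

theorem sg_sg (c : ℕ) : sg (sg c) = c := by
  unfold sg
  split_ifs <;> omega

theorem sg_lt (c : ℕ) (hc : c < 7) : sg c < 7 := by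
  unfold sg
  split_ifs <;> omega

section

variable {φ : G →* Equiv.Perm ℕ} (K : LaneOut79.Ctx x φ nets 11 1782 iv Ms) (hinj : Function.Injective φ)
  (hbase : ∀ g, (∀ b ∈ [160, 2, 1, 0], φ g b = b) → g = 1)
  (hB : ∀ g, (∀ b ∈ [2, 1, 0], φ g b = b) → ∀ q, B3.testBit (φ g q) = B3.testBit q)
include K

include hinj in
/-- the diagram automorphism -/
theorem theta_exists : ∃ θ : MulAut G, ∀ c, θ (x c) = x (sg c) := by
  have hev : ∀ W ∈ rels, W.eval (fun c => x (sg c)) = 1 := by
    intro W hW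
    rw [← eval_ren]
    exact Cfsg.Agent.Lib.CosetOrder.eval_eq_one hinj K.hns K.hiv K.hφ
      (relK_of_relsD K.hns rels_sg _ (List.mem_map.2 ⟨W, hW, rfl⟩))
  obtain ⟨θ, hθ⟩ := C.hom (K := G) (fun c => x (sg c)) (by
      intro i hi
      exact (C.rel_x HL).2.2 (sg i) (sg_lt i hi)) (by
      intro W hW
      apply hev
      apply List.mem_append_left
      rw [← coxW_eq]
      exact hW) (by
      intro W hW
      apply hev
      exact List.mem_append_right _ hW)
  have h1 : ∀ c, θ (x c) = x (sg c) := by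
    intro c
    by_cases hc : c < 7
    · rw [← hθ c hc]
      congr 1
      exact C.x_of_lt HL hc
    · rw [x_ge7 c hc, map_one]
      have : sg c = c := by unfold sg; split_ifs <;> omega
      rw [this, x_ge7 c hc]
  have h2 : θ.comp θ = MonoidHom.id G := by
    have h3 : (θ.comp θ).eqLocus (MonoidHom.id G) = ⊤ := gen_top _ (fun c _ => by
      show θ (θ (x c)) = x c
      rw [h1, h1, sg_sg])
    refine MonoidHom.ext fun g => ?_
    have : g ∈ (θ.comp θ).eqLocus (MonoidHom.id G) := by rw [h3]; exact Subgroup.mem_top _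
    exact this
  exact ⟨MonoidHom.toMulEquiv θ θ h2 h2, h1⟩

omit K in
theorem theta_word {θ : MulAut G} (hθ : ∀ c, θ (x c) = x (sg c)) (w : List ℕ) : θ (Wx x w) = Wx x (w.map sg) := by
  unfold Wx
  rw [map_list_prod, List.map_map, List.map_map]
  congr 1
  apply List.map_congr_left
  intro c _
  exact hθ c

omit K in
theorem lane_of_letter {h : G} {c : ℕ} (hc : h * x c = x c * h) (h0 : φ (x c) 0 = 0) : φ (x c) (φ h 0) = φ h 0 := by
  rw [← Equiv.Perm.mul_apply, ← map_mul, ← hc, map_mul, Equiv.Perm.mul_apply, h0]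

theorem fixL_cases {h : G} (hc : ∀ c, c < 5 → h * x c = x c * h) : φ h 0 = 0 ∨ φ h 0 = 995 := by
  have hs : ∀ c, Wx x [c] = x c := fun c => by simp [Wx]
  have key : ∀ c F, c < 5 → F.testBit 0 = true → fixOK nets [c] 11 1782 F = true → F.testBit (φ h 0) = true := by
    intro c F hc5 hF0 hF
    rw [fixOK_spec K.hns K.hn hF (K.hlt h 0 K.h0), ← K.φ_word, hs]
    apply lane_of_letter (hc c hc5)
    rw [← hs c, K.φ_word]
    exact (fixOK_spec K.hns K.hn hF K.h0).1 hF0
  have k0 := key 0 F0 (by norm_num) (by decide +kernel) fixL0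
  have k1 := key 1 F1 (by norm_num) (by decide +kernel) fixL1
  have k2 := key 2 F2 (by norm_num) (by decide +kernel) fixL2
  have k3 := key 3 F3 (by norm_num) (by decide +kernel) fixL3
  have k4 := key 4 F4 (by norm_num) (by decide +kernel) fixL4
  have h1 : F0 &&& (F1 &&& (F2 &&& (F3 &&& F4))) = 2 ^ 0 ||| 2 ^ 995 := Nat.eq_of_beq_eq_true fixL
  have h2 : (F0 &&& (F1 &&& (F2 &&& (F3 &&& F4)))).testBit (φ h 0) = true := by
    rw [Nat.testBit_and, Nat.testBit_and, Nat.testBit_and, Nat.testBit_and, k0, k1, k2, k3, k4]; rfl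
  rw [h1, Nat.testBit_or, Nat.testBit_two_pow, Nat.testBit_two_pow, Bool.or_eq_true, decide_eq_true_eq,
    decide_eq_true_eq] at h2
  rcases h2 with h | h
  · exact Or.inl h.symm
  · exact Or.inr h.symm

include hB in
/-- the diagram automorphism is not inner -/
theorem theta_not_inner {θ : MulAut G} (hθ : ∀ c, θ (x c) = x (sg c)) : θ ∉ Cfsg.Inn G := by
  rintro ⟨h, rfl⟩
  have h1 : ∀ g, MulAut.conj h g = h * g * h⁻¹ := fun g => rfl
  have hw : ∀ w, h * Wx x w = Wx x (w.map sg) * h := by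
    intro w
    have h5 := theta_word hθ w
    rw [h1] at h5
    calc h * Wx x w = (h * Wx x w * h⁻¹) * h := by group
      _ = _ := by rw [h5]
  have hs : ∀ c, Wx x [c] = x c := fun c => by simp [Wx]
  have hc : ∀ c, c < 5 → h * x c = x c * h := by
    intro c hc
    have h2 := hw [c]
    have h3 : [c].map sg = [c] := by
      have : sg c = c := by unfold sg; split_ifs <;> omega
      simp [this]
    rw [h3, hs] at h2
    exact h2
  rcases fixL_cases K hc with h0 | h0
  · have h5 : φ (Wx x [5]) 0 = 0 := φpt K l5_fix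
    have h6 : φ (Wx x [6]) 0 = 1 := φpt K l6_mv
    have h7 := hw [5]
    have h3 : [5].map sg = [6] := rfl
    rw [h3] at h7
    have h8 : φ (Wx x [6]) (φ h 0) = φ h 0 := by
      rw [← Equiv.Perm.mul_apply, ← map_mul, ← h7, map_mul, Equiv.Perm.mul_apply, h5]
    rw [h0, h6] at h8
    exact absurd h8 (by norm_num)
  · have h995 : φ (Wx x t995) 0 = 995 := φpt K t995_pt
    have hl : ∀ w, φ h (φ (Wx x w) 0) = φ (Wx x (w.map sg ++ t995)) 0 := by
      intro w
      rw [← Equiv.Perm.mul_apply, ← map_mul, hw, map_mul, Equiv.Perm.mul_apply, h0, Wx_append, map_mul,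
        Equiv.Perm.mul_apply, h995]
    have g1 : φ h 1 = 688 := by
      have := hl t1
      rw [φpt K t1_pt, φpt K SuzOut79.h1] at this
      exact this
    have g2 : φ h 2 = 472 := by
      have := hl t2
      rw [φpt K t2_pt, φpt K SuzOut79.h2] at this
      exact this
    have hfix : ∀ b ∈ [2, 1, 0], φ ((Wx x tq)⁻¹ * h) b = b := by
      intro b hb
      have key : φ h b = φ (Wx x tq) b := by
        simp only [List.mem_cons, List.not_mem_nil, or_false] at hb
        rcases hb with rfl | rfl | rfl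
        · rw [g2, φpt K tq2]
        · rw [g1, φpt K tq1]
        · rw [h0, φpt K tq0]
      rw [map_mul, Equiv.Perm.mul_apply, key, ← Equiv.Perm.mul_apply, ← map_mul, inv_mul_cancel, map_one]
      rfl
    have h2 := hB _ hfix 160
    have h3 : φ ((Wx x tq)⁻¹ * h) 160 = 1411 := by
      have h4 := hl vq
      rw [φpt K vq_pt] at h4
      rw [map_mul, Equiv.Perm.mul_apply, h4, ← Wx_iw K.hiv, ← Equiv.Perm.mul_apply, ← map_mul, ← Wx_append]
      exact φpt K hq
    rw [h3] at h2
    have h5 := q_bits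
    rw [bitK_eq, bitK_eq, h2] at h5
    simp at h5

end

/-- `|Out(Suz)| = 2` -/
theorem card_out : Nat.card (Cfsg.Out G) = 2 := by
  obtain ⟨hcard, φ, K, hinj, hbase, hB⟩ := setting
  have hfin : Finite G := Nat.finite_of_card_ne_zero (by rw [hcard]; norm_num)
  have hXp : Wx x X ^ 13 = 1 := by rw [← Wx_wpow]; exact K.one_of_rel hinj X13
  have hX1 : Wx x X ≠ 1 := by
    intro h
    have h2 := (fixOK_spec (i := 1) K.hns K.hn fixX (by norm_num)).2 (by
      rw [← K.φ_word, h]
      exact congrArg (fun p : Equiv.Perm ℕ => p 1) (map_one φ))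
    revert h2
    decide
  have hX : orderOf (Wx x X) = 13 := by
    have : Fact (Nat.Prime 13) := ⟨by norm_num⟩
    exact orderOf_eq_prime hXp hX1
  have hU : Wx x U * Wx x X * (Wx x U)⁻¹ = Wx x X ^ 10 := by
    have := K.eq_of_rel hinj relU
    rw [Wx_append, Wx_append, Wx_iw K.hiv, Wx_wpow] at this
    rw [← this, mul_assoc]
  have hU' : (Wx x U)⁻¹ * Wx x X * Wx x U = Wx x X ^ 4 := by
    have := K.eq_of_rel hinj relU'
    rw [Wx_append, Wx_append, Wx_iw K.hiv, Wx_wpow] at this
    rw [← this, mul_assoc]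
  obtain ⟨θ, hθ⟩ := theta_exists K hinj
  refine card_out_eq_two' (X := Wx x X) (U := Wx x U) (s := 2) ?_ ?_ θ (theta_not_inner K hB hθ)
  · intro α
    exact exists_norm (p := 13) (by norm_num) (by rw [hcard]; norm_num) (by rw [hcard]; norm_num) hX (r := 10) (r' := 4)
      (s := 2) hU hU' (fun c hc => centX K hbase c hc) (by norm_num) (by decide) (by decide) α
  · intro α h1 h2
    rw [aut_one K hinj hbase hB α h1 h2]
    exact Subgroup.one_mem _

end Cfsg.Agent.Lib.SuzOut79
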