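import Cfsg.Agent.Lib.RankOneC
import Cfsg.Agent.Lib.SUZBlk
set_option autoImplicit false
set_option linter.unusedSectionVars false
set_option linter.unusedVariables false

/-!
SUZ project, piece [S1]: calculus in the split rank one set-up (helper19).
-/

namespace Cfsg.Agent.Lib.SuzS1

open MulAction Cfsg.Agent.Lib.RankOne Cfsg.Agent.Lib.RankOneC

variable {G Ω : Type*} [Group G] [MulAction G Ω] {a : Ω} {t : G} {Q K S : Subgroup G} {s r : G}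

/-- the split rank one set-up, together with the cyclic normal subgroup `K` of the two-point stabiliser and the
structure equation `t s t = r⁻¹ t r` -/
structure Env (a : Ω) (t : G) (Q K : Subgroup G) (s r : G) : Prop where
  hS : Cfsg.IsRankOneSetup G Ω a t Q
  h2 : ∃ x y : G, x ≠ 1 ∧ y ≠ 1 ∧ x ≠ y ∧ x * x = 1 ∧ y * y = 1 ∧ x * y = y * x
  Kset : (K : Set G) = Cfsg.invertedBy (stabilizer G a ⊓ stabilizer G (t • a)) t
  Kcomm : ∀ k ∈ K, ∀ l ∈ K, k * l = l * k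
  Knorm : ∀ d : G, d • a = a → d • t • a = t • a → ∀ k ∈ K, d * k * d⁻¹ ∈ K
  hs : s ∈ Cfsg.involutionsIn (stabilizer G a : Set G)
  hr : r ∈ Q
  hsr : t * s * t = r⁻¹ * t * r

/-- `t x t = g h t f` with `g, f ∈ Q`, `h ∈ D` -/
def Can (a : Ω) (t : G) (Q : Subgroup G) (x g h f : G) : Prop :=
  g ∈ Q ∧ (h • a = a ∧ h • t • a = t • a) ∧ f ∈ Q ∧ t * x * t = g * h * t * f

/-- the data exist, given S1131 -/
theorem exists_env [Finite G] [FaithfulSMul G Ω] (hS : Cfsg.IsRankOneSetup G Ω a t Q)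
    (h2 : ∃ x y : G, x ≠ 1 ∧ y ≠ 1 ∧ x ≠ y ∧ x * x = 1 ∧ y * y = 1 ∧ x * y = y * x)
    (hK : ∃ C : Subgroup G, (C : Set G) = Cfsg.invertedBy (stabilizer G a ⊓ stabilizer G (t • a)) t ∧ IsCyclic C ∧
      ∀ d ∈ (stabilizer G a ⊓ stabilizer G (t • a)), ∀ c ∈ C, d * c * d⁻¹ ∈ C) :
    ∃ (K : Subgroup G) (s r : G), IsCyclic K ∧ Env a t Q K s r := by
  obtain ⟨C, hC, hcyc, hn⟩ := hK
  obtain ⟨⟨s, r⟩, ⟨hs, hr, h⟩, -⟩ := structure_eq hS
  refine ⟨C, s, r, hcyc, hS, h2, hC, ?_, ?_, hs, hr, h⟩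
  · intro k hk l hl
    have := hcyc
    let _ : CommGroup C := IsCyclic.commGroup
    have h1 : (⟨k, hk⟩ : C) * ⟨l, hl⟩ = ⟨l, hl⟩ * ⟨k, hk⟩ := mul_comm _ _
    exact congrArg Subtype.val h1
  · intro d hd hd' k hk
    exact hn d ⟨hd, hd'⟩ k hk

namespace Env

variable [Finite G] (X : Env a t Q K s r)
include X

theorem mem_K {k : G} : k ∈ K ↔ (k • a = a ∧ k • t • a = t • a) ∧ t * k * t = k⁻¹ := by
  rw [← mem_invertedBy X.hS, ← X.Kset]; rfl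

theorem Ka {k : G} (hk : k ∈ K) : k • a = a := (X.mem_K.mp hk).1.1
theorem Kb {k : G} (hk : k ∈ K) : k • t • a = t • a := (X.mem_K.mp hk).1.2
theorem Kt {k : G} (hk : k ∈ K) : t * k * t = k⁻¹ := (X.mem_K.mp hk).2
theorem KD {k : G} (hk : k ∈ K) : k ∈ stabilizer G a ⊓ stabilizer G (t • a) := ⟨X.Ka hk, X.Kb hk⟩
theorem tt : t * t = 1 := X.hS.mul_self
theorem ti : t⁻¹ = t := t_inv X.hS

theorem kt {k : G} (hk : k ∈ K) : k * t = t * k⁻¹ := by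
  calc k * t = (t * t) * k * t := by rw [X.tt, one_mul]
    _ = t * (t * k * t) := by group
    _ = t * k⁻¹ := by rw [X.Kt hk]

theorem tk {k : G} (hk : k ∈ K) : t * k = k⁻¹ * t := by
  have := X.kt (K.inv_mem hk)
  rw [inv_inv] at this
  exact this.symm

theorem sa : s • a = a := X.hs.1
theorem s_ne : s ≠ 1 := X.hs.2.1
theorem ss : s * s = 1 := X.hs.2.2

theorem sQ : s ∈ Q := mem_Q_of_sq X.hS (mem_stabilizer_iff.2 X.sa) X.ss

theorem KQ {k : G} (hk : k ∈ K) (hQ : k ∈ Q) : k = 1 := Q_inf_D X.hS hQ (X.KD hk)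

/-- every involution of `G_a` is `k⁻¹ s k` -/
theorem exists_k {e : G} (hea : e • a = a) (he1 : e ≠ 1) (he : e * e = 1) : ∃ k ∈ K, e = k⁻¹ * s * k := by
  obtain ⟨k, hk, h⟩ := K_conj_surj X.hS X.hs (s' := e) ⟨hea, he1, he⟩
  refine ⟨k, ?_, h.symm⟩
  rw [← X.Kset] at hk
  exact hk

theorem k_inj {k k' : G} (hk : k ∈ K) (hk' : k' ∈ K) (h : k⁻¹ * s * k = k'⁻¹ * s * k') : k = k' := by
  refine K_conj_injective X.hS X.hs.1 X.hs.2.1 X.hs.2.2 ?_ ?_ h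
  · rw [← X.Kset]; exact hk
  · rw [← X.Kset]; exact hk'

/-- the elements of order at most two of `G_a` -/
def E : Subgroup G where
  carrier := {x | x • a = a ∧ x * x = 1}
  one_mem' := ⟨one_smul _ _, one_mul _⟩
  mul_mem' := by
    rintro x y ⟨hx, hx'⟩ ⟨hy, hy'⟩
    refine ⟨by rw [mul_smul, hy, hx], ?_⟩
    have hxy : x * y = y * x := by
      by_cases h1 : x = 1
      · rw [h1, one_mul, mul_one]
      · exact invol_central X.hS X.h2 x ⟨hx, h1, hx'⟩ y (mem_Q_of_sq X.hS (mem_stabilizer_iff.2 hy) hy')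
    calc x * y * (x * y) = x * (y * x) * y := by group
      _ = x * (x * y) * y := by rw [hxy]
      _ = (x * x) * (y * y) := by group
      _ = 1 := by rw [hx', hy', one_mul]
  inv_mem' := by
    rintro x ⟨hx, hx'⟩
    have : x⁻¹ = x := by rw [inv_eq_iff_mul_eq_one]; exact hx'
    rw [this]
    exact ⟨hx, hx'⟩

theorem mem_E {x : G} : x ∈ X.E ↔ x • a = a ∧ x * x = 1 := Iff.rfl

theorem EQ : X.E ≤ Q := fun x hx => mem_Q_of_sq X.hS (mem_stabilizer_iff.2 hx.1) hx.2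

theorem E_central {x y : G} (hx : x ∈ X.E) (hy : y ∈ Q) : x * y = y * x := by
  by_cases h1 : x = 1
  · rw [h1, one_mul, mul_one]
  · exact invol_central X.hS X.h2 x ⟨hx.1, h1, hx.2⟩ y hy

theorem sE : s ∈ X.E := ⟨X.sa, X.ss⟩

theorem E_conj {h x : G} (hh : h • a = a) (hx : x ∈ X.E) : h * x * h⁻¹ ∈ X.E := by
  have hh' : h⁻¹ • a = a := by rw [inv_smul_eq_iff, hh]
  refine ⟨by rw [mul_smul, mul_smul, hh', hx.1, hh], ?_⟩
  calc h * x * h⁻¹ * (h * x * h⁻¹) = h * (x * x) * h⁻¹ := by group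
    _ = 1 := by rw [hx.2]; group

theorem exists_kE {e : G} (he : e ∈ X.E) (he1 : e ≠ 1) : ∃ k ∈ K, e = k⁻¹ * s * k := X.exists_k he.1 he1 he.2

/-! ### the canonical form of `t x t` -/

theorem D_inv {h : G} (hh : h • a = a ∧ h • t • a = t • a) : h⁻¹ • a = a ∧ h⁻¹ • t • a = t • a :=
  ⟨by rw [inv_smul_eq_iff, hh.1], by rw [inv_smul_eq_iff, hh.2]⟩

theorem D_mul {h h' : G} (hh : h • a = a ∧ h • t • a = t • a) (hh' : h' • a = a ∧ h' • t • a = t • a) :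
    (h * h') • a = a ∧ (h * h') • t • a = t • a :=
  ⟨by rw [mul_smul, hh'.1, hh.1], by rw [mul_smul, hh'.2, hh.2]⟩

theorem D_t {h : G} (hh : h • a = a ∧ h • t • a = t • a) : (t * h * t) • a = a ∧ (t * h * t) • t • a = t • a := by
  have h1 := tta X.hS
  exact ⟨by rw [mul_smul, mul_smul, hh.2, h1], by rw [mul_smul, h1, mul_smul, hh.1]⟩

theorem KDD {k : G} (hk : k ∈ K) : k • a = a ∧ k • t • a = t • a := ⟨X.Ka hk, X.Kb hk⟩

theorem exists_can {x : G} (hx : x ∈ Q) (hx1 : x ≠ 1) : ∃ g h f, Can a t Q x g h f := by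
  have h1 : t * x * t ∉ stabilizer G a := by
    rw [mem_stabilizer_iff, mul_smul, mul_smul]
    intro h
    have h2 : x • t • a = t • a := by
      have := congrArg (fun z => t • z) h
      simpa [smul_smul, ← mul_assoc, X.tt] using this
    exact ta_ne X.hS (Q_free X.hS hx hx1 h2)
  obtain ⟨⟨p, f⟩, ⟨hp, hf, he⟩, -⟩ := canonical X.hS h1
  obtain ⟨g, hg, h, hh, hgh⟩ := exists_mul X.hS hp
  refine ⟨g, h, f, hg, ⟨hh.1, hh.2⟩, hf, ?_⟩
  dsimp only at hgh he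
  rw [he, hgh]

theorem can_out {x g h f : G} (hc : Can a t Q x g h f) : t * x * t ∉ stabilizer G a := by
  obtain ⟨hg, hh, hf, he⟩ := hc
  rw [he, mem_stabilizer_iff, mul_smul, Q_fix X.hS hf, mul_smul, mul_smul, hh.2]
  intro h1
  have h2 : g • t • a = g • a := by rw [h1, Q_fix X.hS hg]
  exact ta_ne X.hS (smul_left_cancel g h2)

theorem can_unique {x g h f g' h' f' : G} (hc : Can a t Q x g h f) (hc' : Can a t Q x g' h' f') :
    g = g' ∧ h = h' ∧ f = f' := by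
  have hout := X.can_out hc
  obtain ⟨hg, hh, hf, he⟩ := hc
  obtain ⟨hg', hh', hf', he'⟩ := hc'
  have hu := (canonical X.hS hout).unique (y₁ := (g * h, f)) (y₂ := (g' * h', f'))
    ⟨by rw [mem_stabilizer_iff, mul_smul, hh.1, Q_fix X.hS hg], hf, he⟩
    ⟨by rw [mem_stabilizer_iff, mul_smul, hh'.1, Q_fix X.hS hg'], hf', he'⟩
  simp only [Prod.mk.injEq] at hu
  obtain ⟨h1, h2⟩ := hu
  have h3 : g'⁻¹ * g = h' * h⁻¹ := by
    calc g'⁻¹ * g = g'⁻¹ * (g * h) * h⁻¹ := by group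
      _ = h' * h⁻¹ := by rw [h1]; group
  have h4 : g'⁻¹ * g = 1 := Q_inf_D X.hS (Q.mul_mem (Q.inv_mem hg') hg) (by
    rw [h3]
    exact X.D_mul hh' (X.D_inv hh))
  have h5 : g = g' := by
    calc g = g' * (g'⁻¹ * g) := by group
      _ = g' := by rw [h4, mul_one]
  subst h5
  exact ⟨rfl, mul_left_cancel h1, h2⟩

/-- `h(x⁻¹) = t h(x)⁻¹ t` -/
theorem can_inv {x g h f : G} (hc : Can a t Q x g h f) : Can a t Q x⁻¹ f⁻¹ (t * h⁻¹ * t) g⁻¹ := by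
  obtain ⟨hg, hh, hf, he⟩ := hc
  refine ⟨Q.inv_mem hf, X.D_t (X.D_inv hh), Q.inv_mem hg, ?_⟩
  have h1 : (t * x * t)⁻¹ = t * x⁻¹ * t := by rw [mul_inv_rev, mul_inv_rev, X.ti]; group
  rw [← h1, he]
  calc (g * h * t * f)⁻¹ = f⁻¹ * t⁻¹ * h⁻¹ * g⁻¹ := by group
    _ = f⁻¹ * t * h⁻¹ * (t * t) * g⁻¹ := by rw [X.ti, X.tt, mul_one]
    _ = _ := by group

/-- conjugation by `d ∈ D` -/
theorem can_conj {x g h f d : G} (hc : Can a t Q x g h f) (hd : d • a = a ∧ d • t • a = t • a) :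
    Can a t Q (d * x * d⁻¹) ((t * d * t) * g * (t * d * t)⁻¹) ((t * d * t) * h * d⁻¹) ((t * d * t) * f * (t * d * t)⁻¹) := by
  obtain ⟨hg, hh, hf, he⟩ := hc
  have hd' := X.D_t hd
  refine ⟨X.hS.conj_mem _ (mem_stabilizer_iff.2 hd'.1) _ hg, X.D_mul (X.D_mul hd' hh) (X.D_inv hd),
    X.hS.conj_mem _ (mem_stabilizer_iff.2 hd'.1) _ hf, ?_⟩
  have h1 : t * (d * x * d⁻¹) * t = (t * d * t) * (t * x * t) * (t * d * t)⁻¹ := by
    rw [mul_inv_rev, mul_inv_rev, X.ti]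
    calc t * (d * x * d⁻¹) * t = t * d * 1 * x * 1 * d⁻¹ * t := by group
      _ = t * d * (t * t) * x * (t * t) * d⁻¹ * t := by rw [X.tt]
      _ = _ := by group
  rw [h1, he]
  have h2 : (t * d * t)⁻¹ = t * d⁻¹ * t := by rw [mul_inv_rev, mul_inv_rev, X.ti]; group
  -- `t (t d t) = d t`
  have h3 : t * (t * d * t) = d * t := by rw [← mul_assoc, ← mul_assoc, X.tt, one_mul]
  calc t * d * t * (g * h * t * f) * (t * d * t)⁻¹ =
      (t * d * t * g * (t * d * t)⁻¹) * (t * d * t * h) * d⁻¹ * (d * t) * f * (t * d * t)⁻¹ := by group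
    _ = (t * d * t * g * (t * d * t)⁻¹) * (t * d * t * h) * d⁻¹ * (t * (t * d * t)) * f * (t * d * t)⁻¹ := by rw [h3]
    _ = _ := by group

/-- conjugation by `k ∈ K`: `h(k x k⁻¹) = k⁻¹ h(x) k⁻¹` -/
theorem can_conjK {x g h f k : G} (hc : Can a t Q x g h f) (hk : k ∈ K) :
    Can a t Q (k * x * k⁻¹) (k⁻¹ * g * k) (k⁻¹ * h * k⁻¹) (k⁻¹ * f * k) := by
  have h1 := X.can_conj hc (X.KDD hk)
  rw [X.Kt hk, inv_inv] at h1
  exact h1

/-- `t r t = r t s` -/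
theorem trt : t * r * t = r * t * s := by
  have h1 := X.hsr
  calc t * r * t = r * (r⁻¹ * t * r) * t := by group
    _ = r * (t * s * t) * t := by rw [h1]
    _ = r * t * s * (t * t) := by group
    _ = r * t * s := by rw [X.tt, mul_one]

theorem can_r : Can a t Q r r 1 s :=
  ⟨X.hr, ⟨one_smul _ _, one_smul _ _⟩, X.sQ, by rw [mul_one]; exact X.trt⟩

/-- `t (k⁻¹ s k) t = r_k⁻¹ k² t r_k` with `r_k = k r k⁻¹` -/
theorem can_e {k : G} (hk : k ∈ K) : Can a t Q (k⁻¹ * s * k) (k * r⁻¹ * k⁻¹) (k * k) (k * r * k⁻¹) := by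
  have hka := mem_stabilizer_iff.2 (X.Ka hk)
  have h1 : k * r * k⁻¹ ∈ Q := X.hS.conj_mem k hka r X.hr
  have h2 : k * r⁻¹ * k⁻¹ ∈ Q := X.hS.conj_mem k hka _ (Q.inv_mem X.hr)
  refine ⟨h2, X.D_mul (X.KDD hk) (X.KDD hk), h1, ?_⟩
  have h3 : t * k⁻¹ = k * t := (X.kt hk).symm
  have h4 : k * t = t * k⁻¹ := X.kt hk
  calc t * (k⁻¹ * s * k) * t = (t * k⁻¹) * s * (k * t) := by group
    _ = (k * t) * s * (t * k⁻¹) := by rw [h3]
    _ = k * (t * s * t) * k⁻¹ := by group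
    _ = k * (r⁻¹ * t * r) * k⁻¹ := by rw [X.hsr]
    _ = (k * r⁻¹ * k⁻¹) * k * (k * k⁻¹) * t * r * k⁻¹ := by group
    _ = (k * r⁻¹ * k⁻¹) * (k * k) * (k⁻¹ * t) * r * k⁻¹ := by group
    _ = (k * r⁻¹ * k⁻¹) * (k * k) * (t * k) * r * k⁻¹ := by rw [← X.tk hk]
    _ = _ := by group

/-- `t d t ∈ d K` for `d ∈ D` -/
theorem tdt {d : G} (hd : d • a = a ∧ d • t • a = t • a) : ∃ y ∈ K, t * d * t = d * y := by
  refine ⟨d⁻¹ * (t * d * t), ?_, by group⟩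
  rw [X.mem_K]
  refine ⟨X.D_mul (X.D_inv hd) (X.D_t hd), ?_⟩
  calc t * (d⁻¹ * (t * d * t)) * t = t * d⁻¹ * t * d * (t * t) := by group
    _ = t * d⁻¹ * t * d := by rw [X.tt, mul_one]
    _ = t⁻¹ * d⁻¹ * t⁻¹ * d := by rw [X.ti]
    _ = _ := by group

/-- an element of `D` whose square lies in `K` lies in `K` -/
theorem K_of_sq {d : G} (hd : d • a = a ∧ d • t • a = t • a) (h : d * d ∈ K) : d ∈ K := by
  have hodd : Odd (orderOf d) := OddInv.odd_orderOf_of_mem X.hS.odd_card (x := d) ⟨hd.1, hd.2⟩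
  obtain ⟨m, hm⟩ := OddInv.exists_sqrt hodd
  rw [← hm, ← pow_add, ← two_mul, pow_mul, pow_two]
  exact K.pow_mem h m

/-- [S1]: `h(r e) ∈ K` for all `e ∈ E` -/
theorem h_re {e g h f : G} (he : e ∈ X.E) (hc : Can a t Q (r * e) g h f) : h ∈ K := by
  by_cases he1 : e = 1
  · rw [he1, mul_one] at hc
    rw [← (X.can_unique X.can_r hc).2.1]
    exact K.one_mem
  obtain ⟨k, hk, rfl⟩ := X.exists_kE he he1
  have hh := hc.2.1
  have hce := X.can_e hk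
  -- the element `s r_k⁻¹ = (k (r e) k⁻¹)⁻¹`
  have h1 := X.can_inv (X.can_conjK hc hk)
  have hrk : k * r * k⁻¹ ∈ Q := X.hS.conj_mem k (mem_stabilizer_iff.2 (X.Ka hk)) r X.hr
  have h2 : (k * (r * (k⁻¹ * s * k)) * k⁻¹)⁻¹ = s * (k * r⁻¹ * k⁻¹) := by
    have h3 : k * (r * (k⁻¹ * s * k)) * k⁻¹ = (k * r * k⁻¹) * s := by group
    have h4 : s⁻¹ = s := by rw [inv_eq_iff_mul_eq_one]; exact X.ss
    rw [h3, mul_inv_rev, h4]; group
  rw [h2] at h1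
  obtain ⟨g1, g2, g3, g4⟩ := h1
  set h' := t * (k⁻¹ * h * k⁻¹)⁻¹ * t with hh'
  set G' := (k⁻¹ * f * k)⁻¹
  set F' := (k⁻¹ * g * k)⁻¹
  -- compute `t (r e) t`
  have h5 : t * (r * (k⁻¹ * s * k)) * t = (r * G') * (h' * (k * k)) * t * ((k * k) * F' * (k * k)⁻¹ * (k * r * k⁻¹)) := by
    have e1 : t * (r * (k⁻¹ * s * k)) * t = (t * r * t) * (t * (k⁻¹ * s * k) * t) := by
      calc t * (r * (k⁻¹ * s * k)) * t = t * r * 1 * (k⁻¹ * s * k) * t := by group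
        _ = t * r * (t * t) * (k⁻¹ * s * k) * t := by rw [X.tt]
        _ = _ := by group
    have hk2 : k * k ∈ K := K.mul_mem hk hk
    have e2 : (k * k) * t = t * (k * k)⁻¹ := X.kt hk2
    rw [e1, X.trt, hce.2.2.2]
    calc r * t * s * (k * r⁻¹ * k⁻¹ * (k * k) * t * (k * r * k⁻¹)) =
        r * (t * (s * (k * r⁻¹ * k⁻¹))) * ((k * k) * t) * (k * r * k⁻¹) := by group
      _ = r * (t * (s * (k * r⁻¹ * k⁻¹))) * (t * (k * k)⁻¹) * (k * r * k⁻¹) := by rw [e2]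
      _ = r * (t * (s * (k * r⁻¹ * k⁻¹)) * t) * (k * k)⁻¹ * (k * r * k⁻¹) := by group
      _ = r * (G' * h' * t * F') * (k * k)⁻¹ * (k * r * k⁻¹) := by rw [g4]
      _ = r * G' * h' * (t * (k * k)⁻¹) * ((k * k) * F' * (k * k)⁻¹ * (k * r * k⁻¹)) := by group
      _ = r * G' * h' * ((k * k) * t) * ((k * k) * F' * (k * k)⁻¹ * (k * r * k⁻¹)) := by rw [← e2]
      _ = _ := by group
  have h6 : Can a t Q (r * (k⁻¹ * s * k)) (r * G') (h' * (k * k)) ((k * k) * F' * (k * k)⁻¹ * (k * r * k⁻¹)) := by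
    refine ⟨Q.mul_mem X.hr g1, X.D_mul g2 (X.D_mul (X.KDD hk) (X.KDD hk)), Q.mul_mem ?_ hrk, h5⟩
    exact X.hS.conj_mem _ (mem_stabilizer_iff.2 (X.Ka (K.mul_mem hk hk))) _ g3
  have h7 := (X.can_unique hc h6).2.1
  -- `h = k⁻¹ (t h⁻¹ t) k`
  obtain ⟨y, hy, hty⟩ := X.tdt (X.D_inv hh)
  have h8 : h' = k⁻¹ * (t * h⁻¹ * t) * k⁻¹ := by
    have e1 : (k⁻¹ * h * k⁻¹)⁻¹ = k * h⁻¹ * k := by group
    rw [hh', e1]
    have e2 : t * k = k⁻¹ * t := X.tk hk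
    have e3 : k * t = t * k⁻¹ := X.kt hk
    calc t * (k * h⁻¹ * k) * t = (t * k) * h⁻¹ * (k * t) := by group
      _ = (k⁻¹ * t) * h⁻¹ * (t * k⁻¹) := by rw [e2, e3]
      _ = _ := by group
  rw [h8, hty] at h7
  apply X.K_of_sq hh
  have h9 : h * h = h * k⁻¹ * h⁻¹ * (y * k) := by
    calc h * h = h * (k⁻¹ * (h⁻¹ * y) * k⁻¹ * (k * k)) := by rw [← h7]
      _ = _ := by group
  rw [h9]
  exact K.mul_mem (X.Knorm h hh.1 hh.2 _ (K.inv_mem hk)) (K.mul_mem hy hk)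

/-- `K` acts without fixed points on `Q` -/
theorem fpf {k x : G} (hk : k ∈ K) (hk1 : k ≠ 1) (hx : x ∈ Q) (h : k * x * k⁻¹ = x) : x = 1 := by
  have hk' : k ∈ Cfsg.invertedBy (stabilizer G a ⊓ stabilizer G (t • a)) t := by rw [← X.Kset]; exact hk
  by_contra hx1
  have h1 : k * x = x * k := by
    calc k * x = (k * x * k⁻¹) * k := by group
      _ = x * k := by rw [h]
  exact hx1 (Cfsg.Agent.Lib.RankOneB.K_fpf X.hS hk' hk1 hx h1)

/-- `K` acts without fixed points on `Q / S` -/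
theorem fpf_quot {S : Subgroup G} (SQ : S ≤ Q) {k : G} (hk : k ∈ K) (hk1 : k ≠ 1) (hS : ∀ y ∈ S, k * y * k⁻¹ ∈ S)
    {x : G} (hx : x ∈ Q) (h : x⁻¹ * (k * x * k⁻¹) ∈ S) : x ∈ S := by
  let φ : S → S := fun y => ⟨(y : G)⁻¹ * (k * y * k⁻¹), S.mul_mem (S.inv_mem y.2) (hS y y.2)⟩
  have hinj : ∀ y z : G, y ∈ Q → z ∈ Q → y⁻¹ * (k * y * k⁻¹) = z⁻¹ * (k * z * k⁻¹) → y = z := by
    intro y z hy hz he
    have h1 : k * (z * y⁻¹) * k⁻¹ = z * y⁻¹ := by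
      calc k * (z * y⁻¹) * k⁻¹ = z * (z⁻¹ * (k * z * k⁻¹)) * (k * y * k⁻¹)⁻¹ := by group
        _ = z * (y⁻¹ * (k * y * k⁻¹)) * (k * y * k⁻¹)⁻¹ := by rw [he]
        _ = _ := by group
    have h2 := X.fpf hk hk1 (Q.mul_mem hz (Q.inv_mem hy)) h1
    exact (mul_inv_eq_one.mp h2).symm
  have hφ : Function.Injective φ := by
    intro y z he
    exact Subtype.ext (hinj y z (SQ y.2) (SQ z.2) (congrArg Subtype.val he))
  obtain ⟨y, hy⟩ := Finite.surjective_of_injective hφ ⟨_, h⟩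
  have : (y : G) = x := hinj y x (SQ y.2) hx (congrArg Subtype.val hy)
  rw [← this]; exact y.2

theorem exists_K_ne : ∃ k ∈ K, k ≠ 1 := by
  obtain ⟨k, hk, hk1⟩ := exists_K_ne_one X.hS X.h2
  refine ⟨k, ?_, hk1⟩
  rw [← X.Kset] at hk
  exact hk

end Env

/-- a subgroup `S` of `Q`, normal in `G_a`, with `f(S#), g(S#) ⊆ S` and `h(S#) ⊆ K` -/
structure Cl (a : Ω) (t : G) (Q K S : Subgroup G) : Prop where
  SQ : S ≤ Q
  S1 : ∃ x ∈ S, x ≠ 1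
  Sn : ∀ h : G, h • a = a → ∀ y ∈ S, h * y * h⁻¹ ∈ S
  cl : ∀ x ∈ S, x ≠ 1 → ∀ g h f, Can a t Q x g h f → g ∈ S ∧ h ∈ K ∧ f ∈ S

section Lgrp
variable [Finite G] (X : Env a t Q K s r) (C : Cl a t Q K S)
include X C

theorem Sn' {h : G} (hh : h • a = a) {y : G} (hy : y ∈ S) : h⁻¹ * y * h ∈ S := by
  have := C.Sn h⁻¹ (by rw [inv_smul_eq_iff, hh]) y hy
  rwa [inv_inv] at this

/-- the subgroup `L = S K ∪ S K t S` -/
def L : Subgroup G where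
  carrier := {x | (∃ y ∈ S, ∃ k ∈ K, x = y * k) ∨ ∃ y ∈ S, ∃ k ∈ K, ∃ z ∈ S, x = y * k * t * z}
  one_mem' := Or.inl ⟨1, S.one_mem, 1, K.one_mem, by rw [one_mul]⟩
  mul_mem' := by
    rintro _ _ (⟨y, hy, k, hk, rfl⟩ | ⟨y, hy, k, hk, z, hz, rfl⟩) (⟨y', hy', k', hk', rfl⟩ | ⟨y', hy', k', hk', z', hz', rfl⟩)
    · exact Or.inl ⟨y * (k * y' * k⁻¹), S.mul_mem hy (C.Sn k (X.Ka hk) y' hy'), k * k', K.mul_mem hk hk', by group⟩
    · exact Or.inr ⟨y * (k * y' * k⁻¹), S.mul_mem hy (C.Sn k (X.Ka hk) y' hy'), k * k', K.mul_mem hk hk', z', hz', by group⟩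
    · refine Or.inr ⟨y, hy, k * k'⁻¹, K.mul_mem hk (K.inv_mem hk'), k'⁻¹ * (z * y') * k', ?_, ?_⟩
      · exact Sn' X C (X.Ka hk') (S.mul_mem hz hy')
      · have h1 : k'⁻¹ * t = t * k' := (X.tk hk').symm
        calc y * k * t * z * (y' * k') = y * k * (t * k') * (k'⁻¹ * (z * y') * k') := by group
          _ = y * k * (k'⁻¹ * t) * (k'⁻¹ * (z * y') * k') := by rw [h1]
          _ = _ := by group
    · have h1 : k' * t = t * k'⁻¹ := X.kt hk'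
      have h2 : k'⁻¹ * t = t * k' := (X.tk hk').symm
      by_cases hw : z * y' = 1
      · refine Or.inl ⟨y * ((k * k'⁻¹) * z' * (k * k'⁻¹)⁻¹), S.mul_mem hy (C.Sn _ (X.Ka (K.mul_mem hk (K.inv_mem hk'))) z' hz'),
          k * k'⁻¹, K.mul_mem hk (K.inv_mem hk'), ?_⟩
        calc y * k * t * z * (y' * k' * t * z') = y * k * t * (z * y') * (k' * t) * z' := by group
          _ = y * k * t * 1 * (t * k'⁻¹) * z' := by rw [hw, h1]
          _ = y * k * (t * t) * k'⁻¹ * z' := by group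
          _ = _ := by rw [X.tt]; group
      · obtain ⟨g, h, f, hc⟩ := X.exists_can (Q.mul_mem (C.SQ hz) (C.SQ hy')) hw
        obtain ⟨c1, c2, c3⟩ := C.cl _ (S.mul_mem hz hy') hw g h f hc
        refine Or.inr ⟨y * (k * g * k⁻¹), S.mul_mem hy (C.Sn k (X.Ka hk) g c1), k * h * k', K.mul_mem (K.mul_mem hk c2) hk',
          k' * f * k'⁻¹ * z', S.mul_mem (C.Sn k' (X.Ka hk') f c3) hz', ?_⟩
        have h3 : k' * t * k' = t := by rw [h1, mul_assoc, inv_mul_cancel, mul_one]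
        calc y * k * t * z * (y' * k' * t * z') = y * k * (t * (z * y') * 1 * (k' * t)) * z' := by group
          _ = y * k * (t * (z * y') * 1 * (t * k'⁻¹)) * z' := by rw [h1]
          _ = y * k * (t * (z * y') * t) * k'⁻¹ * z' := by group
          _ = y * k * (g * h * t * f) * k'⁻¹ * z' := by rw [hc.2.2.2]
          _ = y * k * g * h * (k' * t * k') * f * k'⁻¹ * z' := by rw [h3]; group
          _ = _ := by group
  inv_mem' := by
    rintro _ (⟨y, hy, k, hk, rfl⟩ | ⟨y, hy, k, hk, z, hz, rfl⟩)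
    · exact Or.inl ⟨k⁻¹ * y⁻¹ * k, Sn' X C (X.Ka hk) (S.inv_mem hy), k⁻¹, K.inv_mem hk, by group⟩
    · refine Or.inr ⟨z⁻¹, S.inv_mem hz, k, hk, y⁻¹, S.inv_mem hy, ?_⟩
      have h1 : t * k⁻¹ = k * t := (X.kt hk).symm
      calc (y * k * t * z)⁻¹ = z⁻¹ * (t⁻¹ * k⁻¹) * y⁻¹ := by group
        _ = z⁻¹ * (k * t) * y⁻¹ := by rw [X.ti, h1]
        _ = _ := by group

theorem mem_L {x : G} : x ∈ L X C ↔ (∃ y ∈ S, ∃ k ∈ K, x = y * k) ∨ ∃ y ∈ S, ∃ k ∈ K, ∃ z ∈ S, x = y * k * t * z := Iff.rfl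

theorem S_le : S ≤ L X C := fun y hy => Or.inl ⟨y, hy, 1, K.one_mem, by rw [mul_one]⟩
theorem K_le : K ≤ L X C := fun k hk => Or.inl ⟨1, S.one_mem, k, hk, by rw [one_mul]⟩
theorem t_mem : t ∈ L X C := Or.inr ⟨1, S.one_mem, 1, K.one_mem, 1, S.one_mem, by group⟩

theorem L_le_of {M : Subgroup G} (h1 : S ≤ M) (h2 : K ≤ M) (h3 : t ∈ M) : L X C ≤ M := by
  rintro _ (⟨y, hy, k, hk, rfl⟩ | ⟨y, hy, k, hk, z, hz, rfl⟩)
  · exact M.mul_mem (h1 hy) (h2 hk)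
  · exact M.mul_mem (M.mul_mem (M.mul_mem (h1 hy) (h2 hk)) h3) (h1 hz)

theorem out_ne {y k z : G} (hy : y ∈ S) (hk : k ∈ K) (hz : z ∈ S) : (y * k * t * z) • a ≠ a := by
  rw [mul_smul, Q_fix X.hS (C.SQ hz), mul_smul, mul_smul, X.Kb hk]
  intro h
  have h2 : y • t • a = y • a := by rw [h, Q_fix X.hS (C.SQ hy)]
  exact ta_ne X.hS (smul_left_cancel y h2)

/-- `h : S# → K` is surjective -/
theorem h_surj {k : G} (hk : k ∈ K) : ∃ x ∈ S, x ≠ 1 ∧ ∃ g ∈ S, ∃ f ∈ S, t * x * t = g * k * t * f := by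
  obtain ⟨x, hx, hx1⟩ := C.S1
  obtain ⟨g, h, f, hc⟩ := X.exists_can (C.SQ hx) hx1
  obtain ⟨c1, c2, c3⟩ := C.cl x hx hx1 g h f hc
  -- `h l⁻² = k`
  have hm : h * k⁻¹ ∈ K := K.mul_mem c2 (K.inv_mem hk)
  have hodd : Odd (orderOf (h * k⁻¹)) := OddInv.odd_orderOf_of_mem X.hS.odd_card (X.KD hm)
  obtain ⟨m, hl⟩ := OddInv.exists_sqrt hodd
  set l := (h * k⁻¹) ^ m with hldef
  have hlK : l ∈ K := K.pow_mem hm m
  have h1 := X.can_conjK hc hlK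
  have h2 : l⁻¹ * h * l⁻¹ = k := by
    have e1 : h = l * l * k := by rw [hl]; group
    rw [e1]
    calc l⁻¹ * (l * l * k) * l⁻¹ = l * k * l⁻¹ := by group
      _ = k * l * l⁻¹ := by rw [X.Kcomm l hlK k hk]
      _ = k := by group
  rw [h2] at h1
  refine ⟨l * x * l⁻¹, C.Sn l (X.Ka hlK) x hx, ?_, _, Sn' X C (X.Ka hlK) c1, _, Sn' X C (X.Ka hlK) c3, h1.2.2.2⟩
  intro h3
  apply hx1
  have := congrArg (fun z => l⁻¹ * z * l) h3
  simpa [mul_assoc] using this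

/-- the block data of `SUZBlk` -/
theorem blk : Cfsg.Agent.Lib.SUZBlk.Blk a t Q S K (L X C) where
  hS := X.hS
  SQ := C.SQ
  Sn := C.Sn
  KD k hk := X.KDD hk
  K1 := X.exists_K_ne
  Kfpf k hk hk1 x hx h := X.fpf_quot C.SQ hk hk1 (C.Sn k (X.Ka hk)) hx h
  SL := S_le X C
  KL := K_le X C
  tL := t_mem X C
  cov := by
    rintro l (⟨y, hy, k, hk, rfl⟩ | ⟨y, hy, k, hk, z, hz, rfl⟩) hl
    · exact ⟨y, hy, k, hk, rfl⟩
    · exact absurd hl (out_ne X C hy hk hz)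
  dec := by
    rintro l (⟨y, hy, k, hk, rfl⟩ | ⟨y, hy, k, hk, z, hz, rfl⟩) hl
    · exfalso
      apply hl
      rw [mul_smul, X.Ka hk, Q_fix X.hS (C.SQ hy)]
    · obtain ⟨x, hx, hx1, g, hg, f, hf, he⟩ := h_surj X C hk
      refine ⟨y * g⁻¹, S.mul_mem hy (S.inv_mem hg), x, hx, f⁻¹ * z, S.mul_mem (S.inv_mem hf) hz, hx1, ?_⟩
      rw [he]; group
  inv := by
    intro y hy hy1
    obtain ⟨g, h, f, hc⟩ := X.exists_can (C.SQ hy) hy1
    obtain ⟨c1, c2, c3⟩ := C.cl y hy hy1 g h f hc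
    refine ⟨g, c1, ?_⟩
    have h1 : t • y • t • a = (t * y * t) • a := by rw [mul_smul, mul_smul]
    rw [h1, hc.2.2.2, mul_smul, Q_fix X.hS (C.SQ c3), mul_smul, mul_smul, X.Kb c2]

end Lgrp

/-- case (A): `r ∈ E` -/
theorem cl_E [Finite G] (X : Env a t Q K s r) (hr : r * r = 1) : Cl a t Q K X.E where
  SQ := X.EQ
  S1 := ⟨s, X.sE, X.s_ne⟩
  Sn h hh y hy := X.E_conj hh hy
  cl := by
    intro x hx hx1 g h f hc
    obtain ⟨k, hk, rfl⟩ := X.exists_kE hx hx1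
    obtain ⟨rfl, rfl, rfl⟩ := X.can_unique hc (X.can_e hk)
    have hrE : r ∈ X.E := ⟨Q_fix X.hS X.hr, hr⟩
    exact ⟨X.E_conj (X.Ka hk) (X.E.inv_mem hrE), K.mul_mem hk hk, X.E_conj (X.Ka hk) hrE⟩

/-- `|K| + 1 = |E|` -/
theorem card_K [Finite G] (X : Env a t Q K s r) : Nat.card K + 1 = Nat.card X.E := by
  have h1 := card_invol_eq X.hS
  rw [← X.Kset] at h1
  have h2 : Nat.card (K : Set G) = Nat.card K := rfl
  rw [h2] at h1
  rw [h1]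
  have h3 : (X.E : Set G) = insert 1 (Cfsg.involutionsIn (stabilizer G a : Set G)) := by
    ext x
    rw [Set.mem_insert_iff, SetLike.mem_coe, X.mem_E, mem_invol X.hS]
    constructor
    · rintro ⟨h, h'⟩
      by_cases hx : x = 1
      · exact Or.inl hx
      · exact Or.inr ⟨h, hx, h'⟩
    · rintro (rfl | ⟨h, -, h'⟩)
      · exact ⟨one_smul _ _, one_mul _⟩
      · exact ⟨h, h'⟩
  have h4 : (1 : G) ∉ Cfsg.involutionsIn (stabilizer G a : Set G) := fun h => h.2.1 rfl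
  have h5 : Nat.card X.E = (X.E : Set G).ncard := rfl
  rw [h5, h3, Set.ncard_insert_of_notMem h4 (Set.toFinite _)]
  rfl

theorem card_E_gt [Finite G] (X : Env a t Q K s r) : 2 < Nat.card X.E := by
  obtain ⟨s₁, h1, s₂, h2, hne⟩ := exists_two_invol X.hS X.h2
  have hE : ∀ x ∈ Cfsg.involutionsIn (stabilizer G a : Set G), x ∈ X.E := fun x hx => ⟨hx.1, hx.2.2⟩
  have h3 : ({1, s₁, s₂} : Set G).ncard = 3 := by
    rw [Set.ncard_eq_three]
    exact ⟨1, s₁, s₂, fun h => h1.2.1 h.symm, fun h => h2.2.1 h.symm, hne, rfl⟩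
  have h4 : ({1, s₁, s₂} : Set G) ⊆ (X.E : Set G) := by
    rintro x (rfl | rfl | rfl)
    · exact X.E.one_mem
    · exact hE _ h1
    · exact hE _ h2
  have h5 := Set.ncard_le_ncard h4 (Set.toFinite _)
  rw [h3] at h5
  exact h5

/-- `E` is a 2-group: `|E| = 2 ^ n` -/
theorem exists_card_E [Finite G] (X : Env a t Q K s r) : ∃ n : ℕ, 2 ≤ n ∧ Nat.card X.E = 2 ^ n := by
  have hp : IsPGroup 2 X.E := by
    intro x
    refine ⟨1, Subtype.ext ?_⟩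
    have := x.2.2
    rw [pow_one, pow_two]
    exact this
  have : Fact (Nat.Prime 2) := ⟨Nat.prime_two⟩
  obtain ⟨n, hn⟩ := IsPGroup.iff_card.mp hp
  refine ⟨n, ?_, hn⟩
  have h1 := card_E_gt X
  rw [hn] at h1
  by_contra h2
  have : n ≤ 1 := by omega
  have h3 := Nat.pow_le_pow_right (show 0 < 2 by norm_num) this
  omega

/-- the elements of `S - E`, if `|S| = q²` -/
theorem exists_rE [Finite G] (X : Env a t Q K s r) {S : Subgroup G} (SQ : S ≤ Q) (hE : X.E ≤ S)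
    (Sn : ∀ h : G, h • a = a → ∀ y ∈ S, h * y * h⁻¹ ∈ S) (hcard : Nat.card S = Nat.card X.E ^ 2) (hr : r ∈ S)
    (hr1 : r * r ≠ 1) {x : G} (hx : x ∈ S) (hxE : x ∉ X.E) : ∃ k ∈ K, ∃ e ∈ X.E, x = k * (r * e) * k⁻¹ := by
  have hrE : r ∉ X.E := fun h => hr1 h.2
  let A : Set G := (S : Set G) \ (X.E : Set G)
  have hA : A.ncard = Nat.card K * Nat.card X.E := by
    have h1 := Set.ncard_diff (s := (X.E : Set G)) (t := (S : Set G)) hE (Set.toFinite _)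
    have h2 : (S : Set G).ncard = Nat.card S := rfl
    have h3 : (X.E : Set G).ncard = Nat.card X.E := rfl
    rw [h2, h3, hcard, ← card_K X] at h1
    rw [show A.ncard = _ from h1, ← card_K X, pow_two]
    have : (Nat.card K + 1) * (Nat.card K + 1) = Nat.card K * (Nat.card K + 1) + (Nat.card K + 1) := by ring
    omega
  let φ : K × X.E → A := fun p => ⟨(p.1 : G) * (r * p.2) * (p.1 : G)⁻¹, by
    obtain ⟨⟨k, hk⟩, ⟨e, he⟩⟩ := p
    refine ⟨Sn k (X.Ka hk) _ (S.mul_mem hr (hE he)), fun h => ?_⟩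
    have hk' : k⁻¹ • a = a := (X.D_inv (X.KDD hk)).1
    have h1 := X.E_conj hk' h
    have h2 : k⁻¹ * (k * (r * e) * k⁻¹) * k⁻¹⁻¹ = r * e := by group
    rw [h2] at h1
    apply hrE
    have h3 := X.E.mul_mem h1 (X.E.inv_mem he)
    rwa [mul_inv_cancel_right] at h3⟩
  have hφ : Function.Injective φ := by
    rintro ⟨⟨k, hk⟩, ⟨e, he⟩⟩ ⟨⟨k', hk'⟩, ⟨e', he'⟩⟩ h
    have h1 : k * (r * e) * k⁻¹ = k' * (r * e') * k'⁻¹ := congrArg Subtype.val h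
    have hm : k'⁻¹ * k ∈ K := K.mul_mem (K.inv_mem hk') hk
    have h2 : k'⁻¹ * k = 1 := by
      by_contra hne
      apply hrE
      refine X.fpf_quot X.EQ hm hne (fun y hy => X.E_conj (X.Ka hm) hy) (SQ hr) ?_
      have h3 : (k'⁻¹ * k) * r * (k'⁻¹ * k)⁻¹ = (r * e') * ((k'⁻¹ * k) * e * (k'⁻¹ * k)⁻¹)⁻¹ := by
        calc (k'⁻¹ * k) * r * (k'⁻¹ * k)⁻¹ = k'⁻¹ * (k * (r * e) * k⁻¹) * k' * ((k'⁻¹ * k) * e * (k'⁻¹ * k)⁻¹)⁻¹ := by group
          _ = k'⁻¹ * (k' * (r * e') * k'⁻¹) * k' * ((k'⁻¹ * k) * e * (k'⁻¹ * k)⁻¹)⁻¹ := by rw [h1]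
          _ = _ := by group
      rw [h3]
      have h4 : r⁻¹ * (r * e' * (k'⁻¹ * k * e * (k'⁻¹ * k)⁻¹)⁻¹) = e' * (k'⁻¹ * k * e * (k'⁻¹ * k)⁻¹)⁻¹ := by group
      rw [h4]
      exact X.E.mul_mem he' (X.E.inv_mem (X.E_conj (X.Ka hm) he))
    have h3 : k = k' := by
      calc k = k' * (k'⁻¹ * k) := by group
        _ = k' := by rw [h2, mul_one]
    subst h3
    have h4 : e = e' := by
      have h5 := congrArg (fun z => r⁻¹ * (k⁻¹ * z * k)) h1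
      simpa [mul_assoc] using h5
    subst h4
    rfl
  have hbij : Function.Bijective φ := by
    rw [Nat.bijective_iff_injective_and_card]
    refine ⟨hφ, ?_⟩
    rw [Nat.card_prod]
    exact hA.symm
  obtain ⟨⟨⟨k, hk⟩, ⟨e, he⟩⟩, h⟩ := hbij.2 ⟨x, hx, hxE⟩
  exact ⟨k, hk, e, he, (congrArg Subtype.val h).symm⟩

/-- case (B): `r ∉ E`, `|S| = q²` -/
theorem cl_B [Finite G] (X : Env a t Q K s r) {S : Subgroup G} (SQ : S ≤ Q) (hE : X.E ≤ S)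
    (Sn : ∀ h : G, h • a = a → ∀ y ∈ S, h * y * h⁻¹ ∈ S) (hcard : Nat.card S = Nat.card X.E ^ 2) (hr : r ∈ S)
    (hr1 : r * r ≠ 1) (hfg : ∀ x ∈ S, x ≠ 1 → ∀ g h f, Can a t Q x g h f → g ∈ S ∧ f ∈ S) : Cl a t Q K S where
  SQ := SQ
  S1 := ⟨s, hE X.sE, X.s_ne⟩
  Sn := Sn
  cl := by
    intro x hx hx1 g h f hc
    obtain ⟨h1, h2⟩ := hfg x hx hx1 g h f hc
    refine ⟨h1, ?_, h2⟩
    by_cases hxE : x ∈ X.E
    · obtain ⟨k, hk, rfl⟩ := X.exists_kE hxE hx1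
      obtain ⟨rfl, rfl, rfl⟩ := X.can_unique hc (X.can_e hk)
      exact K.mul_mem hk hk
    · obtain ⟨k, hk, e, he, rfl⟩ := exists_rE X SQ hE Sn hcard hr hr1 hx hxE
      -- move back by `k`
      have hk' := K.inv_mem hk
      have h3 := X.can_conjK hc hk'
      have h4 : k⁻¹ * (k * (r * e) * k⁻¹) * k⁻¹⁻¹ = r * e := by group
      rw [h4] at h3
      have h5 := X.h_re he h3
      have h6 : h = k⁻¹ * (k⁻¹⁻¹ * h * k⁻¹⁻¹) * k⁻¹ := by group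
      rw [h6]
      exact K.mul_mem (K.mul_mem hk' h5) hk'

/-- case (B) for `S = Q`, `|Q| = q²` -/
theorem cl_Q [Finite G] (X : Env a t Q K s r) (hcard : Nat.card Q = Nat.card X.E ^ 2) (hr1 : r * r ≠ 1) :
    Cl a t Q K Q :=
  cl_B X le_rfl X.EQ (fun h hh y hy => X.hS.conj_mem h (mem_stabilizer_iff.2 hh) y hy) hcard X.hr hr1
    (fun x _ _ g h f hc => ⟨hc.1, hc.2.2.1⟩)

end Cfsg.Agent.Lib.SuzS1
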