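import Mathlib
set_option autoImplicit false
set_option linter.unusedSectionVars false
set_option linter.unusedVariables false

/-!
SUZ project, piece [S7]: homomorphisms from `SL(2, F)`, `F` of characteristic two (helper19).
-/

namespace Cfsg.Agent.Lib.SuzS7

open Matrix
open scoped MatrixGroups

/-- relations for the images of the upper unitriangular matrices, of the diagonal matrices and of `[[0,1],[1,0]]` -/
structure Rel {F : Type*} [Field F] {Γ : Type*} [Group Γ] (u h : F → Γ) (t : Γ) : Prop where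
  uadd : ∀ x y, u (x + y) = u x * u y
  hmul : ∀ x y, x ≠ 0 → y ≠ 0 → h (x * y) = h x * h y
  hu : ∀ x b, x ≠ 0 → h x * u b = u (x ^ 2 * b) * h x
  tt : t * t = 1
  tut : ∀ b, b ≠ 0 → t * u b * t = u b⁻¹ * t * h b * u b⁻¹

variable {F : Type*} [Field F] {Γ : Type*} [Group Γ]

/-- upper unitriangular matrices -/
def up (b : F) : SL(2, F) := ⟨!![1, b; 0, 1], by simp [Matrix.det_fin_two]⟩

/-- diagonal matrices -/
def dg (x : F) (hx : x ≠ 0) : SL(2, F) := ⟨!![x, 0; 0, x⁻¹], by simp [Matrix.det_fin_two, hx]⟩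

/-- the antidiagonal matrix -/
def wm (F : Type*) [Field F] [CharP F 2] : SL(2, F) := ⟨!![0, 1; 1, 0], by
  rw [Matrix.det_fin_two]; simp [CharTwo.neg_eq]⟩

/-- the map -/
noncomputable def sg (u h : F → Γ) (t : Γ) (A : SL(2, F)) : Γ :=
  open Classical in
  if A 1 0 = 0 then u (A 0 0 * A 0 1) * h (A 0 0) else u (A 0 0 / A 1 0) * t * h (A 1 0) * u (A 1 1 / A 1 0)

variable [CharP F 2] {u h : F → Γ} {t : Γ} (R : Rel u h t)
include R

omit [CharP F 2] in
theorem u0 : u 0 = 1 := by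
  have := R.uadd 0 0
  rw [add_zero] at this
  exact left_eq_mul.mp this

omit [CharP F 2] in
theorem h1 : h 1 = 1 := by
  have := R.hmul 1 1 one_ne_zero one_ne_zero
  rw [mul_one] at this
  exact left_eq_mul.mp this

omit [CharP F 2] R in
theorem det_eq (A : SL(2, F)) : A 0 0 * A 1 1 - A 0 1 * A 1 0 = 1 := by
  have := A.2
  rwa [Matrix.det_fin_two] at this

omit [CharP F 2] R in
theorem up_mul_apply (b : F) (A : SL(2, F)) : (up b * A) 0 0 = A 0 0 + b * A 1 0 ∧ (up b * A) 0 1 = A 0 1 + b * A 1 1 ∧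
    (up b * A) 1 0 = A 1 0 ∧ (up b * A) 1 1 = A 1 1 := by
  have h : ((up b * A : SL(2, F)) : Matrix (Fin 2) (Fin 2) F) = !![1, b; 0, 1] * (A : Matrix (Fin 2) (Fin 2) F) := rfl
  refine ⟨?_, ?_, ?_, ?_⟩ <;>
    · rw [h, Matrix.mul_apply, Fin.sum_univ_two]; simp

omit R in
theorem w_mul_apply (A : SL(2, F)) : (wm F * A) 0 0 = A 1 0 ∧ (wm F * A) 0 1 = A 1 1 ∧
    (wm F * A) 1 0 = A 0 0 ∧ (wm F * A) 1 1 = A 0 1 := by
  have h : ((wm F * A : SL(2, F)) : Matrix (Fin 2) (Fin 2) F) = !![0, 1; 1, 0] * (A : Matrix (Fin 2) (Fin 2) F) := rfl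
  refine ⟨?_, ?_, ?_, ?_⟩ <;>
    · rw [h, Matrix.mul_apply, Fin.sum_univ_two]; simp

omit [CharP F 2] in
theorem sg_up (b : F) : sg u h t (up b) = u b := by
  have e1 : (up b) 1 0 = 0 := rfl
  have e2 : (up b) 0 0 = 1 := rfl
  have e3 : (up b) 0 1 = b := rfl
  unfold sg
  rw [if_pos e1, e2, e3, one_mul, h1 R, mul_one]

omit [CharP F 2] R in
theorem sg_dg (R : Rel u h t) (x : F) (hx : x ≠ 0) : sg u h t (dg x hx) = h x := by
  have e1 : (dg x hx) 1 0 = 0 := rfl
  have e2 : (dg x hx) 0 0 = x := rfl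
  have e3 : (dg x hx) 0 1 = 0 := rfl
  unfold sg
  rw [if_pos e1, e2, e3, mul_zero, u0 R, one_mul]

theorem sg_w : sg u h t (wm F) = t := by
  have e1 : (wm F) 1 0 = 1 := rfl
  have e2 : (wm F) 0 0 = 0 := rfl
  have e3 : (wm F) 1 1 = 0 := rfl
  unfold sg
  rw [if_neg (by rw [e1]; exact one_ne_zero), e1, e2, e3, zero_div, u0 R, h1 R]; group

omit [CharP F 2] in
theorem sg_up_mul (b : F) (A : SL(2, F)) : sg u h t (up b * A) = u b * sg u h t A := by
  obtain ⟨a1, a2, a3, a4⟩ := up_mul_apply b A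
  have hd := det_eq A
  unfold sg
  rw [a1, a2, a3, a4]
  split_ifs with hz
  · rw [hz] at hd ⊢
    rw [mul_zero, add_zero, ← mul_assoc, ← R.uadd]
    congr 2
    linear_combination b * hd
  · rw [← mul_assoc, ← mul_assoc, ← mul_assoc, ← R.uadd]
    congr 4
    field_simp
    ring

theorem sg_w_mul (A : SL(2, F)) : sg u h t (wm F * A) = t * sg u h t A := by
  obtain ⟨a1, a2, a3, a4⟩ := w_mul_apply A
  have hd := det_eq A
  unfold sg
  rw [a1, a2, a3, a4]
  set x := A 0 0
  set y := A 0 1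
  set z := A 1 0
  set w := A 1 1
  by_cases hz : z = 0
  · rw [if_pos hz]
    have hx : x ≠ 0 := by
      intro hx
      rw [hx, hz] at hd
      simp at hd
    rw [if_neg hx, hz, zero_div, u0 R, one_mul, mul_assoc, R.hu x (y / x) hx]
    congr 3
    field_simp
  · by_cases hx : x = 0
    · rw [if_pos hx, if_neg hz, hx, zero_div, u0 R, one_mul, mul_assoc t, ← mul_assoc t t, R.tt, one_mul, R.hu z _ hz]
      congr 2
      field_simp
    · rw [if_neg hx, if_neg hz]
      have hb : x / z ≠ 0 := div_ne_zero hx hz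
      have h3 := R.tut (x / z) hb
      have h4 : h (x / z) * h z = h x := by
        rw [← R.hmul _ _ hb hz]
        congr 1
        field_simp
      have h5 := R.hu z ((x / z)⁻¹ / z ^ 2) hz
      have h6 : z ^ 2 * ((x / z)⁻¹ / z ^ 2) = (x / z)⁻¹ := by field_simp
      rw [h6] at h5
      calc u (z / x) * t * h x * u (y / x) = u (x / z)⁻¹ * t * (h (x / z) * h z) * u ((x / z)⁻¹ / z ^ 2 + w / z) := by
            rw [h4]
            congr 2
            · rw [inv_div]
            · have h7 : x * w - y * z = 1 := hd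
              have h8 : (1 : F) + x * w = y * z := by
                have h9 : (2 : F) = 0 := CharTwo.two_eq_zero
                linear_combination h7 + h9
              field_simp
              linear_combination -h8
        _ = u (x / z)⁻¹ * t * h (x / z) * (h z * u ((x / z)⁻¹ / z ^ 2)) * u (w / z) := by rw [R.uadd]; group
        _ = u (x / z)⁻¹ * t * h (x / z) * (u (x / z)⁻¹ * h z) * u (w / z) := by rw [h5]
        _ = (u (x / z)⁻¹ * t * h (x / z) * u (x / z)⁻¹) * h z * u (w / z) := by group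
        _ = (t * u (x / z) * t) * h z * u (w / z) := by rw [h3]
        _ = _ := by group

/-- the elements `g` with `sg (g A) = sg g sg A` -/
noncomputable def G0 : Subgroup (SL(2, F)) where
  carrier := {g | ∀ A, sg u h t (g * A) = sg u h t g * sg u h t A}
  one_mem' := by
    intro A
    have e1 : (1 : SL(2, F)) 1 0 = 0 := rfl
    have e2 : (1 : SL(2, F)) 0 0 = 1 := rfl
    have e3 : (1 : SL(2, F)) 0 1 = 0 := rfl
    have : sg u h t 1 = 1 := by
      unfold sg
      rw [if_pos e1, e2, e3, mul_zero, u0 R, h1 R, one_mul]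
    rw [this, one_mul, one_mul]
  mul_mem' := by
    intro g g' hg hg' A
    rw [mul_assoc, hg, hg', hg, mul_assoc]
  inv_mem' := by
    intro g hg A
    have e1 : (1 : SL(2, F)) 1 0 = 0 := rfl
    have e2 : (1 : SL(2, F)) 0 0 = 1 := rfl
    have e3 : (1 : SL(2, F)) 0 1 = 0 := rfl
    have h0 : sg u h t 1 = 1 := by
      unfold sg
      rw [if_pos e1, e2, e3, mul_zero, u0 R, h1 R, one_mul]
    have h2 := hg (g⁻¹ * A)
    have h3 := hg g⁻¹
    rw [mul_inv_cancel, h0] at h3
    rw [mul_inv_cancel_left] at h2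
    have h4 : sg u h t g⁻¹ = (sg u h t g)⁻¹ := eq_inv_of_mul_eq_one_right h3.symm
    rw [h4, h2]; group

omit R in
theorem dg_eq (x : F) (hx : x ≠ 0) : dg x hx = up x * wm F * up x⁻¹ * wm F * up x * wm F := by
  apply Subtype.ext
  have h : ((up x * wm F * up x⁻¹ * wm F * up x * wm F : SL(2, F)) : Matrix (Fin 2) (Fin 2) F) =
      !![1, x; 0, 1] * !![0, 1; 1, 0] * !![1, x⁻¹; 0, 1] * !![0, 1; 1, 0] * !![1, x; 0, 1] * !![0, 1; 1, 0] := rfl
  rw [h]
  show !![x, 0; 0, x⁻¹] = _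
  have h2 : (1 : F) + 1 = 0 := CharTwo.add_self_eq_zero 1
  simp only [Matrix.mul_fin_two, mul_zero, mul_one, zero_add, add_zero, zero_mul, one_mul, mul_inv_cancel₀ hx, h2,
    inv_mul_cancel₀ hx]

omit R in
theorem decomp (A : SL(2, F)) (hz : A 1 0 ≠ 0) :
    A = up (A 0 0 / A 1 0) * wm F * dg (A 1 0) hz * up (A 1 1 / A 1 0) := by
  have hd := det_eq A
  apply Subtype.ext
  have h : ((up (A 0 0 / A 1 0) * wm F * dg (A 1 0) hz * up (A 1 1 / A 1 0) : SL(2, F)) : Matrix (Fin 2) (Fin 2) F) =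
      !![1, A 0 0 / A 1 0; 0, 1] * !![0, 1; 1, 0] * !![A 1 0, 0; 0, (A 1 0)⁻¹] * !![1, A 1 1 / A 1 0; 0, 1] := rfl
  rw [h]
  have h9 : (2 : F) = 0 := CharTwo.two_eq_zero
  ext i j
  fin_cases i <;> fin_cases j
  · simp [Matrix.mul_apply, Fin.sum_univ_two]
    field_simp
  · simp [Matrix.mul_apply, Fin.sum_univ_two]
    field_simp
    linear_combination -hd - h9
  · simp [Matrix.mul_apply, Fin.sum_univ_two]
  · simp [Matrix.mul_apply, Fin.sum_univ_two]
    field_simp

theorem G0_top : G0 R = ⊤ := by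
  rw [eq_top_iff]
  intro A _
  have hup : ∀ b, up b ∈ G0 R := fun b A => by rw [sg_up_mul R, sg_up R]
  have hw : wm F ∈ G0 R := fun A => by rw [sg_w_mul R, sg_w R]
  have hdg : ∀ x hx, dg x hx ∈ G0 R := by
    intro x hx
    rw [dg_eq]
    exact (G0 R).mul_mem ((G0 R).mul_mem ((G0 R).mul_mem ((G0 R).mul_mem ((G0 R).mul_mem (hup _) hw) (hup _)) hw) (hup _)) hw
  have h1 : ∀ A : SL(2, F), A 1 0 ≠ 0 → A ∈ G0 R := by
    intro A hz
    rw [decomp A hz]
    exact (G0 R).mul_mem ((G0 R).mul_mem ((G0 R).mul_mem (hup _) hw) (hdg _ _)) (hup _)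
  by_cases hz : A 1 0 = 0
  · have h2 := h1 (wm F * A) (by
      rw [(w_mul_apply A).2.2.1]
      intro hx
      have hd := det_eq A
      rw [hx, hz] at hd
      simp at hd)
    have h3 : A = (wm F)⁻¹ * (wm F * A) := by group
    rw [h3]
    exact (G0 R).mul_mem ((G0 R).inv_mem hw) h2
  · exact h1 A hz

/-- the homomorphism `SL(2, F) → Γ` -/
noncomputable def hom : SL(2, F) →* Γ where
  toFun := sg u h t
  map_one' := by
    have e1 : (1 : SL(2, F)) 1 0 = 0 := rfl
    have e2 : (1 : SL(2, F)) 0 0 = 1 := rfl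
    have e3 : (1 : SL(2, F)) 0 1 = 0 := rfl
    unfold sg
    rw [if_pos e1, e2, e3, mul_zero, u0 R, h1 R, one_mul]
  map_mul' A B := by
    have : A ∈ G0 R := by rw [G0_top R]; exact Subgroup.mem_top _
    exact this B

theorem hom_apply (A : SL(2, F)) : hom R A = sg u h t A := rfl
theorem hom_up (b : F) : hom R (up b) = u b := sg_up R b
theorem hom_dg (x : F) (hx : x ≠ 0) : hom R (dg x hx) = h x := sg_dg R x hx
theorem hom_w : hom R (wm F) = t := sg_w R

end Cfsg.Agent.Lib.SuzS7
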