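import Cfsg.Agent.Lib.SuzS1
import Cfsg.Agent.Lib.SuzS7
import Cfsg.Agent.Lib.RegField
set_option autoImplicit false
set_option linter.unusedSectionVars false
set_option linter.unusedVariables false

/-!
SUZ project, piece [S7]: if `r ∈ E` then `L = E K ∪ E K t E` is isomorphic to `SL(2, F)` (helper19).
-/

namespace Cfsg.Agent.Lib.SuzS7

open MulAction Cfsg.Agent.Lib.RankOne Cfsg.Agent.Lib.RankOneC Cfsg.Agent.Lib.SuzS1
open scoped MatrixGroups

variable {G Ω : Type*} [Group G] [MulAction G Ω] {a : Ω} {t : G} {Q K : Subgroup G} {s r : G}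

section
variable [Finite G] (X : Env a t Q K s r) (hrr : r * r = 1)
include X hrr

theorem r_ne : r ≠ 1 := by
  rintro rfl
  have h1 := X.hsr
  have h2 : s = t := by
    calc s = t * (t * s * t) * t := by
          rw [← mul_assoc, ← mul_assoc, X.tt, one_mul, mul_assoc, X.tt, mul_one]
      _ = t * (1⁻¹ * t * 1) * t := by rw [h1]
      _ = (t * t) * t := by group
      _ = t := by rw [X.tt, one_mul]
  exact X.hS.not_mem (by rw [← h2]; exact mem_stabilizer_iff.2 X.sa)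

theorem r_eq_s : r = s := by
  have hra : r • a = a := Q_fix X.hS X.hr
  have hodd : Odd (orderOf (r * t)) := odd_mul X.hS hra (r_ne X hrr) hrr (ta_ne X.hS) X.tt
  have hri : r⁻¹ = r := by rw [inv_eq_iff_mul_eq_one]; exact hrr
  have p3 : ∀ x : G, x ^ 3 = x * x * x := fun x => by rw [pow_succ, pow_two]
  have h1 : s = t * (r * t) * (r * t) := by
    calc s = t * (t * s * t) * t := by
          rw [← mul_assoc, ← mul_assoc, X.tt, one_mul, mul_assoc, X.tt, mul_one]
      _ = t * (r⁻¹ * t * r) * t := by rw [X.hsr]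
      _ = _ := by rw [hri]; group
  have h2 : s * r = r * s := X.E_central X.sE X.hr
  have h3 : (r * t) ^ 3 * (r * t) ^ 3 = 1 := by
    have h4 : (r * t) ^ 3 = (t * r) ^ 3 := by
      have e1 : (r * t) ^ 3 = r * s := by
        rw [h1, p3 (r * t)]
        simp only [mul_assoc]
      have e2 : (t * r) ^ 3 = s * r := by
        rw [h1, p3 (t * r)]
        simp only [mul_assoc]
      rw [e1, e2, h2]
    have h5 : (t * r) = (r * t)⁻¹ := by rw [mul_inv_rev, X.ti, hri]
    nth_rewrite 2 [h4]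
    rw [h5, inv_pow, mul_inv_cancel]
  have h6 : (r * t) ^ 3 = 1 := by
    have h7 : Odd (orderOf ((r * t) ^ 3)) := hodd.of_dvd_nat (orderOf_pow_dvd 3)
    have h8 : orderOf ((r * t) ^ 3) ∣ 2 := orderOf_dvd_of_pow_eq_one (by rw [pow_two]; exact h3)
    rcases (Nat.dvd_prime Nat.prime_two).1 h8 with h | h
    · exact orderOf_eq_one_iff.1 h
    · rw [h] at h7; exact absurd h7 (by decide)
  have h9 : (r * t) * (r * t) = (r * t)⁻¹ := by
    rw [eq_inv_iff_mul_eq_one, ← h6, p3]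
  rw [h1, mul_assoc, h9, mul_inv_rev, X.ti, hri, ← mul_assoc, X.tt, one_mul]

/-- the field and the coordinates on `E` and `K` -/
theorem exists_rel : ∃ (F : Type) (_ : Field F) (_ : Fintype F) (_ : CharP F 2) (u h : F → G),
    Rel u h t ∧ (∀ x, u x ∈ X.E) ∧ (∀ e ∈ X.E, ∃ x, u x = e) ∧ Function.Injective u ∧ u 1 = s ∧
    (∀ x, x ≠ 0 → h x ∈ K) ∧ (∀ k ∈ K, ∃ x, x ≠ 0 ∧ h x = k) ∧ (∀ x, x ≠ 0 → h x = 1 → x = 1) := by
  classical
  have hrs := r_eq_s X hrr
  let iE : CommGroup X.E := { (inferInstance : Group X.E) with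
    mul_comm := fun x y => Subtype.ext (X.E_central x.2 (X.EQ y.2)) }
  let iK : CommGroup K := { (inferInstance : Group K) with
    mul_comm := fun x y => Subtype.ext (X.Kcomm x x.2 y y.2) }
  let iA : MulDistribMulAction K X.E :=
    { smul := fun k e => ⟨(k : G) * e * (k : G)⁻¹, X.E_conj (X.Ka k.2) e.2⟩
      one_smul := fun e => Subtype.ext (by show (1 : G) * e * (1 : G)⁻¹ = e; group)
      mul_smul := fun k k' e => Subtype.ext (by
        show ((k : G) * k') * e * ((k : G) * k')⁻¹ = k * (k' * e * (k' : G)⁻¹) * (k : G)⁻¹; group)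
      smul_mul := fun k e e' => Subtype.ext (by
        show (k : G) * (e * e') * (k : G)⁻¹ = (k * e * (k : G)⁻¹) * (k * e' * (k : G)⁻¹); group)
      smul_one := fun k => Subtype.ext (by show (k : G) * 1 * (k : G)⁻¹ = 1; group) }
  have sm : ∀ (k : K) (e : X.E), ((k • e : X.E) : G) = (k : G) * e * (k : G)⁻¹ := fun k e => rfl
  have hnt : Nontrivial X.E := ⟨⟨⟨s, X.sE⟩, 1, fun h => X.s_ne (congrArg Subtype.val h)⟩⟩
  have hreg : ∀ e e' : X.E, e ≠ 1 → e' ≠ 1 → ∃! d : K, d • e = e' := by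
    rintro ⟨e, he⟩ ⟨e', he'⟩ h1 h2
    have h1' : e ≠ 1 := fun h => h1 (Subtype.ext h)
    have h2' : e' ≠ 1 := fun h => h2 (Subtype.ext h)
    obtain ⟨k, hk, hke⟩ := X.exists_kE he h1'
    obtain ⟨k', hk', hke'⟩ := X.exists_kE he' h2'
    refine ⟨⟨k'⁻¹ * k, K.mul_mem (K.inv_mem hk') hk⟩, ?_, ?_⟩
    · apply Subtype.ext
      show (k'⁻¹ * k) * e * (k'⁻¹ * k)⁻¹ = e'
      rw [hke, hke']; group
    · rintro ⟨d, hd⟩ hde
      have h3 : d * e * d⁻¹ = e' := congrArg Subtype.val hde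
      apply Subtype.ext
      show d = k'⁻¹ * k
      have hm : (k'⁻¹ * k)⁻¹ * d ∈ K := K.mul_mem (K.inv_mem (K.mul_mem (K.inv_mem hk') hk)) hd
      have h4 : ((k'⁻¹ * k)⁻¹ * d) * e * ((k'⁻¹ * k)⁻¹ * d)⁻¹ = e := by
        calc ((k'⁻¹ * k)⁻¹ * d) * e * ((k'⁻¹ * k)⁻¹ * d)⁻¹ = (k'⁻¹ * k)⁻¹ * (d * e * d⁻¹) * (k'⁻¹ * k) := by group
          _ = (k'⁻¹ * k)⁻¹ * e' * (k'⁻¹ * k) := by rw [h3]
          _ = e := by rw [hke, hke']; group
      by_contra hne
      have h5 : (k'⁻¹ * k)⁻¹ * d ≠ 1 := fun h => hne (by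
        calc d = (k'⁻¹ * k) * ((k'⁻¹ * k)⁻¹ * d) := by group
          _ = _ := by rw [h, mul_one])
      exact h1' (X.fpf hm h5 (X.EQ he) h4)
  obtain ⟨F, iF, iFt, φ, χ, p0, padd, psm, pne, psurj⟩ := Cfsg.Agent.Lib.RegField.exists_field' hreg
  set S0 : X.E := ⟨s, X.sE⟩ with hS0
  have hs0 : φ S0 ≠ 0 := by
    intro h
    rw [← p0] at h
    exact X.s_ne (congrArg Subtype.val (φ.injective h))
  have hchar : CharP F 2 := by
    have h1 : φ (S0 * S0) = φ S0 + φ S0 := padd _ _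
    have h2 : S0 * S0 = 1 := Subtype.ext X.ss
    rw [h2, p0, ← two_mul] at h1
    have h3 : (2 : F) = 0 := by
      rcases mul_eq_zero.mp h1.symm with h | h
      · exact h
      · exact absurd h hs0
    exact CharTwo.of_one_ne_zero_of_two_eq_zero one_ne_zero h3
  have χmul : ∀ d d' : K, χ (d * d') = χ d * χ d' := by
    intro d d'
    have h1 : φ ((d * d') • S0) = χ (d * d') * φ S0 := psm _ _
    rw [mul_smul, psm, psm, ← mul_assoc] at h1
    exact (mul_right_cancel₀ hs0 h1).symm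
  have χinj : ∀ d d' : K, χ d = χ d' → d = d' := by
    intro d d' h
    have h1 : φ (d • S0) = φ (d' • S0) := by rw [psm, psm, h]
    have h2 := φ.injective h1
    have hs1 : S0 ≠ 1 := fun h => X.s_ne (congrArg Subtype.val h)
    have hs2 : d' • S0 ≠ 1 := by
      intro h3
      have h4 : φ (d' • S0) = 0 := by rw [h3, p0]
      rw [psm] at h4
      rcases mul_eq_zero.mp h4 with h | h
      · exact pne _ h
      · exact hs0 h
    exact (hreg S0 (d' • S0) hs1 hs2).unique h2 rfl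
  have χ1 : χ 1 = 1 := by
    have h1 := χmul 1 1
    rw [mul_one] at h1
    exact (left_eq_mul₀ (pne 1)).mp h1
  -- coordinates
  choose κ hκ using fun c : {c : F // c ≠ 0} => psurj c.1 c.2
  let κ' : F → K := fun x => if hx : x ≠ 0 then κ ⟨x, hx⟩ else 1
  have hκ' : ∀ x, x ≠ 0 → χ (κ' x) = x := by
    intro x hx
    show χ (if hx : x ≠ 0 then κ ⟨x, hx⟩ else 1) = x
    rw [dif_pos hx]
    exact hκ ⟨x, hx⟩
  have κmul : ∀ x y, x ≠ 0 → y ≠ 0 → κ' (x * y) = κ' x * κ' y := by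
    intro x y hx hy
    apply χinj
    rw [hκ' _ (mul_ne_zero hx hy), χmul, hκ' x hx, hκ' y hy]
  let u : F → G := fun x => (φ.symm (x * φ S0) : X.E)
  let h : F → G := fun x => (κ' x : G) * κ' x
  have hu : ∀ (k : K) (b : F), (k : G) * u b * (k : G)⁻¹ = u (χ k * b) := by
    intro k b
    have h1 : k • φ.symm (b * φ S0) = φ.symm (χ k * b * φ S0) := by
      apply φ.injective
      rw [psm, φ.apply_symm_apply, φ.apply_symm_apply, mul_assoc]
    exact congrArg Subtype.val h1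
  have u1 : u 1 = s := by
    show ((φ.symm (1 * φ S0) : X.E) : G) = s
    rw [one_mul, φ.symm_apply_apply]
  have hinv : ∀ x, x ≠ 0 → κ' x⁻¹ = (κ' x)⁻¹ := by
    intro x hx
    rw [eq_inv_iff_mul_eq_one, ← κmul _ _ (inv_ne_zero hx) hx, inv_mul_cancel₀ hx]
    apply χinj
    rw [hκ' 1 one_ne_zero, χ1]
  refine ⟨F, iF, iFt, hchar, u, h, ⟨?_, ?_, ?_, X.tt, ?_⟩, ?_, ?_, ?_, u1, ?_, ?_, ?_⟩
  · intro x y
    show ((φ.symm ((x + y) * φ S0) : X.E) : G) = (φ.symm (x * φ S0) : X.E) * (φ.symm (y * φ S0) : X.E)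
    rw [← Subgroup.coe_mul]
    congr 1
    apply φ.injective
    rw [padd, φ.apply_symm_apply, φ.apply_symm_apply, φ.apply_symm_apply, add_mul]
  · intro x y hx hy
    show (κ' (x * y) : G) * κ' (x * y) = κ' x * κ' x * (κ' y * κ' y)
    rw [κmul x y hx hy, Subgroup.coe_mul]
    have := X.Kcomm _ (κ' x).2 _ (κ' y).2
    calc (κ' x : G) * κ' y * (κ' x * κ' y) = κ' x * (κ' y * κ' x) * κ' y := by group
      _ = κ' x * (κ' x * κ' y) * κ' y := by rw [this]
      _ = _ := by group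
  · intro x b hx
    show (κ' x : G) * κ' x * u b = u (x ^ 2 * b) * (κ' x * κ' x)
    have h1 := hu (κ' x * κ' x) b
    rw [χmul, hκ' x hx, Subgroup.coe_mul] at h1
    rw [pow_two, ← h1]; group
  · intro b hb
    show t * u b * t = u b⁻¹ * t * (κ' b * κ' b) * u b⁻¹
    have hk := K.inv_mem (κ' b).2
    have h1 := (X.can_e hk).2.2.2
    have h2 : ((κ' b : G)⁻¹)⁻¹ * s * (κ' b : G)⁻¹ = u b := by
      have h3 := hu (κ' b) 1
      rw [u1, hκ' b hb, mul_one] at h3
      rw [← h3]; group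
    have h4 : (κ' b : G)⁻¹ * s * ((κ' b : G)⁻¹)⁻¹ = u b⁻¹ := by
      have h3 := hu (κ' b)⁻¹ 1
      have h5 : χ (κ' b)⁻¹ = b⁻¹ := by rw [← hinv b hb, hκ' _ (inv_ne_zero hb)]
      rw [u1, h5, mul_one] at h3
      exact h3
    rw [h2, hrs] at h1
    have h5 : s⁻¹ = s := by rw [inv_eq_iff_mul_eq_one]; exact X.ss
    rw [h5, h4] at h1
    rw [h1]
    have hkk : (κ' b : G)⁻¹ * (κ' b : G)⁻¹ ∈ K := K.mul_mem hk hk
    have h6 := X.kt hkk
    calc u b⁻¹ * ((κ' b : G)⁻¹ * (κ' b : G)⁻¹) * t * u b⁻¹ = u b⁻¹ * (((κ' b : G)⁻¹ * (κ' b : G)⁻¹) * t) * u b⁻¹ := by group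
      _ = u b⁻¹ * (t * ((κ' b : G)⁻¹ * (κ' b : G)⁻¹)⁻¹) * u b⁻¹ := by rw [h6]
      _ = _ := by rw [mul_inv_rev, inv_inv]; simp only [mul_assoc]
  · intro x
    exact (φ.symm (x * φ S0)).2
  · intro e he
    refine ⟨φ ⟨e, he⟩ / φ S0, ?_⟩
    show ((φ.symm (φ ⟨e, he⟩ / φ S0 * φ S0) : X.E) : G) = e
    rw [div_mul_cancel₀ _ hs0, φ.symm_apply_apply]
  · intro x y hxy
    have h1 := φ.symm.injective (Subtype.ext hxy)
    exact mul_right_cancel₀ hs0 h1
  · intro x hx
    exact K.mul_mem (κ' x).2 (κ' x).2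
  · intro k hk
    have hodd : Odd (orderOf k) := OddInv.odd_orderOf_of_mem X.hS.odd_card (X.KD hk)
    obtain ⟨m, hm⟩ := OddInv.exists_sqrt hodd
    let l : K := ⟨k ^ m, K.pow_mem hk m⟩
    refine ⟨χ l, pne l, ?_⟩
    have h1 : κ' (χ l) = l := χinj _ _ (hκ' _ (pne l))
    show (κ' (χ l) : G) * κ' (χ l) = k
    rw [h1]
    exact hm
  · intro x hx h1
    have h2 : (κ' x : G) = 1 := OddInv.eq_one_of_sq_eq_one X.hS.odd_card (X.KD (κ' x).2) h1
    have h3 : κ' x = 1 := Subtype.ext h2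
    rw [← hκ' x hx, h3, χ1]

/-- [S7]: if `r ∈ E`, there is a field `F` with `L = E K ∪ E K t E ≃ SL(2, F)`, `E` corresponding to the upper
unitriangular matrices, `K` to the diagonal matrices, `t` to `[[0,1],[1,0]]` -/
theorem exists_iso : ∃ (F : Type) (_ : Field F) (_ : Fintype F) (_ : CharP F 2) (σ : SL(2, F) ≃* L X (cl_E X hrr)),
    (∀ b, (σ (up b) : G) ∈ X.E) ∧ (∀ e ∈ X.E, ∃ b, (σ (up b) : G) = e) ∧
    (∀ x hx, (σ (dg x hx) : G) ∈ K) ∧ (∀ k ∈ K, ∃ x hx, (σ (dg x hx) : G) = k) ∧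
    (σ (wm F) : G) = t ∧ (σ (up 1) : G) = s ∧ Nat.card X.E = Fintype.card F := by
  obtain ⟨F, iF, iFt, hchar, u, h, R, u1, u2, u3, u4, k1, k2, k3⟩ := exists_rel X hrr
  set C := cl_E X hrr
  let f : SL(2, F) →* G := hom R
  have fa : ∀ A, f A = sg u h t A := fun A => rfl
  -- the values outside the stabiliser
  have hout : ∀ x y z : F, z ≠ 0 → (u x * t * h z * u y) • a ≠ a := by
    intro x y z hz
    have h1 : u x * t * h z * u y = u x * (h z)⁻¹ * t * u y := by
      have := X.kt (K.inv_mem (k1 z hz))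
      rw [inv_inv] at this
      calc u x * t * h z * u y = u x * (t * h z) * u y := by group
        _ = u x * ((h z)⁻¹ * t) * u y := by rw [this]
        _ = _ := by group
    rw [h1]
    exact out_ne X C (u1 x) (K.inv_mem (k1 z hz)) (u1 y)
  have hinj : Function.Injective f := by
    rw [← MonoidHom.ker_eq_bot_iff, eq_bot_iff]
    intro A hA
    rw [MonoidHom.mem_ker, fa] at hA
    rw [Subgroup.mem_bot]
    have hd := det_eq A
    unfold sg at hA
    split_ifs at hA with hz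
    · have hx : A 0 0 ≠ 0 := by
        intro hx
        rw [hx, hz] at hd
        simp at hd
      have h1 : u (A 0 0 * A 0 1) = (h (A 0 0))⁻¹ := eq_inv_of_mul_eq_one_left hA
      have h2 : u (A 0 0 * A 0 1) = 1 := by
        apply Q_inf_D X.hS (X.EQ (u1 _))
        rw [h1]
        exact X.KD (K.inv_mem (k1 _ hx))
      have h3 : h (A 0 0) = 1 := by rw [h2] at hA; rwa [one_mul] at hA
      have h4 := k3 _ hx h3
      have h5 : A 0 0 * A 0 1 = 0 := by
        apply u3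
        rw [h2, u0 R]
      rw [h4, one_mul] at h5
      rw [h4, h5] at hd
      have h6 : A 1 1 = 1 := by simpa using hd
      ext i j
      fin_cases i <;> fin_cases j
      · exact h4
      · exact h5
      · exact hz
      · exact h6
    · exfalso
      apply hout (A 0 0 / A 1 0) (A 1 1 / A 1 0) (A 1 0) hz
      rw [hA, one_smul]
  have hrange : f.range = L X C := by
    apply le_antisymm
    · rintro _ ⟨A, rfl⟩
      rw [fa]
      have hd := det_eq A
      unfold sg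
      split_ifs with hz
      · have hx : A 0 0 ≠ 0 := by
          intro hx
          rw [hx, hz] at hd
          simp at hd
        exact (L X C).mul_mem (S_le X C (u1 _)) (K_le X C (k1 _ hx))
      · exact (L X C).mul_mem ((L X C).mul_mem ((L X C).mul_mem (S_le X C (u1 _)) (t_mem X C)) (K_le X C (k1 _ hz)))
          (S_le X C (u1 _))
    · apply L_le_of X C
      · intro e he
        obtain ⟨b, rfl⟩ := u2 e he
        exact ⟨up b, hom_up R b⟩
      · intro k hk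
        obtain ⟨x, hx, rfl⟩ := k2 k hk
        exact ⟨dg x hx, hom_dg R x hx⟩
      · exact ⟨wm F, hom_w R⟩
  let e1 : SL(2, F) ≃* f.range := f.ofInjective hinj
  let σ : SL(2, F) ≃* L X C := e1.trans (MulEquiv.subgroupCongr hrange)
  have hσ : ∀ A, (σ A : G) = f A := fun A => rfl
  refine ⟨F, iF, iFt, hchar, σ, ?_, ?_, ?_, ?_, ?_, ?_, ?_⟩
  · intro b; rw [hσ, show f (up b) = u b from hom_up R b]; exact u1 b
  · intro e he
    obtain ⟨b, rfl⟩ := u2 e he
    exact ⟨b, by rw [hσ]; exact hom_up R b⟩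
  · intro x hx; rw [hσ, show f (dg x hx) = h x from hom_dg R x hx]; exact k1 x hx
  · intro k hk
    obtain ⟨x, hx, rfl⟩ := k2 k hk
    exact ⟨x, hx, by rw [hσ]; exact hom_dg R x hx⟩
  · rw [hσ]; exact hom_w R
  · rw [hσ, show f (up 1) = u 1 from hom_up R 1]; exact u4
  · rw [← Nat.card_eq_fintype_card]
    refine (Nat.card_eq_of_bijective (fun x : F => (⟨u x, u1 x⟩ : X.E)) ⟨?_, ?_⟩).symm
    · intro x y hxy; exact u3 (congrArg Subtype.val hxy)
    · rintro ⟨e, he⟩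
      obtain ⟨b, rfl⟩ := u2 e he
      exact ⟨b, rfl⟩

end

end Cfsg.Agent.Lib.SuzS7
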