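import Cfsg.Agent.Lib.SuzS7b
import Cfsg.Agent.Lib.SL2EvenMisc
set_option autoImplicit false
set_option linter.unusedSectionVars false
set_option linter.unusedVariables false

/-!
SUZ project, piece [S7]: the subgroup `L` in the case `S = Q`: it is normal of odd index, a rank one group with two-point
stabiliser `K`; the case `Q = E` of S1136 (helper19).
-/

namespace Cfsg.Agent.Lib.SuzS7

open MulAction Cfsg.Agent.Lib.RankOne Cfsg.Agent.Lib.RankOneC Cfsg.Agent.Lib.SuzS1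
open scoped MatrixGroups

variable {G Ω : Type*} [Group G] [MulAction G Ω] {a : Ω} {t : G} {Q K S : Subgroup G} {s r : G}

section
variable [Finite G] (X : Env a t Q K s r)
include X

/-- `d t d⁻¹ ∈ K t` for `d ∈ D` -/
theorem conj_t {d : G} (hd : d • a = a ∧ d • t • a = t • a) : ∃ y ∈ K, d * t * d⁻¹ = y * t := by
  obtain ⟨y, hy, h⟩ := X.tdt (X.D_inv hd)
  -- `t d⁻¹ t = d⁻¹ y`
  refine ⟨d * (t * d⁻¹ * t), ?_, ?_⟩
  · rw [h, mul_inv_cancel_left]; exact hy
  · calc d * t * d⁻¹ = d * (t * d⁻¹) * 1 := by group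
      _ = d * (t * d⁻¹) * (t * t) := by rw [X.tt]
      _ = _ := by group

theorem Kt_mem_L (C : Cl a t Q K S) {y : G} (hy : y ∈ K) : y * t ∈ L X C := (L X C).mul_mem (K_le X C hy) (t_mem X C)

/-- `D` normalises `L` -/
theorem L_conj_D (C : Cl a t Q K S) {d x : G} (hd : d • a = a ∧ d • t • a = t • a) (hx : x ∈ L X C) :
    d * x * d⁻¹ ∈ L X C := by
  have hS : ∀ y ∈ S, d * y * d⁻¹ ∈ L X C := fun y hy => S_le X C (C.Sn d hd.1 y hy)
  have hK : ∀ k ∈ K, d * k * d⁻¹ ∈ L X C := fun k hk => K_le X C (X.Knorm d hd.1 hd.2 k hk)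
  have ht : d * t * d⁻¹ ∈ L X C := by
    obtain ⟨y, hy, h⟩ := conj_t X hd
    rw [h]; exact Kt_mem_L X C hy
  rcases hx with ⟨y, hy, k, hk, rfl⟩ | ⟨y, hy, k, hk, z, hz, rfl⟩
  · have : d * (y * k) * d⁻¹ = (d * y * d⁻¹) * (d * k * d⁻¹) := by group
    rw [this]; exact (L X C).mul_mem (hS y hy) (hK k hk)
  · have : d * (y * k * t * z) * d⁻¹ = (d * y * d⁻¹) * (d * k * d⁻¹) * (d * t * d⁻¹) * (d * z * d⁻¹) := by group
    rw [this]; exact (L X C).mul_mem ((L X C).mul_mem ((L X C).mul_mem (hS y hy) (hK k hk)) ht) (hS z hz)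

/-- `L ∩ D = K` -/
theorem L_inf_D (C : Cl a t Q K S) {x : G} (hx : x ∈ L X C) (h : x • a = a ∧ x • t • a = t • a) : x ∈ K := by
  rcases hx with ⟨y, hy, k, hk, rfl⟩ | ⟨y, hy, k, hk, z, hz, rfl⟩
  · have h1 : y • t • a = t • a := by
      have := h.2
      rwa [mul_smul, X.Kb hk] at this
    have h2 : y = 1 := by
      by_contra hy1
      exact ta_ne X.hS (Q_free X.hS (C.SQ hy) hy1 h1)
    rw [h2, one_mul]; exact hk
  · exact absurd h.1 (out_ne X C hy hk hz)

variable (C : Cl a t Q K Q)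

/-- `G = L D` if `S = Q` -/
theorem exists_LD (g : G) : ∃ x ∈ L X C, ∃ d : G, (d • a = a ∧ d • t • a = t • a) ∧ g = x * d := by
  by_cases hg : g ∈ stabilizer G a
  · obtain ⟨y, hy, d, hd, rfl⟩ := exists_mul X.hS hg
    exact ⟨y, S_le X C hy, d, ⟨hd.1, hd.2⟩, rfl⟩
  · obtain ⟨⟨p, f⟩, ⟨hp, hf, he⟩, -⟩ := canonical X.hS hg
    dsimp only at hp hf he
    obtain ⟨y, hy, d, hd, rfl⟩ := exists_mul X.hS hp
    have hd' : d • a = a ∧ d • t • a = t • a := ⟨hd.1, hd.2⟩
    refine ⟨y * (d * (t * f) * d⁻¹), (L X C).mul_mem (S_le X C hy)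
      (L_conj_D X C hd' ((L X C).mul_mem (t_mem X C) (S_le X C hf))), d, hd', ?_⟩
    rw [he]; group

theorem L_normal : (L X C).Normal := by
  constructor
  intro x hx g
  obtain ⟨y, hy, d, hd, rfl⟩ := exists_LD X C g
  have h1 := L_conj_D X C hd hx
  have h2 : y * d * x * (y * d)⁻¹ = y * (d * x * d⁻¹) * y⁻¹ := by group
  rw [h2]
  exact (L X C).mul_mem ((L X C).mul_mem hy h1) ((L X C).inv_mem hy)

theorem L_index_odd : Odd (L X C).index := by
  have hn := L_normal X C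
  let f : ↥(stabilizer G a ⊓ stabilizer G (t • a)) →* G ⧸ (L X C) :=
    (QuotientGroup.mk' (L X C)).comp (stabilizer G a ⊓ stabilizer G (t • a)).subtype
  have hf : Function.Surjective f := by
    intro q
    obtain ⟨g, rfl⟩ := QuotientGroup.mk'_surjective _ q
    obtain ⟨x, hx, d, hd, rfl⟩ := exists_LD X C g
    refine ⟨⟨d, hd.1, hd.2⟩, ?_⟩
    show QuotientGroup.mk' (L X C) d = QuotientGroup.mk' (L X C) (x * d)
    rw [map_mul]
    have : QuotientGroup.mk' (L X C) x = 1 := (QuotientGroup.eq_one_iff x).mpr hx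
    rw [this, one_mul]
  have h1 : Nat.card (G ⧸ (L X C)) ∣ Nat.card ↥(stabilizer G a ⊓ stabilizer G (t • a)) :=
    Subgroup.card_dvd_of_surjective f hf
  exact X.hS.odd_card.of_dvd_nat h1

/-- `L` is a rank one group -/
theorem L_setup : Cfsg.IsRankOneSetup (L X C) Ω a (⟨t, t_mem X C⟩ : L X C) (Q.subgroupOf (L X C)) := by
  have key : ∀ x y : Ω, x ≠ y → ∃ l : L X C, l • a = x ∧ l • t • a = y := by
    intro x y hxy
    by_cases hx : x = a
    · obtain ⟨q, hq, h⟩ := Q_trans X.hS (b := y) (fun h => hxy (by rw [hx, h]))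
      exact ⟨⟨q, S_le X C hq⟩, by rw [hx]; exact Q_fix X.hS hq, h⟩
    · obtain ⟨q, hq, h⟩ := Q_trans X.hS (b := x) hx
      have hg : q * t ∈ L X C := (L X C).mul_mem (S_le X C hq) (t_mem X C)
      have hga : (q * t) • a = x := by rw [mul_smul]; exact h
      have hy : (q * t)⁻¹ • y ≠ a := by
        intro h1
        apply hxy
        rw [← hga, ← h1, smul_inv_smul]
      obtain ⟨q', hq', h'⟩ := Q_trans X.hS (b := (q * t)⁻¹ • y) hy
      refine ⟨⟨q * t * q', (L X C).mul_mem hg (S_le X C hq')⟩, ?_, ?_⟩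
      · show (q * t * q') • a = x
        rw [mul_smul, Q_fix X.hS hq', hga]
      · show (q * t * q') • t • a = y
        rw [mul_smul, h', smul_inv_smul]
  refine ⟨?_, ?_, ?_, ?_, ?_, ?_, ?_, ?_, ?_, ?_⟩
  · rw [is_two_pretransitive_iff]
    intro x y x' y' hxy hxy'
    obtain ⟨l, h1, h2⟩ := key x y hxy
    obtain ⟨l', h1', h2'⟩ := key x' y' hxy'
    refine ⟨l' * l⁻¹, ?_, ?_⟩
    · rw [mul_smul, ← h1, inv_smul_smul, h1']
    · rw [mul_smul, ← h2, inv_smul_smul, h2']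
  · exact Subtype.ext X.tt
  · intro h
    exact X.hS.ne_one (congrArg Subtype.val h)
  · intro h
    exact ta_ne X.hS (mem_stabilizer_iff.1 h)
  · intro x hx
    exact mem_stabilizer_iff.2 (Q_fix X.hS (Subgroup.mem_subgroupOf.1 hx))
  · intro h hh x hx
    rw [Subgroup.mem_subgroupOf] at hx ⊢
    exact X.hS.conj_mem h (mem_stabilizer_iff.2 (mem_stabilizer_iff.1 hh)) x hx
  · rw [eq_bot_iff]
    rintro x ⟨hx, hx'⟩
    have hx : (x : G) ∈ Q := hx
    have h1 : (x : G) • t • a = t • a := mem_stabilizer_iff.1 hx'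
    rw [Subgroup.mem_bot]
    by_contra hne
    exact ta_ne X.hS (Q_free X.hS hx (fun h => hne (Subtype.ext h)) h1)
  · apply le_antisymm
    · apply sup_le
      · intro x hx
        exact mem_stabilizer_iff.2 (Q_fix X.hS (Subgroup.mem_subgroupOf.1 hx))
      · exact inf_le_left
    · intro l hl
      have hla : (l : G) • a = a := mem_stabilizer_iff.1 hl
      obtain ⟨y, hy, k, hk, he⟩ := (blk X C).cov l l.2 hla
      have h1 : l = (⟨y, S_le X C hy⟩ : L X C) * ⟨k, K_le X C hk⟩ := Subtype.ext he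
      rw [h1]
      apply Subgroup.mul_mem_sup
      · exact Subgroup.mem_subgroupOf.2 hy
      · exact ⟨mem_stabilizer_iff.2 (X.Ka hk), mem_stabilizer_iff.2 (X.Kb hk)⟩
  · have h1 : Nat.card (Q.subgroupOf (L X C)) = Nat.card Q :=
      Nat.card_congr (Subgroup.subgroupOfEquivOfLe (S_le X C)).toEquiv
    rw [h1]; exact X.hS.even_card
  · let f : ↥(stabilizer (L X C) a ⊓ stabilizer (L X C) ((⟨t, t_mem X C⟩ : L X C) • a)) →*
        ↥(stabilizer G a ⊓ stabilizer G (t • a)) :=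
      { toFun := fun x => ⟨(x : L X C), mem_stabilizer_iff.2 (mem_stabilizer_iff.1 x.2.1), mem_stabilizer_iff.2 (mem_stabilizer_iff.1 x.2.2)⟩
        map_one' := rfl
        map_mul' := fun _ _ => rfl }
    have hf : Function.Injective f := by
      intro x y hxy
      exact Subtype.ext (Subtype.ext (congrArg (fun z : ↥(stabilizer G a ⊓ stabilizer G (t • a)) => (z : G)) hxy))
    exact X.hS.odd_card.of_dvd_nat (Subgroup.card_dvd_of_injective f hf)

/-- two commuting involutions of `L` -/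
theorem L_two (C : Cl a t Q K S) (hE : X.E ≤ S) : ∃ x y : L X C, x ≠ 1 ∧ y ≠ 1 ∧ x ≠ y ∧ x * x = 1 ∧ y * y = 1 ∧ x * y = y * x := by
  obtain ⟨s₁, h1, s₂, h2, hne⟩ := exists_two_invol X.hS X.h2
  have hE' : ∀ x ∈ Cfsg.involutionsIn (stabilizer G a : Set G), x ∈ X.E := fun x hx => ⟨hx.1, hx.2.2⟩
  refine ⟨⟨s₁, S_le X C (hE (hE' _ h1))⟩, ⟨s₂, S_le X C (hE (hE' _ h2))⟩, ?_, ?_, ?_, ?_, ?_, ?_⟩
  · intro h; exact h1.2.1 (congrArg Subtype.val h)
  · intro h; exact h2.2.1 (congrArg Subtype.val h)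
  · intro h; exact hne (congrArg Subtype.val h)
  · exact Subtype.ext h1.2.2
  · exact Subtype.ext h2.2.2
  · exact Subtype.ext (X.E_central (hE' _ h1) (X.EQ (hE' _ h2)))

/-- the centraliser of `t` in the two-point stabiliser of `L` is trivial -/
theorem L_V (C : Cl a t Q K S) (d : L X C) (h1 : d • a = a) (h2 : d • t • a = t • a)
    (h3 : d * (⟨t, t_mem X C⟩ : L X C) = (⟨t, t_mem X C⟩ : L X C) * d) : d = 1 := by
  have hk : (d : G) ∈ K := L_inf_D X C d.2 ⟨h1, h2⟩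
  have h4 : (d : G) * t = t * d := congrArg Subtype.val h3
  have h5 := X.Kt hk
  have h6 : (d : G) = (d : G)⁻¹ := by
    rw [← h5, ← h4, mul_assoc, X.tt, mul_one]
  have h7 : (d : G) * d = 1 := by
    nth_rewrite 1 [h6]
    rw [inv_mul_cancel]
  exact Subtype.ext (OddInv.eq_one_of_sq_eq_one X.hS.odd_card (X.KD hk) h7)

end

/-- the case `Q = E` of S1136 -/
theorem concl_PSL [Finite G] (X : Env a t Q K s r) (hrr : r * r = 1) (hQ : Q = X.E) :
    ∃ L : Subgroup G, L.Normal ∧ Odd L.index ∧ ∃ (F : Type) (_ : Field F) (_ : Fintype F),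
      (∃ n : ℕ, 2 ≤ n ∧ Fintype.card F = 2 ^ n) ∧ Nonempty (L ≃* Matrix.ProjectiveSpecialLinearGroup (Fin 2) F) := by
  have C0 := cl_E X hrr
  have C : Cl a t Q K Q := by
    have h : Cl a t Q K X.E := C0
    exact { SQ := le_rfl, S1 := by obtain ⟨x, hx, hx1⟩ := h.S1; exact ⟨x, h.SQ hx, hx1⟩
            Sn := fun g hg y hy => by rw [hQ] at hy ⊢; exact h.Sn g hg y hy
            cl := fun x hx hx1 g k f hc => by
              have h1 := h.cl x (by rw [← hQ]; exact hx) hx1 g k f hc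
              exact ⟨h.SQ h1.1, h1.2.1, h.SQ h1.2.2⟩ }
  obtain ⟨F, iF, iFt, hchar, σ, -, -, -, -, -, -, hcard⟩ := exists_iso X hrr
  have hL : L X (cl_E X hrr) = L X C := by
    apply le_antisymm
    · exact L_le_of X _ (fun x hx => S_le X C (by rw [hQ]; exact hx)) (K_le X C) (t_mem X C)
    · exact L_le_of X C (fun x hx => S_le X _ (by rw [← hQ]; exact hx)) (K_le X _) (t_mem X _)
  obtain ⟨e⟩ := Cfsg.Agent.Lib.SL2EvenMisc.exists_psl_equiv (F := F)
  obtain ⟨n, hn, hE⟩ := exists_card_E X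
  refine ⟨L X C, L_normal X C, L_index_odd X C, F, iF, iFt, ⟨n, hn, by rw [← hcard, hE]⟩, ?_⟩
  exact ⟨(MulEquiv.subgroupCongr hL.symm).trans (σ.symm.trans e)⟩

end Cfsg.Agent.Lib.SuzS7
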