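import Mathlib
import Cfsg.Prelude.Def_Characters
import Cfsg.Agent.Lib.CharBasic
import Cfsg.Agent.Lib.CharBasic2
import Cfsg.Agent.Lib.IndFun
import Cfsg.Agent.Lib.TIFN3
import Cfsg.Agent.Lib.NilChar
import Cfsg.Agent.Lib.StructConst
import Cfsg.Agent.Lib.Sharp3Main

set_option autoImplicit false

/-!
# Character inequality [X1] for Suzuki's theorem (helper69)

`XHyp H Q E q v`: `Q` is a TI subgroup with normaliser `H`, `E` the set of elements of `Q` of
order at most two (a subgroup of order `q ≥ 4`), `H` transitive on the involutions of `E`,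
`|H : Q| = (q - 1) v` odd, `|G| = (|Q| + 1) |H|`.
-/

namespace Cfsg.Agent.Lib.SuzX

open scoped ComplexConjugate
open CharBasic IndFun

universe u v

variable {G : Type u} [Group G]

structure XHyp (H Q E : Subgroup G) (q v : ℕ) : Prop where
  QH : Q ≤ H
  conjQ : ∀ h ∈ H, ∀ x ∈ Q, h * x * h⁻¹ ∈ Q
  ti : ∀ x ∈ Q, x ≠ 1 → ∀ g : G, g * x * g⁻¹ ∈ Q → g ∈ H
  EQ : E ≤ Q
  mem_E : ∀ x ∈ Q, (x ∈ E ↔ x * x = 1)
  trans : ∀ x ∈ E, x ≠ 1 → ∀ y ∈ E, y ≠ 1 → ∃ h ∈ H, h * x * h⁻¹ = y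
  cardE : Nat.card E = q
  four_le : 4 ≤ q
  cardH : Nat.card H = Nat.card Q * ((q - 1) * v)
  odd : Odd ((q - 1) * v)
  cardG : Nat.card G = (Nat.card Q + 1) * Nat.card H

/-- conjugate function -/
noncomputable def cj {Q : Subgroup G} (h : G) (α : Q → ℂ) : Q → ℂ :=
  fun x => extendByZero Q α (h⁻¹ * x * h)

namespace XHyp

variable {H Q E : Subgroup G} {q v : ℕ} (X : XHyp H Q E q v)
include X

theorem conjQ' {h : G} (hh : h ∈ H) {x : G} (hx : x ∈ Q) : h⁻¹ * x * h ∈ Q := by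
  have := X.conjQ h⁻¹ (H.inv_mem hh) x hx
  rwa [inv_inv] at this

theorem conjE {h : G} (hh : h ∈ H) {x : G} (hx : x ∈ E) : h * x * h⁻¹ ∈ E := by
  have h1 := X.conjQ h hh x (X.EQ hx)
  rw [X.mem_E _ h1]
  have h2 := (X.mem_E x (X.EQ hx)).1 hx
  have h3 : h * x * h⁻¹ * (h * x * h⁻¹) = h * (x * x) * h⁻¹ := by group
  rw [h3, h2]; group

theorem conjE' {h : G} (hh : h ∈ H) {x : G} (hx : x ∈ E) : h⁻¹ * x * h ∈ E := by
  have := X.conjE (H.inv_mem hh) hx
  rwa [inv_inv] at this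

theorem q_pos : 0 < q := lt_of_lt_of_le (by norm_num) X.four_le

theorem v_pos : 0 < v := by
  rcases Nat.eq_zero_or_pos v with h | h
  · have := X.odd
    rw [h, mul_zero] at this
    exact absurd this (by decide)
  · exact h

/-- the conjugation automorphism of `Q` -/
noncomputable def cjEquiv {h : G} (hh : h ∈ H) : Q ≃* Q where
  toFun x := ⟨h⁻¹ * x * h, X.conjQ' hh x.2⟩
  invFun x := ⟨h * x * h⁻¹, X.conjQ h hh x x.2⟩
  left_inv x := by ext; simp [mul_assoc]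
  right_inv x := by ext; simp [mul_assoc]
  map_mul' x y := by ext; simp [mul_assoc]

theorem cj_eq {h : G} (hh : h ∈ H) (α : Q → ℂ) : cj h α = α ∘ X.cjEquiv hh := by
  funext x
  unfold cj
  rw [extendByZero_mem Q α (X.conjQ' hh x.2)]
  rfl

theorem cj_irr {h : G} (hh : h ∈ H) {α : Q → ℂ} (hα : IsIrrCharacter Q α) :
    IsIrrCharacter Q (cj h α) := by
  rw [X.cj_eq hh]
  exact hα.comp_surjective (X.cjEquiv hh).toMonoidHom (X.cjEquiv hh).surjective

theorem cj_of_mem {h : G} (hh : h ∈ Q) {α : Q → ℂ} (hα : IsClassFunction Q α) :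
    cj h α = α := by
  rw [X.cj_eq (X.QH hh)]
  funext x
  have h1 := hα x (⟨h, hh⟩⁻¹)
  rw [← h1]
  simp only [Function.comp_apply]
  congr 1
  ext
  simp [cjEquiv]

theorem ind_apply [Fintype G] [Fintype H] (β : Q → ℂ) {x : G} (hx : x ∈ Q) (hx1 : x ≠ 1) :
    indFun Q β x = (Nat.card Q : ℂ)⁻¹ * ∑ h : H, extendByZero Q β ((h : G)⁻¹ * x * h) := by
  classical
  unfold indFun
  congr 1
  rw [← Finset.sum_subset (Finset.subset_univ (Finset.univ.filter (fun g : G => g ∈ H)))]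
  · rw [Finset.sum_subtype (Finset.univ.filter (fun g : G => g ∈ H)) (p := fun g => g ∈ H)
      (by simp)]
  · intro g _ hg
    have hg' : g ∉ H := by simpa using hg
    apply extendByZero_not_mem
    intro hmem
    apply hg'
    have := X.ti x hx hx1 g⁻¹ (by rwa [inv_inv])
    simpa using H.inv_mem this

theorem classInner_ind [Fintype G] [Fintype H] [Fintype Q] {α β : Q → ℂ} (h0 : α 1 = 0) :
    classInner (indFun Q α) (indFun Q β) =
      (Nat.card Q : ℂ)⁻¹ * ∑ h : H, classInner α (cj (h : G) β) := by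
  rw [frobenius_reciprocity Q α _ (indFun_isClassFunction Q β)]
  have h1 : ∀ x : Q, α x * conj (indFun Q β x) =
      (Nat.card Q : ℂ)⁻¹ * ∑ h : H, α x * conj (cj (h : G) β x) := by
    intro x
    by_cases hx : x = 1
    · subst hx
      simp [h0]
    · rw [X.ind_apply β x.2 (fun h => hx (Subtype.ext h))]
      simp only [map_mul, map_sum, map_inv₀, Complex.conj_natCast]
      rw [← Finset.mul_sum]
      unfold cj
      ring
  simp only [classInner]
  rw [Finset.sum_congr rfl (fun x _ => h1 x), ← Finset.mul_sum, Finset.sum_comm,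
    ← Finset.mul_sum, mul_left_comm]

/-- averaging over the involutions -/
theorem sum_conj [Fintype H] [Fintype E] (f : G → ℂ) (z : G) (hz : z ∈ E) (hz1 : z ≠ 1) :
    ((q : ℂ) - 1) * ∑ h : H, f ((h : G) * z * (h : G)⁻¹) =
      (Nat.card H : ℂ) * (∑ e : E, f e - f 1) := by
  classical
  set S : G → ℂ := fun z => ∑ h : H, f ((h : G) * z * (h : G)⁻¹) with hS
  have hconst : ∀ w ∈ E, w ≠ 1 → S w = S z := by
    intro w hw hw1
    obtain ⟨k, hk, hkw⟩ := X.trans z hz hz1 w hw hw1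
    rw [hS]
    simp only
    rw [← Equiv.sum_comp (Equiv.mulRight (⟨k, hk⟩ : H)) (fun h : H => f ((h : G) * z * (h : G)⁻¹))]
    apply Finset.sum_congr rfl
    intro h _
    congr 1
    simp only [Equiv.coe_mulRight, Subgroup.coe_mul, mul_inv_rev]
    rw [← hkw]
    group
  have h1 : ∑ w : E, S w = (Nat.card H : ℂ) * ∑ e : E, f e := by
    rw [hS]
    simp only
    rw [Finset.sum_comm]
    have h2 : ∀ h : H, ∑ w : E, f ((h : G) * w * (h : G)⁻¹) = ∑ e : E, f e := by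
      intro h
      refine Fintype.sum_equiv
        { toFun := fun w : E => (⟨h * w * (h : G)⁻¹, X.conjE h.2 w.2⟩ : E)
          invFun := fun w : E => (⟨(h : G)⁻¹ * w * h, X.conjE' h.2 w.2⟩ : E)
          left_inv := fun w => by ext; simp [mul_assoc]
          right_inv := fun w => by ext; simp [mul_assoc] } _ _ ?_
      intro w
      rfl
    rw [Finset.sum_congr rfl (fun h _ => h2 h), Finset.sum_const, Finset.card_univ, nsmul_eq_mul,
      Nat.card_eq_fintype_card]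
  have h3 : S 1 = (Nat.card H : ℂ) * f 1 := by
    rw [hS]
    simp [Nat.card_eq_fintype_card]
  have h4 : ∑ w : E, S w = S 1 + ((q : ℂ) - 1) * S z := by
    rw [← Finset.add_sum_erase Finset.univ (fun w : E => S w) (Finset.mem_univ (1 : E))]
    congr 1
    rw [Finset.sum_congr rfl (g := fun _ => S z)]
    · rw [Finset.sum_const, Finset.card_erase_of_mem (Finset.mem_univ _), Finset.card_univ,
        ← Nat.card_eq_fintype_card, X.cardE, nsmul_eq_mul, Nat.cast_sub X.q_pos, Nat.cast_one]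
    · intro w hw
      have hw1 : w ≠ 1 := Finset.ne_of_mem_erase hw
      exact hconst w w.2 (fun h => hw1 (Subtype.ext h))
  rw [h3, h1] at h4
  linear_combination -h4

theorem sum_conj' [Fintype H] [Fintype E] (f : G → ℂ) (z : G) (hz : z ∈ E) (hz1 : z ≠ 1) :
    ((q : ℂ) - 1) * ∑ h : H, f ((h : G)⁻¹ * z * h) =
      (Nat.card H : ℂ) * (∑ e : E, f e - f 1) := by
  rw [← X.sum_conj f z hz hz1]
  congr 1
  rw [← Equiv.sum_comp (Equiv.inv H) (fun h : H => f ((h : G) * z * (h : G)⁻¹))]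
  simp

theorem q_sub_ne : ((q : ℂ) - 1) ≠ 0 := by
  intro h
  have h1 : (q : ℂ) = 1 := by linear_combination h
  have h2 : q = 1 := by exact_mod_cast h1
  have := X.four_le
  omega

theorem cardH' : (Nat.card H : ℂ) = Nat.card Q * (((q : ℂ) - 1) * v) := by
  rw [X.cardH]
  push_cast
  rw [Nat.cast_sub X.q_pos, Nat.cast_one]

/-- value at an involution -/
theorem ind_value [Fintype G] [Fintype H] [Fintype E] (α : Q → ℂ) (h0 : α 1 = 0) {z : G}
    (hz : z ∈ E) (hz1 : z ≠ 1) :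
    indFun Q α z = v * ∑ e : E, extendByZero Q α e := by
  have hQ : (Nat.card Q : ℂ) ≠ 0 := Nat.cast_ne_zero.2 Nat.card_pos.ne'
  rw [X.ind_apply α (X.EQ hz) hz1]
  have h1 := X.sum_conj' (extendByZero Q α) z hz hz1
  rw [X.cardH'] at h1
  have h2 : extendByZero Q α 1 = 0 := by
    have := extendByZero_coe Q α 1
    rw [h0] at this
    exact this
  rw [h2, sub_zero] at h1
  have h3 : ∑ h : H, extendByZero Q α ((h : G)⁻¹ * z * h) =
      Nat.card Q * (v * ∑ e : E, extendByZero Q α e) := by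
    apply mul_left_cancel₀ X.q_sub_ne
    rw [h1]
    ring
  rw [h3, inv_mul_cancel_left₀ hQ]

theorem mem_of_invol [Finite G] {u : G} (hu : u ∈ H) (huu : u * u = 1) : u ∈ Q := by
  have hn : (Q.subgroupOf H).Normal := by
    constructor
    intro x hx g
    rw [Subgroup.mem_subgroupOf] at hx ⊢
    exact X.conjQ g g.2 x hx
  have h1 := Subgroup.card_mul_index (Q.subgroupOf H)
  have h2 : Nat.card (Q.subgroupOf H) = Nat.card Q :=
    Nat.card_congr (Subgroup.subgroupOfEquivOfLe X.QH).toEquiv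
  rw [h2, X.cardH] at h1
  have h3 : (Q.subgroupOf H).index = (q - 1) * v :=
    Nat.eq_of_mul_eq_mul_left Nat.card_pos h1
  have h4 := Subgroup.pow_index_mem (Q.subgroupOf H) (⟨u, hu⟩ : H)
  rw [h3] at h4
  obtain ⟨k, hk⟩ := X.odd
  rw [hk, pow_succ, pow_mul] at h4
  have h5 : (⟨u, hu⟩ : H) ^ 2 = 1 := by
    rw [sq]
    exact Subtype.ext huu
  rw [h5, one_pow, one_mul] at h4
  exact h4

omit X in
theorem sum_H [Fintype G] [Fintype H] (F : G → ℂ) (hF : ∀ g, g ∉ H → F g = 0) :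
    ∑ g, F g = ∑ h : H, F h := by
  classical
  rw [← Finset.sum_subset (Finset.subset_univ (Finset.univ.filter (fun g : G => g ∈ H)))]
  · rw [Finset.sum_subtype (Finset.univ.filter (fun g : G => g ∈ H)) (p := fun g => g ∈ H)
      (by simp)]
  · intro g _ hg
    exact hF g (by simpa using hg)

theorem mem_H_of_conj {z : G} (hz : z ∈ E) (hz1 : z ≠ 1) {a : G} (ha : a * z * a⁻¹ ∈ Q) :
    a ∈ H := X.ti z (X.EQ hz) hz1 a ha

theorem mem_pair [Finite G] {z : G} (hz : z ∈ E) (hz1 : z ≠ 1) {a b : G}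
    (h : a * z * a⁻¹ * (b * z * b⁻¹)⁻¹ ∈ Q) (h1 : a * z * a⁻¹ * (b * z * b⁻¹)⁻¹ ≠ 1) :
    a ∈ H ∧ b ∈ H := by
  have hzz : z * z = 1 := (X.mem_E z (X.EQ hz)).1 hz
  set u := a * z * a⁻¹ with hu
  set w := b * z * b⁻¹ with hw
  have huu : u * u = 1 := by
    have : u * u = a * (z * z) * a⁻¹ := by rw [hu]; group
    rw [this, hzz]; group
  have hww : w * w = 1 := by
    have : w * w = b * (z * z) * b⁻¹ := by rw [hw]; group
    rw [this, hzz]; group
  clear_value u w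
  have huH : u ∈ H := by
    apply X.ti _ h h1
    have h2 : u * (u * w⁻¹) * u⁻¹ = (u * w⁻¹)⁻¹ := by
      have e1 : u⁻¹ = u := inv_eq_of_mul_eq_one_left huu
      have e2 : w⁻¹ = w := inv_eq_of_mul_eq_one_left hww
      rw [e2, mul_inv_rev u w, e2, e1, ← mul_assoc, huu, one_mul]
    rw [h2]
    exact Q.inv_mem h
  have huQ : u ∈ Q := X.mem_of_invol huH huu
  have hwQ : w ∈ Q := by
    have h2 : w⁻¹ ∈ Q := by
      have := Q.mul_mem (Q.inv_mem huQ) h
      rwa [inv_mul_cancel_left] at this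
    simpa using Q.inv_mem h2
  exact ⟨X.mem_H_of_conj hz hz1 (hu ▸ huQ), X.mem_H_of_conj hz hz1 (hw ▸ hwQ)⟩

theorem double_sum [Fintype G] [Fintype H] [Fintype E] (α : Q → ℂ) (h0 : α 1 = 0) {z : G}
    (hz : z ∈ E) (hz1 : z ≠ 1) :
    ∑ a : G, ∑ b : G, extendByZero Q α (a * z * a⁻¹ * (b * z * b⁻¹)⁻¹) =
      ((Nat.card Q : ℂ) * v) ^ 2 * ((q : ℂ) - 2) * ∑ e : E, extendByZero Q α e := by
  classical
  set f : G → ℂ := extendByZero Q α with hf
  have hf1 : f 1 = 0 := by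
    have := extendByZero_coe Q α 1
    rw [h0] at this
    exact this
  set A : ℂ := ∑ e : E, f e with hA
  have hzero : ∀ a b : G, ¬ (a ∈ H ∧ b ∈ H) → f (a * z * a⁻¹ * (b * z * b⁻¹)⁻¹) = 0 := by
    intro a b hab
    by_cases h1 : a * z * a⁻¹ * (b * z * b⁻¹)⁻¹ = 1
    · rw [h1, hf1]
    · apply extendByZero_not_mem
      intro h
      exact hab (X.mem_pair hz hz1 h h1)
  have h1 : ∑ a : G, ∑ b : G, f (a * z * a⁻¹ * (b * z * b⁻¹)⁻¹) =
      ∑ a : H, ∑ b : H, f ((a : G) * z * (a : G)⁻¹ * ((b : G) * z * (b : G)⁻¹)⁻¹) := by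
    rw [sum_H (H := H) (fun a : G => ∑ b : G, f (a * z * a⁻¹ * (b * z * b⁻¹)⁻¹))]
    · apply Finset.sum_congr rfl
      intro a _
      rw [sum_H (H := H) (fun b : G => f ((a : G) * z * (a : G)⁻¹ * (b * z * b⁻¹)⁻¹))]
      intro b hb
      exact hzero _ _ (fun h => hb h.2)
    · intro a ha
      apply Finset.sum_eq_zero
      intro b _
      exact hzero _ _ (fun h => ha h.1)
  have h2 : ∀ a : H, ((q : ℂ) - 1) *
      ∑ b : H, f ((a : G) * z * (a : G)⁻¹ * ((b : G) * z * (b : G)⁻¹)⁻¹) =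
      (Nat.card H : ℂ) * (A - f ((a : G) * z * (a : G)⁻¹)) := by
    intro a
    have huE := X.conjE a.2 hz
    rw [X.sum_conj (fun w => f ((a : G) * z * (a : G)⁻¹ * w⁻¹)) z hz hz1, inv_one, mul_one]
    congr 2
    rw [hA]
    refine Fintype.sum_equiv ((Equiv.inv E).trans (Equiv.mulLeft (⟨_, huE⟩ : E))) _ _ ?_
    intro w
    rfl
  have h3 := X.sum_conj f z hz hz1
  rw [hf1, sub_zero, ← hA] at h3
  have h4 : ((q : ℂ) - 1) * (((q : ℂ) - 1) *
      ∑ a : H, ∑ b : H, f ((a : G) * z * (a : G)⁻¹ * ((b : G) * z * (b : G)⁻¹)⁻¹)) =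
      (Nat.card H : ℂ) ^ 2 * ((q : ℂ) - 2) * A := by
    rw [Finset.mul_sum, Finset.sum_congr rfl (fun a _ => h2 a), ← Finset.mul_sum,
      Finset.sum_sub_distrib, Finset.sum_const, Finset.card_univ, nsmul_eq_mul,
      ← Nat.card_eq_fintype_card]
    linear_combination (-(Nat.card H : ℂ)) * h3
  rw [h1]
  apply mul_left_cancel₀ X.q_sub_ne
  apply mul_left_cancel₀ X.q_sub_ne
  rw [h4, X.cardH']
  ring

theorem lam_eq [Fintype G] [Fintype H] [Fintype E] (α : Q → ℂ) (h0 : α 1 = 0) {z : G}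
    (hz : z ∈ E) (hz1 : z ≠ 1) :
    ((Nat.card Q : ℂ) + 1) * ((q : ℂ) - 1) * ∑ χ : IrrCharacter G,
      classInner (indFun Q α) (χ : G → ℂ) * (χ : G → ℂ) z * conj ((χ : G → ℂ) z) /
        (χ : G → ℂ) 1 =
      v * ((q : ℂ) - 2) * ∑ e : E, extendByZero Q α e := by
  classical
  have h1 := StructConst.sum_sum_conj (indFun Q α) z z
  have h2 : ∑ a : G, ∑ b : G, indFun Q α (a * z * a⁻¹ * (b * z * b⁻¹)⁻¹) =
      (Nat.card Q : ℂ)⁻¹ * ((Nat.card G : ℂ) *
      ∑ a : G, ∑ b : G, extendByZero Q α (a * z * a⁻¹ * (b * z * b⁻¹)⁻¹)) := by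
    unfold indFun
    simp_rw [← Finset.mul_sum]
    congr 1
    have e1 : ∀ a : G, ∑ b : G, ∑ x : G,
        extendByZero Q α (x⁻¹ * (a * z * a⁻¹ * (b * z * b⁻¹)⁻¹) * x) =
        ∑ x : G, ∑ b : G, extendByZero Q α (x⁻¹ * (a * z * a⁻¹ * (b * z * b⁻¹)⁻¹) * x) :=
      fun a => Finset.sum_comm
    rw [Finset.sum_congr rfl (fun a _ => e1 a), Finset.sum_comm]
    have e2 : ∀ x : G, ∑ a : G, ∑ b : G,
        extendByZero Q α (x⁻¹ * (a * z * a⁻¹ * (b * z * b⁻¹)⁻¹) * x) =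
        ∑ a : G, ∑ b : G, extendByZero Q α (a * z * a⁻¹ * (b * z * b⁻¹)⁻¹) := by
      intro x
      rw [← Equiv.sum_comp (Equiv.mulLeft x⁻¹)
        (fun a : G => ∑ b : G, extendByZero Q α (a * z * a⁻¹ * (b * z * b⁻¹)⁻¹))]
      apply Finset.sum_congr rfl
      intro a _
      rw [← Equiv.sum_comp (Equiv.mulLeft x⁻¹)
        (fun b : G => extendByZero Q α ((Equiv.mulLeft x⁻¹) a * z * ((Equiv.mulLeft x⁻¹) a)⁻¹ *
          (b * z * b⁻¹)⁻¹))]
      apply Finset.sum_congr rfl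
      intro b _
      congr 1
      simp only [Equiv.coe_mulLeft]
      group
    rw [Finset.sum_congr rfl (fun x _ => e2 x), Finset.sum_const, Finset.card_univ, nsmul_eq_mul,
      Nat.card_eq_fintype_card (α := G)]
  rw [h2, X.double_sum α h0 hz hz1] at h1
  have hQ : (Nat.card Q : ℂ) ≠ 0 := Nat.cast_ne_zero.2 Nat.card_pos.ne'
  have hG : (Nat.card G : ℂ) = ((Nat.card Q : ℂ) + 1) * (Nat.card Q * (((q : ℂ) - 1) * v)) := by
    rw [X.cardG]
    push_cast
    rw [X.cardH']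
  have hG0 : (Nat.card G : ℂ) ≠ 0 := Nat.cast_ne_zero.2 Nat.card_pos.ne'
  set Λ : ℂ := ∑ χ : IrrCharacter G,
      classInner (indFun Q α) (χ : G → ℂ) * (χ : G → ℂ) z * conj ((χ : G → ℂ) z) /
        (χ : G → ℂ) 1 with hΛ
  set A : ℂ := ∑ e : E, extendByZero Q α e with hA
  have hv : (v : ℂ) ≠ 0 := Nat.cast_ne_zero.2 X.v_pos.ne'
  have h3 : (Nat.card Q : ℂ)⁻¹ * ((((Nat.card Q : ℂ) * v) ^ 2 * ((q : ℂ) - 2) * A)) =
      (Nat.card G : ℂ) * Λ := by
    apply mul_left_cancel₀ hG0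
    linear_combination h1
  rw [hG] at h3
  have h4 : (Nat.card Q : ℂ) * (v * (v * ((q : ℂ) - 2) * A)) =
      (Nat.card Q : ℂ) * (v * (((Nat.card Q : ℂ) + 1) * ((q : ℂ) - 1) * Λ)) := by
    have e3 : (Nat.card Q : ℂ)⁻¹ * ((((Nat.card Q : ℂ) * v) ^ 2 * ((q : ℂ) - 2) * A)) =
        (Nat.card Q : ℂ) * (v * (v * ((q : ℂ) - 2) * A)) := by
      field_simp
    rw [← e3, h3]
    ring
  exact (mul_left_cancel₀ hv (mul_left_cancel₀ hQ h4)).symm

end XHyp

end Cfsg.Agent.Lib.SuzX
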