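import Cfsg.Agent.Lib.SuzX9
import Cfsg.Agent.Lib.CdP

set_option autoImplicit false
open MulAction

/-!
# The inputs of `H26SuzP.Inputs` (helper69), part 2: `abel` and `odd`
-/

namespace Cfsg.Agent.Lib.SuzX9

open Subgroup Cfsg.Agent.Lib.RankOne Cfsg.Agent.Lib.RankOneB Cfsg.Agent.Lib.RankOneC Cfsg.Agent.Lib.H26SuzKD
  Cfsg.Agent.Lib.H26SuzPP Cfsg.Agent.Lib.H26SuzT Cfsg.Agent.Lib.H26SuzS1 Cfsg.Agent.Lib.H26SuzW Cfsg.Agent.Lib.H26SuzF
  Cfsg.Agent.Lib.H26SuzB2 Cfsg.Agent.Lib.SuzX CharBasic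

universe u v

theorem num_pow {q : ℕ} (hq : 8 ≤ q) : ∀ i, 2 ≤ i → 1 + (q - 1) * (2 ^ i - 1) < q ^ i := by
  obtain ⟨r, rfl⟩ := Nat.exists_eq_add_of_le' hq
  have e1 : r + 8 - 1 = r + 7 := by omega
  rw [e1]
  intro i hi
  induction i, hi using Nat.le_induction with
  | base =>
    have : (2 : ℕ) ^ 2 - 1 = 3 := by norm_num
    rw [this]
    nlinarith
  | succ i _ ih =>
    obtain ⟨y, hy⟩ : ∃ y, 2 ^ i = y + 1 := ⟨2 ^ i - 1, by have := Nat.one_le_two_pow (n := i); omega⟩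
    have e3 : 2 ^ (i + 1) - 1 = 2 * y + 1 := by rw [pow_succ, hy]; omega
    rw [e3, pow_succ]
    rw [hy] at ih
    have e4 : y + 1 - 1 = y := by omega
    rw [e4] at ih
    have h5 := Nat.mul_le_mul_right (r + 8) (Nat.succ_le_of_lt ih)
    have h6 := Nat.zero_le ((r + 7) * y * r)
    have h7 := Nat.zero_le ((r + 7) * y)
    nlinarith

theorem num_b {q i N : ℕ} (hq : 8 ≤ q) (hi : 2 ≤ i) (h : q ^ (i + 1) ≤ 1 + (q - 1) * (2 ^ (i + 1) - 1) + N) :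
    q ^ i < N := by
  have h1 := num_pow hq i hi
  obtain ⟨r, rfl⟩ := Nat.exists_eq_add_of_le' hq
  have e1 : r + 8 - 1 = r + 7 := by omega
  rw [e1] at h h1
  obtain ⟨y, hy⟩ : ∃ y, 2 ^ i = y + 1 := ⟨2 ^ i - 1, by have := Nat.one_le_two_pow (n := i); omega⟩
  have e3 : 2 ^ (i + 1) - 1 = 2 * y + 1 := by rw [pow_succ, hy]; omega
  rw [e3] at h
  rw [hy] at h1
  have e4 : y + 1 - 1 = y := by omega
  rw [e4] at h1
  rw [pow_succ] at h
  by_contra hcon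
  push Not at hcon
  have h5 := Nat.mul_le_mul_right (r + 7) (Nat.succ_le_of_lt h1)
  have h6 := Nat.zero_le ((r + 7) * y * r)
  have h7 := Nat.zero_le ((r + 7) * y)
  nlinarith

variable {G : Type u} {Ω : Type v} [Group G] [Finite G] [MulAction G Ω] [FaithfulSMul G Ω] {a : Ω} {t : G} {Q : Subgroup G}
  (hS : Cfsg.IsRankOneSetup G Ω a t Q)
  (h2 : ∃ x y : G, x ≠ 1 ∧ y ≠ 1 ∧ x ≠ y ∧ x * x = 1 ∧ y * y = 1 ∧ x * y = y * x)
  {v k₀ : G} {p : ℕ} (H : Hy Ω a t Q v k₀ p)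

include hS h2 H

theorem abel (hcomm : ∀ x ∈ Q, ∀ y ∈ Q, x * y = y * x) {j : ℕ} (hj : Nat.card Q = (2 ^ j) ^ p) : j < 3 := by
  classical
  by_contra hcon
  push Not at hcon
  have X := xhyp hS h2 H
  have hc : ∀ (M : Subgroup G), ∀ x ∈ Q, ∀ y ∈ Q, x * y * x⁻¹ * y⁻¹ ∈ M := by
    intro M x hx y hy
    rw [hcomm x hx y hy]
    have : y * x * x⁻¹ * y⁻¹ = 1 := by group
    rw [this]; exact M.one_mem
  have hq8 := eight_le hS H
  have hp0 : p ≠ 0 := H.hp.ne_zero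
  -- `M = 1`
  have hM1 : ∀ d ∈ DD G a t, ∀ x ∈ (⊥ : Subgroup G), d * x * d⁻¹ ∈ (⊥ : Subgroup G) := by
    intro d _ x hx
    rw [mem_bot] at hx ⊢
    rw [hx]; group
  have F1 := fa hS H hM1
  have := finite_Ann Q (⊥ : Subgroup G)
  have hc1 : Nat.card (Ann Q ⊥) = (2 ^ j) ^ p := by
    have h3 := card_Ann (bot_le : (⊥ : Subgroup G) ≤ Q) (hc ⊥)
    rw [card_bot, mul_one] at h3
    rw [h3, hj]
  have hK' : Nat.card (zpowers (⟨k₀, k₀_mem hS H⟩ : DD G a t)) = 2 ^ p - 1 := by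
    rw [Nat.card_zpowers, Subgroup.orderOf_mk, ← Nat.card_zpowers, card_K' hS H]
  have hx1 : Nat.card F1.C ≤ 2 ^ j := by
    have h3 := F1.card_C_pow_le
    rw [hc1] at h3
    exact (Nat.pow_le_pow_iff_left hp0).1 h3
  have hN1 := F1.card_le
  rw [hc1, hK'] at hN1
  set N := Nat.card {a_1 : Ann Q ⊥ // ∀ d, actA (Q := Q) (conjQ hS) hM1 d a_1 = a_1 → d = 1} with hN
  have hnum := num_abel (p := p) (j := j) (N := N) (by omega) hcon hx1 (by rw [← pow_mul, mul_comm p j, pow_mul]; exact hN1)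
  -- the set `T`
  have hfin := finite_lin Q
  have hNT : N ≤ Nat.card {θ : Q →* ℂˣ | IsFree (stabilizer G a) Q θ} := by
    apply Nat.card_le_card_of_injective (fun θ => (⟨θ.1.1, free_of hS H (reg_of hS H hM1 θ.2)⟩ :
      {θ : Q →* ℂˣ | IsFree (stabilizer G a) Q θ}))
    intro θ θ' h
    have h3 := congrArg Subtype.val h
    exact Subtype.ext (Subtype.ext h3)
  -- `M = E`
  obtain ⟨i, rfl⟩ : ∃ i, j = i + 1 := ⟨j - 1, by omega⟩
  have hME : ∀ d ∈ DD G a t, ∀ x ∈ EE hS h2, d * x * d⁻¹ ∈ EE hS h2 := fun d hd x hx => EE_conj hS h2 hd.1 hx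
  have F2 := fa hS H hME
  have := finite_Ann Q (EE hS h2)
  have hc2 : Nat.card (Ann Q (EE hS h2)) = (2 ^ i) ^ p := by
    have h3 := card_Ann (EE_le_Q hS h2) (hc _)
    rw [card_EE hS h2, H.hq, hj, pow_succ, mul_pow] at h3
    exact Nat.eq_of_mul_eq_mul_right (by positivity) h3
  have hx2 : Nat.card F2.C ≤ 2 ^ i := by
    have h3 := F2.card_C_pow_le
    rw [hc2] at h3
    exact (Nat.pow_le_pow_iff_left hp0).1 h3
  have hN2 := F2.card_le
  rw [hc2, hK'] at hN2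
  have hi2 : 2 ≤ i := by omega
  have hpow := num_pow hq8 i hi2
  have hsw : (2 ^ i) ^ p = (2 ^ p) ^ i := pow_right_comm 2 i p
  have hsw' : (2 ^ (i + 1)) ^ p = (2 ^ p) ^ (i + 1) := pow_right_comm 2 (i + 1) p
  have hN2pos : 0 < Nat.card {a_1 : Ann Q (EE hS h2) // ∀ d, actA (Q := Q) (conjQ hS) hME d a_1 = a_1 → d = 1} := by
    by_contra h0
    have h0' : Nat.card {a_1 : Ann Q (EE hS h2) // ∀ d, actA (Q := Q) (conjQ hS) hME d a_1 = a_1 → d = 1} = 0 := by omega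
    rw [h0', hsw] at hN2
    have h3 : (2 ^ p - 1) * (Nat.card F2.C - 1) ≤ (2 ^ p - 1) * (2 ^ i - 1) := Nat.mul_le_mul_left _ (by omega)
    omega
  have key := X.X1a {θ : Q →* ℂˣ | IsFree (stabilizer G a) Q θ} (fun θ hθ => hθ) ?_ ?_
  · omega
  · obtain ⟨⟨θ, hθ⟩⟩ : Nonempty {a_1 : Ann Q (EE hS h2) // ∀ d, actA (Q := Q) (conjQ hS) hME d a_1 = a_1 → d = 1} :=
      (Nat.card_pos_iff.1 hN2pos).1
    exact ⟨θ.1, free_of hS H (reg_of hS H hME hθ), θ.2⟩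
  · by_contra hall
    push Not at hall
    have h3 : Nat.card {θ : Q →* ℂˣ | IsFree (stabilizer G a) Q θ} ≤ Nat.card (Ann Q (EE hS h2)) := by
      apply Nat.card_le_card_of_injective
        (fun θ : {θ : Q →* ℂˣ | IsFree (stabilizer G a) Q θ} => (⟨θ.1, hall θ.1 θ.2⟩ : Ann Q (EE hS h2)))
      intro θ θ' h
      have h3 := congrArg Subtype.val h
      exact Subtype.ext h3
    have h4 : (2 ^ p) ^ (i + 1) ≤ 1 + (2 ^ p - 1) * (2 ^ (i + 1) - 1) + N := by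
      rw [← hsw']
      have h5 : (2 ^ p - 1) * (Nat.card F1.C - 1) ≤ (2 ^ p - 1) * (2 ^ (i + 1) - 1) := Nat.mul_le_mul_left _ (by omega)
      omega
    have h5 := num_b hq8 hi2 h4
    rw [hc2, hsw] at h3
    omega

/-- **`Q` is a `2`-group** -/
theorem odd : ∀ x ∈ Q, ∃ n : ℕ, x ^ 2 ^ n = 1 := by
  classical
  by_contra hcon
  push Not at hcon
  obtain ⟨x₀, hx₀, hx₀'⟩ := hcon
  have X := xhyp hS h2 H
  have hq8 := eight_le hS H
  have hnil := Q_nilpotent hS h2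
  have hfin := finite_lin Q
  obtain ⟨S, hSm, ⟨m, hmodd, hcard⟩, hcase⟩ := exists_S hS h2
  obtain ⟨T, hTm, hTc, hST, hdec⟩ := exists_T hnil hSm hmodd hcard
  have hSQ : S ≤ Q := fun x hx => ((hSm x).1 hx).1
  have hTQ : T ≤ Q := fun x hx => ((hTm x).1 hx).1
  have hm1 : m ≠ 1 := by
    rintro rfl
    rw [mul_one] at hcard
    have h3 : S = Q := eq_of_le_of_card_ge hSQ (by rw [hcard])
    rw [← h3] at hx₀
    obtain ⟨-, n, hn⟩ := (hSm x₀).1 hx₀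
    exact hx₀' n hn
  have hinter : ∀ x, x ∈ S → x ∈ T → x = 1 := by
    intro x hxS hxT
    obtain ⟨-, n, hn⟩ := (hSm x).1 hxS
    exact two_el_eq_one hn hmodd ((hTm x).1 hxT).2
  have hSn : ∀ g ∈ stabilizer G a, ∀ x ∈ S, g * x * g⁻¹ ∈ S := by
    intro g hg x hx
    rw [hSm] at hx ⊢
    obtain ⟨hxQ, n, hn⟩ := hx
    exact ⟨hS.conj_mem g hg x hxQ, n, by rw [conj_pow, hn]; group⟩
  have hTn : ∀ g ∈ stabilizer G a, ∀ x ∈ T, g * x * g⁻¹ ∈ T := by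
    intro g hg x hx
    rw [hTm] at hx ⊢
    exact ⟨hS.conj_mem g hg x hx.1, by rw [conj_pow, hx.2]; group⟩
  have hMS : ∀ d ∈ DD G a t, ∀ x ∈ S, d * x * d⁻¹ ∈ S := fun d hd x hx => hSn d hd.1 x hx
  have hES : EE hS h2 ≤ S := by
    intro x hx
    have h3 := (mem_EE_iff hS h2).1 hx
    exact (hSm x).2 ⟨h3.1, 1, by rw [pow_one, pow_two]; exact h3.2⟩
  -- commutators
  have hcomm : ∀ s ∈ S, ∀ s' ∈ S, ∀ u ∈ T, ∀ u' ∈ T,
      (s * u) * (s' * u') * (s * u)⁻¹ * (s' * u')⁻¹ = (s * s' * s⁻¹ * s'⁻¹) * (u * u' * u⁻¹ * u'⁻¹) := by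
    intro s hs s' hs' u hu u' hu'
    have c1 : Commute s' u := hST s' hs' u hu
    have c2 : Commute s u := hST s hs u hu
    have c3 : Commute s u' := hST s hs u' hu'
    have c4 : Commute s' u' := hST s' hs' u' hu'
    have c5 : Commute (s⁻¹ * s'⁻¹) (u * u') :=
      ((c2.inv_left.mul_left c1.inv_left)).mul_right (c3.inv_left.mul_left c4.inv_left)
    calc (s * u) * (s' * u') * (s * u)⁻¹ * (s' * u')⁻¹
        = s * (u * s') * u' * (u⁻¹ * s⁻¹) * (u'⁻¹ * s'⁻¹) := by group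
      _ = s * (s' * u) * u' * (s⁻¹ * u⁻¹) * (s'⁻¹ * u'⁻¹) := by
          rw [c1.eq, (c2.inv_left.inv_right).eq, (c4.inv_left.inv_right).eq]
      _ = s * s' * ((u * u') * s⁻¹) * (u⁻¹ * s'⁻¹) * u'⁻¹ := by group
      _ = s * s' * (s⁻¹ * (u * u')) * (s'⁻¹ * u⁻¹) * u'⁻¹ := by
          rw [((c2.inv_left).mul_right (c3.inv_left)).eq, (c1.inv_left.inv_right).eq]
      _ = s * s' * s⁻¹ * ((u * u') * s'⁻¹) * u⁻¹ * u'⁻¹ := by group
      _ = s * s' * s⁻¹ * (s'⁻¹ * (u * u')) * u⁻¹ * u'⁻¹ := by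
          rw [((c1.inv_left).mul_right (c4.inv_left)).eq]
      _ = _ := by group
  have hTcomm : ∀ u ∈ T, ∀ u' ∈ T, u * u' * u⁻¹ * u'⁻¹ ∈ T := fun u hu u' hu' =>
    T.mul_mem (T.mul_mem (T.mul_mem hu hu') (T.inv_mem hu)) (T.inv_mem hu')
  -- the action on linear characters trivial on `S`
  have F := fa hS H hMS
  have := finite_Ann Q S
  have hK' : Nat.card (zpowers (⟨k₀, k₀_mem hS H⟩ : DD G a t)) = 2 ^ p - 1 := by
    rw [Nat.card_zpowers, Subgroup.orderOf_mk, ← Nat.card_zpowers, card_K' hS H]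
  have hAm : ∀ θ : Ann Q S, θ ^ m = 1 := by
    intro θ
    apply Subtype.ext
    ext x
    obtain ⟨s, hs, u, hu, hx⟩ := hdec x x.2
    have h3 : (x ^ m : Q) = ⟨s ^ m, hSQ (pow_mem hs m)⟩ := by
      apply Subtype.ext
      push_cast
      rw [hx, (show Commute s u from hST s hs u hu).mul_pow, ((hTm u).1 hu).2, mul_one]
    have h4 : θ.1 x ^ m = 1 := by
      rw [← map_pow, h3]
      exact θ.2 _ (pow_mem hs m)
    exact congrArg Units.val h4
  have hAodd : Odd (Nat.card (Ann Q S)) := by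
    rw [← Nat.not_even_iff_odd, even_iff_two_dvd]
    intro h
    have h3 : Fact (Nat.Prime 2) := ⟨Nat.prime_two⟩
    obtain ⟨θ, hθ⟩ := exists_prime_orderOf_dvd_card' (G := Ann Q S) 2 h
    have h4 := orderOf_dvd_of_pow_eq_one (hAm θ)
    rw [hθ] at h4
    exact (Nat.not_even_iff_odd.2 hmodd) (even_iff_two_dvd.2 h4)
  have hnt : Nontrivial (Ann Q S) := by
    have hSn' : (S.subgroupOf Q).Normal := by
      constructor
      intro x hx g
      rw [mem_subgroupOf] at hx ⊢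
      exact hSn g (hS.le g.2) x hx
    have hidx : (S.subgroupOf Q).index = m := by
      have h3 := (S.subgroupOf Q).card_mul_index
      rw [Nat.card_congr (subgroupOfEquivOfLe hSQ).toEquiv, hcard] at h3
      exact Nat.eq_of_mul_eq_mul_left Nat.card_pos h3
    have h4 : Nontrivial (Q ⧸ S.subgroupOf Q) := by
      rw [← Finite.one_lt_card_iff_nontrivial]
      have h5 : Nat.card (Q ⧸ S.subgroupOf Q) = m := hidx
      rw [h5]
      have := hmodd.pos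
      omega
    obtain ⟨θ, hθ⟩ := exists_lin_ne (X := Q ⧸ S.subgroupOf Q)
    refine ⟨⟨⟨θ.comp (QuotientGroup.mk' _), ?_⟩, 1, ?_⟩⟩
    · intro x hx
      have h5 : (QuotientGroup.mk' (S.subgroupOf Q)) x = 1 := by
        rw [QuotientGroup.mk'_apply, QuotientGroup.eq_one_iff]
        exact hx
      rw [MonoidHom.comp_apply, h5, map_one]
    · intro h
      apply hθ
      ext x
      have h5 := congrArg Subtype.val h
      exact congrArg Units.val (DFunLike.congr_fun h5 x)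
  have hx1 := F.one_lt_card_C
  have hxp := F.card_C_pow_le
  have hxodd : Odd (Nat.card F.C) := Odd.of_dvd_nat hAodd (Subgroup.card_subgroup_dvd_card _)
  have hx3 : 3 ≤ Nat.card F.C := by
    obtain ⟨c, hc⟩ := hxodd
    omega
  have hN := F.card_le
  rw [hK'] at hN
  set N := Nat.card {a_1 : Ann Q S // ∀ d, actA (Q := Q) (conjQ hS) hMS d a_1 = a_1 → d = 1} with hNdef
  obtain ⟨hNpos, hnum⟩ := num_odd H.hp (p_ne hS H) hx3 (hxp.trans hN)
  obtain ⟨⟨θ₀, hθ₀⟩⟩ : Nonempty {a_1 : Ann Q S // ∀ d, actA (Q := Q) (conjQ hS) hMS d a_1 = a_1 → d = 1} :=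
    (Nat.card_pos_iff.1 hNpos).1
  -- products are free
  have hfree : ∀ lam : Q →* ℂˣ, (∀ x : Q, (x : G) ∈ T → lam x = 1) → ∀ θ : Ann Q S,
      (∀ d, actA (Q := Q) (conjQ hS) hMS d θ = θ → d = 1) → IsFree (stabilizer G a) Q (lam * θ.1) := by
    intro lam hlam θ hθ
    apply free_of hS H
    intro d hd
    apply reg_of hS H hMS hθ
    intro x
    obtain ⟨s, hs, u, hu, hx⟩ := hdec x x.2
    have h3 : x = (⟨s, hSQ hs⟩ : Q) * ⟨u, hTQ hu⟩ := Subtype.ext hx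
    have h4 : θ.1 (cD (conjQ hS) d ⟨s, hSQ hs⟩) = 1 := θ.2 _ (hMS d d.2 s hs)
    have h5 : θ.1 ⟨s, hSQ hs⟩ = 1 := θ.2 _ hs
    have h6 := hd ⟨u, hTQ hu⟩
    rw [MonoidHom.mul_apply, MonoidHom.mul_apply, hlam _ (hTn d d.2.1 u hu), hlam ⟨u, hTQ hu⟩ hu, one_mul, one_mul] at h6
    rw [h3, map_mul, map_mul, map_mul, h4, h5, h6]
  -- the map is injective
  have hinj : ∀ lam lam' : Q →* ℂˣ, (∀ x : Q, (x : G) ∈ T → lam x = 1) → (∀ x : Q, (x : G) ∈ T → lam' x = 1) →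
      ∀ θ θ' : Ann Q S, lam * θ.1 = lam' * θ'.1 → lam = lam' ∧ θ = θ' := by
    intro lam lam' hl hl' θ θ' h
    have h3 : ∀ x : Q, lam x = lam' x ∧ θ.1 x = θ'.1 x := by
      intro x
      obtain ⟨s, hs, u, hu, hx⟩ := hdec x x.2
      have h3 : x = (⟨s, hSQ hs⟩ : Q) * ⟨u, hTQ hu⟩ := Subtype.ext hx
      have h4 := DFunLike.congr_fun h ⟨s, hSQ hs⟩
      have h5 := DFunLike.congr_fun h ⟨u, hTQ hu⟩
      rw [MonoidHom.mul_apply, MonoidHom.mul_apply] at h4 h5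
      rw [θ.2 ⟨s, hSQ hs⟩ hs, θ'.2 ⟨s, hSQ hs⟩ hs, mul_one, mul_one] at h4
      rw [hl ⟨u, hTQ hu⟩ hu, hl' ⟨u, hTQ hu⟩ hu, one_mul, one_mul] at h5
      rw [h3, map_mul, map_mul, map_mul, map_mul, h4, h5, hl ⟨u, hTQ hu⟩ hu, hl' ⟨u, hTQ hu⟩ hu,
        θ.2 ⟨s, hSQ hs⟩ hs, θ'.2 ⟨s, hSQ hs⟩ hs]
      exact ⟨rfl, rfl⟩
    exact ⟨MonoidHom.ext fun x => (h3 x).1, Subtype.ext (MonoidHom.ext fun x => (h3 x).2)⟩
  have hTpos : 0 < m := hmodd.pos
  have hqS : 2 ^ p ≤ Nat.card S := by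
    have h3 := card_le_of_le hES
    rwa [card_EE hS h2, H.hq] at h3
  have hET : Disjoint T (EE hS h2) := by
    rw [disjoint_iff, eq_bot_iff]
    rintro x ⟨hx1, hx2⟩
    exact mem_bot.2 (hinter x (hES hx2) hx1)
  have hEN : EE hS h2 ≤ normalizer (T : Set G) := by
    intro e he
    rw [mem_normalizer_iff]
    intro x
    have hea : e ∈ stabilizer G a := hS.le (EE_le_Q hS h2 he)
    refine ⟨fun hx => hTn e hea x hx, fun hx => ?_⟩
    have h3 := hTn e⁻¹ (inv_mem hea) _ hx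
    have e1 : e⁻¹ * (e * x * e⁻¹) * e⁻¹⁻¹ = x := by group
    rwa [e1] at h3
  have hcTE : Nat.card (T ⊔ EE hS h2 : Subgroup G) = m * 2 ^ p := by
    rw [SubgroupTools.card_sup_of_disjoint hEN hET, hTc, card_EE hS h2, H.hq]
  have hTEQ : T ⊔ EE hS h2 ≤ Q := sup_le hTQ (EE_le_Q hS h2)
  have htriv : ∀ lam : Q →* ℂˣ, (∀ x : Q, (x : G) ∈ T → lam x = 1) → (∀ x : Q, (x : G) ∈ EE hS h2 → lam x = 1) →
      lam ∈ Ann Q (T ⊔ EE hS h2) := by
    intro lam h1 h3 x hx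
    have h4 : T ⊔ EE hS h2 ≤ lam.ker.map Q.subtype := by
      refine sup_le ?_ ?_
      · intro y hy
        exact ⟨⟨y, hTQ hy⟩, h1 _ hy, rfl⟩
      · intro y hy
        exact ⟨⟨y, EE_le_Q hS h2 hy⟩, h3 _ hy, rfl⟩
    obtain ⟨y, hy, hyx⟩ := h4 hx
    have h5 : y = x := Subtype.ext hyx
    rw [← h5]; exact hy
  rcases hcase with hab | ⟨-, -, hcm, hcS⟩
  · -- `S` abelian
    have hcT : ∀ x ∈ Q, ∀ y ∈ Q, x * y * x⁻¹ * y⁻¹ ∈ T := by
      intro x hx y hy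
      obtain ⟨s, hs, u, hu, rfl⟩ := hdec x hx
      obtain ⟨s', hs', u', hu', rfl⟩ := hdec y hy
      rw [hcomm s hs s' hs' u hu u' hu', hab s hs s' hs']
      have e : s' * s * s⁻¹ * s'⁻¹ = 1 := by group
      rw [e, one_mul]
      exact hTcomm u hu u' hu'
    have hc1 : Nat.card (Ann Q T) = Nat.card S := by
      have h3 := card_Ann hTQ hcT
      rw [hTc, hcard] at h3
      exact Nat.eq_of_mul_eq_mul_right hTpos h3
    have hfT := finite_Ann Q T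
    have hle : Nat.card (Ann Q T) * N ≤ Nat.card {θ : Q →* ℂˣ | IsFree (stabilizer G a) Q θ} := by
      rw [hNdef, ← Nat.card_prod]
      apply Nat.card_le_card_of_injective
        (fun z : Ann Q T × {a_1 : Ann Q S // ∀ d, actA (Q := Q) (conjQ hS) hMS d a_1 = a_1 → d = 1} =>
          (⟨z.1.1 * z.2.1.1, hfree z.1.1 z.1.2 z.2.1 z.2.2⟩ : {θ : Q →* ℂˣ | IsFree (stabilizer G a) Q θ}))
      rintro ⟨l, θ⟩ ⟨l', θ'⟩ h
      have h3 := congrArg Subtype.val h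
      obtain ⟨h4, h5⟩ := hinj l.1 l'.1 l.2 l'.2 θ.1 θ'.1 h3
      exact Prod.ext (Subtype.ext h4) (Subtype.ext h5)
    have key := X.X1a {θ : Q →* ℂˣ | IsFree (stabilizer G a) Q θ} (fun θ hθ => hθ) ?_ ?_
    · have h3 : 2 ^ p * N ≤ Nat.card (Ann Q T) * N := Nat.mul_le_mul_right _ (by rw [hc1]; exact hqS)
      omega
    · refine ⟨1 * θ₀.1, hfree 1 (fun _ _ => rfl) θ₀ hθ₀, ?_⟩
      intro x hx
      show 1 * θ₀.1 x = 1
      rw [one_mul]
      exact θ₀.2 x (hES hx)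
    · by_contra hall
      push Not at hall
      have h3 : ∀ lam : Ann Q T, lam.1 ∈ Ann Q (T ⊔ EE hS h2) := by
        intro lam
        apply htriv lam.1 lam.2
        intro x hx
        have h4 := hall _ (hfree lam.1 lam.2 θ₀ hθ₀) x hx
        rwa [MonoidHom.mul_apply, θ₀.2 x (hES hx), mul_one] at h4
      have hfTE := finite_Ann Q (T ⊔ EE hS h2)
      have h4 : Nat.card (Ann Q T) ≤ Nat.card (Ann Q (T ⊔ EE hS h2)) := by
        apply Nat.card_le_card_of_injective (fun lam : Ann Q T => (⟨lam.1, h3 lam⟩ : Ann Q (T ⊔ EE hS h2)))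
        intro l l' h
        have h5 := congrArg Subtype.val h
        exact Subtype.ext h5
      have h5 := card_Ann hTEQ (fun x hx y hy => (le_sup_left : T ≤ T ⊔ EE hS h2) (hcT x hx y hy))
      rw [hcTE, hcard] at h5
      rw [hc1] at h4
      have h6 : Nat.card S * (m * 2 ^ p) ≤ Nat.card S * m := by
        rw [← h5]; exact Nat.mul_le_mul_right _ h4
      have h7 : Nat.card S * m * 8 ≤ Nat.card S * m * 2 ^ p := Nat.mul_le_mul_left _ hq8
      have h8 : 0 < Nat.card S * m := Nat.mul_pos Nat.card_pos hTpos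
      nlinarith
  · -- `S` nonabelian
    have hcM : ∀ x ∈ Q, ∀ y ∈ Q, x * y * x⁻¹ * y⁻¹ ∈ T ⊔ EE hS h2 := by
      intro x hx y hy
      obtain ⟨s, hs, u, hu, rfl⟩ := hdec x hx
      obtain ⟨s', hs', u', hu', rfl⟩ := hdec y hy
      rw [hcomm s hs s' hs' u hu u' hu']
      refine mul_mem ?_ ?_
      · have h3 := hcm s⁻¹ (S.inv_mem hs) s'⁻¹ (S.inv_mem hs')
        rw [inv_inv, inv_inv] at h3
        exact (le_sup_right : EE hS h2 ≤ T ⊔ EE hS h2) h3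
      · exact (le_sup_left : T ≤ T ⊔ EE hS h2) (hTcomm u hu u' hu')
    have hfTE := finite_Ann Q (T ⊔ EE hS h2)
    have hc1 : Nat.card (Ann Q (T ⊔ EE hS h2)) * 2 ^ p = Nat.card S := by
      have h3 := card_Ann hTEQ hcM
      rw [hcTE, hcard] at h3
      apply Nat.eq_of_mul_eq_mul_right hTpos
      rw [← h3]; ring
    have hY : 2 ^ p ≤ Nat.card (Ann Q (T ⊔ EE hS h2)) := by
      rw [H.hq] at hcS
      have hpos : 0 < 2 ^ p := by positivity
      rcases hcS with h | h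
      · have h3 : Nat.card (Ann Q (T ⊔ EE hS h2)) * 2 ^ p = 2 ^ p * 2 ^ p := by rw [hc1, h]; ring
        exact (Nat.eq_of_mul_eq_mul_right hpos h3).ge
      · have h3 : Nat.card (Ann Q (T ⊔ EE hS h2)) * 2 ^ p = (2 ^ p * 2 ^ p) * 2 ^ p := by rw [hc1, h]; ring
        rw [Nat.eq_of_mul_eq_mul_right hpos h3]
        exact Nat.le_mul_of_pos_right _ hpos
    have hle : Nat.card (Ann Q (T ⊔ EE hS h2)) * N ≤
        Nat.card {θ : Q →* ℂˣ | IsFree (stabilizer G a) Q θ ∧ ∀ x : Q, (x : G) ∈ EE hS h2 → θ x = 1} := by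
      rw [hNdef, ← Nat.card_prod]
      apply Nat.card_le_card_of_injective
        (fun z : Ann Q (T ⊔ EE hS h2) × {a_1 : Ann Q S // ∀ d, actA (Q := Q) (conjQ hS) hMS d a_1 = a_1 → d = 1} =>
          (⟨z.1.1 * z.2.1.1, hfree z.1.1 (fun x hx => z.1.2 x (le_sup_left (a := T) hx)) z.2.1 z.2.2, fun x hx => by
            rw [MonoidHom.mul_apply, z.1.2 x (le_sup_right (b := EE hS h2) hx), z.2.1.2 x (hES hx), mul_one]⟩ :
            {θ : Q →* ℂˣ | IsFree (stabilizer G a) Q θ ∧ ∀ x : Q, (x : G) ∈ EE hS h2 → θ x = 1}))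
      rintro ⟨l, θ⟩ ⟨l', θ'⟩ h
      have h3 := congrArg Subtype.val h
      obtain ⟨h4, h5⟩ := hinj l.1 l'.1 (fun x hx => l.2 x (le_sup_left (a := T) hx))
        (fun x hx => l'.2 x (le_sup_left (a := T) hx)) θ.1 θ'.1 h3
      exact Prod.ext (Subtype.ext h4) (Subtype.ext h5)
    have hND : (2 ^ p - 1) * p ≤ N := by
      rw [← card_D hS H]
      exact F.card_D_le hθ₀
    -- an irreducible character of `Q / T`
    have hTn' : (T.subgroupOf Q).Normal := by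
      constructor
      intro x hx g
      rw [mem_subgroupOf] at hx ⊢
      exact hTn g (hS.le g.2) x hx
    have hcQT : Nat.card (Q ⧸ T.subgroupOf Q) = Nat.card S := by
      have h3 := Subgroup.card_eq_card_quotient_mul_card_subgroup (T.subgroupOf Q)
      rw [Nat.card_congr (subgroupOfEquivOfLe hTQ).toEquiv, hTc, hcard] at h3
      exact (Nat.eq_of_mul_eq_mul_right hTpos h3).symm
    obtain ⟨e, heE, he1⟩ : ∃ e ∈ EE hS h2, e ≠ 1 := by
      by_contra hcon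
      push Not at hcon
      have h3 : EE hS h2 = ⊥ := by
        rw [eq_bot_iff]; exact fun x hx => mem_bot.2 (hcon x hx)
      have h4 := card_EE hS h2
      rw [h3, card_bot, H.hq] at h4
      omega
    have heQ := EE_le_Q hS h2 heE
    have hē : (QuotientGroup.mk' (T.subgroupOf Q)) ⟨e, heQ⟩ ≠ 1 := by
      intro h
      rw [QuotientGroup.mk'_apply, QuotientGroup.eq_one_iff] at h
      exact he1 (hinter e (hES heE) h)
    obtain ⟨ψ, hψ⟩ : ∃ ψ : IrrCharacter (Q ⧸ T.subgroupOf Q),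
        (ψ : (Q ⧸ T.subgroupOf Q) → ℂ) ((QuotientGroup.mk' (T.subgroupOf Q)) ⟨e, heQ⟩) ≠
          (ψ : (Q ⧸ T.subgroupOf Q) → ℂ) 1 := by
      by_contra hcon
      push Not at hcon
      have h3 := sum_degree_mul _ hē
      simp only [hcon, ← sq] at h3
      rw [sum_degree_sq] at h3
      exact absurd h3 (by exact_mod_cast (Nat.card_pos (α := Q ⧸ T.subgroupOf Q)).ne')
    obtain ⟨f, hf0, hf⟩ := ψ.2.exists_degree
    have hf2 : f ^ 2 ≤ Nat.card (Ann Q (T ⊔ EE hS h2)) := by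
      have h3 := CdP.sq_le_index_center ψ.2 hf
      have h4 := (center (Q ⧸ T.subgroupOf Q)).card_mul_index
      rw [hcQT] at h4
      have h5 : 2 ^ p ≤ Nat.card (center (Q ⧸ T.subgroupOf Q)) := by
        rw [← H.hq, ← card_EE hS h2]
        apply Nat.card_le_card_of_injective (fun x : EE hS h2 =>
          (⟨(QuotientGroup.mk' (T.subgroupOf Q)) ⟨x, EE_le_Q hS h2 x.2⟩, by
            rw [mem_center_iff]
            intro g
            obtain ⟨y, rfl⟩ := QuotientGroup.mk'_surjective _ g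
            rw [← map_mul, ← map_mul]
            congr 1
            exact Subtype.ext (EE_central hS h2 x.2 y.2).symm⟩ : center (Q ⧸ T.subgroupOf Q)))
        intro x y hxy
        have h6 := congrArg Subtype.val hxy
        have h7 : (⟨x, EE_le_Q hS h2 x.2⟩ : Q)⁻¹ * ⟨y, EE_le_Q hS h2 y.2⟩ ∈ T.subgroupOf Q := by
          rw [← QuotientGroup.eq]; exact h6
        have h8 : (x : G)⁻¹ * y = 1 := hinter _ (S.mul_mem (S.inv_mem (hES x.2)) (hES y.2)) h7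
        exact Subtype.ext (inv_mul_eq_one.1 h8)
      have h6 : (center (Q ⧸ T.subgroupOf Q)).index * 2 ^ p ≤ Nat.card (Ann Q (T ⊔ EE hS h2)) * 2 ^ p := by
        rw [hc1, ← h4, mul_comm (Nat.card _)]
        exact Nat.mul_le_mul_left _ h5
      have h7 := Nat.le_of_mul_le_mul_right h6 (by positivity)
      rw [sq]; omega
    have hf3 := num_f hf2 (hq8.trans hY)
    have hψQ : IsIrrCharacter Q ((ψ : (Q ⧸ T.subgroupOf Q) → ℂ) ∘ (QuotientGroup.mk' (T.subgroupOf Q))) :=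
      ψ.2.comp_surjective _ (QuotientGroup.mk'_surjective _)
    have hχ := hψQ.mul_linear (lin_irr θ₀.1).isCharacter (by simp [lin])
    have hχval : ∀ x : Q, (((ψ : (Q ⧸ T.subgroupOf Q) → ℂ) ∘ (QuotientGroup.mk' (T.subgroupOf Q))) * lin θ₀.1) x =
        (ψ : (Q ⧸ T.subgroupOf Q) → ℂ) (QuotientGroup.mk' (T.subgroupOf Q) x) * (θ₀.1 x : ℂ) := fun _ => rfl
    have hkT : ∀ x : Q, (x : G) ∈ T → QuotientGroup.mk' (T.subgroupOf Q) x = 1 := by
      intro x hx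
      rw [QuotientGroup.mk'_apply, QuotientGroup.eq_one_iff]
      exact hx
    have hfree₀ : IsFree (stabilizer G a) Q θ₀.1 := by
      have h3 := hfree 1 (fun _ _ => rfl) θ₀ hθ₀
      have h4 : (1 : Q →* ℂˣ) * θ₀.1 = θ₀.1 := MonoidHom.ext fun x => one_mul _
      rwa [h4] at h3
    have key := X.X1b {θ : Q →* ℂˣ | IsFree (stabilizer G a) Q θ ∧ ∀ x : Q, (x : G) ∈ EE hS h2 → θ x = 1}
      (fun θ hθ => hθ.1) (fun θ hθ => hθ.2) hχ (f := f) ?_ ?_ ?_ ?_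
    · have h3 : 2 ^ p * N ≤ Nat.card (Ann Q (T ⊔ EE hS h2)) * N := Nat.mul_le_mul_right _ hY
      omega
    · rw [hχval, map_one, map_one, hf]; simp
    · refine ⟨⟨e, heQ⟩, heE, ?_⟩
      rw [hχval, hχval, map_one, map_one, θ₀.2 ⟨e, heQ⟩ (hES heE)]
      simpa using hψ
    · intro g hg h3
      apply hfree₀ g hg
      intro x hx
      obtain ⟨s, hs, u, hu, hxx⟩ := hdec x x.2
      have e3 : x = (⟨s, hSQ hs⟩ : Q) * ⟨u, hTQ hu⟩ := Subtype.ext hxx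
      have e4 : (⟨g * x * g⁻¹, hx⟩ : Q) = ⟨g * s * g⁻¹, hSQ (hSn g hg s hs)⟩ * ⟨g * u * g⁻¹, hTQ (hTn g hg u hu)⟩ := by
        apply Subtype.ext
        show g * (x : G) * g⁻¹ = g * s * g⁻¹ * (g * u * g⁻¹)
        rw [hxx]; group
      have h4 := h3 ⟨u, hTQ hu⟩ (hTQ (hTn g hg u hu))
      rw [hχval, hχval, hkT _ (hTn g hg u hu), hkT _ hu, hf] at h4
      have hf0' : (f : ℂ) ≠ 0 := by exact_mod_cast hf0.ne'
      have h5 := mul_left_cancel₀ hf0' h4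
      have h6 : θ₀.1 ⟨g * u * g⁻¹, hTQ (hTn g hg u hu)⟩ = θ₀.1 ⟨u, hTQ hu⟩ := Units.ext h5
      rw [e4, e3, map_mul, map_mul, h6, θ₀.2 _ (hSn g hg s hs), θ₀.2 ⟨s, hSQ hs⟩ hs]
    · calc (2 * f + 2) * ((2 ^ p - 1) * p) ≤ Nat.card (Ann Q (T ⊔ EE hS h2)) * N := Nat.mul_le_mul hf3 hND
        _ ≤ _ := hle

omit H in
/-- the two open inputs of `H26SuzP.Inputs` -/
theorem inputs_odd {v : G} {p : ℕ} (hp : p.Prime) (hv1 : v ≠ 1) (hvp : v ^ p = 1) (hv : v ∈ DD G a t) (hvt : v * t = t * v)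
    (hV : ∀ d ∈ DD G a t, d * t = t * d → d ∈ zpowers v)
    (hKC : ∀ k ∈ Cfsg.invertedBy (DD G a t) t, v * k = k * v → k = 1) (hq : qq Q = 2 ^ p) :
    ∀ x ∈ Q, ∃ n : ℕ, x ^ 2 ^ n = 1 := by
  obtain ⟨k₀, hk₀, hKn, -⟩ := exists_K hS h2
  have hK : ∀ x, x ∈ zpowers k₀ ↔ x ∈ Cfsg.invertedBy (DD G a t) t := fun x => by rw [← hk₀]; rfl
  exact odd hS h2 ⟨hp, hv1, hvp, hv, hvt, hV, fun k hk => hKC k ((hK k).1 hk), hq, hK, hKn⟩

omit H in
theorem inputs_abel {v : G} {p : ℕ} (hp : p.Prime) (hv1 : v ≠ 1) (hvp : v ^ p = 1) (hv : v ∈ DD G a t) (hvt : v * t = t * v)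
    (hV : ∀ d ∈ DD G a t, d * t = t * d → d ∈ zpowers v)
    (hKC : ∀ k ∈ Cfsg.invertedBy (DD G a t) t, v * k = k * v → k = 1) (hq : qq Q = 2 ^ p)
    (hcomm : ∀ x ∈ Q, ∀ y ∈ Q, x * y = y * x) (j : ℕ) (hj : Nat.card Q = (2 ^ j) ^ p) : j < 3 := by
  obtain ⟨k₀, hk₀, hKn, -⟩ := exists_K hS h2
  have hK : ∀ x, x ∈ zpowers k₀ ↔ x ∈ Cfsg.invertedBy (DD G a t) t := fun x => by rw [← hk₀]; rfl
  exact abel hS h2 ⟨hp, hv1, hvp, hv, hvt, hV, fun k hk => hKC k ((hK k).1 hk), hq, hK, hKn⟩ hcomm hj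

end Cfsg.Agent.Lib.SuzX9
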