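import Cfsg.Agent.Lib.SuzX1

set_option autoImplicit false

/-!
# Character inequality [X1] for Suzuki's theorem (helper69), part 2: degrees
-/

namespace Cfsg.Agent.Lib.SuzX

open scoped ComplexConjugate
open CharBasic IndFun

universe u v

variable {G : Type u} [Group G]

namespace XHyp

variable {H Q E : Subgroup G} {q v : ℕ} (X : XHyp H Q E q v)
include X

theorem even_q : ∃ k : ℕ, q = 2 * k := by
  have hfin : Finite E := Nat.finite_of_card_ne_zero (by rw [X.cardE]; exact X.q_pos.ne')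
  have h4 : 1 < Nat.card E := by rw [X.cardE]; have := X.four_le; omega
  have : Nontrivial E := Finite.one_lt_card_iff_nontrivial.1 h4
  obtain ⟨e, he⟩ := exists_ne (1 : E)
  have hee : e * e = 1 := Subtype.ext ((X.mem_E e (X.EQ e.2)).1 e.2)
  have h2 : orderOf e = 2 := by
    apply orderOf_eq_prime
    · rw [sq, hee]
    · exact he
  have h3 : orderOf e ∣ Nat.card E := orderOf_dvd_natCard e
  rw [h2, X.cardE] at h3
  exact h3

/-- key equation: the degree of an exceptional character is large -/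
theorem degree_bound [Finite G] [Fintype E] [Fintype G] (α : Q → ℂ) (h0 : α 1 = 0) (f : ℕ)
    (hf : 0 < f)
    (hA : ∑ e : E, extendByZero Q α e = (f : ℂ) * q) {ε : ℂ} (hε : ε = 1 ∨ ε = -1)
    {χ χ' : G → ℂ} (hχ : IsIrrCharacter G χ) (hχ' : IsIrrCharacter G χ')
    (hind : indFun Q α = ε • ((f : ℂ) • χ - χ')) {d : ℕ} (hd : χ 1 = d) :
    2 * (Nat.card Q + 1) * (q - 1) ≤ d * (q - 2) := by
  classical
  let _ : Fintype H := Fintype.ofFinite _
  -- an involution
  have h4 : 1 < Nat.card E := by rw [X.cardE]; have := X.four_le; omega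
  have : Nontrivial E := Finite.one_lt_card_iff_nontrivial.1 h4
  obtain ⟨⟨z, hz⟩, hz1'⟩ := exists_ne (1 : E)
  have hz1 : z ≠ 1 := fun h => hz1' (Subtype.ext h)
  have hzz : z * z = 1 := (X.mem_E z (X.EQ hz)).1 hz
  have hεε : ε * ε = 1 := by rcases hε with h | h <;> rw [h] <;> norm_num
  obtain ⟨k, hk⟩ := Sharp3.exists_int_of_involution hχ.isCharacter hzz
  obtain ⟨k', hk'⟩ := Sharp3.exists_int_of_involution hχ'.isCharacter hzz
  have hd0 : (d : ℂ) ≠ 0 := by rw [← hd]; exact hχ.one_ne_zero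
  have hd' : χ' 1 = f * d := by
    have h1 := indFun_one Q α
    rw [h0, mul_zero, hind] at h1
    simp only [Pi.smul_apply, Pi.sub_apply, smul_eq_mul, hd] at h1
    have h2 : ε ≠ 0 := by
      intro h; rw [h, zero_mul] at hεε; exact zero_ne_one hεε
    have h3 := (mul_eq_zero.1 h1).resolve_left h2
    linear_combination -h3
  -- the value at `z`
  have hval := X.ind_value α h0 hz hz1
  rw [hA, hind] at hval
  simp only [Pi.smul_apply, Pi.sub_apply, smul_eq_mul, hk, hk'] at hval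
  -- the structure constants
  have hlam := X.lam_eq α h0 hz hz1
  have hsum : ∑ ψ : IrrCharacter G,
      classInner (indFun Q α) (ψ : G → ℂ) * (ψ : G → ℂ) z * conj ((ψ : G → ℂ) z) /
        (ψ : G → ℂ) 1 = ε * ((f : ℂ) * (k * k / d) - (k' * k' / (f * d))) := by
    have h1 : ∀ ψ : IrrCharacter G, classInner (indFun Q α) (ψ : G → ℂ) =
        ε * ((f : ℂ) * (if χ = (ψ : G → ℂ) then 1 else 0) - (if χ' = (ψ : G → ℂ) then 1 else 0)) := by
      intro ψ
      rw [hind, CharBasic.classInner_smul_left, CharBasic.classInner_sub_left,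
        CharBasic.classInner_smul_left, hχ.classInner_eq ψ.2, hχ'.classInner_eq ψ.2]
    have h2 : ∀ (c : ℂ) (φ : IrrCharacter G), ∑ ψ : IrrCharacter G,
        (c * (if (φ : G → ℂ) = (ψ : G → ℂ) then 1 else 0)) * (ψ : G → ℂ) z *
          conj ((ψ : G → ℂ) z) / (ψ : G → ℂ) 1 =
        c * ((φ : G → ℂ) z * conj ((φ : G → ℂ) z) / (φ : G → ℂ) 1) := by
      intro c φ
      rw [Finset.sum_eq_single φ]
      · rw [if_pos rfl]; ring
      · intro ψ _ hψ
        rw [if_neg (fun h => hψ (Subtype.ext h.symm))]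
        simp
      · intro h; exact absurd (Finset.mem_univ _) h
    have h3 := h2 (ε * f) ⟨χ, hχ⟩
    have h4 := h2 ε ⟨χ', hχ'⟩
    simp only [hk, hk', hd, hd', map_intCast] at h3 h4
    calc _ = ∑ ψ : IrrCharacter G, ((ε * f * (if χ = (ψ : G → ℂ) then 1 else 0)) *
          (ψ : G → ℂ) z * conj ((ψ : G → ℂ) z) / (ψ : G → ℂ) 1 -
          (ε * (if χ' = (ψ : G → ℂ) then 1 else 0)) *
          (ψ : G → ℂ) z * conj ((ψ : G → ℂ) z) / (ψ : G → ℂ) 1) := by
          apply Finset.sum_congr rfl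
          intro ψ _
          rw [h1]
          ring
      _ = _ := by
          rw [Finset.sum_sub_distrib, h3, h4]
          ring
  rw [hsum, hA] at hlam
  have hfc : (f : ℂ) ≠ 0 := Nat.cast_ne_zero.2 hf.ne'
  have hvc : (v : ℂ) ≠ 0 := Nat.cast_ne_zero.2 X.v_pos.ne'
  have hqc : (q : ℂ) ≠ 0 := Nat.cast_ne_zero.2 X.q_pos.ne'
  have h5 : ((Nat.card Q : ℂ) + 1) * ((q : ℂ) - 1) * (ε * ((f : ℂ) ^ 2 * k ^ 2 - k' ^ 2)) =
      v * ((q : ℂ) - 2) * (f * q) * (f * d) := by
    have : ε * ((f : ℂ) * (k * k / d) - (k' * k' / (f * d))) * (f * d) =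
        ε * ((f : ℂ) ^ 2 * k ^ 2 - k' ^ 2) := by
      field_simp
    rw [← this]
    linear_combination ((f : ℂ) * d) * hlam
  have h6 : (k' : ℂ) = f * k - ε * (v * (f * q)) := by
    linear_combination (-ε) * hval + ((f : ℂ) * k - k') * hεε
  -- the integer equation
  obtain ⟨e, he, hee⟩ : ∃ e : ℤ, ε = e ∧ e * e = 1 := by
    rcases hε with h | h
    · exact ⟨1, by simp [h], by norm_num⟩
    · exact ⟨-1, by simp [h], by norm_num⟩
  have h7 : ((Nat.card Q : ℂ) + 1) * ((q : ℂ) - 1) * (2 * k - e * v * q) =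
      ((q : ℂ) - 2) * d := by
    have hne : (v : ℂ) * f ^ 2 * q ≠ 0 :=
      mul_ne_zero (mul_ne_zero hvc (pow_ne_zero _ hfc)) hqc
    apply mul_left_cancel₀ hne
    rw [h6] at h5
    rw [← he]
    have : ε * ((f : ℂ) ^ 2 * k ^ 2 - (f * k - ε * (v * (f * q))) ^ 2) =
        v * f ^ 2 * q * (2 * k - ε * v * q) := by
      linear_combination (2 * (f : ℂ) ^ 2 * k * v * q - ε * v ^ 2 * f ^ 2 * q ^ 2) * hεε
    rw [this] at h5
    linear_combination h5
  have hq4 := X.four_le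
  have h8 : ((Nat.card Q : ℤ) + 1) * ((q : ℤ) - 1) * (2 * k - e * v * q) =
      ((q : ℤ) - 2) * d := by
    exact_mod_cast h7
  obtain ⟨r, hr⟩ := X.even_q
  have hdpos : 0 < d := Nat.pos_of_ne_zero (fun h => hd0 (by rw [h, Nat.cast_zero]))
  have h9 : 0 < ((q : ℤ) - 2) * d := by
    apply mul_pos
    · have : (4 : ℤ) ≤ q := by exact_mod_cast hq4
      linarith
    · exact_mod_cast hdpos
  have h10 : 0 < ((Nat.card Q : ℤ) + 1) * ((q : ℤ) - 1) := by
    apply mul_pos
    · positivity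
    · have : (4 : ℤ) ≤ q := by exact_mod_cast hq4
      linarith
  have h11 : 0 < 2 * k - e * v * q := by
    rw [← h8] at h9
    exact (mul_pos_iff_of_pos_left h10).1 h9
  have h12 : 2 ≤ 2 * k - e * v * q := by
    have : 2 * k - e * v * q = 2 * (k - e * v * r) := by
      rw [hr]; push_cast; ring
    rw [this] at h11 ⊢
    omega
  have h13 : ((Nat.card Q : ℤ) + 1) * ((q : ℤ) - 1) * 2 ≤ ((q : ℤ) - 2) * d := by
    rw [← h8]
    exact mul_le_mul_of_nonneg_left h12 h10.le
  have h14 : ((2 * (Nat.card Q + 1) * (q - 1) : ℕ) : ℤ) ≤ ((d * (q - 2) : ℕ) : ℤ) := by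
    push_cast
    rw [Nat.cast_sub (by omega), Nat.cast_sub (by omega)]
    push_cast
    linarith
  exact_mod_cast h14

/-- the final counting -/
theorem count_bound [Finite G] {ι : Type v} [Finite ι] (f : ι → IrrCharacter G)
    (hinj : Function.Injective f) {d : ℕ} (hd : ∀ i, (f i : G → ℂ) 1 = d)
    (hbound : 2 * (Nat.card Q + 1) * (q - 1) ≤ d * (q - 2)) :
    4 * Nat.card ι * (q - 1) < v * (q - 2) ^ 2 := by
  classical
  let _ : Fintype ι := Fintype.ofFinite _
  have h1 : Nat.card ι * d ^ 2 ≤ Nat.card G := by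
    have h2 : ∀ χ : IrrCharacter G, ∃ n : ℕ, (χ : G → ℂ) 1 = n := by
      intro χ
      obtain ⟨n, _, hn⟩ := χ.2.exists_degree
      exact ⟨n, hn⟩
    choose D hD using h2
    have h3 : ∑ χ : IrrCharacter G, D χ ^ 2 = Nat.card G := by
      have := sum_degree_sq (G := G)
      simp only [hD] at this
      exact_mod_cast this
    have h4 : ∀ i, D (f i) = d := by
      intro i
      have := (hD (f i)).symm.trans (hd i)
      exact_mod_cast this
    rw [← h3]
    calc Nat.card ι * d ^ 2 = ∑ i : ι, D (f i) ^ 2 := by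
          simp [h4, Nat.card_eq_fintype_card]
      _ = ∑ χ ∈ Finset.univ.map ⟨f, hinj⟩, D χ ^ 2 := by rw [Finset.sum_map]; rfl
      _ ≤ _ := Finset.sum_le_sum_of_subset (Finset.subset_univ _)
  have hq4 := X.four_le
  have hv := X.v_pos
  have hQ : 0 < Nat.card Q := Nat.card_pos
  rw [X.cardG, X.cardH] at h1
  set m := Nat.card Q with hm
  set n := Nat.card ι with hn
  obtain ⟨s, hs⟩ : ∃ s, q = s + 2 := ⟨q - 2, by omega⟩
  have e1 : q - 1 = s + 1 := by omega
  have e2 : q - 2 = s := by omega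
  rw [e1, e2] at hbound
  rw [e1] at h1
  rw [e1, e2]
  have hs2 : 2 ≤ s := by omega
  have h5 : (2 * (m + 1) * (s + 1)) ^ 2 ≤ (d * s) ^ 2 := Nat.pow_le_pow_left hbound 2
  have h6 : n * (2 * (m + 1) * (s + 1)) ^ 2 ≤ s ^ 2 * ((m + 1) * (m * ((s + 1) * v))) := by
    calc n * (2 * (m + 1) * (s + 1)) ^ 2 ≤ n * (d * s) ^ 2 := Nat.mul_le_mul_left _ h5
      _ = s ^ 2 * (n * d ^ 2) := by ring
      _ ≤ _ := Nat.mul_le_mul_left _ h1
  have h7 : ((m + 1) * (s + 1)) * (4 * n * (m + 1) * (s + 1)) ≤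
      ((m + 1) * (s + 1)) * (s ^ 2 * (m * v)) := by
    calc _ = n * (2 * (m + 1) * (s + 1)) ^ 2 := by ring
      _ ≤ _ := h6
      _ = _ := by ring
  have h8 : 4 * n * (m + 1) * (s + 1) ≤ s ^ 2 * (m * v) :=
    Nat.le_of_mul_le_mul_left h7 (by positivity)
  have h9 : s ^ 2 * (m * v) < s ^ 2 * ((m + 1) * v) := by
    apply Nat.mul_lt_mul_of_pos_left
    · exact Nat.mul_lt_mul_of_pos_right (by omega) hv
    · positivity
  have h10 : (m + 1) * (4 * n * (s + 1)) < (m + 1) * (v * s ^ 2) := by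
    calc _ = 4 * n * (m + 1) * (s + 1) := by ring
      _ ≤ _ := h8
      _ < _ := h9
      _ = _ := by ring
  exact Nat.lt_of_mul_lt_mul_left h10

end XHyp

end Cfsg.Agent.Lib.SuzX
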