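import Cfsg.Agent.Lib.SuzX2

set_option autoImplicit false

/-!
# Character inequality [X1] for Suzuki's theorem (helper69), part 3: exceptional characters
-/

namespace Cfsg.Agent.Lib.SuzX

open scoped ComplexConjugate
open CharBasic IndFun

universe u v

variable {G : Type u} [Group G]

/-- pairwise non-conjugate irreducible characters of `Q` with inertia group `Q` in `H` -/
structure Fam (H Q : Subgroup G) {κ : Type v} (F : κ → Q → ℂ) : Prop where
  irr : ∀ i, IsIrrCharacter Q (F i)
  st : ∀ i, ∀ h ∈ H, cj h (F i) = F i → h ∈ Q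
  ne : ∀ i j, i ≠ j → ∀ h ∈ H, cj h (F i) ≠ F j

namespace XHyp

variable {H Q E : Subgroup G} {q v : ℕ} (X : XHyp H Q E q v)
include X

/-- the form -/
noncomputable def B (_ : XHyp H Q E q v) [Fintype H] [Fintype Q] (α β : Q → ℂ) : ℂ :=
  (Nat.card Q : ℂ)⁻¹ * ∑ h : H, classInner α (cj (h : G) β)

theorem cj_sub {h : G} (hh : h ∈ H) (α β : Q → ℂ) : cj h (α - β) = cj h α - cj h β := by
  rw [X.cj_eq hh, X.cj_eq hh, X.cj_eq hh]
  rfl

theorem cj_smul {h : G} (hh : h ∈ H) (c : ℂ) (α : Q → ℂ) : cj h (c • α) = c • cj h α := by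
  rw [X.cj_eq hh, X.cj_eq hh]
  rfl

variable [Fintype H] [Fintype Q]

theorem B_sub_left (α α' β : Q → ℂ) : X.B (α - α') β = X.B α β - X.B α' β := by
  unfold B
  simp only [CharBasic.classInner_sub_left, Finset.sum_sub_distrib]
  ring

theorem B_sub_right (α β β' : Q → ℂ) : X.B α (β - β') = X.B α β - X.B α β' := by
  unfold B
  rw [← mul_sub, ← Finset.sum_sub_distrib]
  congr 1
  apply Finset.sum_congr rfl
  intro h _
  rw [X.cj_sub h.2, CharBasic.classInner_sub_right]

theorem B_smul_left (c : ℂ) (α β : Q → ℂ) : X.B (c • α) β = c * X.B α β := by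
  unfold B
  simp only [CharBasic.classInner_smul_left, ← Finset.mul_sum]
  ring

theorem B_smul_right (c : ℂ) (α β : Q → ℂ) : X.B α (c • β) = conj c * X.B α β := by
  unfold B
  have : ∀ h : H, classInner α (cj (h : G) (c • β)) = conj c * classInner α (cj (h : G) β) := by
    intro h
    rw [X.cj_smul h.2, CharBasic.classInner_smul_right]
  simp only [this, ← Finset.mul_sum]
  ring

theorem classInner_eq_B [Fintype G] {α β : Q → ℂ} (h0 : α 1 = 0) :
    classInner (indFun Q α) (indFun Q β) = X.B α β := X.classInner_ind h0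

theorem gram {κ : Type v} [DecidableEq κ] {F : κ → Q → ℂ} (hF : Fam H Q F) (i j : κ) :
    X.B (F i) (F j) = if i = j then 1 else 0 := by
  classical
  unfold B
  have h1 : ∀ h : H, classInner (F i) (cj (h : G) (F j)) =
      if i = j ∧ (h : G) ∈ Q then 1 else 0 := by
    intro h
    rw [(hF.irr i).classInner_eq (X.cj_irr h.2 (hF.irr j))]
    by_cases hij : i = j
    · subst hij
      by_cases hh : (h : G) ∈ Q
      · rw [if_pos (X.cj_of_mem hh (hF.irr i).isClassFunction).symm, if_pos ⟨rfl, hh⟩]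
      · rw [if_neg (fun h1 => hh (hF.st i h h.2 h1.symm)), if_neg (fun h1 => hh h1.2)]
    · rw [if_neg (fun h1 => hF.ne j i (fun h => hij h.symm) h h.2 h1.symm),
        if_neg (fun h1 => hij h1.1)]
  rw [Finset.sum_congr rfl (fun h _ => h1 h)]
  by_cases hij : i = j
  · subst hij
    simp only [true_and, if_true]
    have h2 : ∑ h : H, (if (h : G) ∈ Q then (1 : ℂ) else 0) = Nat.card Q := by
      rw [Finset.sum_boole]
      norm_cast
      rw [← Nat.card_congr (Subgroup.subgroupOfEquivOfLe X.QH).toEquiv,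
        Nat.card_eq_fintype_card, Fintype.card_subtype]
      congr 1
    rw [h2, inv_mul_cancel₀ (Nat.cast_ne_zero.2 Nat.card_pos.ne')]
  · simp [hij]

theorem B_sub_sub {κ : Type v} [DecidableEq κ] {F : κ → Q → ℂ} (hF : Fam H Q F) (i j k l : κ) :
    X.B (F i - F j) (F k - F l) = (if i = k then 1 else 0) - (if i = l then 1 else 0) -
      (if j = k then 1 else 0) + (if j = l then 1 else 0) := by
  rw [X.B_sub_left, X.B_sub_right, X.B_sub_right, X.gram hF, X.gram hF, X.gram hF, X.gram hF]
  ring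

/-- the exceptional characters -/
theorem exc [Fintype G] {κ : Type v} {F : κ → Q → ℂ} (hF : Fam H Q F) {d : ℂ}
    (hd : ∀ i, F i 1 = d) (hcard : ∃ i j : κ, i ≠ j) :
    ∃ (ε : ℂ) (f : κ → IrrCharacter G), (ε = 1 ∨ ε = -1) ∧ Function.Injective f ∧
      ∀ i j, indFun Q (F i - F j) = ε • ((f i : G → ℂ) - (f j : G → ℂ)) := by
  classical
  have h0 : ∀ i j, (F i - F j) 1 = 0 := by
    intro i j
    rw [Pi.sub_apply, hd, hd, sub_self]
  apply TIFN.exceptional_family (fun i j => indFun Q (F i - F j))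
  · intro i j
    exact ((hF.irr i).isGeneralized.sub (hF.irr j).isGeneralized).indFun Q
  · intro i j
    rw [indFun_one, h0, mul_zero]
  · intro i j k
    rw [← indFun_add]
    congr 1
    abel
  · intro i j hij
    rw [X.classInner_eq_B (h0 i j), X.B_sub_sub hF]
    rw [if_pos rfl, if_pos rfl, if_neg hij, if_neg (fun h => hij h.symm)]
    norm_num
  · intro i j k hij hik hjk
    rw [X.classInner_eq_B (h0 i j), X.B_sub_sub hF]
    rw [if_pos rfl, if_neg hik, if_neg (fun h => hij h.symm), if_neg hjk]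
    norm_num
  · exact hcard

/-- Case (a). -/
theorem case_a [Finite G] [Fintype E] {κ : Type v} [Finite κ] {F : κ → Q → ℂ} (hF : Fam H Q F)
    (hlin : ∀ i, F i 1 = 1) {i j : κ}
    (hi : ∑ e : E, extendByZero Q (F i) e = q) (hj : ∑ e : E, extendByZero Q (F j) e = 0) :
    4 * Nat.card κ * (q - 1) < v * (q - 2) ^ 2 := by
  classical
  let _ : Fintype G := Fintype.ofFinite _
  have hij : i ≠ j := by
    rintro rfl
    rw [hi] at hj
    have h1 : q = 0 := by exact_mod_cast hj
    exact X.q_pos.ne' h1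
  obtain ⟨ε, f, hε, hinj, hf⟩ := X.exc hF hlin ⟨i, j, hij⟩
  obtain ⟨d, _, hd⟩ := (f i).2.exists_degree
  have hε0 : ε ≠ 0 := by rcases hε with h | h <;> rw [h] <;> norm_num
  have hdeg : ∀ k, (f k : G → ℂ) 1 = d := by
    intro k
    have h1 := congrFun (hf i k) 1
    rw [indFun_one, Pi.sub_apply, hlin, hlin, sub_self, mul_zero] at h1
    simp only [Pi.smul_apply, Pi.sub_apply, smul_eq_mul] at h1
    have h2 := (mul_eq_zero.1 h1.symm).resolve_left hε0
    rw [← hd]
    linear_combination -h2
  apply X.count_bound f hinj hdeg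
  refine X.degree_bound (F i - F j) ?_ 1 one_pos ?_ hε (f i).2 (f j).2 ?_ hd
  · rw [Pi.sub_apply, hlin, hlin, sub_self]
  · have h1 : ∀ g : G, extendByZero Q (F i - F j) g =
        extendByZero Q (F i) g - extendByZero Q (F j) g := by
      intro g
      have h2 : F i - F j = F i + (-1 : ℂ) • F j := by
        rw [neg_one_smul, sub_eq_add_neg]
      rw [h2, extendByZero_add, extendByZero_smul]
      ring
    simp only [h1, Finset.sum_sub_distrib, hi, hj]
    push_cast
    ring
  · rw [hf i j, Nat.cast_one, one_smul]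

end XHyp

end Cfsg.Agent.Lib.SuzX
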