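import Cfsg.Agent.Lib.SuzX3

set_option autoImplicit false

/-!
# Character inequality [X1] for Suzuki's theorem (helper69), part 4: case (b), final forms
-/

namespace Cfsg.Agent.Lib.SuzX

open scoped ComplexConjugate
open CharBasic IndFun

universe u v

variable {G : Type u} [Group G]

theorem arith_c (n f : ℕ) (c e : ℤ) (hn : 2 * f + 2 ≤ n) (hee : e * e = 1)
    (h : (c + e * f) ^ 2 + (n - 1) * c ^ 2 ≤ f ^ 2 + 1) : c = 0 := by
  by_contra hc
  have h1 : (n : ℤ) * c ^ 2 + 2 * e * f * c ≤ 1 := by
    have e2 : (e * f : ℤ) ^ 2 = f ^ 2 := by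
      have : (e * f : ℤ) ^ 2 = (e * e) * f ^ 2 := by ring
      rw [this, hee, one_mul]
    nlinarith
  have hn' : (2 * f + 2 : ℤ) ≤ n := by exact_mod_cast hn
  have hf : (0 : ℤ) ≤ f := by positivity
  have he : e = 1 ∨ e = -1 := mul_self_eq_one_iff.1 hee
  have hc2 : 1 ≤ c ^ 2 := by
    have : 0 < c ^ 2 := by positivity
    omega
  have h3 : (2 * f + 2 : ℤ) * c ^ 2 ≤ n * c ^ 2 := mul_le_mul_of_nonneg_right hn' (by positivity)
  have h4 : -(f * c ^ 2 : ℤ) - f * c ^ 2 ≤ 2 * e * f * c := by
    rcases he with h | h <;> subst h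
    · have : 0 ≤ (f : ℤ) * (c ^ 2 + c) := by
        apply mul_nonneg hf
        rcases lt_or_ge c 0 with h | h
        · nlinarith
        · positivity
      nlinarith
    · have : 0 ≤ (f : ℤ) * (c ^ 2 - c) := by
        apply mul_nonneg hf
        rcases lt_or_ge 0 c with h | h
        · nlinarith
        · nlinarith
      nlinarith
  nlinarith

namespace XHyp

variable {H Q E : Subgroup G} {q v : ℕ} (X : XHyp H Q E q v)
include X

theorem case_b [Finite G] [Fintype H] [Fintype Q] [Fintype E] {ι : Type v} [Finite ι]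
    {F : Option ι → Q → ℂ} (hF : Fam H Q F)
    (hlin : ∀ i : ι, F (some i) 1 = 1) {f : ℕ} (hf : 0 < f) (hfd : F none 1 = f)
    (hE : ∀ i : ι, ∑ e : E, extendByZero Q (F (some i)) e = q)
    (hE' : ∑ e : E, extendByZero Q (F none) e = 0) (hbig : 2 * f + 2 ≤ Nat.card ι) :
    4 * Nat.card ι * (q - 1) < v * (q - 2) ^ 2 := by
  classical
  let _ : Fintype G := Fintype.ofFinite _
  let _ : Fintype ι := Fintype.ofFinite _
  have hnt : Nontrivial ι := Finite.one_lt_card_iff_nontrivial.1 (by omega)
  obtain ⟨i, l, hil⟩ := exists_pair_ne ι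
  have hF' : Fam H Q (fun k : ι => F (some k)) :=
    ⟨fun k => hF.irr _, fun k => hF.st _, fun k l hkl => hF.ne _ _ (fun h => hkl (Option.some.inj h))⟩
  obtain ⟨ε, g, hε, hinj, hg⟩ := X.exc hF' hlin ⟨i, l, hil⟩
  obtain ⟨e, he, hee⟩ : ∃ e : ℤ, ε = e ∧ e * e = 1 := by
    rcases hε with h | h
    · exact ⟨1, by simp [h], by norm_num⟩
    · exact ⟨-1, by simp [h], by norm_num⟩
  have heec : (e : ℂ) * e = 1 := by exact_mod_cast hee
  obtain ⟨d, hdpos, hd⟩ := (g i).2.exists_degree
  have hε0 : ε ≠ 0 := by rcases hε with h | h <;> rw [h] <;> norm_num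
  have hdeg : ∀ k, (g k : G → ℂ) 1 = d := by
    intro k
    have h1 := congrFun (hg i k) 1
    rw [indFun_one, Pi.sub_apply, hlin, hlin, sub_self, mul_zero] at h1
    simp only [Pi.smul_apply, Pi.sub_apply, smul_eq_mul] at h1
    have h2 := (mul_eq_zero.1 h1.symm).resolve_left hε0
    rw [← hd]
    linear_combination -h2
  apply X.count_bound g hinj hdeg
  set α : Q → ℂ := (f : ℂ) • F (some i) - F none with hα
  have hα0 : α 1 = 0 := by
    rw [hα, Pi.sub_apply, Pi.smul_apply, hlin, hfd, smul_eq_mul, mul_one, sub_self]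
  set θ : G → ℂ := indFun Q α with hθ
  have hgen : IsGeneralizedCharacter G θ :=
    (((hF.irr (some i)).isGeneralized.natCast_smul f).sub (hF.irr none).isGeneralized).indFun Q
  obtain ⟨c, hc, hcs⟩ := hgen.exists_coeff
  have hnorm : classInner θ θ = (f : ℂ) ^ 2 + 1 := by
    rw [hθ, X.classInner_eq_B hα0, hα, X.B_sub_left, X.B_sub_right, X.B_sub_right,
      X.B_smul_left, X.B_smul_left, X.B_smul_right, X.B_smul_right, X.gram hF, X.gram hF,
      X.gram hF, X.gram hF]
    simp
    ring
  have hsum : ∑ χ : IrrCharacter G, c χ * c χ = (f : ℤ) ^ 2 + 1 := by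
    have h1 := classInner_eq_sum_coeff hgen.isClassFunction hc hc
    rw [hnorm] at h1
    exact_mod_cast h1.symm
  have hdiff : ∀ k : ι, k ≠ i → c (g i) - c (g k) = e * f := by
    intro k hk
    have h1 : classInner θ (indFun Q (F (some i) - F (some k))) = (f : ℂ) := by
      rw [hθ, X.classInner_eq_B hα0, hα, X.B_sub_left, X.B_sub_right, X.B_sub_right,
        X.B_smul_left, X.B_smul_left, X.gram hF, X.gram hF,
        X.gram hF, X.gram hF]
      rw [if_pos rfl, if_neg (fun h => hk (Option.some.inj h).symm), if_neg (by simp),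
        if_neg (by simp)]
      ring
    rw [hg i k, CharBasic.classInner_smul_right, CharBasic.classInner_sub_right, hc, hc, he,
      map_intCast] at h1
    have h2 : (e : ℂ) * ((c (g i) : ℂ) - c (g k)) = f := h1
    have h3 : ((c (g i) : ℂ) - c (g k)) = e * f := by
      linear_combination (e : ℂ) * h2 - ((c (g i) : ℂ) - c (g k)) * heec
    exact_mod_cast h3
  set c0 : ℤ := c (g i) - e * f with hc0
  have hk0 : ∀ k : ι, k ≠ i → c (g k) = c0 := by
    intro k hk
    have := hdiff k hk
    rw [hc0]
    linarith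
  have hle : (c0 + e * f) ^ 2 + ((Nat.card ι : ℤ) - 1) * c0 ^ 2 ≤ (f : ℤ) ^ 2 + 1 := by
    rw [← hsum]
    calc (c0 + e * f) ^ 2 + ((Nat.card ι : ℤ) - 1) * c0 ^ 2 = ∑ k : ι, c (g k) * c (g k) := by
          rw [← Finset.add_sum_erase Finset.univ _ (Finset.mem_univ i)]
          congr 1
          · rw [hc0]; ring
          · rw [Finset.sum_congr rfl (g := fun _ => c0 ^ 2)]
            · rw [Finset.sum_const, Finset.card_erase_of_mem (Finset.mem_univ _),
                Finset.card_univ, nsmul_eq_mul, Nat.card_eq_fintype_card,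
                Nat.cast_sub Fintype.card_pos, Nat.cast_one]
            · intro k hk
              rw [hk0 k (Finset.ne_of_mem_erase hk)]
              ring
      _ = ∑ χ ∈ Finset.univ.map ⟨g, hinj⟩, c χ * c χ := by rw [Finset.sum_map]; rfl
      _ ≤ _ := Finset.sum_le_sum_of_subset_of_nonneg (Finset.subset_univ _)
        (fun χ _ _ => mul_self_nonneg _)
  have hc00 : c0 = 0 := arith_c _ _ _ _ hbig hee hle
  have hci : c (g i) = e * f := by
    rw [hc0] at hc00
    linarith
  -- the remaining constituent
  set R : G → ℂ := θ - ((e * f : ℤ) : ℂ) • (g i : G → ℂ) with hR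
  have hRgen : IsGeneralizedCharacter G R :=
    hgen.sub ((g i).2.isGeneralized.intCast_smul _)
  have hRnorm : classInner R R = 1 := by
    have h1 : classInner (g i : G → ℂ) θ = ((e * f : ℤ) : ℂ) := by
      rw [← conj_classInner, hc, hci, map_intCast]
    rw [hR, CharBasic.classInner_sub_left, CharBasic.classInner_sub_right,
      CharBasic.classInner_sub_right, CharBasic.classInner_smul_left,
      CharBasic.classInner_smul_left, CharBasic.classInner_smul_right,
      CharBasic.classInner_smul_right, hnorm, hc, hci, h1, (g i).2.classInner_self, map_intCast]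
    push_cast
    linear_combination (-(f : ℂ) ^ 2) * heec
  have hR1 : R 1 = -(e * f * d) := by
    rw [hR, Pi.sub_apply, Pi.smul_apply, hθ, indFun_one, hα0, hd, smul_eq_mul]
    push_cast
    ring
  have hχ' : IsIrrCharacter G ((-(e : ℂ)) • R) := by
    have hfd' : (0 : ℝ) < (f : ℝ) * d := by positivity
    rcases hRgen.irr_or_neg_irr hRnorm with h | h
    · obtain ⟨n, hn, hn'⟩ := h.exists_degree
      have h1 : e = -1 := by
        rcases mul_self_eq_one_iff.1 hee with h2 | h2
        · exfalso
          rw [hR1, h2] at hn'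
          have h3 := congrArg Complex.re hn'
          norm_num at h3
          have : (0 : ℝ) < n := by exact_mod_cast hn
          linarith
        · exact h2
      rw [h1]
      simpa using h
    · obtain ⟨n, hn, hn'⟩ := h.exists_degree
      have h1 : e = 1 := by
        rcases mul_self_eq_one_iff.1 hee with h2 | h2
        · exact h2
        · exfalso
          rw [Pi.neg_apply, hR1, h2] at hn'
          have h3 := congrArg Complex.re hn'
          norm_num at h3
          have : (0 : ℝ) < n := by exact_mod_cast hn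
          linarith
      rw [h1]
      simpa using h
  refine X.degree_bound α hα0 f hf ?_ hε (g i).2 hχ' ?_ hd
  · have h1 : ∀ x : G, extendByZero Q α x =
        f * extendByZero Q (F (some i)) x - extendByZero Q (F none) x := by
      intro x
      have h2 : α = (f : ℂ) • F (some i) + (-1 : ℂ) • F none := by
        rw [hα, neg_one_smul, sub_eq_add_neg]
      rw [h2, extendByZero_add, extendByZero_smul, extendByZero_smul]
      ring
    simp only [h1, Finset.sum_sub_distrib, ← Finset.mul_sum, hE, hE']
    ring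
  · change θ = _
    rw [he]
    funext x
    simp only [hR, Pi.smul_apply, Pi.sub_apply, smul_eq_mul]
    push_cast
    linear_combination (-(θ x) + e * f * (g i : G → ℂ) x) * heec

end XHyp

end Cfsg.Agent.Lib.SuzX
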