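import Cfsg.Agent.Lib.SuzX4
import Cfsg.Agent.Lib.BrauerInd

set_option autoImplicit false

/-!
# Character inequality [X1] for Suzuki's theorem (helper69), part 5: versions with sets of
linear characters

`X1a`: if `T` is a set of linear characters of `Q` with trivial stabiliser in `H / Q`, some member
of `T` is trivial on `E` and some is not, then `4 |T| < v² (q - 2)²`.

`X1b`: the same when all members of `T` are trivial on `E`, but there is an irreducible character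
`θ'` of `Q` of degree `f`, not trivial on `E`, with trivial stabiliser in `H / Q`, and
`|T| ≥ (2 f + 2) (q - 1) v`.
-/

namespace Cfsg.Agent.Lib.SuzX

open scoped ComplexConjugate
open CharBasic IndFun

universe u v

variable {G : Type u} [Group G]

/-- the linear character as a function -/
noncomputable def lin {Q : Subgroup G} (θ : Q →* ℂˣ) : Q → ℂ := fun x => (θ x : ℂ)

theorem lin_irr {Q : Subgroup G} (θ : Q →* ℂˣ) : IsIrrCharacter Q (lin θ) :=
  (BrauerInd.isCharacter_hom θ).isIrr_of_one_eq_one (by simp)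

theorem lin_injective {Q : Subgroup G} : Function.Injective (lin (Q := Q)) := by
  intro θ θ' h
  ext x
  exact congrFun h x

theorem finite_lin [Finite G] (Q : Subgroup G) : Finite (Q →* ℂˣ) := by
  apply Finite.of_injective (fun θ : Q →* ℂˣ => (⟨lin θ, lin_irr θ⟩ : IrrCharacter Q))
  intro θ θ' h
  exact lin_injective (congrArg Subtype.val h)

/-- trivial stabiliser in `H / Q` -/
def IsFree (H Q : Subgroup G) (θ : Q →* ℂˣ) : Prop :=
  ∀ h ∈ H, (∀ (x : Q) (hx : h * x * h⁻¹ ∈ Q), θ ⟨h * x * h⁻¹, hx⟩ = θ x) → h ∈ Q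

namespace XHyp

variable {H Q E : Subgroup G} {q v : ℕ} (X : XHyp H Q E q v)
include X

/-- conjugate linear character -/
noncomputable def cl {h : G} (hh : h ∈ H) (θ : Q →* ℂˣ) : Q →* ℂˣ :=
  θ.comp (X.cjEquiv hh).toMonoidHom

theorem cl_apply {h : G} (hh : h ∈ H) (θ : Q →* ℂˣ) (x : Q) :
    X.cl hh θ x = θ ⟨h⁻¹ * x * h, X.conjQ' hh x.2⟩ := rfl

theorem lin_cl {h : G} (hh : h ∈ H) (θ : Q →* ℂˣ) : lin (X.cl hh θ) = cj h (lin θ) := by
  rw [X.cj_eq hh]
  rfl

theorem st_of_free {θ : Q →* ℂˣ} (hθ : IsFree H Q θ) {h : G} (hh : h ∈ H)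
    (h1 : cj h (lin θ) = lin θ) : h ∈ Q := by
  rw [← X.lin_cl hh] at h1
  have h2 := lin_injective h1
  have h3 := hθ h⁻¹ (H.inv_mem hh) (by
    intro x hx
    have := DFunLike.congr_fun h2 x
    rw [X.cl_apply] at this
    rw [← this]
    congr 1
    ext
    simp)
  simpa using Q.inv_mem h3

theorem sumE_zero [Finite G] [Fintype E] {χ : Q → ℂ} (hχ : IsIrrCharacter Q χ)
    (h : ∃ x : Q, (x : G) ∈ E ∧ χ x ≠ χ 1) : ∑ e : E, extendByZero Q χ e = 0 := by
  classical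
  let _ : Fintype (E.subgroupOf Q) := Fintype.ofFinite _
  have hn : (E.subgroupOf Q).Normal := by
    constructor
    intro x hx g
    rw [Subgroup.mem_subgroupOf] at hx ⊢
    exact X.conjE (X.QH g.2) hx
  obtain ⟨x, hx, hne⟩ := h
  have h1 := NilChar.sum_normal_eq_zero hχ (E.subgroupOf Q)
    ⟨x, Subgroup.mem_subgroupOf.2 hx, hne⟩
  rw [← h1]
  refine Fintype.sum_equiv (Subgroup.subgroupOfEquivOfLe X.EQ).symm.toEquiv _ _ ?_
  intro e
  rw [extendByZero_mem Q χ (X.EQ e.2)]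
  rfl

theorem sumE_one [Fintype E] {χ : Q → ℂ} (h : ∀ x : Q, (x : G) ∈ E → χ x = 1) :
    ∑ e : E, extendByZero Q χ e = q := by
  have h1 : ∀ e : E, extendByZero Q χ e = 1 := by
    intro e
    rw [extendByZero_mem Q χ (X.EQ e.2)]
    exact h _ e.2
  simp only [h1, Finset.sum_const, Finset.card_univ, nsmul_eq_mul, mul_one]
  rw [← Nat.card_eq_fintype_card, X.cardE]

theorem index_eq [Finite G] : Nat.card (H ⧸ Q.subgroupOf H) = (q - 1) * v := by
  have h1 := Subgroup.card_eq_card_quotient_mul_card_subgroup (Q.subgroupOf H)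
  have h2 : Nat.card (Q.subgroupOf H) = Nat.card Q :=
    Nat.card_congr (Subgroup.subgroupOfEquivOfLe X.QH).toEquiv
  rw [h2, X.cardH, mul_comm (Nat.card Q)] at h1
  exact (Nat.eq_of_mul_eq_mul_right Nat.card_pos h1).symm

/-- conjugacy of linear characters -/
def rel (_ : XHyp H Q E q v) (θ θ' : Q →* ℂˣ) : Prop := ∃ h ∈ H, cj h (lin θ) = lin θ'

theorem cj_mul {h k : G} (hh : h ∈ H) (hk : k ∈ H) (α : Q → ℂ) :
    cj (h * k) α = cj h (cj k α) := by
  rw [X.cj_eq (H.mul_mem hh hk), X.cj_eq hh, X.cj_eq hk]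
  funext x
  simp only [Function.comp_apply]
  congr 1
  ext
  simp [cjEquiv, mul_assoc]

theorem cj_one (α : Q → ℂ) : cj 1 α = α := by
  rw [X.cj_eq H.one_mem]
  funext x
  simp only [Function.comp_apply]
  congr 1
  ext
  simp [cjEquiv]

theorem rel_equiv : Equivalence (X.rel) where
  refl θ := ⟨1, H.one_mem, X.cj_one _⟩
  symm := by
    rintro θ θ' ⟨h, hh, h1⟩
    refine ⟨h⁻¹, H.inv_mem hh, ?_⟩
    rw [← h1, ← X.cj_mul (H.inv_mem hh) hh, inv_mul_cancel, X.cj_one]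
  trans := by
    rintro θ θ' θ'' ⟨h, hh, h1⟩ ⟨k, hk, h2⟩
    exact ⟨k * h, H.mul_mem hk hh, by rw [X.cj_mul hk hh, h1, h2]⟩

/-- choice of representatives -/
theorem exists_reps [Finite G] (T : Set (Q →* ℂˣ)) :
    ∃ (κ : Type u) (_ : Finite κ) (r : κ → Q →* ℂˣ), (∀ k, r k ∈ T) ∧
      (∀ k l, X.rel (r k) (r l) → k = l) ∧ (∀ θ ∈ T, ∃ k, X.rel (r k) θ) ∧
      Nat.card T ≤ Nat.card κ * ((q - 1) * v) := by
  classical
  have hfin := finite_lin Q
  let s : Setoid (Q →* ℂˣ) := ⟨X.rel, X.rel_equiv⟩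
  let κ : Set (Quotient s) := (fun θ => Quotient.mk s θ) '' T
  have hr : ∀ k : κ, ∃ θ ∈ T, Quotient.mk s θ = k := by
    rintro ⟨k, θ, hθ, rfl⟩
    exact ⟨θ, hθ, rfl⟩
  choose r hrT hrk using hr
  have hcls : ∀ θ ∈ T, ∃ k : κ, X.rel (r k) θ := by
    intro θ hθ
    refine ⟨⟨Quotient.mk s θ, θ, hθ, rfl⟩, ?_⟩
    exact Quotient.exact (hrk ⟨Quotient.mk s θ, θ, hθ, rfl⟩)
  refine ⟨κ, inferInstance, r, hrT, ?_, hcls, ?_⟩
  · intro k l hkl
    apply Subtype.ext
    rw [← hrk k, ← hrk l]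
    exact Quotient.sound hkl
  · have h1 : ∀ θ : T, ∃ (k : κ) (h : G) (hh : h ∈ H), cj h (lin (r k)) = lin (θ : Q →* ℂˣ) := by
      intro θ
      obtain ⟨k, h, hh, h2⟩ := hcls θ θ.2
      exact ⟨k, h, hh, h2⟩
    choose K h hh h2 using h1
    rw [← X.index_eq, ← Nat.card_prod]
    apply Nat.card_le_card_of_injective
      (fun θ : T => (K θ, (QuotientGroup.mk (⟨h θ, hh θ⟩ : H)⁻¹⁻¹ : H ⧸ Q.subgroupOf H)))
    intro θ θ' heq
    simp only [Prod.mk.injEq, inv_inv] at heq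
    obtain ⟨hK, hq⟩ := heq
    rw [QuotientGroup.eq, Subgroup.mem_subgroupOf] at hq
    apply Subtype.ext
    apply lin_injective
    rw [← h2 θ, ← h2 θ', ← hK]
    have h3 : h θ' = h θ * ((h θ)⁻¹ * h θ') := by group
    have h4 : (h θ)⁻¹ * h θ' ∈ Q := hq
    rw [h3, X.cj_mul (hh θ) (X.QH h4), X.cj_of_mem h4 (lin_irr _).isClassFunction]

theorem trivial_of_rel {θ θ' : Q →* ℂˣ} (h : X.rel θ θ')
    (h1 : ∀ x : Q, (x : G) ∈ E → θ x = 1) : ∀ x : Q, (x : G) ∈ E → θ' x = 1 := by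
  obtain ⟨h, hh, h2⟩ := h
  intro x hx
  rw [← X.lin_cl hh] at h2
  rw [← lin_injective h2, X.cl_apply]
  exact h1 _ (X.conjE' hh hx)

/-- **[X1], case (a)** -/
theorem X1a [Finite G] (T : Set (Q →* ℂˣ)) (hT : ∀ θ ∈ T, IsFree H Q θ)
    (ha : ∃ θ ∈ T, ∀ x : Q, (x : G) ∈ E → θ x = 1)
    (hb : ∃ θ ∈ T, ∃ x : Q, (x : G) ∈ E ∧ θ x ≠ 1) :
    4 * Nat.card T < v ^ 2 * (q - 2) ^ 2 := by
  classical
  let _ : Fintype H := Fintype.ofFinite _
  let _ : Fintype Q := Fintype.ofFinite _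
  let _ : Fintype E := Fintype.ofFinite _
  obtain ⟨κ, hκ, r, hrT, hinj, hex, hcard⟩ := X.exists_reps T
  have hF : Fam H Q (fun k : κ => lin (r k)) := by
    refine ⟨fun k => lin_irr _, fun k h hh h1 => X.st_of_free (hT _ (hrT k)) hh h1, ?_⟩
    intro k l hkl h hh h1
    exact hkl (hinj k l ⟨h, hh, h1⟩)
  obtain ⟨θ, hθ, h1⟩ := ha
  obtain ⟨θ', hθ', x, hx, h2⟩ := hb
  obtain ⟨i, hi⟩ := hex θ hθ
  obtain ⟨j, hj⟩ := hex θ' hθ'
  have h3 : ∀ x : Q, (x : G) ∈ E → r i x = 1 := X.trivial_of_rel (X.rel_equiv.symm hi) h1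
  have h4 : ∃ x : Q, (x : G) ∈ E ∧ r j x ≠ 1 := by
    by_contra hcon
    push Not at hcon
    exact h2 (X.trivial_of_rel hj hcon x hx)
  have h5 : 4 * Nat.card κ * (q - 1) < v * (q - 2) ^ 2 := by
    refine X.case_a hF (fun k => by simp [lin]) (i := i) (j := j) ?_ ?_
    · apply X.sumE_one
      intro x hx
      simp [lin, h3 x hx]
    · apply X.sumE_zero (lin_irr _)
      obtain ⟨x, hx, hne⟩ := h4
      refine ⟨x, hx, ?_⟩
      intro h6
      apply hne
      ext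
      simpa [lin] using h6
  have hv := X.v_pos
  calc 4 * Nat.card T ≤ 4 * (Nat.card κ * ((q - 1) * v)) := Nat.mul_le_mul_left _ hcard
    _ = (4 * Nat.card κ * (q - 1)) * v := by ring
    _ < (v * (q - 2) ^ 2) * v := Nat.mul_lt_mul_of_pos_right h5 hv
    _ = _ := by ring

/-- **[X1], case (b)** -/
theorem X1b [Finite G] (T : Set (Q →* ℂˣ)) (hT : ∀ θ ∈ T, IsFree H Q θ)
    (hE : ∀ θ ∈ T, ∀ x : Q, (x : G) ∈ E → θ x = 1)
    {χ : Q → ℂ} (hχ : IsIrrCharacter Q χ) {f : ℕ} (hf : χ 1 = f)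
    (hχE : ∃ x : Q, (x : G) ∈ E ∧ χ x ≠ χ 1)
    (hst : ∀ h ∈ H, (∀ (x : Q) (hx : h * x * h⁻¹ ∈ Q), χ ⟨h * x * h⁻¹, hx⟩ = χ x) → h ∈ Q)
    (hbig : (2 * f + 2) * ((q - 1) * v) ≤ Nat.card T) :
    4 * Nat.card T < v ^ 2 * (q - 2) ^ 2 := by
  classical
  let _ : Fintype H := Fintype.ofFinite _
  let _ : Fintype Q := Fintype.ofFinite _
  let _ : Fintype E := Fintype.ofFinite _
  obtain ⟨κ, hκ, r, hrT, hinj, hex, hcard⟩ := X.exists_reps T
  have hv := X.v_pos
  have hq4 := X.four_le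
  have hf0 : 0 < f := by
    apply Nat.pos_of_ne_zero
    intro h
    apply hχ.one_ne_zero
    rw [hf, h, Nat.cast_zero]
  have hst' : ∀ h ∈ H, cj h χ = χ → h ∈ Q := by
    intro h hh h1
    have h3 := hst h⁻¹ (H.inv_mem hh) (by
      intro x hx
      have := congrFun h1 x
      rw [X.cj_eq hh] at this
      rw [← this]
      simp only [Function.comp_apply]
      congr 1
      ext
      simp [cjEquiv])
    simpa using Q.inv_mem h3
  -- `χ` is not conjugate to a member of `T`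
  have hcross : ∀ θ : Q →* ℂˣ, θ ∈ T → ∀ h ∈ H, cj h (lin θ) ≠ χ := by
    intro θ hθ h hh h1
    obtain ⟨x, hx, hne⟩ := hχE
    apply hne
    rw [← h1, ← X.lin_cl hh]
    simp only [lin, map_one]
    congr 1
    rw [X.cl_apply]
    exact hE θ hθ _ (X.conjE' hh hx)
  have hF : Fam H Q (fun k : Option κ => k.elim χ (fun k => lin (r k))) := by
    refine ⟨?_, ?_, ?_⟩
    · rintro (_ | k)
      · exact hχ
      · exact lin_irr _
    · rintro (_ | k) h hh h1
      · exact hst' h hh h1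
      · exact X.st_of_free (hT _ (hrT k)) hh h1
    · rintro (_ | k) (_ | l) hkl h hh h1
      · exact hkl rfl
      · refine hcross _ (hrT l) h⁻¹ (H.inv_mem hh) ?_
        change cj h χ = lin (r l) at h1
        rw [← h1, ← X.cj_mul (H.inv_mem hh) hh, inv_mul_cancel, X.cj_one]
      · exact hcross _ (hrT k) h hh h1
      · exact hkl (congrArg some (hinj k l ⟨h, hh, h1⟩))
  have hbig' : 2 * f + 2 ≤ Nat.card κ := by
    have h1 := hbig.trans hcard
    have hpos : 0 < (q - 1) * v := by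
      apply Nat.mul_pos
      · omega
      · exact hv
    exact Nat.le_of_mul_le_mul_right h1 hpos
  have h5 : 4 * Nat.card κ * (q - 1) < v * (q - 2) ^ 2 := by
    refine X.case_b hF (fun k => by simp [lin]) hf0 hf ?_ ?_ hbig'
    · intro k
      apply X.sumE_one
      intro x hx
      simp [lin, hE _ (hrT k) x hx]
    · exact X.sumE_zero hχ hχE
  calc 4 * Nat.card T ≤ 4 * (Nat.card κ * ((q - 1) * v)) := Nat.mul_le_mul_left _ hcard
    _ = (4 * Nat.card κ * (q - 1)) * v := by ring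
    _ < (v * (q - 2) ^ 2) * v := Nat.mul_lt_mul_of_pos_right h5 hv
    _ = _ := by ring

end XHyp

end Cfsg.Agent.Lib.SuzX
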