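import Mathlib

set_option autoImplicit false

/-!
# Frobenius groups acting on abelian groups (helper69)

`D = K ⋊ ⟨v⟩` with `K = ⟨k₀⟩` cyclic, `v ^ p = 1`, `p` prime, `C_K(v) = 1`, acts on a finite
abelian group `A` (no coprimality hypothesis) such that `K` acts fixed point freely.  Let
`x = |C_A(v)|`.  Then `x ^ p ≤ |A|`, `1 < x` if `A ≠ 1`, and `A` has at least
`|A| - 1 - |K| (x - 1)` elements with trivial stabiliser in `D`.
-/

namespace Cfsg.Agent.Lib.SuzX

open Subgroup Polynomial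

universe u v

section vander

variable {R : Type*} [CommRing R] {A : Type*} [AddCommGroup A] (ρ : R →+* AddMonoid.End A) {n : ℕ}

theorem eq_zero_of_mat {M : Matrix (Fin n) (Fin n) R} (hdet : Function.Injective (ρ M.det))
    {w : Fin n → A} (h : ∀ i, ∑ j, ρ (M i j) (w j) = 0) : ∀ j, w j = 0 := by
  classical
  intro k
  apply hdet
  rw [map_zero]
  have h1 : ∑ i, ρ (M.adjugate k i) (∑ j, ρ (M i j) (w j)) = 0 := by simp [h]
  rw [← h1]
  simp only [map_sum]
  rw [Finset.sum_comm]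
  have h2 : ∀ j, ∑ i, ρ (M.adjugate k i) (ρ (M i j) (w j)) = ρ ((M.adjugate * M) k j) (w j) := by
    intro j
    have h3 : (ρ ((M.adjugate * M) k j)) (w j) = ∑ i, ρ (M.adjugate k i * M i j) (w j) := by
      rw [Matrix.mul_apply, map_sum]
      exact AddMonoidHom.finsetSum_apply _ _ _
    rw [h3]
    refine Finset.sum_congr rfl fun i _ => ?_
    rw [map_mul]
    rfl
  simp only [h2, Matrix.adjugate_mul]
  rw [Finset.sum_eq_single k]
  · simp
  · intro j _ hj
    simp [Ne.symm hj]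
  · simp

variable (f : AddMonoid.End A) (e : Fin n → ℕ)

/-- evaluation of integral polynomials at an endomorphism -/
noncomputable def ev : ℤ[X] →+* AddMonoid.End A := (Polynomial.aeval f).toRingHom

theorem ev_X : ev f X = f := by
  unfold ev
  exact Polynomial.aeval_X f

theorem inj_det (h : ∀ i j : Fin n, i < j → Function.Injective (f ^ e j - f ^ e i : AddMonoid.End A)) :
    Function.Injective (ev f (Matrix.vandermonde (fun i => (X ^ e i : ℤ[X]))).det) := by
  have key : ∀ (s : Finset (Fin n)) (g : Fin n → ℤ[X]), (∀ i ∈ s, Function.Injective (ev f (g i))) →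
      Function.Injective (ev f (∏ i ∈ s, g i)) := by
    classical
    intro s g
    induction s using Finset.induction_on with
    | empty => intro _; rw [Finset.prod_empty, map_one]; exact fun _ _ h => h
    | insert a s ha ih =>
      intro h1
      rw [Finset.prod_insert ha, map_mul]
      exact (h1 a (Finset.mem_insert_self _ _)).comp (ih fun i hi => h1 i (Finset.mem_insert_of_mem hi))
  rw [Matrix.det_vandermonde]
  refine key _ _ fun i _ => key _ _ fun j hj => ?_
  rw [map_sub, map_pow, map_pow, ev_X]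
  exact h i j (Finset.mem_Ioi.1 hj)

end vander

/-- the hypotheses -/
structure FA {D : Type u} [Group D] {A : Type v} [CommGroup A] (k₀ v : D) (p : ℕ)
    (φ : D →* MulAut A) : Prop where
  prime : p.Prime
  v_pow : v ^ p = 1
  conj_mem : v * k₀ * v⁻¹ ∈ zpowers k₀
  cent : ∀ k ∈ zpowers k₀, v * k = k * v → k = 1
  k₀_ne : k₀ ≠ 1
  decomp : ∀ d : D, ∃ k ∈ zpowers k₀, ∃ i : ℕ, d = k * v ^ i
  fpf : ∀ k ∈ zpowers k₀, k ≠ 1 → ∀ a, φ k a = a → a = 1

namespace FA

variable {D : Type u} [Group D] [Finite D] {A : Type v} [CommGroup A] {k₀ v : D} {p : ℕ}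
  {φ : D →* MulAut A} (X : FA k₀ v p φ)

include X

theorem exists_m : ∃ m : ℕ, v * k₀ * v⁻¹ = k₀ ^ m := by
  obtain ⟨m, hm⟩ := (mem_powers_iff_mem_zpowers (x := k₀)).2 X.conj_mem
  exact ⟨m, hm.symm⟩

omit [Finite D] [CommGroup A] X in
theorem conj_pow_eq {m : ℕ} (hm : v * k₀ * v⁻¹ = k₀ ^ m) (i : ℕ) :
    v ^ i * k₀ * (v ^ i)⁻¹ = k₀ ^ m ^ i := by
  induction i with
  | zero => simp
  | succ i ih =>
    calc v ^ (i + 1) * k₀ * (v ^ (i + 1))⁻¹ = v ^ i * (v * k₀ * v⁻¹) * (v ^ i)⁻¹ := by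
          rw [pow_succ]; group
      _ = (v ^ i * k₀ * (v ^ i)⁻¹) ^ m := by rw [hm, conj_pow]
      _ = _ := by rw [ih, ← pow_mul, pow_succ]

theorem conj_mem' {k : D} (hk : k ∈ zpowers k₀) (i : ℕ) : v ^ i * k * (v ^ i)⁻¹ ∈ zpowers k₀ := by
  obtain ⟨m, hm⟩ := X.exists_m
  obtain ⟨j, rfl⟩ := Subgroup.mem_zpowers_iff.1 hk
  rw [← conj_zpow, conj_pow_eq hm]
  exact zpow_mem (pow_mem (mem_zpowers k₀) _) _

omit [Finite D] in
/-- powers of `v` that commute with an element of `K` -/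
theorem cent_pow {k : D} (hk : k ∈ zpowers k₀) (hk1 : k ≠ 1) {i : ℕ} (h : v ^ i * k = k * v ^ i) :
    v ^ i = 1 := by
  by_contra hne
  apply hk1
  apply X.cent k hk
  -- `v` is a power of `v ^ i`
  have hord : orderOf v = p := by
    refine orderOf_eq_prime (hp := ⟨X.prime⟩) X.v_pow ?_
    rintro rfl
    exact hne (one_pow i)
  have hcop : i.Coprime (orderOf v) := by
    rw [hord]
    refine (Nat.Coprime.symm ((Nat.Prime.coprime_iff_not_dvd X.prime).2 ?_))
    rintro ⟨c, rfl⟩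
    exact hne (by rw [pow_mul, X.v_pow, one_pow])
  obtain ⟨c, hc⟩ := exists_pow_eq_self_of_coprime hcop
  have h1 : Commute (v ^ i) k := h
  have h2 := h1.pow_left c
  rw [hc] at h2
  exact h2

omit [Finite D] in
theorem fix_v_of_pow {i : ℕ} (hi : v ^ i ≠ 1) {a : A} (h : φ (v ^ i) a = a) : φ v a = a := by
  have hord : orderOf v = p := by
    refine orderOf_eq_prime (hp := ⟨X.prime⟩) X.v_pow ?_
    rintro rfl
    exact hi (one_pow i)
  have hcop : i.Coprime (orderOf v) := by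
    rw [hord]
    refine (Nat.Coprime.symm ((Nat.Prime.coprime_iff_not_dvd X.prime).2 ?_))
    rintro ⟨c, rfl⟩
    exact hi (by rw [pow_mul, X.v_pow, one_pow])
  obtain ⟨c, hc⟩ := exists_pow_eq_self_of_coprime hcop
  have h1 : ∀ c : ℕ, φ ((v ^ i) ^ c) a = a := by
    intro c
    induction c with
    | zero => simp
    | succ c ih => rw [pow_succ, map_mul, MulAut.mul_apply, h, ih]
  have h2 := h1 c
  rwa [hc] at h2

omit [Finite D] in
theorem v_ne : v ≠ 1 := by
  rintro rfl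
  exact X.k₀_ne (X.cent k₀ (mem_zpowers k₀) (by group))

omit [Finite D] in
theorem ord_v : orderOf v = p := orderOf_eq_prime (hp := ⟨X.prime⟩) X.v_pow X.v_ne

omit X [Finite D] in
/-- the fixed points of `v` -/
def C (_ : FA k₀ v p φ) : Subgroup A where
  carrier := {a | φ v a = a}
  one_mem' := map_one _
  mul_mem' {a b} ha hb := by
    show φ v (a * b) = a * b
    rw [map_mul, show φ v a = a from ha, show φ v b = b from hb]
  inv_mem' {a} ha := by
    show φ v a⁻¹ = a⁻¹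
    rw [map_inv, show φ v a = a from ha]

omit [Finite D] in
theorem mem_C {a : A} : a ∈ X.C ↔ φ v a = a := Iff.rfl

omit [Finite D] in
theorem fix_pow {a : A} (h : φ v a = a) (i : ℕ) : φ (v ^ i) a = a := by
  induction i with
  | zero => simp
  | succ i ih => rw [pow_succ, map_mul, MulAut.mul_apply, h, ih]

/-- the action of `k₀` -/
def F (_ : FA k₀ v p φ) : AddMonoid.End (Additive A) := MonoidHom.toAdditive (φ k₀).toMonoidHom

omit [Finite D] in
theorem F_pow (n : ℕ) (a : A) : (X.F ^ n) (Additive.ofMul a) = Additive.ofMul (φ (k₀ ^ n) a) := by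
  induction n generalizing a with
  | zero => simp
  | succ n ih =>
    rw [pow_succ, pow_succ, map_mul, MulAut.mul_apply, ← ih]
    rfl

theorem inj_det {m : ℕ} (hm : v * k₀ * v⁻¹ = k₀ ^ m) :
    Function.Injective (ev X.F (Matrix.vandermonde (fun i : Fin p => (Polynomial.X ^ m ^ (i : ℕ) : ℤ[X]))).det) := by
  apply SuzX.inj_det X.F (fun i : Fin p => m ^ (i : ℕ))
  intro i j hij
  rw [injective_iff_map_eq_zero]
  intro a ha
  have h1 : (X.F ^ m ^ (j : ℕ)) a - (X.F ^ m ^ (i : ℕ)) a = 0 := ha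
  rw [sub_eq_zero] at h1
  set b : A := Additive.toMul a with hb
  have h1' : (X.F ^ m ^ (j : ℕ)) (Additive.ofMul b) = (X.F ^ m ^ (i : ℕ)) (Additive.ofMul b) := h1
  rw [X.F_pow, X.F_pow] at h1'
  have h2 : φ (k₀ ^ m ^ (j : ℕ)) b = φ (k₀ ^ m ^ (i : ℕ)) b := h1'
  have h3 : φ ((k₀ ^ m ^ (i : ℕ))⁻¹ * k₀ ^ m ^ (j : ℕ)) b = b := by
    rw [map_mul, MulAut.mul_apply, h2, map_inv, MulAut.inv_apply_self]
  have h4 : (k₀ ^ m ^ (i : ℕ))⁻¹ * k₀ ^ m ^ (j : ℕ) ≠ 1 := by
    intro h
    rw [inv_mul_eq_one, ← conj_pow_eq hm, ← conj_pow_eq hm] at h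
    obtain ⟨l, hl⟩ := Nat.exists_eq_add_of_lt hij
    have h5 : v ^ (l + 1) * k₀ = k₀ * v ^ (l + 1) := by
      have e : v ^ (j : ℕ) = v ^ (i : ℕ) * v ^ (l + 1) := by rw [← pow_add, hl, add_assoc]
      rw [e] at h
      have h6 : k₀ = v ^ (l + 1) * k₀ * (v ^ (l + 1))⁻¹ := by
        calc k₀ = (v ^ (i : ℕ))⁻¹ * (v ^ (i : ℕ) * k₀ * (v ^ (i : ℕ))⁻¹) * v ^ (i : ℕ) := by group
          _ = _ := by rw [h]; group
      nth_rw 2 [h6]
      group
    have h6 := X.cent_pow (mem_zpowers k₀) X.k₀_ne h5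
    have h7 := orderOf_dvd_of_pow_eq_one h6
    rw [X.ord_v] at h7
    have h8 := Nat.le_of_dvd (Nat.succ_pos _) h7
    have := j.2
    omega
  have h5 := X.fpf _ (mul_mem (inv_mem (pow_mem (mem_zpowers _) _)) (pow_mem (mem_zpowers _) _)) h4 b h3
  exact h5

theorem conj_k₀_pow {m : ℕ} (hm : v * k₀ * v⁻¹ = k₀ ^ m) (i j : ℕ) :
    v ^ i * k₀ ^ j = k₀ ^ (m ^ i * j) * v ^ i := by
  rw [pow_mul, ← conj_pow_eq hm, conj_pow]
  group

/-- **`|C_A(v)| ^ p ≤ |A|`** -/
theorem card_C_pow_le [Finite A] : Nat.card X.C ^ p ≤ Nat.card A := by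
  classical
  obtain ⟨m, hm⟩ := X.exists_m
  have h1 : Nat.card X.C ^ p = Nat.card (Fin p → X.C) := by
    rw [Nat.card_fun]
    simp
  rw [h1]
  let Ψ : (Fin p → X.C) →* A :=
    { toFun := fun c => ∏ j : Fin p, φ (k₀ ^ (j : ℕ)) (c j)
      map_one' := by simp
      map_mul' := by
        intro c c'
        simp [Finset.prod_mul_distrib] }
  apply Nat.card_le_card_of_injective Ψ
  rw [injective_iff_map_eq_one]
  intro c hc
  have h2 : ∀ i : Fin p, ∑ j, ev X.F (Matrix.vandermonde (fun i : Fin p => (Polynomial.X ^ m ^ (i : ℕ) : ℤ[X])) i j)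
      (Additive.ofMul (c j : A)) = 0 := by
    intro i
    have h3 : φ (v ^ (i : ℕ)) (Ψ c) = 1 := by rw [hc, map_one]
    have h4 : φ (v ^ (i : ℕ)) (Ψ c) = ∏ j : Fin p, φ (k₀ ^ (m ^ (i : ℕ) * (j : ℕ))) (c j) := by
      show φ (v ^ (i : ℕ)) (∏ j : Fin p, φ (k₀ ^ (j : ℕ)) (c j)) = _
      rw [map_prod]
      refine Finset.prod_congr rfl fun j _ => ?_
      rw [← MulAut.mul_apply, ← map_mul, X.conj_k₀_pow hm, map_mul, MulAut.mul_apply,
        X.fix_pow (c j).2]
    rw [h4] at h3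
    have h5 : ∀ j : Fin p, ev X.F (Matrix.vandermonde (fun i : Fin p => (Polynomial.X ^ m ^ (i : ℕ) : ℤ[X])) i j)
      (Additive.ofMul (c j : A)) = Additive.ofMul (φ (k₀ ^ (m ^ (i : ℕ) * (j : ℕ))) (c j)) := by
      intro j
      rw [Matrix.vandermonde_apply, ← pow_mul, map_pow, ev_X, X.F_pow]
    simp only [h5]
    rw [← ofMul_prod, h3]
    rfl
  have h3 := eq_zero_of_mat (ev X.F) (X.inj_det hm) h2
  funext j
  exact Subtype.ext (h3 j)

/-- **`C_A(v) ≠ 1`** -/
theorem one_lt_card_C [Finite A] [Nontrivial A] : 1 < Nat.card X.C := by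
  classical
  by_contra hcon
  obtain ⟨m, hm⟩ := X.exists_m
  have hC : ∀ a : A, φ v a = a → a = 1 := by
    intro a ha
    have h1 : Nat.card X.C = 1 := by
      have : 0 < Nat.card X.C := Nat.card_pos
      omega
    have h2 := (Nat.card_eq_one_iff_unique.1 h1).1.elim ⟨a, X.mem_C.2 ha⟩ 1
    exact congrArg Subtype.val h2
  obtain ⟨a, ha⟩ := exists_ne (1 : A)
  have hp0 : 0 < p := X.prime.pos
  have hN : ∀ b : A, ∏ i : Fin p, φ (v ^ (i : ℕ)) b = 1 := by
    intro b
    apply hC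
    rw [map_prod]
    have h1 : ∀ i : Fin p, φ v (φ (v ^ (i : ℕ)) b) = φ (v ^ ((i : ℕ) + 1)) b := by
      intro i
      rw [pow_succ', map_mul, MulAut.mul_apply]
    simp only [h1]
    rw [Fin.prod_univ_eq_prod_range (fun i => φ (v ^ (i + 1)) b) p,
      Fin.prod_univ_eq_prod_range (fun i => φ (v ^ i) b) p]
    obtain ⟨n, rfl⟩ : ∃ n, p = n + 1 := ⟨p - 1, by omega⟩
    rw [Finset.prod_range_succ, Finset.prod_range_succ' (fun i => φ (v ^ i) b), X.v_pow, pow_zero]
  let M := Matrix.vandermonde (fun i : Fin p => (Polynomial.X ^ m ^ (i : ℕ) : ℤ[X]))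
  have h2 : ∀ j : Fin p, ∑ i, ev X.F (M.transpose j i) (Additive.ofMul (φ (v ^ (i : ℕ)) a)) = 0 := by
    intro j
    have h5 : ∀ i : Fin p, ev X.F (M.transpose j i) (Additive.ofMul (φ (v ^ (i : ℕ)) a)) =
        Additive.ofMul (φ (v ^ (i : ℕ)) (φ (k₀ ^ (j : ℕ)) a)) := by
      intro i
      rw [Matrix.transpose_apply]
      show ev X.F (Matrix.vandermonde (fun i : Fin p => (Polynomial.X ^ m ^ (i : ℕ) : ℤ[X])) i j)
        (Additive.ofMul (φ (v ^ (i : ℕ)) a)) = _
      rw [Matrix.vandermonde_apply, ← pow_mul, map_pow, ev_X, X.F_pow,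
        ← MulAut.mul_apply, ← map_mul, ← X.conj_k₀_pow hm, map_mul, MulAut.mul_apply]
    simp only [h5]
    rw [← ofMul_prod, hN]
    rfl
  have hdet : Function.Injective (ev X.F M.transpose.det) := by
    rw [Matrix.det_transpose]
    exact X.inj_det hm
  have h3 := eq_zero_of_mat (ev X.F) hdet h2 ⟨0, hp0⟩
  apply ha
  have h4 : φ (v ^ 0) a = 1 := h3
  simpa using h4

/-- **regular elements** -/
theorem card_le [Finite A] : Nat.card A ≤
    1 + Nat.card (zpowers k₀) * (Nat.card X.C - 1) + Nat.card {a : A // ∀ d, φ d a = a → d = 1} := by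
  classical
  have h1 : Nat.card A = Nat.card {a : A // ∀ d, φ d a = a → d = 1} +
      Nat.card {a : A // ¬ ∀ d, φ d a = a → d = 1} := by
    rw [← Nat.card_sum]
    exact Nat.card_congr (Equiv.sumCompl _).symm
  have key : ∀ a : A, (¬ ∀ d, φ d a = a → d = 1) → ∃ c ∈ zpowers k₀, φ v (φ c a) = φ c a := by
    intro a ha
    push Not at ha
    obtain ⟨d, hd, hd1⟩ := ha
    obtain ⟨k, hk, i, rfl⟩ := X.decomp d
    by_cases hi : v ^ i = 1
    · rw [hi, mul_one] at hd hd1
      have h2 := X.fpf k hk hd1 a hd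
      exact ⟨1, one_mem _, by rw [h2, map_one, map_one]⟩
    · -- `c⁻¹ v ^ i c = k v ^ i`
      let f : zpowers k₀ → zpowers k₀ := fun c =>
        c⁻¹ * ⟨v ^ i * c * (v ^ i)⁻¹, X.conj_mem' c.2 i⟩
      have hinj : Function.Injective f := by
        intro c c' h
        have h3 : (c : D)⁻¹ * (v ^ i * c * (v ^ i)⁻¹) = (c' : D)⁻¹ * (v ^ i * c' * (v ^ i)⁻¹) :=
          congrArg Subtype.val h
        by_contra hne
        apply hi
        refine X.cent_pow (k := c * (c' : D)⁻¹) (mul_mem c.2 (inv_mem c'.2)) ?_ ?_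
        · intro h4
          exact hne (Subtype.ext (mul_inv_eq_one.1 h4))
        · have h6 : v ^ i * c * (v ^ i)⁻¹ = (c : D) * (c' : D)⁻¹ * (v ^ i * c' * (v ^ i)⁻¹) := by
            calc v ^ i * c * (v ^ i)⁻¹ = c * ((c : D)⁻¹ * (v ^ i * c * (v ^ i)⁻¹)) := by group
              _ = c * ((c' : D)⁻¹ * (v ^ i * c' * (v ^ i)⁻¹)) := by rw [h3]
              _ = _ := by group
          calc v ^ i * (c * (c' : D)⁻¹) = (v ^ i * c * (v ^ i)⁻¹) * (v ^ i * c' * (v ^ i)⁻¹)⁻¹ * v ^ i := by group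
            _ = _ := by rw [h6]; group
      obtain ⟨c, hc⟩ := Finite.surjective_of_injective hinj ⟨k, hk⟩
      have h3 : (c : D)⁻¹ * (v ^ i * c * (v ^ i)⁻¹) = k := congrArg Subtype.val hc
      refine ⟨c, c.2, ?_⟩
      apply X.fix_v_of_pow hi
      rw [← MulAut.mul_apply, ← map_mul]
      have h4 : v ^ i * c = c * (k * v ^ i) := by rw [← h3]; group
      rw [h4, map_mul, MulAut.mul_apply, hd]
  have h2 : Nat.card {a : A // ¬ ∀ d, φ d a = a → d = 1} ≤ 1 + Nat.card (zpowers k₀) * (Nat.card X.C - 1) := by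
    have h3 : Nat.card {c : X.C // c ≠ 1} = Nat.card X.C - 1 := by
      let _ : Fintype X.C := Fintype.ofFinite X.C
      rw [Nat.card_eq_fintype_card, Nat.card_eq_fintype_card, Fintype.card_subtype_compl, Fintype.card_subtype_eq]
    rw [← h3, ← Nat.card_prod, add_comm, ← Finite.card_option]
    choose! c hc hcv using key
    let f : {a : A // ¬ ∀ d, φ d a = a → d = 1} → Option (zpowers k₀ × {c : X.C // c ≠ 1}) := fun a =>
      if h : (a : A) = 1 then none else
        some (⟨c a, hc a a.2⟩, ⟨⟨φ (c a) a, X.mem_C.2 (hcv a a.2)⟩, fun h' => h (by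
          have h4 : φ (c a) (a : A) = 1 := congrArg Subtype.val h'
          rwa [MulEquiv.map_eq_one_iff] at h4)⟩)
    apply Nat.card_le_card_of_injective f
    intro a b hab
    by_cases ha : (a : A) = 1
    · by_cases hb : (b : A) = 1
      · exact Subtype.ext (ha.trans hb.symm)
      · simp [f, ha, hb] at hab
    · by_cases hb : (b : A) = 1
      · simp [f, ha, hb] at hab
      · simp only [f, ha, hb, dite_false, Option.some.injEq, Prod.mk.injEq, Subtype.mk.injEq] at hab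
        obtain ⟨h4, h5⟩ := hab
        rw [← h4] at h5
        exact Subtype.ext ((φ (c a)).injective h5)
  rw [h1, add_comm]
  exact Nat.add_le_add_right h2 _

/-- the regular elements form regular orbits -/
theorem card_D_le [Finite A] {a : A} (ha : ∀ d, φ d a = a → d = 1) :
    Nat.card D ≤ Nat.card {a : A // ∀ d, φ d a = a → d = 1} := by
  apply Nat.card_le_card_of_injective (fun d : D => (⟨φ d a, by
    intro e he
    have h1 : φ (d⁻¹ * e * d) a = a := by
      rw [map_mul, map_mul, MulAut.mul_apply, MulAut.mul_apply, he, ← MulAut.mul_apply, ← map_mul,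
        inv_mul_cancel, map_one, MulAut.one_apply]
    have h2 := ha _ h1
    calc e = d * (d⁻¹ * e * d) * d⁻¹ := by group
      _ = 1 := by rw [h2]; group⟩ : {a : A // ∀ d, φ d a = a → d = 1}))
  intro d d' h
  have h1 : φ d a = φ d' a := congrArg Subtype.val h
  have h2 : φ (d⁻¹ * d') a = a := by
    rw [map_mul, MulAut.mul_apply, ← h1, ← MulAut.mul_apply, ← map_mul, inv_mul_cancel, map_one,
      MulAut.one_apply]
  exact inv_mul_eq_one.1 (ha _ h2)

end FA

end Cfsg.Agent.Lib.SuzX
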