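import Mathlib

set_option autoImplicit false

/-!
# Numerics for Suzuki's theorem (helper69)
-/

namespace Cfsg.Agent.Lib.SuzX

theorem num_sq (p : ℕ) : p ^ 2 ≤ 4 * 2 ^ p := by
  have key : ∀ k : ℕ, (k + 3) ^ 2 ≤ 4 * 2 ^ (k + 3) := by
    intro k
    induction k with
    | zero => norm_num
    | succ k ih =>
      have e : 4 * 2 ^ (k + 1 + 3) = 2 * (4 * 2 ^ (k + 3)) := by ring
      rw [e]
      have h1 : (k + 1 + 3) ^ 2 + (k ^ 2 + 4 * k + 2) = 2 * (k + 3) ^ 2 := by ring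
      omega
  rcases Nat.lt_or_ge p 3 with h | h
  · interval_cases p <;> norm_num
  · obtain ⟨k, rfl⟩ := Nat.exists_eq_add_of_le' h
    exact key k

theorem num_abel {p j x N : ℕ} (hp : 2 ≤ 2 ^ p) (hj : 3 ≤ j) (hx : x ≤ 2 ^ j)
    (h : (2 ^ p) ^ j ≤ 1 + (2 ^ p - 1) * (x - 1) + N) : p ^ 2 * (2 ^ p - 2) ^ 2 ≤ 4 * N := by
  have hq4 := num_sq p
  generalize 2 ^ p = q at *
  obtain ⟨r, rfl⟩ : ∃ r, q = r + 2 := ⟨q - 2, by omega⟩
  have e1 : r + 2 - 1 = r + 1 := by omega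
  have e2 : r + 2 - 2 = r := by omega
  rw [e1] at h
  rw [e2]
  have hx' : (r + 1) * (x - 1) ≤ (r + 1) * (2 ^ j - 1) := Nat.mul_le_mul_left _ (by omega)
  have key : ∀ j, 3 ≤ j → (r + 1) * (2 ^ j - 1) + 1 + (r + 1) * r * (r + 5) ≤ (r + 2) ^ j := by
    intro j hj
    induction j, hj using Nat.le_induction with
    | base =>
      have : (2 : ℕ) ^ 3 - 1 = 7 := by norm_num
      rw [this]
      apply le_of_eq
      ring
    | succ j _ ih =>
      obtain ⟨y, hy⟩ : ∃ y, 2 ^ j = y + 1 := ⟨2 ^ j - 1, by have := Nat.one_le_two_pow (n := j); omega⟩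
      have e3 : 2 ^ (j + 1) - 1 = 2 * y + 1 := by rw [pow_succ, hy]; omega
      rw [e3, pow_succ]
      rw [hy] at ih
      have e4 : y + 1 - 1 = y := by omega
      rw [e4] at ih
      have h5 := Nat.mul_le_mul_right (r + 2) ih
      nlinarith [Nat.zero_le ((r + 1) * y * r), Nat.zero_le ((r + 1) * r * (r + 5) * (r + 1))]
  have h1 := key j hj
  have h2 : (r + 1) * r * (r + 5) ≤ N := by omega
  have h3 : p ^ 2 * r ^ 2 ≤ 4 * (r + 2) * r ^ 2 := Nat.mul_le_mul_right _ hq4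
  nlinarith

theorem num_three {y p : ℕ} (hp : 2 ≤ p) : 3 ^ p + 2 ^ p * y ≤ (3 + y) ^ p := by
  induction p, hp using Nat.le_induction with
  | base => nlinarith
  | succ p _ ih =>
    rw [pow_succ (3 + y)]
    have h1 := Nat.mul_le_mul_right (3 + y) ih
    have e : 3 ^ (p + 1) + 2 ^ (p + 1) * y = 3 ^ p * 3 + 2 ^ p * 2 * y := by ring
    rw [e]
    have h2 : 0 ≤ 2 ^ p * y * y := Nat.zero_le _
    have h3 : 0 ≤ 3 ^ p * y := Nat.zero_le _
    nlinarith [Nat.zero_le (2 ^ p * y)]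

theorem num_big (k : ℕ) : ((k + 6) ^ 2 + 8) * 2 ^ (k + 6) ≤ 4 * 3 ^ (k + 6) := by
  induction k with
  | zero => norm_num
  | succ k ih =>
    have e1 : 2 ^ (k + 1 + 6) = 2 * 2 ^ (k + 6) := by ring
    have e2 : 3 ^ (k + 1 + 6) = 3 * 3 ^ (k + 6) := by ring
    rw [e1, e2]
    have h1 : 2 * ((k + 1 + 6) ^ 2 + 8) ≤ 3 * ((k + 6) ^ 2 + 8) := by
      nlinarith [Nat.zero_le (k ^ 2)]
    have h2 := Nat.mul_le_mul_right (2 ^ (k + 6)) h1
    nlinarith

theorem num_odd {p x N : ℕ} (hp : p.Prime) (hp2 : p ≠ 2) (hx : 3 ≤ x)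
    (h : x ^ p ≤ 1 + (2 ^ p - 1) * (x - 1) + N) : 0 < N ∧ p ^ 2 * (2 ^ p - 2) ^ 2 ≤ 4 * (2 ^ p * N) := by
  obtain ⟨y, rfl⟩ := Nat.exists_eq_add_of_le hx
  have hp' := hp.two_le
  have h1 := num_three (y := y) hp'
  have h2 : 3 ^ p ≤ 1 + (2 ^ p - 1) * 2 + N := by
    have e : 3 + y - 1 = 2 + y := by omega
    rw [e, mul_add] at h
    have h3 : (2 ^ p - 1) * y ≤ 2 ^ p * y := Nat.mul_le_mul_right _ (Nat.sub_le _ _)
    omega
  have h4 : 1 ≤ 2 ^ p := Nat.one_le_two_pow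
  have h5 : 3 ^ p + 1 ≤ 2 * 2 ^ p + N := by omega
  rcases Nat.lt_or_ge p 6 with h6 | h6
  · interval_cases p
    · exact absurd rfl hp2
    · norm_num at h5 ⊢
      constructor <;> omega
    · exact absurd hp (by norm_num)
    · norm_num at h5 ⊢
      constructor <;> omega
  · obtain ⟨k, rfl⟩ := Nat.exists_eq_add_of_le' h6
    have h7 := num_big k
    set q := 2 ^ (k + 6) with hq
    have h8 : (k + 6) ^ 2 * q ≤ 4 * N := by nlinarith
    constructor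
    · by_contra h0
      have : N = 0 := by omega
      rw [this] at h8
      have : 0 < (k + 6) ^ 2 * q := by positivity
      omega
    · calc (k + 6) ^ 2 * (q - 2) ^ 2 ≤ (k + 6) ^ 2 * q ^ 2 :=
            Nat.mul_le_mul_left _ (Nat.pow_le_pow_left (Nat.sub_le _ _) 2)
        _ = q * ((k + 6) ^ 2 * q) := by ring
        _ ≤ q * (4 * N) := Nat.mul_le_mul_left _ h8
        _ = _ := by ring

theorem num_f {f y : ℕ} (h : f ^ 2 ≤ y) (hy : 8 ≤ y) : 2 * f + 2 ≤ y := by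
  rcases Nat.lt_or_ge f 4 with h1 | h1
  · interval_cases f <;> omega
  · nlinarith

end Cfsg.Agent.Lib.SuzX
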