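import Cfsg.Agent.Lib.SuzX5
import Cfsg.Agent.Lib.SuzX6
import Cfsg.Agent.Lib.SuzX7
import Mathlib.GroupTheory.FiniteAbelian.Duality

set_option autoImplicit false

/-!
# Linear characters trivial on a subgroup, and the action on them (helper69)
-/

namespace Cfsg.Agent.Lib.SuzX

open Subgroup
open scoped ComplexConjugate
open CharBasic IndFun

universe u v

variable {G : Type u} [Group G]

/-- linear characters of `Q` trivial on `M` -/
def Ann (Q M : Subgroup G) : Subgroup (Q →* ℂˣ) where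
  carrier := {θ | ∀ x : Q, (x : G) ∈ M → θ x = 1}
  one_mem' := fun _ _ => rfl
  mul_mem' {θ θ'} h h' := fun x hx => by
    show θ x * θ' x = 1
    rw [h x hx, h' x hx, one_mul]
  inv_mem' {θ} h := fun x hx => by
    show (θ x)⁻¹ = 1
    rw [h x hx, inv_one]

theorem mem_Ann {Q M : Subgroup G} {θ : Q →* ℂˣ} : θ ∈ Ann Q M ↔ ∀ x : Q, (x : G) ∈ M → θ x = 1 :=
  Iff.rfl

theorem finite_hom [Finite G] : Finite (G →* ℂˣ) := by
  apply Finite.of_injective (fun θ : G →* ℂˣ => (⟨fun g => (θ g : ℂ),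
    (BrauerInd.isCharacter_hom θ).isIrr_of_one_eq_one (by simp)⟩ : IrrCharacter G))
  intro θ θ' h
  ext x
  exact congrFun (congrArg Subtype.val h) x

theorem finite_Ann [Finite G] (Q M : Subgroup G) : Finite (Ann Q M) :=
  have := finite_lin Q
  Subtype.finite

/-- **the number of linear characters trivial on `M`** -/
theorem card_Ann [Finite G] {Q M : Subgroup G} (hMQ : M ≤ Q)
    (hc : ∀ x ∈ Q, ∀ y ∈ Q, x * y * x⁻¹ * y⁻¹ ∈ M) : Nat.card (Ann Q M) * Nat.card M = Nat.card Q := by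
  classical
  let M' : Subgroup Q := M.subgroupOf Q
  have hn : M'.Normal := by
    constructor
    intro m hm g
    rw [Subgroup.mem_subgroupOf] at hm ⊢
    have h1 := hc g g.2 m m.2
    have h2 : ((g * m * g⁻¹ : Q) : G) = ((g : G) * m * (g : G)⁻¹ * (m : G)⁻¹) * m := by
      push_cast; group
    rw [h2]
    exact M.mul_mem h1 hm
  let _ : CommGroup (Q ⧸ M') :=
    { (inferInstance : Group (Q ⧸ M')) with
      mul_comm := by
        intro a b
        obtain ⟨x, rfl⟩ := QuotientGroup.mk_surjective a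
        obtain ⟨y, rfl⟩ := QuotientGroup.mk_surjective b
        rw [← QuotientGroup.mk_mul, ← QuotientGroup.mk_mul, QuotientGroup.eq, Subgroup.mem_subgroupOf]
        have h1 := hc (y⁻¹ : Q) (y⁻¹ : Q).2 (x⁻¹ : Q) (x⁻¹ : Q).2
        have h2 : (((x * y)⁻¹ * (y * x) : Q) : G) =
          ((y⁻¹ : Q) : G) * ((x⁻¹ : Q) : G) * ((y⁻¹ : Q) : G)⁻¹ * ((x⁻¹ : Q) : G)⁻¹ := by
          push_cast; group
        rw [h2]
        exact h1 }
  have h1 : Nat.card ((Q ⧸ M') →* ℂˣ) = Nat.card (Q ⧸ M') :=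
    CommGroup.card_monoidHom_of_hasEnoughRootsOfUnity (Q ⧸ M') ℂ
  have h2 : Nat.card (Ann Q M) = Nat.card ((Q ⧸ M') →* ℂˣ) := by
    symm
    refine Nat.card_congr (Equiv.ofBijective (fun θ => (⟨θ.comp (QuotientGroup.mk' M'), by
      intro x hx
      have : (QuotientGroup.mk' M') x = 1 := by
        rw [QuotientGroup.mk'_apply, QuotientGroup.eq_one_iff]
        exact hx
      rw [MonoidHom.comp_apply, this, map_one]⟩ : Ann Q M)) ⟨?_, ?_⟩)
    · intro θ θ' h
      ext a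
      exact congrArg Units.val (DFunLike.congr_fun (congrArg Subtype.val h) a)
    · rintro ⟨θ, hθ⟩
      refine ⟨QuotientGroup.lift M' θ fun x hx => hθ x hx, ?_⟩
      ext x
      rfl
  have h3 := Subgroup.card_eq_card_quotient_mul_card_subgroup M'
  rw [← h1, ← h2, Nat.card_congr (Subgroup.subgroupOfEquivOfLe hMQ).toEquiv] at h3
  exact h3.symm

/-- a nontrivial finite nilpotent group has a nontrivial linear character -/
theorem exists_lin_ne {X : Type u} [Group X] [Finite X] [Nontrivial X] [Group.IsSolvable X] :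
    ∃ θ : X →* ℂˣ, θ ≠ 1 := by
  have h1 : commutator X ≠ ⊤ := (Group.IsSolvable.commutator_lt_top_of_nontrivial X).ne
  obtain ⟨x, hx⟩ : ∃ x : X, x ∉ commutator X := by
    by_contra hcon
    push Not at hcon
    exact h1 (eq_top_iff.2 fun x _ => hcon x)
  have h2 : (Abelianization.of x) ≠ 1 := by
    intro h
    exact hx ((QuotientGroup.eq_one_iff x).1 h)
  obtain ⟨θ, hθ⟩ := CommGroup.exists_apply_ne_one_of_hasEnoughRootsOfUnity (Abelianization X) ℂ h2
  refine ⟨θ.comp Abelianization.of, fun h => hθ ?_⟩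
  exact DFunLike.congr_fun h x

section act

variable {Q D : Subgroup G}

/-- conjugation action -/
def cD (hn : ∀ d ∈ D, ∀ x ∈ Q, d * x * d⁻¹ ∈ Q) (d : D) : Q →* Q where
  toFun x := ⟨d * x * (d : G)⁻¹, hn d d.2 x x.2⟩
  map_one' := Subtype.ext (by simp)
  map_mul' x y := Subtype.ext (by simp [mul_assoc])

theorem cD_apply (hn : ∀ d ∈ D, ∀ x ∈ Q, d * x * d⁻¹ ∈ Q) (d : D) (x : Q) :
    ((cD hn d x : Q) : G) = d * x * (d : G)⁻¹ := rfl

theorem cD_mul (hn : ∀ d ∈ D, ∀ x ∈ Q, d * x * d⁻¹ ∈ Q) (d e : D) (x : Q) :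
    cD hn (d * e) x = cD hn d (cD hn e x) := Subtype.ext (by simp [cD_apply, mul_assoc])

/-- action on linear characters trivial on `M` -/
def actA (hn : ∀ d ∈ D, ∀ x ∈ Q, d * x * d⁻¹ ∈ Q) {M : Subgroup G}
    (hM : ∀ d ∈ D, ∀ x ∈ M, d * x * d⁻¹ ∈ M) : D →* MulAut (Ann Q M) where
  toFun d :=
    { toFun := fun θ => ⟨θ.1.comp (cD hn d⁻¹), fun x hx => θ.2 _ (hM _ (d⁻¹).2 _ hx)⟩
      invFun := fun θ => ⟨θ.1.comp (cD hn d), fun x hx => θ.2 _ (hM _ d.2 _ hx)⟩
      left_inv := fun θ => by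
        apply Subtype.ext
        ext x
        show (((θ.1 (cD hn d⁻¹ (cD hn d x)) : ℂˣ)) : ℂ) = _
        rw [← cD_mul, inv_mul_cancel]
        congr 2
        exact Subtype.ext (by simp [cD_apply])
      right_inv := fun θ => by
        apply Subtype.ext
        ext x
        show (((θ.1 (cD hn d (cD hn d⁻¹ x)) : ℂˣ)) : ℂ) = _
        rw [← cD_mul, mul_inv_cancel]
        congr 2
        exact Subtype.ext (by simp [cD_apply])
      map_mul' := fun θ θ' => Subtype.ext rfl }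
  map_one' := by
    ext θ x
    show (((θ.1 (cD hn 1⁻¹ x) : ℂˣ)) : ℂ) = _
    congr 2
    exact Subtype.ext (by simp [cD_apply])
  map_mul' d e := by
    ext θ x
    show (((θ.1 (cD hn (d * e)⁻¹ x) : ℂˣ)) : ℂ) = ((θ.1 (cD hn e⁻¹ (cD hn d⁻¹ x)) : ℂˣ) : ℂ)
    rw [← cD_mul, mul_inv_rev]

theorem actA_apply (hn : ∀ d ∈ D, ∀ x ∈ Q, d * x * d⁻¹ ∈ Q) {M : Subgroup G}
    (hM : ∀ d ∈ D, ∀ x ∈ M, d * x * d⁻¹ ∈ M) (d : D) (θ : Ann Q M) (x : Q) :
    (actA hn hM d θ).1 x = θ.1 (cD hn d⁻¹ x) := rfl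

/-- an element acting fixed point freely on `Q` fixes only the trivial linear character -/
theorem eq_one_of_fix [Finite G] (hn : ∀ d ∈ D, ∀ x ∈ Q, d * x * d⁻¹ ∈ Q) {d : D}
    (hd : ∀ x ∈ Q, (d : G) * x = x * d → x = 1) {θ : Q →* ℂˣ} (h : ∀ x, θ (cD hn d x) = θ x) :
    θ = 1 := by
  let f : Q → Q := fun x => x⁻¹ * cD hn d x
  have hinj : Function.Injective f := by
    intro x y hxy
    have h1 : (x : G)⁻¹ * (d * x * (d : G)⁻¹) = (y : G)⁻¹ * (d * y * (d : G)⁻¹) := congrArg Subtype.val hxy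
    have h2 : (d : G) * (x * (y : G)⁻¹) = (x * (y : G)⁻¹) * d := by
      have h3 : (d : G) * x * (d : G)⁻¹ = x * ((y : G)⁻¹ * (d * y * (d : G)⁻¹)) := by rw [← h1]; group
      calc (d : G) * (x * (y : G)⁻¹) = (d * x * (d : G)⁻¹) * (d * (y : G)⁻¹) := by group
        _ = _ := by rw [h3]; group
    have h3 := hd _ (Q.mul_mem x.2 (Q.inv_mem y.2)) h2
    exact Subtype.ext (mul_inv_eq_one.1 h3)
  ext x
  obtain ⟨y, rfl⟩ := Finite.surjective_of_injective hinj x
  have h1 : θ (y⁻¹ * cD hn d y) = 1 := by rw [map_mul, h, ← map_mul, inv_mul_cancel, map_one]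
  rw [h1]
  rfl

end act

end Cfsg.Agent.Lib.SuzX
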