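import Cfsg.Agent.Lib.SuzX8
import Cfsg.Agent.Lib.H26SuzP
import Cfsg.Agent.Lib.H23Nilp

set_option autoImplicit false
open MulAction

/-!
# The inputs of `H26SuzP.Inputs` (helper69), part 1: setting up
-/

namespace Cfsg.Agent.Lib.SuzX9

open Subgroup Cfsg.Agent.Lib.RankOne Cfsg.Agent.Lib.RankOneB Cfsg.Agent.Lib.RankOneC Cfsg.Agent.Lib.H26SuzKD
  Cfsg.Agent.Lib.H26SuzPP Cfsg.Agent.Lib.H26SuzT Cfsg.Agent.Lib.H26SuzS1 Cfsg.Agent.Lib.H26SuzW Cfsg.Agent.Lib.H26SuzF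
  Cfsg.Agent.Lib.H26SuzB2 Cfsg.Agent.Lib.SuzX

universe u v

/-- the odd part of a nilpotent group -/
theorem exists_T {G : Type u} [Group G] [Finite G] {Q S : Subgroup G} (hnil : Group.IsNilpotent Q)
    (hS : ∀ x, x ∈ S ↔ x ∈ Q ∧ ∃ n : ℕ, x ^ 2 ^ n = 1) {m : ℕ} (hm : Odd m)
    (hc : Nat.card Q = Nat.card S * m) :
    ∃ T : Subgroup G, (∀ x, x ∈ T ↔ x ∈ Q ∧ x ^ m = 1) ∧ Nat.card T = m ∧
      (∀ s ∈ S, ∀ t ∈ T, s * t = t * s) ∧ ∀ x ∈ Q, ∃ s ∈ S, ∃ t ∈ T, x = s * t := by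
  classical
  have h2 : Fact (Nat.Prime 2) := ⟨Nat.prime_two⟩
  have hSQ : S ≤ Q := fun x hx => ((hS x).1 hx).1
  have hn : (S.subgroupOf Q).Normal := by
    constructor
    intro x hx g
    rw [mem_subgroupOf, hS] at hx ⊢
    obtain ⟨-, n, hn⟩ := hx
    refine ⟨(g * x * g⁻¹).2, n, ?_⟩
    push_cast
    rw [conj_pow, hn]; group
  have hSp : IsPGroup 2 S := fun x => by
    obtain ⟨-, n, hn⟩ := (hS x).1 x.2
    exact ⟨n, Subtype.ext hn⟩
  obtain ⟨k, hk⟩ := IsPGroup.iff_card.1 hSp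
  have hcS : Nat.card (S.subgroupOf Q) = 2 ^ k := by
    rw [Nat.card_congr (subgroupOfEquivOfLe hSQ).toEquiv, hk]
  have hidx : (S.subgroupOf Q).index = m := by
    have h3 := (S.subgroupOf Q).card_mul_index
    rw [hcS, hc, hk] at h3
    exact Nat.eq_of_mul_eq_mul_left (by positivity) h3
  have hcop : Nat.Coprime (Nat.card (S.subgroupOf Q)) (S.subgroupOf Q).index := by
    rw [hcS, hidx]
    exact Nat.Coprime.pow_left _ (Nat.coprime_two_left.2 hm)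
  obtain ⟨T', hT'⟩ := exists_right_complement'_of_coprime hcop
  have hcT' : Nat.card T' = m := by
    rw [← hidx]; exact (hT'.symm.index_eq_card).symm
  have hcomm : ∀ s : Q, (s : G) ∈ S → ∀ t ∈ T', s * t = t * s := by
    intro s hs t ht
    apply H23Nilp.commute_of_coprime_orderOf Q
    obtain ⟨-, n, hn⟩ := (hS s).1 hs
    have h3 : orderOf s ∣ 2 ^ n := orderOf_dvd_of_pow_eq_one (Subtype.ext hn)
    have h4 : orderOf t ∣ m := by
      have := orderOf_dvd_natCard (⟨t, ht⟩ : T')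
      rwa [hcT', Subgroup.orderOf_mk] at this
    exact Nat.Coprime.coprime_dvd_left h3 (Nat.Coprime.coprime_dvd_right h4
      (Nat.Coprime.pow_left _ (Nat.coprime_two_left.2 hm)))
  have hdec : ∀ x : Q, ∃ s : Q, (s : G) ∈ S ∧ ∃ t ∈ T', x = s * t := by
    intro x
    obtain ⟨⟨s, t⟩, hst⟩ := hT'.2 x
    exact ⟨s, s.2, t, t.2, hst.symm⟩
  have hTpow : ∀ t ∈ T', t ^ m = 1 := by
    intro t ht
    have := pow_card_eq_one' (x := (⟨t, ht⟩ : T'))
    rw [hcT'] at this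
    exact congrArg Subtype.val this
  have hTmem : ∀ x : Q, x ∈ T' ↔ x ^ m = 1 := by
    intro x
    refine ⟨hTpow x, fun hx => ?_⟩
    obtain ⟨s, hs, t, ht, rfl⟩ := hdec x
    have h3 : (s * t) ^ m = s ^ m * t ^ m := (show Commute s t from hcomm s hs t ht).mul_pow m
    rw [hTpow t ht, mul_one, hx] at h3
    obtain ⟨-, n, hn⟩ := (hS s).1 hs
    have h4 : s = 1 := two_el_eq_one (n := n) (Subtype.ext hn) hm h3.symm
    rw [h4, one_mul]; exact ht
  refine ⟨T'.map Q.subtype, ?_, ?_, ?_, ?_⟩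
  · intro x
    rw [mem_map]
    constructor
    · rintro ⟨y, hy, rfl⟩
      exact ⟨y.2, congrArg Subtype.val ((hTmem y).1 hy)⟩
    · rintro ⟨hx, hxm⟩
      exact ⟨⟨x, hx⟩, (hTmem _).2 (Subtype.ext hxm), rfl⟩
  · rw [← hcT']
    exact (Nat.card_congr (T'.equivMapOfInjective Q.subtype Q.subtype_injective).toEquiv).symm
  · rintro s hs _ ⟨t, ht, rfl⟩
    exact congrArg Subtype.val (hcomm ⟨s, hSQ hs⟩ hs t ht)
  · intro x hx
    obtain ⟨s, hs, t, ht, h3⟩ := hdec ⟨x, hx⟩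
    exact ⟨s, hs, t, ⟨t, ht, rfl⟩, congrArg Subtype.val h3⟩

variable {G : Type u} {Ω : Type v} [Group G] [Finite G] [MulAction G Ω] [FaithfulSMul G Ω] {a : Ω} {t : G} {Q : Subgroup G}
  (hS : Cfsg.IsRankOneSetup G Ω a t Q)
  (h2 : ∃ x y : G, x ≠ 1 ∧ y ≠ 1 ∧ x ≠ y ∧ x * x = 1 ∧ y * y = 1 ∧ x * y = y * x)

/-- the hypotheses -/
structure Hy (Ω : Type v) [MulAction G Ω] (a : Ω) (t : G) (Q : Subgroup G) (v k₀ : G) (p : ℕ) : Prop where
  hp : p.Prime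
  hv1 : v ≠ 1
  hvp : v ^ p = 1
  hv : v ∈ DD G a t
  hvt : v * t = t * v
  hV : ∀ d ∈ DD G a t, d * t = t * d → d ∈ zpowers v
  hKC : ∀ k ∈ zpowers k₀, v * k = k * v → k = 1
  hq : qq Q = 2 ^ p
  hK : ∀ x, x ∈ zpowers k₀ ↔ x ∈ Cfsg.invertedBy (DD G a t) t
  hKn : ∀ d ∈ DD G a t, ∀ c ∈ zpowers k₀, d * c * d⁻¹ ∈ zpowers k₀

omit [Finite G] [FaithfulSMul G Ω] in
theorem conjQ (hS : Cfsg.IsRankOneSetup G Ω a t Q) : ∀ d ∈ DD G a t, ∀ x ∈ Q, d * x * d⁻¹ ∈ Q :=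
  fun d hd x hx => hS.conj_mem d hd.1 x hx

section
variable {v k₀ : G} {p : ℕ} (H : Hy Ω a t Q v k₀ p)
include hS H

omit [FaithfulSMul G Ω] in
theorem decomp {d : G} (hd : d ∈ DD G a t) : ∃ k ∈ zpowers k₀, ∃ i : ℕ, d = k * v ^ i := by
  obtain ⟨q, ⟨hq1, hq2, hq3⟩, -⟩ := OddInv.exists_unique_mul t hS.mul_self (stabilizer G a ⊓ stabilizer G (t • a)) hS.odd_card
    (fun x hx => t_conj_D hS hx) d hd
  have h1 : q.1 ∈ zpowers v := H.hV _ hq1.1 (mem_centralizer_singleton_iff.1 hq1.2)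
  obtain ⟨i, hi⟩ := (mem_powers_iff_mem_zpowers (x := v)).2 h1
  have hi' : v ^ i = q.1 := hi
  refine ⟨q.1 * q.2 * q.1⁻¹, H.hKn _ hq1.1 _ ((H.hK _).2 hq2), i, ?_⟩
  rw [hi', hq3]; group

omit [FaithfulSMul G Ω] in
theorem card_K' : Nat.card (zpowers k₀) = 2 ^ p - 1 := by
  have h1 := card_K hS H.hK
  rw [H.hq] at h1
  omega

omit [FaithfulSMul G Ω] in
theorem p_ne : p ≠ 2 := H26SuzP.p_odd hS H.hp H.hv1 H.hvp H.hv

omit [FaithfulSMul G Ω] in
theorem three_le : 3 ≤ p := by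
  have := H.hp.two_le
  have := p_ne hS H
  omega

omit [FaithfulSMul G Ω] in
theorem eight_le : 8 ≤ 2 ^ p := by
  calc 8 = 2 ^ 3 := by norm_num
    _ ≤ 2 ^ p := Nat.pow_le_pow_right (by norm_num) (three_le hS H)

omit [FaithfulSMul G Ω] in
theorem k₀_ne : k₀ ≠ 1 := by
  rintro rfl
  have h1 := card_K' hS H
  have h2 := eight_le hS H
  rw [zpowers_one_eq_bot, card_bot] at h1
  omega

omit [FaithfulSMul G Ω] in
theorem card_D : Nat.card (DD G a t) = (2 ^ p - 1) * p := by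
  have h1 : DD G a t = zpowers k₀ ⊔ zpowers v := by
    apply le_antisymm
    · intro d hd
      obtain ⟨k, hk, i, rfl⟩ := decomp hS H hd
      exact mul_mem_sup hk (pow_mem (mem_zpowers v) i)
    · refine sup_le ?_ ?_
      · intro x hx
        exact ((H.hK x).1 hx).1
      · rw [zpowers_le]
        exact H.hv
  have h3 : zpowers v ≤ normalizer (zpowers k₀ : Set G) := by
    intro e he
    have heD : e ∈ DD G a t := by
      have : zpowers v ≤ DD G a t := by rw [zpowers_le]; exact H.hv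
      exact this he
    rw [mem_normalizer_iff]
    intro x
    refine ⟨fun hx => H.hKn e heD x hx, fun hx => ?_⟩
    have h4 := H.hKn e⁻¹ (inv_mem heD) _ hx
    have e1 : e⁻¹ * (e * x * e⁻¹) * e⁻¹⁻¹ = x := by group
    rwa [e1] at h4
  have h4 : Disjoint (zpowers k₀) (zpowers v) := by
    rw [disjoint_iff, eq_bot_iff]
    rintro x ⟨hx1, hx2⟩
    rw [mem_bot]
    obtain ⟨i, rfl⟩ := Subgroup.mem_zpowers_iff.1 hx2
    exact H.hKC _ hx1 ((Commute.refl v).zpow_right i).eq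
  have hpf : Fact p.Prime := ⟨H.hp⟩
  have h5 : Nat.card (zpowers v) = p := by
    rw [Nat.card_zpowers]; exact orderOf_eq_prime H.hvp H.hv1
  rw [h1, SubgroupTools.card_sup_of_disjoint h3 h4, card_K' hS H, h5]

include h2 in
theorem xhyp : XHyp (stabilizer G a) Q (EE hS h2) (2 ^ p) p where
  QH := hS.le
  conjQ := hS.conj_mem
  ti := by
    intro x hx hx1 g hg
    have h1 : g * x * g⁻¹ ≠ 1 := by
      intro h
      apply hx1
      calc x = g⁻¹ * (g * x * g⁻¹) * g := by group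
        _ = 1 := by rw [h]; group
    have h3 : (g * x * g⁻¹) • (g • a) = g • a := by
      rw [smul_smul, inv_mul_cancel_right, mul_smul, Q_fix hS hx]
    exact mem_stabilizer_iff.2 (Q_free hS hg h1 h3)
  EQ := EE_le_Q hS h2
  mem_E := by
    intro x hx
    rw [mem_EE_iff hS h2]
    exact ⟨fun h => h.2, fun h => ⟨hx, h⟩⟩
  trans := by
    intro x hx hx1 y hy hy1
    have h1 := (mem_EE_iff hS h2).1 hx
    have h3 := (mem_EE_iff hS h2).1 hy
    obtain ⟨k, hk, hkk⟩ := K_conj_surj hS (s := x) (s' := y) ⟨hS.le h1.1, hx1, h1.2⟩ ⟨hS.le h3.1, hy1, h3.2⟩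
    exact ⟨k⁻¹, inv_mem hk.1.1, by rw [inv_inv]; exact hkk⟩
  cardE := by rw [card_EE hS h2, H.hq]
  four_le := by
    have := eight_le hS H
    omega
  cardH := by
    rw [card_Ga hS, ← card_D hS H]
  odd := by
    rw [← card_D hS H]; exact hS.odd_card
  cardG := by
    rw [card_G hS, card_Ga hS]; ring

theorem mem_zp {k : DD G a t} (hk₀ : k₀ ∈ DD G a t) : k ∈ zpowers (⟨k₀, hk₀⟩ : DD G a t) ↔ (k : G) ∈ zpowers k₀ := by
  rw [Subgroup.mem_zpowers_iff, Subgroup.mem_zpowers_iff]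
  constructor
  · rintro ⟨i, hi⟩
    exact ⟨i, congrArg Subtype.val hi⟩
  · rintro ⟨i, hi⟩
    exact ⟨i, Subtype.ext hi⟩

omit [FaithfulSMul G Ω] in
theorem k₀_mem : k₀ ∈ DD G a t := ((H.hK k₀).1 (mem_zpowers k₀)).1

theorem fa {M : Subgroup G} (hM : ∀ d ∈ DD G a t, ∀ x ∈ M, d * x * d⁻¹ ∈ M) :
    FA (⟨k₀, k₀_mem hS H⟩ : DD G a t) ⟨v, H.hv⟩ p (actA (Q := Q) (conjQ hS) hM) where
  prime := H.hp
  v_pow := Subtype.ext H.hvp
  conj_mem := by
    rw [mem_zp hS H]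
    exact H.hKn v H.hv k₀ (mem_zpowers k₀)
  cent := by
    intro k hk h
    rw [mem_zp hS H] at hk
    exact Subtype.ext (H.hKC _ hk (congrArg Subtype.val h))
  k₀_ne := fun h => k₀_ne hS H (congrArg Subtype.val h)
  decomp := by
    intro d
    obtain ⟨k, hk, i, h⟩ := decomp hS H d.2
    exact ⟨⟨k, ((H.hK k).1 hk).1⟩, (mem_zp hS H _).2 hk, i, Subtype.ext h⟩
  fpf := by
    intro k hk hk1 θ h
    rw [mem_zp hS H] at hk
    have hk' : (k : G) ≠ 1 := fun h => hk1 (Subtype.ext h)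
    have h1 : θ.1 = 1 := by
      apply eq_one_of_fix (conjQ hS) (d := k⁻¹)
      · intro x hx hxk
        refine K_fpf hS ((H.hK _).1 (inv_mem hk)) (inv_ne_one.2 hk') hx ?_
        exact hxk
      · intro x
        have h3 := congrArg (fun z : Ann Q M => z.1 x) h
        exact h3
    exact Subtype.ext h1

theorem free_of {θ : Q →* ℂˣ} (h : ∀ d : DD G a t, (∀ x : Q, θ (cD (conjQ hS) d x) = θ x) → d = 1) :
    IsFree (stabilizer G a) Q θ := by
  intro g hg h1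
  obtain ⟨y, hy, d, hd, rfl⟩ := exists_mul hS hg
  have h3 : (⟨d, hd⟩ : DD G a t) = 1 := by
    apply h
    intro x
    have hx' : y * d * x * (y * d)⁻¹ ∈ Q := hS.conj_mem _ hg x x.2
    rw [← h1 x hx']
    have h4 : (⟨y * d * x * (y * d)⁻¹, hx'⟩ : Q) = ⟨y, hy⟩ * cD (conjQ hS) ⟨d, hd⟩ x * (⟨y, hy⟩ : Q)⁻¹ := by
      apply Subtype.ext
      simp [cD_apply, mul_assoc]
    rw [h4, map_mul, map_mul, mul_right_comm, ← map_mul, mul_inv_cancel, map_one, one_mul]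
  have h4 : d = 1 := congrArg Subtype.val h3
  rw [h4, mul_one]; exact hy

theorem reg_of {M : Subgroup G} (hM : ∀ d ∈ DD G a t, ∀ x ∈ M, d * x * d⁻¹ ∈ M) {θ : Ann Q M}
    (h : ∀ d, actA (Q := Q) (conjQ hS) hM d θ = θ → d = 1) (d : DD G a t)
    (hd : ∀ x : Q, θ.1 (cD (conjQ hS) d x) = θ.1 x) : d = 1 := by
  have h1 := h d⁻¹ (by
    apply Subtype.ext
    ext x
    rw [actA_apply, inv_inv, hd])
  exact inv_eq_one.1 h1

end

end Cfsg.Agent.Lib.SuzX9
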