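import Mathlib
import Cfsg.Agent.Lib.SuzukiSyl
import Cfsg.Agent.Lib.SuzukiLie
import Cfsg.Agent.Lib.FFAut
import Cfsg.Prelude.Def_KGroupFacts

/-!
Automorphisms of the Suzuki groups: `Out(Sz(q)) = Aut(F_q)`.
-/
set_option autoImplicit false

namespace Cfsg.Agent.Lib.SuzukiAut

open Cfsg.Agent.Lib.SuzukiOvoid Cfsg.Agent.Lib.SuzukiGroup Cfsg.Agent.Lib.SuzukiFin
  Cfsg.Agent.Lib.SuzukiStab Cfsg.Agent.Lib.SuzukiSyl

/-- `Out` is invariant under isomorphism -/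
theorem card_out_congr {G : Type*} {G' : Type*} [Group G] [Group G'] (e : G ≃* G') :
    Nat.card (Cfsg.Out G) = Nat.card (Cfsg.Out G') := by
  refine Nat.card_congr (QuotientGroup.congr (Cfsg.Inn G) (Cfsg.Inn G') (MulAut.congr e) ?_).toEquiv
  ext φ
  constructor
  · rintro ⟨_, ⟨g, rfl⟩, rfl⟩
    refine ⟨e g, ?_⟩
    ext x
    simp [MulAut.congr, MulAut.conj_apply]
  · rintro ⟨g, rfl⟩
    refine ⟨MulAut.conj (e.symm g), ⟨e.symm g, rfl⟩, ?_⟩
    ext x
    simp [MulAut.congr, MulAut.conj_apply]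

variable {F : Type*} [Field F] [CharP F 2] (θ : F ≃+* F) (hθ : ∀ x, θ (θ x) = x ^ 2)

section fieldAut

/-- entrywise application of a field automorphism -/
def ent (σ : F ≃+* F) : Matrix.SpecialLinearGroup (Fin 4) F →* Matrix.SpecialLinearGroup (Fin 4) F :=
  Matrix.SpecialLinearGroup.map (σ : F →+* F)

omit [CharP F 2] in
theorem ent_apply (σ : F ≃+* F) (g : Matrix.SpecialLinearGroup (Fin 4) F) (i j : Fin 4) :
    (ent σ g).1 i j = σ (g.1 i j) := rfl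

omit [CharP F 2] in
theorem ent_ent (σ τ : F ≃+* F) (g : Matrix.SpecialLinearGroup (Fin 4) F) : ent σ (ent τ g) = ent (τ.trans σ) g := by
  apply Subtype.ext; ext i j; rfl

omit [CharP F 2] in
theorem ent_refl (g : Matrix.SpecialLinearGroup (Fin 4) F) : ent (RingEquiv.refl F) g = g := by
  apply Subtype.ext; ext i j; rfl

variable {σ : F ≃+* F} (hσ : ∀ x, σ (θ x) = θ (σ x))

include hσ in
omit [CharP F 2] in
theorem ent_U (a b : F) : ent σ (U θ a b) = U θ (σ a) (σ b) := by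
  apply Subtype.ext
  ext i j
  rw [ent_apply]
  change σ (Um θ a b i j) = Um θ (σ a) (σ b) i j
  fin_cases i <;> fin_cases j <;> simp [Um, ff, hσ]

include hσ in
omit [CharP F 2] in
theorem symm_comm (x : F) : σ (θ.symm x) = θ.symm (σ x) := by
  rw [RingEquiv.eq_symm_apply, ← hσ, RingEquiv.apply_symm_apply]

include hσ in
omit [CharP F 2] in
theorem ent_H (κ : Fˣ) : ent σ (H θ κ) = H θ (Units.map (σ : F →* F) κ) := by
  apply Subtype.ext
  ext i j
  rw [ent_apply]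
  change σ (Hm θ κ i j) = Hm θ (Units.map (σ : F →* F) κ) i j
  have h1 := symm_comm θ hσ (κ : F)
  unfold Hm
  rw [Matrix.diagonal_apply, Matrix.diagonal_apply]
  by_cases h : i = j
  · rw [if_pos h, if_pos h]
    fin_cases i <;> simp [h1]
  · rw [if_neg h, if_neg h, map_zero]

omit [CharP F 2] in
theorem ent_W (σ : F ≃+* F) : ent σ (Wm F) = Wm F := by
  apply Subtype.ext
  ext i j
  rw [ent_apply]
  change σ (Cfsg.suzukiForm F i j) = Cfsg.suzukiForm F i j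
  fin_cases i <;> fin_cases j <;> simp [Cfsg.suzukiForm]

variable (hne : ∃ x, θ x ≠ x ^ 2)

include hθ hσ hne in
theorem ent_mem {g : Matrix.SpecialLinearGroup (Fin 4) F} (hg : g ∈ Gz θ) : ent σ g ∈ Gz θ := by
  rcases bruhat θ hθ hne ⟨g, hg⟩ with ⟨a, b, κ, h⟩ | ⟨a, b, c, d, κ, h⟩
  · have : g = U θ a b * H θ κ := congrArg Subtype.val h
    rw [this, map_mul, ent_U θ hσ, ent_H θ hσ]
    exact mul_mem (U_mem θ hθ _ _) (H_mem θ hθ _)
  · have : g = U θ a b * Wm F * (U θ c d * H θ κ) := congrArg Subtype.val h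
    rw [this, map_mul, map_mul, map_mul, ent_U θ hσ, ent_U θ hσ, ent_H θ hσ, ent_W]
    exact mul_mem (mul_mem (U_mem θ hθ _ _) (Wm_mem θ hθ)) (mul_mem (U_mem θ hθ _ _) (H_mem θ hθ _))

include hσ in
omit [CharP F 2] in
theorem hσ_symm (x : F) : σ.symm (θ x) = θ (σ.symm x) := by
  rw [RingEquiv.symm_apply_eq, hσ, RingEquiv.apply_symm_apply]

/-- the field automorphism of the Suzuki group -/
def fa : MulAut (Gz θ) where
  toFun g := ⟨ent σ g.1, ent_mem θ hθ hσ hne g.2⟩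
  invFun g := ⟨ent σ.symm g.1, ent_mem θ hθ (hσ_symm θ hσ) hne g.2⟩
  left_inv g := by
    apply Subtype.ext
    change ent σ.symm (ent σ g.1) = g.1
    rw [ent_ent, RingEquiv.self_trans_symm, ent_refl]
  right_inv g := by
    apply Subtype.ext
    change ent σ (ent σ.symm g.1) = g.1
    rw [ent_ent, RingEquiv.symm_trans_self, ent_refl]
  map_mul' g h := by
    apply Subtype.ext
    exact map_mul (ent σ) g.1 h.1

theorem fa_Ug (a b : F) : fa θ hθ hσ hne (Ug θ hθ a b) = Ug θ hθ (σ a) (σ b) :=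
  Subtype.ext (ent_U θ hσ a b)

theorem fa_Hg (κ : Fˣ) : fa θ hθ hσ hne (Hg θ hθ κ) = Hg θ hθ (Units.map (σ : F →* F) κ) :=
  Subtype.ext (ent_H θ hσ κ)

end fieldAut

section rigid

variable (hne : ∃ x, θ x ≠ x ^ 2)

include hne in
/-- an automorphism that is the identity on the Borel subgroup is the identity -/
theorem eq_one_of_borel (φ : MulAut (Gz θ)) (hU : ∀ a b, φ (Ug θ hθ a b) = Ug θ hθ a b)
    (hH : ∀ κ, φ (Hg θ hθ κ) = Hg θ hθ κ) : φ = 1 := by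
  have hB : ∀ g : Gz θ, g • inf θ = inf θ → φ g = g := by
    intro g hg
    obtain ⟨a, b, κ, rfl⟩ := onePt θ hθ hne hg
    rw [map_mul, hU, hH]
  have hW : φ (Wg θ hθ) • inf θ = Wg θ hθ • inf θ := by
    obtain ⟨κ, hκ⟩ := exists_ne_one θ hne
    have h1 : (φ (Wg θ hθ))⁻¹ * Hg θ hθ κ * φ (Wg θ hθ) ∈ HSub θ hθ := by
      have e1 : (φ (Wg θ hθ))⁻¹ * Hg θ hθ κ * φ (Wg θ hθ) = φ ((Wg θ hθ)⁻¹ * Hg θ hθ κ * Wg θ hθ) := by
        rw [map_mul, map_mul, map_inv, hH]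
      have e2 : (Wg θ hθ)⁻¹ * Hg θ hθ κ * Wg θ hθ = (Hg θ hθ κ)⁻¹ := by
        have h2 : (Wg θ hθ)⁻¹ = Wg θ hθ := by
          rw [inv_eq_iff_mul_eq_one]; exact Wg_sq θ hθ
        rw [← Wg_conj_H, h2]
      rw [e1, e2, Hg_inv, hH]
      exact Hg_mem θ hθ _
    rcases torus_cases θ hθ hne (Hg_mem θ hθ κ) (fun h => hκ ((Hg_eq_one θ hθ).mp h)) h1 with h2 | h2
    · exfalso
      obtain ⟨μ, hμ⟩ := (mem_HSub θ hθ).mp h2
      rw [← hH μ] at hμ
      have h3 := φ.injective hμ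
      have h4 := Wg_inf θ hθ
      rw [h3, Hg_inf] at h4
      exact pt_ne_inf θ 0 0 h4.symm
    · obtain ⟨μ, hμ⟩ := (mem_HSub θ hθ).mp h2
      have h3 : φ (Wg θ hθ) = Hg θ hθ μ * Wg θ hθ := by
        rw [← hμ, mul_assoc, Wg_sq, mul_one]
      rw [h3, mul_smul, Wg_inf, Hg_pt]
      simp
  have hinf : ∀ g : Gz θ, φ g • inf θ = g • inf θ := by
    intro g
    rcases bruhat θ hθ hne g with ⟨a, b, κ, rfl⟩ | ⟨a, b, c, d, κ, rfl⟩
    · rw [map_mul, hU, hH]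
    · rw [map_mul, map_mul, map_mul, hU, hU, hH, mul_smul, mul_smul, mul_smul, mul_smul, mul_smul, mul_smul, Hg_inf, Ug_inf, hW]
  have := pretransitive θ hθ
  have hfaith := faithful θ hθ hne
  ext1 g
  apply hfaith.eq_of_smul_eq_smul
  intro p
  obtain ⟨k, rfl⟩ := MulAction.exists_smul_eq (Gz θ) (inf θ) p
  rw [MulAut.one_apply]
  nth_rewrite 1 [← hinf k]
  rw [← mul_smul, ← map_mul, hinf, mul_smul]

end rigid

end Cfsg.Agent.Lib.SuzukiAut
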