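import Cfsg.Agent.Lib.SuzukiConj

/-!
Suzuki groups, part 21: transitive actions of fixity 2.
-/

set_option autoImplicit false
set_option linter.unusedSectionVars false
set_option linter.unusedSimpArgs false
open scoped LinearAlgebra.Projectivization Matrix Pointwise

namespace Cfsg.Agent.Lib.SuzukiFixity

open Cfsg.Agent.Lib.SuzukiOvoid Cfsg.Agent.Lib.SuzukiGroup Cfsg.Agent.Lib.SuzukiFin
  Cfsg.Agent.Lib.SuzukiStab Cfsg.Agent.Lib.SuzukiSyl Cfsg.Agent.Lib.SuzukiPts
  Cfsg.Agent.Lib.SuzukiTor Cfsg.Agent.Lib.SuzukiNoFix Cfsg.Agent.Lib.TICount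
  Cfsg.Agent.Lib.SuzukiCount Cfsg.Agent.Lib.SuzukiTori Cfsg.Agent.Lib.SuzukiStr
  Cfsg.Agent.Lib.SuzukiStr2 Cfsg.Agent.Lib.SuzukiStr3 Cfsg.Agent.Lib.SuzukiStr4

/-- three elements of a set with at most two elements -/
theorem pigeon {α : Type*} {s : Set α} (hs : s.Finite) (h : Nat.card s ≤ 2) {a b c : α}
    (ha : a ∈ s) (hb : b ∈ s) (hc : c ∈ s) : a = b ∨ b = c ∨ a = c := by
  classical
  by_contra hcon
  push Not at hcon
  have : Finite s := hs
  have h1 : ({a, b, c} : Finset α).card = 3 := by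
    rw [Finset.card_eq_three]
    exact ⟨a, b, c, hcon.1, hcon.2.2, hcon.2.1, rfl⟩
  have h2 : (({a, b, c} : Finset α) : Set α) ⊆ s := by
    intro x hx
    simp only [Finset.coe_insert, Finset.coe_singleton, Set.mem_insert_iff,
      Set.mem_singleton_iff] at hx
    rcases hx with rfl | rfl | rfl
    · exact ha
    · exact hb
    · exact hc
  have h3 := Set.ncard_le_ncard h2 hs
  rw [Set.ncard_coe_finset, h1, ← Nat.card_coe_set_eq] at h3
  omega

/-- an element preserving a set with at most two elements: the square fixes its elements -/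
theorem sq_fix {G α : Type*} [Group G] [MulAction G α] {s : Set α} (hs : s.Finite)
    (h : Nat.card s ≤ 2) {g : G} (hg : ∀ x ∈ s, g • x ∈ s) {x : α} (hx : x ∈ s) :
    g ^ 2 • x = x := by
  have h1 := hg x hx
  have h2 := hg _ h1
  rw [sq, mul_smul]
  rcases pigeon hs h hx h1 h2 with h3 | h3 | h3
  · rw [← h3, ← h3]
  · have h4 := smul_left_cancel g h3
    rw [← h4, ← h4]
  · exact h3.symm

theorem odd_of_sq {G : Type*} [Group G] (S : Subgroup G) {g : G} (h : g ^ 2 ∈ S)
    (ho : Odd (orderOf g)) : g ∈ S := by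
  obtain ⟨j, hj⟩ := ho
  have h1 := pow_mem h (j + 1)
  rw [← pow_mul, show 2 * (j + 1) = orderOf g + 1 by rw [hj]; ring, pow_succ,
    pow_orderOf_eq_one, one_mul] at h1
  exact h1

section general
variable {F : Type*} [Field F] [CharP F 2] (θ : F ≃+* F) (hθ : ∀ x, θ (θ x) = x ^ 2)
  (hne : ∃ x, θ x ≠ x ^ 2) [Finite F]
include hθ hne

/-- odd order elements normalising a torus are in it -/
theorem IsTor.odd_mem {c n : Gz θ} (hT : IsTor θ hθ hne c)
    (hn : n ∈ Subgroup.normalizer (Subgroup.centralizer {c} : Set (Gz θ)))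
    (ho : Odd (orderOf n)) : n ∈ Subgroup.centralizer {c} := by
  rcases types θ hθ hne c with h | ⟨p, h⟩ | ⟨p, p', hpp', h⟩ | h
  · exact absurd (Subgroup.mem_bot.mp h) hT.1
  · exact absurd h (hT.2 p)
  · have hset : ∀ x ∈ ({p, p'} : Set (ov θ)), n⁻¹ • x ∈ ({p, p'} : Set (ov θ)) := by
      intro z hz
      have h4 : n * c * n⁻¹ ∈ Tp θ p p' := by
        rw [← centralizer_Tp θ hθ hne hpp' h hT.1]
        exact (Subgroup.mem_normalizer_iff.mp hn _).mp
          (Subgroup.mem_centralizer_singleton_iff.mpr rfl)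
      by_contra hcon
      simp only [Set.mem_insert_iff, Set.mem_singleton_iff] at hcon hz
      push Not at hcon
      have h5 : (n * c * n⁻¹) • z = z := by
        rcases hz with rfl | rfl
        · exact h4.1
        · exact h4.2
      rw [mul_smul, mul_smul, ← eq_inv_smul_iff] at h5
      exact hT.1 (three_points θ hθ hne hpp' (Ne.symm hcon.2) (Ne.symm hcon.1) h.1 h.2 h5)
    have hfin : ({p, p'} : Set (ov θ)).Finite := Set.toFinite _
    have hcard : Nat.card ({p, p'} : Set (ov θ)) ≤ 2 := by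
      rw [Nat.card_coe_set_eq]
      exact (Set.ncard_insert_le _ _).trans (by rw [Set.ncard_singleton])
    rw [centralizer_Tp θ hθ hne hpp' h hT.1, ← inv_mem_iff]
    apply odd_of_sq
    · exact ⟨sq_fix hfin hcard hset (by simp), sq_fix hfin hcard hset (by simp)⟩
    · rwa [orderOf_inv]
  · obtain ⟨e, he, h5⟩ := conj_index θ hθ hne h
    set N := Subgroup.normalizer (Subgroup.centralizer {c} : Set (Gz θ)) with hN
    have hnor : ((Subgroup.centralizer {c}).subgroupOf N).Normal := Subgroup.normal_in_normalizer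
    have hidx : ((Subgroup.centralizer {c}).subgroupOf N).index = e := by
      have h6 := ((Subgroup.centralizer {c}).subgroupOf N).card_mul_index
      rw [Nat.card_congr (Subgroup.subgroupOfEquivOfLe Subgroup.le_normalizer).toEquiv, h5] at h6
      exact Nat.eq_of_mul_eq_mul_left Nat.card_pos h6
    have h7 := Subgroup.pow_index_mem ((Subgroup.centralizer {c}).subgroupOf N) ⟨n, hn⟩
    rw [hidx, Subgroup.mem_subgroupOf] at h7
    have h8 : n ^ e ∈ Subgroup.centralizer {c} := h7
    obtain ⟨j, hj⟩ := he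
    have h9 : (n ^ 2) ^ 2 ∈ Subgroup.centralizer {c} := by
      rw [← pow_mul, show 2 * 2 = e * j from hj, pow_mul]
      exact pow_mem h8 j
    apply odd_of_sq _ _ ho
    apply odd_of_sq _ h9
    exact Odd.of_dvd_nat ho (orderOf_pow_dvd 2)

theorem fixity {Ω : Type*} [Finite Ω] [MulAction (Gz θ) Ω] [MulAction.IsPretransitive (Gz θ) Ω]
    {m : ℕ} (hm : 1 ≤ m) (hF : Nat.card F = 2 ^ (2 * m + 1))
    (hfix : ∀ g : Gz θ, g ≠ 1 → Nat.card (MulAction.fixedBy Ω g) ≤ 2)
    (hex : ∃ g : Gz θ, g ≠ 1 ∧ Nat.card (MulAction.fixedBy Ω g) = 2) :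
    (Nat.card Ω = Nat.card F ^ 2 + 1 ∧ MulAction.IsMultiplyPretransitive (Gz θ) Ω 2) ∨
    (Nat.card Ω = Nat.card F ^ 2 * (Nat.card F ^ 2 + 1) ∧
      ∀ α : Ω, Nat.card (MulAction.stabilizer (Gz θ) α) = Nat.card F - 1) := by
  obtain ⟨g0, hg0, hg02⟩ := hex
  have hfin : ∀ s : Set Ω, s.Finite := fun s => Set.toFinite s
  obtain ⟨α, hα⟩ : (MulAction.fixedBy Ω g0).Nonempty := by
    rw [← Set.ncard_pos, ← Nat.card_coe_set_eq, hg02]; norm_num
  have hgS : g0 ∈ MulAction.stabilizer (Gz θ) α := hα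
  have hidx : (MulAction.stabilizer (Gz θ) α).index = Nat.card Ω :=
    MulAction.index_stabilizer_of_transitive (Gz θ) α
  have hcm := (MulAction.stabilizer (Gz θ) α).card_mul_index
  rw [hidx, card_G θ hθ hne] at hcm
  set S := MulAction.stabilizer (Gz θ) α with hS
  have hSm : ∀ g : Gz θ, g ∈ S ↔ g • α = α := fun g => Iff.rfl
  have hStop : S ≠ ⊤ := by
    intro h
    have h1 : ∀ β : Ω, β = α := by
      intro β
      obtain ⟨g, hg⟩ := MulAction.exists_smul_eq (Gz θ) α β
      rw [← hg]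
      exact (hSm g).mp (h ▸ Subgroup.mem_top g)
    have h2 : Nat.card (MulAction.fixedBy Ω g0) ≤ 1 := by
      rw [Finite.card_le_one_iff_subsingleton]
      exact ⟨fun x y => Subtype.ext ((h1 x).trans (h1 y).symm)⟩
    omega
  by_cases hodd : Odd (Nat.card S)
  · right
    have hb : S ≠ ⊥ := by
      intro h
      rw [h, Subgroup.mem_bot] at hgS
      exact hg0 hgS
    obtain ⟨c, hcS, hT, hle⟩ := odd_case θ hθ hne hodd hb
    have hcodd : ∀ g ∈ S, Odd (orderOf g) := by
      intro g hg
      have h1 : orderOf (⟨g, hg⟩ : S) ∣ Nat.card S := orderOf_dvd_natCard _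
      rw [Subgroup.orderOf_mk] at h1
      exact hodd.of_dvd_nat h1
    have hSC : S ≤ Subgroup.centralizer {c} := fun g hg =>
      IsTor.odd_mem θ hθ hne hT (hle hg) (hcodd g hg)
    -- the torus has odd order
    have hCodd : ∀ g ∈ Subgroup.centralizer {c}, Odd (orderOf g) := by
      intro g hg
      rcases types θ hθ hne c with h | ⟨p, h⟩ | ⟨p, p', hpp', h⟩ | h
      · exact absurd (Subgroup.mem_bot.mp h) hT.1
      · exact absurd h (hT.2 p)
      · rw [centralizer_Tp θ hθ hne hpp' h hT.1] at hg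
        have h1 : orderOf (⟨g, hg⟩ : Tp θ p p') ∣ Nat.card (Tp θ p p') := orderOf_dvd_natCard _
        rw [Subgroup.orderOf_mk, card_Tp θ hθ hne hpp'] at h1
        refine Odd.of_dvd_nat ?_ h1
        rw [Nat.odd_sub (one_lt_card (F := F)).le]
        have : Even (Nat.card F) := even_card
        simp [this]
      · by_cases hg1 : g = 1
        · rw [hg1, orderOf_one]; exact odd_one
        · exact NoFix.odd θ hθ hne (NoFix.of_commute θ hθ hne h (cent_comm θ hθ hne hg) hg1)
    have hCS : Subgroup.centralizer {c} ≤ S := by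
      intro g hg
      apply odd_of_sq S _ (hCodd g hg)
      rw [hSm]
      apply sq_fix (hfin _) (hfix c hT.1) _ (show α ∈ MulAction.fixedBy Ω c from hcS)
      intro x hx
      show c • g • x = g • x
      rw [← mul_smul, cent_comm θ hθ hne hg, mul_smul, show c • x = x from hx]
    have hSeq : S = Subgroup.centralizer {c} := le_antisymm hSC hCS
    rcases types θ hθ hne c with h | ⟨p, h⟩ | ⟨p, p', hpp', h⟩ | h
    · exact absurd (Subgroup.mem_bot.mp h) hT.1
    · exact absurd h (hT.2 p)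
    · have hSc : Nat.card S = Nat.card F - 1 := by
        rw [hSeq, centralizer_Tp θ hθ hne hpp' h hT.1, card_Tp θ hθ hne hpp']
      have hΩ : Nat.card Ω = Nat.card F ^ 2 * (Nat.card F ^ 2 + 1) := by
        have h1 : 1 < Nat.card F := one_lt_card
        rw [hSc] at hcm
        apply Nat.eq_of_mul_eq_mul_left (show 0 < Nat.card F - 1 by omega)
        rw [hcm]; ring
      refine ⟨hΩ, fun β => ?_⟩
      have h1 := (MulAction.stabilizer (Gz θ) β).card_mul_index
      rw [MulAction.index_stabilizer_of_transitive, hΩ, card_G θ hθ hne] at h1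
      have h2 : 0 < Nat.card F ^ 2 * (Nat.card F ^ 2 + 1) := by
        apply Nat.mul_pos (pow_pos Nat.card_pos 2); omega
      apply Nat.eq_of_mul_eq_mul_right h2
      rw [h1]; ring
    · exfalso
      have h4 := (SuzukiPart.noFix_card θ hθ hne hm hF h).2
      -- map N → Fix(c)
      set N := Subgroup.normalizer (Subgroup.centralizer {c} : Set (Gz θ)) with hN
      have h5 : ∀ n : N, (n : Gz θ) • α ∈ MulAction.fixedBy Ω c := by
        intro n
        show c • (n : Gz θ) • α = (n : Gz θ) • α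
        have h6 : (n : Gz θ)⁻¹ * c * n ∈ S := by
          rw [hSeq]
          have := (Subgroup.mem_normalizer_iff.mp (inv_mem n.2) c).mp
            (Subgroup.mem_centralizer_singleton_iff.mpr rfl)
          rwa [inv_inv] at this
        have h7 := (hSm _).mp h6
        rw [mul_smul, mul_smul, inv_smul_eq_iff] at h7
        exact h7
      have h6 : Nat.card N ≤ Nat.card S * 2 := by
        have h7 : (MulAction.orbit N α) ⊆ MulAction.fixedBy Ω c := by
          rintro _ ⟨n, rfl⟩
          exact h5 n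
        have h8 := Set.ncard_le_ncard h7 (hfin _)
        rw [← Nat.card_coe_set_eq (MulAction.fixedBy Ω c)] at h8
        have h9 := h8.trans (hfix c hT.1)
        have h10 := (MulAction.stabilizer N α).card_mul_index
        rw [MulAction.index_stabilizer] at h10
        have h11 : Nat.card (MulAction.stabilizer N α) ≤ Nat.card S := by
          apply Nat.card_le_card_of_injective
            (fun n : MulAction.stabilizer N α => (⟨((n : N) : Gz θ), n.2⟩ : S))
          intro a b hab
          have hab' : ((a : N) : Gz θ) = ((b : N) : Gz θ) :=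
            congrArg (fun s : S => (s : Gz θ)) hab
          exact Subtype.ext (Subtype.ext hab')
        rw [← h10]
        exact Nat.mul_le_mul h11 h9
      rw [h4, hSeq] at h6
      have : 0 < Nat.card (Subgroup.centralizer {c}) := Nat.card_pos
      omega
  · left
    rw [Nat.not_odd_iff_even, even_iff_two_dvd] at hodd
    obtain ⟨s, hs⟩ := exists_prime_orderOf_dvd_card' 2 hodd
    have hs2 : orderOf (s : Gz θ) = 2 := by rw [Subgroup.orderOf_coe, hs]
    have hs1 : (s : Gz θ) ≠ 1 := by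
      intro h; rw [h, orderOf_one] at hs2; omega
    obtain ⟨p, hp⟩ := exists_Up θ hθ hne hs2
    obtain ⟨k, hk⟩ := exists_to θ hθ p
    have hUp : ∀ u ∈ USub θ hθ, k * u * k⁻¹ ∈ Up θ hθ hne p := by
      intro u hu
      rw [mem_Up_iff_conj θ hθ hne hk, show k⁻¹ * (k * u * k⁻¹) * k = u by group]
      exact hu
    have hsq : ∀ u ∈ Up θ hθ hne p, u ^ 2 ∈ S := by
      intro u hu
      rw [hSm]
      apply sq_fix (hfin _) (hfix s hs1) _ (show α ∈ MulAction.fixedBy Ω (s : Gz θ) from s.2)
      intro x hx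
      show (s : Gz θ) • u • x = u • x
      rw [← mul_smul, ← commute_invol θ hθ hne hs2 hp hu, mul_smul,
        show (s : Gz θ) • x = x from hx]
    have hZ : ∀ b : F, k * Ug θ hθ 0 b * k⁻¹ ∈ S := by
      intro b
      obtain ⟨a, ha⟩ := mulθ_surj θ hθ b
      have h1 := hsq _ (hUp _ (Ug_mem θ hθ a 0))
      rwa [conj_pow, Ug_sq, mul_comm (θ a) a, ha] at h1
    -- the Borel subgroup
    have hB : ∀ g : Gz θ, g • inf θ = inf θ → (k * g * k⁻¹) ^ 2 ∈ S := by
      intro g hg
      rw [hSm]
      let X : Set Ω := {ω | ∀ b : F, (k * Ug θ hθ 0 b * k⁻¹) • ω = ω}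
      have hX : Nat.card X ≤ 2 := by
        have h1 : X ⊆ MulAction.fixedBy Ω (k * Ug θ hθ 0 1 * k⁻¹) := fun ω hω => hω 1
        have h2 := Set.ncard_le_ncard h1 (hfin _)
        rw [← Nat.card_coe_set_eq, ← Nat.card_coe_set_eq] at h2
        refine h2.trans (hfix _ ?_)
        exact conj_ne_one θ hθ hne (fun h => one_ne_zero ((Ug_eq_one θ hθ).mp h).2)
      apply sq_fix (hfin X) hX _ (show α ∈ X from hZ)
      intro ω hω b
      have hg' : g⁻¹ • inf θ = inf θ := by rw [inv_smul_eq_iff, hg]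
      obtain ⟨d, hd⟩ := Z_conj θ hθ hne hg' (Uz_mem θ hθ b)
      rw [inv_inv] at hd
      have h1 : (k * Ug θ hθ 0 b * k⁻¹) * (k * g * k⁻¹) =
          (k * g * k⁻¹) * (k * Ug θ hθ 0 d * k⁻¹) := by
        rw [← hd]; group
      rw [← mul_smul, h1, mul_smul, hω d]
    have hHodd : ∀ (g : Gz θ) (κ : Fˣ), Odd (orderOf (g * Hg θ hθ κ * g⁻¹)) := by
      intro g κ
      have h1 : orderOf (g * Hg θ hθ κ * g⁻¹) = orderOf (Hg θ hθ κ) :=
        (MulAut.conj g).orderOf_eq _
      have h2 : orderOf (⟨Hg θ hθ κ, Hg_mem θ hθ κ⟩ : HSub θ hθ) ∣ Nat.card (HSub θ hθ) :=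
        orderOf_dvd_natCard _
      rw [Subgroup.orderOf_mk, card_H] at h2
      rw [h1]
      refine Odd.of_dvd_nat ?_ h2
      rw [Nat.odd_sub (one_lt_card (F := F)).le]
      have : Even (Nat.card F) := even_card
      simp [this]
    have hH : ∀ (u : Gz θ), u • inf θ = inf θ → ∀ κ : Fˣ,
        k * (u * Hg θ hθ κ * u⁻¹) * k⁻¹ ∈ S := by
      intro u hu κ
      apply odd_of_sq S
      · apply hB
        rw [mul_smul, mul_smul, inv_smul_eq_iff.mpr hu.symm, Hg_inf, hu]
      · have := hHodd (k * u) κ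
        rwa [show k * u * Hg θ hθ κ * (k * u)⁻¹ = k * (u * Hg θ hθ κ * u⁻¹) * k⁻¹ by group] at this
    have hU : ∀ a b : F, k * Ug θ hθ a b * k⁻¹ ∈ S := by
      intro a b
      obtain ⟨κ, hκ⟩ := exists_ne_one θ hne
      have hκ1 : (1 : F) + κ ≠ 0 := by
        intro h1
        apply hκ
        apply Units.ext
        have h2 : (κ : F) - 1 = 0 := by rw [csub, add_comm]; exact h1
        exact sub_eq_zero.mp h2
      set x := a / (1 + κ) with hx
      have h1 := hH (Ug θ hθ x 0) (Ug_inf θ hθ _ _) κ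
      have h2 := hH 1 (one_smul _ _) κ
      rw [one_mul, inv_one, mul_one] at h2
      have h3 := mul_mem h1 (inv_mem h2)
      have h4 : k * (Ug θ hθ x 0 * Hg θ hθ κ * (Ug θ hθ x 0)⁻¹) * k⁻¹ * (k * Hg θ hθ κ * k⁻¹)⁻¹ =
          k * (Ug θ hθ x 0 * (Hg θ hθ κ * (Ug θ hθ x 0)⁻¹ * (Hg θ hθ κ)⁻¹)) * k⁻¹ := by group
      rw [h4, Ug_inv, Hg_conj, Ug_mul] at h3
      have h5 : x + κ * x = a := by rw [hx]; field_simp
      rw [h5] at h3
      generalize 0 + (κ : F) * θ κ * (0 + x * θ x) + θ x * (κ * x) = d at h3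
      have h6 := mul_mem h3 (hZ (b + d))
      rw [show k * Ug θ hθ a d * k⁻¹ * (k * Ug θ hθ 0 (b + d) * k⁻¹) =
        k * (Ug θ hθ a d * Ug θ hθ 0 (b + d)) * k⁻¹ by group, Ug_mul, add_zero, mul_zero,
        add_zero] at h6
      have h7 : d + (b + d) = b := by char2
      rwa [h7] at h6
    have hle : MulAction.stabilizer (Gz θ) p ≤ S := by
      intro g hg
      have hg' : (k⁻¹ * g * k) • inf θ = inf θ := by
        rw [mul_smul, mul_smul, hk, show g • p = p from hg, inv_smul_eq_iff, hk]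
      obtain ⟨a, b, κ, h1⟩ := onePt θ hθ hne hg'
      have h2 : g = (k * Ug θ hθ a b * k⁻¹) * (k * (1 * Hg θ hθ κ * 1⁻¹) * k⁻¹) := by
        calc g = k * (k⁻¹ * g * k) * k⁻¹ := by group
          _ = _ := by rw [h1]; group
      rw [h2]
      exact mul_mem (hU a b) (hH 1 (one_smul _ _) κ)
    have hSp : S = MulAction.stabilizer (Gz θ) p := by
      rcases (SuzukiMax.stab_coatom θ hθ hne p).le_iff.mp hle with h | h
      · exact absurd h hStop
      · exact h
    constructor
    · rw [← hidx, hSp]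
      have := pretransitive θ hθ
      rw [MulAction.index_stabilizer_of_transitive, card_ov]
    · -- equivariant map Ω → ov
      choose f hf using fun x : Ω => MulAction.exists_smul_eq (Gz θ) α x
      have heq : ∀ g h : Gz θ, g • α = h • α ↔ g • p = h • p := by
        intro g h
        have h1 : h⁻¹ * g ∈ S ↔ h⁻¹ * g ∈ MulAction.stabilizer (Gz θ) p := by rw [hSp]
        rw [hSm, MulAction.mem_stabilizer_iff, mul_smul, mul_smul, inv_smul_eq_iff,
          inv_smul_eq_iff] at h1
        exact h1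
      have hinj : ∀ x y : Ω, f x • p = f y • p → x = y := by
        intro x y h
        rw [← hf x, ← hf y]
        exact (heq _ _).mpr h
      have heqv : ∀ (g : Gz θ) (x : Ω), f (g • x) • p = g • f x • p := by
        intro g x
        rw [← mul_smul, ← heq, mul_smul, hf, hf]
      rw [MulAction.is_two_pretransitive_iff]
      intro a b c d hab hcd
      have h2 := two_pretransitive θ hθ
      rw [MulAction.is_two_pretransitive_iff] at h2
      obtain ⟨g, hg1, hg2⟩ := h2 (fun h => hab (hinj a b h)) (fun h => hcd (hinj c d h))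
      exact ⟨g, hinj _ _ (by rw [heqv, hg1]), hinj _ _ (by rw [heqv, hg2])⟩

end general

end Cfsg.Agent.Lib.SuzukiFixity
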