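import Cfsg.Agent.Lib.SuzukiSubf
import Cfsg.Prelude.Def_Transfer

/-!
Suzuki groups, part 15: elementary abelian TI subgroups.
-/

set_option autoImplicit false
set_option linter.unusedSectionVars false
set_option linter.unusedSimpArgs false
open scoped LinearAlgebra.Projectivization Matrix Pointwise

namespace Cfsg.Agent.Lib.SuzukiTI

open Cfsg.Agent.Lib.SuzukiOvoid Cfsg.Agent.Lib.SuzukiGroup Cfsg.Agent.Lib.SuzukiFin
  Cfsg.Agent.Lib.SuzukiStab Cfsg.Agent.Lib.SuzukiSyl Cfsg.Agent.Lib.SuzukiPts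
  Cfsg.Agent.Lib.SuzukiTor Cfsg.Agent.Lib.SuzukiNoFix Cfsg.Agent.Lib.TICount
  Cfsg.Agent.Lib.SuzukiCount Cfsg.Agent.Lib.SuzukiTori Cfsg.Agent.Lib.SuzukiSubf

variable {F : Type*} [Field F] [CharP F 2] (θ : F ≃+* F) (hθ : ∀ x, θ (θ x) = x ^ 2)
  (hne : ∃ x, θ x ≠ x ^ 2)

theorem Uz_mul (b d : F) : Ug θ hθ 0 b * Ug θ hθ 0 d = Ug θ hθ 0 (b + d) := by
  rw [Ug_mul]; simp

theorem Uz_inv (b : F) : (Ug θ hθ 0 b)⁻¹ = Ug θ hθ 0 b := by
  rw [Ug_inv]; simp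

/-- the additive subgroup attached to a subgroup of the centre of the Sylow subgroup at `k • ∞` -/
def addOf (E : Subgroup (Gz θ)) (k : Gz θ) : AddSubgroup F where
  carrier := {b | k * Ug θ hθ 0 b * k⁻¹ ∈ E}
  add_mem' := by
    intro b d hb hd
    change k * Ug θ hθ 0 b * k⁻¹ ∈ E at hb
    change k * Ug θ hθ 0 d * k⁻¹ ∈ E at hd
    change k * Ug θ hθ 0 (b + d) * k⁻¹ ∈ E
    rw [← Uz_mul θ hθ]
    have := mul_mem hb hd
    rwa [show k * Ug θ hθ 0 b * k⁻¹ * (k * Ug θ hθ 0 d * k⁻¹) =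
      k * (Ug θ hθ 0 b * Ug θ hθ 0 d) * k⁻¹ by group] at this
  zero_mem' := by
    change k * Ug θ hθ 0 0 * k⁻¹ ∈ E
    rw [Ug_zero, mul_one, mul_inv_cancel]; exact one_mem _
  neg_mem' := by
    intro b hb
    change k * Ug θ hθ 0 (-b) * k⁻¹ ∈ E
    rw [cneg]; exact hb

theorem mem_addOf {E : Subgroup (Gz θ)} {k : Gz θ} {b : F} :
    b ∈ addOf θ hθ E k ↔ k * Ug θ hθ 0 b * k⁻¹ ∈ E := Iff.rfl

/-- the subgroup `{Ug 0 b | b ∈ K}` -/
def ofAdd (K : AddSubgroup F) : Subgroup (Gz θ) where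
  carrier := {g | ∃ b ∈ K, g = Ug θ hθ 0 b}
  mul_mem' := by
    rintro _ _ ⟨b, hb, rfl⟩ ⟨d, hd, rfl⟩
    exact ⟨b + d, K.add_mem hb hd, Uz_mul θ hθ b d⟩
  one_mem' := ⟨0, K.zero_mem, (Ug_zero θ hθ).symm⟩
  inv_mem' := by
    rintro _ ⟨b, hb, rfl⟩
    exact ⟨b, hb, Uz_inv θ hθ b⟩

theorem mem_ofAdd {K : AddSubgroup F} {g : Gz θ} : g ∈ ofAdd θ hθ K ↔ ∃ b ∈ K, g = Ug θ hθ 0 b :=
  Iff.rfl

section
variable [Finite F]
include hθ hne

theorem ti_iff {N : ℕ} (hF : Nat.card F = 2 ^ N) (n : ℕ) (hn : n ≠ 0) :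
    (∃ E : Subgroup (Gz θ), Cfsg.IsElementaryAbelian 2 E ∧ Nat.card E = 2 ^ n ∧
      ∀ x : Gz θ, E ⊓ E.map (MulAut.conj x).toMonoidHom ≠ ⊥ →
        x ∈ Subgroup.normalizer (E : Set (Gz θ))) ↔ n ∣ N := by
  constructor
  · rintro ⟨E, ⟨-, hE⟩, hc, hTI⟩
    have hp : IsPGroup 2 E := IsPGroup.of_card hc
    obtain ⟨p, hle⟩ := two_group_le θ hθ hne hp
    obtain ⟨k, hk⟩ := exists_to θ hθ p
    have key : ∀ e ∈ E, ∃ b, e = k * Ug θ hθ 0 b * k⁻¹ := by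
      intro e he
      have h1 := (mem_Up_iff_conj θ hθ hne hk e).mp (hle he)
      have h2 : (k⁻¹ * e * k) ^ 2 = 1 := by
        have : k⁻¹ * e * k = k⁻¹ * e * k⁻¹⁻¹ := by rw [inv_inv]
        rw [this, conj_pow, hE e he]; group
      obtain ⟨b, hb⟩ := (mem_Z_iff_sq θ hθ h1).mpr h2
      exact ⟨b, by rw [← hb]; group⟩
    have hcV : Nat.card (addOf θ hθ E k) = 2 ^ n := by
      rw [← hc]
      apply Nat.card_congr
      refine Equiv.ofBijective (fun b : addOf θ hθ E k => (⟨k * Ug θ hθ 0 b * k⁻¹, b.2⟩ : E)) ⟨?_, ?_⟩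
      · intro b d h
        have h1 : k * Ug θ hθ 0 b * k⁻¹ = k * Ug θ hθ 0 d * k⁻¹ := congrArg Subtype.val h
        exact Subtype.ext (Ug_inj θ hθ (mul_left_cancel (mul_right_cancel h1))).2
      · rintro ⟨e, he⟩
        obtain ⟨b, rfl⟩ := key e he
        exact ⟨⟨b, he⟩, rfl⟩
    have hV : ∀ μ : F, μ ≠ 0 → (∃ v ∈ addOf θ hθ E k, v ≠ 0 ∧ μ * v ∈ addOf θ hθ E k) →
        ∀ v ∈ addOf θ hθ E k, μ * v ∈ addOf θ hθ E k := by
      rintro μ hμ ⟨v, hv, hv0, hμv⟩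
      obtain ⟨l, hl⟩ := mulθ_surj θ hθ μ
      have hl0 : l ≠ 0 := by rintro rfl; rw [zero_mul] at hl; exact hμ hl.symm
      set κ := Units.mk0 l hl0
      have hκ : (κ : F) * θ κ = μ := hl
      have hconj : ∀ w : F, (k * Hg θ hθ κ * k⁻¹) * (k * Ug θ hθ 0 w * k⁻¹) *
          (k * Hg θ hθ κ * k⁻¹)⁻¹ = k * Ug θ hθ 0 (μ * w) * k⁻¹ := by
        intro w
        have h1 := Hg_conj θ hθ κ 0 w
        rw [mul_zero, hκ] at h1
        rw [← h1]; group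
      have hx : k * Hg θ hθ κ * k⁻¹ ∈ Subgroup.normalizer (E : Set (Gz θ)) := by
        apply hTI
        intro hbot
        have h1 : k * Ug θ hθ 0 (μ * v) * k⁻¹ ∈
            E ⊓ E.map (MulAut.conj (k * Hg θ hθ κ * k⁻¹)).toMonoidHom :=
          ⟨hμv, ⟨_, hv, hconj v⟩⟩
        rw [hbot, Subgroup.mem_bot] at h1
        have h2 : Ug θ hθ 0 (μ * v) = 1 := by
          have : Ug θ hθ 0 (μ * v) = k⁻¹ * (k * Ug θ hθ 0 (μ * v) * k⁻¹) * k := by group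
          rw [this, h1]; group
        exact mul_ne_zero hμ hv0 ((Ug_eq_one θ hθ).mp h2).2
      intro w hw
      rw [mem_addOf, ← hconj]
      exact (Subgroup.mem_normalizer_iff.mp hx _).mp hw
    obtain ⟨v0, hv0⟩ : ∃ v0 : addOf θ hθ E k, v0 ≠ 0 := by
      have : Nontrivial (addOf θ hθ E k) := by
        rw [← Finite.one_lt_card_iff_nontrivial, hcV]
        exact Nat.one_lt_two_pow hn
      exact exists_ne 0
    have h0 : (v0 : F) ≠ 0 := fun h => hv0 (Subtype.ext h)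
    exact dvd_of_subfield hF (tiField _ hV v0 v0.2 h0) (by rw [card_tiField, hcV])
  · intro h
    obtain ⟨K, hK⟩ := exists_subfield hn hF h
    refine ⟨ofAdd θ hθ K.toAddSubgroup, ⟨?_, ?_⟩, ?_, ?_⟩
    · refine ⟨⟨?_⟩⟩
      rintro ⟨_, b, hb, rfl⟩ ⟨_, d, hd, rfl⟩
      apply Subtype.ext
      show Ug θ hθ 0 b * Ug θ hθ 0 d = Ug θ hθ 0 d * Ug θ hθ 0 b
      rw [Uz_mul, Uz_mul, add_comm]
    · rintro _ ⟨b, hb, rfl⟩
      rw [Ug_sq]; simp [Ug_zero]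
    · rw [← hK]
      apply Nat.card_congr
      symm
      refine Equiv.ofBijective (fun b : K => (⟨Ug θ hθ 0 b, b, b.2, rfl⟩ :
        ofAdd θ hθ K.toAddSubgroup)) ⟨?_, ?_⟩
      · intro b d h
        exact Subtype.ext (Ug_inj θ hθ (congrArg Subtype.val h)).2
      · rintro ⟨_, b, hb, rfl⟩
        exact ⟨⟨b, hb⟩, rfl⟩
    · intro x hx
      rw [Ne, Subgroup.eq_bot_iff_forall] at hx
      push Not at hx
      obtain ⟨y, ⟨⟨b, hb, rfl⟩, ⟨_, ⟨d, hd, rfl⟩, h1⟩⟩, h2⟩ := hx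
      change x * Ug θ hθ 0 d * x⁻¹ = Ug θ hθ 0 b at h1
      have hd1 : Ug θ hθ 0 d ≠ 1 := by
        intro h
        rw [h, mul_one, mul_inv_cancel] at h1
        exact h2 h1.symm
      have hfix := fix_of_conj θ hθ hne (Ug_mem θ hθ 0 d) hd1 (h1 ▸ Ug_mem θ hθ 0 b)
      obtain ⟨e, f, κ, rfl⟩ := onePt θ hθ hne hfix
      have hact : ∀ w : F, (Ug θ hθ e f * Hg θ hθ κ) * Ug θ hθ 0 w * (Ug θ hθ e f * Hg θ hθ κ)⁻¹ =
          Ug θ hθ 0 (κ * θ κ * w) := by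
        intro w
        rw [Ug_Hg_conj]; simp
      rw [hact] at h1
      have h3 := (Ug_inj θ hθ h1).2
      have hd0 : d ≠ 0 := fun h => hd1 (by rw [h, Ug_zero])
      have hμ : (κ : F) * θ κ ∈ K := by
        have : (κ : F) * θ κ = b / d := by rw [← h3]; field_simp
        rw [this]
        exact K.div_mem hb hd
      have hμ0 : (κ : F) * θ κ ≠ 0 := mul_ne_zero κ.ne_zero ((map_ne_zero θ).mpr κ.ne_zero)
      rw [Subgroup.mem_normalizer_iff]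
      intro g
      constructor
      · rintro ⟨w, hw, rfl⟩
        rw [hact]
        exact ⟨_, K.mul_mem hμ hw, rfl⟩
      · rintro ⟨w, hw, h4⟩
        refine ⟨(κ * θ κ)⁻¹ * w, K.mul_mem (K.inv_mem hμ) hw, ?_⟩
        have h5 := hact ((κ * θ κ)⁻¹ * w)
        rw [mul_inv_cancel_left₀ hμ0, ← h4] at h5
        exact (mul_left_cancel (mul_right_cancel h5)).symm

end

end Cfsg.Agent.Lib.SuzukiTI
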