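import Cfsg.Agent.Lib.SuzukiStr
import Cfsg.Agent.Lib.SuzukiTI

/-!
Suzuki groups, part 17: subfield subgroups and the structure of arbitrary subgroups.
-/

set_option autoImplicit false
set_option linter.unusedSectionVars false
set_option linter.unusedSimpArgs false
open scoped LinearAlgebra.Projectivization Matrix Pointwise

namespace Cfsg.Agent.Lib.SuzukiStr2

open Cfsg.Agent.Lib.SuzukiOvoid Cfsg.Agent.Lib.SuzukiGroup Cfsg.Agent.Lib.SuzukiFin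
  Cfsg.Agent.Lib.SuzukiStab Cfsg.Agent.Lib.SuzukiSyl Cfsg.Agent.Lib.SuzukiPts
  Cfsg.Agent.Lib.SuzukiTor Cfsg.Agent.Lib.SuzukiNoFix Cfsg.Agent.Lib.TICount
  Cfsg.Agent.Lib.SuzukiCount Cfsg.Agent.Lib.SuzukiTori Cfsg.Agent.Lib.SuzukiStr

variable {F : Type*} [Field F] [CharP F 2] (θ : F ≃+* F) (hθ : ∀ x, θ (θ x) = x ^ 2)
  (hne : ∃ x, θ x ≠ x ^ 2)

/-! ### subfield subgroups -/

/-- the points of the ovoid over the subfield `K` -/
def subPts (K : Subfield F) : Set (ov θ) := {p | p = inf θ ∨ ∃ x ∈ K, ∃ y ∈ K, p = pt θ x y}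

theorem pt_mem_subPts {K : Subfield F} {x y : F} : pt θ x y ∈ subPts θ K ↔ x ∈ K ∧ y ∈ K := by
  constructor
  · rintro (h | ⟨a, ha, b, hb, h⟩)
    · exact absurd h (pt_ne_inf θ x y)
    · obtain ⟨rfl, rfl⟩ := pt_inj θ h
      exact ⟨ha, hb⟩
  · rintro ⟨h1, h2⟩
    exact Or.inr ⟨x, h1, y, h2, rfl⟩

theorem inf_mem_subPts (K : Subfield F) : inf θ ∈ subPts θ K := Or.inl rfl

/-- the subfield subgroup -/
def SzSub (K : Subfield F) : Subgroup (Gz θ) := MulAction.stabilizer (Gz θ) (subPts θ K)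

theorem mem_SzSub {K : Subfield F} {g : Gz θ} : g ∈ SzSub θ K ↔ g • subPts θ K = subPts θ K :=
  Iff.rfl

theorem smul_mem_subPts {K : Subfield F} {g : Gz θ} (hg : g ∈ SzSub θ K) {p : ov θ} :
    g • p ∈ subPts θ K ↔ p ∈ subPts θ K := by
  rw [mem_SzSub] at hg
  nth_rw 1 [← hg]
  exact Set.smul_mem_smul_set_iff

/-- a criterion for membership -/
theorem mem_SzSub_of {K : Subfield F} {g : Gz θ} (h1 : ∀ p ∈ subPts θ K, g • p ∈ subPts θ K)
    (h2 : ∀ p ∈ subPts θ K, g⁻¹ • p ∈ subPts θ K) : g ∈ SzSub θ K := by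
  rw [mem_SzSub]
  apply Set.Subset.antisymm
  · rintro _ ⟨p, hp, rfl⟩
    exact h1 p hp
  · intro p hp
    exact ⟨g⁻¹ • p, h2 p hp, smul_inv_smul g p⟩

section
variable {K : Subfield F} (hK : ∀ x ∈ K, θ x ∈ K)
include hK

theorem Ug_mem_SzSub {a b : F} (ha : a ∈ K) (hb : b ∈ K) : Ug θ hθ a b ∈ SzSub θ K := by
  have key : ∀ a b, a ∈ K → b ∈ K → ∀ p ∈ subPts θ K, Ug θ hθ a b • p ∈ subPts θ K := by
    rintro a b ha hb _ (rfl | ⟨x, hx, y, hy, rfl⟩)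
    · rw [Ug_inf]; exact inf_mem_subPts θ K
    · rw [Ug_pt, pt_mem_subPts]
      exact ⟨K.add_mem hx ha, K.add_mem (K.add_mem hy hb) (K.mul_mem (hK a ha) hx)⟩
  refine mem_SzSub_of θ (key a b ha hb) ?_
  rw [Ug_inv]
  exact key _ _ ha (K.add_mem hb (K.mul_mem ha (hK a ha)))

theorem Hg_mem_SzSub {κ : Fˣ} (hκ : (κ : F) ∈ K) : Hg θ hθ κ ∈ SzSub θ K := by
  have key : ∀ κ : Fˣ, (κ : F) ∈ K → ∀ p ∈ subPts θ K, Hg θ hθ κ • p ∈ subPts θ K := by
    rintro κ hκ _ (rfl | ⟨x, hx, y, hy, rfl⟩)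
    · rw [Hg_inf]; exact inf_mem_subPts θ K
    · rw [Hg_pt, pt_mem_subPts]
      exact ⟨K.mul_mem hκ hx, K.mul_mem (K.mul_mem hκ (hK _ hκ)) hy⟩
  refine mem_SzSub_of θ (key κ hκ) ?_
  rw [Hg_inv]
  apply key
  rw [Units.val_inv_eq_inv_val]
  exact K.inv_mem hκ

theorem ff_mem {x y : F} (hx : x ∈ K) (hy : y ∈ K) : ff θ x y ∈ K :=
  K.add_mem (K.add_mem (K.mul_mem hx hy) (K.mul_mem (K.pow_mem hx 2) (hK x hx))) (hK y hy)

theorem Wg_mem_SzSub : Wg θ hθ ∈ SzSub θ K := by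
  have key : ∀ p ∈ subPts θ K, Wg θ hθ • p ∈ subPts θ K := by
    rintro _ (rfl | ⟨x, hx, y, hy, rfl⟩)
    · rw [Wg_inf, pt_mem_subPts]; exact ⟨K.zero_mem, K.zero_mem⟩
    · by_cases h : ff θ x y = 0
      · obtain ⟨rfl, rfl⟩ := SuzukiOvoid.ff_eq_zero θ hθ h
        rw [Wg_zero]; exact inf_mem_subPts θ K
      · rw [Wg_pt θ hθ h, pt_mem_subPts]
        exact ⟨K.div_mem hy (ff_mem θ hK hx hy), K.div_mem hx (ff_mem θ hK hx hy)⟩
  refine mem_SzSub_of θ key ?_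
  have : (Wg θ hθ)⁻¹ = Wg θ hθ := inv_eq_of_mul_eq_one_left (Wg_sq θ hθ)
  rw [this]
  exact key

include hθ hne in
/-- elements of the subfield subgroup fixing `∞` -/
theorem SzSub_B {g : Gz θ} (hg : g ∈ SzSub θ K) (h : g • inf θ = inf θ) :
    ∃ a ∈ K, ∃ b ∈ K, ∃ κ : Fˣ, (κ : F) ∈ K ∧ g = Ug θ hθ a b * Hg θ hθ κ := by
  obtain ⟨a, b, κ, rfl⟩ := onePt θ hθ hne h
  have h1 := (smul_mem_subPts θ hg (p := pt θ 0 0)).mpr
    ((pt_mem_subPts θ).mpr ⟨K.zero_mem, K.zero_mem⟩)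
  rw [mul_smul, Hg_pt, mul_zero, mul_zero, Ug_zero_pt, pt_mem_subPts] at h1
  have h2 := (mul_mem_cancel_left (Ug_mem_SzSub θ hθ hK h1.1 h1.2)).mp hg
  have h3 := (smul_mem_subPts θ h2 (p := pt θ 1 0)).mpr
    ((pt_mem_subPts θ).mpr ⟨K.one_mem, K.zero_mem⟩)
  rw [Hg_pt, pt_mem_subPts, mul_one] at h3
  exact ⟨a, h1.1, b, h1.2, κ, h3.1, rfl⟩

include hθ hne in
/-- Bruhat decomposition of the subfield subgroup -/
theorem SzSub_bruhat {g : Gz θ} (hg : g ∈ SzSub θ K) :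
    (∃ a ∈ K, ∃ b ∈ K, ∃ κ : Fˣ, (κ : F) ∈ K ∧ g = Ug θ hθ a b * Hg θ hθ κ) ∨
    (∃ a ∈ K, ∃ b ∈ K, ∃ c ∈ K, ∃ d ∈ K, ∃ κ : Fˣ, (κ : F) ∈ K ∧
      g = Ug θ hθ a b * Wg θ hθ * (Ug θ hθ c d * Hg θ hθ κ)) := by
  by_cases h : g • inf θ = inf θ
  · exact Or.inl (SzSub_B θ hθ hne hK hg h)
  · right
    obtain ⟨x, y, hxy⟩ := exists_pt θ h
    have h0 : pt θ x y ∈ subPts θ K := by
      rw [← hxy, smul_mem_subPts θ hg]; exact inf_mem_subPts θ K
    rw [pt_mem_subPts] at h0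
    have hUW := mul_mem (Ug_mem_SzSub θ hθ hK h0.1 h0.2) (Wg_mem_SzSub θ hθ hK)
    have h1 : (Ug θ hθ x y * Wg θ hθ)⁻¹ • g • inf θ = inf θ := by
      rw [hxy, inv_smul_eq_iff, mul_smul, Wg_inf, Ug_zero_pt]
    rw [← mul_smul] at h1
    obtain ⟨c, hc, d, hd, κ, hκ, h2⟩ := SzSub_B θ hθ hne hK (mul_mem (inv_mem hUW) hg) h1
    exact ⟨x, h0.1, y, h0.2, c, hc, d, hd, κ, hκ, by rw [← h2, mul_inv_cancel_left]⟩

end

/-! ### subgroups in standard position -/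

/-- the torus part of a subgroup -/
def tor (M : Subgroup (Gz θ)) : Subgroup Fˣ := M.comap (HHom θ hθ)

theorem mem_tor {M : Subgroup (Gz θ)} {κ : Fˣ} : κ ∈ tor θ hθ M ↔ Hg θ hθ κ ∈ M := Iff.rfl

theorem pow_eq_one_iff_mem {F : Type*} [Field F] [Finite F] (C : Subgroup Fˣ) (κ : Fˣ) :
    κ ^ Nat.card C = 1 ↔ κ ∈ C := by
  classical
  have : Fintype Fˣ := Fintype.ofFinite _
  constructor
  · intro h
    by_contra hκ
    have h1 := IsCyclic.card_pow_eq_one_le (α := Fˣ) (n := Nat.card C) Nat.card_pos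
    have h2 : (insert κ (Finset.univ.filter fun x => x ∈ C)) ⊆
        Finset.univ.filter fun x : Fˣ => x ^ Nat.card C = 1 := by
      intro x hx
      rw [Finset.mem_insert] at hx
      rw [Finset.mem_filter]
      refine ⟨Finset.mem_univ _, ?_⟩
      rcases hx with rfl | hx
      · exact h
      · have hxC := (Finset.mem_filter.mp hx).2
        have := pow_card_eq_one' (x := (⟨x, hxC⟩ : C))
        exact congrArg Subtype.val this
    have h3 := (Finset.card_le_card h2).trans h1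
    rw [Finset.card_insert_of_notMem (by simp [hκ])] at h3
    have h4 : (Finset.univ.filter fun x => x ∈ C).card = Nat.card C := by
      rw [Nat.card_eq_fintype_card, Fintype.card_subtype]
    omega
  · intro h
    have := pow_card_eq_one' (x := (⟨κ, h⟩ : C))
    exact congrArg Subtype.val this

theorem Uz_order {b : F} (hb : b ≠ 0) : orderOf (Ug θ hθ 0 b) = 2 := by
  apply orderOf_eq_prime
  · rw [Ug_sq, map_zero, zero_mul, Ug_zero]
  · intro h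
    exact hb ((Ug_eq_one θ hθ).mp h).2

section standard
variable [Finite F]
include hθ hne

theorem pow_mulθ {n : ℕ} {x : F} : (x * θ x) ^ n = 1 ↔ x ^ n = 1 := by
  have e : (x * θ x) ^ n = x ^ n * θ (x ^ n) := by rw [mul_pow, map_pow]
  rw [e]
  constructor
  · exact mulθ_eq_one θ hθ
  · intro h; rw [h, map_one, one_mul]

/-- the main structure theorem, in standard position -/
theorem standard {M : Subgroup (Gz θ)} (h01 : Ug θ hθ 0 1 ∈ M)
    (hz : ∃ g ∈ M, g • inf θ = pt θ 0 0)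
    (hi : 1 < Nat.card {s : Gz θ // s ∈ M ∧ orderOf s = 2 ∧ s • inf θ = inf θ}) :
    ∃ K : Subfield F, (∀ x ∈ K, θ x ∈ K) ∧ (∃ x ∈ K, x ≠ 0 ∧ x ≠ 1) ∧ M = SzSub θ K := by
  set n := Nat.card {s : Gz θ // s ∈ M ∧ orderOf s = 2 ∧ s • inf θ = inf θ} with hn
  have hM : ∃ u ∈ M, u ∈ Up θ hθ hne (inf θ) ∧ u ≠ 1 :=
    ⟨Ug θ hθ 0 1, h01, by rw [Up_inf]; exact Ug_mem θ hθ 0 1,
      fun h => one_ne_zero ((Ug_eq_one θ hθ).mp h).2⟩
  have hcount := fun (z : ov θ) (h1 : ∃ g ∈ M, g • inf θ = z) (h2 : z ≠ inf θ) =>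
    count θ hθ hne hM h1 h2
  -- the torus
  obtain ⟨c1, c2', c3⟩ := hcount (pt θ 0 0) hz (pt_ne_inf θ 0 0)
  have hC : Nat.card (tor θ hθ M) = n := by
    rw [hn, ← c1]
    apply Nat.card_congr
    refine Equiv.ofBijective (fun κ : tor θ hθ M => (⟨Hg θ hθ κ, κ.2, Hg_inf θ hθ κ, by
      rw [Hg_pt]; simp⟩ : {x : Gz θ // x ∈ M ∧ x • inf θ = inf θ ∧ x • pt θ 0 0 = pt θ 0 0}))
      ⟨?_, ?_⟩
    · intro a b hab
      exact Subtype.ext (Hg_inj θ hθ (congrArg Subtype.val hab))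
    · rintro ⟨x, hx1, hx2, hx3⟩
      obtain ⟨κ, rfl⟩ := twoPt θ hθ hne hx2 hx3
      exact ⟨⟨κ, hx1⟩, rfl⟩
  have hCpow : ∀ κ : Fˣ, (κ : F) ^ n = 1 ↔ Hg θ hθ κ ∈ M := by
    intro κ
    rw [← mem_tor θ hθ, ← pow_eq_one_iff_mem (tor θ hθ M) κ, hC, Units.ext_iff,
      Units.val_pow_eq_pow_val, Units.val_one]
  -- the centre
  have hV : ∀ b : F, b ≠ 0 → (Ug θ hθ 0 b ∈ M ↔ b ^ n = 1) := by
    intro b hb
    constructor
    · intro h
      obtain ⟨x, hx, hx1, hx2, hx3⟩ := c3 (Ug θ hθ 0 1) (Ug θ hθ 0 b) h01 h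
        (Uz_order θ hθ one_ne_zero) (Uz_order θ hθ hb) (Ug_inf θ hθ _ _) (Ug_inf θ hθ _ _)
      obtain ⟨κ, rfl⟩ := twoPt θ hθ hne hx1 hx2
      rw [Hg_conj] at hx3
      have h1 := (Ug_inj θ hθ hx3).2
      rw [mul_one] at h1
      rw [← h1, pow_mulθ θ hθ hne]
      exact (hCpow κ).mpr hx
    · intro h
      obtain ⟨l, hl⟩ := mulθ_surj θ hθ b
      rw [← hl, pow_mulθ θ hθ hne] at h
      have hl0 : l ≠ 0 := by rintro rfl; rw [zero_mul] at hl; exact hb hl.symm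
      have h1 := (hCpow (Units.mk0 l hl0)).mp h
      have h2 := mul_mem (mul_mem h1 h01) (inv_mem h1)
      rw [Hg_conj, mul_zero, mul_one] at h2
      have h3 : ((Units.mk0 l hl0 : Fˣ) : F) * θ (Units.mk0 l hl0 : Fˣ) = b := hl
      rwa [h3] at h2
  have hn0 : n ≠ 0 := by omega
  have hV' : ∀ b : F, Ug θ hθ 0 b ∈ M ↔ b = 0 ∨ b ^ n = 1 := by
    intro b
    by_cases hb : b = 0
    · rw [hb, Ug_zero]
      exact ⟨fun _ => Or.inl rfl, fun _ => one_mem _⟩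
    · rw [hV b hb]
      exact ⟨Or.inr, fun h => h.resolve_left hb⟩
  let K : Subfield F :=
    { carrier := {x | x = 0 ∨ x ^ n = 1}
      mul_mem' := by
        rintro x y (rfl | hx) (rfl | hy)
        · left; simp
        · left; simp
        · left; simp
        · right; rw [mul_pow, hx, hy, one_mul]
      one_mem' := Or.inr (one_pow n)
      add_mem' := by
        intro x y hx hy
        change x + y = 0 ∨ (x + y) ^ n = 1
        rw [← hV', ← SuzukiTI.Uz_mul]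
        exact mul_mem ((hV' x).mpr hx) ((hV' y).mpr hy)
      zero_mem' := Or.inl rfl
      neg_mem' := by
        intro x hx
        rw [cneg]; exact hx
      inv_mem' := by
        rintro x (rfl | hx)
        · left; simp
        · right; rw [inv_pow, hx, inv_one] }
  have hKm : ∀ x : F, x ∈ K ↔ x = 0 ∨ x ^ n = 1 := fun x => Iff.rfl
  have hVK : ∀ b : F, Ug θ hθ 0 b ∈ M ↔ b ∈ K := hV'
  have hHK : ∀ κ : Fˣ, Hg θ hθ κ ∈ M ↔ (κ : F) ∈ K := by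
    intro κ
    rw [hKm, ← hCpow]
    exact ⟨Or.inr, fun h => h.resolve_left κ.ne_zero⟩
  have hθK : ∀ x ∈ K, θ x ∈ K := by
    rintro x (rfl | hx)
    · rw [map_zero]; exact K.zero_mem
    · right; rw [← map_pow, hx, map_one]
  have hKθ : ∀ x : F, x * θ x ∈ K → x ∈ K := by
    intro x hx
    rcases hx with hx | hx
    · rcases mul_eq_zero.mp hx with h | h
      · rw [h]; exact K.zero_mem
      · rw [(map_eq_zero θ).mp h]; exact K.zero_mem
    · right; exact (pow_mulθ θ hθ hne).mp hx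
  obtain ⟨κ0, hκ0, hκ01⟩ : ∃ κ : Fˣ, κ ∈ tor θ hθ M ∧ κ ≠ 1 := by
    have h1 : Nontrivial (tor θ hθ M) := by
      rw [← Finite.one_lt_card_iff_nontrivial, hC]; exact hi
    obtain ⟨κ, hκ⟩ := exists_ne (1 : tor θ hθ M)
    exact ⟨κ, κ.2, fun h => hκ (Subtype.ext h)⟩
  have hκ0K : (κ0 : F) ∈ K := (hHK κ0).mp hκ0
  have hκ0' : (κ0 : F) ≠ 1 := fun h => hκ01 (Units.ext h)
  -- elements fixing ∞
  have G1 : ∀ (a b : F) (κ : Fˣ), Ug θ hθ a b * Hg θ hθ κ ∈ M → Hg θ hθ κ ∈ M ∧ Ug θ hθ a b ∈ M := by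
    intro a b κ h
    have h1 := mul_mem (mul_mem h h01) (inv_mem h)
    rw [Ug_Hg_conj] at h1
    simp only [mul_zero, map_zero, zero_mul, add_zero, mul_one] at h1
    rw [hVK] at h1
    have h2 := (hHK κ).mpr (hKθ _ h1)
    exact ⟨h2, (mul_mem_cancel_right h2).mp h⟩
  -- second points
  have G2 : ∀ x y : F, (∃ g ∈ M, g • inf θ = pt θ x y) → ∃ κ : Fˣ, (κ : F) ∈ K ∧ κ ≠ 1 ∧
      Ug θ hθ (x + κ * x) (y + κ * θ κ * (y + x * θ x) + θ x * (κ * x)) ∈ M := by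
    intro x y h
    obtain ⟨d1, -, -⟩ := hcount (pt θ x y) h (pt_ne_inf θ x y)
    have h1 : Nontrivial {g : Gz θ // g ∈ M ∧ g • inf θ = inf θ ∧ g • pt θ x y = pt θ x y} := by
      rw [← Finite.one_lt_card_iff_nontrivial, d1]; exact hi
    obtain ⟨⟨g, hg1, hg2, hg3⟩, hg⟩ := exists_ne
      (⟨1, one_mem M, one_smul _ _, one_smul _ _⟩ :
        {g : Gz θ // g ∈ M ∧ g • inf θ = inf θ ∧ g • pt θ x y = pt θ x y})
    have hg4 : g ≠ 1 := fun h => hg (Subtype.ext h)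
    obtain ⟨κ, hκ⟩ := twoPt θ hθ hne (g := (Ug θ hθ x y)⁻¹ * g * Ug θ hθ x y)
      (by rw [mul_smul, mul_smul, Ug_inf, hg2, inv_smul_eq_iff, Ug_inf])
      (by rw [mul_smul, mul_smul, Ug_zero_pt, hg3, inv_smul_eq_iff, Ug_zero_pt])
    have h2 : g = Ug θ hθ (x + κ * x) (y + κ * θ κ * (y + x * θ x) + θ x * (κ * x)) *
        Hg θ hθ κ := by
      have h3 : g = Ug θ hθ x y * (Hg θ hθ κ * (Ug θ hθ x y)⁻¹ * (Hg θ hθ κ)⁻¹) * Hg θ hθ κ := by
        rw [← hκ]; group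
      rw [h3, Ug_inv, Hg_conj, Ug_mul]
    rw [h2] at hg1
    obtain ⟨h4, h5⟩ := G1 _ _ _ hg1
    refine ⟨κ, (hHK κ).mp h4, ?_, h5⟩
    rintro rfl
    apply hg4
    rw [Hg_one] at hκ
    have : g = Ug θ hθ x y * ((Ug θ hθ x y)⁻¹ * g * Ug θ hθ x y) * (Ug θ hθ x y)⁻¹ := by group
    rw [this, hκ]; group
  have G3 : ∀ a b : F, Ug θ hθ a b ∈ M → a ∈ K := by
    intro a b h
    have h1 := pow_mem h 2
    rw [Ug_sq, hVK, mul_comm] at h1
    exact hKθ a h1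
  have hκne : ∀ κ : Fˣ, κ ≠ 1 → (1 : F) + κ ≠ 0 ∧ (1 : F) + κ * θ κ ≠ 0 := by
    intro κ h
    constructor
    · intro h1
      apply h
      apply Units.ext
      have h2 : (κ : F) - 1 = 0 := by rw [csub, add_comm]; exact h1
      exact sub_eq_zero.mp h2
    · intro h1
      apply h
      apply Units.ext
      have h2 : (κ : F) * θ κ - 1 = 0 := by rw [csub, add_comm]; exact h1
      exact mulθ_eq_one θ hθ (sub_eq_zero.mp h2)
  -- points of the orbit have first coordinate in K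
  have G4 : ∀ x y : F, (∃ g ∈ M, g • inf θ = pt θ x y) → x ∈ K := by
    intro x y h
    obtain ⟨κ, hκ, hκ1, h1⟩ := G2 x y h
    have h2 := G3 _ _ h1
    have h3 : x = (x + κ * x) / (1 + κ) := by
      have := (hκne κ hκ1).1
      field_simp
    rw [h3]
    exact K.div_mem h2 (K.add_mem K.one_mem hκ)
  -- the swap
  obtain ⟨μ, hμ⟩ : ∃ μ : Fˣ, Wg θ hθ * Hg θ hθ μ ∈ M := by
    have h1 : Nonempty {s : Gz θ // s ∈ M ∧ orderOf s = 2 ∧ s • inf θ = pt θ 0 0} := by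
      have h2 : 0 < Nat.card {s : Gz θ // s ∈ M ∧ orderOf s = 2 ∧ s • inf θ = pt θ 0 0} := by
        rw [c2']; omega
      exact (Nat.card_pos_iff.mp h2).1
    obtain ⟨s, hs1, hs2, hs3⟩ := h1
    have hs4 : s • pt θ 0 0 = inf θ := by
      rw [← hs3, ← mul_smul, ← sq, ← hs2, pow_orderOf_eq_one, one_smul]
    obtain ⟨μ, hμ⟩ := twoPt θ hθ hne (g := Wg θ hθ * s)
      (by rw [mul_smul, hs3, Wg_zero]) (by rw [mul_smul, hs4, Wg_inf])
    refine ⟨μ, ?_⟩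
    rw [← hμ, ← mul_assoc, Wg_sq, one_mul]
    exact hs1
  have orb : ∀ g ∈ M, ∀ p : ov θ, (∃ k ∈ M, k • inf θ = p) → ∃ k ∈ M, k • inf θ = g • p := by
    rintro g hg _ ⟨k, hk, rfl⟩
    exact ⟨g * k, mul_mem hg hk, mul_smul _ _ _⟩
  have orbU : ∀ a b, Ug θ hθ a b ∈ M → ∃ k ∈ M, k • inf θ = pt θ a b := by
    intro a b h
    have := orb _ h _ hz
    rwa [Ug_zero_pt] at this
  -- V₁ ≠ 0
  obtain ⟨a0, b0, ha0, ha0M⟩ : ∃ a0 b0, a0 ≠ 0 ∧ Ug θ hθ a0 b0 ∈ M := by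
    have h1 := orb _ hμ _ (orbU 0 1 h01)
    have hy0 : (μ : F) * θ μ ≠ 0 := mul_ne_zero μ.ne_zero ((map_ne_zero θ).mpr μ.ne_zero)
    have hff : ff θ 0 ((μ : F) * θ μ) = θ ((μ : F) * θ μ) := by simp [ff]
    have hff0 : ff θ 0 ((μ : F) * θ μ) ≠ 0 := by rw [hff]; exact (map_ne_zero θ).mpr hy0
    rw [mul_smul, Hg_pt, mul_zero, mul_one, Wg_pt θ hθ hff0, zero_div] at h1
    obtain ⟨κ, hκ, hκ1, h2⟩ := G2 _ _ h1
    refine ⟨_, _, ?_, h2⟩
    have h3 : (μ : F) * θ μ / ff θ 0 ((μ : F) * θ μ) ≠ 0 := div_ne_zero hy0 hff0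
    have h4 := (hκne κ hκ1).1
    intro h5
    have : ((μ : F) * θ μ / ff θ 0 ((μ : F) * θ μ)) * (1 + κ) = 0 := by linear_combination h5
    rcases mul_eq_zero.mp this with h | h
    · exact h3 h
    · exact h4 h
  -- scaling
  have scale : ∀ (κ : F), κ ∈ K → κ ≠ 0 → ∀ a b, Ug θ hθ a b ∈ M →
      Ug θ hθ (κ * a) (κ * θ κ * b) ∈ M := by
    intro κ hκ hκ0 a b h
    have h1 := (hHK (Units.mk0 κ hκ0)).mpr hκ
    have h2 := mul_mem (mul_mem h1 h) (inv_mem h1)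
    rwa [Hg_conj] at h2
  obtain ⟨β, hβ⟩ : ∃ β, Ug θ hθ 1 β ∈ M := by
    have h1 := scale a0⁻¹ (K.inv_mem (G3 _ _ ha0M)) (inv_ne_zero ha0) _ _ ha0M
    rw [inv_mul_cancel₀ ha0] at h1
    exact ⟨_, h1⟩
  have diff : ∀ c d1 d2, Ug θ hθ c d1 ∈ M → Ug θ hθ c d2 ∈ M → d1 + d2 ∈ K := by
    intro c d1 d2 h1 h2
    have h3 := mul_mem h1 (inv_mem h2)
    rw [Ug_inv, Ug_mul] at h3
    have e1 : c + c = 0 := by char2
    have e2 : d1 + (d2 + c * θ c) + θ c * c = d1 + d2 := by char2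
    rw [e1, e2] at h3
    exact (hVK _).mp h3
  have hβK : β ∈ K := by
    set l : F := (κ0 : F) with hl
    have hl0 : l ≠ 0 := κ0.ne_zero
    have hl1 : (1 : F) + l ≠ 0 := (hκne κ0 hκ01).1
    have h1 := scale l hκ0K hl0 _ _ hβ
    have h2 := mul_mem hβ h1
    rw [Ug_mul, mul_one, map_one, one_mul] at h2
    have h3 := scale (1 + l) (K.add_mem K.one_mem hκ0K) hl1 _ _ hβ
    rw [mul_one] at h3
    have h4 := diff _ _ _ h2 h3
    have h5 : β + l * θ l * β + l + (1 + l) * θ (1 + l) * β = l + (l + θ l) * β := by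
      rw [map_add, map_one]; char2
    rw [h5] at h4
    have h6 : l + θ l ≠ 0 := by
      intro h
      have : θ l = l := by
        have h2 : θ l - l = 0 := by rw [csub]; linear_combination h
        linear_combination h2
      rcases fix_eq θ hθ this with h | h
      · exact hl0 h
      · exact hκ0' h
    have h7 : (l + θ l) * β ∈ K := by
      have := K.sub_mem h4 hκ0K
      rwa [add_sub_cancel_left] at this
    have h8 : β = ((l + θ l) * β) / (l + θ l) := by field_simp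
    rw [h8]
    exact K.div_mem h7 (K.add_mem hκ0K (hθK _ hκ0K))
  -- the unipotent part
  have hT : ∀ a b, Ug θ hθ a b ∈ M ↔ a ∈ K ∧ b ∈ K := by
    intro a b
    have aux : ∀ a, a ∈ K → ∃ d ∈ K, Ug θ hθ a d ∈ M := by
      intro a ha
      by_cases h0 : a = 0
      · exact ⟨0, K.zero_mem, by rw [h0, Ug_zero]; exact one_mem _⟩
      · have := scale a ha h0 _ _ hβ
        rw [mul_one] at this
        exact ⟨_, K.mul_mem (K.mul_mem ha (hθK _ ha)) hβK, this⟩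
    constructor
    · intro h
      have ha := G3 _ _ h
      obtain ⟨d, hd, hd2⟩ := aux a ha
      have h1 := diff _ _ _ h hd2
      have := K.sub_mem h1 hd
      rw [add_sub_cancel_right] at this
      exact ⟨ha, this⟩
    · rintro ⟨ha, hb⟩
      obtain ⟨d, hd, hd2⟩ := aux a ha
      have h1 := (hVK (b + d)).mpr (K.add_mem hb hd)
      have h2 := mul_mem hd2 h1
      rw [Ug_mul, add_zero, mul_zero, add_zero] at h2
      have : d + (b + d) = b := by char2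
      rwa [this] at h2
  have G5 : ∀ x y : F, (∃ g ∈ M, g • inf θ = pt θ x y) → x ∈ K ∧ y ∈ K := by
    intro x y h
    have hx := G4 x y h
    refine ⟨hx, ?_⟩
    obtain ⟨κ, hκ, hκ1, h1⟩ := G2 x y h
    have h2 := ((hT _ _).mp h1).2
    have hk2 := K.mul_mem hκ (hθK _ hκ)
    have h3 : y * (1 + κ * θ κ) ∈ K := by
      have h4 : y * (1 + κ * θ κ) = (y + κ * θ κ * (y + x * θ x) + θ x * (κ * x)) -
          (κ * θ κ * (x * θ x) + θ x * (κ * x)) := by ring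
      rw [h4]
      exact K.sub_mem h2 (K.add_mem (K.mul_mem hk2 (K.mul_mem hx (hθK _ hx)))
        (K.mul_mem (hθK _ hx) (K.mul_mem hκ hx)))
    have h5 : y = (y * (1 + κ * θ κ)) / (1 + κ * θ κ) := by
      have := (hκne κ hκ1).2
      field_simp
    rw [h5]
    exact K.div_mem h3 (K.add_mem K.one_mem hk2)
  have hμK : (μ : F) ∈ K := by
    have h1 := orb _ hμ _ (orbU 1 0 ((hT 1 0).mpr ⟨K.one_mem, K.zero_mem⟩))
    have hff : ff θ (μ : F) 0 = (μ : F) ^ 2 * θ μ := by simp [ff]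
    have hμ0 : (μ : F) ≠ 0 := μ.ne_zero
    have hθμ0 : θ (μ : F) ≠ 0 := (map_ne_zero θ).mpr hμ0
    have hff0 : ff θ (μ : F) 0 ≠ 0 := by
      rw [hff]; exact mul_ne_zero (pow_ne_zero 2 hμ0) hθμ0
    rw [mul_smul, Hg_pt, mul_one, mul_zero, Wg_pt θ hθ hff0] at h1
    have h2 := (G5 _ _ h1).2
    rw [hff] at h2
    have h3 : (μ : F) / ((μ : F) ^ 2 * θ μ) = ((μ : F) * θ μ)⁻¹ := by field_simp
    rw [h3] at h2
    have h4 := K.inv_mem h2
    rw [inv_inv] at h4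
    exact hKθ _ h4
  have hW : Wg θ hθ ∈ M := (mul_mem_cancel_right ((hHK μ).mpr hμK)).mp hμ
  refine ⟨K, hθK, ⟨κ0, hκ0K, κ0.ne_zero, hκ0'⟩, ?_⟩
  apply le_antisymm
  · have hsub : ∀ g ∈ M, ∀ p ∈ subPts θ K, g • p ∈ subPts θ K := by
      intro g hg p hp
      have h1 : ∃ k ∈ M, k • inf θ = p := by
        rcases hp with rfl | ⟨x, hx, y, hy, rfl⟩
        · exact ⟨1, one_mem _, one_smul _ _⟩
        · exact orbU x y ((hT x y).mpr ⟨hx, hy⟩)
      have h2 := orb g hg p h1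
      by_cases h3 : g • p = inf θ
      · rw [h3]; exact inf_mem_subPts θ K
      · obtain ⟨x, y, hxy⟩ := exists_pt θ h3
        rw [hxy] at h2 ⊢
        exact (pt_mem_subPts θ).mpr (G5 x y h2)
    intro g hg
    exact mem_SzSub_of θ (hsub g hg) (hsub _ (inv_mem hg))
  · intro g hg
    rcases SzSub_bruhat θ hθ hne hθK hg with ⟨a, ha, b, hb, κ, hκ, rfl⟩ |
      ⟨a, ha, b, hb, c, hc, d, hd, κ, hκ, rfl⟩
    · exact mul_mem ((hT a b).mpr ⟨ha, hb⟩) ((hHK κ).mpr hκ)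
    · exact mul_mem (mul_mem ((hT a b).mpr ⟨ha, hb⟩) hW)
        (mul_mem ((hT c d).mpr ⟨hc, hd⟩) ((hHK κ).mpr hκ))

end standard

end Cfsg.Agent.Lib.SuzukiStr2
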