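import Cfsg.Agent.Lib.SuzukiStr2

/-!
Suzuki groups, part 18: the subgroup structure theorem; embeddings attached to field embeddings.
-/

set_option autoImplicit false
set_option linter.unusedSectionVars false
set_option linter.unusedSimpArgs false
open scoped LinearAlgebra.Projectivization Matrix Pointwise

namespace Cfsg.Agent.Lib.SuzukiStr3

open Cfsg.Agent.Lib.SuzukiOvoid Cfsg.Agent.Lib.SuzukiGroup Cfsg.Agent.Lib.SuzukiFin
  Cfsg.Agent.Lib.SuzukiStab Cfsg.Agent.Lib.SuzukiSyl Cfsg.Agent.Lib.SuzukiPts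
  Cfsg.Agent.Lib.SuzukiTor Cfsg.Agent.Lib.SuzukiNoFix Cfsg.Agent.Lib.TICount
  Cfsg.Agent.Lib.SuzukiCount Cfsg.Agent.Lib.SuzukiTori Cfsg.Agent.Lib.SuzukiStr
  Cfsg.Agent.Lib.SuzukiStr2

variable {F : Type*} [Field F] [CharP F 2] (θ : F ≃+* F) (hθ : ∀ x, θ (θ x) = x ^ 2)
  (hne : ∃ x, θ x ≠ x ^ 2)

section
variable [Finite F]
include hθ hne

theorem mem_map_conj {M : Subgroup (Gz θ)} {k g : Gz θ} :
    g ∈ M.map (MulAut.conj k).toMonoidHom ↔ k⁻¹ * g * k ∈ M := by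
  constructor
  · rintro ⟨x, hx, rfl⟩
    show k⁻¹ * (k * x * k⁻¹) * k ∈ M
    rwa [show k⁻¹ * (k * x * k⁻¹) * k = x by group]
  · intro h
    exact ⟨_, h, by show k * (k⁻¹ * g * k) * k⁻¹ = g; group⟩

theorem map_map_conj {M : Subgroup (Gz θ)} {k : Gz θ} :
    (M.map (MulAut.conj k⁻¹).toMonoidHom).map (MulAut.conj k).toMonoidHom = M := by
  ext g
  rw [mem_map_conj θ hθ hne, mem_map_conj θ hθ hne, inv_inv,
    show k * (k⁻¹ * g * k) * k⁻¹ = g by group]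

/-- the structure of subgroups of the Suzuki group -/
theorem struct (M : Subgroup (Gz θ)) :
    (∃ p : ov θ, M ≤ MulAction.stabilizer (Gz θ) p) ∨
    (∃ c ∈ M, IsTor θ hθ hne c ∧
      M ≤ Subgroup.normalizer (Subgroup.centralizer {c} : Set (Gz θ))) ∨
    (∃ (K : Subfield F) (k : Gz θ), (∀ x ∈ K, θ x ∈ K) ∧ (∃ x ∈ K, x ≠ 0 ∧ x ≠ 1) ∧
      M = (SzSub θ K).map (MulAut.conj k).toMonoidHom) := by
  by_cases hodd : Odd (Nat.card M)
  · by_cases hb : M = ⊥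
    · left
      exact ⟨inf θ, by rw [hb]; exact bot_le⟩
    · right; left
      exact odd_case θ hθ hne hodd hb
  · rw [Nat.not_odd_iff_even, even_iff_two_dvd] at hodd
    obtain ⟨s, hs⟩ := exists_prime_orderOf_dvd_card' 2 hodd
    have hs2 : orderOf (s : Gz θ) = 2 := by rw [Subgroup.orderOf_coe, hs]
    have hs1 : (s : Gz θ) ≠ 1 := by
      intro h; rw [h, orderOf_one] at hs2; omega
    obtain ⟨y, hy⟩ := exists_Up θ hθ hne hs2
    by_cases hfix : ∀ g ∈ M, g • y = y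
    · left; exact ⟨y, hfix⟩
    right
    push Not at hfix
    have hMy : ∃ u ∈ M, u ∈ Up θ hθ hne y ∧ u ≠ 1 := ⟨s, s.2, hy, hs1⟩
    have hpos : 0 < Nat.card {s : Gz θ // s ∈ M ∧ orderOf s = 2 ∧ s • y = y} := by
      rw [Nat.card_pos_iff]
      exact ⟨⟨⟨s, s.2, hs2, Up_fix θ hθ hne hy⟩⟩, inferInstance⟩
    by_cases hone : Nat.card {s : Gz θ // s ∈ M ∧ orderOf s = 2 ∧ s • y = y} = 1
    · left; exact frob_case θ hθ hne hMy hfix hone
    right
    obtain ⟨g, hg, hgy⟩ := hfix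
    obtain ⟨k, hk1, hk2⟩ := exists_pair θ hθ hgy.symm
    have hsU := (mem_Up_iff_conj θ hθ hne hk1 (s : Gz θ)).mp hy
    have hsc : (k⁻¹ * s * k) ^ 2 = 1 := by
      have : k⁻¹ * s * k = k⁻¹ * s * k⁻¹⁻¹ := by rw [inv_inv]
      rw [this, conj_pow, ← hs2, pow_orderOf_eq_one]; group
    obtain ⟨b, hb⟩ := (mem_Z_iff_sq θ hθ hsU).mpr hsc
    have hb0 : b ≠ 0 := by
      rintro rfl
      rw [Ug_zero] at hb
      apply hs1
      have : (s : Gz θ) = k * (k⁻¹ * s * k) * k⁻¹ := by group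
      rw [this, hb]; group
    obtain ⟨l, hl⟩ := mulθ_surj θ hθ b⁻¹
    have hl0 : l ≠ 0 := by
      rintro rfl; rw [zero_mul] at hl; exact inv_ne_zero hb0 hl.symm
    set h := Hg θ hθ (Units.mk0 l hl0) with hh
    -- k' = k h⁻¹
    set k' := k * h⁻¹ with hk'
    have hk'1 : k' • inf θ = y := by
      rw [hk', mul_smul, inv_smul_eq_iff.mpr (Hg_inf θ hθ _).symm, hk1]
    have hk'2 : k' • pt θ 0 0 = g • y := by
      rw [hk', mul_smul]
      have : h⁻¹ • pt θ 0 0 = pt θ 0 0 := by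
        rw [inv_smul_eq_iff, hh, Hg_pt]; simp
      rw [this, hk2]
    have hmem : ∀ x, x ∈ M.map (MulAut.conj k'⁻¹).toMonoidHom ↔ k' * x * k'⁻¹ ∈ M := by
      intro x
      rw [mem_map_conj θ hθ hne, inv_inv]
    have h01 : Ug θ hθ 0 1 ∈ M.map (MulAut.conj k'⁻¹).toMonoidHom := by
      rw [hmem]
      have h1 := Hg_conj θ hθ (Units.mk0 l hl0) 0 b
      have h2 : ((Units.mk0 l hl0 : Fˣ) : F) * θ (Units.mk0 l hl0 : Fˣ) * b = 1 := by
        show l * θ l * b = 1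
        rw [hl, inv_mul_cancel₀ hb0]
      rw [mul_zero, h2, ← hb] at h1
      rw [← h1, hk', hh]
      have : k * (Hg θ hθ (Units.mk0 l hl0))⁻¹ * (Hg θ hθ (Units.mk0 l hl0) * (k⁻¹ * s * k) *
        (Hg θ hθ (Units.mk0 l hl0))⁻¹) * (k * (Hg θ hθ (Units.mk0 l hl0))⁻¹)⁻¹ = s := by group
      rw [this]
      exact s.2
    have hz : ∃ x ∈ M.map (MulAut.conj k'⁻¹).toMonoidHom, x • inf θ = pt θ 0 0 := by
      refine ⟨k'⁻¹ * g * k', (hmem _).mpr ?_, ?_⟩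
      · rwa [show k' * (k'⁻¹ * g * k') * k'⁻¹ = g by group]
      · rw [mul_smul, mul_smul, hk'1, ← hk'2, inv_smul_smul]
    have hi : 1 < Nat.card {s : Gz θ // s ∈ M.map (MulAut.conj k'⁻¹).toMonoidHom ∧
        orderOf s = 2 ∧ s • inf θ = inf θ} := by
      have e : {s : Gz θ // s ∈ M ∧ orderOf s = 2 ∧ s • y = y} ≃
          {s : Gz θ // s ∈ M.map (MulAut.conj k'⁻¹).toMonoidHom ∧
        orderOf s = 2 ∧ s • inf θ = inf θ} :=
        { toFun := fun s => ⟨k'⁻¹ * s.1 * k', (hmem _).mpr (by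
            rw [show k' * (k'⁻¹ * s.1 * k') * k'⁻¹ = s.1 by group]; exact s.2.1), by
            have := (MulAut.conj k'⁻¹).orderOf_eq s.1
            rw [MulAut.conj_apply, inv_inv] at this
            rw [this]; exact s.2.2.1, by
            rw [mul_smul, mul_smul, hk'1, s.2.2.2, ← hk'1, inv_smul_smul]⟩
          invFun := fun s => ⟨k' * s.1 * k'⁻¹, (hmem _).mp s.2.1, by
            have := (MulAut.conj k').orderOf_eq s.1
            rw [MulAut.conj_apply] at this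
            rw [this]; exact s.2.2.1, by
            have h5 : k'⁻¹ • y = inf θ := by rw [inv_smul_eq_iff, hk'1]
            rw [mul_smul, mul_smul, h5, s.2.2.2, hk'1]⟩
          left_inv := fun s => Subtype.ext (by show k' * (k'⁻¹ * s.1 * k') * k'⁻¹ = s.1; group)
          right_inv := fun s => Subtype.ext (by show k'⁻¹ * (k' * s.1 * k'⁻¹) * k' = s.1; group) }
      rw [← Nat.card_congr e]
      omega
    obtain ⟨K, hK1, hK2, hK3⟩ := standard θ hθ hne h01 hz hi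
    exact ⟨K, k', hK1, hK2, by rw [← hK3, map_map_conj θ hθ hne]⟩

end

/-! ### embeddings -/

section emb
variable {E : Type*} [Field E] [CharP E 2] (ψ : E ≃+* E) (hψ : ∀ x, ψ (ψ x) = x ^ 2)
  (hneE : ∃ x, ψ x ≠ x ^ 2) (ι : E →+* F) (hι : ∀ x, ι (ψ x) = θ (ι x))

include hι in
theorem map_U (a b : E) : Matrix.SpecialLinearGroup.map ι (U ψ a b) = U θ (ι a) (ι b) := by
  apply Subtype.ext
  show ι.mapMatrix (Um ψ a b) = Um θ (ι a) (ι b)
  ext i j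
  fin_cases i <;> fin_cases j <;> simp [Um, ff, hι]

include hι in
theorem map_symm (x : E) : ι (ψ.symm x) = θ.symm (ι x) := by
  apply θ.injective
  rw [← hι, ψ.apply_symm_apply, θ.apply_symm_apply]

include hι in
theorem map_H (κ : Eˣ) : Matrix.SpecialLinearGroup.map ι (H ψ κ) = H θ (Units.map ι κ) := by
  apply Subtype.ext
  show ι.mapMatrix (Hm ψ κ) = Hm θ (Units.map ι κ)
  ext i j
  fin_cases i <;> fin_cases j <;>
    simp [Hm, map_symm θ ψ ι hι, Matrix.diagonal]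

theorem map_W : Matrix.SpecialLinearGroup.map ι (Wm E) = Wm F := by
  apply Subtype.ext
  show ι.mapMatrix (Cfsg.suzukiForm E) = Cfsg.suzukiForm F
  ext i j
  fin_cases i <;> fin_cases j <;> simp [Cfsg.suzukiForm]

include hθ hψ hneE hι in
theorem map_mem (g : Gz ψ) : Matrix.SpecialLinearGroup.map ι (g : Matrix.SpecialLinearGroup (Fin 4) E) ∈ Gz θ := by
  rcases bruhat ψ hψ hneE g with ⟨a, b, κ, h⟩ | ⟨a, b, c, d, κ, h⟩
  · have h1 : (g : Matrix.SpecialLinearGroup (Fin 4) E) = U ψ a b * H ψ κ := congrArg Subtype.val h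
    rw [h1, map_mul, map_U θ ψ ι hι, map_H θ ψ ι hι]
    exact mul_mem (U_mem θ hθ _ _) (H_mem θ hθ _)
  · have h1 : (g : Matrix.SpecialLinearGroup (Fin 4) E) = U ψ a b * Wm E * (U ψ c d * H ψ κ) :=
      congrArg Subtype.val h
    rw [h1, map_mul, map_mul, map_mul, map_U θ ψ ι hι, map_U θ ψ ι hι, map_H θ ψ ι hι,
      map_W]
    exact mul_mem (mul_mem (U_mem θ hθ _ _) (Wm_mem θ hθ))
      (mul_mem (U_mem θ hθ _ _) (H_mem θ hθ _))

/-- the embedding of Suzuki groups attached to an embedding of fields -/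
def emb : Gz ψ →* Gz θ where
  toFun g := ⟨Matrix.SpecialLinearGroup.map ι (g : Matrix.SpecialLinearGroup (Fin 4) E),
    map_mem θ hθ ψ hψ hneE ι hι g⟩
  map_one' := Subtype.ext (by simp)
  map_mul' a b := Subtype.ext (by simp)

theorem emb_U (a b : E) : emb θ hθ ψ hψ hneE ι hι (Ug ψ hψ a b) = Ug θ hθ (ι a) (ι b) :=
  Subtype.ext (map_U θ ψ ι hι a b)

theorem emb_H (κ : Eˣ) : emb θ hθ ψ hψ hneE ι hι (Hg ψ hψ κ) = Hg θ hθ (Units.map ι κ) :=
  Subtype.ext (map_H θ ψ ι hι κ)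

theorem emb_W : emb θ hθ ψ hψ hneE ι hι (Wg ψ hψ) = Wg θ hθ :=
  Subtype.ext (map_W ι)

theorem emb_inj : Function.Injective (emb θ hθ ψ hψ hneE ι hι) := by
  intro a b h
  apply Subtype.ext
  apply Subtype.ext
  have h1 : ι.mapMatrix (a : Matrix.SpecialLinearGroup (Fin 4) E).1 =
      ι.mapMatrix (b : Matrix.SpecialLinearGroup (Fin 4) E).1 :=
    congrArg (fun g : Gz θ => (g : Matrix.SpecialLinearGroup (Fin 4) F).1) h
  ext i j
  have h2 := congrFun (congrFun h1 i) j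
  exact ι.injective h2

include hne in
theorem emb_range : (emb θ hθ ψ hψ hneE ι hι).range = SzSub θ ι.fieldRange := by
  have hK : ∀ x ∈ ι.fieldRange, θ x ∈ ι.fieldRange := by
    rintro _ ⟨x, rfl⟩
    exact ⟨ψ x, hι x⟩
  have hu : ∀ κ : Fˣ, (κ : F) ∈ ι.fieldRange → ∃ l : Eˣ, Units.map ι l = κ := by
    rintro κ ⟨x, hx⟩
    have hx0 : x ≠ 0 := by
      rintro rfl
      rw [map_zero] at hx
      exact κ.ne_zero hx.symm
    exact ⟨Units.mk0 x hx0, Units.ext hx⟩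
  apply le_antisymm
  · rintro _ ⟨g, rfl⟩
    rcases bruhat ψ hψ hneE g with ⟨a, b, κ, rfl⟩ | ⟨a, b, c, d, κ, rfl⟩
    · rw [map_mul, emb_U, emb_H]
      exact mul_mem (Ug_mem_SzSub θ hθ hK ⟨a, rfl⟩ ⟨b, rfl⟩) (Hg_mem_SzSub θ hθ hK ⟨κ, rfl⟩)
    · rw [map_mul, map_mul, map_mul, emb_U, emb_U, emb_H, emb_W]
      exact mul_mem (mul_mem (Ug_mem_SzSub θ hθ hK ⟨a, rfl⟩ ⟨b, rfl⟩) (Wg_mem_SzSub θ hθ hK))
        (mul_mem (Ug_mem_SzSub θ hθ hK ⟨c, rfl⟩ ⟨d, rfl⟩) (Hg_mem_SzSub θ hθ hK ⟨κ, rfl⟩))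
  · intro g hg
    rcases SzSub_bruhat θ hθ hne hK hg with ⟨_, ⟨a, rfl⟩, _, ⟨b, rfl⟩, κ, hκ, rfl⟩ |
      ⟨_, ⟨a, rfl⟩, _, ⟨b, rfl⟩, _, ⟨c, rfl⟩, _, ⟨d, rfl⟩, κ, hκ, rfl⟩
    · obtain ⟨l, rfl⟩ := hu κ hκ
      exact ⟨Ug ψ hψ a b * Hg ψ hψ l, by rw [map_mul, emb_U, emb_H]⟩
    · obtain ⟨l, rfl⟩ := hu κ hκ
      exact ⟨Ug ψ hψ a b * Wg ψ hψ * (Ug ψ hψ c d * Hg ψ hψ l), by
        rw [map_mul, map_mul, map_mul, emb_U, emb_U, emb_H, emb_W]⟩

/-- the subfield subgroup is a Suzuki group -/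
noncomputable def embEquiv : Gz ψ ≃* SzSub θ ι.fieldRange :=
  (MonoidHom.ofInjective (emb_inj θ hθ ψ hψ hneE ι hι)).trans
    (MulEquiv.subgroupCongr (emb_range θ hθ hne ψ hψ hneE ι hι))

end emb

end Cfsg.Agent.Lib.SuzukiStr3
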