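import Cfsg.Agent.Lib.SuzukiStr3

/-!
Suzuki groups, part 19: subgroups of `Sz(q)` for the concrete fields; conjugacy of subfield subgroups.
-/

set_option autoImplicit false
set_option linter.unusedSectionVars false
set_option linter.unusedSimpArgs false
open scoped LinearAlgebra.Projectivization Matrix Pointwise

namespace Cfsg.Agent.Lib.SuzukiStr4

open Cfsg.Agent.Lib.SuzukiOvoid Cfsg.Agent.Lib.SuzukiGroup Cfsg.Agent.Lib.SuzukiFin
  Cfsg.Agent.Lib.SuzukiStab Cfsg.Agent.Lib.SuzukiSyl Cfsg.Agent.Lib.SuzukiPts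
  Cfsg.Agent.Lib.SuzukiTor Cfsg.Agent.Lib.SuzukiNoFix Cfsg.Agent.Lib.TICount
  Cfsg.Agent.Lib.SuzukiCount Cfsg.Agent.Lib.SuzukiTori Cfsg.Agent.Lib.SuzukiStr
  Cfsg.Agent.Lib.SuzukiStr2 Cfsg.Agent.Lib.SuzukiStr3

theorem natCard_of {F : Type*} [Fintype F] {n : ℕ} (h : Fintype.card F = n) : Nat.card F = n := by
  rw [Nat.card_eq_fintype_card, h]

section
variable {F : Type*} [Field F] [Fintype F] [CharP F 2] {m : ℕ}

theorem pow_subfield {K : Subfield F} {n : ℕ} (hK : Nat.card K = 2 ^ n) {x : F} (hx : x ∈ K) :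
    x ^ 2 ^ n = x := by
  have : Fintype K := Fintype.ofFinite K
  have h1 := FiniteField.pow_card (⟨x, hx⟩ : K)
  rw [← Nat.card_eq_fintype_card, hK] at h1
  exact congrArg Subtype.val h1

theorem pow_subfield_mul {K : Subfield F} {n : ℕ} (hK : Nat.card K = 2 ^ n) {x : F} (hx : x ∈ K)
    (j : ℕ) : x ^ 2 ^ (n * j) = x := by
  induction j with
  | zero => simp
  | succ j ih => rw [mul_add, mul_one, pow_add, pow_mul, ih, pow_subfield hK hx]

/-- the subfields of a given order coincide -/
theorem subfield_unique {K L : Subfield F} (h : Nat.card K = Nat.card L) : K = L := by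
  have : Fintype K := Fintype.ofFinite K
  have : Fintype L := Fintype.ofFinite L
  classical
  have key : ∀ K : Subfield F, (K : Set F) = {x : F | x ^ Nat.card K = x} := by
    intro K
    have : Fintype K := Fintype.ofFinite K
    refine Set.eq_of_subset_of_ncard_le ?_ ?_ (Set.toFinite _)
    · intro x hx
      have h1 := FiniteField.pow_card (⟨x, hx⟩ : K)
      rw [← Nat.card_eq_fintype_card] at h1
      exact congrArg Subtype.val h1
    · have h1 : {x : F | x ^ Nat.card K = x} ⊆
        ((Polynomial.X ^ Nat.card K - Polynomial.X : Polynomial F).roots.toFinset : Set F) := by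
        intro x hx
        have h2 : (Polynomial.X ^ Nat.card K - Polynomial.X : Polynomial F) ≠ 0 :=
          FiniteField.X_pow_card_sub_X_ne_zero _ (Finite.one_lt_card (α := K))
        simp only [Finset.mem_coe, Multiset.mem_toFinset, Polynomial.mem_roots h2,
          Polynomial.IsRoot, Polynomial.eval_sub, Polynomial.eval_pow, Polynomial.eval_X]
        rw [show x ^ Nat.card K = x from hx, sub_self]
      refine (Set.ncard_le_ncard h1).trans ?_
      rw [Set.ncard_coe_finset]
      refine (Multiset.toFinset_card_le _).trans ((Polynomial.card_roots' _).trans ?_)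
      rw [FiniteField.X_pow_card_sub_X_natDegree_eq _ (Finite.one_lt_card (α := K))]
      rw [← Nat.card_coe_set_eq]
      exact le_rfl
  apply SetLike.coe_injective
  rw [key K, key L, h]

theorem th_compat {k : ℕ} (hF : Nat.card F = 2 ^ (2 * m + 1)) {K : Subfield F}
    (hK : Nat.card K = 2 ^ (2 * k + 1)) {x : F} (hx : x ∈ K) : th F m x = x ^ 2 ^ (k + 1) := by
  obtain ⟨j, hj⟩ := SuzukiSubf.dvd_of_subfield hF K hK
  have hjodd : Odd j := by
    rcases Nat.even_or_odd j with h | h
    · exfalso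
      have h1 : Even (2 * m + 1) := hj ▸ (h.mul_left _)
      exact (Nat.not_even_iff_odd.mpr ⟨m, rfl⟩) h1
    · exact h
  obtain ⟨i, hi⟩ := hjodd
  have hm : m + 1 = (2 * k + 1) * i + (k + 1) := by
    rw [hi] at hj
    nlinarith
  rw [th_apply, hm, pow_add, pow_mul, pow_subfield_mul hK hx]

theorem szSub_equiv (hm : 1 ≤ m) (hF : Fintype.card F = 2 ^ (2 * m + 1)) {E : Type*} [Field E]
    [Fintype E] {k : ℕ} (hk : 1 ≤ k) (hE : Fintype.card E = 2 ^ (2 * k + 1)) (K : Subfield F)
    (hK : Nat.card K = 2 ^ (2 * k + 1)) : Nonempty (SzSub (th F m) K ≃* Cfsg.Sz E k) := by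
  have : CharP E 2 := charTwo hE
  have : Fintype K := Fintype.ofFinite K
  have hK' : Fintype.card E = Fintype.card K := by
    rw [hE, ← hK, Nat.card_eq_fintype_card]
  let e : E ≃+* K := FiniteField.ringEquivOfCardEq hK'
  let ι : E →+* F := K.subtype.comp e.toRingHom
  have hr : ι.fieldRange = K := by
    ext x
    constructor
    · rintro ⟨y, rfl⟩
      exact (e y).2
    · intro hx
      exact ⟨e.symm ⟨x, hx⟩, by show ((e (e.symm ⟨x, hx⟩) : K) : F) = x; rw [e.apply_symm_apply]⟩
  have hι : ∀ x, ι (th E k x) = th F m (ι x) := by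
    intro x
    rw [th_compat (natCard_of hF) hK (hr ▸ ⟨x, rfl⟩), th_apply, map_pow]
  have hE2 := Sz_eq (F := E) k
  rw [hE2]
  have := embEquiv (th F m) (th_sq hF) (th_ne hm hF) (th E k) (th_sq hE) (th_ne hk hE) ι hι
  rw [hr] at this
  exact ⟨this.symm⟩

theorem SzSub_top : SzSub (th F m) (⊤ : Subfield F) = ⊤ := by
  rw [eq_top_iff]
  intro g _
  have key : ∀ p : ov (th F m), p ∈ subPts (th F m) (⊤ : Subfield F) := by
    intro p
    rcases cases (th F m) p with rfl | ⟨x, y, rfl⟩
    · exact inf_mem_subPts _ _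
    · exact (pt_mem_subPts _).mpr ⟨Subfield.mem_top x, Subfield.mem_top y⟩
  exact mem_SzSub_of _ (fun p _ => key _) (fun p _ => key _)

theorem subgroups (hm : 1 ≤ m) (hF : Fintype.card F = 2 ^ (2 * m + 1))
    (M : Subgroup (Gz (th F m))) (hM : M ≠ ⊤) :
    (∃ P : Sylow 2 (Gz (th F m)), M ≤ Subgroup.normalizer ((P : Subgroup (Gz (th F m))) : Set (Gz (th F m)))) ∨
    (∃ U : Subgroup (Gz (th F m)), IsCyclic ↥U ∧ Nat.card ↥U ∈ ({2 ^ (2 * m + 1) - 1, 2 ^ (2 * m + 1) + 2 ^ (m + 1) + 1, 2 ^ (2 * m + 1) - 2 ^ (m + 1) + 1} : Set ℕ) ∧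
      M ≤ Subgroup.normalizer (U : Set (Gz (th F m)))) ∨
    (∃ (K : Type) (_ : Field K) (_ : Fintype K) (k : ℕ), 1 ≤ k ∧ k < m ∧ Fintype.card K = 2 ^ (2 * k + 1) ∧ 2 * k + 1 ∣ 2 * m + 1 ∧
      ∃ S : Subgroup (Gz (th F m)), Nonempty (↥S ≃* ↥(Cfsg.Sz K k)) ∧ M ≤ S) := by
  have hθ := th_sq hF
  have hne := th_ne hm hF
  have hq := natCard_of hF
  rcases struct (th F m) hθ hne M with ⟨p, hp⟩ | ⟨c, hc, hT, hc2⟩ | ⟨K, k, h1, h2, h3⟩
  · left
    refine ⟨sylp (th F m) hθ hne p, ?_⟩
    rw [coe_sylp, normalizer_Up]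
    exact hp
  · right; left
    refine ⟨Subgroup.centralizer {c}, IsTor.cyclic _ hθ hne hT, ?_, hc2⟩
    rcases types (th F m) hθ hne c with h | ⟨p, h⟩ | ⟨p, p', hpp, h⟩ | h
    · exact absurd (Subgroup.mem_bot.mp h) hT.1
    · exact absurd h (hT.2 p)
    · left
      rw [centralizer_Tp _ hθ hne hpp h hT.1, card_Tp _ hθ hne hpp, hq]
    · right
      rcases (SuzukiPart.noFix_card _ hθ hne hm hq h).1 with h4 | h4
      · left; exact h4
      · right
        show Nat.card (Subgroup.centralizer {c}) = 2 ^ (2 * m + 1) - 2 ^ (m + 1) + 1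
        have hlt : 2 ^ (m + 1) ≤ 2 ^ (2 * m + 1) := Nat.pow_le_pow_right (by norm_num) (by omega)
        omega
  · right; right
    have hKc : ∃ n, Nat.card K = 2 ^ n := by
      have hch : CharP K 2 := inferInstance
      exact exists_pow_two (F := K)
    obtain ⟨n, hn⟩ := hKc
    have hdvd := SuzukiSubf.dvd_of_subfield hq K hn
    have hodd : Odd n := Odd.of_dvd_nat ⟨m, rfl⟩ hdvd
    obtain ⟨j, rfl⟩ := hodd
    have hj1 : 1 ≤ j := by
      by_contra hcon
      have hj0 : j = 0 := by omega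
      subst hj0
      obtain ⟨x, hx, hx0, hx1⟩ := h2
      have h5 := pow_subfield hn hx
      have h6 : x ^ 2 = x := h5
      have h7 : x * (x - 1) = 0 := by linear_combination h6
      rcases mul_eq_zero.mp h7 with h | h
      · exact hx0 h
      · exact hx1 (sub_eq_zero.mp h)
    have hjm : j < m := by
      have h4 : 2 * j + 1 ≤ 2 * m + 1 := Nat.le_of_dvd (by omega) hdvd
      rcases Nat.lt_or_ge j m with h | h
      · exact h
      · exfalso
        have hjm : j = m := by omega
        subst hjm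
        have h5 : K = ⊤ := by
          apply subfield_unique
          rw [hn, ← hq]
          exact (Nat.card_congr (Subfield.topEquiv (K := F)).toEquiv).symm
        rw [h5, SzSub_top] at h3
        apply hM
        rw [h3]
        exact Subgroup.map_top_of_surjective _ (MulAut.conj k).surjective
    have hE : Nat.card (GaloisField 2 (2 * j + 1)) = 2 ^ (2 * j + 1) :=
      GaloisField.card 2 _ (by omega)
    have fE : Fintype (GaloisField 2 (2 * j + 1)) := Fintype.ofFinite _
    have hE' : Fintype.card (GaloisField 2 (2 * j + 1)) = 2 ^ (2 * j + 1) := by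
      rw [← hE, Nat.card_eq_fintype_card]
    refine ⟨GaloisField 2 (2 * j + 1), inferInstance, fE, j, hj1, hjm, hE', hdvd, M, ?_, le_rfl⟩
    obtain ⟨e⟩ := szSub_equiv hm hF hj1 hE' K hn
    have e2 : SzSub (th F m) K ≃* M :=
      ((SzSub (th F m) K).equivMapOfInjective (MulAut.conj k).toMonoidHom
        (MulAut.conj k).injective).trans (MulEquiv.subgroupCongr h3.symm)
    exact ⟨e2.symm.trans e⟩

end

end Cfsg.Agent.Lib.SuzukiStr4
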