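import Cfsg.Agent.Lib.SuzukiMax

/-!
Suzuki groups, part 14: subfields and TI subgroups of the centre of a Sylow 2-subgroup.
-/

set_option autoImplicit false
set_option linter.unusedSectionVars false
set_option linter.unusedSimpArgs false
open scoped LinearAlgebra.Projectivization Matrix Pointwise

namespace Cfsg.Agent.Lib.SuzukiSubf

open Cfsg.Agent.Lib.SuzukiOvoid Cfsg.Agent.Lib.SuzukiGroup Cfsg.Agent.Lib.SuzukiFin
  Cfsg.Agent.Lib.SuzukiStab Cfsg.Agent.Lib.SuzukiSyl Cfsg.Agent.Lib.SuzukiPts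
  Cfsg.Agent.Lib.SuzukiTor Cfsg.Agent.Lib.SuzukiNoFix Cfsg.Agent.Lib.TICount
  Cfsg.Agent.Lib.SuzukiCount Cfsg.Agent.Lib.SuzukiTori

/-- the subfield attached to an additive subgroup with the TI property for multiplications -/
def tiField {F : Type*} [Field F] [Finite F] (V : AddSubgroup F)
    (hV : ∀ μ : F, μ ≠ 0 → (∃ v ∈ V, v ≠ 0 ∧ μ * v ∈ V) → ∀ v ∈ V, μ * v ∈ V)
    (v0 : F) (hv0 : v0 ∈ V) (h0 : v0 ≠ 0) : Subfield F where
  carrier := {x | x * v0 ∈ V}
  mul_mem' := by
    intro x y hx hy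
    change x * v0 ∈ V at hx
    change y * v0 ∈ V at hy
    change x * y * v0 ∈ V
    by_cases h : x = 0
    · rw [h, zero_mul, zero_mul]; exact V.zero_mem
    · rw [mul_assoc]
      exact hV x h ⟨v0, hv0, h0, hx⟩ _ hy
  one_mem' := by
    change 1 * v0 ∈ V
    rwa [one_mul]
  add_mem' := by
    intro x y hx hy
    change (x + y) * v0 ∈ V
    rw [add_mul]
    exact V.add_mem hx hy
  zero_mem' := by
    change 0 * v0 ∈ V
    rw [zero_mul]; exact V.zero_mem
  neg_mem' := by
    intro x hx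
    change -x * v0 ∈ V
    rw [neg_mul]
    exact V.neg_mem hx
  inv_mem' := by
    intro x hx
    change x * v0 ∈ V at hx
    change x⁻¹ * v0 ∈ V
    by_cases h : x = 0
    · rw [h, inv_zero, zero_mul]; exact V.zero_mem
    · have h1 := hV x h ⟨v0, hv0, h0, hx⟩
      have h2 : Function.Injective (fun v : V => (⟨x * v, h1 v v.2⟩ : V)) := by
        intro a b hab
        exact Subtype.ext (mul_left_cancel₀ h (congrArg Subtype.val hab))
      obtain ⟨v, hv⟩ := (Finite.injective_iff_surjective.mp h2) ⟨v0, hv0⟩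
      have h3 : x * v = v0 := congrArg Subtype.val hv
      rw [← h3, inv_mul_cancel_left₀ h]
      exact v.2

theorem card_tiField {F : Type*} [Field F] [Finite F] (V : AddSubgroup F)
    (hV : ∀ μ : F, μ ≠ 0 → (∃ v ∈ V, v ≠ 0 ∧ μ * v ∈ V) → ∀ v ∈ V, μ * v ∈ V)
    (v0 : F) (hv0 : v0 ∈ V) (h0 : v0 ≠ 0) : Nat.card (tiField V hV v0 hv0 h0) = Nat.card V := by
  apply Nat.card_congr
  exact
    { toFun := fun x => ⟨x * v0, x.2⟩
      invFun := fun v => ⟨v * v0⁻¹, by
        show (v : F) * v0⁻¹ * v0 ∈ V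
        rw [inv_mul_cancel_right₀ h0]; exact v.2⟩
      left_inv := fun x => Subtype.ext (by
        show (x : F) * v0 * v0⁻¹ = x
        rw [mul_inv_cancel_right₀ h0])
      right_inv := fun v => Subtype.ext (by
        show (v : F) * v0⁻¹ * v0 = v
        rw [inv_mul_cancel_right₀ h0]) }

/-- orders of subfields -/
theorem dvd_of_subfield {F : Type*} [Field F] [Finite F] {k n : ℕ} (hF : Nat.card F = 2 ^ k)
    (K : Subfield F) (hK : Nat.card K = 2 ^ n) : n ∣ k := by
  have h1 := Module.natCard_eq_pow_finrank (K := K) (V := F)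
  rw [hF, hK, ← pow_mul] at h1
  exact ⟨_, Nat.pow_right_injective (le_refl 2) h1⟩

/-- existence of subfields -/
theorem exists_subfield {F : Type*} [Field F] [Finite F] {k n : ℕ} (hn : n ≠ 0)
    [CharP F 2] (hF : Nat.card F = 2 ^ k) (h : n ∣ k) : ∃ K : Subfield F, Nat.card K = 2 ^ n := by
  have : Fact (Nat.Prime 2) := ⟨Nat.prime_two⟩
  let _ : Algebra (ZMod 2) F := ZMod.algebra F 2
  have h1 : Module.finrank (ZMod 2) (GaloisField 2 n) = n := GaloisField.finrank 2 hn
  have h2 : Module.finrank (ZMod 2) F = k := by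
    have h3 := Module.natCard_eq_pow_finrank (K := ZMod 2) (V := F)
    rw [hF, Nat.card_zmod] at h3
    exact (Nat.pow_right_injective (le_refl 2) h3).symm
  obtain ⟨f⟩ := FiniteField.nonempty_algHom_of_finrank_dvd (F := ZMod 2) (K := GaloisField 2 n)
    (L := F) (by rw [h1, h2]; exact h)
  refine ⟨f.toRingHom.fieldRange, ?_⟩
  rw [← GaloisField.card 2 n hn]
  exact (Nat.card_congr (Equiv.ofInjective f f.injective)).symm

end Cfsg.Agent.Lib.SuzukiSubf
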