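import Cfsg.Agent.Lib.PermLoc2
import Cfsg.Agent.Lib.SmallSieve
import Cfsg.Agent.Lib.ZStarU

/-! Finite groups with 21 Sylow 5-subgroups do not exist. First part: the Sylow 5-subgroups have order 5. -/

set_option autoImplicit false

namespace Cfsg.Agent.Lib.Syl21

open MulAction Subgroup Cfsg.Agent.Lib.SmallSimple Cfsg.Agent.Lib.NSylMin

section gen

variable {G : Type*} [Group G] [Finite G] {p : ℕ} [hp : Fact p.Prime]

theorem inf_ne {P Q : Sylow p G} (h : Q ≠ P) : ((Q : Subgroup G).subgroupOf (P : Subgroup G)).index ≠ 1 := by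
  intro h1
  rw [index_eq_one, subgroupOf_eq_top] at h1
  exact h (Sylow.ext (P.is_maximal' Q.isPGroup' h1))

/-- the orbits of a Sylow subgroup on the others -/
theorem index_of_lt {P Q : Sylow p G} (h : Q ≠ P) (hlt : Nat.card (Sylow p G) ≤ p ^ 2) :
    ((Q : Subgroup G).subgroupOf (P : Subgroup G)).index = p := by
  classical
  have h1 := card_orbit_sylow P Q
  have h2 : Nat.card (MulAction.orbit (P : Subgroup G) Q) < Nat.card (Sylow p G) := by
    have h3 : Nat.card (MulAction.orbit (P : Subgroup G) Q) = (MulAction.orbit (P : Subgroup G) Q).ncard := rfl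
    rw [h3]
    apply Set.ncard_lt_card
    intro hu
    have : P ∈ MulAction.orbit (P : Subgroup G) Q := by rw [hu]; trivial
    obtain ⟨g, hg⟩ := this
    apply h
    have h4 : (g⁻¹ : (P : Subgroup G)) • P = P := by
      exact Sylow.smul_eq_iff_mem_normalizer.2 (le_normalizer (inv_mem g.2))
    have h5 : Q = g⁻¹ • P := by rw [eq_inv_smul_iff]; exact hg
    exact h5.trans h4
  rw [h1] at h2
  obtain ⟨k, hk⟩ := (Nat.dvd_prime_pow hp.out).1
    (((IsPGroup.iff_card.1 P.isPGroup').choose_spec) ▸ (index_dvd_card ((Q : Subgroup G).subgroupOf (P : Subgroup G))))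
  rw [hk.2] at h2 ⊢
  have h5 : k ≠ 0 := by
    rintro rfl
    exact inf_ne h (by rw [hk.2, pow_zero])
  have h6 : p ^ k < p ^ 2 := lt_of_lt_of_le h2 hlt
  have h7 : k < 2 := (Nat.pow_lt_pow_iff_right hp.out.one_lt).1 h6
  have : k = 1 := by omega
  rw [this, pow_one]

theorem card_inf {P Q : Sylow p G} (h : Q ≠ P) (hlt : Nat.card (Sylow p G) ≤ p ^ 2) :
    p * Nat.card ((Q : Subgroup G) ⊓ (P : Subgroup G) : Subgroup G) = Nat.card (P : Subgroup G) := by
  have h1 := relIndex_mul_card_inf (Q : Subgroup G) (P : Subgroup G)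
  rwa [relIndex, index_of_lt h hlt] at h1

theorem card_sylow_eq (P Q : Sylow p G) : Nat.card (P : Subgroup G) = Nat.card (Q : Subgroup G) := by
  rw [← SetLike.coe_sort_coe, ← SetLike.coe_sort_coe] 
  exact Nat.card_congr (P.equiv Q).toEquiv

theorem le_normalizer_inf {P Q : Sylow p G} (h : Q ≠ P) (hlt : Nat.card (Sylow p G) ≤ p ^ 2) :
    (P : Subgroup G) ≤ normalizer (((Q : Subgroup G) ⊓ (P : Subgroup G) : Subgroup G) : Set G) := by
  have h1 : ((Q : Subgroup G).subgroupOf (P : Subgroup G)).Normal := by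
    apply normal_of_index_eq_minFac_card
    rw [index_of_lt h hlt]
    obtain ⟨k, hk⟩ := IsPGroup.iff_card.1 P.isPGroup'
    rw [hk]
    have hk0 : k ≠ 0 := by
      rintro rfl
      have := card_inf h hlt
      rw [hk, pow_zero] at this
      exact hp.out.one_lt.ne' (Nat.eq_one_of_mul_eq_one_right this)
    rw [hp.out.pow_minFac hk0]
  intro x hx
  rw [mem_normalizer_iff]
  have key : ∀ x ∈ (P : Subgroup G), ∀ y, y ∈ (Q : Subgroup G) ⊓ (P : Subgroup G) →
      x * y * x⁻¹ ∈ (Q : Subgroup G) ⊓ (P : Subgroup G) := by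
    intro x hx y hy
    have := h1.conj_mem ⟨y, hy.2⟩ (mem_subgroupOf.2 hy.1) ⟨x, hx⟩
    exact ⟨this, (P : Subgroup G).mul_mem ((P : Subgroup G).mul_mem hx hy.2) ((P : Subgroup G).inv_mem hx)⟩
  intro y
  refine ⟨key x hx y, fun hy => ?_⟩
  have := key x⁻¹ (inv_mem hx) _ hy
  simpa [mul_assoc] using this

/-- If the number of Sylow `p`-subgroups is at most `p ^ 2`, not 1, and no nontrivial subgroup is contained in all
of them, they have order `p`. -/
theorem card_eq_prime (hlt : Nat.card (Sylow p G) ≤ p ^ 2) (hne : Nat.card (Sylow p G) ≠ 1)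
    (hcore : ∀ D : Subgroup G, (∀ R : Sylow p G, D ≤ R) → D = ⊥) (P : Sylow p G) :
    Nat.card (P : Subgroup G) = p := by
  classical
  have hfin : Fintype (Sylow p G) := Fintype.ofFinite _
  by_contra hP
  obtain ⟨Q, hQ⟩ : ∃ Q : Sylow p G, Q ≠ P := by
    by_contra hno
    push Not at hno
    apply hne
    rw [Nat.card_eq_one_iff_unique]
    exact ⟨⟨fun a b => (hno a).trans (hno b).symm⟩, ⟨P⟩⟩
  set D := (Q : Subgroup G) ⊓ (P : Subgroup G) with hD
  have hcD : p * Nat.card D = Nat.card (P : Subgroup G) := card_inf hQ hlt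
  have hDne : D ≠ ⊥ := by
    intro h
    apply hP
    rw [← hcD, h, card_bot, mul_one]
  obtain ⟨R₀, hR₀⟩ : ∃ R₀ : Sylow p G, ¬ D ≤ R₀ := by
    by_contra hno
    push Not at hno
    exact hDne (hcore D hno)
  have hinf : ∀ R R' : Sylow p G, R ≠ R' → Nat.card ((R : Subgroup G) ⊓ (R' : Subgroup G) : Subgroup G) =
      Nat.card D := by
    intro R R' h
    have h1 := card_inf h hlt
    rw [card_sylow_eq R' P, ← hcD] at h1
    exact Nat.eq_of_mul_eq_mul_left hp.out.pos h1
  have heq : ∀ {A B : Subgroup G}, A ≤ B → Nat.card A = Nat.card B → A = B := by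
    intro A B h1 h2
    exact Subgroup.eq_of_le_of_card_ge h1 h2.ge
  -- the line through `P` and `Q`
  let L : Finset (Sylow p G) := Finset.univ.filter (fun R => D ≤ (R : Subgroup G))
  have hLmem : ∀ R, R ∈ L ↔ D ≤ (R : Subgroup G) := by intro R; simp [L]
  let T : Sylow p G → Sylow p G → Finset (Sylow p G) := fun S R =>
    (MulAction.orbit (S : Subgroup G) R).toFinset
  have hTmem : ∀ S R R', R' ∈ T S R ↔ R' ∈ MulAction.orbit (S : Subgroup G) R := by
    intro S R R'; simp [T]
  have hTcard : ∀ S R : Sylow p G, R ≠ S → (T S R).card = p := by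
    intro S R h
    refine Eq.trans ?_ (index_of_lt h hlt)
    rw [← card_orbit_sylow S R]
    simp only [T, Set.toFinset_card]
    rw [Nat.card_eq_fintype_card]
  -- orbits carry the intersection
  have hcarry : ∀ S R R' : Sylow p G, R ≠ S → R' ∈ T S R →
      (R : Subgroup G) ⊓ (S : Subgroup G) ≤ R' := by
    intro S R R' hRS hR'
    rw [hTmem] at hR'
    obtain ⟨x, rfl⟩ := hR'
    intro y hy
    have h1 := (mem_normalizer_iff.1 (inv_mem (le_normalizer_inf hRS hlt x.2)) y).1 hy
    have h2 : (x : G)⁻¹ * y * (x : G)⁻¹⁻¹ ∈ (R : Subgroup G) := h1.1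
    change y ∈ ((x : G) • R : Sylow p G)
    rw [← SetLike.mem_coe, Sylow.coe_smul] 
    refine ⟨(x : G)⁻¹ * y * (x : G)⁻¹⁻¹, h2, ?_⟩
    simp [MulAut.conj_apply, mul_assoc]
  have hself : ∀ S R : Sylow p G, R ≠ S → S ∉ T S R := by
    intro S R h hS
    have h1 := hcarry S R S h hS
    rw [hTmem] at hS
    obtain ⟨x, hx⟩ := hS
    apply h
    have h4 : (x⁻¹ : (S : Subgroup G)) • S = S := by
      exact Sylow.smul_eq_iff_mem_normalizer.2 (le_normalizer (inv_mem x.2))
    have h5 : R = x⁻¹ • S := by rw [eq_inv_smul_iff]; exact hx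
    exact h5.trans h4
  have hLcard : p + 1 ≤ L.card := by
    have h1 : insert P (T P Q) ⊆ L := by
      intro R hR
      rw [hLmem]
      rcases Finset.mem_insert.1 hR with rfl | hR
      · exact inf_le_right
      · exact hcarry P Q R hQ hR
    have h2 := Finset.card_le_card h1
    rwa [Finset.card_insert_of_notMem (hself P Q hQ), hTcard P Q hQ] at h2
  have hLR₀ : ∀ R ∈ L, R ≠ R₀ := by
    rintro R hR rfl
    exact hR₀ ((hLmem _).1 hR)
  have hdisj : (L : Set (Sylow p G)).PairwiseDisjoint (T R₀) := by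
    intro R hR R' hR' hne'
    rw [Function.onFun, Finset.disjoint_left]
    intro S hS hS'
    -- then `R' ∈ T R₀ R`
    have h1 : R' ∈ T R₀ R := by
      rw [hTmem] at hS hS' ⊢
      rw [← MulAction.orbit_eq_iff] at hS hS' ⊢
      rw [← hS', hS]
    have h2 := hcarry R₀ R R' (hLR₀ R hR) h1
    have h3 : (R : Subgroup G) ⊓ (R₀ : Subgroup G) ≤ (R : Subgroup G) ⊓ (R' : Subgroup G) :=
      le_inf inf_le_left h2
    have h4 := heq h3 ((hinf _ _ (hLR₀ R hR)).trans (hinf _ _ hne').symm)
    have h5 : D ≤ (R : Subgroup G) ⊓ (R' : Subgroup G) := le_inf ((hLmem _).1 hR) ((hLmem _).1 hR')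
    rw [← h4] at h5
    exact hR₀ (h5.trans inf_le_right)
  have h1 : (L.biUnion (T R₀)).card = L.card * p := by
    rw [Finset.card_biUnion hdisj, Finset.sum_congr rfl (fun R hR => hTcard R₀ R (hLR₀ R hR)),
      Finset.sum_const, smul_eq_mul]
  have h2 : L.biUnion (T R₀) ⊆ Finset.univ.erase R₀ := by
    intro S hS
    obtain ⟨R, hR, hS⟩ := Finset.mem_biUnion.1 hS
    rw [Finset.mem_erase]
    refine ⟨?_, Finset.mem_univ _⟩
    rintro rfl
    exact hself _ R (hLR₀ R hR) hS
  have h3 := Finset.card_le_card h2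
  rw [h1, Finset.card_erase_of_mem (Finset.mem_univ _), Finset.card_univ, ← Nat.card_eq_fintype_card] at h3
  have h4 : (p + 1) * p ≤ L.card * p := Nat.mul_le_mul_right _ hLcard
  have h5 : (p + 1) * p = p ^ 2 + p := by ring
  have := hp.out.pos
  omega

end gen

end Cfsg.Agent.Lib.Syl21
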