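import Mathlib
import Cfsg.Prelude.Def_Classical
import Cfsg.Agent.Lib.CayIso

set_option autoImplicit false

/-!
The Sylow 2-subgroup of `A_8` inside `PSp_4(3)` (helper43): Cayley graph data of a group of order 64.
-/

namespace Cfsg.Agent.Lib.Syl64

/-- Cayley graph -/
def cA : Nat := 48580961925940335229602158939070682624915618100107722939967739309351494665810134424858149836906204833255198621366501994813568929488090681405841411853575193862050435840295456804134153297246213900507931054017925867014770270081774688816595294152460473844203677038632204979327430489669910948189285487775894840741702912576095354833594175546355721711745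
/-- permutations -/
def cB : Nat := 2356938977305982616366648529123881435264879560018624438966395986231655649871839829145700536664756035118851085138925904517752496170724858149973280795868513663609257082207241077059556300945509075991920102756527423018867084675653388167522502670599620955451646169490991487473927306987645320974763371839082464883243273111981556910154426760169386951199683994162679889352002634035187473200791226152642610012268061513158383370274594770603022334187576610114265353469740680
def cBi : Nat := 2356938977305982616366648529123881435264879560018624438966395986231655649871839829145700536664756035118851085138925897933180087727739586739447557903523981768338174675817557088499057908530672021959766923220760477089949697398571395817894484521656526303891975182490989315984152143684133124547798470602571461757308392568535847132999861965274930300793303235586480241026842582684584379977860777755067907074669234146318270481330525527475292405927033023501105483724015240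
/-- matrices mod 3 -/
def cC : Nat := 277195809752016433794802316295000360322162051582735324010287434736661824551976157101414777531295433836518162912758691548984164817797934999974534970896692226944047644573635998592546589291832001643171244889918621022026601447191105554509012842291953091660120426099619132549473019097997530720791445710305049811485303531914720652328735485367500028843410950434558269517431538419167354494982559350251661628717306531013682331180458464385126298585616662169137614569538801498180931519656873957848808
/-- generator matrices -/
def cD : Nat := 9191351363793364381428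
/-- generator permutations -/
def cP : Nat := 4597366937889896128602
def cPi : Nat := 4597366907592007447059
/-- test matrices -/
def cE : Nat := 17031759761879287094981630885136805360

def sg (x : Fin 64) (k : Fin 3) : Fin 64 := ⟨(cA / 64 ^ (3 * x.val + k.val)) % 64, Nat.mod_lt _ (by decide)⟩

def pm (x : Fin 64) (i : Fin 8) : Fin 8 := ⟨(cB / 8 ^ (8 * x.val + i.val)) % 8, Nat.mod_lt _ (by decide)⟩
def pmi (x : Fin 64) (i : Fin 8) : Fin 8 := ⟨(cBi / 8 ^ (8 * x.val + i.val)) % 8, Nat.mod_lt _ (by decide)⟩
def gm (k : Fin 3) (i : Fin 8) : Fin 8 := ⟨(cP / 8 ^ (8 * k.val + i.val)) % 8, Nat.mod_lt _ (by decide)⟩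
def gmi (k : Fin 3) (i : Fin 8) : Fin 8 := ⟨(cPi / 8 ^ (8 * k.val + i.val)) % 8, Nat.mod_lt _ (by decide)⟩

theorem pm_pmi : ∀ (x : Fin 64) (i : Fin 8), pm x (pmi x i) = i := by decide +kernel
theorem pmi_pm : ∀ (x : Fin 64) (i : Fin 8), pmi x (pm x i) = i := by decide +kernel
theorem gm_gmi : ∀ (x : Fin 3) (i : Fin 8), gm x (gmi x i) = i := by decide +kernel
theorem gmi_gm : ∀ (x : Fin 3) (i : Fin 8), gmi x (gm x i) = i := by decide +kernel
theorem pm_step : ∀ (x : Fin 64) (k : Fin 3) (i : Fin 8), pm (sg x k) i = pm x (gm k i) := by decide +kernel
theorem pm_inj : ∀ (x y : Fin 64), (∀ i, pm x i = pm y i) → x = y := by decide +kernel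
theorem par : ∀ x : Fin 64, x ≠ 0 → ∃ y, y < x ∧ ∃ k, sg y k = x := by decide +kernel
theorem pm_zero : ∀ i, pm 0 i = i := by decide +kernel

/-- matrix entries -/
def me (x : Fin 64) (i j : Fin 4) : Nat := (cC / 3 ^ (16 * x.val + 4 * i.val + j.val)) % 3
def ge (k : Fin 3) (i j : Fin 4) : Nat := (cD / 3 ^ (16 * k.val + 4 * i.val + j.val)) % 3
def te (k : Fin 5) (i j : Fin 4) : Nat := (cE / 3 ^ (16 * k.val + 4 * i.val + j.val)) % 3

/-- the form -/
def jn (i j : Fin 4) : Nat := if j.val = i.val + 2 then 2 else if i.val = j.val + 2 then 1 else 0

def pr (a b : Fin 4 → Fin 4 → Nat) (i j : Fin 4) : Nat := a i 0 * b 0 j + a i 1 * b 1 j + a i 2 * b 2 j + a i 3 * b 3 j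

/-- `A J A^T` -/
def fo (a : Fin 4 → Fin 4 → Nat) (i j : Fin 4) : Nat :=
  2 * (a i 0 * a j 2 + a i 1 * a j 3) + (a i 2 * a j 0 + a i 3 * a j 1)

theorem me_step : ∀ (x : Fin 64) (k : Fin 3),
    (∀ i j, (pr (me x) (ge k) i j + 2 * me (sg x k) i j) % 3 = 0) ∨
    (∀ i j, (pr (me x) (ge k) i j + me (sg x k) i j) % 3 = 0) := by decide +kernel
theorem me_form : ∀ (x : Fin 64) (i j : Fin 4), (fo (me x) i j + 2 * jn i j) % 3 = 0 := by decide +kernel
theorem ge_form : ∀ (x : Fin 3) (i j : Fin 4), (fo (ge x) i j + 2 * jn i j) % 3 = 0 := by decide +kernel
theorem te_form : ∀ (x : Fin 5) (i j : Fin 4), (fo (te x) i j + 2 * jn i j) % 3 = 0 := by decide +kernel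
theorem me_zero : ∀ i j, me 0 i j = if i = j then 1 else 0 := by decide +kernel
theorem me_ne : ∀ x : Fin 64, x ≠ 0 → ∃ k : Fin 5, ∃ i j : Fin 4,
    (pr (me x) (te k) i j + 2 * pr (te k) (me x) i j) % 3 ≠ 0 := by decide +kernel

end Cfsg.Agent.Lib.Syl64
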