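import Cfsg.Agent.Lib.PermSyl
import Cfsg.Agent.Lib.Involutions

/-! Involutions centralizing a Sylow subgroup of prime order in a simple group. -/

set_option autoImplicit false

namespace Cfsg.Agent.Lib.SylEven

open MulAction Subgroup Cfsg.Agent.Lib.PermLoc Cfsg.Agent.Lib.SmallSimple
  Cfsg.Agent.Lib.NSylMin Cfsg.Agent.Lib.PermFix

/-- The number of fixed points of an even involution. -/
theorem fix_of_even {m : ℕ} (σ : Equiv.Perm (Fin m)) (h2 : σ ^ 2 = 1) (hs : Equiv.Perm.sign σ = 1) (h1 : σ ≠ 1) :
    ∃ j, 1 ≤ j ∧ Nat.card {y // σ y = y} + 4 * j = m := by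
  classical
  have h3 := Equiv.Perm.sign_of_pow_two_eq_one h2
  rw [hs] at h3
  have h4 : Nat.card {y // σ y = y} = Fintype.card (Function.fixedPoints σ) := by
    rw [Nat.card_eq_fintype_card]; rfl
  have h6 : σ.support.card ≤ m := by
    have := Finset.card_le_univ σ.support
    simpa using this
  have h10 : Fintype.card (Function.fixedPoints σ) = m - σ.support.card := by
    rw [Equiv.Perm.card_fixedPoints, Equiv.Perm.sum_cycleType, Fintype.card_fin]
  have h11 : Fintype.card (Fin m) - Fintype.card (Function.fixedPoints σ) = σ.support.card := by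
    rw [h10, Fintype.card_fin]; omega
  rw [h11] at h3
  have h7 : Even (σ.support.card / 2) := by
    by_contra hodd
    rw [Nat.not_even_iff_odd] at hodd
    rw [hodd.neg_one_pow] at h3
    exact absurd h3 (by decide)
  have h8 := Equiv.Perm.two_dvd_card_support h2
  obtain ⟨j, hj⟩ := h7
  have h9 : σ.support.card = 4 * j := by omega
  refine ⟨j, ?_, ?_⟩
  · rcases Nat.eq_zero_or_pos j with h | h
    · rw [h, mul_zero, Finset.card_eq_zero, Equiv.Perm.support_eq_empty_iff] at h9
      exact absurd h9 h1
    · exact h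
  · rw [h4, h10]
    omega

variable {G : Type*} [Group G] [Finite G] [IsSimpleGroup G]

/-- data of the normalizer of a Sylow subgroup of prime order in a simple group -/
theorem pack (hG : ¬ IsMulCommutative G) {p m : ℕ} [hp : Fact p.Prime] (hp2 : p ≠ 2) (P : Sylow p G)
    (hP : Nat.card (P : Subgroup G) = p) (hn : Nat.card (Sylow p G) = 1 + p * m) (hm : m ≠ 0) :
    ∃ (f : normalizer ((P : Subgroup G) : Set G) →* Equiv.Perm (Fin m)),
      (∀ t : normalizer ((P : Subgroup G) : Set G), (t : G) ∈ (P : Subgroup G) → f t = 1) ∧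
      (∀ t : normalizer ((P : Subgroup G) : Set G), f t = 1 → (t : G) ∈ centralizer ((P : Subgroup G) : Set G) →
        (t : G) ∈ (P : Subgroup G)) ∧
      (∀ t : normalizer ((P : Subgroup G) : Set G), (t : G) ∈ centralizer ((P : Subgroup G) : Set G) →
        (orderOf (t : G)).Coprime p →
        Nat.card {R : Sylow p G // (t : G) • R = R} = 1 + p * Nat.card {y // f t y = y}) ∧
      (∀ t : normalizer ((P : Subgroup G) : Set G), (t : G) ∉ centralizer ((P : Subgroup G) : Set G) →
        Nat.card {R : Sylow p G // (t : G) • R = R} = 1 + Nat.card {y // f t y = y}) ∧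
      (∀ t : normalizer ((P : Subgroup G) : Set G), (t : G) ∈ centralizer ((P : Subgroup G) : Set G) →
        Equiv.Perm.sign (f t) = 1) ∧
      (∀ t : normalizer ((P : Subgroup G) : Set G), Equiv.Perm.sign (f t) =
          @Equiv.Perm.sign _ (Classical.decEq _) (Fintype.ofFinite _)
            ((P : Subgroup G).normalizerMonoidHom t).toEquiv ^ m) := by
  obtain ⟨f, h1, h2, h3, h4, h5⟩ := PermSyl.exists_hom hp2 P hP hn
  have h5 := h5 (fun φ g => hom_units_eq_one hG φ g)
  have hfaith : ∀ g : G, (∀ x : Sylow p G, g • x = x) → g = 1 := by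
    apply faithful_of_simple
    have h8 : Nonempty {Q : Sylow p G // ∃ g ∈ (P : Subgroup G), g • Q ≠ Q} := by
      have hX := card_moved P
      have : 0 < Nat.card {Q : Sylow p G // ∃ g ∈ (P : Subgroup G), g • Q ≠ Q} := by
        have : 0 < p * m := Nat.mul_pos hp.out.pos (Nat.pos_of_ne_zero hm)
        omega
      exact (Nat.card_pos_iff.1 this).1
    obtain ⟨⟨Q, g, hg, h⟩⟩ := h8
    exact ⟨g, Q, h⟩
  refine ⟨f, h1, ?_, h3, h4, ?_, h5⟩
  · -- the group of elements centralizing `P` in the kernel is `P`
    intro t ht htc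
    have hK : ((f.ker ⊓ (centralizer ((P : Subgroup G) : Set G)).subgroupOf
        (normalizer ((P : Subgroup G) : Set G))).map
        (normalizer ((P : Subgroup G) : Set G)).subtype) = (P : Subgroup G) := by
      apply eq_of_pow P
      · intro x hx
        refine ⟨⟨x, le_normalizer hx⟩, ⟨h1 _ hx, ?_⟩, rfl⟩
        exact le_centralizer_of_comm (isMulCommutative_of_prime_card hp.out hP) hx
      · rintro _ ⟨t, ⟨ht1, ht2⟩, rfl⟩
        exact hfaith _ (h2 t ht1 ht2)
    have h6 : (t : G) ∈ ((f.ker ⊓ (centralizer ((P : Subgroup G) : Set G)).subgroupOf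
        (normalizer ((P : Subgroup G) : Set G))).map
        (normalizer ((P : Subgroup G) : Set G)).subtype) := ⟨t, ⟨ht, htc⟩, rfl⟩
    exact hK.le h6
  · intro t ht
    rw [h5]
    have h6 : (P : Subgroup G).normalizerMonoidHom t = 1 := by
      rw [← MonoidHom.mem_ker, normalizerMonoidHom_ker]
      exact ht
    rw [h6]
    have h7 : (1 : MulAut (P : Subgroup G)).toEquiv = 1 := rfl
    rw [h7, map_one, one_pow]

/-- `|N(P)| = p * a * b` with `a ∣ p - 1` and `b` the order of the image in `S_m`. -/
theorem card_norm (hG : ¬ IsMulCommutative G) {p m : ℕ} [hp : Fact p.Prime] (P : Sylow p G)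
    (hP : Nat.card (P : Subgroup G) = p) {f : normalizer ((P : Subgroup G) : Set G) →* Equiv.Perm (Fin m)}
    (h1 : ∀ t : normalizer ((P : Subgroup G) : Set G), (t : G) ∈ (P : Subgroup G) → f t = 1)
    (h2 : ∀ t : normalizer ((P : Subgroup G) : Set G), f t = 1 → (t : G) ∈ centralizer ((P : Subgroup G) : Set G) →
        (t : G) ∈ (P : Subgroup G)) :
    ∃ a, Nat.card f.ker = p * a ∧ a ∣ p - 1 ∧
      Nat.card (normalizer ((P : Subgroup G) : Set G)) = p * a * Nat.card f.range ∧
      Nat.card (centralizer ((P : Subgroup G) : Set G)) = p *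
        Nat.card (((centralizer ((P : Subgroup G) : Set G)).subgroupOf
          (normalizer ((P : Subgroup G) : Set G))).map f) := by
  refine hom_data P hP _ _ rfl rfl f h1 ?_
  intro t ht htc
  have h3 := h2 t ht htc
  have h4 : (⟨(t : G), h3⟩ : (P : Subgroup G)) ^ Nat.card (P : Subgroup G) = 1 := pow_card_eq_one'
  rw [hP] at h4
  exact congrArg Subtype.val h4

/-- No involution centralizes `P`, in certain situations. -/
theorem no_involution (hG : ¬ IsMulCommutative G) {p m : ℕ} [hp : Fact p.Prime] (hp2 : p ≠ 2) (P : Sylow p G)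
    (hP : Nat.card (P : Subgroup G) = p) (hn : Nat.card (Sylow p G) = 1 + p * m) (hm : m ≠ 0) {k : ℕ}
    (hmk : ∀ j, 1 ≤ j → 4 * j ≤ m → m - 4 * j = k) (hlt : m < p * k)
    (hodd : ∀ i, (1 + p * k) ∣ (1 + p * m) * i → Even i) :
    ¬ 2 ∣ Nat.card (centralizer ((P : Subgroup G) : Set G)) := by
  classical
  intro h2C
  obtain ⟨f, h1, h2, h3, h4, h5, -⟩ := pack hG hp2 P hP hn hm
  set C := centralizer ((P : Subgroup G) : Set G) with hC
  have hCN : C ≤ normalizer ((P : Subgroup G) : Set G) := centralizer_le_normalizer' _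
  -- involutions of `C`
  have hx : ∀ x : G, ∀ hx : x ∈ C, orderOf x = 2 → Nat.card {R : Sylow p G // x • R = R} = 1 + p * k := by
    intro x hx ho
    have hcop : (orderOf x).Coprime p := by
      rw [ho]; exact (Nat.coprime_primes Nat.prime_two hp.out).2 (Ne.symm hp2)
    have e1 := h3 ⟨x, hCN hx⟩ hx hcop
    change Nat.card {R : Sylow p G // x • R = R} = _ at e1
    have hsq : (⟨x, hCN hx⟩ : normalizer ((P : Subgroup G) : Set G)) ^ 2 = 1 := by
      apply Subtype.ext
      change x ^ 2 = 1
      rw [← ho, pow_orderOf_eq_one]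
    obtain ⟨j, hj, hj2⟩ := fix_of_even (f ⟨x, hCN hx⟩) (by rw [← map_pow, hsq, map_one]) (h5 _ hx) (by
      intro h
      have h6 := h2 _ h hx
      have h7 : orderOf x ∣ p := by
        have := orderOf_dvd_natCard (⟨x, h6⟩ : (P : Subgroup G))
        rwa [Subgroup.orderOf_mk, hP] at this
      rw [ho] at h7
      exact hp2 ((Nat.prime_dvd_prime_iff_eq Nat.prime_two hp.out).1 h7).symm)
    rw [e1, ← hmk j hj (by omega)]
    congr 2
    omega
  let S : Set G := {y | orderOf y = 2 ∧ Nat.card {R : Sylow p G // y • R = R} = 1 + p * k}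
  -- double counting
  have hcount : Nat.card S * (1 + p * k) = (1 + p * m) * Nat.card {x : C // orderOf x = 2} := by
    have hfin : Fintype (Sylow p G) := Fintype.ofFinite _
    have hfin2 : Fintype S := Fintype.ofFinite _
    have e1 : Nat.card (Σ g : S, {R : Sylow p G // g.1 • R = R}) = Nat.card S * (1 + p * k) := by
      rw [Nat.card_sigma, Finset.sum_congr rfl (fun g _ => g.2.2), Finset.sum_const, Finset.card_univ, smul_eq_mul,
        ← Nat.card_eq_fintype_card]
    have e2 : Nat.card (Σ R : Sylow p G, {g : S // g.1 • R = R}) =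
        (1 + p * m) * Nat.card {x : C // orderOf x = 2} := by
      rw [Nat.card_sigma, Finset.sum_congr rfl (g := fun _ => Nat.card {x : C // orderOf x = 2}),
        Finset.sum_const, Finset.card_univ, smul_eq_mul, ← Nat.card_eq_fintype_card, hn]
      intro R _
      obtain ⟨h, rfl⟩ := MulAction.exists_smul_eq G P R
      -- conjugate back to `P`
      have e3 : Nat.card {g : S // g.1 • (h • P) = h • P} = Nat.card {g : S // g.1 • P = P} := by
        have hSc : ∀ y : G, ∀ c : G, y ∈ S → c * y * c⁻¹ ∈ S := by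
          rintro y c ⟨hy1, hy2⟩
          refine ⟨?_, ?_⟩
          · have : c * y * c⁻¹ = MulAut.conj c y := rfl
            rw [this]
            rw [← hy1]
            exact orderOf_injective (MulAut.conj c).toMonoidHom (MulAut.conj c).injective y
          · rw [← hy2]
            refine Nat.card_congr ((MulAction.toPerm c⁻¹ : Equiv.Perm (Sylow p G)).subtypeEquiv ?_)
            intro R
            simp only [MulAction.toPerm_apply]
            rw [mul_smul, mul_smul, ← eq_inv_smul_iff]
        refine Nat.card_congr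
          { toFun := fun g => ⟨⟨h⁻¹ * g.1.1 * h, by
                have := hSc g.1.1 h⁻¹ g.1.2; rwa [inv_inv] at this⟩, by
                rw [mul_smul, mul_smul, inv_smul_eq_iff]; exact g.2⟩
            invFun := fun g => ⟨⟨h * g.1.1 * h⁻¹, hSc g.1.1 h g.1.2⟩, by
                rw [mul_smul, mul_smul, inv_smul_smul, g.2]⟩
            left_inv := fun g => by
              apply Subtype.ext; apply Subtype.ext
              change h * (h⁻¹ * g.1.1 * h) * h⁻¹ = g.1.1
              group
            right_inv := fun g => by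
              apply Subtype.ext; apply Subtype.ext
              change h⁻¹ * (h * g.1.1 * h⁻¹) * h = g.1.1
              group }
      rw [e3]
      refine Nat.card_congr
        { toFun := fun g => ⟨⟨g.1.1, ?_⟩, ?_⟩
          invFun := fun x => ⟨⟨x.1.1, by
            refine ⟨by rw [Subgroup.orderOf_coe]; exact x.2, hx x.1.1 x.1.2 (by rw [Subgroup.orderOf_coe]; exact x.2)⟩⟩, 
            Sylow.smul_eq_iff_mem_normalizer.2 (hCN x.1.2)⟩
          left_inv := fun _ => rfl
          right_inv := fun _ => rfl }
      · by_contra hno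
        have h6 := h4 ⟨g.1.1, Sylow.smul_eq_iff_mem_normalizer.1 g.2⟩ hno
        change Nat.card {R : Sylow p G // g.1.1 • R = R} = _ at h6
        rw [g.1.2.2] at h6
        have h7 : Nat.card {y // f ⟨g.1.1, Sylow.smul_eq_iff_mem_normalizer.1 g.2⟩ y = y} ≤ m := by
          have := Nat.card_le_card_of_injective
            (Subtype.val : {y // f ⟨g.1.1, Sylow.smul_eq_iff_mem_normalizer.1 g.2⟩ y = y} → Fin m)
            Subtype.val_injective
          rwa [Nat.card_fin] at this
        omega
      · rw [← Subgroup.orderOf_coe]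
        exact g.1.2.1
    rw [← e1, ← e2]
    refine Nat.card_congr
      { toFun := fun z => ⟨z.2.1, ⟨z.1, z.2.2⟩⟩
        invFun := fun z => ⟨z.2.1, ⟨z.1, z.2.2⟩⟩
        left_inv := fun _ => rfl
        right_inv := fun _ => rfl }
  have h6 := Involutions.odd_card_involutions (G := C) (even_iff_two_dvd.2 h2C)
  have h7 := hodd _ ⟨Nat.card S, by rw [mul_comm (1 + p * k)]; exact hcount.symm⟩
  exact (Nat.not_even_iff_odd.2 h6) h7

end Cfsg.Agent.Lib.SylEven
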