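import Mathlib.GroupTheory.Sylow
import Mathlib.Logic.Relation
import Cfsg.Prelude.Def_SylowChains
import Cfsg.Agent.Lib.SylowIn

set_option autoImplicit false
open Cfsg
open scoped Pointwise

/-! Chains of Sylow subgroups (helper49): control of Sylow intersections rephrased with `Relation.ReflTransGen`. -/

namespace Cfsg.Agent.Lib.SylowChain

open Cfsg.Agent.Lib.SylowIn

variable {G : Type*} [Group G]

/-- One step of a chain of Sylow subgroups over `A` linked by the family `𝓕`. -/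
def Step (p : ℕ) (𝓕 : Set (Subgroup G)) (A : Set G) (S T : Sylow p G) : Prop :=
  ∃ X : Subgroup G, X ∈ sylowMembers p 𝓕 (S : Subgroup G) ∧ X ∈ sylowMembers p 𝓕 (T : Subgroup G) ∧
    ∃ x ∈ X, x • S = T ∧ A ⊆ (T : Set G) ∧ A ⊆ (X : Set G)

/-- Chains of Sylow subgroups over `A`. -/
def Conn (p : ℕ) (𝓕 : Set (Subgroup G)) (A : Set G) : Sylow p G → Sylow p G → Prop :=
  Relation.ReflTransGen (Step p 𝓕 A)

theorem exists_fin_chain_iff {α : Type*} (R : α → α → Prop) (a b : α) :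
    Relation.ReflTransGen R a b ↔ ∃ (n : ℕ) (c : Fin (n + 1) → α), c 0 = a ∧ c (Fin.last n) = b ∧
      ∀ i : Fin n, R (c i.castSucc) (c i.succ) := by
  constructor
  · intro h
    induction h with
    | refl => exact ⟨0, fun _ => a, rfl, rfl, fun i => i.elim0⟩
    | tail _ hR ih =>
      rename_i b d _
      obtain ⟨n, c, h0, hl, hc⟩ := ih
      refine ⟨n + 1, Fin.snoc c d, ?_, ?_, ?_⟩
      · have : (0 : Fin (n + 1 + 1)) = Fin.castSucc 0 := rfl
        rw [this, Fin.snoc_castSucc, h0]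
      · rw [Fin.snoc_last]
      · intro i
        refine Fin.lastCases ?_ ?_ i
        · rw [Fin.succ_last, Fin.snoc_last, Fin.snoc_castSucc, hl]
          exact hR
        · intro j
          rw [Fin.snoc_castSucc, ← Fin.castSucc_succ, Fin.snoc_castSucc]
          exact hc j
  · rintro ⟨n, c, h0, hl, hc⟩
    have key : ∀ i : Fin (n + 1), Relation.ReflTransGen R a (c i) := by
      intro i
      induction i using Fin.induction with
      | zero => rw [h0]
      | succ i ih => exact ih.tail (hc i)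
    rw [← hl]
    exact key _

theorem smul_eq_iff_conjRight {p : ℕ} (S T : Sylow p G) (x : G) :
    x • S = T ↔ subgroupConjRight x (T : Subgroup G) = (S : Subgroup G) := by
  rw [conjRight_sylow]
  constructor
  · rintro rfl; rw [inv_smul_smul]
  · intro h
    have := Sylow.ext h
    rw [← this, smul_inv_smul]

/-- `ControlsSylowIntersections` in terms of chains. -/
theorem controls_iff (p : ℕ) (𝓕 : Set (Subgroup G)) :
    ControlsSylowIntersections p 𝓕 ↔ ∀ S T : Sylow p G, S ≠ T → (S : Subgroup G) ⊓ (T : Subgroup G) ≠ ⊥ →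
      Conn p 𝓕 ((S : Set G) ∩ (T : Set G)) S T := by
  unfold ControlsSylowIntersections Conn
  constructor
  · intro h S T hne hbot
    obtain ⟨n, c, X, x, h0, hl, hc⟩ := h S T hne hbot
    rw [exists_fin_chain_iff]
    refine ⟨n, c, h0, hl, fun i => ?_⟩
    obtain ⟨h1, h2, h3, h4, h5⟩ := hc i
    refine ⟨X i, h1, h2, x i, h3, (smul_eq_iff_conjRight _ _ _).mpr h4, ?_, ?_⟩
    · intro a ha; exact (h5 ha).1
    · intro a ha; exact (h5 ha).2
  · intro h S T hne hbot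
    have h1 := h S T hne hbot
    rw [exists_fin_chain_iff] at h1
    obtain ⟨n, c, h0, hl, hc⟩ := h1
    choose X hX hX' x hx hxx hA hA' using hc
    refine ⟨n, c, X, x, h0, hl, fun i => ⟨hX i, hX' i, hx i, (smul_eq_iff_conjRight _ _ _).mp (hxx i), ?_⟩⟩
    intro a ha
    exact ⟨hA i ha, hA' i ha⟩

theorem Step.mono {p : ℕ} {𝓕 𝓕' : Set (Subgroup G)} {A B : Set G} {S T : Sylow p G} (hF : 𝓕 ⊆ 𝓕')
    (hBA : B ⊆ A) (h : Step p 𝓕 A S T) : Step p 𝓕' B S T := by
  obtain ⟨X, h1, h2, x, hx, h3, h4, h5⟩ := h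
  exact ⟨X, ⟨hF h1.1, h1.2⟩, ⟨hF h2.1, h2.2⟩, x, hx, h3, hBA.trans h4, hBA.trans h5⟩

theorem Conn.mono {p : ℕ} {𝓕 𝓕' : Set (Subgroup G)} {A B : Set G} {S T : Sylow p G} (hF : 𝓕 ⊆ 𝓕')
    (hBA : B ⊆ A) (h : Conn p 𝓕 A S T) : Conn p 𝓕' B S T :=
  Relation.ReflTransGen.mono (fun _ _ h => Step.mono hF hBA h) _ _ h

theorem Conn.trans {p : ℕ} {𝓕 : Set (Subgroup G)} {A : Set G} {S T U : Sylow p G}
    (h : Conn p 𝓕 A S T) (h' : Conn p 𝓕 A T U) : Conn p 𝓕 A S U :=
  Relation.ReflTransGen.trans h h'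

/-- conjugation of members of a normal family -/
theorem sylowMembers_conj {p : ℕ} {𝓕 : Set (Subgroup G)} (h𝓕 : IsNormalSet 𝓕) {S : Sylow p G}
    {X : Subgroup G} (hX : X ∈ sylowMembers p 𝓕 (S : Subgroup G)) (g : G) :
    subgroupConjRight g X ∈ sylowMembers p 𝓕 ((g⁻¹ • S : Sylow p G) : Subgroup G) := by
  obtain ⟨h1, P, hP⟩ := hX
  refine ⟨h𝓕 X h1 g, ?_⟩
  -- transport the Sylow subgroup along conjugation
  let e : ↥X ≃* ↥(subgroupConjRight g X) := X.equivMapOfInjective (MulAut.conj g⁻¹).toMonoidHom (MulAut.conj g⁻¹).injective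
  refine ⟨P.comapOfInjective e.symm.toMonoidHom e.symm.injective (fun y _ => ⟨e y, by simp⟩), ?_⟩
  ext y
  rw [Subgroup.mem_inf, mem_smul_iff, inv_inv]
  constructor
  · rintro ⟨z, hz, rfl⟩
    have hz' : e.symm z ∈ (P : Subgroup ↥X) := hz
    have h2 : ((e.symm z : ↥X) : G) ∈ (S : Subgroup G) ⊓ X := by
      rw [← hP]; exact ⟨_, hz', rfl⟩
    have h3 : (z : G) = g⁻¹ * ((e.symm z : ↥X) : G) * g := by
      conv_lhs => rw [← e.apply_symm_apply z]
      show (MulAut.conj g⁻¹) ((e.symm z : ↥X) : G) = _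
      simp
    refine ⟨?_, z.2⟩
    have h4 : g * (g⁻¹ * ((e.symm z : ↥X) : G) * g) * g⁻¹ = ((e.symm z : ↥X) : G) := by group
    show g * (z : G) * g⁻¹ ∈ _
    rw [h3, h4]
    exact h2.1
  · rintro ⟨h2, h3⟩
    have h4 := (mem_conjRight_iff g y X).mp h3
    have h5 : g * y * g⁻¹ ∈ (S : Subgroup G) ⊓ X := ⟨h2, h4⟩
    rw [← hP] at h5
    obtain ⟨z, hz, hzz⟩ := h5
    refine ⟨e z, ?_, ?_⟩
    · show e.symm (e z) ∈ (P : Subgroup ↥X)
      rw [e.symm_apply_apply]; exact hz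
    · show (MulAut.conj g⁻¹) (z : G) = y
      have hzz' : (z : G) = g * y * g⁻¹ := hzz
      rw [hzz']; simp [mul_assoc]

theorem Step.conj {p : ℕ} {𝓕 : Set (Subgroup G)} (h𝓕 : IsNormalSet 𝓕) {A : Set G} {S T : Sylow p G}
    (h : Step p 𝓕 A S T) (g : G) : Step p 𝓕 (conjRight g A) (g⁻¹ • S) (g⁻¹ • T) := by
  obtain ⟨X, h1, h2, x, hx, h3, h4, h5⟩ := h
  refine ⟨subgroupConjRight g X, sylowMembers_conj h𝓕 h1 g, sylowMembers_conj h𝓕 h2 g, g⁻¹ * x * g, ?_, ?_, ?_, ?_⟩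
  · rw [mem_conjRight_iff]
    convert hx using 1
    group
  · rw [← h3, smul_smul, smul_smul]
    congr 1
    group
  · rintro _ ⟨a, ha, rfl⟩
    show g⁻¹ * a * g ∈ ((g⁻¹ • T : Sylow p G) : Subgroup G)
    rw [mem_smul_iff]
    have h6 : a ∈ (T : Subgroup G) := h4 ha
    convert h6 using 1
    group
  · rintro _ ⟨a, ha, rfl⟩
    show g⁻¹ * a * g ∈ subgroupConjRight g X
    rw [mem_conjRight_iff]
    have h6 : a ∈ X := h5 ha
    convert h6 using 1
    group

theorem Conn.conj {p : ℕ} {𝓕 : Set (Subgroup G)} (h𝓕 : IsNormalSet 𝓕) {A : Set G} {S T : Sylow p G}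
    (h : Conn p 𝓕 A S T) (g : G) : Conn p 𝓕 (conjRight g A) (g⁻¹ • S) (g⁻¹ • T) := by
  unfold Conn at h ⊢
  induction h with
  | refl => exact Relation.ReflTransGen.refl
  | tail _ hR ih => exact ih.tail (hR.conj h𝓕 g)

end Cfsg.Agent.Lib.SylowChain
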