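import Mathlib
import Cfsg.Agent.Lib.SylowExtend
import Cfsg.Agent.Lib.BlockDefect
import Cfsg.Agent.Lib.H76Char

/-!
# Sums of squares of `p'`-degrees and the Sylow normalizer
-/

set_option autoImplicit false
set_option linter.all false
set_option maxHeartbeats 400000

namespace Cfsg.Agent.Lib.SylowSquares

open Cfsg Cfsg.Agent.Lib.CharBasic Cfsg.Agent.Lib.BlockRing Cfsg.Agent.Lib.BlockGA
open Cfsg.Agent.Lib.PDegreeH82 Cfsg.Agent.Lib.PNilp Cfsg.Agent.Lib.SylowExtend
open scoped ComplexConjugate commutatorElement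

universe u

variable {G : Type u} [Group G] {p : ℕ}

theorem sum_sq_lt {ι : Type*} {S : Finset ι} {d : ι → ℕ} (hd : ∀ i ∈ S, 0 < d i) {a b : ι} (ha : a ∈ S)
    (hb : b ∈ S) (hab : a ≠ b) : ∑ i ∈ S, d i ^ 2 < (∑ i ∈ S, d i) ^ 2 := by
  classical
  rw [pow_two (∑ i ∈ S, d i), Finset.sum_mul]
  apply Finset.sum_lt_sum
  · intro i hi
    rw [pow_two]
    exact Nat.mul_le_mul_left _ (Finset.single_le_sum (f := d) (fun _ _ => Nat.zero_le _) hi)
  · refine ⟨a, ha, ?_⟩
    rw [pow_two]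
    apply Nat.mul_lt_mul_of_pos_left _ (hd a ha)
    have h1 : ∑ i ∈ {a, b}, d i ≤ ∑ i ∈ S, d i := by
      apply Finset.sum_le_sum_of_subset
      intro x hx
      simp only [Finset.mem_insert, Finset.mem_singleton] at hx
      rcases hx with rfl | rfl
      · exact ha
      · exact hb
    rw [Finset.sum_pair hab] at h1
    have := hd b hb
    omega

theorem sum_sq_le {ι : Type*} {S : Finset ι} {d : ι → ℕ} :
    ∑ i ∈ S, d i ^ 2 ≤ (∑ i ∈ S, d i) ^ 2 := by
  classical
  rw [pow_two (∑ i ∈ S, d i), Finset.sum_mul]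
  apply Finset.sum_le_sum
  intro i hi
  rw [pow_two]
  exact Nat.mul_le_mul_left _ (Finset.single_le_sum (f := d) (fun _ _ => Nat.zero_le _) hi)

section restrict

variable [Finite G] (H : Subgroup G)

/-- The multiplicity of `ψ` in the restriction of `χ`. -/
theorem exists_mult : ∃ a : IrrCharacter G → IrrCharacter H → ℕ,
    (∀ (χ : IrrCharacter G) (h : H), (χ : G → ℂ) h = ∑ ψ : IrrCharacter H, (a χ ψ : ℂ) * (ψ : H → ℂ) h) ∧
    (∀ χ : IrrCharacter G, charDegree (χ : G → ℂ) = ∑ ψ : IrrCharacter H, a χ ψ * charDegree (ψ : H → ℂ)) ∧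
    (∀ ψ : IrrCharacter H, ∑ χ : IrrCharacter G, charDegree (χ : G → ℂ) * a χ ψ =
      H.index * charDegree (ψ : H → ℂ)) := by
  classical
  have := Fintype.ofFinite G
  have := Fintype.ofFinite H
  choose a ha using fun (χ : IrrCharacter G) (ψ : IrrCharacter H) =>
    (χ.2.isCharacter.restrict H).classInner_nat ψ.2.isCharacter
  have h1 : ∀ (χ : IrrCharacter G) (h : H), (χ : G → ℂ) h = ∑ ψ : IrrCharacter H, (a χ ψ : ℂ) * (ψ : H → ℂ) h := by
    intro χ h
    have := (χ.2.isCharacter.restrict H).isClassFunction.expansion_apply h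
    simp only [ha] at this
    exact this
  refine ⟨a, h1, ?_, ?_⟩
  · intro χ
    have h2 := h1 χ 1
    have h3 : ((charDegree (χ : G → ℂ) : ℕ) : ℂ) =
        ((∑ ψ : IrrCharacter H, a χ ψ * charDegree (ψ : H → ℂ) : ℕ) : ℂ) := by
      rw [BlockDeg.charDegree_cast_irr]
      push_cast
      rw [OneMemClass.coe_one] at h2
      rw [h2]
      exact Finset.sum_congr rfl fun ψ _ => by rw [BlockDeg.charDegree_cast_irr]
    exact_mod_cast h3
  · intro ψ
    have h3 : ((∑ χ : IrrCharacter G, charDegree (χ : G → ℂ) * a χ ψ : ℕ) : ℂ) =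
        ((H.index * charDegree (ψ : H → ℂ) : ℕ) : ℂ) := by
      push_cast
      simp only [BlockDeg.charDegree_cast_irr, ← ha, classInner_def, Finset.mul_sum]
      rw [Finset.sum_comm]
      have h4 : ∀ h : H, ∑ χ : IrrCharacter G, (χ : G → ℂ) 1 * ((Nat.card H : ℂ)⁻¹ *
          ((χ : G → ℂ) (h : G) * conj ((ψ : H → ℂ) h))) =
          (Nat.card H : ℂ)⁻¹ * conj ((ψ : H → ℂ) h) * ∑ χ : IrrCharacter G, (χ : G → ℂ) 1 * (χ : G → ℂ) (h : G) := by
        intro h
        rw [Finset.mul_sum]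
        exact Finset.sum_congr rfl fun χ _ => by ring
      simp only [h4]
      rw [Finset.sum_eq_single 1]
      · have h5 : ∑ χ : IrrCharacter G, (χ : G → ℂ) 1 * (χ : G → ℂ) ((1 : H) : G) = (Nat.card G : ℂ) := by
          rw [← sum_degree_sq]
          exact Finset.sum_congr rfl fun χ _ => by rw [OneMemClass.coe_one, pow_two]
        rw [h5, ← BlockDeg.charDegree_cast_irr, map_natCast, ← H.card_mul_index]
        push_cast
        have hH : (Nat.card H : ℂ) ≠ 0 := by exact_mod_cast Nat.card_pos.ne'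
        field_simp
      · intro h _ hh
        have h5 : (h : G) ≠ 1 := fun h' => hh (Subtype.ext h')
        rw [sum_degree_mul _ h5, mul_zero]
      · intro h; exact absurd (Finset.mem_univ _) h
    exact_mod_cast h3

variable {H}

open scoped Classical in
/-- The inequality of sums of squares, with the case of equality. -/
theorem sum_sq_restrict (hp : p.Prime) (hH : ¬ p ∣ H.index) :
    ∑ ψ ∈ Finset.univ.filter (fun ψ : IrrCharacter H => ¬ p ∣ charDegree (ψ : H → ℂ)),
      charDegree (ψ : H → ℂ) ^ 2 ≤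
    ∑ χ ∈ Finset.univ.filter (fun χ : IrrCharacter G => ¬ p ∣ charDegree (χ : G → ℂ)),
      charDegree (χ : G → ℂ) ^ 2 ∧
    (∑ ψ ∈ Finset.univ.filter (fun ψ : IrrCharacter H => ¬ p ∣ charDegree (ψ : H → ℂ)),
      charDegree (ψ : H → ℂ) ^ 2 =
    ∑ χ ∈ Finset.univ.filter (fun χ : IrrCharacter G => ¬ p ∣ charDegree (χ : G → ℂ)),
      charDegree (χ : G → ℂ) ^ 2 → ∀ ψ : IrrCharacter H, ¬ p ∣ charDegree (ψ : H → ℂ) →
        ∃ χ : IrrCharacter G, ∀ x : H, (χ : G → ℂ) x = (ψ : H → ℂ) x) := by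
  obtain ⟨a, h1, h2, h3⟩ := exists_mult H
  set X := Finset.univ.filter (fun χ : IrrCharacter G => ¬ p ∣ charDegree (χ : G → ℂ)) with hX
  set Y := Finset.univ.filter (fun ψ : IrrCharacter H => ¬ p ∣ charDegree (ψ : H → ℂ)) with hY
  have hdH : ∀ ψ : IrrCharacter H, 0 < charDegree (ψ : H → ℂ) := fun ψ => BlockDeg.charDegree_pos ψ.2
  -- every `ψ` lies under some `χ`
  have hex : ∀ ψ ∈ Y, ∃ χ ∈ X, a χ ψ ≠ 0 := by
    intro ψ hψ
    by_contra hcon
    push Not at hcon
    have h4 : p ∣ ∑ χ : IrrCharacter G, charDegree (χ : G → ℂ) * a χ ψ := by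
      refine Finset.dvd_sum fun χ _ => ?_
      by_cases h5 : p ∣ charDegree (χ : G → ℂ)
      · exact Dvd.dvd.mul_right h5 _
      · rw [hcon χ (by rw [hX, Finset.mem_filter]; exact ⟨Finset.mem_univ _, h5⟩), mul_zero]
        exact dvd_zero p
    rw [h3] at h4
    rcases hp.dvd_mul.1 h4 with h5 | h5
    · exact hH h5
    · exact (Finset.mem_filter.1 hψ).2 h5
  -- the constituents
  let S : IrrCharacter G → Finset (IrrCharacter H) := fun χ => Y.filter (fun ψ => a χ ψ ≠ 0)
  have hS1 : ∀ χ, ∑ ψ ∈ S χ, charDegree (ψ : H → ℂ) ≤ charDegree (χ : G → ℂ) := by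
    intro χ
    rw [h2 χ]
    calc ∑ ψ ∈ S χ, charDegree (ψ : H → ℂ) ≤ ∑ ψ ∈ S χ, a χ ψ * charDegree (ψ : H → ℂ) := by
          refine Finset.sum_le_sum fun ψ hψ => ?_
          have : 1 ≤ a χ ψ := Nat.one_le_iff_ne_zero.2 (Finset.mem_filter.1 hψ).2
          exact Nat.le_mul_of_pos_left _ this
      _ ≤ ∑ ψ : IrrCharacter H, a χ ψ * charDegree (ψ : H → ℂ) :=
          Finset.sum_le_sum_of_subset (Finset.subset_univ _)
  have hS2 : ∀ χ, ∑ ψ ∈ S χ, charDegree (ψ : H → ℂ) ^ 2 ≤ charDegree (χ : G → ℂ) ^ 2 := fun χ =>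
    sum_sq_le.trans (Nat.pow_le_pow_left (hS1 χ) 2)
  have hswap : ∑ χ ∈ X, ∑ ψ ∈ S χ, charDegree (ψ : H → ℂ) ^ 2 =
      ∑ ψ ∈ Y, (X.filter (fun χ => a χ ψ ≠ 0)).card * charDegree (ψ : H → ℂ) ^ 2 := by
    simp only [S, Finset.sum_filter]
    rw [Finset.sum_comm]
    refine Finset.sum_congr rfl fun ψ _ => ?_
    rw [← Finset.sum_filter, Finset.sum_const, smul_eq_mul]
  have hlow : ∑ ψ ∈ Y, charDegree (ψ : H → ℂ) ^ 2 ≤ ∑ χ ∈ X, ∑ ψ ∈ S χ, charDegree (ψ : H → ℂ) ^ 2 := by
    rw [hswap]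
    refine Finset.sum_le_sum fun ψ hψ => ?_
    obtain ⟨χ, hχ, hχa⟩ := hex ψ hψ
    have : 1 ≤ (X.filter (fun χ => a χ ψ ≠ 0)).card :=
      Finset.card_pos.2 ⟨χ, Finset.mem_filter.2 ⟨hχ, hχa⟩⟩
    exact Nat.le_mul_of_pos_left _ this
  have hup : ∑ χ ∈ X, ∑ ψ ∈ S χ, charDegree (ψ : H → ℂ) ^ 2 ≤ ∑ χ ∈ X, charDegree (χ : G → ℂ) ^ 2 :=
    Finset.sum_le_sum fun χ _ => hS2 χ
  refine ⟨hlow.trans hup, fun heq ψ hψ => ?_⟩
  have heq2 : ∑ χ ∈ X, ∑ ψ ∈ S χ, charDegree (ψ : H → ℂ) ^ 2 = ∑ χ ∈ X, charDegree (χ : G → ℂ) ^ 2 :=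
    le_antisymm hup (heq ▸ hlow)
  have heq3 := (Finset.sum_eq_sum_iff_of_le (fun χ _ => hS2 χ)).1 heq2
  have hψY : ψ ∈ Y := Finset.mem_filter.2 ⟨Finset.mem_univ _, hψ⟩
  obtain ⟨χ, hχ, hχa⟩ := hex ψ hψY
  have hψS : ψ ∈ S χ := Finset.mem_filter.2 ⟨hψY, hχa⟩
  have h5 := heq3 χ hχ
  have h6 : S χ = {ψ} := by
    rw [Finset.eq_singleton_iff_unique_mem]
    refine ⟨hψS, fun θ hθ => ?_⟩
    by_contra hne
    have h7 := sum_sq_lt (S := S χ) (d := fun ψ : IrrCharacter H => charDegree (ψ : H → ℂ))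
      (fun i _ => hdH i) hθ hψS hne
    have h8 := Nat.pow_le_pow_left (hS1 χ) 2
    omega
  rw [h6, Finset.sum_singleton] at h5
  have h7 : charDegree (χ : G → ℂ) = charDegree (ψ : H → ℂ) := by
    have := Nat.pow_left_injective (n := 2) (by norm_num) h5
    exact this.symm
  -- hence `χ` restricts to `ψ`
  have h8 := h2 χ
  rw [← Finset.add_sum_erase _ _ (Finset.mem_univ ψ), h7] at h8
  have h9 : a χ ψ = 1 ∧ ∑ θ ∈ Finset.univ.erase ψ, a χ θ * charDegree (θ : H → ℂ) = 0 := by
    have h10 : 1 ≤ a χ ψ := Nat.one_le_iff_ne_zero.2 hχa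
    have h11 := hdH ψ
    constructor
    · by_contra hne
      have h12 : 2 ≤ a χ ψ := by omega
      have h13 := Nat.mul_le_mul_right (charDegree (ψ : H → ℂ)) h12
      omega
    · have h13 := Nat.mul_le_mul_right (charDegree (ψ : H → ℂ)) h10
      omega
  refine ⟨χ, fun x => ?_⟩
  rw [h1 χ x, ← Finset.add_sum_erase _ _ (Finset.mem_univ ψ), h9.1, Nat.cast_one, one_mul,
    Finset.sum_eq_zero, add_zero]
  intro θ hθ
  have h10 := (Finset.sum_eq_zero_iff.1 h9.2) θ hθ
  have h11 : a χ θ = 0 := (Nat.mul_eq_zero.1 h10).resolve_right (hdH θ).ne'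
  rw [h11, Nat.cast_zero, zero_mul]

end restrict

/-- A normal subgroup centralized by no nontrivial element of the `p`-group is in the kernel of
every `p'`-degree character. -/
theorem ker_of_centralizer_trivial [Finite G] [hp : Fact p.Prime] (P K : Subgroup G) [K.Normal]
    (hP : IsPGroup p P) (hK : K ⊓ Subgroup.centralizer (P : Set G) = ⊥) (χ : IrrCharacter G)
    (h : ¬ p ∣ charDegree (χ : G → ℂ)) : ∀ k ∈ K, (χ : G → ℂ) k = (χ : G → ℂ) 1 := by
  classical
  have := Fintype.ofFinite G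
  obtain ⟨M, hM⟩ := H76Char.exists_isPModular p
  have := isPrime hM
  have h1 := BlockDefect.sum_sub_sum_centralizer hM hP (fun x => if x ∈ K then (χ : G → ℂ) x else 0) (by
    intro g _ x
    have : g * x * g⁻¹ ∈ K ↔ x ∈ K := by
      constructor
      · intro h1
        have h2 := ‹K.Normal›.conj_mem _ h1 g⁻¹
        simpa [mul_assoc] using h2
      · intro h1; exact ‹K.Normal›.conj_mem _ h1 g
    simp only [this, χ.2.isClassFunction x g]) (by
    intro x
    show MemLocalRing M (if x ∈ K then (χ : G → ℂ) x else 0)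
    split_ifs
    · exact loc_irr χ x
    · exact loc_zero)
  have h2 : ∑ x ∈ Finset.univ.filter (· ∈ Subgroup.centralizer (P : Set G)),
      (if x ∈ K then (χ : G → ℂ) x else 0) = (χ : G → ℂ) 1 := by
    rw [Finset.sum_eq_single 1]
    · rw [if_pos K.one_mem]
    · intro x hx hx1
      rw [if_neg]
      intro hxK
      have : x ∈ K ⊓ Subgroup.centralizer (P : Set G) := ⟨hxK, (Finset.mem_filter.1 hx).2⟩
      rw [hK] at this
      exact hx1 (Subgroup.mem_bot.1 this)
    · intro h3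
      exact absurd (Finset.mem_filter.2 ⟨Finset.mem_univ _, Subgroup.one_mem _⟩) h3
  rw [h2] at h1
  have h3 : ∑ x : K, (χ : G → ℂ) (x : G) ≠ 0 := by
    intro h0
    have h4 : ∑ x : G, (if x ∈ K then (χ : G → ℂ) x else 0) = 0 := by
      rw [← Finset.sum_filter, ← h0]
      exact Finset.sum_subtype (Finset.univ.filter (· ∈ K)) (by simp) (χ : G → ℂ)
    rw [h4, zero_sub, idl_neg_iff, ← BlockDeg.charDegree_cast_irr, idl_natCast_iff hM] at h1
    exact h h1
  exact ker_of_sum_ne_zero K χ.2 h3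

theorem sum_equiv_retraction [Finite G] (p : ℕ) (K N : Subgroup G) [K.Normal] (h1 : K ⊔ N = ⊤) (h2 : K ⊓ N = ⊥)
    (hker : ∀ χ : IrrCharacter G, ¬ p ∣ charDegree (χ : G → ℂ) → ∀ k ∈ K, (χ : G → ℂ) k = (χ : G → ℂ) 1) :
    ∑ᶠ χ : {χ : IrrCharacter G // ¬ p ∣ charDegree (χ : G → ℂ)}, charDegree (χ.1 : G → ℂ) ^ 2 =
    ∑ᶠ θ : {θ : IrrCharacter N // ¬ p ∣ charDegree (θ : N → ℂ)}, charDegree (θ.1 : N → ℂ) ^ 2 := by
  obtain ⟨f, hf, hfK⟩ := exists_retraction K N h1 h2
  have hs : Function.Surjective f := fun x => ⟨x, hf x⟩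
  let F : {θ : IrrCharacter N // ¬ p ∣ charDegree (θ : N → ℂ)} →
      {χ : IrrCharacter G // ¬ p ∣ charDegree (χ : G → ℂ)} := fun θ =>
    ⟨⟨fun g => (θ.1 : N → ℂ) (f g), θ.1.2.comp_surjective f hs⟩, by
      have : charDegree (fun g => (θ.1 : N → ℂ) (f g)) = charDegree (θ.1 : N → ℂ) := by
        rw [charDegree, charDegree, map_one]
      show ¬ p ∣ charDegree (fun g => (θ.1 : N → ℂ) (f g))
      rw [this]; exact θ.2⟩
  have hFd : ∀ θ, charDegree ((F θ).1 : G → ℂ) = charDegree (θ.1 : N → ℂ) := by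
    intro θ
    show charDegree (fun g => (θ.1 : N → ℂ) (f g)) = charDegree (θ.1 : N → ℂ)
    rw [charDegree, charDegree, map_one]
  have hFb : Function.Bijective F := by
    constructor
    · intro θ θ' h
      apply Subtype.ext
      apply Subtype.ext
      funext x
      have h3 := congrArg (fun z => (z.1 : G → ℂ) (x : G)) h
      simp only [F, hf] at h3
      exact h3
    · intro χ
      have hfac : ∀ g : G, (χ.1 : G → ℂ) g = (χ.1 : G → ℂ) ((f g : N) : G) := by
        intro g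
        have h3 : g * ((f g : N) : G)⁻¹ ∈ K := by
          -- `g = k n`
          have hg : g ∈ K ⊔ N := by rw [h1]; trivial
          rw [Subgroup.mem_sup_of_normal_left] at hg
          obtain ⟨k, hk, n, hn, rfl⟩ := hg
          have h4 : f (k * n) = ⟨n, hn⟩ := by
            rw [map_mul, hfK k hk, one_mul]
            exact hf ⟨n, hn⟩
          rw [h4]
          simpa using hk
        -- kernel elements act trivially
        obtain ⟨m, ρ, hρ, hρχ⟩ := χ.1.2
        have h5 := hker χ.1 χ.2 _ h3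
        rw [← hρχ] at h5 ⊢
        rw [Representation.char_one, CharValues.character_eq_finrank_iff] at h5
        have h6 : g = (g * ((f g : N) : G)⁻¹) * ((f g : N) : G) := by group
        have h7 : ρ g = ρ ((f g : N) : G) := by
          conv_lhs => rw [h6, map_mul, h5]
          rfl
        unfold Representation.character
        rw [h7]
      have hirr : IsIrrCharacter N (fun n : N => (χ.1 : G → ℂ) n) := by
        apply (χ.1.2.isCharacter.restrict N).isIrr_of_comp f
        have : (fun g : G => (χ.1 : G → ℂ) ((f g : N) : G)) = (χ.1 : G → ℂ) := by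
          funext g; exact (hfac g).symm
        rw [this]; exact χ.1.2
      refine ⟨⟨⟨fun n : N => (χ.1 : G → ℂ) n, hirr⟩, ?_⟩, ?_⟩
      · have : charDegree (fun n : N => (χ.1 : G → ℂ) n) = charDegree (χ.1 : G → ℂ) := by
          rw [charDegree, charDegree, OneMemClass.coe_one]
        show ¬ p ∣ charDegree (fun n : N => (χ.1 : G → ℂ) n)
        rw [this]; exact χ.2
      · apply Subtype.ext
        apply Subtype.ext
        funext g
        exact (hfac g).symm
  rw [← finsum_comp_equiv (Equiv.ofBijective F hFb)]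
  exact finsum_congr fun θ => by
    show charDegree ((F θ).1 : G → ℂ) ^ 2 = _
    rw [hFd]

open scoped Classical in
theorem finsum_eq_filter {α : Type*} [Fintype α] (q : α → Prop) (f : α → ℕ) :
    ∑ᶠ x : {x : α // q x}, f x = ∑ x ∈ Finset.univ.filter q, f x := by
  rw [finsum_eq_sum_of_fintype]
  exact (Finset.sum_subtype (Finset.univ.filter q) (by simp) f).symm

/-- The sum over the Sylow normalizer. -/
theorem sum_normalizer [Finite G] [hp : Fact p.Prime] (P : Sylow p G) :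
    Nat.card (commutator (P : Subgroup G)) *
      (∑ᶠ θ : {θ : IrrCharacter (Subgroup.normalizer ((P : Subgroup G) : Set G)) //
        ¬ p ∣ charDegree (θ : Subgroup.normalizer ((P : Subgroup G) : Set G) → ℂ)},
        charDegree (θ.1 : Subgroup.normalizer ((P : Subgroup G) : Set G) → ℂ) ^ 2) =
      Nat.card (Subgroup.normalizer ((P : Subgroup G) : Set G)) := by
  classical
  set N := Subgroup.normalizer ((P : Subgroup G) : Set G) with hNdef
  have hPN : (P : Subgroup G) ≤ N := Subgroup.le_normalizer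
  have hPNc : ((P.subtype hPN : Sylow p N) : Subgroup N) = (P : Subgroup G).subgroupOf N := rfl
  have hPNn : ((P.subtype hPN : Sylow p N) : Subgroup N).Normal := by
    rw [hPNc]; exact Subgroup.normal_in_normalizer
  have hPNi : ¬ p ∣ ((P.subtype hPN : Sylow p N) : Subgroup N).index := (P.subtype hPN).not_dvd_index
  have hd := fun θ : IrrCharacter N => pdegree_iff ((P.subtype hPN : Sylow p N) : Subgroup N)
    (P.subtype hPN).2 hPNi θ
  rw [finsum_eq_filter (fun θ : IrrCharacter N => ¬ p ∣ charDegree (θ : N → ℂ))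
    (fun θ => charDegree (θ : N → ℂ) ^ 2)]
  have h1 := sum_sq_ker (G := N) ⁅((P.subtype hPN : Sylow p N) : Subgroup N),
    ((P.subtype hPN : Sylow p N) : Subgroup N)⁆
  have h2 : (Finset.univ.filter (fun θ : IrrCharacter N => ¬ p ∣ charDegree (θ : N → ℂ))) =
      Finset.univ.filter (fun χ : IrrCharacter N => ∀ n ∈ ⁅((P.subtype hPN : Sylow p N) : Subgroup N),
    ((P.subtype hPN : Sylow p N) : Subgroup N)⁆, (χ : N → ℂ) n = (χ : N → ℂ) 1) := by
    ext θ
    simp only [Finset.mem_filter, Finset.mem_univ, true_and]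
    exact hd θ
  have h3 : ∑ θ ∈ Finset.univ.filter (fun θ : IrrCharacter N => ¬ p ∣ charDegree (θ : N → ℂ)),
      charDegree (θ : N → ℂ) ^ 2 = (⁅((P.subtype hPN : Sylow p N) : Subgroup N),
    ((P.subtype hPN : Sylow p N) : Subgroup N)⁆).index := by
    rw [h2]; exact h1
  set D := (⁅((P.subtype hPN : Sylow p N) : Subgroup N), ((P.subtype hPN : Sylow p N) : Subgroup N)⁆ :
    Subgroup N) with hD
  have h4 : Nat.card (commutator (P : Subgroup G)) = Nat.card D := by
    have e1 : Nat.card ((commutator (P : Subgroup G)).map (P : Subgroup G).subtype) =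
        Nat.card (commutator (P : Subgroup G)) :=
      Subgroup.card_map_of_injective (P : Subgroup G).subtype_injective
    have e2 : Nat.card (D.map N.subtype) = Nat.card D :=
      Subgroup.card_map_of_injective N.subtype_injective
    rw [← e1, ← e2, hD, commutator_def, Subgroup.map_commutator, ← MonoidHom.range_eq_map,
      Subgroup.range_subtype, Subgroup.map_commutator, hPNc, Subgroup.map_subgroupOf_eq_of_le hPN]
  rw [h4]
  have h5 : ∀ m : ℕ, m = D.index → Nat.card D * m = Nat.card N := fun m h => by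
    rw [h]; exact Subgroup.card_mul_index _
  exact h5 _ (by convert h3)

end Cfsg.Agent.Lib.SylowSquares
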