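import Mathlib

/-!
# Counting matrices congruent to a given symmetric matrix over a finite field of odd order (helper39)
-/

set_option autoImplicit false
set_option linter.unusedSectionVars false

namespace Cfsg.Agent.Lib.SymCount

open Matrix

variable {F : Type*} [Field F] {n : Type*} [Fintype n] [DecidableEq n]

/-- `GL` is transitive on non-zero vectors. -/
theorem exists_col (x : n → F) (hx : x ≠ 0) (i : n) :
    ∃ g : GL n F, (g : Matrix n n F) *ᵥ Pi.single i 1 = x := by
  classical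
  obtain ⟨k, hk⟩ : ∃ k, x k ≠ 0 := by
    by_contra h
    push Not at h
    exact hx (funext h)
  let P : Matrix n n F := (Equiv.swap i k).permMatrix F
  let y : n → F := P *ᵥ x
  have hy : y i ≠ 0 := by
    simp only [y, P, Matrix.permMatrix_mulVec, Function.comp, Equiv.swap_apply_left]
    exact hk
  let M : Matrix n n F := (1 : Matrix n n F).updateCol i y
  have hM : M.det = y i := by
    have h2 : Matrix.cramer (1 : Matrix n n F) y i = y i := by
      rw [Matrix.cramer_one]; rfl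
    rwa [Matrix.cramer_apply] at h2
  have hPP : P * P = 1 := by
    simp only [P]
    rw [← Matrix.permMatrix_mul, Equiv.swap_mul_self, Matrix.permMatrix_one]
  have hdet : IsUnit (P * M).det := by
    rw [Matrix.det_mul, hM]
    refine IsUnit.mul ?_ (IsUnit.mk0 _ hy)
    have : P.det * P.det = 1 := by rw [← Matrix.det_mul, hPP, Matrix.det_one]
    exact IsUnit.of_mul_eq_one _ this
  refine ⟨Matrix.GeneralLinearGroup.mk'' (P * M) hdet, ?_⟩
  change (P * M) *ᵥ Pi.single i 1 = x
  rw [← Matrix.mulVec_mulVec, Matrix.mulVec_single_one]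
  have : M.col i = y := by
    ext j
    simp [M, Matrix.col]
  rw [this]
  simp only [y]
  rw [Matrix.mulVec_mulVec, hPP, Matrix.one_mulVec]

theorem exists_map (x y : n → F) (hx : x ≠ 0) (hy : y ≠ 0) :
    ∃ g : GL n F, (g : Matrix n n F) *ᵥ x = y := by
  obtain ⟨i, -⟩ : ∃ i, x i ≠ 0 := by
    by_contra h
    push Not at h
    exact hx (funext h)
  obtain ⟨g, hg⟩ := exists_col x hx i
  obtain ⟨h, hh⟩ := exists_col y hy i
  refine ⟨h * g⁻¹, ?_⟩
  rw [← hg, Matrix.mulVec_mulVec, ← Units.val_mul, inv_mul_cancel_right, hh]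

section quad

variable (B : Matrix n n F)

theorem form_add_right (x y z : n → F) : x ⬝ᵥ (B *ᵥ (y + z)) = x ⬝ᵥ (B *ᵥ y) + x ⬝ᵥ (B *ᵥ z) := by
  rw [Matrix.mulVec_add, dotProduct_add]

theorem form_add_left (x y z : n → F) : (x + y) ⬝ᵥ (B *ᵥ z) = x ⬝ᵥ (B *ᵥ z) + y ⬝ᵥ (B *ᵥ z) := by
  rw [add_dotProduct]

theorem form_smul_right (c : F) (x y : n → F) : x ⬝ᵥ (B *ᵥ (c • y)) = c * x ⬝ᵥ (B *ᵥ y) := by
  rw [Matrix.mulVec_smul, dotProduct_smul, smul_eq_mul]

theorem form_smul_left (c : F) (x y : n → F) : (c • x) ⬝ᵥ (B *ᵥ y) = c * x ⬝ᵥ (B *ᵥ y) := by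
  rw [smul_dotProduct, smul_eq_mul]

variable {B}

theorem form_symm (hB : Bᵀ = B) (x y : n → F) : x ⬝ᵥ (B *ᵥ y) = y ⬝ᵥ (B *ᵥ x) := by
  rw [dotProduct_mulVec, ← mulVec_transpose, hB, dotProduct_comm]

theorem exists_anisotropic (hB : Bᵀ = B) (h2 : (2 : F) ≠ 0) (h0 : B ≠ 0) : ∃ e : n → F, e ⬝ᵥ (B *ᵥ e) ≠ 0 := by
  by_contra hcon
  push Not at hcon
  apply h0
  ext i j
  have h1 : ∀ x y : n → F, x ⬝ᵥ (B *ᵥ y) = 0 := by
    intro x y
    have h3 := hcon (x + y)
    rw [form_add_right, form_add_left, form_add_left, hcon, hcon, form_symm hB y x] at h3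
    have h4 : 2 * (x ⬝ᵥ (B *ᵥ y)) = 0 := by linear_combination h3
    exact (mul_eq_zero.1 h4).resolve_left h2
  have := h1 (Pi.single i 1) (Pi.single j 1)
  simpa using this

/-- A nonzero quadratic form over a finite field of odd order either represents everything or has rank one. -/
theorem repr_or_rank_one [Fintype F] (hB : Bᵀ = B) (h2 : (2 : F) ≠ 0) (h0 : B ≠ 0) :
    (∀ w : F, w ≠ 0 → ∃ x : n → F, x ⬝ᵥ (B *ᵥ x) = w) ∨
    (∃ (c : F) (y : n → F), c ≠ 0 ∧ y ≠ 0 ∧ B = c • Matrix.vecMulVec y y) := by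
  obtain ⟨e, he⟩ := exists_anisotropic hB h2 h0
  set c := e ⬝ᵥ (B *ᵥ e) with hc
  by_cases hall : ∀ x : n → F, e ⬝ᵥ (B *ᵥ x) = 0 → x ⬝ᵥ (B *ᵥ x) = 0
  · right
    refine ⟨c⁻¹, B *ᵥ e, inv_ne_zero he, ?_, ?_⟩
    · intro h
      rw [h, dotProduct_zero] at hc
      exact he hc
    · have h1 : ∀ x y : n → F, e ⬝ᵥ (B *ᵥ x) = 0 → e ⬝ᵥ (B *ᵥ y) = 0 → x ⬝ᵥ (B *ᵥ y) = 0 := by
        intro x y hx hy
        have h3 := hall (x + y) (by rw [form_add_right, hx, hy, add_zero])
        rw [form_add_right, form_add_left, form_add_left, hall x hx, hall y hy, form_symm hB y x] at h3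
        have h4 : 2 * (x ⬝ᵥ (B *ᵥ y)) = 0 := by linear_combination h3
        exact (mul_eq_zero.1 h4).resolve_left h2
      have h3 : ∀ x y : n → F, x ⬝ᵥ (B *ᵥ y) = c⁻¹ * (e ⬝ᵥ (B *ᵥ x)) * (e ⬝ᵥ (B *ᵥ y)) := by
        intro x y
        have hp : ∀ x : n → F, e ⬝ᵥ (B *ᵥ (x + (-(c⁻¹ * (e ⬝ᵥ (B *ᵥ x)))) • e)) = 0 := by
          intro x
          rw [form_add_right, form_smul_right, ← hc]
          field_simp
          ring
        have h4 := h1 _ _ (hp x) (hp y)
        rw [form_add_right, form_add_left, form_add_left, form_smul_right, form_smul_left, form_smul_left,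
          form_smul_right, form_symm hB x e, ← hc] at h4
        have h5 : c * c⁻¹ = 1 := mul_inv_cancel₀ he
        linear_combination h4 - (c⁻¹ * (e ⬝ᵥ (B *ᵥ x)) * (e ⬝ᵥ (B *ᵥ y))) * h5
      ext i j
      have h4 := h3 (Pi.single i 1) (Pi.single j 1)
      have h5 : ∀ k, e ⬝ᵥ (B *ᵥ Pi.single k 1) = (B *ᵥ e) k := by
        intro k
        rw [form_symm hB]
        simp
      rw [h5, h5] at h4
      rw [Matrix.smul_apply, Matrix.vecMulVec_apply, smul_eq_mul, ← mul_assoc, ← h4]
      simp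
  · left
    push Not at hall
    obtain ⟨f, hf, hd⟩ := hall
    intro w hw
    have hodd : Fintype.card F % 2 = 1 := by
      rcases Nat.mod_two_eq_zero_or_one (Fintype.card F) with h | h
      · exact absurd ((FiniteField.even_card_iff_char_two).2 h) (fun h' => h2 (by
          have := ringChar.spec F 2
          have h3 := this.2 (by rw [h'])
          exact_mod_cast h3))
      · exact h
    obtain ⟨a, b, hab⟩ := FiniteField.exists_root_sum_quadratic (R := F)
      (f := Polynomial.C c * Polynomial.X ^ 2 + Polynomial.C (-w))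
      (g := Polynomial.C (f ⬝ᵥ (B *ᵥ f)) * Polynomial.X ^ 2)
      (by compute_degree!) (by compute_degree!) hodd
    refine ⟨a • e + b • f, ?_⟩
    rw [form_add_right, form_add_left, form_add_left]
    simp only [form_smul_right, form_smul_left, form_symm hB f e, hf, ← hc]
    simp at hab
    linear_combination hab

end quad

/-- The congruence action. -/
def cg (B : Matrix n n F) (g : GL n F) : Matrix n n F := (g : Matrix n n F)ᵀ * B * (g : Matrix n n F)

theorem cg_apply (B : Matrix n n F) (g : GL n F) (i j : n) : cg B g i j =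
      ((g : Matrix n n F) *ᵥ Pi.single i 1) ⬝ᵥ (B *ᵥ ((g : Matrix n n F) *ᵥ Pi.single j 1)) := by
  have h1 : ∀ M : Matrix n n F, M i j = (Pi.single i 1 : n → F) ⬝ᵥ (M *ᵥ Pi.single j 1) := by
    intro M; simp
  refine (h1 _).trans ?_
  rw [cg, ← Matrix.mulVec_mulVec, ← Matrix.mulVec_mulVec, Matrix.dotProduct_mulVec _ (_ᵀ), Matrix.vecMul_transpose]

/-- If the quadratic form of `B` represents `w i₀`, then `w` is the `i₀`-th row of a congruent matrix. -/
theorem exists_row {B : Matrix n n F} (i₀ : n) (w : n → F) (hw : w i₀ ≠ 0) (x : n → F)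
    (hx : x ⬝ᵥ (B *ᵥ x) = w i₀) : ∃ g : GL n F, cg B g i₀ = w := by
  have hx0 : x ≠ 0 := by
    rintro rfl
    apply hw
    rw [← hx, zero_dotProduct]
  obtain ⟨g, hg⟩ := exists_col x hx0 i₀
  obtain ⟨s, hs⟩ : ∃ s : n → F, ∀ j, s j = (w j - x ⬝ᵥ (B *ᵥ ((g : Matrix n n F) *ᵥ Pi.single j 1))) / w i₀ := ⟨_, fun _ => rfl⟩
  have hs0 : s i₀ = 0 := by
    rw [hs, hg, hx, sub_self, zero_div]
  obtain ⟨N, hN⟩ : ∃ N : Matrix n n F, N = 1 + Matrix.vecMulVec (Pi.single i₀ 1) s := ⟨_, rfl⟩
  have hdet : IsUnit N.det := by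
    have : N.det = 1 := by
      rw [hN, Matrix.vecMulVec_eq Unit, Matrix.det_one_add_replicateCol_mul_replicateRow]
      simp [hs0]
    rw [this]; exact isUnit_one
  have hNj : ∀ j, N *ᵥ Pi.single j 1 = Pi.single j 1 + s j • Pi.single i₀ 1 := by
    intro j
    rw [hN, Matrix.add_mulVec, Matrix.one_mulVec, Matrix.vecMulVec_mulVec]
    simp
  refine ⟨g * Matrix.GeneralLinearGroup.mk'' N hdet, ?_⟩
  have hgN : ∀ j, ((g * Matrix.GeneralLinearGroup.mk'' N hdet : GL n F) : Matrix n n F) *ᵥ Pi.single j 1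
      = (g : Matrix n n F) *ᵥ Pi.single j 1 + s j • x := by
    intro j
    change ((g : Matrix n n F) * N) *ᵥ _ = _
    rw [← Matrix.mulVec_mulVec, hNj, Matrix.mulVec_add, Matrix.mulVec_smul, hg]
  funext j
  rw [cg_apply, hgN, hgN, hs0, zero_smul, add_zero, hg, form_add_right, form_smul_right, hx, hs]
  field_simp
  ring

theorem card_congr_A [Fintype F] [DecidableEq F] {B : Matrix n n F} (h0 : B ≠ 0)
    (hrep : ∀ w : F, w ≠ 0 → ∃ x : n → F, x ⬝ᵥ (B *ᵥ x) = w) :
    (Fintype.card F ^ Fintype.card n - 1) / 2 ≤ ((Finset.univ : Finset (GL n F)).image (cg B)).card := by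
  classical
  have hq : 2 ≤ Fintype.card F := Fintype.one_lt_card
  obtain ⟨i₀, -⟩ : ∃ i : n, ∃ j, B i j ≠ 0 := by
    by_contra h
    push Not at h
    exact h0 (by ext i j; exact h i j)
  have h1 : (((Finset.univ : Finset F).erase 0) ×ˢ (Finset.univ : Finset ({j // j ≠ i₀} → F))).card ≤
      ((Finset.univ : Finset (GL n F)).image (cg B)).card := by
    refine Finset.card_le_card_of_surjOn (fun M => Equiv.funSplitAt i₀ F (M i₀)) ?_
    rintro ⟨w₀, w'⟩ hw
    have hw0 : w₀ ≠ 0 := by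
      have := (Finset.mem_product.1 (Finset.mem_coe.1 hw)).1
      exact (Finset.mem_erase.1 this).1
    obtain ⟨w, hw2⟩ := (Equiv.funSplitAt i₀ F).surjective (w₀, w')
    have hwi : w i₀ = w₀ := congrArg Prod.fst hw2
    obtain ⟨x, hx⟩ := hrep w₀ hw0
    rw [← hwi] at hw0 hx
    obtain ⟨g, hg⟩ := exists_row i₀ w hw0 x hx
    refine ⟨cg B g, Finset.mem_coe.2 (Finset.mem_image_of_mem _ (Finset.mem_univ _)), ?_⟩
    rw [← hw2]
    exact congrArg _ hg
  rw [Finset.card_product, Finset.card_erase_of_mem (Finset.mem_univ _), Finset.card_univ, Finset.card_univ] at h1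
  have h3 : Fintype.card (n → F) = Fintype.card F * Fintype.card ({j // j ≠ i₀} → F) := by
    rw [Fintype.card_congr (Equiv.funSplitAt i₀ F), Fintype.card_prod]
  rw [Fintype.card_fun] at h3
  rw [h3]
  refine le_trans ?_ h1
  obtain ⟨k, hk⟩ := Nat.exists_eq_add_of_le hq
  rw [hk]
  have : (2 + k) * Fintype.card ({j // j ≠ i₀} → F) ≤ 2 * ((2 + k - 1) * Fintype.card ({j // j ≠ i₀} → F)) := by
    rw [show 2 + k - 1 = 1 + k by omega, ← mul_assoc]
    exact Nat.mul_le_mul_right _ (by omega)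
  omega

theorem card_congr_B [Fintype F] [DecidableEq F] {B : Matrix n n F} {c : F} {y₀ : n → F} (hc : c ≠ 0) (hy₀ : y₀ ≠ 0)
    (hBy : B = c • Matrix.vecMulVec y₀ y₀) :
    (Fintype.card F ^ Fintype.card n - 1) / 2 ≤ ((Finset.univ : Finset (GL n F)).image (cg B)).card := by
  classical
  have h1 : ((Finset.univ : Finset (n → F)).erase 0).card ≤
      2 * (((Finset.univ : Finset (n → F)).erase 0).image (fun y => c • Matrix.vecMulVec y y)).card := by
    refine Finset.card_le_mul_card_image _ _ fun M hM => ?_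
    obtain ⟨y, hy, rfl⟩ := Finset.mem_image.1 hM
    have hy0 : y ≠ 0 := (Finset.mem_erase.1 hy).1
    refine (Finset.card_le_card (t := {y, -y}) fun z hz => ?_).trans Finset.card_le_two
    obtain ⟨-, hz2⟩ := Finset.mem_filter.1 hz
    have h3 : Matrix.vecMulVec z z = Matrix.vecMulVec y y := smul_right_injective _ hc hz2
    obtain ⟨i, hi⟩ : ∃ i, y i ≠ 0 := by
      by_contra h
      push Not at h
      exact hy0 (funext h)
    have h4 : ∀ j k, z j * z k = y j * y k := fun j k => congrFun (congrFun h3 j) k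
    have h5 : (z i - y i) * (z i + y i) = 0 := by linear_combination h4 i i
    rw [Finset.mem_insert, Finset.mem_singleton]
    rcases mul_eq_zero.1 h5 with h6 | h6
    · left
      have h7 : z i = y i := sub_eq_zero.1 h6
      funext k
      have := h4 i k
      rw [h7] at this
      exact mul_left_cancel₀ hi this
    · right
      have h7 : z i = -y i := eq_neg_of_add_eq_zero_left h6
      funext k
      have := h4 i k
      rw [h7, neg_mul] at this
      have h8 : y i * z k = y i * (-y k) := by linear_combination -this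
      exact mul_left_cancel₀ hi h8
  have h2 : (((Finset.univ : Finset (n → F)).erase 0).image (fun y => c • Matrix.vecMulVec y y)) ⊆
      ((Finset.univ : Finset (GL n F)).image (cg B)) := by
    intro M hM
    obtain ⟨y, hy, rfl⟩ := Finset.mem_image.1 hM
    have hy0 : y ≠ 0 := (Finset.mem_erase.1 hy).1
    obtain ⟨g, hg⟩ := exists_map y₀ y hy₀ hy0
    have hdet : IsUnit ((g : Matrix n n F)ᵀ).det := by
      rw [Matrix.det_transpose]
      exact (Matrix.isUnit_iff_isUnit_det _).1 g.isUnit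
    refine Finset.mem_image.2 ⟨Matrix.GeneralLinearGroup.mk'' _ hdet, Finset.mem_univ _, ?_⟩
    change ((g : Matrix n n F)ᵀ)ᵀ * B * (g : Matrix n n F)ᵀ = _
    rw [Matrix.transpose_transpose, hBy, Matrix.mul_smul, Matrix.smul_mul, Matrix.mul_vecMulVec, hg,
      Matrix.vecMulVec_mul, Matrix.vecMul_transpose, hg]
  have h3 := Finset.card_le_card h2
  rw [Finset.card_erase_of_mem (Finset.mem_univ _), Finset.card_univ, Fintype.card_fun] at h1
  omega

/-- The number of matrices congruent to a given non-zero symmetric matrix. -/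
theorem card_congr [Fintype F] [DecidableEq F] {B : Matrix n n F} (hB : Bᵀ = B) (h2 : (2 : F) ≠ 0) (h0 : B ≠ 0) :
    (Fintype.card F ^ Fintype.card n - 1) / 2 ≤ ((Finset.univ : Finset (GL n F)).image (cg B)).card := by
  rcases repr_or_rank_one hB h2 h0 with hrep | ⟨c, y₀, hc, hy₀, hBy⟩
  · exact card_congr_A h0 hrep
  · exact card_congr_B hc hy₀ hBy

end Cfsg.Agent.Lib.SymCount
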