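import Mathlib.GroupTheory.GroupAction.Quotient
import Mathlib.GroupTheory.OrderOfElement
import Mathlib.Data.Set.Card
import Mathlib.Tactic

/-!
# Binary actions (relational complexity two) (helper6)
-/

set_option autoImplicit false
set_option linter.unusedSectionVars false

namespace Cfsg.Agent.Lib.SzBin

/-- the action of `G` on `X` is binary -/
def Bin (G X : Type*) [Group G] [MulAction G X] : Prop :=
  ∀ (n : ℕ) (I J : Fin n → X), 2 ≤ n →
    (∀ i j : Fin n, i ≠ j → ∃ g : G, g • I i = J i ∧ g • I j = J j) → ∃ g : G, ∀ i, g • I i = J i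

theorem Bin.trans {G X G' X' : Type*} [Group G] [MulAction G X] [Group G'] [MulAction G' X']
    (hb : Bin G X) (φ : G' →* G) (f : X' → X) (hf : Function.Injective f)
    (heq : ∀ (g : G') (x : X'), f (g • x) = φ g • f x)
    (hφ : ∀ (g : G) (x y : X'), g • f x = f y → ∃ g', φ g' = g) : Bin G' X' := by
  intro n I J hn h
  obtain ⟨g, hg⟩ := hb n (f ∘ I) (f ∘ J) hn (fun i j hij => by
    obtain ⟨g', h1, h2⟩ := h i j hij
    exact ⟨φ g', by rw [Function.comp_apply, ← heq, h1]; rfl, by rw [Function.comp_apply, ← heq, h2]; rfl⟩)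
  obtain ⟨g', rfl⟩ := hφ g (I ⟨0, by omega⟩) (J ⟨0, by omega⟩) (hg ⟨0, by omega⟩)
  exact ⟨g', fun i => hf (by rw [heq]; exact hg i)⟩

theorem Bin.triple {G X : Type*} [Group G] [MulAction G X] (hb : Bin G X) {α β γ : X} {a b : G}
    (h1 : a • α = α) (h2 : b • β = β) (h3 : a • γ = b • γ) :
    ∃ d : G, d • α = α ∧ d • β = β ∧ d • γ = a • γ := by
  obtain ⟨d, hd⟩ := hb 3 ![α, β, γ] ![α, β, a • γ] (by norm_num) (by
    intro i j hij
    fin_cases i <;> fin_cases j
    · exact absurd rfl hij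
    · exact ⟨1, one_smul _ _, one_smul _ _⟩
    · exact ⟨a, h1, rfl⟩
    · exact ⟨1, one_smul _ _, one_smul _ _⟩
    · exact absurd rfl hij
    · exact ⟨b, h2, h3.symm⟩
    · exact ⟨a, rfl, h1⟩
    · exact ⟨b, h3.symm, h2⟩
    · exact absurd rfl hij)
  exact ⟨d, hd 0, hd 1, hd 2⟩

theorem Bin.set {G X : Type*} [Group G] [MulAction G X] [Finite X] (hb : Bin G X) (Y : Set X) (τ : X → X)
    (h : ∀ a ∈ Y, ∀ b ∈ Y, ∃ g : G, g • a = τ a ∧ g • b = τ b) : ∃ g : G, ∀ a ∈ Y, g • a = τ a := by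
  classical
  rcases Y.eq_empty_or_nonempty with rfl | ⟨a0, ha0⟩
  · exact ⟨1, fun a ha => absurd ha (Set.notMem_empty a)⟩
  obtain ⟨n, ⟨e⟩⟩ := Finite.exists_equiv_fin Y
  let s : Fin (n + 2) → Y := fun i => if hi : i.1 < n then e.symm ⟨i.1, hi⟩ else ⟨a0, ha0⟩
  obtain ⟨g, hg⟩ := hb (n + 2) (fun i => (s i : X)) (fun i => τ (s i)) (by omega)
    (fun i j _ => h _ (s i).2 _ (s j).2)
  refine ⟨g, fun a ha => ?_⟩
  have hlt : (e ⟨a, ha⟩).1 < n := (e ⟨a, ha⟩).2
  have h1 := hg ⟨(e ⟨a, ha⟩).1, by omega⟩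
  have h2 : s ⟨(e ⟨a, ha⟩).1, by omega⟩ = ⟨a, ha⟩ := by
    show (if hi : (e ⟨a, ha⟩).1 < n then e.symm ⟨(e ⟨a, ha⟩).1, hi⟩ else ⟨a0, ha0⟩) = _
    rw [dif_pos hlt]
    exact e.symm_apply_apply _
  simp only [h2] at h1
  exact h1

/-- the fixity argument -/
theorem Bin.fix {G X : Type*} [Group G] [MulAction G X] [Finite X] [Finite G] (hb : Bin G X) {N0 : ℕ}
    (hN : ∀ f : G, (∃ k : ℕ, f ^ (2 ^ k) = 1) → (∃ x : X, f • x ≠ x) →
      (MulAction.fixedBy X f).ncard ≤ N0) {g h : G}
    (hg : (MulAction.fixedBy X g).ncard = N0) (hh : (MulAction.fixedBy X h).ncard = N0)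
    (hgh : (MulAction.fixedBy X (g * h)).ncard = N0)
    (h2 : ∀ x : X, h • h • x = x) (hc : ∀ x : X, g • h • x = h • g • x) :
    MulAction.fixedBy X g = MulAction.fixedBy X h := by
  classical
  by_contra hne
  set A := MulAction.fixedBy X g with hA
  set B := MulAction.fixedBy X h with hB
  set C := MulAction.fixedBy X (g * h) with hC
  have mA : ∀ x, x ∈ A ↔ g • x = x := fun x => MulAction.mem_fixedBy
  have mB : ∀ x, x ∈ B ↔ h • x = x := fun x => MulAction.mem_fixedBy
  have mC : ∀ x, x ∈ C ↔ g • h • x = x := fun x => by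
    rw [hC, MulAction.mem_fixedBy, mul_smul]
  -- an element of A outside B
  obtain ⟨α, hα, hαB⟩ : ∃ α ∈ A, α ∉ B := by
    by_contra hcon
    push Not at hcon
    exact hne (Set.eq_of_subset_of_ncard_le hcon (by rw [hg, hh]) (Set.toFinite _))
  have hCB : ∃ γ ∈ C, γ ∉ B := by
    by_contra hcon
    push Not at hcon
    have hCB : C = B := Set.eq_of_subset_of_ncard_le hcon (by rw [hgh, hh]) (Set.toFinite _)
    have hBA : B ⊆ A := by
      intro x hx
      have h1 : x ∈ C := by rw [hCB]; exact hx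
      rw [mC, (mB x).1 hx] at h1
      exact (mA x).2 h1
    exact hne (Set.eq_of_subset_of_ncard_le hBA (by rw [hg, hh]) (Set.toFinite _)).symm
  obtain ⟨γ, hγ, hγB⟩ := hCB
  -- the map
  let τ : X → X := fun x => if x ∈ A then h • x else x
  have hAC : ∀ x ∈ A, x ∈ C → h • x = x := by
    intro x hx hxC
    have h3 := (mC x).1 hxC
    rw [hc, (mA x).1 hx] at h3
    exact h3
  have τA : ∀ x ∈ A, τ x = h • x := fun x hx => if_pos hx
  have τBC : ∀ x, (x ∈ B ∨ x ∈ C) → τ x = x := by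
    intro x hx
    by_cases hxA : x ∈ A
    · rw [τA x hxA]
      rcases hx with hx | hx
      · exact (mB x).1 hx
      · exact hAC x hxA hx
    · exact if_neg hxA
  obtain ⟨f, hf⟩ := hb.set (A ∪ B ∪ C) τ (by
    rintro a ((ha | ha) | ha) b ((hb | hb) | hb)
    · exact ⟨h, (τA a ha).symm, (τA b hb).symm⟩
    · exact ⟨h, (τA a ha).symm, by rw [τBC b (Or.inl hb)]; exact (mB b).1 hb⟩
    · refine ⟨g * h, ?_, ?_⟩
      · rw [τA a ha, mul_smul, hc, (mA a).1 ha]
      · rw [τBC b (Or.inr hb), mul_smul]; exact (mC b).1 hb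
    · exact ⟨h, by rw [τBC a (Or.inl ha)]; exact (mB a).1 ha, (τA b hb).symm⟩
    · exact ⟨1, by rw [τBC a (Or.inl ha), one_smul], by rw [τBC b (Or.inl hb), one_smul]⟩
    · exact ⟨1, by rw [τBC a (Or.inl ha), one_smul], by rw [τBC b (Or.inr hb), one_smul]⟩
    · refine ⟨g * h, ?_, ?_⟩
      · rw [τBC a (Or.inr ha), mul_smul]; exact (mC a).1 ha
      · rw [τA b hb, mul_smul, hc, (mA b).1 hb]
    · exact ⟨1, by rw [τBC a (Or.inr ha), one_smul], by rw [τBC b (Or.inl hb), one_smul]⟩
    · exact ⟨1, by rw [τBC a (Or.inr ha), one_smul], by rw [τBC b (Or.inr hb), one_smul]⟩)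
  -- f squares to one on the set
  have hf2 : ∀ x ∈ A ∪ B ∪ C, f • f • x = x := by
    rintro x ((hx | hx) | hx)
    · rw [hf x (Or.inl (Or.inl hx)), τA x hx]
      have h3 : h • x ∈ A := by rw [mA, hc, (mA x).1 hx]
      rw [hf _ (Or.inl (Or.inl h3)), τA _ h3, h2]
    · rw [hf x (Or.inl (Or.inr hx)), τBC x (Or.inl hx), hf x (Or.inl (Or.inr hx)), τBC x (Or.inl hx)]
    · rw [hf x (Or.inr hx), τBC x (Or.inr hx), hf x (Or.inr hx), τBC x (Or.inr hx)]
  -- 2-part of f
  obtain ⟨k, m, hm, hkm⟩ := Nat.exists_eq_two_pow_mul_odd (orderOf_pos f).ne'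
  obtain ⟨j, hj⟩ := hm
  have hpow : ∀ (j : ℕ) (x : X), x ∈ A ∪ B ∪ C → f ^ (2 * j + 1) • x = f • x := by
    intro j
    induction j with
    | zero => intro x _; simp
    | succ j ih =>
      intro x hx
      rw [show 2 * (j + 1) + 1 = (2 * j + 1) + 2 by ring, pow_add, mul_smul, pow_two, mul_smul, hf2 x hx,
        ih x hx]
  have h5 : (f ^ m) ^ 2 ^ k = 1 := by
    rw [← pow_mul, mul_comm, ← hkm, pow_orderOf_eq_one]
  have h6 : f ^ m • α ≠ α := by
    rw [hj, hpow j α (Or.inl (Or.inl hα)), hf α (Or.inl (Or.inl hα)), τA α hα]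
    exact fun h => hαB ((mB α).2 h)
  have h7 := hN (f ^ m) ⟨k, h5⟩ ⟨α, h6⟩
  have h8 : insert γ B ⊆ MulAction.fixedBy X (f ^ m) := by
    intro x hx
    rw [MulAction.mem_fixedBy, hj]
    rcases Set.mem_insert_iff.1 hx with rfl | hx
    · rw [hpow j x (Or.inr hγ), hf x (Or.inr hγ), τBC x (Or.inr hγ)]
    · rw [hpow j x (Or.inl (Or.inr hx)), hf x (Or.inl (Or.inr hx)), τBC x (Or.inl hx)]
  have h9 := Set.ncard_le_ncard h8 (Set.toFinite _)
  rw [Set.ncard_insert_of_notMem hγB (Set.toFinite _), hh] at h9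
  omega

theorem ncard_fixedBy_conj {G X : Type*} [Group G] [MulAction G X] (g k : G) :
    (MulAction.fixedBy X (k * g * k⁻¹)).ncard = (MulAction.fixedBy X g).ncard := by
  have : MulAction.fixedBy X (k * g * k⁻¹) = (fun x => k • x) '' MulAction.fixedBy X g := by
    ext x
    rw [Set.mem_image]
    constructor
    · intro hx
      rw [MulAction.mem_fixedBy] at hx
      refine ⟨k⁻¹ • x, ?_, by simp⟩
      rw [MulAction.mem_fixedBy]
      rw [mul_smul, mul_smul] at hx
      rw [eq_inv_smul_iff]; exact hx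
    · rintro ⟨y, hy, rfl⟩
      rw [MulAction.mem_fixedBy] at hy ⊢
      rw [mul_smul, mul_smul, inv_smul_smul, hy]
  rw [this, Set.ncard_image_of_injective _ (MulAction.injective k)]

/-- binarity of a conjugate subgroup -/
theorem Bin.conj {G : Type*} [Group G] {H : Subgroup G} (hb : Bin G (G ⧸ H)) (k : G) :
    Bin G (G ⧸ H.map (MulAut.conj k).toMonoidHom) := by
  have hm : ∀ g : G, g ∈ H.map (MulAut.conj k).toMonoidHom ↔ k⁻¹ * g * k ∈ H := by
    intro g
    constructor
    · rintro ⟨x, hx, rfl⟩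
      show k⁻¹ * (k * x * k⁻¹) * k ∈ H
      rwa [show k⁻¹ * (k * x * k⁻¹) * k = x by group]
    · intro h
      exact ⟨_, h, by show k * (k⁻¹ * g * k) * k⁻¹ = g; group⟩
  let f : G ⧸ H.map (MulAut.conj k).toMonoidHom → G ⧸ H :=
    Quotient.map' (fun g => g * k) (by
      intro a b hab
      rw [QuotientGroup.leftRel_apply] at hab ⊢
      have := (hm _).1 hab
      rwa [show (a * k)⁻¹ * (b * k) = k⁻¹ * (a⁻¹ * b) * k by group])
  have hfmk : ∀ g : G, f (g : G ⧸ H.map (MulAut.conj k).toMonoidHom) = ((g * k : G) : G ⧸ H) := fun g => rfl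
  refine hb.trans (MonoidHom.id G) f ?_ ?_ (fun g _ _ _ => ⟨g, rfl⟩)
  · intro x y hxy
    induction x using QuotientGroup.induction_on with
    | H a =>
      induction y using QuotientGroup.induction_on with
      | H b =>
        rw [hfmk, hfmk, QuotientGroup.eq] at hxy
        rw [QuotientGroup.eq, hm]
        rwa [show k⁻¹ * (a⁻¹ * b) * k = (a * k)⁻¹ * (b * k) by group]
  · intro g x
    induction x using QuotientGroup.induction_on with
    | H a =>
      rw [MulAction.Quotient.smul_coe, hfmk, hfmk, MonoidHom.id_apply, MulAction.Quotient.smul_coe]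
      simp only [smul_eq_mul]
      rw [mul_assoc]

/-- binarity inside an overgroup -/
theorem Bin.sub {G : Type*} [Group G] {H M : Subgroup G} (hb : Bin G (G ⧸ H)) (hHM : H ≤ M) :
    Bin M (M ⧸ H.subgroupOf M) := by
  let f : M ⧸ H.subgroupOf M → G ⧸ H :=
    Quotient.map' (fun g => (g : G)) (by
      intro a b hab
      rw [QuotientGroup.leftRel_apply] at hab ⊢
      exact hab)
  have hfmk : ∀ g : M, f (g : M ⧸ H.subgroupOf M) = ((g : G) : G ⧸ H) := fun g => rfl
  refine hb.trans M.subtype f ?_ ?_ ?_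
  · intro x y hxy
    induction x using QuotientGroup.induction_on with
    | H a =>
      induction y using QuotientGroup.induction_on with
      | H b =>
        rw [hfmk, hfmk, QuotientGroup.eq] at hxy
        rw [QuotientGroup.eq, Subgroup.mem_subgroupOf]
        exact hxy
  · intro g x
    induction x using QuotientGroup.induction_on with
    | H a => rfl
  · intro g x y hxy
    induction x using QuotientGroup.induction_on with
    | H a =>
      induction y using QuotientGroup.induction_on with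
      | H b =>
        rw [hfmk, hfmk, MulAction.Quotient.smul_coe, smul_eq_mul, QuotientGroup.eq] at hxy
        have h1 := hHM hxy
        have h2 : g ∈ M := by
          have h3 : g = b * ((g * a)⁻¹ * b)⁻¹ * (a : G)⁻¹ := by group
          rw [h3]
          exact M.mul_mem (M.mul_mem b.2 (M.inv_mem h1)) (M.inv_mem a.2)
        exact ⟨⟨g, h2⟩, rfl⟩

/-- transfer along an isomorphism -/
theorem Bin.map {G G' : Type*} [Group G] [Group G'] {H : Subgroup G} (hb : Bin G (G ⧸ H)) (e : G ≃* G')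
    {H' : Subgroup G'} (hH : ∀ g : G, e g ∈ H' ↔ g ∈ H) : Bin G' (G' ⧸ H') := by
  let f : G' ⧸ H' → G ⧸ H :=
    Quotient.map' (fun g => e.symm g) (by
      intro a b hab
      rw [QuotientGroup.leftRel_apply] at hab ⊢
      rw [← hH, map_mul, map_inv, e.apply_symm_apply, e.apply_symm_apply]; exact hab)
  have hfmk : ∀ g : G', f (g : G' ⧸ H') = ((e.symm g : G) : G ⧸ H) := fun g => rfl
  refine hb.trans e.symm.toMonoidHom f ?_ ?_ (fun g _ _ _ => ⟨e g, e.symm_apply_apply g⟩)
  · intro x y hxy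
    induction x using QuotientGroup.induction_on with
    | H a =>
      induction y using QuotientGroup.induction_on with
      | H b =>
        rw [hfmk, hfmk, QuotientGroup.eq, ← hH, map_mul, map_inv, e.apply_symm_apply,
          e.apply_symm_apply] at hxy
        rw [QuotientGroup.eq]
        exact hxy
  · intro g x
    induction x using QuotientGroup.induction_on with
    | H a =>
      rw [MulAction.Quotient.smul_coe, hfmk, hfmk, MulAction.Quotient.smul_coe]
      simp only [smul_eq_mul, map_mul]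
      rfl

end Cfsg.Agent.Lib.SzBin
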