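import Cfsg.Agent.Lib.SzChr11

/-!
# Products of conjugates outside a torus, in groups with the character table of `Sz(q)` (helper6)
-/

set_option autoImplicit false
set_option linter.unusedSectionVars false

namespace Cfsg.Agent.Lib.SzChr

open scoped ComplexConjugate
open Cfsg Cfsg.Agent.Lib.CharBasic Cfsg.Agent.Lib.TIFN Cfsg.Agent.Lib.AbTI Cfsg.Agent.Lib.TICount

universe u

variable {G : Type u} [Group G] [Fintype G]

/-- counting bound: if all solutions lie in a set of size `n`, the structure sum is small -/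
theorem struct_bound {x : G} {S : Set G} (hS : ∀ b : G, IsConj (x * (b * x * b⁻¹)) x → b ∈ S) :
    (Nat.card G : ℝ) * ‖∑ χ : IrrCharacter G, (χ : G → ℂ) x ^ 2 * conj ((χ : G → ℂ) x) / (χ : G → ℂ) 1‖ ≤
      S.ncard * Nat.card (Subgroup.centralizer ({x} : Set G)) := by
  classical
  have h1 : ∀ b : G, ‖∑ χ : IrrCharacter G, (χ : G → ℂ) (x * (b * x * b⁻¹)) * conj ((χ : G → ℂ) x)‖ ≤
      if b ∈ S then (Nat.card (Subgroup.centralizer ({x} : Set G)) : ℝ) else 0 := by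
    intro b
    rw [column_orthogonality]
    by_cases hb : IsConj (x * (b * x * b⁻¹)) x
    · rw [if_pos hb, if_pos (hS b hb), Complex.norm_natCast]
      rw [cent_conj hb]
    · rw [if_neg hb, norm_zero]
      split_ifs
      · positivity
      · exact le_rfl
  have h3 : (Nat.card G : ℂ) * ∑ χ : IrrCharacter G, (χ : G → ℂ) x ^ 2 * conj ((χ : G → ℂ) x) / (χ : G → ℂ) 1 =
      ∑ b : G, ∑ χ : IrrCharacter G, (χ : G → ℂ) (x * (b * x * b⁻¹)) * conj ((χ : G → ℂ) x) := by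
    rw [Finset.sum_comm, Finset.mul_sum]
    apply Finset.sum_congr rfl
    intro χ _
    rw [← Finset.sum_mul, StructConst.sum_conj_mul χ.2]
    ring
  have h4 : (Nat.card G : ℝ) * ‖∑ χ : IrrCharacter G, (χ : G → ℂ) x ^ 2 * conj ((χ : G → ℂ) x) / (χ : G → ℂ) 1‖ =
      ‖∑ b : G, ∑ χ : IrrCharacter G, (χ : G → ℂ) (x * (b * x * b⁻¹)) * conj ((χ : G → ℂ) x)‖ := by
    rw [← h3, norm_mul, Complex.norm_natCast]
  rw [h4]
  refine (norm_sum_le _ _).trans ((Finset.sum_le_sum (fun b _ => h1 b)).trans ?_)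
  rw [← Finset.sum_filter, Finset.sum_const, nsmul_eq_mul]
  refine mul_le_mul_of_nonneg_right ?_ (by positivity)
  rw [← Set.ncard_coe_finset]
  refine le_of_eq ?_
  congr 2
  ext b; simp

theorem norm_ge_of {z : ℂ} {s d : ℝ} {E : ℂ} (hz : z = s + E) (hE : ‖E‖ ≤ s - d) : d ≤ ‖z‖ := by
  have h1 : (s : ℂ) = z - E := by rw [hz]; ring
  have h2 : |s| ≤ ‖z‖ + ‖E‖ := by
    rw [← Real.norm_eq_abs, ← Complex.norm_real, h1]
    exact norm_sub_le _ _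
  have h3 := le_abs_self s
  linarith

namespace Tab

variable {q r : ℕ} {D : Data G q r} {E0 E1 E2 : Finset (IrrCharacter G)} {W1 W2 : IrrCharacter G}
  {ε1 ε2 : ℤ} {z1 z2 : ℕ} {w1 w2 : ℤ} (T : Tab D E0 E1 E2 W1 W2 ε1 ε2 z1 z2 w1 w2)
include T

omit T [Fintype G] in
theorem I3' {t : ℝ} (h : t = 1 ∨ 2 ≤ t) : 4 * (8 * t ^ 2 + 4 * t - 3) / ((8 * t ^ 2 - 1) * (8 * t ^ 2 + 1 - 4 * t)) ≤
    (1 - 1 / (8 * t ^ 2) ^ 2 + 2 / (2 * t * (8 * t ^ 2 - 1))) - 9 / 100 := by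
  rcases h with rfl | h
  · norm_num
  · have ht : 1 ≤ t := by linarith
    have h1 := B1 ht
    have h2 : 0 < 2 / (2 * t * (8 * t ^ 2 - 1)) := div_pos (by norm_num) (pdW ht)
    have h3 : 4 * (8 * t ^ 2 + 4 * t - 3) / ((8 * t ^ 2 - 1) * (8 * t ^ 2 + 1 - 4 * t)) ≤ 1 / 2 := by
      rw [div_le_iff₀ (pz1 ht)]
      obtain ⟨s, hs, rfl⟩ : ∃ s : ℝ, 0 ≤ s ∧ t = 2 + s := ⟨t - 2, by linarith, by ring⟩
      have : 1 / 2 * ((8 * (2 + s) ^ 2 - 1) * (8 * (2 + s) ^ 2 + 1 - 4 * (2 + s))) -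
        4 * (8 * (2 + s) ^ 2 + 4 * (2 + s) - 3) =
        ((31 + 32 * s + 8 * s ^ 2) * (25 + 28 * s + 8 * s ^ 2) - 8 * (37 + 36 * s + 8 * s ^ 2)) / 2 := by ring
      have h4 : ((31 + 32 * s + 8 * s ^ 2) * (25 + 28 * s + 8 * s ^ 2) - 8 * (37 + 36 * s + 8 * s ^ 2)) / 2 =
        (479 + 1380 * s + 1280 * s ^ 2 + 480 * s ^ 3 + 64 * s ^ 4) / 2 := by ring
      have h5 : 0 ≤ (479 + 1380 * s + 1280 * s ^ 2 + 480 * s ^ 3 + 64 * s ^ 4) / 2 := by positivity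
      linarith
    linarith

theorem big1 {x : G} (hx : x ∈ D.A 1) (hx1 : x ≠ 1) :
    9 / 100 ≤ ‖∑ χ : IrrCharacter G, (χ : G → ℂ) x ^ 2 * conj ((χ : G → ℂ) x) / (χ : G → ℂ) 1‖ := by
  obtain ⟨t, hr, hq, ht', ht⟩ := T.params
  rw [T.S1 hx hx1 hr hq]
  have hn := T.nr1 hx hx1 hr hq
  have p1 := pz1 ht
  have hs := T.sum_le (by norm_num : (0 : ℝ) ≤ 4) hn (fun χ hχ => T.bound1 hχ hx hx1)
  rw [D.StA1 x hx hx1, (T.W_A1 hx hx1).1, (T.W_A1 hx hx1).2]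
  refine norm_ge_of (s := 1 - 1 / (8 * (t : ℝ) ^ 2) ^ 2 + 2 / (2 * t * (8 * (t : ℝ) ^ 2 - 1)))
    (E := (∑ χ ∈ E1, (χ : G → ℂ) x ^ 2 * conj ((χ : G → ℂ) x)) /
    ((8 * (t : ℝ) ^ 2 - 1) * (8 * t ^ 2 + 1 - 4 * t) : ℝ)) ?_ ?_
  · have : conj (1 + 1 : ℂ) = 2 := by rw [map_add, map_one]; norm_num
    rw [this, map_neg, map_one]
    push_cast; ring
  · rw [norm_div, Complex.norm_real, Real.norm_eq_abs, abs_of_pos p1]
    refine le_trans ?_ (I3' ht')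
    refine div_le_div_of_nonneg_right ?_ p1.le
    linarith

theorem big2 {x : G} (hx : x ∈ D.A 2) (hx1 : x ≠ 1) :
    9 / 100 ≤ ‖∑ χ : IrrCharacter G, (χ : G → ℂ) x ^ 2 * conj ((χ : G → ℂ) x) / (χ : G → ℂ) 1‖ := by
  obtain ⟨t, hr, hq, ht', ht⟩ := T.params
  rw [T.S2 hx hx1 hr hq]
  have hn := T.nr2 hx hx1 hr hq
  have p2 := pz2 ht
  have b1 := B1 ht
  have b4 := B4 ht
  have b7 := B7 ht
  have hs := T.sum_le (by norm_num : (0 : ℝ) ≤ 4) hn (fun χ hχ => T.bound2 χ hχ x hx hx1)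
  rw [D.StA2 x hx hx1, (T.W_A2 hx hx1).1, (T.W_A2 hx hx1).2]
  refine norm_ge_of (s := 1 - 1 / (8 * (t : ℝ) ^ 2) ^ 2 - 2 / (2 * t * (8 * (t : ℝ) ^ 2 - 1)))
    (E := (∑ χ ∈ E2, (χ : G → ℂ) x ^ 2 * conj ((χ : G → ℂ) x)) /
    ((8 * (t : ℝ) ^ 2 - 1) * (8 * t ^ 2 + 1 + 4 * t) : ℝ)) ?_ ?_
  · have : conj (-1 + -1 : ℂ) = -2 := by rw [map_add, map_neg, map_one]; norm_num
    rw [this, map_neg, map_one]
    push_cast; ring
  · rw [norm_div, Complex.norm_real, Real.norm_eq_abs, abs_of_pos p2]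
    calc _ ≤ (8 * (t : ℝ) ^ 2 - 4 * t - 3) * 4 / ((8 * (t : ℝ) ^ 2 - 1) * (8 * t ^ 2 + 1 + 4 * t)) :=
          div_le_div_of_nonneg_right hs p2.le
      _ = 4 * ((8 * (t : ℝ) ^ 2 - 4 * t - 3) / ((8 * (t : ℝ) ^ 2 - 1) * (8 * t ^ 2 + 1 + 4 * t))) := by ring
      _ ≤ 4 * (1 / 16) := by linarith
      _ ≤ _ := by linarith

end Tab

/-- for `x` in a torus `A 1` or `A 2` there is a product relation between three conjugates of `x`
not all in one torus -/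
theorem Data.triangle {q r : ℕ} (D : Data G q r) {i : Fin 3} (hi : i ≠ 0) {x : G} (hx : x ∈ D.A i)
    (hx1 : x ≠ 1) : ∃ b c : G, c * x * c⁻¹ = x * (b * x * b⁻¹) ∧ b * x * b⁻¹ ∉ D.A i := by
  obtain ⟨E0, E1, E2, W1, W2, ε1, ε2, z1, z2, w1, w2, T⟩ := D.tab
  by_contra hcon
  push Not at hcon
  have hS : ∀ b : G, IsConj (x * (b * x * b⁻¹)) x → b ∈ (Subgroup.normalizer (D.A i : Set G) : Set G) := by
    intro b hb
    obtain ⟨c, hc⟩ := isConj_iff.1 hb.symm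
    have h1 := hcon b c hc
    by_contra h2
    exact hx1 (D.hTI i b h2 x hx h1)
  have hb := struct_bound hS
  have hbig : 9 / 100 ≤ ‖∑ χ : IrrCharacter G, (χ : G → ℂ) x ^ 2 * conj ((χ : G → ℂ) x) / (χ : G → ℂ) 1‖ := by
    fin_cases i
    · exact absurd rfl hi
    · exact T.big1 hx hx1
    · exact T.big2 hx hx1
  have hq := D.hq
  have hr := D.hr
  have hrq : 2 * r ≤ q := by
    by_contra hlt
    push Not at hlt
    nlinarith
  have hA : Nat.card (D.A i) ≤ q + r + 1 := by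
    fin_cases i
    · exact absurd rfl hi
    · exact D.a1.le
    · have := D.a2
      show Nat.card (D.A 2) ≤ _
      omega
  have hidx : ((D.A i).subgroupOf (Subgroup.normalizer (D.A i : Set G))).index = 4 := by
    fin_cases i
    · exact absurd rfl hi
    · exact D.e1
    · exact D.e2
  have hN : (Subgroup.normalizer (D.A i : Set G) : Set G).ncard = Nat.card (D.A i) * 4 := by
    have h1 := Subgroup.card_mul_index ((D.A i).subgroupOf (Subgroup.normalizer (D.A i : Set G)))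
    rw [hidx, Nat.card_congr (Subgroup.subgroupOfEquivOfLe Subgroup.le_normalizer).toEquiv] at h1
    rw [h1, ← Nat.card_coe_set_eq]; rfl
  have hC : Nat.card (Subgroup.centralizer ({x} : Set G)) ≤ Nat.card (D.A i) :=
    Subgroup.card_le_of_le (D.hC i x hx hx1)
  rw [hN] at hb
  have hG := D.card
  have h1 : (Nat.card G : ℝ) * (9 / 100) ≤ (Nat.card (D.A i) * 4 : ℕ) * Nat.card (Subgroup.centralizer ({x} : Set G)) :=
    (mul_le_mul_of_nonneg_left hbig (by positivity)).trans hb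
  have h2 : (9 * Nat.card G : ℕ) ≤ 400 * (Nat.card (D.A i) * Nat.card (D.A i)) := by
    have h3 : ((Nat.card (D.A i) * 4 : ℕ) : ℝ) * Nat.card (Subgroup.centralizer ({x} : Set G)) ≤
      4 * ((Nat.card (D.A i) : ℝ) * Nat.card (D.A i)) := by
      push_cast
      have : (Nat.card (Subgroup.centralizer ({x} : Set G)) : ℝ) ≤ Nat.card (D.A i) := by exact_mod_cast hC
      nlinarith [Nat.cast_nonneg (α := ℝ) (Nat.card (D.A i))]
    have h4 : (9 * Nat.card G : ℝ) ≤ 400 * ((Nat.card (D.A i) : ℝ) * Nat.card (D.A i)) := by linarith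
    exact_mod_cast h4
  have h3 : Nat.card (D.A i) * Nat.card (D.A i) ≤ (q + r + 1) * (q + r + 1) := Nat.mul_le_mul hA hA
  have h4 : 64 * ((q + r + 1) * (q + r + 1)) ≤ 169 * q ^ 2 := by nlinarith
  have h5 : 455 * q ^ 2 ≤ Nat.card G := by
    rw [hG, mul_assoc, mul_comm]
    refine Nat.mul_le_mul_left _ ?_
    have h6 : 65 ≤ q ^ 2 + 1 := by nlinarith
    have h7 : 7 ≤ q - 1 := by omega
    calc 455 = 65 * 7 := by norm_num
      _ ≤ _ := Nat.mul_le_mul h6 h7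
  have h8 : 0 < q ^ 2 := by positivity
  omega

end Cfsg.Agent.Lib.SzChr
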