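import Cfsg.Agent.Lib.SzBin1
import Cfsg.Agent.Lib.SzBin2
import Cfsg.Agent.Lib.SuzukiStr4

/-!
# Binary coset actions of the Suzuki groups: the steps (helper6)
-/

set_option autoImplicit false
set_option linter.unusedSectionVars false
open scoped LinearAlgebra.Projectivization Matrix Pointwise

namespace Cfsg.Agent.Lib.SzBin

open Cfsg.Agent.Lib.SuzukiOvoid Cfsg.Agent.Lib.SuzukiGroup Cfsg.Agent.Lib.SuzukiFin
  Cfsg.Agent.Lib.SuzukiStab Cfsg.Agent.Lib.SuzukiSyl Cfsg.Agent.Lib.SuzukiPts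
  Cfsg.Agent.Lib.SuzukiTor Cfsg.Agent.Lib.SuzukiNoFix Cfsg.Agent.Lib.TICount
  Cfsg.Agent.Lib.SuzukiCount Cfsg.Agent.Lib.SuzukiTori Cfsg.Agent.Lib.SuzukiStr
  Cfsg.Agent.Lib.SuzukiStr2 Cfsg.Agent.Lib.SuzukiStr3 Cfsg.Agent.Lib.SuzukiStr4

variable {F : Type*} [Field F] [CharP F 2] (θ : F ≃+* F) (hθ : ∀ x, θ (θ x) = x ^ 2)
  (hne : ∃ x, θ x ≠ x ^ 2)

section
variable [Finite F]
include hθ hne

theorem invol_conj {t : Gz θ} (h2 : t ^ 2 = 1) (h1 : t ≠ 1) :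
    ∃ k : Gz θ, t = k * Ug θ hθ 0 1 * k⁻¹ := by
  have ho : orderOf t = 2 := orderOf_eq_prime h2 h1
  obtain ⟨p, hp⟩ := exists_Up θ hθ hne ho
  obtain ⟨k, hk⟩ := exists_to θ hθ p
  have h3 := (mem_Up_iff_conj θ hθ hne hk t).1 hp
  have h4 : (k⁻¹ * t * k) ^ 2 = 1 := by
    rw [pow_two, show k⁻¹ * t * k * (k⁻¹ * t * k) = k⁻¹ * (t * t) * k by group, ← pow_two, h2]; group
  obtain ⟨b, hb⟩ := (mem_ZSub θ hθ).1 ((mem_Z_iff_sq θ hθ h3).2 h4)
  have hb0 : b ≠ 0 := by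
    rintro rfl
    rw [Ug_zero] at hb
    apply h1
    have : t = k * (k⁻¹ * t * k) * k⁻¹ := by group
    rw [this, hb]; group
  obtain ⟨x, hx⟩ := mulθ_surj θ hθ b
  have hx0 : x ≠ 0 := by
    rintro rfl
    rw [zero_mul] at hx; exact hb0 hx.symm
  have h5 := Hg_conj θ hθ (Units.mk0 x hx0) 0 1
  rw [mul_zero, mul_one, Units.val_mk0, hx, ← hb] at h5
  refine ⟨k * Hg θ hθ (Units.mk0 x hx0), ?_⟩
  calc t = k * (k⁻¹ * t * k) * k⁻¹ := by group
    _ = k * (Hg θ hθ (Units.mk0 x hx0) * Ug θ hθ 0 1 * (Hg θ hθ (Units.mk0 x hx0))⁻¹) * k⁻¹ := by rw [h5]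
    _ = _ := by group

/-- step A -/
theorem stepA {H : Subgroup (Gz θ)} (hb : Bin (Gz θ) (Gz θ ⧸ H)) {s : Gz θ} (hs : s ∈ H)
    (hsZ : s ∈ ZSub θ hθ) (hs1 : s ≠ 1) : ZSub θ hθ ≤ H := by
  have hZ2 : ∀ z ∈ ZSub θ hθ, z * z = 1 := by
    intro z hz
    rw [← pow_two]
    exact (mem_Z_iff_sq θ hθ (ZSub_le θ hθ hz)).1 hz
  have hZc : ∀ z ∈ ZSub θ hθ, ∀ z' ∈ ZSub θ hθ, z * z' = z' * z := by
    intro z hz z' hz'
    have h1 := hZ2 _ (mul_mem hz hz')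
    have h2 := hZ2 _ hz
    have h3 := hZ2 _ hz'
    calc z * z' = z * z' * 1 := by group
      _ = z * z' * ((z * z') * (z * z'))⁻¹ * ((z * z) * (z' * z')) := by rw [h1, h2, h3]; group
      _ = (z * z')⁻¹ * (z * z) * (z' * z') := by group
      _ = z'⁻¹ * (z * (z' * z')) := by group
      _ = (z' * (z' * z')⁻¹) * (z * (z' * z')) := by group
      _ = z' * z := by rw [h3]; group
  have hcard : ∀ t : Gz θ, t ^ 2 = 1 → t ≠ 1 →
      (MulAction.fixedBy (Gz θ ⧸ H) t).ncard = (MulAction.fixedBy (Gz θ ⧸ H) (Ug θ hθ 0 1)).ncard := by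
    intro t h2 h1
    obtain ⟨k, hk⟩ := invol_conj θ hθ hne h2 h1
    rw [hk, ncard_fixedBy_conj]
  intro h hh
  by_cases h1 : h = 1
  · rw [h1]; exact one_mem _
  by_cases h2 : s * h = 1
  · rw [mul_eq_one_iff_eq_inv'.1 h2]; exact inv_mem hs
  have key := hb.fix (N0 := (MulAction.fixedBy (Gz θ ⧸ H) (Ug θ hθ 0 1)).ncard) (g := s) (h := h) ?_
    (hcard s (by rw [pow_two]; exact hZ2 s hsZ) hs1) (hcard h (by rw [pow_two]; exact hZ2 h hh) h1)
    (hcard _ (by rw [pow_two]; exact hZ2 _ (mul_mem hsZ hh)) h2) ?_ ?_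
  · have h3 : ((1 : Gz θ) : Gz θ ⧸ H) ∈ MulAction.fixedBy (Gz θ ⧸ H) s := by
      rw [MulAction.mem_fixedBy, MulAction.Quotient.smul_coe, smul_eq_mul, QuotientGroup.eq]
      simpa using hs
    rw [key, MulAction.mem_fixedBy, MulAction.Quotient.smul_coe, smul_eq_mul, QuotientGroup.eq] at h3
    simpa using h3
  · rintro f ⟨k, hk⟩ ⟨x, hx⟩
    have hf1 : f ≠ 1 := by
      rintro rfl
      exact hx (one_smul _ _)
    have hex : ∃ k, f ^ (2 ^ k) = 1 := ⟨k, hk⟩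
    classical
    have hmin := Nat.find_spec hex
    have hpos : Nat.find hex ≠ 0 := by
      intro h0
      rw [h0, pow_zero, pow_one] at hmin
      exact hf1 hmin
    obtain ⟨j, hj⟩ := Nat.exists_eq_succ_of_ne_zero hpos
    have ht1 : f ^ (2 ^ j) ≠ 1 := Nat.find_min hex (by omega)
    have ht2 : (f ^ (2 ^ j)) ^ 2 = 1 := by
      rw [hj] at hmin
      rw [← pow_mul, ← pow_succ]; exact hmin
    rw [← hcard _ ht2 ht1]
    refine Set.ncard_le_ncard ?_ (Set.toFinite _)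
    intro y hy
    rw [MulAction.mem_fixedBy] at hy ⊢
    generalize 2 ^ j = n
    induction n with
    | zero => rw [pow_zero, one_smul]
    | succ n ih => rw [pow_succ, mul_smul, hy, ih]
  · intro x
    rw [← mul_smul, hZ2 h hh, one_smul]
  · intro x
    rw [← mul_smul, ← mul_smul, hZc s hsZ h hh]

omit [Finite F] in
theorem ff10 : ff θ 1 0 = 1 := by simp [ff]

omit [Finite F] in
theorem ff01 : ff θ 0 1 = 1 := by simp [ff]

omit [Finite F] in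
theorem ff11 : ff θ 1 1 = 1 := by
  simp only [ff, map_one, one_pow, mul_one]
  have : (1 : F) + 1 = 0 := CharTwo.add_self_eq_zero 1
  rw [this, zero_add]

omit [Finite F] in
theorem W10 : Wg θ hθ • pt θ 1 0 = pt θ 0 1 := by
  rw [Wg_pt θ hθ (by rw [ff10 θ hθ hne]; exact one_ne_zero), ff10 θ hθ hne]; simp

omit [Finite F] in
theorem W01 : Wg θ hθ • pt θ 0 1 = pt θ 1 0 := by
  rw [Wg_pt θ hθ (by rw [ff01 θ hθ hne]; exact one_ne_zero), ff01 θ hθ hne]; simp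

omit [Finite F] in
theorem W11 : Wg θ hθ • pt θ 1 1 = pt θ 1 1 := by
  rw [Wg_pt θ hθ (by rw [ff11 θ hθ hne]; exact one_ne_zero), ff11 θ hθ hne]; simp

omit [Finite F] in
theorem a00 : Ug θ hθ 1 0 • pt θ 0 0 = pt θ 1 0 := by rw [Ug_pt]; simp

omit [Finite F] in
theorem a10 : Ug θ hθ 1 0 • pt θ 1 0 = pt θ 0 1 := by
  rw [Ug_pt]
  have : (1 : F) + 1 = 0 := CharTwo.add_self_eq_zero 1
  simp [this]

omit [Finite F] in
theorem a01 : Ug θ hθ 1 0 • pt θ 0 1 = pt θ 1 1 := by rw [Ug_pt]; simp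

omit [Finite F] in
theorem a11 : Ug θ hθ 1 0 • pt θ 1 1 = pt θ 0 0 := by
  rw [Ug_pt]
  have : (1 : F) + 1 = 0 := CharTwo.add_self_eq_zero 1
  simp [this]

/-- step F -/
theorem stepF {H : Subgroup (Gz θ)} (hb : Bin (Gz θ) (Gz θ ⧸ H)) (hU : USub θ hθ ≤ H)
    (hB : H ≤ MulAction.stabilizer (Gz θ) (inf θ)) : False := by
  set a := Ug θ hθ 1 0 with ha
  set W := Wg θ hθ with hW
  have hWW : W * W = 1 := Wg_sq θ hθ
  have hWi : W⁻¹ = W := inv_eq_of_mul_eq_one_left hWW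
  have haH : a ∈ H := hU (Ug_mem θ hθ 1 0)
  have ainf : a • inf θ = inf θ := Ug_inf θ hθ 1 0
  have e10 : a • pt θ 1 0 = pt θ 0 1 := a10 θ hθ hne
  have e00 : a • pt θ 0 0 = pt θ 1 0 := a00 θ hθ hne
  have e01 : a • pt θ 0 1 = pt θ 1 1 := a01 θ hθ hne
  have e11 : a • pt θ 1 1 = pt θ 0 0 := a11 θ hθ hne
  have w10 : W • pt θ 1 0 = pt θ 0 1 := W10 θ hθ hne
  have w01 : W • pt θ 0 1 = pt θ 1 0 := W01 θ hθ hne
  have w11 : W • pt θ 1 1 = pt θ 1 1 := W11 θ hθ hne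
  have winf : W • inf θ = pt θ 0 0 := Wg_inf θ hθ
  have w00 : W • pt θ 0 0 = inf θ := Wg_zero θ hθ
  set c := W * a * (W * a) with hc
  have cinf : c • inf θ = pt θ 0 1 := by
    rw [hc, mul_smul, mul_smul, mul_smul, ainf, winf, e00, w10]
  have c01 : c • pt θ 0 1 = inf θ := by
    rw [hc, mul_smul, mul_smul, mul_smul, e01, w11, e11, w00]
  have c00 : c • pt θ 0 0 = pt θ 1 1 := by
    rw [hc, mul_smul, mul_smul, mul_smul, e00, w10, e01, w11]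
  have c11 : c • pt θ 1 1 = pt θ 0 0 := by
    rw [hc, mul_smul, mul_smul, mul_smul, e11, w00, ainf, winf]
  have c10 : c • pt θ 1 0 = pt θ 1 0 := by
    rw [hc, mul_smul, mul_smul, mul_smul, e10, w01, e10, w01]
  have hp1 : inf θ ≠ pt θ 0 1 := fun h => pt_ne_inf θ 0 1 h.symm
  have hp2 : pt θ 0 1 ≠ pt θ 0 0 := fun h => one_ne_zero (pt_inj θ h).2
  have hp3 : inf θ ≠ pt θ 0 0 := fun h => pt_ne_inf θ 0 0 h.symm
  have c2 : c * c = 1 := by
    refine three_points θ hθ hne hp1 hp2 hp3 ?_ ?_ ?_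
    · rw [mul_smul, cinf, c01]
    · rw [mul_smul, c01, cinf]
    · rw [mul_smul, c00, c11]
  have c1 : c ≠ 1 := by
    intro h
    rw [h, one_smul] at cinf
    exact hp1 cinf
  have co : orderOf c = 2 := orderOf_eq_prime (by rw [pow_two]; exact c2) c1
  have cU := mem_Up_of_invol θ hθ hne co c10
  obtain ⟨g, hg⟩ := exists_to θ hθ (pt θ 1 0)
  have cg := (mem_Up_iff_conj θ hθ hne hg c).1 cU
  set b := W * a⁻¹ * W with hbdef
  have hba : b * c = a := by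
    rw [hbdef, hc, show W * a⁻¹ * W * (W * a * (W * a)) = W * a⁻¹ * (W * W) * a * (W * a) by group, hWW,
      show W * a⁻¹ * 1 * a * (W * a) = W * W * a by group, hWW, one_mul]
  have hcγ : c • ((g : Gz θ) : Gz θ ⧸ H) = ((g : Gz θ) : Gz θ ⧸ H) := by
    rw [MulAction.Quotient.smul_coe, smul_eq_mul, QuotientGroup.eq]
    have := inv_mem (hU cg)
    rwa [show (g⁻¹ * c * g)⁻¹ = (c * g)⁻¹ * g by group] at this
  obtain ⟨d, h1, h2, h3⟩ := hb.triple (α := ((1 : Gz θ) : Gz θ ⧸ H)) (β := ((W : Gz θ) : Gz θ ⧸ H))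
    (γ := ((g : Gz θ) : Gz θ ⧸ H)) (a := a) (b := b)
    (by rw [MulAction.Quotient.smul_coe, smul_eq_mul, QuotientGroup.eq]; simpa using haH)
    (by
      rw [MulAction.Quotient.smul_coe, smul_eq_mul, QuotientGroup.eq, hbdef,
        show (W * a⁻¹ * W * W)⁻¹ * W = (W * W)⁻¹ * a * (W⁻¹ * W) by group, hWW]
      simpa using haH)
    (by rw [← hba, mul_smul, hcγ])
  rw [MulAction.Quotient.smul_coe, smul_eq_mul, QuotientGroup.eq] at h1 h2
  rw [MulAction.Quotient.smul_coe, MulAction.Quotient.smul_coe, smul_eq_mul, smul_eq_mul, QuotientGroup.eq] at h3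
  have hd : d • inf θ = inf θ := by
    have : d ∈ H := by simpa using h1
    exact hB this
  have hd0 : d • pt θ 0 0 = pt θ 0 0 := by
    have h4 : ((d * W)⁻¹ * W) • inf θ = inf θ := hB h2
    rw [mul_smul, inv_smul_eq_iff, mul_smul, winf] at h4
    exact h4.symm
  have hd1 : a • pt θ 1 0 = d • pt θ 1 0 := by
    have h4 : ((d * g)⁻¹ * (a * g)) • inf θ = inf θ := hB h3
    rw [mul_smul, inv_smul_eq_iff, mul_smul, mul_smul, hg] at h4
    exact h4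
  obtain ⟨κ, rfl⟩ := twoPt θ hθ hne hd hd0
  rw [e10, Hg_pt, mul_zero, mul_one] at hd1
  exact κ.ne_zero (pt_inj θ hd1).1.symm

/-- conjugating inside a coset of `U` -/
theorem coset_conj {x u : Gz θ} (hx : x • inf θ = inf θ) (hxU : x ∉ USub θ hθ) (hu : u ∈ USub θ hθ) :
    ∃ w ∈ USub θ hθ, x * u = w * x * w⁻¹ := by
  obtain ⟨x1, y1, h1⟩ := exists_fix θ hθ hne hx hxU
  have hxu : (x * u) • inf θ = inf θ := by rw [mul_smul, U_smul_inf' θ hθ hu, hx]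
  have hxuU : x * u ∉ USub θ hθ := fun h => hxU (by
    have := mul_mem h (inv_mem hu)
    rwa [mul_inv_cancel_right] at this)
  obtain ⟨x2, y2, h2⟩ := exists_fix θ hθ hne hxu hxuU
  have hw1 : (Ug θ hθ x2 y2 * (Ug θ hθ x1 y1)⁻¹) • pt θ x1 y1 = pt θ x2 y2 := by
    rw [mul_smul, inv_smul_eq_iff.2 (Ug_zero_pt θ hθ x1 y1).symm, Ug_zero_pt]
  set w := Ug θ hθ x2 y2 * (Ug θ hθ x1 y1)⁻¹ with hw
  have hwU : w ∈ USub θ hθ := mul_mem (Ug_mem θ hθ _ _) (inv_mem (Ug_mem θ hθ _ _))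
  refine ⟨w, hwU, ?_⟩
  have hδ : x⁻¹ * w⁻¹ * (x * u) * w ∈ USub θ hθ := by
    have h3 : x⁻¹ * w⁻¹ * (x * u) * w = (x⁻¹ * w⁻¹ * x⁻¹⁻¹) * u * w := by group
    rw [h3]
    refine mul_mem (mul_mem (U_conj θ hθ hne ?_ (inv_mem hwU)) hu) hwU
    rw [inv_smul_eq_iff, hx]
  have hfix : (x⁻¹ * w⁻¹ * (x * u) * w) • pt θ x1 y1 = pt θ x1 y1 := by
    rw [mul_smul, hw1, mul_smul, h2, mul_smul, inv_smul_eq_iff.2 hw1.symm, inv_smul_eq_iff, h1]
  have h4 : x⁻¹ * w⁻¹ * (x * u) * w = 1 := by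
    by_contra h5
    exact pt_ne_inf θ _ _ (U_fix θ hθ hδ h5 hfix)
  have h5 : x * u = w * x * (x⁻¹ * w⁻¹ * (x * u) * w) * w⁻¹ := by group
  rw [h4, mul_one] at h5
  exact h5

/-- the Frobenius property of `H` modulo `Q` -/
theorem frob {H Q : Subgroup (Gz θ)} (hB : H ≤ MulAction.stabilizer (Gz θ) (inf θ))
    (hQ : Q = ⊥ ∨ Q = ZSub θ hθ) (hHQ : ∀ g ∈ H, g ∈ USub θ hθ → g ∈ Q)
    {e v : Gz θ} (he : e ∈ H) (heU : e ∉ USub θ hθ) (hv : v ∈ USub θ hθ) (h : v⁻¹ * e * v ∈ H) :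
    v ∈ Q := by
  obtain ⟨a, b, κ, rfl⟩ := onePt θ hθ hne (hB he)
  obtain ⟨c, d, rfl⟩ := (mem_USub θ hθ).1 hv
  have hκ : κ ≠ 1 := by
    rintro rfl
    rw [Hg_one, mul_one] at heU
    exact heU (Ug_mem θ hθ a b)
  have hκ' : (κ : F) ≠ 1 := fun h => hκ (Units.ext h)
  have h1 : (Ug θ hθ c d)⁻¹ * (Ug θ hθ a b * Hg θ hθ κ * Ug θ hθ c d * (Ug θ hθ a b * Hg θ hθ κ)⁻¹) ∈ Q := by
    have h2 := mul_mem h (inv_mem he)
    have h3 : (Ug θ hθ c d)⁻¹ * (Ug θ hθ a b * Hg θ hθ κ) * Ug θ hθ c d * (Ug θ hθ a b * Hg θ hθ κ)⁻¹ =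
      (Ug θ hθ c d)⁻¹ * (Ug θ hθ a b * Hg θ hθ κ * Ug θ hθ c d * (Ug θ hθ a b * Hg θ hθ κ)⁻¹) := by group
    rw [h3] at h2
    refine hHQ _ h2 ?_
    rw [Ug_Hg_conj, Ug_inv, Ug_mul]
    exact Ug_mem θ hθ _ _
  rw [Ug_Hg_conj, Ug_inv, Ug_mul] at h1
  have hZ : c + κ * c = 0 := by
    rcases hQ with hQ | hQ
    · rw [hQ, Subgroup.mem_bot, Ug_eq_one] at h1
      exact h1.1
    · rw [hQ, Ug_mem_Z] at h1
      exact h1
  have hc : c = 0 := by
    have h2 : (1 + (κ : F)) * c = 0 := by linear_combination hZ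
    rcases mul_eq_zero.1 h2 with h3 | h3
    · exfalso
      apply hκ'
      have h4 : (1 : F) + 1 = 0 := CharTwo.add_self_eq_zero 1
      linear_combination h3 - h4
    · exact h3
  subst hc
  rcases hQ with hQ | hQ
  · rw [hQ, Subgroup.mem_bot, Ug_eq_one] at h1 ⊢
    refine ⟨rfl, ?_⟩
    have h2 := h1.2
    simp only [mul_zero, zero_mul, map_zero, add_zero] at h2
    have h3 : (1 + (κ : F) * θ κ) * d = 0 := by linear_combination h2
    rcases mul_eq_zero.1 h3 with h4 | h4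
    · exfalso
      apply hκ'
      apply mulθ_eq_one θ hθ
      have h5 : (1 : F) + 1 = 0 := CharTwo.add_self_eq_zero 1
      linear_combination h4 - h5
    · exact h4
  · rw [hQ]; exact Uz_mem θ hθ d

/-- step E -/
theorem stepE {H Q : Subgroup (Gz θ)} (hb : Bin (Gz θ) (Gz θ ⧸ H))
    (hB : H ≤ MulAction.stabilizer (Gz θ) (inf θ))
    (hQ : Q = ⊥ ∨ Q = ZSub θ hθ) (hHQ : ∀ g ∈ H, g ∈ USub θ hθ → g ∈ Q) (hQH : Q ≤ H)
    {x : Gz θ} (hx : x ∈ H) (hxU : x ∉ USub θ hθ) : False := by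
  have hvQ : Ug θ hθ 1 0 ∉ Q := by
    rcases hQ with hQ | hQ
    · rw [hQ, Subgroup.mem_bot, Ug_eq_one]
      exact fun h => one_ne_zero h.1
    · rw [hQ, Ug_mem_Z]
      exact one_ne_zero
  set v := Ug θ hθ 1 0 with hv
  have hvU : v ∈ USub θ hθ := Ug_mem θ hθ 1 0
  have hxB : x • inf θ = inf θ := hB hx
  have hx2B : (x * x) • inf θ = inf θ := by rw [mul_smul, hxB, hxB]
  have hx2U : x * x ∉ USub θ hθ := by
    intro h
    obtain ⟨x1, y1, h1⟩ := exists_fix θ hθ hne hxB hxU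
    have h2 : x * x = 1 := by
      by_contra h3
      exact pt_ne_inf θ _ _ (U_fix θ hθ h h3 (by rw [mul_smul, h1, h1]))
    have h3 : x ≠ 1 := by
      rintro rfl; exact hxU (one_mem _)
    have h4 := mem_Up_of_invol θ hθ hne (orderOf_eq_prime (by rw [pow_two]; exact h2) h3) hxB
    rw [Up_inf] at h4
    exact hxU h4
  have hu : x⁻¹ * v * x * v⁻¹ ∈ USub θ hθ := by
    refine mul_mem ?_ (inv_mem hvU)
    rw [show x⁻¹ * v * x = x⁻¹ * v * x⁻¹⁻¹ by group]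
    exact U_conj θ hθ hne (by rw [inv_smul_eq_iff, hxB]) hvU
  obtain ⟨w, hw, hxw⟩ := coset_conj θ hθ hne hx2B hx2U hu
  have hxy : x * (v * x * v⁻¹) = w * (x * x) * w⁻¹ := by
    rw [← hxw]; group
  obtain ⟨d, h1, h2, h3⟩ := hb.triple (α := ((1 : Gz θ) : Gz θ ⧸ H)) (β := ((w : Gz θ) : Gz θ ⧸ H))
    (γ := ((v : Gz θ) : Gz θ ⧸ H)) (a := x) (b := x * (v * x * v⁻¹))
    (by rw [MulAction.Quotient.smul_coe, smul_eq_mul, QuotientGroup.eq]; simpa using hx)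
    (by
      rw [MulAction.Quotient.smul_coe, smul_eq_mul, QuotientGroup.eq, hxy,
        show (w * (x * x) * w⁻¹ * w)⁻¹ * w = (x * x)⁻¹ by group]
      exact inv_mem (mul_mem hx hx))
    (by
      rw [MulAction.Quotient.smul_coe, MulAction.Quotient.smul_coe, smul_eq_mul, smul_eq_mul,
        QuotientGroup.eq, show (x * v)⁻¹ * (x * (v * x * v⁻¹) * v) = x by group]
      exact hx)
  rw [MulAction.Quotient.smul_coe, smul_eq_mul, QuotientGroup.eq] at h1 h2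
  rw [MulAction.Quotient.smul_coe, MulAction.Quotient.smul_coe, smul_eq_mul, smul_eq_mul, QuotientGroup.eq] at h3
  have hd : d ∈ H := by simpa using h1
  have h2' : w⁻¹ * d * w ∈ H := by
    have := inv_mem h2
    rwa [show ((d * w)⁻¹ * w)⁻¹ = w⁻¹ * d * w by group] at this
  have h3' : v⁻¹ * (d⁻¹ * x) * v ∈ H := by
    rwa [show (d * v)⁻¹ * (x * v) = v⁻¹ * (d⁻¹ * x) * v by group] at h3
  have hdx : d⁻¹ * x ∈ USub θ hθ := by
    by_contra h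
    exact hvQ (frob θ hθ hne hB hQ hHQ (mul_mem (inv_mem hd) hx) h hvU h3')
  have hdU : d ∉ USub θ hθ := by
    intro h
    apply hxU
    have := mul_mem h hdx
    rwa [mul_inv_cancel_left] at this
  have hwQ := frob θ hθ hne hB hQ hHQ hd hdU hw h2'
  have h5 : v * x * v⁻¹ ∈ H := by
    have h6 : x * (v * x * v⁻¹) ∈ H := by
      rw [hxy]
      exact mul_mem (mul_mem (hQH hwQ) (mul_mem hx hx)) (inv_mem (hQH hwQ))
    have := mul_mem (inv_mem hx) h6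
    rwa [inv_mul_cancel_left] at this
  have h6 := frob θ hθ hne hB hQ hHQ hx hxU (inv_mem hvU) (by rwa [inv_inv])
  exact hvQ (by simpa using inv_mem h6)

end

end Cfsg.Agent.Lib.SzBin
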