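import Cfsg.Agent.Lib.SzBin3

/-!
# Binary coset actions of the Suzuki groups: the main theorem (helper6)
-/

set_option autoImplicit false
set_option linter.unusedSectionVars false
open scoped LinearAlgebra.Projectivization Matrix Pointwise

namespace Cfsg.Agent.Lib.SzBin

open Cfsg.Agent.Lib.SuzukiOvoid Cfsg.Agent.Lib.SuzukiGroup Cfsg.Agent.Lib.SuzukiFin
  Cfsg.Agent.Lib.SuzukiStab Cfsg.Agent.Lib.SuzukiSyl Cfsg.Agent.Lib.SuzukiPts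
  Cfsg.Agent.Lib.SuzukiTor Cfsg.Agent.Lib.SuzukiNoFix Cfsg.Agent.Lib.TICount
  Cfsg.Agent.Lib.SuzukiCount Cfsg.Agent.Lib.SuzukiTori Cfsg.Agent.Lib.SuzukiStr
  Cfsg.Agent.Lib.SuzukiStr2 Cfsg.Agent.Lib.SuzukiStr3 Cfsg.Agent.Lib.SuzukiStr4

variable {F : Type*} [Field F] [CharP F 2] (θ : F ≃+* F) (hθ : ∀ x, θ (θ x) = x ^ 2)
  (hne : ∃ x, θ x ≠ x ^ 2)

section
variable [Finite F]
include hθ hne

theorem two_elem {f : Gz θ} (hf : f • inf θ = inf θ) {k : ℕ} (hk : f ^ 2 ^ k = 1) : f ∈ USub θ hθ := by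
  by_contra h
  obtain ⟨x, y, hxy⟩ := exists_fix θ hθ hne hf h
  have hpp : inf θ ≠ pt θ x y := fun h => pt_ne_inf θ x y h.symm
  have h1 : f ∈ Tp θ (inf θ) (pt θ x y) := (mem_Tp θ).2 ⟨hf, hxy⟩
  have h2 : orderOf f ∣ Nat.card F - 1 := by
    rw [← card_Tp θ hθ hne hpp, ← Subgroup.orderOf_mk (H := Tp θ (inf θ) (pt θ x y)) f h1]
    exact orderOf_dvd_natCard _
  have h3 : orderOf f ∣ 2 ^ k := orderOf_dvd_of_pow_eq_one hk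
  have h4 : Nat.Coprime (Nat.card F - 1) (2 ^ k) := by
    apply Nat.Coprime.pow_right
    rw [Nat.coprime_two_right]
    have h5 : Even (Nat.card F) := even_card (F := F)
    have h6 : 1 < Nat.card F := one_lt_card (F := F)
    obtain ⟨j, hj⟩ := h5
    exact ⟨j - 1, by omega⟩
  have h5 := Nat.eq_one_of_dvd_coprimes h4 h2 h3
  rw [orderOf_eq_one_iff] at h5
  exact h (h5 ▸ one_mem _)

/-- step G -/
theorem stepG {H : Subgroup (Gz θ)} (hb : Bin (Gz θ) (Gz θ ⧸ H))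
    (hB : H ≤ MulAction.stabilizer (Gz θ) (inf θ)) (hZ : ZSub θ hθ ≤ H) {u : Gz θ} (hu : u ∈ H)
    (huU : u ∈ USub θ hθ) (huZ : u ∉ ZSub θ hθ) : USub θ hθ ≤ H := by
  set M := MulAction.stabilizer (Gz θ) (inf θ) with hM
  have hb' := hb.sub hB
  have hUM : ∀ g ∈ USub θ hθ, g ∈ M := fun g hg => U_smul_inf' θ hθ hg
  -- elements of Z act trivially
  have htriv : ∀ (z : M), (z : Gz θ) ∈ ZSub θ hθ → ∀ x : M ⧸ H.subgroupOf M, z • x = x := by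
    intro z hz x
    induction x using QuotientGroup.induction_on with
    | H m =>
      rw [MulAction.Quotient.smul_coe, smul_eq_mul, QuotientGroup.eq, Subgroup.mem_subgroupOf]
      have h1 : (m : Gz θ)⁻¹ * (z : Gz θ)⁻¹ * (m : Gz θ)⁻¹⁻¹ ∈ ZSub θ hθ :=
        Z_conj θ hθ hne (by rw [inv_smul_eq_iff]; exact m.2.symm) (inv_mem hz)
      have h2 := hZ h1
      have h3 : (((z * m)⁻¹ * m : M) : Gz θ) = (m : Gz θ)⁻¹ * (z : Gz θ)⁻¹ * (m : Gz θ)⁻¹⁻¹ := by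
        simp only [Subgroup.coe_mul, Subgroup.coe_inv]; group
      rw [h3]; exact h2
  obtain ⟨a0, b0, rfl⟩ := (mem_USub θ hθ).1 huU
  have ha0 : a0 ≠ 0 := fun h => huZ ((Ug_mem_Z θ hθ).2 h)
  have hcard : ∀ (v : M), (v : Gz θ) ∈ USub θ hθ → (v : Gz θ) ∉ ZSub θ hθ →
      (MulAction.fixedBy (M ⧸ H.subgroupOf M) v).ncard =
      (MulAction.fixedBy (M ⧸ H.subgroupOf M) (⟨Ug θ hθ a0 b0, hUM _ huU⟩ : M)).ncard := by
    rintro ⟨v, hvM⟩ hvU hvZ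
    obtain ⟨a, b, rfl⟩ := (mem_USub θ hθ).1 hvU
    have ha : a ≠ 0 := fun h => hvZ ((Ug_mem_Z θ hθ).2 h)
    set κ : Fˣ := Units.mk0 (a / a0) (div_ne_zero ha ha0) with hκ
    have hκM : Hg θ hθ κ ∈ M := Hg_inf θ hθ κ
    rw [← ncard_fixedBy_conj (⟨Ug θ hθ a0 b0, hUM _ huU⟩ : M) (⟨Hg θ hθ κ, hκM⟩ : M)]
    congr 1
    ext x
    rw [MulAction.mem_fixedBy, MulAction.mem_fixedBy]
    have hz : (((⟨Hg θ hθ κ, hκM⟩ * ⟨Ug θ hθ a0 b0, hUM _ huU⟩ * (⟨Hg θ hθ κ, hκM⟩ : M)⁻¹)⁻¹ *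
      ⟨Ug θ hθ a b, hvM⟩ : M) : Gz θ) ∈ ZSub θ hθ := by
      show (Hg θ hθ κ * Ug θ hθ a0 b0 * (Hg θ hθ κ)⁻¹)⁻¹ * Ug θ hθ a b ∈ ZSub θ hθ
      rw [Hg_conj, Ug_inv, Ug_mul, Ug_mem_Z, hκ, Units.val_mk0, div_mul_cancel₀ _ ha0]
      exact CharTwo.add_self_eq_zero a
    have h1 : (⟨Ug θ hθ a b, hvM⟩ : M) = (⟨Hg θ hθ κ, hκM⟩ * ⟨Ug θ hθ a0 b0, hUM _ huU⟩ *
      (⟨Hg θ hθ κ, hκM⟩ : M)⁻¹) * ((⟨Hg θ hθ κ, hκM⟩ * ⟨Ug θ hθ a0 b0, hUM _ huU⟩ *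
      (⟨Hg θ hθ κ, hκM⟩ : M)⁻¹)⁻¹ * ⟨Ug θ hθ a b, hvM⟩) := by group
    nth_rw 1 [h1]
    rw [mul_smul _ _ x, htriv _ hz]
  -- the claim
  intro v hv
  by_cases hvZ : v ∈ ZSub θ hθ
  · exact hZ hvZ
  by_cases huv : Ug θ hθ a0 b0 * v ∈ ZSub θ hθ
  · have := mul_mem (inv_mem hu) (hZ huv)
    rwa [inv_mul_cancel_left] at this
  have key := hb'.fix (N0 := (MulAction.fixedBy (M ⧸ H.subgroupOf M) (⟨Ug θ hθ a0 b0, hUM _ huU⟩ : M)).ncard)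
    (g := (⟨Ug θ hθ a0 b0, hUM _ huU⟩ : M)) (h := (⟨v, hUM _ hv⟩ : M)) ?_ rfl
    (hcard _ hv hvZ) (hcard _ (mul_mem huU hv) huv) ?_ ?_
  · have h3 : (((1 : M) : M) : M ⧸ H.subgroupOf M) ∈
        MulAction.fixedBy (M ⧸ H.subgroupOf M) (⟨Ug θ hθ a0 b0, hUM _ huU⟩ : M) := by
      rw [MulAction.mem_fixedBy, MulAction.Quotient.smul_coe, smul_eq_mul, QuotientGroup.eq,
        Subgroup.mem_subgroupOf]
      simpa using hu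
    rw [key, MulAction.mem_fixedBy, MulAction.Quotient.smul_coe, smul_eq_mul, QuotientGroup.eq,
      Subgroup.mem_subgroupOf] at h3
    simpa using h3
  · rintro f ⟨k, hk⟩ ⟨x, hx⟩
    have h1 : (f : Gz θ) ∈ USub θ hθ := by
      refine two_elem θ hθ hne f.2 (k := k) ?_
      have := congrArg Subtype.val hk
      exact this
    exact (hcard f h1 (fun h => hx (htriv f h x))).le
  · intro x
    rw [← mul_smul]
    refine htriv _ ?_ x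
    show v * v ∈ ZSub θ hθ
    obtain ⟨c, d, rfl⟩ := (mem_USub θ hθ).1 hv
    rw [Ug_mul, Ug_mem_Z]
    exact CharTwo.add_self_eq_zero c
  · intro x
    obtain ⟨c, d, rfl⟩ := (mem_USub θ hθ).1 hv
    rw [← mul_smul, ← mul_smul]
    have h1 : (⟨Ug θ hθ a0 b0, hUM _ huU⟩ * ⟨Ug θ hθ c d, hUM _ hv⟩ : M) =
      (⟨Ug θ hθ c d, hUM _ hv⟩ * ⟨Ug θ hθ a0 b0, hUM _ huU⟩) *
      ((⟨Ug θ hθ c d, hUM _ hv⟩ * ⟨Ug θ hθ a0 b0, hUM _ huU⟩)⁻¹ *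
      (⟨Ug θ hθ a0 b0, hUM _ huU⟩ * ⟨Ug θ hθ c d, hUM _ hv⟩)) := by group
    have hz : ((⟨Ug θ hθ c d, hUM _ hv⟩ * ⟨Ug θ hθ a0 b0, hUM _ huU⟩ : M)⁻¹ *
      (⟨Ug θ hθ a0 b0, hUM _ huU⟩ * ⟨Ug θ hθ c d, hUM _ hv⟩)) • x = x := by
      refine htriv _ ?_ x
      show (Ug θ hθ c d * Ug θ hθ a0 b0)⁻¹ * (Ug θ hθ a0 b0 * Ug θ hθ c d) ∈ ZSub θ hθ
      rw [Ug_mul, Ug_mul, Ug_inv, Ug_mul, Ug_mem_Z, add_comm a0 c]
      exact CharTwo.add_self_eq_zero _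
    rw [h1, mul_smul _ _ x, hz]

/-- step C: subgroups of the Borel subgroup -/
theorem stepC {H : Subgroup (Gz θ)} (hb : Bin (Gz θ) (Gz θ ⧸ H))
    (hB : H ≤ MulAction.stabilizer (Gz θ) (inf θ)) : H = ⊥ ∨ H = ZSub θ hθ := by
  by_cases hU : ∃ u ∈ H, u ∈ USub θ hθ ∧ u ≠ 1
  · obtain ⟨u, hu, huU, hu1⟩ := hU
    have hZ : ZSub θ hθ ≤ H := by
      by_cases h2 : u ^ 2 = 1
      · exact stepA θ hθ hne hb hu ((mem_Z_iff_sq θ hθ huU).2 h2) hu1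
      · refine stepA θ hθ hne hb (pow_mem hu 2) ((mem_Z_iff_sq θ hθ (pow_mem huU 2)).2 ?_) h2
        rw [← pow_mul]; exact U_pow4 θ hθ huU
    by_cases hZ2 : ∃ u ∈ H, u ∈ USub θ hθ ∧ u ∉ ZSub θ hθ
    · obtain ⟨u, hu, huU, huZ⟩ := hZ2
      exact (stepF θ hθ hne hb (stepG θ hθ hne hb hB hZ hu huU huZ) hB).elim
    · push Not at hZ2
      right
      refine le_antisymm (fun x hx => ?_) hZ
      by_cases hxU : x ∈ USub θ hθ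
      · exact hZ2 x hx hxU
      · exact (stepE θ hθ hne hb hB (Or.inr rfl) (fun g hg hgU => hZ2 g hg hgU) hZ hx hxU).elim
  · push Not at hU
    left
    rw [Subgroup.eq_bot_iff_forall]
    intro x hx
    by_cases hxU : x ∈ USub θ hθ
    · exact hU x hx hxU
    · exact (stepE θ hθ hne hb hB (Or.inl rfl) (fun g hg hgU => Subgroup.mem_bot.2 (hU g hg hgU)) bot_le
        hx hxU).elim

end

end Cfsg.Agent.Lib.SzBin
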