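import Cfsg.Agent.Lib.SzBin4

/-!
# Binary coset actions of the Suzuki groups: the main theorem (helper6)
-/

set_option autoImplicit false
set_option linter.unusedSectionVars false
open scoped LinearAlgebra.Projectivization Matrix Pointwise

namespace Cfsg.Agent.Lib.SzBin

open Cfsg.Agent.Lib.SuzukiOvoid Cfsg.Agent.Lib.SuzukiGroup Cfsg.Agent.Lib.SuzukiFin
  Cfsg.Agent.Lib.SuzukiStab Cfsg.Agent.Lib.SuzukiSyl Cfsg.Agent.Lib.SuzukiPts
  Cfsg.Agent.Lib.SuzukiTor Cfsg.Agent.Lib.SuzukiNoFix Cfsg.Agent.Lib.TICount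
  Cfsg.Agent.Lib.SuzukiCount Cfsg.Agent.Lib.SuzukiTori Cfsg.Agent.Lib.SuzukiStr
  Cfsg.Agent.Lib.SuzukiStr2 Cfsg.Agent.Lib.SuzukiStr3 Cfsg.Agent.Lib.SuzukiStr4

variable {F : Type*} [Field F] [CharP F 2] (θ : F ≃+* F) (hθ : ∀ x, θ (θ x) = x ^ 2)
  (hne : ∃ x, θ x ≠ x ^ 2)

section
variable [Finite F]
include hθ hne

theorem mem_cent {a b : Gz θ} : a ∈ Subgroup.centralizer ({b} : Set (Gz θ)) ↔ a * b = b * a :=
  Subgroup.mem_centralizer_singleton_iff

/-- an involution normalising a torus inverts it -/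
theorem inverts {c t : Gz θ} (hT : IsTor θ hθ hne c) (ht2 : t ^ 2 = 1) (ht1 : t ≠ 1)
    (hN : t ∈ Subgroup.normalizer (Subgroup.centralizer {c} : Set (Gz θ))) : t * c * t⁻¹ = c⁻¹ := by
  have hcc : c ∈ Subgroup.centralizer ({c} : Set (Gz θ)) := (mem_cent θ hθ hne).2 rfl
  have h1 : t * c * t⁻¹ ∈ Subgroup.centralizer ({c} : Set (Gz θ)) :=
    (Subgroup.mem_normalizer_iff.1 hN c).1 hcc
  have h2 : c * (t * c * t⁻¹) ∈ Subgroup.centralizer ({c} : Set (Gz θ)) := mul_mem hcc h1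
  have htt : t * t = 1 := by rw [← pow_two]; exact ht2
  have hti : t⁻¹ = t := inv_eq_of_mul_eq_one_left htt
  have h3 : t * (c * (t * c * t⁻¹)) = c * (t * c * t⁻¹) * t := by
    have h4 := (mem_cent θ hθ hne).1 h1
    calc t * (c * (t * c * t⁻¹)) = (t * c * t⁻¹) * (t * t) * c * t⁻¹ := by group
      _ = (t * c * t⁻¹) * c * t⁻¹ := by rw [htt, mul_one]
      _ = c * (t * c * t⁻¹) * t⁻¹ := by rw [h4]
      _ = _ := by rw [hti]
  by_cases h4 : c * (t * c * t⁻¹) = 1
  · exact eq_inv_of_mul_eq_one_right h4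
  exfalso
  have h5 := IsTor.centralizer_eq θ hθ hne hT h2 h4
  have h6 : t ∈ Subgroup.centralizer ({c} : Set (Gz θ)) := by
    rw [← h5]; exact (mem_cent θ hθ hne).2 h3
  obtain ⟨p, hp⟩ := exists_Up θ hθ hne (orderOf_eq_prime ht2 ht1)
  exact hT.2 p (centralizer_Up θ hθ hne hp ht1 ((mem_cent θ hθ hne).2 ((mem_cent θ hθ hne).1 h6).symm))

/-- the torus case with an involution -/
theorem stepB {H : Subgroup (Gz θ)} (hb : Bin (Gz θ) (Gz θ ⧸ H)) {c s : Gz θ} (hT : IsTor θ hθ hne c)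
    (hN : H ≤ Subgroup.normalizer (Subgroup.centralizer {c} : Set (Gz θ))) (hs : s ∈ H) (hs2 : s ^ 2 = 1)
    (hs1 : s ≠ 1) : False := by
  obtain ⟨p, hp⟩ := exists_Up θ hθ hne (orderOf_eq_prime hs2 hs1)
  obtain ⟨k, hk⟩ := exists_to θ hθ p
  have h1 := (mem_Up_iff_conj θ hθ hne hk s).1 hp
  have h2 : (k⁻¹ * s * k) ^ 2 = 1 := by
    rw [pow_two, show k⁻¹ * s * k * (k⁻¹ * s * k) = k⁻¹ * (s * s) * k by group, ← pow_two, hs2]; group
  have h3 : k⁻¹ * s * k ≠ 1 := by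
    intro h
    apply hs1
    have : s = k * (k⁻¹ * s * k) * k⁻¹ := by group
    rw [this, h]; group
  have h4 : k⁻¹ * s * k ∈ H.map (MulAut.conj k⁻¹).toMonoidHom := by
    rw [mem_map_conj θ hθ hne, show k⁻¹⁻¹ * (k⁻¹ * s * k) * k⁻¹ = s by group]; exact hs
  have h5 := stepA θ hθ hne (hb.conj k⁻¹) h4 ((mem_Z_iff_sq θ hθ h1).2 h2) h3
  have h6 : ∀ b : F, k * Ug θ hθ 0 b * k⁻¹ ∈ H := by
    intro b
    have := h5 (Uz_mem θ hθ b)
    rw [mem_map_conj θ hθ hne, inv_inv] at this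
    exact this
  have h7 : ∀ b : F, b ≠ 0 → (k * Ug θ hθ 0 b * k⁻¹) * c * (k * Ug θ hθ 0 b * k⁻¹)⁻¹ = c⁻¹ := by
    intro b hb0
    refine inverts θ hθ hne hT ?_ ?_ (hN (h6 b))
    · rw [pow_two, show k * Ug θ hθ 0 b * k⁻¹ * (k * Ug θ hθ 0 b * k⁻¹) =
        k * (Ug θ hθ 0 b * Ug θ hθ 0 b) * k⁻¹ by group, Ug_mul]
      have : Ug θ hθ ((0 : F) + 0) (b + b + θ 0 * 0) = 1 := by
        rw [Ug_eq_one]; simp [CharTwo.add_self_eq_zero]
      rw [this]; group
    · apply conj_ne_one θ hθ hne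
      rw [Ne, Ug_eq_one]
      exact fun h => hb0 h.2
  obtain ⟨x, hx0, hx1⟩ := SuzukiSyl.exists_ne θ hne
  have e1 := h7 1 one_ne_zero
  have e2 := h7 x hx0
  set t1 := k * Ug θ hθ 0 1 * k⁻¹ with ht1
  set t2 := k * Ug θ hθ 0 x * k⁻¹ with ht2
  have h8 : (t1 * t2) * c = c * (t1 * t2) := by
    have h9 : t1 * t2 * c * (t1 * t2)⁻¹ = c := by
      calc t1 * t2 * c * (t1 * t2)⁻¹ = t1 * (t2 * c * t2⁻¹) * t1⁻¹ := by group
        _ = (t1 * c * t1⁻¹)⁻¹ := by rw [e2]; group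
        _ = c := by rw [e1, inv_inv]
    rw [mul_inv_eq_iff_eq_mul] at h9
    exact h9
  have h9 : t1 * t2 = k * Ug θ hθ 0 (1 + x) * k⁻¹ := by
    rw [ht1, ht2, show k * Ug θ hθ 0 1 * k⁻¹ * (k * Ug θ hθ 0 x * k⁻¹) =
      k * (Ug θ hθ 0 1 * Ug θ hθ 0 x) * k⁻¹ by group, Ug_mul]
    simp
  have h10 : t1 * t2 ≠ 1 := by
    rw [h9]
    apply conj_ne_one θ hθ hne
    rw [Ne, Ug_eq_one]
    rintro ⟨-, h⟩
    apply hx1
    have : (1 : F) + 1 = 0 := CharTwo.add_self_eq_zero 1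
    linear_combination h - this
  have h11 : t1 * t2 ∈ Up θ hθ hne p := by
    rw [mem_Up_iff_conj θ hθ hne hk, h9, show k⁻¹ * (k * Ug θ hθ 0 (1 + x) * k⁻¹) * k = Ug θ hθ 0 (1 + x) by group]
    exact Ug_mem θ hθ _ _
  exact hT.2 p (centralizer_Up θ hθ hne h11 h10 ((mem_cent θ hθ hne).2 h8.symm))

/-- odd order subgroups of a torus normaliser -/
theorem stepD {m : ℕ} (hm : 1 ≤ m) (hF : Nat.card F = 2 ^ (2 * m + 1)) {H : Subgroup (Gz θ)}
    (hb : Bin (Gz θ) (Gz θ ⧸ H)) {c : Gz θ} (hc : c ∈ H) (hX : NoFix θ c)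
    (hHC : H ≤ Subgroup.centralizer {c}) : False := by
  have hft : Fintype (Gz θ) := Fintype.ofFinite _
  obtain ⟨D⟩ := SzChr.exists_data θ hθ hne hm hF
  have hc1 : c ≠ 1 := hX.ne_one
  have hdvd := cent_dvd θ hθ hne hX
  have hq8 := D.hq
  have hqe : 2 ∣ Nat.card F := by rw [hF]; exact dvd_pow_self 2 (by omega)
  have hodd : ¬ 2 ∣ Nat.card (Subgroup.centralizer ({c} : Set (Gz θ))) := by
    intro h
    have h1 := h.trans hdvd
    have h2 : 2 ∣ Nat.card F ^ 2 := hqe.trans (dvd_pow_self _ two_ne_zero)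
    have := (Nat.dvd_add_right h2).1 h1
    omega
  -- position of c
  obtain ⟨i, k, hki⟩ : ∃ (i : Fin 3) (k : Gz θ), k⁻¹ * c * k ∈ D.A i := by
    have hcj : ∀ {a : Gz θ}, IsConj a c → ¬ 2 ∣ Nat.card (Subgroup.centralizer ({a} : Set (Gz θ))) := by
      intro a ha
      rw [← SzChr.cent_conj ha]; exact hodd
    rcases D.cover c with h | h | h | h | ⟨i, k, -, h⟩
    · exact absurd h hc1
    · exact absurd (by rw [D.cσ, ← hF]; exact hqe.trans (dvd_pow_self _ two_ne_zero)) (hcj h)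
    · exact absurd (by rw [D.cρ]; exact dvd_mul_right 2 _) (hcj h)
    · refine absurd ?_ (hcj h)
      have h1 : Subgroup.centralizer ({D.ρ⁻¹} : Set (Gz θ)) = Subgroup.centralizer ({D.ρ} : Set (Gz θ)) := by
        ext g
        rw [Subgroup.mem_centralizer_singleton_iff, Subgroup.mem_centralizer_singleton_iff]
        exact Commute.inv_right_iff (a := g) (b := D.ρ)
      rw [h1, D.cρ]; exact dvd_mul_right 2 _
    · exact ⟨i, k, h⟩
  set x := k⁻¹ * c * k with hx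
  have hx1 : x ≠ 1 := by
    intro h
    apply hc1
    have : c = k * (k⁻¹ * c * k) * k⁻¹ := by group
    rw [this, ← hx, h]; group
  have hcx : c = k * x * k⁻¹ := by rw [hx]; group
  have hi : i ≠ 0 := by
    rintro rfl
    have h1 : Subgroup.centralizer ({x} : Set (Gz θ)) = D.A 0 := by
      apply le_antisymm (D.hC 0 x hki hx1)
      intro a ha
      exact (mem_cent θ hθ hne).2 (D.hab 0 a ha x hki)
    have h2 : Nat.card (Subgroup.centralizer ({c} : Set (Gz θ))) = 2 ^ (2 * m + 1) - 1 := by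
      rw [← D.a0, ← h1]
      exact SzChr.cent_conj (isConj_iff.2 ⟨k, hcx.symm⟩)
    rw [h2, hF] at hdvd
    set q := 2 ^ (2 * m + 1) with hq
    have h3 : q ^ 2 + 1 = (q - 1) * (q + 1) + 2 := by
      obtain ⟨j, hj⟩ : ∃ j, q = j + 1 := ⟨q - 1, by omega⟩
      rw [hj, Nat.add_sub_cancel]; ring
    rw [h3] at hdvd
    have h4 := (Nat.dvd_add_right (dvd_mul_right (q - 1) (q + 1))).1 hdvd
    have := Nat.le_of_dvd (by norm_num) h4
    omega
  obtain ⟨b, c', hcb, hbA⟩ := D.triangle hi hki hx1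
  set u := k * b * k⁻¹ with hu
  set v := k * c' * k⁻¹ with hv
  have hz : v * c * v⁻¹ = c * (u * c * u⁻¹) := by
    have h1 : v * c * v⁻¹ = k * (c' * x * c'⁻¹) * k⁻¹ := by rw [hcx, hv]; group
    have h2 : c * (u * c * u⁻¹) = k * (x * (b * x * b⁻¹)) * k⁻¹ := by rw [hcx, hu]; group
    rw [h1, h2, hcb]
  have hy : u * c * u⁻¹ ∉ Subgroup.centralizer ({c} : Set (Gz θ)) := by
    intro h
    apply hbA
    apply D.hC i x hki hx1
    rw [mem_cent θ hθ hne] at h ⊢
    have h1 : u * c * u⁻¹ = k * (b * x * b⁻¹) * k⁻¹ := by rw [hcx, hu]; group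
    rw [h1, hcx] at h
    have h2 : k * ((b * x * b⁻¹) * x) * k⁻¹ = k * (x * (b * x * b⁻¹)) * k⁻¹ := by
      calc _ = k * (b * x * b⁻¹) * k⁻¹ * (k * x * k⁻¹) := by group
        _ = k * x * k⁻¹ * (k * (b * x * b⁻¹) * k⁻¹) := h
        _ = _ := by group
    exact mul_left_cancel (mul_right_cancel h2)
  obtain ⟨d, h1, h2, h3⟩ := hb.triple (α := ((1 : Gz θ) : Gz θ ⧸ H)) (β := ((v : Gz θ) : Gz θ ⧸ H))
    (γ := ((u : Gz θ) : Gz θ ⧸ H)) (a := c) (b := v * c * v⁻¹)
    (by rw [MulAction.Quotient.smul_coe, smul_eq_mul, QuotientGroup.eq]; simpa using hc)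
    (by
      rw [MulAction.Quotient.smul_coe, smul_eq_mul, QuotientGroup.eq,
        show (v * c * v⁻¹ * v)⁻¹ * v = c⁻¹ by group]
      exact inv_mem hc)
    (by
      rw [MulAction.Quotient.smul_coe, MulAction.Quotient.smul_coe, smul_eq_mul, smul_eq_mul,
        QuotientGroup.eq, hz, show (c * u)⁻¹ * (c * (u * c * u⁻¹) * u) = c by group]
      exact hc)
  rw [MulAction.Quotient.smul_coe, smul_eq_mul, QuotientGroup.eq] at h1 h2
  rw [MulAction.Quotient.smul_coe, MulAction.Quotient.smul_coe, smul_eq_mul, smul_eq_mul, QuotientGroup.eq] at h3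
  have hd : d ∈ H := by simpa using h1
  have hcent : ∀ e ∈ H, e ≠ 1 → Subgroup.centralizer {e} = Subgroup.centralizer ({c} : Set (Gz θ)) :=
    fun e he he1 => NoFix.centralizer_eq θ hθ hne hX (cent_comm θ hθ hne (hHC he)) he1
  by_cases hd1 : d = 1
  · rw [hd1, show (1 * u)⁻¹ * (c * u) = u⁻¹ * c * u by group] at h3
    have h4 := (mem_cent θ hθ hne).1 (hHC h3)
    apply hy
    rw [mem_cent θ hθ hne]
    calc u * c * u⁻¹ * c = u * (c * (u⁻¹ * c * u)) * u⁻¹ := by group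
      _ = u * (u⁻¹ * c * u * c) * u⁻¹ := by rw [h4]
      _ = _ := by group
  · have h4 : v⁻¹ * d * v ∈ H := by
      have := inv_mem h2
      rwa [show ((d * v)⁻¹ * v)⁻¹ = v⁻¹ * d * v by group] at this
    have h5 := (mem_cent θ hθ hne).1 (hHC h4)
    have h6 : v * c * v⁻¹ ∈ Subgroup.centralizer ({d} : Set (Gz θ)) := by
      rw [mem_cent θ hθ hne]
      calc v * c * v⁻¹ * d = v * (c * (v⁻¹ * d * v)) * v⁻¹ := by group
        _ = v * (v⁻¹ * d * v * c) * v⁻¹ := by rw [h5]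
        _ = _ := by group
    rw [hcent d hd hd1, hz] at h6
    have hcc : c ∈ Subgroup.centralizer ({c} : Set (Gz θ)) := (mem_cent θ hθ hne).2 rfl
    apply hy
    have := mul_mem (inv_mem hcc) h6
    rwa [inv_mul_cancel_left] at this

/-- conjugates of subgroups of the Borel subgroup -/
theorem stepC' {H : Subgroup (Gz θ)} (hb : Bin (Gz θ) (Gz θ ⧸ H)) {p : ov θ}
    (hB : H ≤ MulAction.stabilizer (Gz θ) p) :
    H = ⊥ ∨ ∃ k : Gz θ, H = (ZSub θ hθ).map (MulAut.conj k).toMonoidHom := by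
  obtain ⟨k, hk⟩ := exists_to θ hθ p
  have h1 : H.map (MulAut.conj k⁻¹).toMonoidHom ≤ MulAction.stabilizer (Gz θ) (inf θ) := by
    intro x hx
    rw [mem_map_conj θ hθ hne, inv_inv] at hx
    have h2 : (k * x * k⁻¹) • p = p := hB hx
    have h3 : k⁻¹ • p = inf θ := by rw [inv_smul_eq_iff, hk]
    rw [mul_smul, mul_smul, h3] at h2
    show x • inf θ = inf θ
    rw [← h3]
    exact eq_inv_smul_iff.2 (by rw [← mul_smul, ← mul_smul] at *; rw [← h3] at h2; simpa [mul_smul] using h2)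
  rcases stepC θ hθ hne (hb.conj k⁻¹) h1 with h2 | h2
  · left
    rw [← map_map_conj θ hθ hne (M := H) (k := k), h2, Subgroup.map_bot]
  · right
    exact ⟨k, by rw [← h2, map_map_conj θ hθ hne]⟩

/-- the main theorem -/
theorem bin_imp {m : ℕ} (hm : 1 ≤ m) (hF : Nat.card F = 2 ^ (2 * m + 1)) {H : Subgroup (Gz θ)}
    (hb : Bin (Gz θ) (Gz θ ⧸ H)) (hH : H ≠ ⊤) :
    H = ⊥ ∨ ∃ k : Gz θ, H = (ZSub θ hθ).map (MulAut.conj k).toMonoidHom := by
  rcases struct θ hθ hne H with ⟨p, hp⟩ | ⟨c, hc, hT, hN⟩ | ⟨K, k, hK, -, hHK⟩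
  · exact stepC' θ hθ hne hb hp
  · by_cases hs : ∃ s ∈ H, s ^ 2 = 1 ∧ s ≠ 1
    · obtain ⟨s, hs, hs2, hs1⟩ := hs
      exact (stepB θ hθ hne hb hT hN hs hs2 hs1).elim
    have hodd : ∀ h ∈ H, Odd (orderOf h) := by
      intro h hh
      rw [← Nat.not_even_iff_odd, even_iff_two_dvd]
      rintro ⟨j, hj⟩
      apply hs
      refine ⟨h ^ j, pow_mem hh j, ?_, ?_⟩
      · rw [← pow_mul, mul_comm, ← hj, pow_orderOf_eq_one]
      · intro h1
        have h2 := orderOf_dvd_of_pow_eq_one h1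
        have h3 : 0 < orderOf h := orderOf_pos h
        have h4 : 0 < j := by
          rcases Nat.eq_zero_or_pos j with h5 | h5
          · rw [h5] at hj; omega
          · exact h5
        have := Nat.le_of_dvd h4 h2
        omega
    rcases types θ hθ hne c with h1 | ⟨p, h1⟩ | ⟨p, p', hpp, h1⟩ | h1
    · exact absurd (Subgroup.mem_bot.mp h1) hT.1
    · exact absurd h1 (hT.2 p)
    · apply stepC' θ hθ hne hb (p := p)
      intro h hh
      have hC := centralizer_Tp θ hθ hne hpp h1 hT.1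
      have hcc : c ∈ Subgroup.centralizer ({c} : Set (Gz θ)) := (mem_cent θ hθ hne).2 rfl
      have h2 : h * c * h⁻¹ ∈ Tp θ p p' := by
        rw [← hC]
        exact (Subgroup.mem_normalizer_iff.1 (hN hh) c).1 hcc
      obtain ⟨f1, f2⟩ := (mem_Tp θ).1 h2
      obtain ⟨g1, g2⟩ := (mem_Tp θ).1 h1
      have f3 : (h * c * h⁻¹) • (h • p) = h • p := by
        rw [← mul_smul, show h * c * h⁻¹ * h = h * c by group, mul_smul, g1]
      have f4 : (h * c * h⁻¹) • (h • p') = h • p' := by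
        rw [← mul_smul, show h * c * h⁻¹ * h = h * c by group, mul_smul, g2]
      have hne1 : h * c * h⁻¹ ≠ 1 := conj_ne_one θ hθ hne hT.1
      show h • p = p
      by_contra hcon
      have e1 : h • p = p' := by
        by_contra h5
        exact hne1 (three_points θ hθ hne hpp (fun h => h5 h.symm) (fun h => hcon h.symm) f1 f2 f3)
      have e2 : h • p' = p := by
        by_contra h5
        have h6 : h • p' ≠ p' := by
          intro h7
          apply hpp
          have := e1.trans h7.symm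
          exact (MulAction.injective h) this
        exact hne1 (three_points θ hθ hne hpp (fun h => h6 h.symm) (fun h => h5 h.symm) f1 f2 f4)
      obtain ⟨j, hj⟩ := hodd h hh
      have h7 : ∀ j : ℕ, h ^ (2 * j) • p = p := by
        intro j
        induction j with
        | zero => simp
        | succ j ih => rw [mul_add, mul_one, pow_add, mul_smul, pow_two, mul_smul, e1, e2, ih]
      have h8 := pow_orderOf_eq_one h
      rw [hj, pow_succ'] at h8
      have h9 : (h * h ^ (2 * j)) • p = p := by rw [h8, one_smul]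
      rw [mul_smul, h7] at h9
      exact hcon h9
    · exfalso
      refine stepD θ hθ hne hm hF hb hc h1 ?_
      intro h hh
      obtain ⟨e, he, hcard⟩ := conj_index θ hθ hne h1
      set C := Subgroup.centralizer ({c} : Set (Gz θ)) with hC
      have hidx : (C.subgroupOf (Subgroup.normalizer (C : Set (Gz θ)))).index = e := by
        have h2 := Subgroup.card_mul_index (C.subgroupOf (Subgroup.normalizer (C : Set (Gz θ))))
        rw [hcard, Nat.card_congr (Subgroup.subgroupOfEquivOfLe Subgroup.le_normalizer).toEquiv] at h2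
        exact Nat.eq_of_mul_eq_mul_left Nat.card_pos h2
      have h2 := Subgroup.pow_index_mem (C.subgroupOf (Subgroup.normalizer (C : Set (Gz θ)))) ⟨h, hN hh⟩
      rw [hidx, Subgroup.mem_subgroupOf] at h2
      have h3 : h ^ e ∈ C := h2
      have h4 : Nat.Coprime e (orderOf h) := by
        apply Nat.Coprime.coprime_dvd_left he
        exact Nat.Coprime.pow_left 2 ((Nat.coprime_two_left).2 (hodd h hh))
      obtain ⟨n, hn⟩ := exists_pow_eq_self_of_coprime h4
      rw [← hn]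
      exact pow_mem h3 n
  · exfalso
    apply hH
    have h1 : H.map (MulAut.conj k⁻¹).toMonoidHom = SzSub θ K := by
      ext x
      rw [hHK, mem_map_conj θ hθ hne, mem_map_conj θ hθ hne, show k⁻¹ * (k⁻¹⁻¹ * x * k⁻¹) * k = x by group]
    have h2 := hb.conj k⁻¹
    rw [h1] at h2
    have h3 : Ug θ hθ 0 1 ∈ SzSub θ K := Ug_mem_SzSub θ hθ hK (zero_mem K) (one_mem K)
    have h4 := stepA θ hθ hne h2 h3 (Uz_mem θ hθ 1) (by
      rw [Ne, Ug_eq_one]; exact fun h => one_ne_zero h.2)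
    have h5 : ∀ b : F, b ∈ K := by
      intro b
      have h6 := (smul_mem_subPts θ (h4 (Uz_mem θ hθ b))).2 ((pt_mem_subPts θ).2 ⟨zero_mem K, zero_mem K⟩)
      rw [Ug_pt] at h6
      have h7 := ((pt_mem_subPts θ).1 h6).2
      simpa using h7
    have h6 : ∀ p : ov θ, p ∈ subPts θ K := by
      intro p
      rcases SuzukiGroup.cases θ p with rfl | ⟨x, y, rfl⟩
      · exact inf_mem_subPts θ K
      · exact (pt_mem_subPts θ).2 ⟨h5 x, h5 y⟩
    have h7 : SzSub θ K = ⊤ := by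
      rw [eq_top_iff]
      intro g _
      exact mem_SzSub_of θ (fun p _ => h6 _) (fun p _ => h6 _)
    rw [hHK, h7]
    rw [eq_top_iff]
    intro g _
    rw [mem_map_conj θ hθ hne]
    exact Subgroup.mem_top _

end

end Cfsg.Agent.Lib.SzBin
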