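import Cfsg.Agent.Lib.SzBin5

/-!
# Binary coset actions of the Suzuki groups: the converse (helper6)
-/

set_option autoImplicit false
set_option linter.unusedSectionVars false
open scoped LinearAlgebra.Projectivization Matrix Pointwise

namespace Cfsg.Agent.Lib.SzBin

open Cfsg.Agent.Lib.SuzukiOvoid Cfsg.Agent.Lib.SuzukiGroup Cfsg.Agent.Lib.SuzukiFin
  Cfsg.Agent.Lib.SuzukiStab Cfsg.Agent.Lib.SuzukiSyl Cfsg.Agent.Lib.SuzukiPts
  Cfsg.Agent.Lib.SuzukiTor Cfsg.Agent.Lib.SuzukiNoFix Cfsg.Agent.Lib.TICount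
  Cfsg.Agent.Lib.SuzukiCount Cfsg.Agent.Lib.SuzukiTori Cfsg.Agent.Lib.SuzukiStr
  Cfsg.Agent.Lib.SuzukiStr2 Cfsg.Agent.Lib.SuzukiStr3 Cfsg.Agent.Lib.SuzukiStr4

/-- regular actions are binary -/
theorem bin_bot {G : Type*} [Group G] : Bin G (G ⧸ (⊥ : Subgroup G)) := by
  intro n I J hn h
  have hfix : ∀ (x : G) (ω : G ⧸ (⊥ : Subgroup G)), x • ω = ω → x = 1 := by
    intro x ω hx
    induction ω using QuotientGroup.induction_on with
    | H m =>
      rw [MulAction.Quotient.smul_coe, smul_eq_mul, QuotientGroup.eq, Subgroup.mem_bot] at hx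
      have : x = m * ((x * m)⁻¹ * m)⁻¹ * m⁻¹ := by group
      rw [this, hx]; group
  obtain ⟨g, hg0, -⟩ := h ⟨0, by omega⟩ ⟨1, by omega⟩ (by intro h; simp at h)
  refine ⟨g, fun i => ?_⟩
  by_cases hi : (⟨0, by omega⟩ : Fin n) = i
  · rw [← hi]; exact hg0
  · obtain ⟨g', h0, h1⟩ := h ⟨0, by omega⟩ i hi
    have h2 : (g⁻¹ * g') • I ⟨0, by omega⟩ = I ⟨0, by omega⟩ := by
      rw [mul_smul, h0, inv_smul_eq_iff, hg0]
    have h3 := inv_mul_eq_one.1 (hfix _ _ h2)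
    rw [h3]; exact h1

variable {F : Type*} [Field F] [CharP F 2] (θ : F ≃+* F) (hθ : ∀ x, θ (θ x) = x ^ 2)
  (hne : ∃ x, θ x ≠ x ^ 2)

section
variable [Finite F]
include hθ hne

theorem mem_Z_conj {k g : Gz θ} {p : ov θ} (hk : k • inf θ = p) :
    k⁻¹ * g * k ∈ ZSub θ hθ ↔ g ∈ Up θ hθ hne p ∧ g ^ 2 = 1 := by
  have h0 : (k⁻¹ * g * k) ^ 2 = 1 ↔ g ^ 2 = 1 := by
    rw [pow_two, pow_two, show k⁻¹ * g * k * (k⁻¹ * g * k) = k⁻¹ * (g * g) * k by group]
    constructor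
    · intro h
      have : g * g = k * (k⁻¹ * (g * g) * k) * k⁻¹ := by group
      rw [this, h]; group
    · intro h
      rw [h]; group
  constructor
  · intro h
    exact ⟨(mem_Up_iff_conj θ hθ hne hk g).2 (ZSub_le θ hθ h), h0.1 ((mem_Z_iff_sq θ hθ (ZSub_le θ hθ h)).1 h)⟩
  · rintro ⟨h1, h2⟩
    exact (mem_Z_iff_sq θ hθ ((mem_Up_iff_conj θ hθ hne hk g).1 h1)).2 (h0.2 h2)

/-- the action on the cosets of the centre of a Sylow 2-subgroup is binary -/
theorem bin_Z : Bin (Gz θ) (Gz θ ⧸ ZSub θ hθ) := by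
  intro n I J hn h
  have hst : ∀ ω : Gz θ ⧸ ZSub θ hθ, ∃ p : ov θ, ∀ x : Gz θ, x • ω = ω ↔ (x ∈ Up θ hθ hne p ∧ x ^ 2 = 1) := by
    intro ω
    induction ω using QuotientGroup.induction_on with
    | H m =>
      refine ⟨m • inf θ, fun x => ?_⟩
      rw [MulAction.Quotient.smul_coe, smul_eq_mul, QuotientGroup.eq, ← inv_mem_iff,
        show ((x * m)⁻¹ * m)⁻¹ = m⁻¹ * x * m by group]
      exact mem_Z_conj θ hθ hne rfl
  choose p hp using hst
  by_cases hall : ∀ i j, ∀ g : Gz θ, g • I i = J i → g • I j = J j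
  · obtain ⟨g, hg0, -⟩ := h ⟨0, by omega⟩ ⟨1, by omega⟩ (by intro h; simp at h)
    exact ⟨g, fun j => hall _ j g hg0⟩
  push Not at hall
  obtain ⟨i, j, g1, h1, h2⟩ := hall
  have hij : i ≠ j := by
    rintro rfl; exact h2 h1
  obtain ⟨x, hxi, hxj⟩ := h i j hij
  refine ⟨x, fun k => ?_⟩
  by_contra hk
  have hki : i ≠ k := by
    rintro rfl; exact hk hxi
  have hkj : j ≠ k := by
    rintro rfl; exact hk hxj
  obtain ⟨y, hyi, hyk⟩ := h i k hki
  obtain ⟨z, hzj, hzk⟩ := h j k hkj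
  have a1 : (x⁻¹ * y) • I i = I i := by rw [mul_smul, hyi, inv_smul_eq_iff, hxi]
  have b1 : (y⁻¹ * z) • I k = I k := by rw [mul_smul, hzk, inv_smul_eq_iff, hyk]
  have c1 : (x⁻¹ * z) • I j = I j := by rw [mul_smul, hzj, inv_smul_eq_iff, hxj]
  have ane : x⁻¹ * y ≠ 1 := by
    intro h3
    rw [inv_mul_eq_one] at h3
    rw [h3] at hk; exact hk hyk
  have cne : x⁻¹ * z ≠ 1 := by
    intro h3
    rw [inv_mul_eq_one] at h3
    rw [h3] at hk; exact hk hzk
  obtain ⟨a2, a3⟩ := (hp _ _).1 a1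
  obtain ⟨b2, b3⟩ := (hp _ _).1 b1
  obtain ⟨c2, c3⟩ := (hp _ _).1 c1
  have hc : x⁻¹ * z = (x⁻¹ * y) * (y⁻¹ * z) := by group
  set a := x⁻¹ * y with ha
  set b := y⁻¹ * z with hb
  have hai : a⁻¹ = a := inv_eq_of_mul_eq_one_left (by rw [← pow_two]; exact a3)
  have hbi : b⁻¹ = b := inv_eq_of_mul_eq_one_left (by rw [← pow_two]; exact b3)
  have hab : a * b = b * a := by
    have h3 : (a * b)⁻¹ = a * b := inv_eq_of_mul_eq_one_left (by rw [← pow_two, ← hc]; exact c3)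
    rw [← h3, mul_inv_rev, hai, hbi]
  have h4 : a ∈ Subgroup.centralizer ({x⁻¹ * z} : Set (Gz θ)) := by
    rw [mem_cent θ hθ hne, hc]
    rw [hab, ← mul_assoc, hab]
  have h5 := centralizer_Up θ hθ hne c2 cne h4
  have h6 : p (I i) = p (I j) := by
    by_contra h7
    exact ane (Up_disjoint θ hθ hne a2 h5 h7)
  apply h2
  have h7 : (x⁻¹ * g1) • I i = I i := by rw [mul_smul, h1, inv_smul_eq_iff, hxi]
  have h8 : (x⁻¹ * g1) • I j = I j := by
    rw [hp, ← h6, ← hp]; exact h7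
  rw [mul_smul, inv_smul_eq_iff] at h8
  rw [h8, hxj]

/-- central elements of a Sylow 2-subgroup -/
theorem central_iff {x : Gz θ} {p : ov θ} (hx : x ∈ Up θ hθ hne p) :
    (∀ y ∈ Up θ hθ hne p, y * x = x * y) ↔ x ^ 2 = 1 := by
  obtain ⟨k, hk⟩ := exists_to θ hθ p
  have hxU := (mem_Up_iff_conj θ hθ hne hk x).1 hx
  constructor
  · intro h
    have h1 : k⁻¹ * x * k ∈ ZSub θ hθ := by
      have h2 : (⟨k⁻¹ * x * k, hxU⟩ : USub θ hθ) ∈ Subgroup.center (USub θ hθ) := by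
        rw [Subgroup.mem_center_iff]
        rintro ⟨g, hg⟩
        apply Subtype.ext
        show g * (k⁻¹ * x * k) = k⁻¹ * x * k * g
        have h3 : k * g * k⁻¹ ∈ Up θ hθ hne p := by
          rw [mem_Up_iff_conj θ hθ hne hk, show k⁻¹ * (k * g * k⁻¹) * k = g by group]; exact hg
        have h4 := h _ h3
        calc g * (k⁻¹ * x * k) = k⁻¹ * (k * g * k⁻¹ * x) * k := by group
          _ = k⁻¹ * (x * (k * g * k⁻¹)) * k := by rw [h4]
          _ = _ := by group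
      rw [center_U θ hθ hne] at h2
      exact h2
    exact ((mem_Z_conj θ hθ hne hk).1 h1).2
  · intro h y hy
    by_cases h1 : x = 1
    · rw [h1]; group
    · exact commute_invol θ hθ hne (orderOf_eq_prime h h1) hx hy

end

end Cfsg.Agent.Lib.SzBin
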