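import Cfsg.Agent.Lib.AbTI
import Cfsg.Agent.Lib.CharValues

set_option autoImplicit false

/-!
# Exceptional characters of an abelian TI subgroup: summary facts (helper6)
-/

namespace Cfsg.Agent.Lib.SzChr

open scoped ComplexConjugate
open Cfsg Cfsg.Agent.Lib.CharBasic Cfsg.Agent.Lib.TIFN Cfsg.Agent.Lib.AbTI

universe u

variable {G : Type u} [Group G] [Fintype G]
variable (A : Subgroup G)
  (hTI : ∀ g : G, g ∉ Subgroup.normalizer (A : Set G) → ∀ k ∈ A, g * k * g⁻¹ ∈ A → k = 1)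
  (hC : ∀ k ∈ A, k ≠ 1 → Subgroup.centralizer ({k} : Set G) ≤ A)
  (hab : ∀ a ∈ A, ∀ b ∈ A, a * b = b * a)

set_option maxHeartbeats 1000000 in
include hTI hC hab in
/-- The exceptional characters, with their values on `A`, and agreeing off the conjugates of `A`. -/
theorem exc2 [Fintype (Subgroup.normalizer (A : Set G))] (h2 : 2 ≤ Nat.card (Rel A)) :
    ∃ (ε : ℂ) (f : Rel A → IrrCharacter G) (m : ℤ) (z : ℕ), (ε = 1 ∨ ε = -1) ∧
      Function.Injective f ∧ (∀ χ, (f χ : G → ℂ) 1 = z) ∧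
      (∀ (χ : Rel A) (k : Subgroup.normalizer (A : Set G)), (k : G) ∈ A → k ≠ 1 →
        (f χ : G → ℂ) k = ε * ((χ.1 : ↥(Subgroup.normalizer (A : Set G)) → ℂ) k + m)) ∧
      (∀ ψ : IrrCharacter G, (∀ χ, ψ ≠ f χ) → ∃ C : ℤ, ∀ k ∈ A, k ≠ 1 → (ψ : G → ℂ) k = C) ∧
      (∀ g : G, (∀ k : G, k⁻¹ * g * k ∉ A) → ∀ χ ξ : Rel A, (f χ : G → ℂ) g = (f ξ : G → ℂ) g) := by
  set N := Subgroup.normalizer (A : Set G) with hN
  set K' := A.subgroupOf N with hK'
  have hcK : Nat.card K' = Nat.card A :=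
    Nat.card_congr (Subgroup.subgroupOfEquivOfLe Subgroup.le_normalizer).toEquiv
  have he : (K'.index : ℂ) ≠ 0 := by exact_mod_cast Subgroup.index_ne_zero_of_finite
  have hcr := card_rel A hC hab
  have : Fintype (Rel A) := Fintype.ofFinite _
  obtain ⟨ε, f, hε, hfi, hf⟩ : ∃ (ε : ℂ) (f : Rel A → IrrCharacter G), (ε = 1 ∨ ε = -1) ∧
      Function.Injective f ∧ ∀ χ ξ : Rel A, indFun N ((χ.1 : N → ℂ) - (ξ.1 : N → ℂ)) =
        ε • ((f χ : G → ℂ) - (f ξ : G → ℂ)) := by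
    rcases abelian_exceptional A hTI hC hab with h | h
    · exfalso
      have h3 := h.1
      change Nat.card (Rel A) = 1 at h3
      omega
    · exact h
  have hεε : ε * ε = 1 := by rcases hε with h | h <;> simp [h]
  have hεc : conj ε = ε := by rcases hε with h | h <;> simp [h]
  obtain ⟨χ₀, χ₁, hχ01⟩ : ∃ a b : Rel A, a ≠ b := by
    rw [Nat.card_eq_fintype_card] at h2
    exact Fintype.exists_pair_of_one_lt_card (by omega)
  have hvan : ∀ (χ : Rel A) (y : N), (y : G) ∉ A → (χ.1 : N → ℂ) y = 0 := by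
    rintro ⟨χ, k, hk, hk1⟩ y hy
    exact vanish_off K' (centralizer_le_subgroupOf A hC) χ.2 ⟨k, hk, hk1⟩ hy
  have hdiffcf : ∀ χ ξ : Rel A, IsClassFunction N ((χ.1 : N → ℂ) - (ξ.1 : N → ℂ)) :=
    fun χ ξ => χ.1.2.isClassFunction.sub ξ.1.2.isClassFunction
  have hdiff1 : ∀ χ ξ : Rel A, ((χ.1 : N → ℂ) - (ξ.1 : N → ℂ)) 1 = 0 := by
    intro χ ξ
    have h3 := rel_deg A hC hab χ
    have h4 := rel_deg A hC hab ξ
    rw [Pi.sub_apply, h3, h4, sub_self]
  have hdiff : ∀ (χ ξ : Rel A) (k : N), ε * ((f χ : G → ℂ) k - (f ξ : G → ℂ) k) =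
      (χ.1 : N → ℂ) k - (ξ.1 : N → ℂ) k := by
    intro χ ξ k
    have h3 := congrFun (hf χ ξ) (k : G)
    rw [indFun_eq A hTI hC _ (hdiffcf χ ξ) (fun y hy => by
      rw [Pi.sub_apply, hvan χ y hy, hvan ξ y hy, sub_self]) (hdiff1 χ ξ)] at h3
    simp only [Pi.sub_apply, Pi.smul_apply, smul_eq_mul] at h3
    exact h3.symm
  -- degrees
  have hdeg : ∀ χ ξ : Rel A, (f χ : G → ℂ) 1 = (f ξ : G → ℂ) 1 := by
    intro χ ξ
    have h3 := congrFun (hf χ ξ) 1
    rw [IndFun.indFun_one, hdiff1, mul_zero, Pi.smul_apply, smul_eq_mul, Pi.sub_apply] at h3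
    have hε0 : ε ≠ 0 := by rintro rfl; simp at hεε
    have h4 := (mul_eq_zero.1 h3.symm).resolve_left hε0
    exact sub_eq_zero.1 h4
  obtain ⟨z, -, hz⟩ := (f χ₀).2.exists_degree
  -- inner products
  have hinner : ∀ (ψ : IrrCharacter G) (χ ξ : Rel A),
      classInner (fun y : N => (ψ : G → ℂ) y) ((χ.1 : N → ℂ) - (ξ.1 : N → ℂ)) =
        ε * (classInner (ψ : G → ℂ) (f χ : G → ℂ) - classInner (ψ : G → ℂ) (f ξ : G → ℂ)) := by
    intro ψ χ ξ
    rw [recip ψ.2.isClassFunction, hf, classInner_smul_right, hεc, classInner_sub_right]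
  have hgencf : ∀ χ : Rel A, IsGeneralizedCharacter N (fun y : N => ε * (f χ : G → ℂ) y -
      (χ.1 : N → ℂ) y) := by
    intro χ
    have h3 : IsGeneralizedCharacter N (fun y : N => (f χ : G → ℂ) y) :=
      (f χ).2.isGeneralized.restrict N
    rcases hε with h | h
    · have := h3.sub χ.1.2.isGeneralized
      convert this using 1
      funext y
      simp [h]
    · have := (h3.neg).sub χ.1.2.isGeneralized
      convert this using 1
      funext y
      simp [h]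
  have hconst : ∀ χ : Rel A, ∃ m : ℤ, ∀ k : N, (k : G) ∈ A → k ≠ 1 →
      ε * (f χ : G → ℂ) k - (χ.1 : N → ℂ) k = m := by
    intro χ
    obtain ⟨C, hC1, hC2⟩ := const_of A hC hab χ₀ (hgencf χ).isClassFunction (by
      intro ξ
      have h3 := hinner (f χ) ξ χ₀
      have e1 : (fun y : N => ε * (f χ : G → ℂ) y - (χ.1 : N → ℂ) y) =
        ε • (fun y : N => (f χ : G → ℂ) y) - (χ.1 : N → ℂ) := by
        funext y; simp
      rw [e1, classInner_sub_left, classInner_smul_left, classInner_sub_left,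
        classInner_smul_left]
      rw [classInner_sub_right] at h3
      have h4 : classInner (f χ : G → ℂ) (f ξ : G → ℂ) = classInner (χ.1 : N → ℂ) (ξ.1 : N → ℂ) := by
        rw [irr_orthonormal, irr_orthonormal]
        by_cases h : χ = ξ
        · rw [h]; simp
        · rw [if_neg (fun h' => h (hfi h')), if_neg (fun h' => h (Subtype.ext h'))]
      have h5 : classInner (f χ : G → ℂ) (f χ₀ : G → ℂ) = classInner (χ.1 : N → ℂ) (χ₀.1 : N → ℂ) := by
        rw [irr_orthonormal, irr_orthonormal]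
        by_cases h : χ = χ₀
        · rw [h]; simp
        · rw [if_neg (fun h' => h (hfi h')), if_neg (fun h' => h (Subtype.ext h'))]
      rw [h4, h5] at h3
      linear_combination ε * h3 + (classInner (χ.1 : N → ℂ) (ξ.1 : N → ℂ) -
        classInner (χ.1 : N → ℂ) (χ₀.1 : N → ℂ)) * hεε)
    obtain ⟨m, hm⟩ := hC2 (hgencf χ)
    exact ⟨m, fun k hk hk1 => by rw [← hm]; exact hC1 k hk hk1⟩
  obtain ⟨m, hm⟩ := hconst χ₀
  have hval : ∀ (χ : Rel A) (k : N), (k : G) ∈ A → k ≠ 1 →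
      (f χ : G → ℂ) k = ε * ((χ.1 : N → ℂ) k + m) := by
    intro χ k hk hk1
    have h3 := hm k hk hk1
    have h4 := hdiff χ χ₀ k
    linear_combination ε * h3 + ε * h4 + (-(f χ : G → ℂ) k) * hεε
  refine ⟨ε, f, m, z, hε, hfi, fun χ => by rw [hdeg χ χ₀, hz], hval, ?_, ?_⟩
  · intro ψ hψ
    obtain ⟨C, hC1, hC2⟩ := const_of A hC hab χ₀ (F := fun y : N => (ψ : G → ℂ) y)
      (ψ.2.isClassFunction.restrict N) (by
        intro ξ
        have h3 := hinner ψ ξ χ₀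
        rw [irr_orthonormal, irr_orthonormal, if_neg (hψ ξ), if_neg (hψ χ₀),
          classInner_sub_right, sub_self, mul_zero] at h3
        exact sub_eq_zero.1 h3)
    obtain ⟨m', hm'⟩ := hC2 (ψ.2.isGeneralized.restrict N)
    exact ⟨m', fun k hk hk1 => hm' ▸ hC1 ⟨k, Subgroup.le_normalizer hk⟩ hk
      (fun h => hk1 (congrArg Subtype.val h))⟩
  · intro g hg χ ξ
    have h3 := congrFun (hf χ ξ) g
    have h4 : indFun N ((χ.1 : N → ℂ) - (ξ.1 : N → ℂ)) g = 0 := by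
      rw [IndFun.indFun_apply, Finset.sum_eq_zero, mul_zero]
      intro x _
      by_cases hx : x⁻¹ * g * x ∈ N
      · rw [show x⁻¹ * g * x = ((⟨x⁻¹ * g * x, hx⟩ : N) : G) from rfl, IndFun.extendByZero_coe,
          Pi.sub_apply, hvan χ _ (hg x), hvan ξ _ (hg x), sub_self]
      · exact IndFun.extendByZero_not_mem _ _ hx
    rw [h4, Pi.smul_apply, smul_eq_mul, Pi.sub_apply] at h3
    have hε0 : ε ≠ 0 := by rintro rfl; simp at hεε
    exact sub_eq_zero.1 ((mul_eq_zero.1 h3.symm).resolve_left hε0)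

theorem norm_le {G : Type u} [Group G] [Finite G] {χ : G → ℂ} (hχ : IsCharacter G χ) {n : ℕ}
    (hn : χ 1 = n) (g : G) : ‖χ g‖ ≤ n := by
  obtain ⟨d, ρ, rfl⟩ := hχ
  have h := CharValues.norm_character_le ρ g
  have h1 : ((Module.finrank ℂ (Fin d → ℂ) : ℕ) : ℂ) = n := by rw [← hn, Representation.char_one]
  have h2 : Module.finrank ℂ (Fin d → ℂ) = n := by exact_mod_cast h1
  rw [h2] at h
  exact h

set_option maxHeartbeats 1000000 in
include hTI hC hab in
/-- summary -/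
theorem fam (h2 : 2 ≤ Nat.card (Rel A)) {e : ℕ}
    (he : (A.subgroupOf (Subgroup.normalizer (A : Set G))).index = e) :
    ∃ (ε : ℂ) (E : Finset (IrrCharacter G)) (m : ℤ) (z : ℕ), (ε = 1 ∨ ε = -1) ∧
      E.card = Nat.card (Rel A) ∧ (∀ χ ∈ E, (χ : G → ℂ) 1 = z) ∧
      (∀ k ∈ A, k ≠ 1 → ∑ χ ∈ E, (χ : G → ℂ) k = ε * (-1 + m * Nat.card (Rel A))) ∧
      (∀ k ∈ A, k ≠ 1 → ∑ χ ∈ E, (χ : G → ℂ) k * conj ((χ : G → ℂ) k) =
        Nat.card A - e - 2 * m + m ^ 2 * Nat.card (Rel A)) ∧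
      (∀ ψ : IrrCharacter G, ψ ∉ E → ∃ c : ℤ, ∀ k ∈ A, k ≠ 1 → (ψ : G → ℂ) k = c) ∧
      (∀ g : G, (∀ k : G, k⁻¹ * g * k ∉ A) → ∀ χ ∈ E, ∀ ξ ∈ E, (χ : G → ℂ) g = (ξ : G → ℂ) g) ∧
      (∀ χ ∈ E, ∀ k ∈ A, k ≠ 1 → ‖(χ : G → ℂ) k - ε * m‖ ≤ e) ∧
      (∀ χ ∈ E, ∀ c : ℂ, ∃ k ∈ A, k ≠ 1 ∧ (χ : G → ℂ) k ≠ c) := by
  classical
  have : Fintype (Subgroup.normalizer (A : Set G)) := Fintype.ofFinite _
  have : Fintype (Rel A) := Fintype.ofFinite _
  obtain ⟨ε, f, m, z, hε, hfi, hz, hval, hnon, hagree⟩ := exc2 A hTI hC hab h2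
  have hεε : ε * ε = 1 := by rcases hε with h | h <;> simp [h]
  have hεc : conj ε = ε := by rcases hε with h | h <;> simp [h]
  have hsum : ∀ (F : IrrCharacter G → ℂ), ∑ χ ∈ (Finset.univ.image f), F χ = ∑ χ : Rel A, F (f χ) :=
    fun F => Finset.sum_image (fun a _ b _ h => hfi h)
  have hcR : ((Finset.univ : Finset (Rel A)).card : ℂ) = (Nat.card (Rel A) : ℂ) := by
    rw [Nat.card_eq_fintype_card]; rfl
  have hmemN : ∀ {k : G} (hk : k ∈ A), k ∈ Subgroup.normalizer (A : Set G) :=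
    fun hk => Subgroup.le_normalizer hk
  have hv : ∀ (χ : Rel A) (k : G) (hk : k ∈ A), k ≠ 1 → (f χ : G → ℂ) k =
      ε * ((χ.1 : ↥(Subgroup.normalizer (A : Set G)) → ℂ) ⟨k, hmemN hk⟩ + m) :=
    fun χ k hk hk1 => hval χ ⟨k, hmemN hk⟩ hk (fun h => hk1 (congrArg Subtype.val h))
  have hdegR : ∀ χ : Rel A, (χ.1 : ↥(Subgroup.normalizer (A : Set G)) → ℂ) 1 = e := by
    intro χ; rw [rel_deg A hC hab χ, he]
  refine ⟨ε, Finset.univ.image f, m, z, hε, ?_, ?_, ?_, ?_, ?_, ?_, ?_, ?_⟩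
  · rw [Finset.card_image_of_injective _ hfi, Nat.card_eq_fintype_card]; rfl
  · intro χ hχ
    obtain ⟨a, -, rfl⟩ := Finset.mem_image.1 hχ
    exact hz a
  · intro k hk hk1
    rw [hsum (fun χ => (χ : G → ℂ) k), Finset.sum_congr rfl (fun χ _ => hv χ k hk hk1),
      ← Finset.mul_sum, Finset.sum_add_distrib, (sum_split A hC hab hk hk1).1, Finset.sum_const,
      nsmul_eq_mul, hcR]
    ring
  · intro k hk hk1
    rw [hsum (fun χ => (χ : G → ℂ) k * conj ((χ : G → ℂ) k))]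
    have h3 : ∀ χ : Rel A, (f χ : G → ℂ) k * conj ((f χ : G → ℂ) k) =
        (χ.1 : ↥(Subgroup.normalizer (A : Set G)) → ℂ) ⟨k, hmemN hk⟩ *
          conj ((χ.1 : ↥(Subgroup.normalizer (A : Set G)) → ℂ) ⟨k, hmemN hk⟩) +
        m * (χ.1 : ↥(Subgroup.normalizer (A : Set G)) → ℂ) ⟨k, hmemN hk⟩ +
        m * conj ((χ.1 : ↥(Subgroup.normalizer (A : Set G)) → ℂ) ⟨k, hmemN hk⟩) + m ^ 2 := by
      intro χ
      rw [hv χ k hk hk1, map_mul, map_add, hεc, show conj ((m : ℤ) : ℂ) = (m : ℂ) from map_intCast _ m]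
      linear_combination ((χ.1 : ↥(Subgroup.normalizer (A : Set G)) → ℂ) ⟨k, hmemN hk⟩ + m) *
        (conj ((χ.1 : ↥(Subgroup.normalizer (A : Set G)) → ℂ) ⟨k, hmemN hk⟩) + m) * hεε
    rw [Finset.sum_congr rfl (fun χ _ => h3 χ), Finset.sum_add_distrib, Finset.sum_add_distrib,
      Finset.sum_add_distrib, (sum_split A hC hab hk hk1).2, ← Finset.mul_sum, ← Finset.mul_sum,
      (sum_split A hC hab hk hk1).1, ← map_sum, (sum_split A hC hab hk hk1).1, Finset.sum_const,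
      nsmul_eq_mul, hcR, he]
    simp
    ring
  · intro ψ hψ
    apply hnon
    intro χ h
    exact hψ (h ▸ Finset.mem_image_of_mem f (Finset.mem_univ χ))
  · intro g hg χ hχ ξ hξ
    obtain ⟨a, -, rfl⟩ := Finset.mem_image.1 hχ
    obtain ⟨b, -, rfl⟩ := Finset.mem_image.1 hξ
    exact hagree g hg a b
  · intro χ hχ k hk hk1
    obtain ⟨a, -, rfl⟩ := Finset.mem_image.1 hχ
    rw [hv a k hk hk1]
    have h3 : ε * ((a.1 : ↥(Subgroup.normalizer (A : Set G)) → ℂ) ⟨k, hmemN hk⟩ + m) - ε * m =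
        ε * (a.1 : ↥(Subgroup.normalizer (A : Set G)) → ℂ) ⟨k, hmemN hk⟩ := by ring
    have h4 : ‖ε‖ = 1 := by rcases hε with h | h <;> simp [h]
    rw [h3, norm_mul, h4, one_mul]
    exact norm_le a.1.2.isCharacter (hdegR a) _
  · intro χ hχ c
    obtain ⟨a, -, rfl⟩ := Finset.mem_image.1 hχ
    by_contra hcon
    push Not at hcon
    set N := Subgroup.normalizer (A : Set G) with hN
    have hn := normal_subgroupOf_normalizer' A
    have hvan : ∀ (χ : Rel A) (y : N), (y : G) ∉ A → (χ.1 : N → ℂ) y = 0 := by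
      rintro ⟨χ, k, hk, hk1⟩ y hy
      exact vanish_off (A.subgroupOf N) (centralizer_le_subgroupOf A hC) χ.2 ⟨k, hk, hk1⟩ hy
    -- `a` is constant on `A#`
    obtain ⟨c', hc'⟩ : ∃ c' : ℂ, ∀ k : N, (k : G) ∈ A → k ≠ 1 → (a.1 : N → ℂ) k = c' := by
      refine ⟨ε * c - m, fun k hk hk1 => ?_⟩
      have hk1' : (k : G) ≠ 1 := fun h => hk1 (Subtype.ext h)
      have h3 := hv a k hk hk1'
      rw [hcon k hk hk1'] at h3
      have h4 : (⟨(k : G), hmemN hk⟩ : N) = k := rfl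
      rw [h4] at h3
      linear_combination (-ε) * h3 + (-(a.1 : N → ℂ) k - m) * hεε
    obtain ⟨b, hb⟩ : ∃ b : Rel A, b ≠ a := by
      have : Nontrivial (Rel A) := by
        rw [← Fintype.one_lt_card_iff_nontrivial, ← Nat.card_eq_fintype_card]; omega
      exact exists_ne a
    have hsA : ∀ (F : N → ℂ), (∀ y : N, (y : G) ∉ A → F y = 0) →
        ∑ y : N, F y = F 1 + ∑ y ∈ (Finset.univ.filter (fun y : N => (y : G) ∈ A)).erase 1, F y := by
      intro F hF
      rw [Finset.add_sum_erase _ _ (by simp [A.one_mem])]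
      rw [← Finset.sum_filter_add_sum_filter_not Finset.univ (fun y : N => (y : G) ∈ A)]
      rw [Finset.sum_eq_zero (s := Finset.univ.filter (fun y : N => ¬ (y : G) ∈ A))
        (fun y hy => hF y (Finset.mem_filter.1 hy).2), add_zero]
    have hinn : ∀ (F F' : N → ℂ), classInner F F' = 0 → ∑ y : N, F y * conj (F' y) = 0 := by
      intro F F' h4
      rw [classInner_def] at h4
      have h6 : ((Nat.card N : ℂ))⁻¹ ≠ 0 := inv_ne_zero (by exact_mod_cast Nat.card_pos.ne')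
      exact (mul_eq_zero.1 h4).resolve_left h6
    have h5 : ∑ y : N, (1 : N → ℂ) y * conj ((b.1 : N → ℂ) y) = 0 := by
      apply hinn
      have := irr_orthonormal (⟨1, isIrrCharacter_one⟩ : IrrCharacter N) b.1
      rw [if_neg] at this
      · exact this
      · intro h5
        obtain ⟨k, hk, hk1⟩ := b.2
        rw [← h5] at hk1
        exact hk1 rfl
    have h6 : ∑ y : N, (a.1 : N → ℂ) y * conj ((b.1 : N → ℂ) y) = 0 := by
      apply hinn
      rw [irr_orthonormal, if_neg (fun h => hb (Subtype.ext h).symm)]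
    rw [hsA _ (fun y hy => by rw [hvan b y hy, map_zero, mul_zero])] at h5 h6
    rw [hdegR, hdegR] at h6
    rw [hdegR] at h5
    have h7 : ∑ y ∈ (Finset.univ.filter (fun y : N => (y : G) ∈ A)).erase 1,
        (a.1 : N → ℂ) y * conj ((b.1 : N → ℂ) y) =
        c' * ∑ y ∈ (Finset.univ.filter (fun y : N => (y : G) ∈ A)).erase 1,
          (1 : N → ℂ) y * conj ((b.1 : N → ℂ) y) := by
      rw [Finset.mul_sum]
      apply Finset.sum_congr rfl
      intro y hy
      rw [Finset.mem_erase, Finset.mem_filter] at hy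
      rw [hc' y hy.2.2 hy.1, Pi.one_apply, one_mul]
    rw [h7] at h6
    have he0 : (e : ℂ) ≠ 0 := by
      rw [← he]; exact_mod_cast Subgroup.index_ne_zero_of_finite
    have h8 : c' = e := by
      have h9 : (e : ℂ) * (e - c') = 0 := by
        simp only [Pi.one_apply, map_natCast] at h5 h6
        linear_combination h6 - c' * h5
      exact (sub_eq_zero.1 ((mul_eq_zero.1 h9).resolve_left he0)).symm
    obtain ⟨k, hk, hk1⟩ := a.2
    apply hk1
    rw [hdegR]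
    by_cases hk2 : k = 1
    · rw [hk2, hdegR]
    · rw [hc' k hk hk2, h8]

include hC hab in
/-- only one relevant character: every irreducible character of `G` is an integer constant on `A#` -/
theorem const_int (h1 : Nat.card (Rel A) = 1) (ψ : IrrCharacter G) :
    ∃ c : ℤ, ∀ k ∈ A, k ≠ 1 → (ψ : G → ℂ) k = c := by
  classical
  have : Fintype (Subgroup.normalizer (A : Set G)) := Fintype.ofFinite _
  have hs : Subsingleton (Rel A) := (Nat.card_eq_one_iff_unique.1 h1).1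
  obtain ⟨ξ₀⟩ := (Nat.card_eq_one_iff_unique.1 h1).2
  obtain ⟨C, hC1, hC2⟩ := const_of A hC hab ξ₀ (F := fun y : Subgroup.normalizer (A : Set G) =>
    (ψ : G → ℂ) y) (ψ.2.isClassFunction.restrict _) (fun ξ => by rw [Subsingleton.elim ξ ξ₀])
  obtain ⟨m', hm'⟩ := hC2 (ψ.2.isGeneralized.restrict _)
  exact ⟨m', fun k hk hk1 => hm' ▸ hC1 ⟨k, Subgroup.le_normalizer hk⟩ hk
      (fun h => hk1 (congrArg Subtype.val h))⟩

end Cfsg.Agent.Lib.SzChr
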