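import Cfsg.Agent.Lib.SzChr9

set_option autoImplicit false
set_option linter.unusedSectionVars false

/-!
# Products of two conjugates in groups with the character table of `Sz(q)` (helper6)
-/

namespace Cfsg.Agent.Lib.SzChr

open scoped ComplexConjugate
open Cfsg Cfsg.Agent.Lib.CharBasic Cfsg.Agent.Lib.TIFN Cfsg.Agent.Lib.AbTI Cfsg.Agent.Lib.TICount

universe u

variable {G : Type u} [Group G] [Fintype G]

theorem exists_prod {x g : G}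
    (h : ∑ χ : IrrCharacter G, (χ : G → ℂ) x ^ 2 * conj ((χ : G → ℂ) g) / (χ : G → ℂ) 1 ≠ 0) :
    ∃ u v : G, g = (u * x * u⁻¹) * (v * x * v⁻¹) := by
  classical
  by_contra hcon
  push Not at hcon
  apply h
  have h1 : ∀ b : G, ∑ χ : IrrCharacter G, (χ : G → ℂ) (x * (b * x * b⁻¹)) * conj ((χ : G → ℂ) g) = 0 := by
    intro b
    rw [column_orthogonality, if_neg]
    intro hc
    obtain ⟨c, hc⟩ := isConj_iff.1 hc
    apply hcon c (c * b)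
    rw [← hc]; group
  have h2 : ∑ b : G, ∑ χ : IrrCharacter G, (χ : G → ℂ) (x * (b * x * b⁻¹)) * conj ((χ : G → ℂ) g) = 0 :=
    Finset.sum_eq_zero (fun b _ => h1 b)
  rw [Finset.sum_comm] at h2
  have h0 : (Nat.card G : ℂ) ≠ 0 := by exact_mod_cast Nat.card_pos.ne'
  have h3 : (Nat.card G : ℂ) * ∑ χ : IrrCharacter G, (χ : G → ℂ) x ^ 2 * conj ((χ : G → ℂ) g) / (χ : G → ℂ) 1 = 0 := by
    rw [← h2, Finset.mul_sum]
    apply Finset.sum_congr rfl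
    intro χ _
    rw [← Finset.sum_mul, StructConst.sum_conj_mul χ.2]
    ring
  exact (mul_eq_zero.1 h3).resolve_left h0

theorem ne_zero_of {z : ℂ} {s : ℝ} {E : ℂ} (hz : z = s + E) (hE : ‖E‖ < s) : z ≠ 0 := by
  rintro rfl
  have h1 : E = -(s : ℂ) := by linear_combination -hz
  rw [h1, norm_neg, Complex.norm_real, Real.norm_eq_abs] at hE
  exact absurd hE (not_lt.2 (le_abs_self s))

namespace Tab

variable {q r : ℕ} {D : Data G q r} {E0 E1 E2 : Finset (IrrCharacter G)} {W1 W2 : IrrCharacter G}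
  {ε1 ε2 : ℤ} {z1 z2 : ℕ} {w1 w2 : ℤ} (T : Tab D E0 E1 E2 W1 W2 ε1 ε2 z1 z2 w1 w2)
include T

/-- the structure constant sum -/
theorem SS_eq {t : ℕ} (hr : r = 4 * t) (hq : q = 8 * t ^ 2) (x g : G) :
    ∑ χ : IrrCharacter G, (χ : G → ℂ) x ^ 2 * conj ((χ : G → ℂ) g) / (χ : G → ℂ) 1 =
    1 + (D.St : G → ℂ) x ^ 2 * conj ((D.St : G → ℂ) g) / ((8 * (t : ℝ) ^ 2) ^ 2 : ℝ) +
    (∑ χ ∈ E0, (χ : G → ℂ) x ^ 2 * conj ((χ : G → ℂ) g)) / ((8 * (t : ℝ) ^ 2) ^ 2 + 1 : ℝ) +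
    (∑ χ ∈ E1, (χ : G → ℂ) x ^ 2 * conj ((χ : G → ℂ) g)) /
      ((8 * (t : ℝ) ^ 2 - 1) * (8 * t ^ 2 + 1 - 4 * t) : ℝ) +
    (∑ χ ∈ E2, (χ : G → ℂ) x ^ 2 * conj ((χ : G → ℂ) g)) /
      ((8 * (t : ℝ) ^ 2 - 1) * (8 * t ^ 2 + 1 + 4 * t) : ℝ) +
    ((W1 : G → ℂ) x ^ 2 * conj ((W1 : G → ℂ) g) + (W2 : G → ℂ) x ^ 2 * conj ((W2 : G → ℂ) g)) /
      (2 * t * (8 * (t : ℝ) ^ 2 - 1) : ℝ) := by
  obtain ⟨-, -, -, -, f5, f6, f7, f8⟩ := T.degrees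
  have hrc : (r : ℂ) = 4 * t := by rw [hr]; push_cast; ring
  have hqc : (q : ℂ) = 8 * t ^ 2 := by rw [hq]; push_cast; ring
  have hrz : (r : ℤ) = 4 * t := by rw [hr]; push_cast; ring
  have hqz : (q : ℤ) = 8 * t ^ 2 := by rw [hq]; push_cast; ring
  have g5 : (z1 : ℂ) = ((8 * (t : ℝ) ^ 2 - 1) * (8 * t ^ 2 + 1 - 4 * t) : ℝ) := by
    have : ((z1 : ℤ) : ℂ) = ((((q : ℤ) - 1) * (q + 1 - r) : ℤ) : ℂ) := by rw [f5]
    push_cast at this ⊢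
    rw [this, hrc, hqc]
  have g6 : (z2 : ℂ) = ((8 * (t : ℝ) ^ 2 - 1) * (8 * t ^ 2 + 1 + 4 * t) : ℝ) := by
    have : ((z2 : ℤ) : ℂ) = ((((q : ℤ) - 1) * (q + 1 + r) : ℤ) : ℂ) := by rw [f6]
    push_cast at this ⊢
    rw [this, hrc, hqc]
  have g7 : (W1 : G → ℂ) 1 = (2 * t * (8 * (t : ℝ) ^ 2 - 1) : ℝ) := by
    rw [hrc, hqc] at f7
    push_cast
    linear_combination f7 / 2
  have g8 : (W2 : G → ℂ) 1 = (2 * t * (8 * (t : ℝ) ^ 2 - 1) : ℝ) := by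
    rw [hrc, hqc] at f8
    push_cast
    linear_combination f8 / 2
  have g1 : (D.St : G → ℂ) 1 = ((8 * (t : ℝ) ^ 2) ^ 2 : ℝ) := by
    rw [D.St1, hqc]; push_cast; ring
  have g0 : ∀ χ ∈ E0, (χ : G → ℂ) 1 = ((8 * (t : ℝ) ^ 2) ^ 2 + 1 : ℝ) := by
    intro χ hχ
    rw [T.p0.deg χ hχ, hqc]; push_cast; ring
  rw [T.split, one_apply, one_apply, one_apply, g1, g7, g8,
    Finset.sum_congr (s₁ := E0) rfl (fun χ hχ => by rw [g0 χ hχ]),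
    Finset.sum_congr (s₁ := E1) rfl (fun χ hχ => by rw [T.p1.deg χ hχ, g5]),
    Finset.sum_congr (s₁ := E2) rfl (fun χ hχ => by rw [T.deg2 χ hχ, g6]),
    ← Finset.sum_div, ← Finset.sum_div, ← Finset.sum_div]
  simp only [map_one]
  ring

theorem sum_le {E : Finset (IrrCharacter G)} {x g : G} {a b : ℝ} (hb : 0 ≤ b)
    (h1 : ∑ χ ∈ E, ‖(χ : G → ℂ) x‖ ^ 2 = a) (h2 : ∀ χ ∈ E, ‖(χ : G → ℂ) g‖ ≤ b) :
    ‖∑ χ ∈ E, (χ : G → ℂ) x ^ 2 * conj ((χ : G → ℂ) g)‖ ≤ a * b := by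
  calc ‖∑ χ ∈ E, (χ : G → ℂ) x ^ 2 * conj ((χ : G → ℂ) g)‖ ≤
      ∑ χ ∈ E, ‖(χ : G → ℂ) x ^ 2 * conj ((χ : G → ℂ) g)‖ := norm_sum_le _ _
    _ ≤ ∑ χ ∈ E, ‖(χ : G → ℂ) x‖ ^ 2 * b := by
        apply Finset.sum_le_sum
        intro χ hχ
        rw [norm_mul, norm_pow, RCLike.norm_conj]
        exact mul_le_mul_of_nonneg_left (h2 χ hχ) (by positivity)
    _ = a * b := by rw [← Finset.sum_mul, h1]

theorem real_sq {i : Fin 3} {x : G} (hx : x ∈ D.A i) (χ : IrrCharacter G) :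
    (χ : G → ℂ) x ^ 2 = ((‖(χ : G → ℂ) x‖ ^ 2 : ℝ) : ℂ) := by
  have h := real_of_conj χ (D.hreal i x hx)
  rw [← mul_conj_sq, h, sq]

theorem sum_const {i : Fin 3} {E : Finset (IrrCharacter G)} {x g : G} (hx : x ∈ D.A i) {a : ℝ} {b : ℂ}
    (h1 : ∑ χ ∈ E, ‖(χ : G → ℂ) x‖ ^ 2 = a) (h2 : ∀ χ ∈ E, (χ : G → ℂ) g = b) :
    ∑ χ ∈ E, (χ : G → ℂ) x ^ 2 * conj ((χ : G → ℂ) g) = a * conj b := by
  rw [Finset.sum_congr rfl (fun χ hχ => by rw [T.real_sq hx χ, h2 χ hχ]), ← Finset.sum_mul,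
    ← Complex.ofReal_sum, h1]

end Tab

end Cfsg.Agent.Lib.SzChr
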