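import Cfsg.Agent.Lib.SzChr10

set_option autoImplicit false
set_option linter.unusedSectionVars false

/-!
# Squares of classes in groups with the character table of `Sz(q)` (helper6)
-/

namespace Cfsg.Agent.Lib.SzChr

open scoped ComplexConjugate
open Cfsg Cfsg.Agent.Lib.CharBasic Cfsg.Agent.Lib.TIFN Cfsg.Agent.Lib.AbTI Cfsg.Agent.Lib.TICount

universe u

section bounds

variable {t : ℝ} (ht : 1 ≤ t)
include ht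

theorem exs : ∃ s : ℝ, 0 ≤ s ∧ t = 1 + s := ⟨t - 1, by linarith, by ring⟩

theorem pz1 : 0 < (8 * t ^ 2 - 1) * (8 * t ^ 2 + 1 - 4 * t) := by
  obtain ⟨s, hs, rfl⟩ := exs ht
  have : (8 * (1 + s) ^ 2 - 1) * (8 * (1 + s) ^ 2 + 1 - 4 * (1 + s)) =
    (7 + 16 * s + 8 * s ^ 2) * (5 + 12 * s + 8 * s ^ 2) := by ring
  rw [this]; positivity

theorem pz2 : 0 < (8 * t ^ 2 - 1) * (8 * t ^ 2 + 1 + 4 * t) := by
  obtain ⟨s, hs, rfl⟩ := exs ht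
  have : (8 * (1 + s) ^ 2 - 1) * (8 * (1 + s) ^ 2 + 1 + 4 * (1 + s)) =
    (7 + 16 * s + 8 * s ^ 2) * (13 + 20 * s + 8 * s ^ 2) := by ring
  rw [this]; positivity

theorem pdW : 0 < 2 * t * (8 * t ^ 2 - 1) := by
  obtain ⟨s, hs, rfl⟩ := exs ht
  have : 2 * (1 + s) * (8 * (1 + s) ^ 2 - 1) = 2 * (1 + s) * (7 + 16 * s + 8 * s ^ 2) := by ring
  rw [this]; positivity

theorem B1 : 1 / (8 * t ^ 2) ^ 2 ≤ 1 / 64 := by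
  apply one_div_le_one_div_of_le (by norm_num)
  obtain ⟨s, hs, rfl⟩ := exs ht
  nlinarith [sq_nonneg s, mul_nonneg hs hs, sq_nonneg (8 * (1 + s) ^ 2)]

theorem B2 : (8 * t ^ 2 + 4 * t - 3) / ((8 * t ^ 2 - 1) * (8 * t ^ 2 + 1 - 4 * t)) ≤ 9 / 35 := by
  rw [div_le_iff₀ (pz1 ht)]
  obtain ⟨s, hs, rfl⟩ := exs ht
  have : 9 / 35 * ((8 * (1 + s) ^ 2 - 1) * (8 * (1 + s) ^ 2 + 1 - 4 * (1 + s))) -
    (8 * (1 + s) ^ 2 + 4 * (1 + s) - 3) =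
    (9 * (35 + 164 * s + 288 * s ^ 2 + 224 * s ^ 3 + 64 * s ^ 4) - 35 * (9 + 20 * s + 8 * s ^ 2)) / 35 := by ring
  have h2 : 0 ≤ (9 * (35 + 164 * s + 288 * s ^ 2 + 224 * s ^ 3 + 64 * s ^ 4) - 35 * (9 + 20 * s + 8 * s ^ 2)) / 35 := by
    have : (9 * (35 + 164 * s + 288 * s ^ 2 + 224 * s ^ 3 + 64 * s ^ 4) - 35 * (9 + 20 * s + 8 * s ^ 2)) / 35 =
      (776 * s + 2312 * s ^ 2 + 2016 * s ^ 3 + 576 * s ^ 4) / 35 := by ring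
    rw [this]; positivity
  linarith

theorem B3 : 4 * t / (2 * t * (8 * t ^ 2 - 1)) ≤ 2 / 7 := by
  rw [div_le_iff₀ (pdW ht)]
  obtain ⟨s, hs, rfl⟩ := exs ht
  have : 2 / 7 * (2 * (1 + s) * (8 * (1 + s) ^ 2 - 1)) - 4 * (1 + s) =
    (1 + s) * (64 * s + 32 * s ^ 2) / 7 := by ring
  have h2 : 0 ≤ (1 + s) * (64 * s + 32 * s ^ 2) / 7 := by positivity
  linarith

theorem B4 : 2 / (2 * t * (8 * t ^ 2 - 1)) ≤ 1 / 7 := by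
  rw [div_le_iff₀ (pdW ht)]
  obtain ⟨s, hs, rfl⟩ := exs ht
  have : 1 / 7 * (2 * (1 + s) * (8 * (1 + s) ^ 2 - 1)) - 2 =
    (2 * (7 * s + 16 * s + 16 * s ^ 2 + 8 * s ^ 2 + 8 * s ^ 3)) / 7 := by ring
  have h2 : 0 ≤ (2 * (7 * s + 16 * s + 16 * s ^ 2 + 8 * s ^ 2 + 8 * s ^ 3)) / 7 := by positivity
  linarith

theorem B5 : (4 * t + 1) * (8 * t ^ 2 - 4 * t - 3) / ((8 * t ^ 2 - 1) * (8 * t ^ 2 + 1 + 4 * t)) ≤ 1 / 4 := by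
  rw [div_le_iff₀ (pz2 ht)]
  obtain ⟨s, hs, rfl⟩ := exs ht
  have : 1 / 4 * ((8 * (1 + s) ^ 2 - 1) * (8 * (1 + s) ^ 2 + 1 + 4 * (1 + s))) -
    (4 * (1 + s) + 1) * (8 * (1 + s) ^ 2 - 4 * (1 + s) - 3) =
    ((7 + 16 * s + 8 * s ^ 2) * (13 + 20 * s + 8 * s ^ 2) - 4 * (5 + 4 * s) * (1 + 12 * s + 8 * s ^ 2)) / 4 := by ring
  have h2 : ((7 + 16 * s + 8 * s ^ 2) * (13 + 20 * s + 8 * s ^ 2) - 4 * (5 + 4 * s) * (1 + 12 * s + 8 * s ^ 2)) / 4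
    = (71 + 92 * s + 128 * s ^ 2 + 160 * s ^ 3 + 64 * s ^ 4) / 4 := by ring
  have h3 : 0 ≤ (71 + 92 * s + 128 * s ^ 2 + 160 * s ^ 3 + 64 * s ^ 4) / 4 := by positivity
  linarith

theorem B7 : (8 * t ^ 2 - 4 * t - 3) / ((8 * t ^ 2 - 1) * (8 * t ^ 2 + 1 + 4 * t)) ≤ 1 / 16 := by
  rw [div_le_iff₀ (pz2 ht)]
  obtain ⟨s, hs, rfl⟩ := exs ht
  have : 1 / 16 * ((8 * (1 + s) ^ 2 - 1) * (8 * (1 + s) ^ 2 + 1 + 4 * (1 + s))) -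
    (8 * (1 + s) ^ 2 - 4 * (1 + s) - 3) =
    (75 + 156 * s + 352 * s ^ 2 + 288 * s ^ 3 + 64 * s ^ 4) / 16 := by ring
  have h3 : 0 ≤ (75 + 156 * s + 352 * s ^ 2 + 288 * s ^ 3 + 64 * s ^ 4) / 16 := by positivity
  linarith

theorem B8 : (2 * t ^ 2 - t) * (4 * t + 1) / ((8 * t ^ 2 - 1) * (8 * t ^ 2 + 1 + 4 * t)) ≤ 1 / 4 := by
  rw [div_le_iff₀ (pz2 ht)]
  obtain ⟨s, hs, rfl⟩ := exs ht
  have : 1 / 4 * ((8 * (1 + s) ^ 2 - 1) * (8 * (1 + s) ^ 2 + 1 + 4 * (1 + s))) -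
    (2 * (1 + s) ^ 2 - (1 + s)) * (4 * (1 + s) + 1) =
    ((7 + 16 * s + 8 * s ^ 2) * (13 + 20 * s + 8 * s ^ 2) - 4 * (1 + 3 * s + 2 * s ^ 2) * (5 + 4 * s)) / 4 := by ring
  have h2 : ((7 + 16 * s + 8 * s ^ 2) * (13 + 20 * s + 8 * s ^ 2) - 4 * (1 + 3 * s + 2 * s ^ 2) * (5 + 4 * s)) / 4
    = (71 + 272 * s + 392 * s ^ 2 + 256 * s ^ 3 + 64 * s ^ 4) / 4 := by ring
  have h3 : 0 ≤ (71 + 272 * s + 392 * s ^ 2 + 256 * s ^ 3 + 64 * s ^ 4) / 4 := by positivity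
  linarith

theorem B9 : (2 * t ^ 2 + t) / ((8 * t ^ 2 - 1) * (8 * t ^ 2 + 1 - 4 * t)) ≤ 1 / 4 := by
  rw [div_le_iff₀ (pz1 ht)]
  obtain ⟨s, hs, rfl⟩ := exs ht
  have : 1 / 4 * ((8 * (1 + s) ^ 2 - 1) * (8 * (1 + s) ^ 2 + 1 - 4 * (1 + s))) -
    (2 * (1 + s) ^ 2 + (1 + s)) =
    (23 + 144 * s + 280 * s ^ 2 + 224 * s ^ 3 + 64 * s ^ 4) / 4 := by ring
  have h3 : 0 ≤ (23 + 144 * s + 280 * s ^ 2 + 224 * s ^ 3 + 64 * s ^ 4) / 4 := by positivity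
  linarith

theorem B10 : (2 * t ^ 2 - t) / ((8 * t ^ 2 - 1) * (8 * t ^ 2 + 1 + 4 * t)) ≤ 1 / 4 := by
  rw [div_le_iff₀ (pz2 ht)]
  obtain ⟨s, hs, rfl⟩ := exs ht
  have : 1 / 4 * ((8 * (1 + s) ^ 2 - 1) * (8 * (1 + s) ^ 2 + 1 + 4 * (1 + s))) -
    (2 * (1 + s) ^ 2 - (1 + s)) =
    (87 + 336 * s + 472 * s ^ 2 + 288 * s ^ 3 + 64 * s ^ 4) / 4 := by ring
  have h3 : 0 ≤ (87 + 336 * s + 472 * s ^ 2 + 288 * s ^ 3 + 64 * s ^ 4) / 4 := by positivity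
  linarith

theorem B11 : 8 * t ^ 2 / (2 * t * (8 * t ^ 2 - 1)) ≤ 4 / 7 := by
  rw [div_le_iff₀ (pdW ht)]
  obtain ⟨s, hs, rfl⟩ := exs ht
  have : 4 / 7 * (2 * (1 + s) * (8 * (1 + s) ^ 2 - 1)) - 8 * (1 + s) ^ 2 =
    (1 + s) * (72 * s + 64 * s ^ 2) / 7 := by ring
  have h2 : 0 ≤ (1 + s) * (72 * s + 64 * s ^ 2) / 7 := by positivity
  linarith

theorem I0 : 1 / (8 * t ^ 2) ^ 2 + (8 * t ^ 2 - 3) * 2 / ((8 * t ^ 2) ^ 2 + 1) < 1 := by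
  have h1 := B1 ht
  have h2 : (8 * t ^ 2 - 3) * 2 / ((8 * t ^ 2) ^ 2 + 1) ≤ 1 / 4 := by
    rw [div_le_iff₀ (by positivity)]
    nlinarith [sq_nonneg (8 * t ^ 2 - 4)]
  linarith

omit ht in
theorem I3 (h : t = 1 ∨ 2 ≤ t) : 4 * (8 * t ^ 2 + 4 * t - 3) / ((8 * t ^ 2 - 1) * (8 * t ^ 2 + 1 - 4 * t)) <
    1 - 1 / (8 * t ^ 2) ^ 2 + 2 / (2 * t * (8 * t ^ 2 - 1)) := by
  rcases h with rfl | h
  · norm_num
  · have ht : 1 ≤ t := by linarith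
    have h1 := B1 ht
    have h2 : 0 < 2 / (2 * t * (8 * t ^ 2 - 1)) := div_pos (by norm_num) (pdW ht)
    have h3 : 4 * (8 * t ^ 2 + 4 * t - 3) / ((8 * t ^ 2 - 1) * (8 * t ^ 2 + 1 - 4 * t)) ≤ 1 / 2 := by
      rw [div_le_iff₀ (pz1 ht)]
      obtain ⟨s, hs, rfl⟩ : ∃ s : ℝ, 0 ≤ s ∧ t = 2 + s := ⟨t - 2, by linarith, by ring⟩
      have : 1 / 2 * ((8 * (2 + s) ^ 2 - 1) * (8 * (2 + s) ^ 2 + 1 - 4 * (2 + s))) -
        4 * (8 * (2 + s) ^ 2 + 4 * (2 + s) - 3) =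
        ((31 + 32 * s + 8 * s ^ 2) * (25 + 28 * s + 8 * s ^ 2) - 8 * (37 + 36 * s + 8 * s ^ 2)) / 2 := by ring
      have h4 : ((31 + 32 * s + 8 * s ^ 2) * (25 + 28 * s + 8 * s ^ 2) - 8 * (37 + 36 * s + 8 * s ^ 2)) / 2 =
        (479 + 1380 * s + 1280 * s ^ 2 + 480 * s ^ 3 + 64 * s ^ 4) / 2 := by ring
      have h5 : 0 ≤ (479 + 1380 * s + 1280 * s ^ 2 + 480 * s ^ 3 + 64 * s ^ 4) / 2 := by positivity
      linarith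
    linarith

end bounds

variable {G : Type u} [Group G] [Fintype G]

/-- values on a 2-element -/
structure GV {q r : ℕ} (D : Data G q r) (E0 E1 E2 : Finset (IrrCharacter G)) (W1 W2 : IrrCharacter G)
    (g : G) (a b c : ℝ) : Prop where
  St : (D.St : G → ℂ) g = 0
  e0 : ∀ χ ∈ E0, (χ : G → ℂ) g = 1
  e1 : ∀ χ ∈ E1, (χ : G → ℂ) g = a
  e2 : ∀ χ ∈ E2, (χ : G → ℂ) g = b
  w : (W1 : G → ℂ) g + (W2 : G → ℂ) g = c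

namespace Tab

variable {q r : ℕ} {D : Data G q r} {E0 E1 E2 : Finset (IrrCharacter G)} {W1 W2 : IrrCharacter G}
  {ε1 ε2 : ℤ} {z1 z2 : ℕ} {w1 w2 : ℤ} (T : Tab D E0 E1 E2 W1 W2 ε1 ε2 z1 z2 w1 w2)
include T

theorem gvσ : GV D E0 E1 E2 W1 W2 D.σ (r - 1) (-r - 1) (-r) := by
  obtain ⟨h0, h1, h2, h3, h4⟩ := T.at_σ
  refine ⟨D.Stσ, h0, fun χ hχ => ?_, fun χ hχ => ?_, ?_⟩
  · rw [h1 χ hχ]; push_cast; ring
  · rw [h2 χ hχ]; push_cast; ring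
  · push_cast; linear_combination h3 / 2 + h4 / 2

theorem gvρ : GV D E0 E1 E2 W1 W2 D.ρ (-1) (-1) 0 := by
  obtain ⟨h0, h1, h2, h3, h4⟩ := T.at_ρ
  refine ⟨D.Stρ, h0, fun χ hχ => ?_, fun χ hχ => ?_, ?_⟩
  · rw [h1 χ hχ]; push_cast; ring
  · rw [h2 χ hχ]; push_cast; ring
  · rw [h4]; simp

theorem inv_val (χ : IrrCharacter G) (g : G) : (χ : G → ℂ) g⁻¹ = conj ((χ : G → ℂ) g) :=
  χ.2.isCharacter.inv g

theorem gvρ' : GV D E0 E1 E2 W1 W2 D.ρ⁻¹ (-1) (-1) 0 := by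
  obtain ⟨h0, h1, h2, h3, h4⟩ := T.gvρ
  refine ⟨?_, fun χ hχ => ?_, fun χ hχ => ?_, fun χ hχ => ?_, ?_⟩
  · rw [T.inv_val, h0, map_zero]
  · rw [T.inv_val, h1 χ hχ, map_one]
  · rw [T.inv_val, h2 χ hχ, Complex.conj_ofReal]
  · rw [T.inv_val, h3 χ hχ, Complex.conj_ofReal]
  · rw [T.inv_val, T.inv_val, ← map_add, h4, Complex.conj_ofReal]

theorem params : ∃ t : ℕ, r = 4 * t ∧ q = 8 * t ^ 2 ∧ ((t : ℝ) = 1 ∨ 2 ≤ (t : ℝ)) ∧ 1 ≤ (t : ℝ) := by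
  obtain ⟨t, ht, hr, hq⟩ := D.exists_t
  refine ⟨t, hr, hq, ?_, by exact_mod_cast ht⟩
  rcases Nat.lt_or_ge t 2 with h | h
  · left
    have : t = 1 := by omega
    rw [this]; norm_num
  · right; exact_mod_cast h

/-- `x` in `A 0` -/
theorem nz0 {x g : G} (hx : x ∈ D.A 0) (hx1 : x ≠ 1) (hSt : ‖(D.St : G → ℂ) g‖ ≤ 1)
    (hE0 : ∀ χ ∈ E0, ‖(χ : G → ℂ) g‖ ≤ 2) :
    ∑ χ : IrrCharacter G, (χ : G → ℂ) x ^ 2 * conj ((χ : G → ℂ) g) / (χ : G → ℂ) 1 ≠ 0 := by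
  obtain ⟨t, hr, hq, -, ht⟩ := T.params
  rw [T.SS_eq hr hq]
  have hE1 : ∀ χ ∈ E1, (χ : G → ℂ) x = 0 := fun χ hχ => T.p1.zero χ hχ x hx hx1
  have hE2 : ∀ χ ∈ E2, (χ : G → ℂ) x = 0 := fun χ hχ => T.E2_0 hχ hx hx1
  rw [Finset.sum_eq_zero (s := E1) (fun χ hχ => by rw [hE1 χ hχ]; simp),
    Finset.sum_eq_zero (s := E2) (fun χ hχ => by rw [hE2 χ hχ]; simp),
    T.W1_0 hx hx1, T.W2_0 hx hx1, D.StA0 x hx hx1]
  have hqr : (q : ℝ) = 8 * (t : ℝ) ^ 2 := by rw [hq]; push_cast; ring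
  have hs := T.sum_le (by norm_num : (0 : ℝ) ≤ 2) (T.p0.norm x hx hx1) hE0
  rw [hqr] at hs
  refine ne_zero_of (s := 1) (E := conj ((D.St : G → ℂ) g) / ((8 * (t : ℝ) ^ 2) ^ 2 : ℝ) +
    (∑ χ ∈ E0, (χ : G → ℂ) x ^ 2 * conj ((χ : G → ℂ) g)) / ((8 * (t : ℝ) ^ 2) ^ 2 + 1 : ℝ))
    (by push_cast; ring) ?_
  have hp1 : 0 < (8 * (t : ℝ) ^ 2) ^ 2 := by positivity
  have hp2 : 0 < (8 * (t : ℝ) ^ 2) ^ 2 + 1 := by positivity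
  calc _ ≤ ‖conj ((D.St : G → ℂ) g) / ((8 * (t : ℝ) ^ 2) ^ 2 : ℝ)‖ +
      ‖(∑ χ ∈ E0, (χ : G → ℂ) x ^ 2 * conj ((χ : G → ℂ) g)) / ((8 * (t : ℝ) ^ 2) ^ 2 + 1 : ℝ)‖ := norm_add_le _ _
    _ ≤ 1 / (8 * (t : ℝ) ^ 2) ^ 2 + (8 * (t : ℝ) ^ 2 - 3) * 2 / ((8 * (t : ℝ) ^ 2) ^ 2 + 1) := by
        rw [norm_div, norm_div, RCLike.norm_conj, Complex.norm_real, Complex.norm_real,
          Real.norm_eq_abs, Real.norm_eq_abs, abs_of_pos hp1, abs_of_pos hp2]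
        gcongr
    _ < 1 := I0 ht

theorem nr1 {x : G} (hx : x ∈ D.A 1) (hx1 : x ≠ 1) {t : ℕ} (hr : r = 4 * t) (hq : q = 8 * t ^ 2) :
    ∑ χ ∈ E1, ‖(χ : G → ℂ) x‖ ^ 2 = 8 * (t : ℝ) ^ 2 + 4 * t - 3 := by
  rw [T.p1.norm x hx hx1, D.a1, hr, hq]; push_cast; ring

theorem nr2 {x : G} (hx : x ∈ D.A 2) (hx1 : x ≠ 1) {t : ℕ} (hr : r = 4 * t) (hq : q = 8 * t ^ 2) :
    ∑ χ ∈ E2, ‖(χ : G → ℂ) x‖ ^ 2 = 8 * (t : ℝ) ^ 2 - 4 * t - 3 := by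
  rw [T.norm2 x hx hx1]
  have h := D.a2
  have h2 : (Nat.card (D.A 2) : ℝ) + r = q + 1 := by exact_mod_cast h
  have hrr : (r : ℝ) = 4 * t := by rw [hr]; push_cast; ring
  have hqq : (q : ℝ) = 8 * (t : ℝ) ^ 2 := by rw [hq]; push_cast; ring
  linarith

theorem bound1 {χ : IrrCharacter G} (hχ : χ ∈ E1) {k : G} (hk : k ∈ D.A 1) (hk1 : k ≠ 1) :
    ‖(χ : G → ℂ) k‖ ≤ 4 := by
  have := T.p1.bound χ hχ k hk hk1
  simpa using this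

theorem W_A1 {x : G} (hx : x ∈ D.A 1) (hx1 : x ≠ 1) : (W1 : G → ℂ) x = 1 ∧ (W2 : G → ℂ) x = 1 := by
  obtain ⟨-, -, f3, f4, -⟩ := T.degrees
  rw [T.W1_1 x hx hx1, T.W2_1 x hx hx1, f3, f4]
  simp

theorem W_A2 {x : G} (hx : x ∈ D.A 2) (hx1 : x ≠ 1) : (W1 : G → ℂ) x = -1 ∧ (W2 : G → ℂ) x = -1 := by
  obtain ⟨-, -, f3, f4, -⟩ := T.degrees
  rw [T.W1_2 x hx hx1, T.W2_2 x hx hx1, f3, f4]
  simp

/-- general form of the sum for `x` in `A 1` -/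
theorem S1 {x g : G} (hx : x ∈ D.A 1) (hx1 : x ≠ 1) {t : ℕ} (hr : r = 4 * t) (hq : q = 8 * t ^ 2) :
    ∑ χ : IrrCharacter G, (χ : G → ℂ) x ^ 2 * conj ((χ : G → ℂ) g) / (χ : G → ℂ) 1 =
    1 + conj ((D.St : G → ℂ) g) / ((8 * (t : ℝ) ^ 2) ^ 2 : ℝ) +
    (∑ χ ∈ E1, (χ : G → ℂ) x ^ 2 * conj ((χ : G → ℂ) g)) /
      ((8 * (t : ℝ) ^ 2 - 1) * (8 * t ^ 2 + 1 - 4 * t) : ℝ) +
    conj ((W1 : G → ℂ) g + (W2 : G → ℂ) g) / (2 * t * (8 * (t : ℝ) ^ 2 - 1) : ℝ) := by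
  rw [T.SS_eq hr hq, Finset.sum_eq_zero (s := E0) (fun χ hχ => by rw [T.E0_1 hχ hx hx1]; simp),
    Finset.sum_eq_zero (s := E2) (fun χ hχ => by rw [T.E2_1 χ hχ x hx hx1]; simp),
    (T.W_A1 hx hx1).1, (T.W_A1 hx hx1).2, D.StA1 x hx hx1, map_add]
  ring

/-- general form of the sum for `x` in `A 2` -/
theorem S2 {x g : G} (hx : x ∈ D.A 2) (hx1 : x ≠ 1) {t : ℕ} (hr : r = 4 * t) (hq : q = 8 * t ^ 2) :
    ∑ χ : IrrCharacter G, (χ : G → ℂ) x ^ 2 * conj ((χ : G → ℂ) g) / (χ : G → ℂ) 1 =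
    1 + conj ((D.St : G → ℂ) g) / ((8 * (t : ℝ) ^ 2) ^ 2 : ℝ) +
    (∑ χ ∈ E2, (χ : G → ℂ) x ^ 2 * conj ((χ : G → ℂ) g)) /
      ((8 * (t : ℝ) ^ 2 - 1) * (8 * t ^ 2 + 1 + 4 * t) : ℝ) +
    conj ((W1 : G → ℂ) g + (W2 : G → ℂ) g) / (2 * t * (8 * (t : ℝ) ^ 2 - 1) : ℝ) := by
  rw [T.SS_eq hr hq, Finset.sum_eq_zero (s := E0) (fun χ hχ => by rw [T.E0_2 hχ hx hx1]; simp),
    Finset.sum_eq_zero (s := E1) (fun χ hχ => by rw [T.E1_2 χ hχ x hx hx1]; simp),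
    (T.W_A2 hx hx1).1, (T.W_A2 hx hx1).2, D.StA2 x hx hx1, map_add]
  ring

theorem of_real {z : ℂ} {s : ℝ} (hz : z = s) (hs : 0 < s) : z ≠ 0 := by
  rw [hz]; exact_mod_cast hs.ne'

theorem nz1 {x g : G} (hx : x ∈ D.A 1) (hx1 : x ≠ 1)
    (hg : (GV D E0 E1 E2 W1 W2 g (r - 1) (-r - 1) (-r) ∨ GV D E0 E1 E2 W1 W2 g (-1) (-1) 0) ∨
      (g ∈ D.A 0 ∨ g ∈ D.A 1 ∨ g ∈ D.A 2) ∧ g ≠ 1) :
    ∑ χ : IrrCharacter G, (χ : G → ℂ) x ^ 2 * conj ((χ : G → ℂ) g) / (χ : G → ℂ) 1 ≠ 0 := by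
  obtain ⟨t, hr, hq, ht', ht⟩ := T.params
  rw [T.S1 hx hx1 hr hq]
  have hn := T.nr1 hx hx1 hr hq
  have p1 := pz1 ht
  have p2 := pz2 ht
  have pW := pdW ht
  have hp1 : 0 < (8 * (t : ℝ) ^ 2) ^ 2 := by positivity
  have b1 := B1 ht
  have b2 := B2 ht
  have b3 := B3 ht
  have b4 := B4 ht
  have hrr : (r : ℝ) = 4 * t := by rw [hr]; push_cast; ring
  have hpos : 0 < 8 * (t : ℝ) ^ 2 + 4 * t - 3 := by nlinarith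
  rcases hg with (hg | hg) | ⟨hg | hg | hg, hg1⟩
  · rw [hrr] at hg
    rw [T.sum_const hx hn hg.e1, hg.St, hg.w, map_zero]
    refine T.of_real (s := 1 + (8 * (t : ℝ) ^ 2 + 4 * t - 3) * (4 * t - 1) /
      ((8 * (t : ℝ) ^ 2 - 1) * (8 * t ^ 2 + 1 - 4 * t)) - 4 * t / (2 * t * (8 * (t : ℝ) ^ 2 - 1))) ?_ ?_
    · rw [Complex.conj_ofReal, Complex.conj_ofReal]; push_cast; ring
    · have : 0 ≤ (8 * (t : ℝ) ^ 2 + 4 * t - 3) * (4 * t - 1) /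
        ((8 * (t : ℝ) ^ 2 - 1) * (8 * t ^ 2 + 1 - 4 * t)) := by
        apply div_nonneg _ p1.le
        apply mul_nonneg hpos.le
        linarith
      linarith
  · rw [T.sum_const hx hn hg.e1, hg.St, hg.w, map_zero]
    refine T.of_real (s := 1 - (8 * (t : ℝ) ^ 2 + 4 * t - 3) /
      ((8 * (t : ℝ) ^ 2 - 1) * (8 * t ^ 2 + 1 - 4 * t))) ?_ ?_
    · rw [Complex.conj_ofReal, Complex.conj_ofReal]; push_cast; ring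
    · linarith
  · rw [Finset.sum_eq_zero (s := E1) (fun χ hχ => by rw [T.p1.zero χ hχ g hg hg1]; simp),
      D.StA0 g hg hg1, T.W1_0 hg hg1, T.W2_0 hg hg1]
    refine T.of_real (s := 1 + 1 / (8 * (t : ℝ) ^ 2) ^ 2) ?_ (by positivity)
    simp
  · have hs := T.sum_le (by norm_num : (0 : ℝ) ≤ 4) hn (fun χ hχ => T.bound1 hχ hg hg1)
    rw [D.StA1 g hg hg1, (T.W_A1 hg hg1).1, (T.W_A1 hg hg1).2]
    refine ne_zero_of (s := 1 - 1 / (8 * (t : ℝ) ^ 2) ^ 2 + 2 / (2 * t * (8 * (t : ℝ) ^ 2 - 1)))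
      (E := (∑ χ ∈ E1, (χ : G → ℂ) x ^ 2 * conj ((χ : G → ℂ) g)) /
      ((8 * (t : ℝ) ^ 2 - 1) * (8 * t ^ 2 + 1 - 4 * t) : ℝ)) ?_ ?_
    · have : conj (1 + 1 : ℂ) = 2 := by rw [map_add, map_one]; norm_num
      rw [this, map_neg, map_one]
      push_cast; ring
    · rw [norm_div, Complex.norm_real, Real.norm_eq_abs, abs_of_pos p1]
      refine lt_of_le_of_lt ?_ (I3 ht')
      refine div_le_div_of_nonneg_right ?_ p1.le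
      linarith
  · rw [Finset.sum_eq_zero (s := E1) (fun χ hχ => by rw [T.E1_2 χ hχ g hg hg1]; simp),
      D.StA2 g hg hg1, (T.W_A2 hg hg1).1, (T.W_A2 hg hg1).2]
    refine T.of_real (s := 1 - 1 / (8 * (t : ℝ) ^ 2) ^ 2 - 2 / (2 * t * (8 * (t : ℝ) ^ 2 - 1))) ?_ (by linarith)
    have : conj (-1 + -1 : ℂ) = -2 := by rw [map_add, map_neg, map_one]; norm_num
    rw [this, map_neg, map_one]
    push_cast; ring

theorem nz2 {x g : G} (hx : x ∈ D.A 2) (hx1 : x ≠ 1)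
    (hg : (GV D E0 E1 E2 W1 W2 g (r - 1) (-r - 1) (-r) ∨ GV D E0 E1 E2 W1 W2 g (-1) (-1) 0) ∨
      (g ∈ D.A 0 ∨ g ∈ D.A 1 ∨ g ∈ D.A 2) ∧ g ≠ 1) :
    ∑ χ : IrrCharacter G, (χ : G → ℂ) x ^ 2 * conj ((χ : G → ℂ) g) / (χ : G → ℂ) 1 ≠ 0 := by
  obtain ⟨t, hr, hq, ht', ht⟩ := T.params
  rw [T.S2 hx hx1 hr hq]
  have hn := T.nr2 hx hx1 hr hq
  have p1 := pz1 ht
  have p2 := pz2 ht
  have pW := pdW ht
  have hp1 : 0 < (8 * (t : ℝ) ^ 2) ^ 2 := by positivity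
  have b1 := B1 ht
  have b3 := B3 ht
  have b4 := B4 ht
  have b5 := B5 ht
  have b7 := B7 ht
  have hrr : (r : ℝ) = 4 * t := by rw [hr]; push_cast; ring
  rcases hg with (hg | hg) | ⟨hg | hg | hg, hg1⟩
  · rw [hrr] at hg
    rw [T.sum_const hx hn hg.e2, hg.St, hg.w, map_zero]
    refine T.of_real (s := 1 - (4 * t + 1) * (8 * (t : ℝ) ^ 2 - 4 * t - 3) /
      ((8 * (t : ℝ) ^ 2 - 1) * (8 * t ^ 2 + 1 + 4 * t)) - 4 * t / (2 * t * (8 * (t : ℝ) ^ 2 - 1))) ?_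
      (by linarith)
    rw [Complex.conj_ofReal, Complex.conj_ofReal]; push_cast; ring
  · rw [T.sum_const hx hn hg.e2, hg.St, hg.w, map_zero]
    refine T.of_real (s := 1 - (8 * (t : ℝ) ^ 2 - 4 * t - 3) /
      ((8 * (t : ℝ) ^ 2 - 1) * (8 * t ^ 2 + 1 + 4 * t))) ?_ (by linarith)
    rw [Complex.conj_ofReal, Complex.conj_ofReal]; push_cast; ring
  · rw [Finset.sum_eq_zero (s := E2) (fun χ hχ => by rw [T.E2_0 hχ hg hg1]; simp),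
      D.StA0 g hg hg1, T.W1_0 hg hg1, T.W2_0 hg hg1]
    refine T.of_real (s := 1 + 1 / (8 * (t : ℝ) ^ 2) ^ 2) ?_ (by positivity)
    simp
  · rw [Finset.sum_eq_zero (s := E2) (fun χ hχ => by rw [T.E2_1 χ hχ g hg hg1]; simp),
      D.StA1 g hg hg1, (T.W_A1 hg hg1).1, (T.W_A1 hg hg1).2]
    have h2 : 0 < 2 / (2 * t * (8 * (t : ℝ) ^ 2 - 1)) := div_pos (by norm_num) pW
    refine T.of_real (s := 1 - 1 / (8 * (t : ℝ) ^ 2) ^ 2 + 2 / (2 * t * (8 * (t : ℝ) ^ 2 - 1))) ?_ (by linarith)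
    have : conj (1 + 1 : ℂ) = 2 := by rw [map_add, map_one]; norm_num
    rw [this, map_neg, map_one]
    push_cast; ring
  · have hs := T.sum_le (by norm_num : (0 : ℝ) ≤ 4) hn (fun χ hχ => T.bound2 χ hχ g hg hg1)
    rw [D.StA2 g hg hg1, (T.W_A2 hg hg1).1, (T.W_A2 hg hg1).2]
    refine ne_zero_of (s := 1 - 1 / (8 * (t : ℝ) ^ 2) ^ 2 - 2 / (2 * t * (8 * (t : ℝ) ^ 2 - 1)))
      (E := (∑ χ ∈ E2, (χ : G → ℂ) x ^ 2 * conj ((χ : G → ℂ) g)) /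
      ((8 * (t : ℝ) ^ 2 - 1) * (8 * t ^ 2 + 1 + 4 * t) : ℝ)) ?_ ?_
    · have : conj (-1 + -1 : ℂ) = -2 := by rw [map_add, map_neg, map_one]; norm_num
      rw [this, map_neg, map_one]
      push_cast; ring
    · rw [norm_div, Complex.norm_real, Real.norm_eq_abs, abs_of_pos p2]
      calc _ ≤ (8 * (t : ℝ) ^ 2 - 4 * t - 3) * 4 / ((8 * (t : ℝ) ^ 2 - 1) * (8 * t ^ 2 + 1 + 4 * t)) :=
            div_le_div_of_nonneg_right hs p2.le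
        _ = 4 * ((8 * (t : ℝ) ^ 2 - 4 * t - 3) / ((8 * (t : ℝ) ^ 2 - 1) * (8 * t ^ 2 + 1 + 4 * t))) := by ring
        _ ≤ 4 * (1 / 16) := by linarith
        _ < _ := by linarith

theorem nz3 {x g : G} (hgx : GV D E0 E1 E2 W1 W2 x (-1) (-1) 0) (hw1 : 2 * (W1 : G → ℂ) x ^ 2 = -q)
    (hw2 : 2 * (W2 : G → ℂ) x ^ 2 = -q)
    (hg : (GV D E0 E1 E2 W1 W2 g (r - 1) (-r - 1) (-r) ∨ GV D E0 E1 E2 W1 W2 g (-1) (-1) 0) ∨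
      (g ∈ D.A 0 ∨ g ∈ D.A 1 ∨ g ∈ D.A 2) ∧ g ≠ 1) :
    ∑ χ : IrrCharacter G, (χ : G → ℂ) x ^ 2 * conj ((χ : G → ℂ) g) / (χ : G → ℂ) 1 ≠ 0 := by
  obtain ⟨t, hr, hq, ht', ht⟩ := T.params
  obtain ⟨n0, n1, n2⟩ := T.cards hr hq
  have n0' : (E0.card : ℂ) = 4 * t ^ 2 - 1 := by exact_mod_cast n0
  have n1' : (E1.card : ℂ) = 2 * t ^ 2 + t := by exact_mod_cast n1
  have n2' : (E2.card : ℂ) = 2 * t ^ 2 - t := by exact_mod_cast n2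
  have hqq : (q : ℂ) = 8 * (t : ℂ) ^ 2 := by rw [hq]; push_cast; ring
  have hw1' : (W1 : G → ℂ) x ^ 2 = -(4 * (t : ℂ) ^ 2) := by rw [hqq] at hw1; linear_combination hw1 / 2
  have hw2' : (W2 : G → ℂ) x ^ 2 = -(4 * (t : ℂ) ^ 2) := by rw [hqq] at hw2; linear_combination hw2 / 2
  rw [T.SS_eq hr hq, hgx.St, hw1', hw2',
    Finset.sum_congr (s₁ := E0) rfl (fun χ hχ => by rw [hgx.e0 χ hχ, one_pow, one_mul]),
    Finset.sum_congr (s₁ := E1) rfl (fun χ hχ => by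
      rw [hgx.e1 χ hχ, show (((-1 : ℝ) : ℂ)) ^ 2 = 1 by norm_num, one_mul]),
    Finset.sum_congr (s₁ := E2) rfl (fun χ hχ => by
      rw [hgx.e2 χ hχ, show (((-1 : ℝ) : ℂ)) ^ 2 = 1 by norm_num, one_mul]),
    ← mul_add, ← map_add]
  have p1 := pz1 ht
  have p2 := pz2 ht
  have pW := pdW ht
  have b8 := B8 ht
  have b9 := B9 ht
  have b10 := B10 ht
  have b11 := B11 ht
  have hp2 : 0 < (8 * (t : ℝ) ^ 2) ^ 2 + 1 := by positivity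
  have hrr : (r : ℝ) = 4 * t := by rw [hr]; push_cast; ring
  obtain ⟨f1, f2, -, -, -⟩ := T.degrees
  rcases hg with (hg | hg) | ⟨hg | hg | hg, hg1⟩
  · rw [hrr] at hg
    rw [hg.w, Finset.sum_congr (s₁ := E0) rfl (fun χ hχ => by rw [hg.e0 χ hχ]),
      Finset.sum_congr (s₁ := E1) rfl (fun χ hχ => by rw [hg.e1 χ hχ]),
      Finset.sum_congr (s₁ := E2) rfl (fun χ hχ => by rw [hg.e2 χ hχ]),
      Finset.sum_const, Finset.sum_const, Finset.sum_const]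
    simp only [nsmul_eq_mul, n0', n1', n2', Complex.conj_ofReal, map_one]
    refine T.of_real (s := 1 + (4 * (t : ℝ) ^ 2 - 1) / ((8 * (t : ℝ) ^ 2) ^ 2 + 1) +
      (2 * (t : ℝ) ^ 2 + t) * (4 * t - 1) / ((8 * (t : ℝ) ^ 2 - 1) * (8 * t ^ 2 + 1 - 4 * t)) -
      (2 * (t : ℝ) ^ 2 - t) * (4 * t + 1) / ((8 * (t : ℝ) ^ 2 - 1) * (8 * t ^ 2 + 1 + 4 * t)) +
      16 * (t : ℝ) ^ 3 / (2 * t * (8 * (t : ℝ) ^ 2 - 1))) ?_ ?_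
    · push_cast; ring
    · have i1 : 0 ≤ (4 * (t : ℝ) ^ 2 - 1) / ((8 * (t : ℝ) ^ 2) ^ 2 + 1) :=
        div_nonneg (by nlinarith) hp2.le
      have i2 : 0 ≤ (2 * (t : ℝ) ^ 2 + t) * (4 * t - 1) / ((8 * (t : ℝ) ^ 2 - 1) * (8 * t ^ 2 + 1 - 4 * t)) :=
        div_nonneg (mul_nonneg (by positivity) (by linarith)) p1.le
      have i3 : 0 ≤ 16 * (t : ℝ) ^ 3 / (2 * t * (8 * (t : ℝ) ^ 2 - 1)) :=
        div_nonneg (by positivity) pW.le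
      linarith
  · rw [hg.w, Finset.sum_congr (s₁ := E0) rfl (fun χ hχ => by rw [hg.e0 χ hχ]),
      Finset.sum_congr (s₁ := E1) rfl (fun χ hχ => by rw [hg.e1 χ hχ]),
      Finset.sum_congr (s₁ := E2) rfl (fun χ hχ => by rw [hg.e2 χ hχ]),
      Finset.sum_const, Finset.sum_const, Finset.sum_const]
    simp only [nsmul_eq_mul, n0', n1', n2', Complex.conj_ofReal, map_one]
    refine T.of_real (s := 1 + (4 * (t : ℝ) ^ 2 - 1) / ((8 * (t : ℝ) ^ 2) ^ 2 + 1) -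
      (2 * (t : ℝ) ^ 2 + t) / ((8 * (t : ℝ) ^ 2 - 1) * (8 * t ^ 2 + 1 - 4 * t)) -
      (2 * (t : ℝ) ^ 2 - t) / ((8 * (t : ℝ) ^ 2 - 1) * (8 * t ^ 2 + 1 + 4 * t))) ?_ ?_
    · push_cast; ring
    · have i1 : 0 ≤ (4 * (t : ℝ) ^ 2 - 1) / ((8 * (t : ℝ) ^ 2) ^ 2 + 1) :=
        div_nonneg (by nlinarith) hp2.le
      linarith
  · rw [← map_sum, T.p0.sum g hg hg1,
      Finset.sum_eq_zero (s := E1) (fun χ hχ => by rw [T.p1.zero χ hχ g hg hg1]; simp),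
      Finset.sum_eq_zero (s := E2) (fun χ hχ => by rw [T.E2_0 hχ hg hg1]; simp),
      T.W1_0 hg hg1, T.W2_0 hg hg1]
    refine T.of_real (s := 1 - 1 / ((8 * (t : ℝ) ^ 2) ^ 2 + 1)) ?_ ?_
    · rw [map_neg, map_one, add_zero, map_zero]; push_cast; ring
    · have : 1 / ((8 * (t : ℝ) ^ 2) ^ 2 + 1) ≤ 1 / 2 := by
        apply one_div_le_one_div_of_le (by norm_num)
        nlinarith [sq_nonneg (8 * (t : ℝ) ^ 2 - 1)]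
      linarith
  · rw [Finset.sum_eq_zero (s := E0) (fun χ hχ => by rw [T.E0_1 hχ hg hg1]; simp),
      ← map_sum, T.sum1 hg hg1, f1,
      Finset.sum_eq_zero (s := E2) (fun χ hχ => by rw [T.E2_1 χ hχ g hg hg1]; simp),
      (T.W_A1 hg hg1).1, (T.W_A1 hg hg1).2]
    refine T.of_real (s := 1 + 1 / ((8 * (t : ℝ) ^ 2 - 1) * (8 * t ^ 2 + 1 - 4 * t)) -
      8 * (t : ℝ) ^ 2 / (2 * t * (8 * (t : ℝ) ^ 2 - 1))) ?_ ?_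
    · have : conj (1 + 1 : ℂ) = 2 := by rw [map_add, map_one]; norm_num
      rw [this]
      simp only [Int.cast_neg, Int.cast_one, neg_neg, map_one]
      push_cast; ring
    · have : 0 ≤ 1 / ((8 * (t : ℝ) ^ 2 - 1) * (8 * t ^ 2 + 1 - 4 * t)) := div_nonneg (by norm_num) p1.le
      linarith
  · rw [Finset.sum_eq_zero (s := E0) (fun χ hχ => by rw [T.E0_2 hχ hg hg1]; simp),
      Finset.sum_eq_zero (s := E1) (fun χ hχ => by rw [T.E1_2 χ hχ g hg hg1]; simp),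
      ← map_sum, T.sum2 g hg hg1, f2,
      (T.W_A2 hg hg1).1, (T.W_A2 hg hg1).2]
    refine T.of_real (s := 1 + 1 / ((8 * (t : ℝ) ^ 2 - 1) * (8 * t ^ 2 + 1 + 4 * t)) +
      8 * (t : ℝ) ^ 2 / (2 * t * (8 * (t : ℝ) ^ 2 - 1))) ?_ ?_
    · have : conj (-1 + -1 : ℂ) = -2 := by rw [map_add, map_neg, map_one]; norm_num
      rw [this]
      simp only [Int.cast_neg, Int.cast_one, neg_neg, map_one]
      push_cast; ring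
    · have i1 : 0 ≤ 1 / ((8 * (t : ℝ) ^ 2 - 1) * (8 * t ^ 2 + 1 + 4 * t)) := div_nonneg (by norm_num) p2.le
      have i2 : 0 ≤ 8 * (t : ℝ) ^ 2 / (2 * t * (8 * (t : ℝ) ^ 2 - 1)) := div_nonneg (by positivity) pW.le
      linarith

end Tab

/-- the square of a class of elements of order greater than two covers `G \ {1}` -/
theorem square_covers {q r : ℕ} (D : Data G q r) {x g : G} (hx : 2 < orderOf x) (hg : g ≠ 1) :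
    ∃ u v : G, g = (u * x * u⁻¹) * (v * x * v⁻¹) := by
  obtain ⟨E0, E1, E2, W1, W2, ε1, ε2, z1, z2, w1, w2, T⟩ := D.tab
  apply exists_prod
  have hσ2 : orderOf D.σ ≤ 2 := Nat.le_of_dvd (by norm_num)
    (orderOf_dvd_of_pow_eq_one (by rw [pow_two]; exact D.σ2))
  have hval : ∀ {a b : G}, IsConj a b → ∀ χ : IrrCharacter G, (χ : G → ℂ) b = (χ : G → ℂ) a :=
    fun h χ => χ.2.isClassFunction.conj_eq h.symm
  -- representatives for g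
  obtain ⟨g', hgg, hg'⟩ : ∃ g' : G, (∀ χ : IrrCharacter G, (χ : G → ℂ) g = (χ : G → ℂ) g') ∧
      ((GV D E0 E1 E2 W1 W2 g' (r - 1) (-r - 1) (-r) ∨ GV D E0 E1 E2 W1 W2 g' (-1) (-1) 0) ∨
      (g' ∈ D.A 0 ∨ g' ∈ D.A 1 ∨ g' ∈ D.A 2) ∧ g' ≠ 1) := by
    rcases D.cover g with h | h | h | h | ⟨i, k, h1, h2⟩
    · exact absurd h hg
    · exact ⟨D.σ, hval h, Or.inl (Or.inl T.gvσ)⟩
    · exact ⟨D.ρ, hval h, Or.inl (Or.inr T.gvρ)⟩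
    · exact ⟨D.ρ⁻¹, hval h, Or.inl (Or.inr T.gvρ')⟩
    · refine ⟨k⁻¹ * g * k, hval (IsConj.symm (isConj_iff.2 ⟨k⁻¹, by group⟩)), Or.inr ⟨?_, ?_⟩⟩
      · fin_cases i
        · exact Or.inl h2
        · exact Or.inr (Or.inl h2)
        · exact Or.inr (Or.inr h2)
      · intro h
        apply h1
        have : g = k * (k⁻¹ * g * k) * k⁻¹ := by group
        rw [this, h]; group
  have hnorm : ‖(D.St : G → ℂ) g'‖ ≤ 1 ∧ ∀ χ ∈ E0, ‖(χ : G → ℂ) g'‖ ≤ 2 := by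
    rcases hg' with (h | h) | ⟨h | h | h, h1⟩
    · rw [h.St]
      refine ⟨by simp, fun χ hχ => by rw [h.e0 χ hχ]; norm_num⟩
    · rw [h.St]
      refine ⟨by simp, fun χ hχ => by rw [h.e0 χ hχ]; norm_num⟩
    · rw [D.StA0 g' h h1]
      exact ⟨by simp, fun χ hχ => T.p0.bound χ hχ g' h h1⟩
    · rw [D.StA1 g' h h1]
      exact ⟨by simp, fun χ hχ => by rw [T.E0_1 hχ h h1]; norm_num⟩
    · rw [D.StA2 g' h h1]
      exact ⟨by simp, fun χ hχ => by rw [T.E0_2 hχ h h1]; norm_num⟩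
  have hrw : ∀ x' : G, (∀ χ : IrrCharacter G, (χ : G → ℂ) x = (χ : G → ℂ) x') →
      ∑ χ : IrrCharacter G, (χ : G → ℂ) x ^ 2 * conj ((χ : G → ℂ) g) / (χ : G → ℂ) 1 =
      ∑ χ : IrrCharacter G, (χ : G → ℂ) x' ^ 2 * conj ((χ : G → ℂ) g') / (χ : G → ℂ) 1 :=
    fun x' hx' => Finset.sum_congr rfl (fun χ _ => by rw [hx' χ, hgg χ])
  obtain ⟨r0, r1, r2, r3, r4⟩ := T.at_ρ
  rcases D.cover x with h | h | h | h | ⟨i, k, h1, h2⟩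
  · rw [h, orderOf_one] at hx; omega
  · exfalso
    obtain ⟨c, hc⟩ := isConj_iff.1 h
    have : orderOf x = orderOf D.σ := by
      rw [← hc]; exact (MulAut.conj c).orderOf_eq D.σ
    omega
  · rw [hrw D.ρ (hval h)]
    exact T.nz3 T.gvρ r3 (by rw [r4, neg_sq]; exact r3) hg'
  · rw [hrw D.ρ⁻¹ (hval h)]
    refine T.nz3 T.gvρ' ?_ ?_ hg'
    · rw [T.inv_val, ← map_pow]
      have h22 : conj (2:ℂ) = 2 := by
        rw [show (2:ℂ) = ((2:ℕ):ℂ) by norm_num, map_natCast]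
      have := congrArg conj r3
      rw [map_mul, map_neg, map_natCast, h22] at this
      exact this
    · rw [T.inv_val, ← map_pow, r4, neg_sq]
      have h22 : conj (2:ℂ) = 2 := by
        rw [show (2:ℂ) = ((2:ℕ):ℂ) by norm_num, map_natCast]
      have := congrArg conj r3
      rw [map_mul, map_neg, map_natCast, h22] at this
      exact this
  · have hx' := hrw (k⁻¹ * x * k) (hval (IsConj.symm (isConj_iff.2 ⟨k⁻¹, by group⟩)))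
    have hx1 : k⁻¹ * x * k ≠ 1 := by
      intro h
      apply h1
      have : x = k * (k⁻¹ * x * k) * k⁻¹ := by group
      rw [this, h]; group
    rw [hx']
    fin_cases i
    · exact T.nz0 h2 hx1 hnorm.1 hnorm.2
    · exact T.nz1 h2 hx1 hg'
    · exact T.nz2 h2 hx1 hg'

end Cfsg.Agent.Lib.SzChr
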