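import Cfsg.Agent.Lib.SzChr1
import Cfsg.Agent.Lib.TICount

set_option autoImplicit false

/-!
# Groups with the subgroup structure of `Sz(q)`: class number and first character relations (helper6)
-/

namespace Cfsg.Agent.Lib.SzChr

open scoped ComplexConjugate
open Cfsg Cfsg.Agent.Lib.CharBasic Cfsg.Agent.Lib.TIFN Cfsg.Agent.Lib.AbTI Cfsg.Agent.Lib.TICount

universe u

/-- a finite group with the subgroup structure of `Sz(q)`, `r ^ 2 = 2 q` -/
structure Data (G : Type u) [Group G] [Fintype G] (q r : ℕ) where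
  hq : 8 ≤ q
  hr : r ^ 2 = 2 * q
  h4 : 4 ∣ r
  card : Nat.card G = q ^ 2 * (q ^ 2 + 1) * (q - 1)
  A : Fin 3 → Subgroup G
  hTI : ∀ i, ∀ g : G, g ∉ Subgroup.normalizer (A i : Set G) → ∀ k ∈ A i, g * k * g⁻¹ ∈ A i → k = 1
  hC : ∀ i, ∀ k ∈ A i, k ≠ 1 → Subgroup.centralizer ({k} : Set G) ≤ A i
  hab : ∀ i, ∀ a ∈ A i, ∀ b ∈ A i, a * b = b * a
  a0 : Nat.card (A 0) = q - 1
  a1 : Nat.card (A 1) = q + r + 1
  a2 : Nat.card (A 2) + r = q + 1
  e0 : ((A 0).subgroupOf (Subgroup.normalizer (A 0 : Set G))).index = 2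
  e1 : ((A 1).subgroupOf (Subgroup.normalizer (A 1 : Set G))).index = 4
  e2 : ((A 2).subgroupOf (Subgroup.normalizer (A 2 : Set G))).index = 4
  hdis : ∀ i j, i ≠ j → ∀ a ∈ A i, a ≠ 1 → ∀ g : G, g⁻¹ * a * g ∉ A j
  hreal : ∀ i, ∀ a ∈ A i, IsConj a a⁻¹
  σ : G
  ρ : G
  hσA : ∀ i (g : G), g⁻¹ * σ * g ∉ A i
  hρA : ∀ i (g : G), g⁻¹ * ρ * g ∉ A i
  cσ : Nat.card (Subgroup.centralizer ({σ} : Set G)) = q ^ 2
  cρ : Nat.card (Subgroup.centralizer ({ρ} : Set G)) = 2 * q
  σ2 : σ * σ = 1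
  hσ : IsConj σ σ⁻¹
  hρ : ¬ IsConj ρ ρ⁻¹
  cover : ∀ g, g = 1 ∨ IsConj σ g ∨ IsConj ρ g ∨ IsConj ρ⁻¹ g ∨
    ∃ (i : Fin 3) (k : G), g ≠ 1 ∧ k⁻¹ * g * k ∈ A i
  St : IrrCharacter G
  St1 : (St : G → ℂ) 1 = (q : ℂ) ^ 2
  Stσ : (St : G → ℂ) σ = 0
  Stρ : (St : G → ℂ) ρ = 0
  StA0 : ∀ k ∈ A 0, k ≠ 1 → (St : G → ℂ) k = 1
  StA1 : ∀ k ∈ A 1, k ≠ 1 → (St : G → ℂ) k = -1
  StA2 : ∀ k ∈ A 2, k ≠ 1 → (St : G → ℂ) k = -1

variable {G : Type u} [Group G] [Fintype G]

theorem sum_cent : ∑ g : G, (Nat.card (Subgroup.centralizer ({g} : Set G)) : ℂ) =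
    Nat.card G * Nat.card (IrrCharacter G) := by
  classical
  have h1 : ∀ g : G, (Nat.card (Subgroup.centralizer ({g} : Set G)) : ℂ) =
      ∑ χ : IrrCharacter G, (χ : G → ℂ) g * conj ((χ : G → ℂ) g) := by
    intro g
    rw [column_orthogonality, if_pos (IsConj.refl g)]
  rw [Finset.sum_congr rfl (fun g _ => h1 g), Finset.sum_comm]
  have h2 : ∀ χ : IrrCharacter G, ∑ g : G, (χ : G → ℂ) g * conj ((χ : G → ℂ) g) = Nat.card G := by
    intro χ
    have h3 := irr_orthonormal χ χ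
    rw [if_pos rfl, classInner_def] at h3
    have h0 : (Nat.card G : ℂ) ≠ 0 := by exact_mod_cast Nat.card_pos.ne'
    field_simp at h3
    exact h3
  rw [Finset.sum_congr rfl (fun χ _ => h2 χ), Finset.sum_const, nsmul_eq_mul, mul_comm,
    Nat.card_eq_fintype_card (α := IrrCharacter G)]
  rfl

theorem cent_conj {a b : G} (h : IsConj a b) :
    Nat.card (Subgroup.centralizer ({b} : Set G)) = Nat.card (Subgroup.centralizer ({a} : Set G)) :=
  (card_centralizer_of_isConj h).symm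

theorem sum_class (x : G) [DecidablePred (fun g : G => IsConj x g)] :
    ∑ g : G, (if IsConj x g then (Nat.card (Subgroup.centralizer ({g} : Set G)) : ℂ) else 0) =
      Nat.card G := by
  rw [← Finset.sum_filter]
  rw [Finset.sum_congr rfl (g := fun _ => (Nat.card (Subgroup.centralizer ({x} : Set G)) : ℂ))
    (fun g hg => by rw [cent_conj (Finset.mem_filter.1 hg).2]), Finset.sum_const, nsmul_eq_mul,
    ← card_isConj_mul_card_centralizer x, Nat.card_eq_fintype_card (α := {g : G // IsConj x g}),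
    Fintype.card_subtype]
  push_cast
  rfl

/-- conjugate into `A i`, nontrivial -/
def P (A : Subgroup G) (g : G) : Prop := g ≠ 1 ∧ ∃ k : G, k⁻¹ * g * k ∈ A

theorem P_cls (A : Subgroup G) (g : G) : P A g ↔ g ∈ cls A := by
  constructor
  · rintro ⟨h1, k, hk⟩
    exact ⟨h1, k⁻¹, by simpa using hk⟩
  · rintro ⟨h1, k, hk⟩
    exact ⟨h1, k⁻¹, by simpa using hk⟩

theorem P_conj {A : Subgroup G} {g h : G} (hg : P A g) (hc : IsConj g h) : P A h := by
  obtain ⟨c, rfl⟩ := isConj_iff.1 hc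
  obtain ⟨h1, k, hk⟩ := hg
  refine ⟨fun h => h1 ?_, c * k, ?_⟩
  · have : g = c⁻¹ * (c * g * c⁻¹) * c := by group
    rw [this, h]; group
  · have : (c * k)⁻¹ * (c * g * c⁻¹) * (c * k) = k⁻¹ * g * k := by group
    rw [this]; exact hk

theorem sum_P (A : Subgroup G)
    (hTI : ∀ g : G, g ∉ Subgroup.normalizer (A : Set G) → ∀ k ∈ A, g * k * g⁻¹ ∈ A → k = 1)
    (hC : ∀ k ∈ A, k ≠ 1 → Subgroup.centralizer ({k} : Set G) ≤ A)
    (hab : ∀ a ∈ A, ∀ b ∈ A, a * b = b * a) [DecidablePred (P A)] :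
    ∑ g : G, (if P A g then (Nat.card (Subgroup.centralizer ({g} : Set G)) : ℂ) else 0) =
      Nat.card G * Nat.card (Rel A) := by
  classical
  rw [← Finset.sum_filter]
  have h1 : ∀ g ∈ Finset.univ.filter (P A),
      (Nat.card (Subgroup.centralizer ({g} : Set G)) : ℂ) = Nat.card A := by
    intro g hg
    obtain ⟨h1, k, hk⟩ := (Finset.mem_filter.1 hg).2
    have h2 : IsConj g (k⁻¹ * g * k) := isConj_iff.2 ⟨k⁻¹, by group⟩
    have h3 : k⁻¹ * g * k ≠ 1 := by
      intro h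
      apply h1
      have : g = k * (k⁻¹ * g * k) * k⁻¹ := by group
      rw [this, h]; group
    rw [← cent_conj h2]
    have h4 : Subgroup.centralizer ({k⁻¹ * g * k} : Set G) = A := by
      apply le_antisymm (hC _ hk h3)
      intro a ha
      rw [Subgroup.mem_centralizer_singleton_iff]
      exact hab a ha _ hk
    rw [h4]
  rw [Finset.sum_congr rfl h1, Finset.sum_const, nsmul_eq_mul]
  have h5 := ti_count A (fun a ha ha1 n hn => by
    by_contra hcon
    exact ha1 (hTI n hcon a ha hn))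
  have h6 := card_rel A hC hab
  have h7 : Nat.card (Subgroup.normalizer (A : Set G)) = Nat.card A *
      (A.subgroupOf (Subgroup.normalizer (A : Set G))).index := by
    rw [← Subgroup.card_mul_index (A.subgroupOf (Subgroup.normalizer (A : Set G))),
      Nat.card_congr (Subgroup.subgroupOfEquivOfLe Subgroup.le_normalizer).toEquiv]
  have h8 : (cls A).ncard = (Finset.univ.filter (P A)).card := by
    rw [← Set.ncard_coe_finset]
    congr 1
    ext g
    simp [P_cls]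
  rw [h7, h8, ← h6] at h5
  have h9 : 0 < (A.subgroupOf (Subgroup.normalizer (A : Set G))).index :=
    Nat.pos_of_ne_zero Subgroup.index_ne_zero_of_finite
  have h10 : (Finset.univ.filter (P A)).card * Nat.card A = Nat.card G * Nat.card (Rel A) := by
    apply Nat.eq_of_mul_eq_mul_right h9
    rw [h6] at h5
    calc (Finset.univ.filter (P A)).card * Nat.card A *
        (A.subgroupOf (Subgroup.normalizer (A : Set G))).index =
        (Finset.univ.filter (P A)).card * (Nat.card A *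
        (A.subgroupOf (Subgroup.normalizer (A : Set G))).index) := by ring
      _ = Nat.card G * (Nat.card A - 1) := h5
      _ = _ := by rw [← h6, Nat.add_sub_cancel]; ring
  exact_mod_cast h10

namespace Data

variable {q r : ℕ} (D : Data G q r)
include D

theorem r_pos : 0 < r := by
  rcases Nat.eq_zero_or_pos r with h | h
  · have := D.hr; have := D.hq; subst h; omega
  · exact h

theorem r_ge : 4 ≤ r := Nat.le_of_dvd D.r_pos D.h4

/-- `q = 8 t²`, `r = 4 t` -/
theorem exists_t : ∃ t : ℕ, 1 ≤ t ∧ r = 4 * t ∧ q = 8 * t ^ 2 := by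
  obtain ⟨t, ht⟩ := D.h4
  have h1 := D.hr
  have h2 := D.r_pos
  refine ⟨t, by omega, ht, ?_⟩
  subst ht
  nlinarith

theorem rel0 : 2 * Nat.card (Rel (D.A 0)) + 2 = q := by
  have h1 := card_rel (D.A 0) (D.hC 0) (D.hab 0)
  rw [D.e0, D.a0] at h1
  have := D.hq
  omega

theorem rel1 : 4 * Nat.card (Rel (D.A 1)) = q + r := by
  have h1 := card_rel (D.A 1) (D.hC 1) (D.hab 1)
  rw [D.e1, D.a1] at h1
  omega

theorem rel2 : 4 * Nat.card (Rel (D.A 2)) + r = q := by
  have h1 := card_rel (D.A 2) (D.hC 2) (D.hab 2)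
  have h2 := D.a2
  rw [D.e2] at h1
  omega

theorem σ_ne : D.σ ≠ 1 := by
  intro h
  have := D.hσA 0 1
  rw [h] at this
  apply this
  simp [(D.A 0).one_mem]

theorem ρ_ne : D.ρ ≠ 1 := by
  intro h
  have := D.hρA 0 1
  rw [h] at this
  apply this
  simp [(D.A 0).one_mem]

theorem not_conj_σρ : ¬ IsConj D.σ D.ρ := by
  intro h
  have h1 := cent_conj h
  rw [D.cρ, D.cσ] at h1
  have := D.hq
  nlinarith

theorem cent_inv (g : G) : Nat.card (Subgroup.centralizer ({g⁻¹} : Set G)) =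
    Nat.card (Subgroup.centralizer ({g} : Set G)) := by
  have : Subgroup.centralizer ({g⁻¹} : Set G) = Subgroup.centralizer ({g} : Set G) := by
    ext x
    rw [Subgroup.mem_centralizer_singleton_iff, Subgroup.mem_centralizer_singleton_iff]
    constructor
    · intro h
      have h1 : Commute x g⁻¹ := h
      exact (Commute.inv_right_iff.1 h1)
    · intro h
      have h1 : Commute x g := h
      exact (Commute.inv_right_iff.2 h1)
  rw [this]

theorem not_conj_σρ' : ¬ IsConj D.σ D.ρ⁻¹ := by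
  intro h
  have h1 := cent_conj h
  rw [D.cent_inv, D.cρ, D.cσ] at h1
  have := D.hq
  nlinarith

theorem not_P_σ (i : Fin 3) : ¬ P (D.A i) D.σ := fun h => by
  obtain ⟨-, k, hk⟩ := h
  exact D.hσA i k hk

theorem not_P_ρ (i : Fin 3) : ¬ P (D.A i) D.ρ := fun h => by
  obtain ⟨-, k, hk⟩ := h
  exact D.hρA i k hk

theorem not_P_ρ' (i : Fin 3) : ¬ P (D.A i) D.ρ⁻¹ := fun h => by
  obtain ⟨-, k, hk⟩ := h
  apply D.hρA i k
  have := (D.A i).inv_mem hk
  have e : (k⁻¹ * D.ρ⁻¹ * k)⁻¹ = k⁻¹ * D.ρ * k := by group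
  rwa [e] at this

theorem P_disj {i j : Fin 3} (hij : i ≠ j) {g : G} (h : P (D.A i) g) : ¬ P (D.A j) g := by
  rintro ⟨-, l, hl⟩
  obtain ⟨h1, k, hk⟩ := h
  have h3 : k⁻¹ * g * k ≠ 1 := by
    intro h
    apply h1
    have : g = k * (k⁻¹ * g * k) * k⁻¹ := by group
    rw [this, h]; group
  apply D.hdis i j hij _ hk h3 (k⁻¹ * l)
  have e : (k⁻¹ * l)⁻¹ * (k⁻¹ * g * k) * (k⁻¹ * l) = l⁻¹ * g * l := by group
  rw [e]; exact hl

open Classical in
theorem ident (F : G → ℂ) (g : G) : F g = (if IsConj 1 g then F g else 0) +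
    (if IsConj D.σ g then F g else 0) + (if IsConj D.ρ g then F g else 0) +
    (if IsConj D.ρ⁻¹ g then F g else 0) + (if P (D.A 0) g then F g else 0) +
    (if P (D.A 1) g then F g else 0) + (if P (D.A 2) g then F g else 0) := by
  have t1 : ∀ {x : G}, x ≠ 1 → ¬ IsConj x 1 := fun hx h => hx (isConj_one_right.1 h.symm)
  rcases D.cover g with rfl | h | h | h | ⟨i, k, h1, h2⟩
  · have hp : ∀ i, ¬ P (D.A i) 1 := fun i h => h.1 rfl
    have e1 := t1 D.σ_ne
    have e2 := t1 D.ρ_ne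
    have e3 := t1 (inv_ne_one.2 D.ρ_ne)
    simp only [if_pos (IsConj.refl (1 : G)), if_neg e1, if_neg e2, if_neg e3, if_neg (hp 0),
      if_neg (hp 1), if_neg (hp 2)]
    ring
  · have hp : ∀ i, ¬ P (D.A i) g := fun i h' => D.not_P_σ i (P_conj h' h.symm)
    have e1 : ¬ IsConj 1 g := fun h' => t1 D.σ_ne (h.trans h'.symm)
    have e2 : ¬ IsConj D.ρ g := fun h' => D.not_conj_σρ (h.trans h'.symm)
    have e3 : ¬ IsConj D.ρ⁻¹ g := fun h' => D.not_conj_σρ' (h.trans h'.symm)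
    simp only [if_pos h, if_neg e1, if_neg e2, if_neg e3, if_neg (hp 0),
      if_neg (hp 1), if_neg (hp 2)]
    ring
  · have hp : ∀ i, ¬ P (D.A i) g := fun i h' => D.not_P_ρ i (P_conj h' h.symm)
    have e1 : ¬ IsConj 1 g := fun h' => t1 D.ρ_ne (h.trans h'.symm)
    have e2 : ¬ IsConj D.σ g := fun h' => D.not_conj_σρ (h'.trans h.symm)
    have e3 : ¬ IsConj D.ρ⁻¹ g := fun h' => D.hρ (h.trans h'.symm)
    simp only [if_pos h, if_neg e1, if_neg e2, if_neg e3, if_neg (hp 0),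
      if_neg (hp 1), if_neg (hp 2)]
    ring
  · have hp : ∀ i, ¬ P (D.A i) g := fun i h' => D.not_P_ρ' i (P_conj h' h.symm)
    have e1 : ¬ IsConj 1 g := fun h' => t1 (inv_ne_one.2 D.ρ_ne) (h.trans h'.symm)
    have e2 : ¬ IsConj D.σ g := fun h' => D.not_conj_σρ' (h'.trans h.symm)
    have e3 : ¬ IsConj D.ρ g := fun h' => D.hρ (h'.trans h.symm)
    simp only [if_pos h, if_neg e1, if_neg e2, if_neg e3, if_neg (hp 0),
      if_neg (hp 1), if_neg (hp 2)]
    ring
  · have hP : P (D.A i) g := ⟨h1, k, h2⟩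
    have e1 : ¬ IsConj 1 g := fun h' => h1 (isConj_one_right.1 h')
    have e2 : ¬ IsConj D.σ g := fun h' => D.not_P_σ i (P_conj hP h'.symm)
    have e3 : ¬ IsConj D.ρ g := fun h' => D.not_P_ρ i (P_conj hP h'.symm)
    have e4 : ¬ IsConj D.ρ⁻¹ g := fun h' => D.not_P_ρ' i (P_conj hP h'.symm)
    have hj : ∀ j, j ≠ i → ¬ P (D.A j) g := fun j hj => D.P_disj hj.symm hP
    fin_cases i
    · have f1 := hj 1 (by decide)
      have f2 := hj 2 (by decide)
      have hP' : P (D.A 0) g := hP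
      simp only [if_neg e1, if_neg e2, if_neg e3, if_neg e4, if_pos hP', if_neg f1, if_neg f2]
      ring
    · have f1 := hj 0 (by decide)
      have f2 := hj 2 (by decide)
      have hP' : P (D.A 1) g := hP
      simp only [if_neg e1, if_neg e2, if_neg e3, if_neg e4, if_pos hP', if_neg f1, if_neg f2]
      ring
    · have f1 := hj 0 (by decide)
      have f2 := hj 1 (by decide)
      have hP' : P (D.A 2) g := hP
      simp only [if_neg e1, if_neg e2, if_neg e3, if_neg e4, if_pos hP', if_neg f1, if_neg f2]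
      ring

theorem card_irr_eq : Nat.card (IrrCharacter G) = q + 3 := by
  classical
  have h1 := sum_cent (G := G)
  rw [Finset.sum_congr rfl (fun g _ => D.ident
    (fun g => (Nat.card (Subgroup.centralizer ({g} : Set G)) : ℂ)) g)] at h1
  simp only [Finset.sum_add_distrib] at h1
  rw [sum_class, sum_class, sum_class, sum_class, sum_P _ (D.hTI 0) (D.hC 0) (D.hab 0),
    sum_P _ (D.hTI 1) (D.hC 1) (D.hab 1), sum_P _ (D.hTI 2) (D.hC 2) (D.hab 2)] at h1
  have h0 : (Nat.card G : ℂ) ≠ 0 := by exact_mod_cast Nat.card_pos.ne'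
  have h2 : (Nat.card G : ℂ) * (4 + Nat.card (Rel (D.A 0)) + Nat.card (Rel (D.A 1)) +
      Nat.card (Rel (D.A 2))) = Nat.card G * Nat.card (IrrCharacter G) := by
    rw [← h1]; ring
  have h3 := mul_left_cancel₀ h0 h2
  have h4 : 4 + Nat.card (Rel (D.A 0)) + Nat.card (Rel (D.A 1)) +
      Nat.card (Rel (D.A 2)) = Nat.card (IrrCharacter G) := by exact_mod_cast h3
  have := D.rel0
  have := D.rel1
  have := D.rel2
  omega

end Data

end Cfsg.Agent.Lib.SzChr
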