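import Cfsg.Agent.Lib.SzChr2

set_option autoImplicit false

/-!
# Groups with the subgroup structure of `Sz(q)`: the principal series (helper6)
-/

namespace Cfsg.Agent.Lib.SzChr

open scoped ComplexConjugate
open Cfsg Cfsg.Agent.Lib.CharBasic Cfsg.Agent.Lib.TIFN Cfsg.Agent.Lib.AbTI Cfsg.Agent.Lib.TICount

universe u

variable {G : Type u} [Group G] [Fintype G]

/-- the trivial character -/
def one : IrrCharacter G := ⟨1, isIrrCharacter_one⟩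

theorem one_apply (g : G) : ((one : IrrCharacter G) : G → ℂ) g = 1 := rfl

theorem mul_conj_sq (z : ℂ) : z * conj z = ((‖z‖ ^ 2 : ℝ) : ℂ) := by
  rw [Complex.mul_conj']; push_cast; rfl

theorem col_norm (g : G) : ∑ χ : IrrCharacter G, ‖(χ : G → ℂ) g‖ ^ 2 =
    (Nat.card (Subgroup.centralizer ({g} : Set G)) : ℝ) := by
  classical
  have h := column_orthogonality g g
  rw [if_pos (IsConj.refl g)] at h
  have h2 : ((∑ χ : IrrCharacter G, ‖(χ : G → ℂ) g‖ ^ 2 : ℝ) : ℂ) =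
      ((Nat.card (Subgroup.centralizer ({g} : Set G)) : ℝ) : ℂ) := by
    push_cast
    rw [← h]
    apply Finset.sum_congr rfl
    intro χ _
    rw [mul_conj_sq]; push_cast; rfl
  exact_mod_cast h2

theorem col_zero {g h : G} (hn : ¬ IsConj g h) :
    ∑ χ : IrrCharacter G, (χ : G → ℂ) g * conj ((χ : G → ℂ) h) = 0 := by
  rw [column_orthogonality, if_neg hn]

open Classical in
theorem split3 {M : Type*} [AddCommMonoid M] {a b : IrrCharacter G} (hab : a ≠ b)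
    (E : Finset (IrrCharacter G)) (ha : a ∉ E) (hb : b ∉ E) (F : IrrCharacter G → M) :
    ∑ χ, F χ = F a + F b + ∑ χ ∈ E, F χ + ∑ χ ∈ (insert a (insert b E))ᶜ, F χ := by
  rw [← Finset.sum_add_sum_compl (insert a (insert b E)) F, Finset.sum_insert (by simp [hab, ha]),
    Finset.sum_insert hb]
  congr 1
  abel

theorem cent_A {A : Subgroup G} (hC : ∀ k ∈ A, k ≠ 1 → Subgroup.centralizer ({k} : Set G) ≤ A)
    (hab : ∀ a ∈ A, ∀ b ∈ A, a * b = b * a) {k : G} (hk : k ∈ A) (hk1 : k ≠ 1) :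
    Subgroup.centralizer ({k} : Set G) = A := by
  apply le_antisymm (hC _ hk hk1)
  intro a ha
  rw [Subgroup.mem_centralizer_singleton_iff]
  exact hab a ha _ hk

namespace Data

variable {q r : ℕ} (D : Data G q r)
include D

theorem one_ne_St : (one : IrrCharacter G) ≠ D.St := by
  intro h
  have h1 := D.Stσ
  rw [← h] at h1
  exact one_ne_zero h1

theorem exists_A (i : Fin 3) (h : 1 < Nat.card (D.A i)) : ∃ k ∈ D.A i, k ≠ 1 := by
  have : Nontrivial (D.A i) := Finite.one_lt_card_iff_nontrivial.1 h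
  obtain ⟨k, hk⟩ := exists_ne (1 : D.A i)
  exact ⟨k, k.2, fun h => hk (Subtype.ext h)⟩

theorem card_A2 : 5 ≤ Nat.card (D.A 2) := by
  have h1 := D.a2
  obtain ⟨t, ht, rfl, rfl⟩ := D.exists_t
  nlinarith

theorem one_lt_A (i : Fin 3) : 1 < Nat.card (D.A i) := by
  have h1 := D.a0
  have h2 := D.a1
  have h3 := D.card_A2
  have := D.hq
  fin_cases i
  · show 1 < Nat.card (D.A 0); omega
  · show 1 < Nat.card (D.A 1); omega
  · show 1 < Nat.card (D.A 2); omega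

/-- the principal series -/
theorem stepA : ∃ E : Finset (IrrCharacter G), 2 * E.card + 2 = q ∧ one ∉ E ∧ D.St ∉ E ∧
    (∀ χ ∈ E, (χ : G → ℂ) 1 = (q : ℂ) ^ 2 + 1) ∧
    (∀ g, g ≠ 1 → (∀ k : G, k⁻¹ * g * k ∉ D.A 0) → ∀ χ ∈ E, (χ : G → ℂ) g = 1 + (D.St : G → ℂ) g) ∧
    (∀ h ∈ D.A 0, h ≠ 1 → ∑ χ ∈ E, (χ : G → ℂ) h = -1) ∧
    (∀ h ∈ D.A 0, h ≠ 1 → ∑ χ ∈ E, ‖(χ : G → ℂ) h‖ ^ 2 = (q : ℝ) - 3) ∧
    (∀ χ ∈ E, ∀ h ∈ D.A 0, h ≠ 1 → ‖(χ : G → ℂ) h‖ ≤ 2) ∧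
    (∀ ψ : IrrCharacter G, ψ ∉ E → ψ ≠ one → ψ ≠ D.St → ∀ h ∈ D.A 0, h ≠ 1 → (ψ : G → ℂ) h = 0) ∧
    (∀ χ ∈ E, ∀ c : ℂ, ∃ k ∈ D.A 0, k ≠ 1 ∧ (χ : G → ℂ) k ≠ c) := by
  classical
  have hrel := D.rel0
  have hq := D.hq
  obtain ⟨ε, E, m, z, hε, hcard, hz, hs, hn, hconst, hagree, hb, hnc⟩ :=
    fam (D.A 0) (D.hTI 0) (D.hC 0) (D.hab 0) (by omega) D.e0
  have h1E : one ∉ E := fun h => by
    obtain ⟨k, -, -, hk⟩ := hnc one h 1
    exact hk rfl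
  have hStE : D.St ∉ E := fun h => by
    obtain ⟨k, hk, hk1, hk2⟩ := hnc D.St h 1
    exact hk2 (D.StA0 k hk hk1)
  have hεε : ε * ε = 1 := by rcases hε with h | h <;> simp [h]
  have hεc : conj ε = ε := by rcases hε with h | h <;> simp [h]
  -- the norm relation
  have hN : ∀ h ∈ D.A 0, h ≠ 1 → ∑ χ ∈ E, ‖(χ : G → ℂ) h‖ ^ 2 =
      (q : ℝ) - 3 - 2 * m + m ^ 2 * Nat.card (Rel (D.A 0)) := by
    intro h hh hh1
    have h2 := hn h hh hh1
    have h3 : ((∑ χ ∈ E, ‖(χ : G → ℂ) h‖ ^ 2 : ℝ) : ℂ) =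
        ((((q : ℝ) - 3 - 2 * m + m ^ 2 * Nat.card (Rel (D.A 0))) : ℝ) : ℂ) := by
      push_cast
      have h4 : ∑ χ ∈ E, (χ : G → ℂ) h * conj ((χ : G → ℂ) h) =
          ∑ χ ∈ E, (‖(χ : G → ℂ) h‖ : ℂ) ^ 2 := by
        apply Finset.sum_congr rfl
        intro χ _
        rw [mul_conj_sq]; push_cast; rfl
      rw [← h4, h2, D.a0]
      have h5 : ((q - 1 : ℕ) : ℂ) = (q : ℂ) - 1 := by
        rw [Nat.cast_sub (by omega)]; simp
      rw [h5]; push_cast; ring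
    exact_mod_cast h3
  have hcol : ∀ h ∈ D.A 0, h ≠ 1 → (2 : ℝ) + ∑ χ ∈ E, ‖(χ : G → ℂ) h‖ ^ 2 +
      ∑ χ ∈ (insert one (insert D.St E))ᶜ, ‖(χ : G → ℂ) h‖ ^ 2 = q - 1 := by
    intro h hh hh1
    have h2 := col_norm h
    rw [split3 D.one_ne_St E h1E hStE, cent_A (D.hC 0) (D.hab 0) hh hh1, D.a0, one_apply,
      D.StA0 h hh hh1] at h2
    have h5 : ((q - 1 : ℕ) : ℝ) = (q : ℝ) - 1 := by
      rw [Nat.cast_sub (by omega)]; simp
    rw [h5] at h2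
    rw [← h2]
    norm_num
  obtain ⟨h₀, hh₀, hh₀1⟩ := D.exists_A 0 (D.one_lt_A 0)
  have hm : m = 0 := by
    have h2 := hcol h₀ hh₀ hh₀1
    rw [hN h₀ hh₀ hh₀1] at h2
    have h3 : 0 ≤ ∑ χ ∈ (insert one (insert D.St E))ᶜ, ‖(χ : G → ℂ) h₀‖ ^ 2 :=
      Finset.sum_nonneg (fun _ _ => sq_nonneg _)
    have h4 : (m : ℝ) ^ 2 * Nat.card (Rel (D.A 0)) ≤ 2 * m := by linarith
    have h5 : m ^ 2 * (Nat.card (Rel (D.A 0)) : ℤ) ≤ 2 * m := by exact_mod_cast h4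
    have h6 : (3 : ℤ) ≤ (Nat.card (Rel (D.A 0)) : ℤ) := by omega
    have h7 : m ^ 2 * 3 ≤ 2 * m := le_trans (mul_le_mul_of_nonneg_left h6 (sq_nonneg m)) h5
    rcases lt_trichotomy m 0 with hm0 | hm0 | hm0
    · nlinarith [sq_nonneg m]
    · exact hm0
    · nlinarith
  have hrest : ∀ h ∈ D.A 0, h ≠ 1 → ∀ ψ ∈ (insert one (insert D.St E))ᶜ, (ψ : G → ℂ) h = 0 := by
    intro h hh hh1 ψ hψ
    have h2 := hcol h hh hh1
    rw [hN h hh hh1, hm] at h2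
    have h3 : ∑ χ ∈ (insert one (insert D.St E))ᶜ, ‖(χ : G → ℂ) h‖ ^ 2 = 0 := by
      push_cast at h2; linarith
    rw [Finset.sum_eq_zero_iff_of_nonneg (fun _ _ => sq_nonneg _)] at h3
    have h4 := h3 ψ hψ
    exact norm_eq_zero.1 (pow_eq_zero_iff two_ne_zero |>.1 h4)
  have hsum : ∀ h ∈ D.A 0, h ≠ 1 → ∑ χ ∈ E, (χ : G → ℂ) h = -ε := by
    intro h hh hh1
    rw [hs h hh hh1, hm]; push_cast; ring
  -- column orthogonality
  have hx : ∀ (g : G), (∀ k : G, k⁻¹ * g * k ∈ D.A 0 → g = 1) → ∀ x : ℂ,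
      (∀ χ ∈ E, (χ : G → ℂ) g = x) → ε * x = 1 + (D.St : G → ℂ) g := by
    intro g hg x hgx
    have hnc : ¬ IsConj g h₀ := by
      intro hc
      obtain ⟨c, hc⟩ := isConj_iff.1 hc
      have h2 : g = 1 := hg c⁻¹ (by rw [inv_inv, hc]; exact hh₀)
      apply hh₀1
      rw [← hc, h2]; group
    have h2 := col_zero hnc
    rw [split3 D.one_ne_St E h1E hStE, one_apply, one_apply, D.StA0 h₀ hh₀ hh₀1] at h2
    have h3 : ∑ χ ∈ E, (χ : G → ℂ) g * conj ((χ : G → ℂ) h₀) = x * -ε := by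
      rw [← hεc, ← map_neg, ← hsum h₀ hh₀ hh₀1, map_sum, Finset.mul_sum]
      exact Finset.sum_congr rfl (fun χ hχ => by rw [hgx χ hχ])
    have h4 : ∑ χ ∈ (insert one (insert D.St E))ᶜ, (χ : G → ℂ) g * conj ((χ : G → ℂ) h₀) = 0 :=
      Finset.sum_eq_zero (fun ψ hψ => by rw [hrest h₀ hh₀ hh₀1 ψ hψ, map_zero, mul_zero])
    rw [h3, h4] at h2
    simp only [map_one, mul_one, add_zero] at h2
    linear_combination -h2
  have hε1 : ε = 1 := by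
    have h2 := hx 1 (fun _ _ => rfl) z hz
    rw [D.St1] at h2
    rcases hε with h | h
    · exact h
    · exfalso
      rw [h] at h2
      have h3 : -(z : ℤ) = 1 + (q : ℤ) ^ 2 := by
        have : ((-(z : ℤ) : ℤ) : ℂ) = ((1 + (q : ℤ) ^ 2 : ℤ) : ℂ) := by
          push_cast; linear_combination h2
        exact_mod_cast this
      have : 0 ≤ (q : ℤ) ^ 2 := sq_nonneg _
      omega
  have hE : E.Nonempty := by
    rw [← Finset.card_pos, hcard]; omega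
  refine ⟨E, by rw [hcard]; omega, h1E, hStE, ?_, ?_, ?_, ?_, ?_, ?_, hnc⟩
  · intro χ hχ
    have h2 := hx 1 (fun _ _ => rfl) z hz
    rw [hε1, one_mul, D.St1] at h2
    rw [hz χ hχ, h2]; ring
  · intro g hg1 hg χ hχ
    have h2 := hx g (fun k hk => absurd hk (hg k)) _ (fun ξ hξ => hagree g hg ξ hξ χ hχ)
    rw [← h2, hε1, one_mul]
  · intro h hh hh1
    rw [hsum h hh hh1, hε1]
  · intro h hh hh1
    rw [hN h hh hh1, hm]; push_cast; ring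
  · intro χ hχ h hh hh1
    have h2 := hb χ hχ h hh hh1
    rw [hm] at h2
    simpa using h2
  · intro ψ hψ h1 h2 h hh hh1
    apply hrest h hh hh1
    simp [hψ, h1, h2]

end Data

end Cfsg.Agent.Lib.SzChr
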