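import Cfsg.Agent.Lib.SzChr3
import Cfsg.Agent.Lib.CharBasic2

set_option autoImplicit false
set_option linter.unusedSectionVars false

/-!
# Groups with the subgroup structure of `Sz(q)`: the cuspidal series (helper6)
-/

namespace Cfsg.Agent.Lib.SzChr

open scoped ComplexConjugate
open Cfsg Cfsg.Agent.Lib.CharBasic Cfsg.Agent.Lib.TIFN Cfsg.Agent.Lib.AbTI Cfsg.Agent.Lib.TICount

universe u

variable {G : Type u} [Group G] [Fintype G]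

/-- complex conjugation on irreducible characters -/
noncomputable def cj (χ : IrrCharacter G) : IrrCharacter G := ⟨fun g => conj ((χ : G → ℂ) g), χ.2.conj⟩

theorem cj_apply (χ : IrrCharacter G) (g : G) : (cj χ : G → ℂ) g = conj ((χ : G → ℂ) g) := rfl

theorem cj_cj (χ : IrrCharacter G) : cj (cj χ) = χ := by
  apply Subtype.ext
  funext g
  simp [cj]

/-- facts on the principal series -/
structure P0 {q r : ℕ} (D : Data G q r) (E : Finset (IrrCharacter G)) : Prop where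
  card : 2 * E.card + 2 = q
  one : one ∉ E
  St : D.St ∉ E
  deg : ∀ χ ∈ E, (χ : G → ℂ) 1 = (q : ℂ) ^ 2 + 1
  off : ∀ g, g ≠ 1 → (∀ k : G, k⁻¹ * g * k ∉ D.A 0) → ∀ χ ∈ E, (χ : G → ℂ) g = 1 + (D.St : G → ℂ) g
  sum : ∀ h ∈ D.A 0, h ≠ 1 → ∑ χ ∈ E, (χ : G → ℂ) h = -1
  norm : ∀ h ∈ D.A 0, h ≠ 1 → ∑ χ ∈ E, ‖(χ : G → ℂ) h‖ ^ 2 = (q : ℝ) - 3
  bound : ∀ χ ∈ E, ∀ h ∈ D.A 0, h ≠ 1 → ‖(χ : G → ℂ) h‖ ≤ 2
  rest : ∀ ψ : IrrCharacter G, ψ ∉ E → ψ ≠ SzChr.one → ψ ≠ D.St → ∀ h ∈ D.A 0, h ≠ 1 → (ψ : G → ℂ) h = 0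
  nonconst : ∀ χ ∈ E, ∀ c : ℂ, ∃ k ∈ D.A 0, k ≠ 1 ∧ (χ : G → ℂ) k ≠ c

/-- facts on the exceptional characters of `A i`, `i = 1, 2` -/
structure PX {q r : ℕ} (D : Data G q r) (i : Fin 3) (E0 E : Finset (IrrCharacter G)) (ε m : ℤ)
    (z : ℕ) : Prop where
  eps : ε = 1 ∨ ε = -1
  card : 4 * E.card + 1 = Nat.card (D.A i)
  one : one ∉ E
  St : D.St ∉ E
  disj : ∀ χ ∈ E, χ ∉ E0
  deg : ∀ χ ∈ E, (χ : G → ℂ) 1 = z
  zero : ∀ χ ∈ E, ∀ h ∈ D.A 0, h ≠ 1 → (χ : G → ℂ) h = 0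
  sum : ∀ k ∈ D.A i, k ≠ 1 → ∑ χ ∈ E, (χ : G → ℂ) k = ε * (-1 + m * E.card)
  norm : ∀ k ∈ D.A i, k ≠ 1 → ∑ χ ∈ E, ‖(χ : G → ℂ) k‖ ^ 2 =
    Nat.card (D.A i) - 4 - 2 * m + m ^ 2 * E.card
  const : ∀ ψ : IrrCharacter G, ψ ∉ E → ∃ c : ℤ, ∀ k ∈ D.A i, k ≠ 1 → (ψ : G → ℂ) k = c
  agree : ∀ g : G, (∀ k : G, k⁻¹ * g * k ∉ D.A i) → ∀ χ ∈ E, ∀ ξ ∈ E, (χ : G → ℂ) g = (ξ : G → ℂ) g
  bound : ∀ χ ∈ E, ∀ k ∈ D.A i, k ≠ 1 → ‖(χ : G → ℂ) k - ε * m‖ ≤ 4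
  nonconst : ∀ χ ∈ E, ∀ c : ℂ, ∃ k ∈ D.A i, k ≠ 1 ∧ (χ : G → ℂ) k ≠ c

namespace Data

variable {q r : ℕ} (D : Data G q r)
include D

theorem exists_P0 : ∃ E, P0 D E := by
  obtain ⟨E, h1, h2, h3, h4, h5, h6, h7, h8, h9, h10⟩ := D.stepA
  exact ⟨E, h1, h2, h3, h4, h5, h6, h7, h8, h9, h10⟩

theorem off_A {i j : Fin 3} (hij : i ≠ j) {a : G} (ha : a ∈ D.A i) (ha1 : a ≠ 1) (g : G) :
    g⁻¹ * a * g ∉ D.A j := D.hdis i j hij a ha ha1 g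

theorem StAi {i : Fin 3} (hi : i ≠ 0) {k : G} (hk : k ∈ D.A i) (hk1 : k ≠ 1) :
    (D.St : G → ℂ) k = -1 := by
  fin_cases i
  · exact absurd rfl hi
  · exact D.StA1 k hk hk1
  · exact D.StA2 k hk hk1

theorem P0_zero {E0 : Finset (IrrCharacter G)} (h0 : P0 D E0) {i : Fin 3} (hi : i ≠ 0)
    {χ : IrrCharacter G} (hχ : χ ∈ E0) {k : G} (hk : k ∈ D.A i) (hk1 : k ≠ 1) :
    (χ : G → ℂ) k = 0 := by
  rw [h0.off k hk1 (D.off_A hi hk hk1) χ hχ, D.StAi hi hk hk1]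
  ring

theorem exists_PX {E0 : Finset (IrrCharacter G)} (h0 : P0 D E0) {i : Fin 3} (hi : i ≠ 0)
    (h2 : 2 ≤ Nat.card (Rel (D.A i))) : ∃ E ε m z, PX D i E0 E ε m z := by
  classical
  have he : ((D.A i).subgroupOf (Subgroup.normalizer (D.A i : Set G))).index = 4 := by
    fin_cases i
    · exact absurd rfl hi
    · exact D.e1
    · exact D.e2
  have hrel := card_rel (D.A i) (D.hC i) (D.hab i)
  rw [he] at hrel
  obtain ⟨ε, E, m, z, hε, hcard, hz, hs, hn, hconst, hagree, hb, hnc⟩ :=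
    fam (D.A i) (D.hTI i) (D.hC i) (D.hab i) h2 he
  obtain ⟨e, he', hee⟩ : ∃ e : ℤ, ε = e ∧ (e = 1 ∨ e = -1) := by
    rcases hε with h | h
    · exact ⟨1, by simp [h], Or.inl rfl⟩
    · exact ⟨-1, by simp [h], Or.inr rfl⟩
  subst he'
  have h1E : one ∉ E := fun h => by
    obtain ⟨k, -, -, hk⟩ := hnc one h 1
    exact hk rfl
  have hStE : D.St ∉ E := fun h => by
    obtain ⟨k, hk, hk1, hk2⟩ := hnc D.St h (-1)
    exact hk2 (D.StAi hi hk hk1)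
  have hdisj : ∀ χ ∈ E, χ ∉ E0 := by
    intro χ hχ hχ0
    obtain ⟨k, hk, hk1, hk2⟩ := hnc χ hχ 0
    exact hk2 (D.P0_zero h0 hi hχ0 hk hk1)
  refine ⟨E, e, m, z, hee, by rw [hcard, ← hrel]; ring, h1E, hStE, hdisj, hz, ?_, ?_, ?_, hconst,
    hagree, ?_, hnc⟩
  · intro χ hχ h hh hh1
    exact h0.rest χ (hdisj χ hχ) (fun h => h1E (h ▸ hχ)) (fun h => hStE (h ▸ hχ)) h hh hh1
  · intro k hk hk1
    rw [hs k hk hk1, hcard]
  · intro k hk hk1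
    have h2 := hn k hk hk1
    have h3 : ((∑ χ ∈ E, ‖(χ : G → ℂ) k‖ ^ 2 : ℝ) : ℂ) =
        ((((Nat.card (D.A i) : ℝ) - 4 - 2 * m + m ^ 2 * E.card) : ℝ) : ℂ) := by
      push_cast
      have h4 : ∑ χ ∈ E, (χ : G → ℂ) k * conj ((χ : G → ℂ) k) =
          ∑ χ ∈ E, (‖(χ : G → ℂ) k‖ : ℂ) ^ 2 := by
        apply Finset.sum_congr rfl
        intro χ _
        rw [mul_conj_sq]; push_cast; rfl
      rw [← h4, h2, hcard]
      push_cast; ring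
    exact_mod_cast h3
  · intro χ hχ k hk hk1
    exact_mod_cast hb χ hχ k hk hk1

/-- the number of characters outside `E0`, `E1` -/
theorem card_rest {E0 E1 : Finset (IrrCharacter G)} (h0 : P0 D E0) {ε m : ℤ} {z : ℕ}
    (h1 : PX D 1 E0 E1 ε m z) [DecidableEq (IrrCharacter G)] :
    4 * ((insert one (insert D.St (E0 ∪ E1)))ᶜ : Finset (IrrCharacter G)).card + r = q + 8 := by
  have hd : Disjoint E0 E1 := by
    rw [Finset.disjoint_right]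
    exact h1.disj
  have e1 := Finset.card_add_card_compl (insert one (insert D.St (E0 ∪ E1)) : Finset (IrrCharacter G))
  have e2 : (insert one (insert D.St (E0 ∪ E1)) : Finset (IrrCharacter G)).card =
      E0.card + E1.card + 2 := by
    rw [Finset.card_insert_of_notMem, Finset.card_insert_of_notMem, Finset.card_union_of_disjoint hd]
    · simp [h0.St, h1.St]
    · simp [h0.one, h1.one, D.one_ne_St]
  have e3 := D.card_irr_eq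
  rw [Nat.card_eq_fintype_card] at e3
  have e4 := h0.card
  have e5 := h1.card
  rw [D.a1] at e5
  omega

theorem split4 {M : Type*} [AddCommMonoid M] {E0 E1 : Finset (IrrCharacter G)} (h0 : P0 D E0)
    {ε m : ℤ} {z : ℕ} {i : Fin 3} (h1 : PX D i E0 E1 ε m z) [DecidableEq (IrrCharacter G)]
    (F : IrrCharacter G → M) :
    ∑ χ, F χ = F one + F D.St + ∑ χ ∈ E0, F χ + ∑ χ ∈ E1, F χ +
      ∑ χ ∈ (insert one (insert D.St (E0 ∪ E1)))ᶜ, F χ := by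
  have hd : Disjoint E0 E1 := by
    rw [Finset.disjoint_right]
    exact h1.disj
  have h := split3 D.one_ne_St (E0 ∪ E1) (by simp [h0.one, h1.one]) (by simp [h0.St, h1.St]) F
  rw [Finset.sum_union hd, ← add_assoc] at h
  convert h using 3
  ext x
  simp

/-- norm relation on `A i`: the constant values on the other characters -/
theorem rel_norm {E0 E1 : Finset (IrrCharacter G)} (h0 : P0 D E0)
    {ε m : ℤ} {z : ℕ} {i : Fin 3} (hi : i ≠ 0) (h1 : PX D i E0 E1 ε m z)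
    [DecidableEq (IrrCharacter G)] (c : IrrCharacter G → ℤ)
    (hc : ∀ ψ : IrrCharacter G, ψ ∉ E1 → ∀ k ∈ D.A i, k ≠ 1 → (ψ : G → ℂ) k = c ψ) :
    ∑ χ ∈ (insert one (insert D.St (E0 ∪ E1)))ᶜ, (c χ) ^ 2 + m ^ 2 * E1.card - 2 * m = 2 := by
  obtain ⟨k, hk, hk1⟩ := D.exists_A i (D.one_lt_A i)
  have h2 := col_norm k
  rw [D.split4 h0 h1, cent_A (D.hC i) (D.hab i) hk hk1, one_apply, D.StAi hi hk hk1,
    h1.norm k hk hk1, Finset.sum_eq_zero (s := E0) (fun χ hχ => by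
      rw [D.P0_zero h0 hi hχ hk hk1]; simp)] at h2
  have h3 : ∑ χ ∈ (insert one (insert D.St (E0 ∪ E1)))ᶜ, ‖(χ : G → ℂ) k‖ ^ 2 =
      ((∑ χ ∈ (insert one (insert D.St (E0 ∪ E1)))ᶜ, (c χ) ^ 2 : ℤ) : ℝ) := by
    push_cast
    apply Finset.sum_congr rfl
    intro χ hχ
    rw [hc χ (by simp at hχ; tauto) k hk hk1]
    rw [Complex.norm_intCast, sq_abs]
  rw [h3] at h2
  have h4 : ((∑ χ ∈ (insert one (insert D.St (E0 ∪ E1)))ᶜ, (c χ) ^ 2 + m ^ 2 * E1.card - 2 * m : ℤ) : ℝ) =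
      ((2 : ℤ) : ℝ) := by
    push_cast
    push_cast at h2
    simp only [norm_one, norm_neg, one_pow] at h2
    linarith
  exact_mod_cast h4

theorem cj_P0 {E0 : Finset (IrrCharacter G)} (h0 : P0 D E0) {χ : IrrCharacter G} (hχ : χ ∈ E0) :
    cj χ ∈ E0 := by
  by_contra hcon
  have hc : ∃ c : ℂ, ∀ k ∈ D.A 0, k ≠ 1 → (cj χ : G → ℂ) k = c := by
    by_cases h1 : cj χ = one
    · exact ⟨1, fun k _ _ => by rw [h1]; rfl⟩
    by_cases h2 : cj χ = D.St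
    · exact ⟨1, fun k hk hk1 => by rw [h2]; exact D.StA0 k hk hk1⟩
    exact ⟨0, fun k hk hk1 => h0.rest _ hcon h1 h2 k hk hk1⟩
  obtain ⟨c, hc⟩ := hc
  obtain ⟨k, hk, hk1, hk2⟩ := h0.nonconst χ hχ (conj c)
  apply hk2
  rw [← hc k hk hk1, cj_apply, Complex.conj_conj]

theorem cj_PX {i : Fin 3} {E0 E : Finset (IrrCharacter G)} {ε m : ℤ} {z : ℕ}
    (h1 : PX D i E0 E ε m z) {χ : IrrCharacter G} (hχ : χ ∈ E) : cj χ ∈ E := by
  by_contra hcon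
  obtain ⟨c, hc⟩ := h1.const _ hcon
  obtain ⟨k, hk, hk1, hk2⟩ := h1.nonconst χ hχ c
  apply hk2
  have h3 := hc k hk hk1
  rw [cj_apply] at h3
  rw [← Complex.conj_conj ((χ : G → ℂ) k), h3]
  exact map_intCast _ c

end Data

end Cfsg.Agent.Lib.SzChr
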