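import Cfsg.Agent.Lib.SzChr4

set_option autoImplicit false
set_option linter.unusedSectionVars false

/-!
# Groups with the subgroup structure of `Sz(q)`: shape of the character table (helper6)
-/

namespace Cfsg.Agent.Lib.SzChr

open scoped ComplexConjugate
open Cfsg Cfsg.Agent.Lib.CharBasic Cfsg.Agent.Lib.TIFN Cfsg.Agent.Lib.AbTI Cfsg.Agent.Lib.TICount

universe u

variable {G : Type u} [Group G] [Fintype G]

/-- shape of the character table -/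
structure Tab {q r : ℕ} (D : Data G q r) (E0 E1 E2 : Finset (IrrCharacter G)) (W1 W2 : IrrCharacter G)
    (ε1 ε2 : ℤ) (z1 z2 : ℕ) (w1 w2 : ℤ) : Prop where
  p0 : P0 D E0
  p1 : PX D 1 E0 E1 ε1 0 z1
  hW : W1 ≠ W2
  hW1 : W1 ∉ E2
  hW2 : W2 ∉ E2
  mem : ∀ ψ : IrrCharacter G, (ψ ≠ one ∧ ψ ≠ D.St ∧ ψ ∉ E0 ∧ ψ ∉ E1) ↔ (ψ = W1 ∨ ψ = W2 ∨ ψ ∈ E2)
  E1_2 : ∀ χ ∈ E1, ∀ k ∈ D.A 2, k ≠ 1 → (χ : G → ℂ) k = 0
  eps2 : ε2 = 1 ∨ ε2 = -1
  card2 : 4 * E2.card + 1 = Nat.card (D.A 2)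
  deg2 : ∀ χ ∈ E2, (χ : G → ℂ) 1 = z2
  sum2 : ∀ k ∈ D.A 2, k ≠ 1 → ∑ χ ∈ E2, (χ : G → ℂ) k = -ε2
  norm2 : ∀ k ∈ D.A 2, k ≠ 1 → ∑ χ ∈ E2, ‖(χ : G → ℂ) k‖ ^ 2 = Nat.card (D.A 2) - 4
  bound2 : ∀ χ ∈ E2, ∀ k ∈ D.A 2, k ≠ 1 → ‖(χ : G → ℂ) k‖ ≤ 4
  agree2 : ∀ g : G, (∀ k : G, k⁻¹ * g * k ∉ D.A 2) → ∀ χ ∈ E2, ∀ ξ ∈ E2, (χ : G → ℂ) g = (ξ : G → ℂ) g
  E2_1 : ∀ χ ∈ E2, ∀ k ∈ D.A 1, k ≠ 1 → (χ : G → ℂ) k = 0
  cj2 : ∀ χ ∈ E2, cj χ ∈ E2
  w1s : w1 ^ 2 = 1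
  w2s : w2 ^ 2 = 1
  W1_1 : ∀ k ∈ D.A 1, k ≠ 1 → (W1 : G → ℂ) k = w1
  W2_1 : ∀ k ∈ D.A 1, k ≠ 1 → (W2 : G → ℂ) k = w2
  W1_2 : ∀ k ∈ D.A 2, k ≠ 1 → (W1 : G → ℂ) k = -w1
  W2_2 : ∀ k ∈ D.A 2, k ≠ 1 → (W2 : G → ℂ) k = -w2

namespace Data

variable {q r : ℕ} (D : Data G q r)
include D

theorem not_conj_A {i j : Fin 3} (hij : i ≠ j) {a b : G} (ha : a ∈ D.A i) (ha1 : a ≠ 1)
    (hb : b ∈ D.A j) : ¬ IsConj a b := by
  intro h
  obtain ⟨c, hc⟩ := isConj_iff.1 h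
  apply D.off_A hij ha ha1 c⁻¹
  rw [inv_inv, hc]
  exact hb

/-- a choice of constant values -/
theorem exists_val {i : Fin 3} {E0 E1 : Finset (IrrCharacter G)} {ε m : ℤ} {z : ℕ}
    (h1 : PX D i E0 E1 ε m z) : ∃ c : IrrCharacter G → ℤ,
      ∀ ψ : IrrCharacter G, ψ ∉ E1 → ∀ k ∈ D.A i, k ≠ 1 → (ψ : G → ℂ) k = c ψ := by
  classical
  refine ⟨fun ψ => if h : ψ ∉ E1 then (h1.const ψ h).choose else 0, fun ψ hψ => ?_⟩
  simp only [dif_pos hψ]
  exact (h1.const ψ hψ).choose_spec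

omit D in
theorem neg_ones {x y : ℤ} (hx : x ^ 2 = 1) (hy : y ^ 2 = 1) (h : 2 + x + y = 0) :
    x = -1 ∧ y = -1 := by
  have h1 : y = -2 - x := by linarith
  rw [h1] at hy
  have h2 : x = -1 := by nlinarith
  exact ⟨h2, by omega⟩

theorem two_one {a b : ℤ} (h : a ^ 2 + b ^ 2 = 2) : a ^ 2 = 1 ∧ b ^ 2 = 1 := by
  have ha : a ^ 2 ≤ 2 := by nlinarith [sq_nonneg b]
  have hb : b ^ 2 ≤ 2 := by nlinarith [sq_nonneg a]
  have ha1 : -1 ≤ a := by nlinarith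
  have ha2 : a ≤ 1 := by nlinarith
  have hb1 : -1 ≤ b := by nlinarith
  have hb2 : b ≤ 1 := by nlinarith
  interval_cases a <;> interval_cases b <;> simp_all

theorem small_m {m : ℤ} {n : ℕ} (hn : 5 ≤ n) {s : ℤ} (hs : 0 ≤ s) (h : s + m ^ 2 * n - 2 * m = 2) :
    m = 0 ∧ s = 2 := by
  have hn' : (5 : ℤ) ≤ n := by exact_mod_cast hn
  have h1 : m ^ 2 * 5 ≤ m ^ 2 * n := mul_le_mul_of_nonneg_left hn' (sq_nonneg m)
  have hm1 : -1 ≤ m := by nlinarith [sq_nonneg m]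
  have hm2 : m ≤ 1 := by nlinarith [sq_nonneg m]
  have hm : m = 0 := by
    rcases lt_trichotomy m 0 with h2 | h2 | h2
    · nlinarith
    · exact h2
    · nlinarith
  subst hm
  refine ⟨rfl, ?_⟩
  simpa using h

set_option maxHeartbeats 1000000 in
theorem tab_big (hN : 2 ≤ Nat.card (Rel (D.A 2))) :
    ∃ E0 E1 E2 W1 W2 ε1 ε2 z1 z2 w1 w2, Tab D E0 E1 E2 W1 W2 ε1 ε2 z1 z2 w1 w2 := by
  classical
  obtain ⟨E0, h0⟩ := D.exists_P0
  have hr1 := D.rel1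
  have hr2 := D.rel2
  have hcN : 6 ≤ Nat.card (Rel (D.A 2)) ∧ 5 ≤ Nat.card (Rel (D.A 1)) := by
    obtain ⟨t, ht, ht1, ht2⟩ := D.exists_t
    have ht3 : 2 ≤ t := by
      by_contra hcon
      have : t = 1 := by omega
      subst this
      omega
    constructor
    · have : 8 * t ^ 2 ≥ 4 * t + 24 := by nlinarith
      omega
    · have : 8 * t ^ 2 ≥ 24 := by nlinarith
      omega
  obtain ⟨E1, ε1, m1, z1, h1⟩ := D.exists_PX h0 (i := 1) (by decide) (by omega)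
  obtain ⟨E2, ε2, m2, z2, h2⟩ := D.exists_PX h0 (i := 2) (by decide) hN
  have hc1 := h1.card
  have hc2 := h2.card
  have ha1 := D.a1
  have ha2 := D.a2
  have hcE1 : E1.card = Nat.card (Rel (D.A 1)) := by omega
  have hcE2 : E2.card = Nat.card (Rel (D.A 2)) := by omega
  have hrp := D.r_pos
  obtain ⟨u, hu⟩ := D.exists_val h1
  obtain ⟨v, hv⟩ := D.exists_val h2
  obtain ⟨k, hk, hk1⟩ := D.exists_A 1 (D.one_lt_A 1)
  obtain ⟨y, hy, hy1⟩ := D.exists_A 2 (D.one_lt_A 2)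
  -- disjointness
  have hd : ∀ χ ∈ E2, χ ∉ E1 := by
    intro ψ hψ2 hψ1
    have hsub : E1 ⊆ E2 := by
      intro χ hχ
      by_contra hcon
      obtain ⟨b, hb, hb1, hb2⟩ := h2.nonconst ψ hψ2 (v χ)
      apply hb2
      rw [h1.agree b (D.off_A (by decide) hb hb1) ψ hψ1 χ hχ]
      exact hv χ hcon b hb hb1
    have := Finset.card_le_card hsub
    omega
  have hd' : ∀ χ ∈ E1, χ ∉ E2 := fun χ h h' => hd χ h' h
  have hE2sub : E2 ⊆ (insert one (insert D.St (E0 ∪ E1)))ᶜ := by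
    intro χ hχ
    simp only [Finset.mem_compl, Finset.mem_insert, Finset.mem_union, not_or]
    exact ⟨fun h => h2.one (h ▸ hχ), fun h => h2.St (h ▸ hχ), h2.disj χ hχ, hd χ hχ⟩
  have hE1sub : E1 ⊆ (insert one (insert D.St (E0 ∪ E2)))ᶜ := by
    intro χ hχ
    simp only [Finset.mem_compl, Finset.mem_insert, Finset.mem_union, not_or]
    exact ⟨fun h => h1.one (h ▸ hχ), fun h => h1.St (h ▸ hχ), h1.disj χ hχ, hd' χ hχ⟩
  have hRc : ((insert one (insert D.St (E0 ∪ E1)))ᶜ \ E2).card = 2 := by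
    rw [Finset.card_sdiff_of_subset hE2sub]
    have := D.card_rest h0 h1
    omega
  have hReq : (insert one (insert D.St (E0 ∪ E2)))ᶜ \ E1 = (insert one (insert D.St (E0 ∪ E1)))ᶜ \ E2 := by
    ext χ
    simp only [Finset.mem_sdiff, Finset.mem_compl, Finset.mem_insert, Finset.mem_union, not_or]
    tauto
  obtain ⟨W1, W2, hW, hR⟩ := Finset.card_eq_two.1 hRc
  have hsplit : ∀ {M : Type} [AddCommMonoid M] (F : IrrCharacter G → M),
      ∑ χ ∈ (insert one (insert D.St (E0 ∪ E1)))ᶜ, F χ = F W1 + F W2 + ∑ χ ∈ E2, F χ := by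
    intro M _ F
    rw [← Finset.sum_sdiff hE2sub, hR, Finset.sum_pair hW]
  have hsplit' : ∀ {M : Type} [AddCommMonoid M] (F : IrrCharacter G → M),
      ∑ χ ∈ (insert one (insert D.St (E0 ∪ E2)))ᶜ, F χ = F W1 + F W2 + ∑ χ ∈ E1, F χ := by
    intro M _ F
    rw [← Finset.sum_sdiff hE1sub, hReq, hR, Finset.sum_pair hW]
  have hW1R : W1 ∈ (insert one (insert D.St (E0 ∪ E1)))ᶜ \ E2 := by rw [hR]; simp
  have hW2R : W2 ∈ (insert one (insert D.St (E0 ∪ E1)))ᶜ \ E2 := by rw [hR]; simp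
  simp only [Finset.mem_sdiff, Finset.mem_compl, Finset.mem_insert, Finset.mem_union, not_or] at hW1R hW2R
  -- norm relations
  have n1 := D.rel_norm h0 (by decide) h1 u hu
  have n2 := D.rel_norm h0 (by decide) h2 v hv
  rw [hsplit] at n1
  rw [hsplit'] at n2
  have hu0 : ∀ χ ∈ E2, 0 ≤ (u χ) ^ 2 := fun _ _ => sq_nonneg _
  have hv0 : ∀ χ ∈ E1, 0 ≤ (v χ) ^ 2 := fun _ _ => sq_nonneg _
  have s1 : 0 ≤ ∑ χ ∈ E2, (u χ) ^ 2 := Finset.sum_nonneg hu0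
  have s2 : 0 ≤ ∑ χ ∈ E1, (v χ) ^ 2 := Finset.sum_nonneg hv0
  obtain ⟨hm1, t1⟩ := D.small_m (by omega) (by nlinarith [sq_nonneg (u W1), sq_nonneg (u W2)]) n1
  obtain ⟨hm2, t2⟩ := D.small_m (by omega) (by nlinarith [sq_nonneg (v W1), sq_nonneg (v W2)]) n2
  have uE2 : ∀ χ ∈ E2, u χ = 0 := by
    intro χ hχ
    by_contra hne
    have h3 : ∀ ξ ∈ E2, (1 : ℤ) ≤ (u ξ) ^ 2 := by
      intro ξ hξ
      have h4 := h2.agree k (D.off_A (by decide) hk hk1) χ hχ ξ hξ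
      rw [hu χ (hd χ hχ) k hk hk1, hu ξ (hd ξ hξ) k hk hk1] at h4
      have h5 : u χ = u ξ := by exact_mod_cast h4
      rw [← h5]
      have := sq_nonneg (u χ)
      have h6 : (u χ) ^ 2 ≠ 0 := pow_ne_zero 2 hne
      omega
    have h4 := Finset.sum_le_sum h3
    rw [Finset.sum_const, nsmul_eq_mul, mul_one] at h4
    have h5 : (6 : ℤ) ≤ (E2.card : ℤ) := by omega
    nlinarith [sq_nonneg (u W1), sq_nonneg (u W2)]
  have vE1 : ∀ χ ∈ E1, v χ = 0 := by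
    intro χ hχ
    by_contra hne
    have h3 : ∀ ξ ∈ E1, (1 : ℤ) ≤ (v ξ) ^ 2 := by
      intro ξ hξ
      have h4 := h1.agree y (D.off_A (by decide) hy hy1) χ hχ ξ hξ
      rw [hv χ (hd' χ hχ) y hy hy1, hv ξ (hd' ξ hξ) y hy hy1] at h4
      have h5 : v χ = v ξ := by exact_mod_cast h4
      rw [← h5]
      have := sq_nonneg (v χ)
      have h6 : (v χ) ^ 2 ≠ 0 := pow_ne_zero 2 hne
      omega
    have h4 := Finset.sum_le_sum h3
    rw [Finset.sum_const, nsmul_eq_mul, mul_one] at h4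
    have h5 : (5 : ℤ) ≤ (E1.card : ℤ) := by omega
    nlinarith [sq_nonneg (v W1), sq_nonneg (v W2)]
  rw [Finset.sum_eq_zero (s := E2) (fun χ hχ => by rw [uE2 χ hχ]; norm_num), add_zero] at t1
  rw [Finset.sum_eq_zero (s := E1) (fun χ hχ => by rw [vE1 χ hχ]; norm_num), add_zero] at t2
  obtain ⟨a1, a2⟩ := D.two_one t1
  obtain ⟨b1, b2⟩ := D.two_one t2
  -- cross relation
  have hcross := col_zero (D.not_conj_A (i := 1) (j := 2) (by decide) hk hk1 hy)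
  rw [D.split4 h0 h1, hsplit, one_apply, one_apply, D.StA1 k hk hk1, D.StA2 y hy hy1,
    Finset.sum_eq_zero (s := E0) (fun χ hχ => by
      rw [D.P0_zero h0 (by decide) hχ hk hk1, zero_mul]),
    Finset.sum_eq_zero (s := E1) (fun χ hχ => by
      rw [hv χ (hd' χ hχ) y hy hy1, vE1 χ hχ]; simp),
    Finset.sum_eq_zero (s := E2) (fun χ hχ => by
      rw [hu χ (hd χ hχ) k hk hk1, uE2 χ hχ]; simp),
    hu W1 hW1R.1.2.2.2 k hk hk1, hu W2 hW2R.1.2.2.2 k hk hk1,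
    hv W1 hW1R.2 y hy hy1, hv W2 hW2R.2 y hy hy1] at hcross
  have hcr : 2 + u W1 * v W1 + u W2 * v W2 = 0 := by
    have h3 : ((2 + u W1 * v W1 + u W2 * v W2 : ℤ) : ℂ) = ((0 : ℤ) : ℂ) := by
      push_cast
      simp only [map_one, map_neg, map_intCast] at hcross
      linear_combination hcross
    exact_mod_cast h3
  have p1 : v W1 = -u W1 ∧ v W2 = -u W2 := by
    have e1 : (u W1 * v W1) ^ 2 = 1 := by rw [mul_pow, a1, b1]; norm_num
    have e2 : (u W2 * v W2) ^ 2 = 1 := by rw [mul_pow, a2, b2]; norm_num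
    obtain ⟨f1, f2⟩ := neg_ones e1 e2 hcr
    constructor
    · have : u W1 * (u W1 * v W1) = - u W1 := by rw [f1]; ring
      rw [← mul_assoc, ← sq, a1, one_mul] at this
      exact this
    · have : u W2 * (u W2 * v W2) = - u W2 := by rw [f2]; ring
      rw [← mul_assoc, ← sq, a2, one_mul] at this
      exact this
  subst hm1
  subst hm2
  refine ⟨E0, E1, E2, W1, W2, ε1, ε2, z1, z2, u W1, u W2, ?_⟩
  exact
    { p0 := h0
      p1 := h1
      hW := hW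
      hW1 := hW1R.2
      hW2 := hW2R.2
      mem := by
        intro ψ
        constructor
        · rintro ⟨g1, g2, g3, g4⟩
          by_cases g5 : ψ ∈ E2
          · exact Or.inr (Or.inr g5)
          · have : ψ ∈ (insert one (insert D.St (E0 ∪ E1)))ᶜ \ E2 := by
              simp only [Finset.mem_sdiff, Finset.mem_compl, Finset.mem_insert, Finset.mem_union, not_or]
              exact ⟨⟨g1, g2, g3, g4⟩, g5⟩
            rw [hR] at this
            simp only [Finset.mem_insert, Finset.mem_singleton] at this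
            tauto
        · rintro (rfl | rfl | h)
          · exact hW1R.1
          · exact hW2R.1
          · exact ⟨fun h' => h2.one (h' ▸ h), fun h' => h2.St (h' ▸ h), h2.disj ψ h, hd ψ h⟩
      E1_2 := fun χ hχ k hk hk1 => by rw [hv χ (hd' χ hχ) k hk hk1, vE1 χ hχ]; simp
      eps2 := h2.eps
      card2 := h2.card
      deg2 := h2.deg
      sum2 := fun k hk hk1 => by rw [h2.sum k hk hk1]; push_cast; ring
      norm2 := fun k hk hk1 => by rw [h2.norm k hk hk1]; push_cast; ring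
      bound2 := fun χ hχ k hk hk1 => by have := h2.bound χ hχ k hk hk1; simpa using this
      agree2 := h2.agree
      E2_1 := fun χ hχ k hk hk1 => by rw [hu χ (hd χ hχ) k hk hk1, uE2 χ hχ]; simp
      cj2 := fun χ hχ => D.cj_PX h2 hχ
      w1s := a1
      w2s := a2
      W1_1 := fun k hk hk1 => hu W1 hW1R.1.2.2.2 k hk hk1
      W2_1 := fun k hk hk1 => hu W2 hW2R.1.2.2.2 k hk hk1
      W1_2 := fun k hk hk1 => by rw [hv W1 hW1R.2 k hk hk1, p1.1]; push_cast; ring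
      W2_2 := fun k hk hk1 => by rw [hv W2 hW2R.2 k hk hk1, p1.2]; push_cast; ring }

end Data

end Cfsg.Agent.Lib.SzChr
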