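import Cfsg.Agent.Lib.SzChr5

set_option autoImplicit false
set_option linter.unusedSectionVars false

/-!
# Groups with the subgroup structure of `Sz(q)`: the case `q = 8` (helper6)
-/

namespace Cfsg.Agent.Lib.SzChr

open scoped ComplexConjugate
open Cfsg Cfsg.Agent.Lib.CharBasic Cfsg.Agent.Lib.TIFN Cfsg.Agent.Lib.AbTI Cfsg.Agent.Lib.TICount

universe u

theorem sq_le_one_of {a : ℤ} (h : a ^ 2 ≤ 3) : a = 0 ∨ a = 1 ∨ a = -1 := by
  have h1 : -1 ≤ a := by nlinarith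
  have h2 : a ≤ 1 := by nlinarith
  omega

theorem arith8a {m u1 u2 u3 v1 v2 v3 y ε : ℤ}
    (hε : ε = 1 ∨ ε = -1)
    (h1 : u1 ^ 2 + u2 ^ 2 + u3 ^ 2 + m ^ 2 * 3 - 2 * m = 2)
    (h2 : 3 * y ^ 2 + v1 ^ 2 + v2 ^ 2 + v3 ^ 2 = 3)
    (h3 : 2 + y * (ε * (-1 + m * 3)) + u1 * v1 + u2 * v2 + u3 * v3 = 0) :
    (m = 0 ∧ y = 0 ∧ v1 ^ 2 = 1 ∧ v2 ^ 2 = 1 ∧ v3 ^ 2 = 1 ∧
      ((u3 = 0 ∧ u1 ^ 2 = 1 ∧ u2 ^ 2 = 1 ∧ v1 = -u1 ∧ v2 = -u2) ∨
       (u2 = 0 ∧ u1 ^ 2 = 1 ∧ u3 ^ 2 = 1 ∧ v1 = -u1 ∧ v3 = -u3) ∨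
       (u1 = 0 ∧ u2 ^ 2 = 1 ∧ u3 ^ 2 = 1 ∧ v2 = -u2 ∧ v3 = -u3))) ∨
    (m = 1 ∧ y * ε = -1 ∧ v1 = 0 ∧ v2 = 0 ∧ v3 = 0 ∧ u1 ^ 2 + u2 ^ 2 + u3 ^ 2 = 1) := by
  have hm : m = 0 ∨ m = 1 := by
    have a1 : m ^ 2 * 3 - 2 * m ≤ 2 := by nlinarith [sq_nonneg u1, sq_nonneg u2, sq_nonneg u3]
    have a2 : -1 < m := by nlinarith
    have a3 : m < 2 := by nlinarith
    omega
  have hy : y = 0 ∨ y = 1 ∨ y = -1 := sq_le_one_of (by nlinarith [sq_nonneg v1, sq_nonneg v2, sq_nonneg v3, sq_nonneg y])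
  have hv1 : v1 = 0 ∨ v1 = 1 ∨ v1 = -1 := sq_le_one_of (by nlinarith [sq_nonneg v2, sq_nonneg v3, sq_nonneg y])
  have hv2 : v2 = 0 ∨ v2 = 1 ∨ v2 = -1 := sq_le_one_of (by nlinarith [sq_nonneg v1, sq_nonneg v3, sq_nonneg y])
  have hv3 : v3 = 0 ∨ v3 = 1 ∨ v3 = -1 := sq_le_one_of (by nlinarith [sq_nonneg v1, sq_nonneg v2, sq_nonneg y])
  have hu : u1 ^ 2 + u2 ^ 2 + u3 ^ 2 ≤ 2 := by rcases hm with rfl | rfl <;> linarith
  have hu1 : u1 = 0 ∨ u1 = 1 ∨ u1 = -1 := sq_le_one_of (by nlinarith [sq_nonneg u2, sq_nonneg u3])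
  have hu2 : u2 = 0 ∨ u2 = 1 ∨ u2 = -1 := sq_le_one_of (by nlinarith [sq_nonneg u1, sq_nonneg u3])
  have hu3 : u3 = 0 ∨ u3 = 1 ∨ u3 = -1 := sq_le_one_of (by nlinarith [sq_nonneg u1, sq_nonneg u2])
  rcases hy with rfl | hy
  · have hv : v1 ≠ 0 ∧ v2 ≠ 0 ∧ v3 ≠ 0 := by
      refine ⟨?_, ?_, ?_⟩ <;> rintro rfl <;> rcases hv1 with h | h | h <;> rcases hv2 with h' | h' | h' <;>
        rcases hv3 with h'' | h'' | h'' <;> subst_vars <;> norm_num at *
    replace hv1 := hv1.resolve_left hv.1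
    replace hv2 := hv2.resolve_left hv.2.1
    replace hv3 := hv3.resolve_left hv.2.2
    clear h2 hε
    rw [zero_mul, add_zero] at h3
    left
    rcases hm with rfl | rfl <;> rcases hu1 with rfl | rfl | rfl <;> rcases hu2 with rfl | rfl | rfl <;>
      rcases hu3 with rfl | rfl | rfl <;> norm_num at h1 <;> rcases hv1 with rfl | rfl <;>
      rcases hv2 with rfl | rfl <;> rcases hv3 with rfl | rfl <;>
      first | (exfalso; revert h3; norm_num; done) | norm_num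
  · have hy2 : y ^ 2 = 1 := by rcases hy with rfl | rfl <;> norm_num
    rw [hy2] at h2
    have w1 : v1 = 0 := by
      have : v1 ^ 2 = 0 := by nlinarith [sq_nonneg v1, sq_nonneg v2, sq_nonneg v3]
      exact pow_eq_zero_iff two_ne_zero |>.1 this
    have w2 : v2 = 0 := by
      have : v2 ^ 2 = 0 := by nlinarith [sq_nonneg v1, sq_nonneg v2, sq_nonneg v3]
      exact pow_eq_zero_iff two_ne_zero |>.1 this
    have w3 : v3 = 0 := by
      have : v3 ^ 2 = 0 := by nlinarith [sq_nonneg v1, sq_nonneg v2, sq_nonneg v3]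
      exact pow_eq_zero_iff two_ne_zero |>.1 this
    subst w1 w2 w3
    right
    rcases hm with rfl | rfl
    · exfalso
      rcases hy with rfl | rfl <;> rcases hε with rfl | rfl <;> norm_num at h3
    · refine ⟨rfl, ?_, rfl, rfl, rfl, by linarith⟩
      rcases hy with rfl | rfl <;> rcases hε with rfl | rfl <;>
      first | (exfalso; revert h3; norm_num; done) | norm_num

theorem arith8b {y ε z A B C u1 u2 u3 : ℤ} (hε : ε = 1 ∨ ε = -1) (hA : 0 < A) (hB : 0 < B) (hC : 0 < C)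
    (hz : 0 < z)
    (hy : y * ε = -1) (hu : u1 ^ 2 + u2 ^ 2 + u3 ^ 2 = 1)
    (h4 : 1 - 64 + z * (ε * (-1 + 1 * 3)) + u1 * A + u2 * B + u3 * C = 0)
    (h5 : 1 - 64 + 3 * y * z = 0)
    (h6 : 3 * z ^ 2 + A ^ 2 + B ^ 2 + C ^ 2 = 12348) : False := by
  have e1 : ε = -1 ∧ y = 1 ∧ z = 21 := by
    rcases hε with rfl | rfl
    · have : y = -1 := by linarith
      subst this; omega
    · have : y = 1 := by linarith
      subst this; omega
  obtain ⟨rfl, rfl, rfl⟩ := e1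
  have hu1 : u1 = 0 ∨ u1 = 1 ∨ u1 = -1 := sq_le_one_of (by nlinarith [sq_nonneg u2, sq_nonneg u3])
  have hu2 : u2 = 0 ∨ u2 = 1 ∨ u2 = -1 := sq_le_one_of (by nlinarith [sq_nonneg u1, sq_nonneg u3])
  have hu3 : u3 = 0 ∨ u3 = 1 ∨ u3 = -1 := sq_le_one_of (by nlinarith [sq_nonneg u1, sq_nonneg u2])
  have hcase : A = 105 ∨ B = 105 ∨ C = 105 := by
    rcases hu1 with rfl | rfl | rfl <;> rcases hu2 with rfl | rfl | rfl <;>
      rcases hu3 with rfl | rfl | rfl <;> norm_num at hu <;> omega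
  rcases hcase with rfl | rfl | rfl <;> nlinarith

variable {G : Type u} [Group G] [Fintype G]

namespace Data

variable (D : Data G 8 4)

/-- assembling the table for `q = 8` -/
theorem mk8 {E0 E1 : Finset (IrrCharacter G)} {ε : ℤ} {z : ℕ} (h0 : P0 D E0)
    (h1 : PX D 1 E0 E1 ε 0 z) [DecidableEq (IrrCharacter G)] {W1 W2 c : IrrCharacter G} (hW : W1 ≠ W2)
    (hc1 : W1 ≠ c) (hc2 : W2 ≠ c)
    (hR : ∀ ψ : IrrCharacter G, (ψ ≠ one ∧ ψ ≠ D.St ∧ ψ ∉ E0 ∧ ψ ∉ E1) ↔ (ψ = W1 ∨ ψ = W2 ∨ ψ = c))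
    (u v : IrrCharacter G → ℤ)
    (hu : ∀ ψ : IrrCharacter G, ψ ∉ E1 → ∀ k ∈ D.A 1, k ≠ 1 → (ψ : G → ℂ) k = u ψ)
    (hv : ∀ ψ : IrrCharacter G, ∀ k ∈ D.A 2, k ≠ 1 → (ψ : G → ℂ) k = v ψ)
    (hv1 : ∀ χ ∈ E1, v χ = 0) (uc : u c = 0) (vc : v c ^ 2 = 1)
    (u1 : u W1 ^ 2 = 1) (u2 : u W2 ^ 2 = 1) (v1 : v W1 = - u W1) (v2 : v W2 = - u W2) :
    ∃ E0 E1 E2 W1 W2 ε1 ε2 z1 z2 w1 w2, Tab D E0 E1 E2 W1 W2 ε1 ε2 z1 z2 w1 w2 := by
  have hW1 := (hR W1).2 (Or.inl rfl)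
  have hW2 := (hR W2).2 (Or.inr (Or.inl rfl))
  have hc := (hR c).2 (Or.inr (Or.inr rfl))
  obtain ⟨zc, -, hzc⟩ := c.2.exists_degree
  obtain ⟨k, hk, hk1⟩ := D.exists_A 1 (D.one_lt_A 1)
  have hA2 : Nat.card (D.A 2) = 5 := by have := D.a2; omega
  have hvn : ∀ k ∈ D.A 2, k ≠ 1 → ‖(c : G → ℂ) k‖ = 1 := by
    intro k hk hk1
    have h3 : ‖(c : G → ℂ) k‖ ^ 2 = 1 := by
      rw [hv c k hk hk1, Complex.norm_intCast, sq_abs]
      exact_mod_cast vc
    exact (pow_eq_one_iff_of_nonneg (norm_nonneg _) two_ne_zero).1 h3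
  refine ⟨E0, E1, {c}, W1, W2, ε, - v c, z, zc, u W1, u W2, ?_⟩
  exact
    { p0 := h0
      p1 := h1
      hW := hW
      hW1 := by simpa using hc1
      hW2 := by simpa using hc2
      mem := by intro ψ; rw [hR, Finset.mem_singleton]
      E1_2 := fun χ hχ k hk hk1 => by rw [hv χ k hk hk1, hv1 χ hχ]; simp
      eps2 := by
        rcases sq_le_one_of (a := v c) (by rw [vc]; norm_num) with h | h | h
        · rw [h] at vc; norm_num at vc
        · right; omega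
        · left; omega
      card2 := by rw [hA2]; simp
      deg2 := by intro χ hχ; rw [Finset.mem_singleton.1 hχ]; exact hzc
      sum2 := by
        intro k hk hk1
        rw [Finset.sum_singleton, hv c k hk hk1]; push_cast; ring
      norm2 := by
        intro k hk hk1
        rw [Finset.sum_singleton, hvn k hk hk1, hA2]; norm_num
      bound2 := by
        intro χ hχ k hk hk1
        rw [Finset.mem_singleton.1 hχ, hvn k hk hk1]; norm_num
      agree2 := by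
        intro g _ χ hχ ξ hξ
        rw [Finset.mem_singleton.1 hχ, Finset.mem_singleton.1 hξ]
      E2_1 := by
        intro χ hχ k hk hk1
        rw [Finset.mem_singleton.1 hχ, hu c hc.2.2.2 k hk hk1, uc]; simp
      cj2 := by
        intro χ hχ
        rw [Finset.mem_singleton] at hχ ⊢
        subst hχ
        have hz0 : (cj χ : G → ℂ) k = 0 := by
          rw [cj_apply, hu χ hc.2.2.2 k hk hk1, uc]; simp
        obtain ⟨h, hh, hh1⟩ := D.exists_A 0 (D.one_lt_A 0)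
        have hz1 : (cj χ : G → ℂ) h = 0 := by
          rw [cj_apply, h0.rest χ hc.2.2.1 hc.1 hc.2.1 h hh hh1]; simp
        have hm := (hR (cj χ)).1 ⟨by
          intro h3
          rw [h3, one_apply] at hz1
          exact one_ne_zero hz1, by
          intro h3
          rw [h3, D.StA0 h hh hh1] at hz1
          exact one_ne_zero hz1, by
          intro h3
          apply hc.2.2.1
          rw [← cj_cj χ]
          exact D.cj_P0 h0 h3, by
          intro h3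
          apply hc.2.2.2
          rw [← cj_cj χ]
          exact D.cj_PX h1 h3⟩
        rcases hm with h3 | h3 | h3
        · exfalso
          rw [h3, hu W1 hW1.2.2.2 k hk hk1] at hz0
          have : u W1 = 0 := by exact_mod_cast hz0
          rw [this] at u1; norm_num at u1
        · exfalso
          rw [h3, hu W2 hW2.2.2.2 k hk hk1] at hz0
          have : u W2 = 0 := by exact_mod_cast hz0
          rw [this] at u2; norm_num at u2
        · exact h3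
      w1s := u1
      w2s := u2
      W1_1 := fun k hk hk1 => hu W1 hW1.2.2.2 k hk hk1
      W2_1 := fun k hk hk1 => hu W2 hW2.2.2.2 k hk hk1
      W1_2 := fun k hk hk1 => by rw [hv W1 k hk hk1, v1]; push_cast; ring
      W2_2 := fun k hk hk1 => by rw [hv W2 k hk hk1, v2]; push_cast; ring }

set_option maxHeartbeats 1000000 in
theorem tab_small :
    ∃ E0 E1 E2 W1 W2 ε1 ε2 z1 z2 w1 w2, Tab D E0 E1 E2 W1 W2 ε1 ε2 z1 z2 w1 w2 := by
  classical
  obtain ⟨E0, h0⟩ := D.exists_P0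
  have hr1 := D.rel1
  have hr2 := D.rel2
  obtain ⟨E1, ε, m, z, h1⟩ := D.exists_PX h0 (i := 1) (by decide) (by omega)
  have ha1 := D.a1
  have ha2 := D.a2
  have hc1 := h1.card
  have hc0 := h0.card
  have hE1 : E1.card = 3 := by omega
  have hE0 : E0.card = 3 := by omega
  have hcR := D.card_rest h0 h1
  have hR3 : ((insert one (insert D.St (E0 ∪ E1)))ᶜ : Finset (IrrCharacter G)).card = 3 := by omega
  obtain ⟨a, b, c, hab, hac, hbc, hR⟩ := Finset.card_eq_three.1 hR3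
  have hmem : ∀ ψ : IrrCharacter G, (ψ ≠ one ∧ ψ ≠ D.St ∧ ψ ∉ E0 ∧ ψ ∉ E1) ↔
      (ψ = a ∨ ψ = b ∨ ψ = c) := by
    intro ψ
    have : ψ ∈ ((insert one (insert D.St (E0 ∪ E1)))ᶜ : Finset (IrrCharacter G)) ↔
      (ψ = a ∨ ψ = b ∨ ψ = c) := by rw [hR]; simp
    rw [← this]
    simp only [Finset.mem_compl, Finset.mem_insert, Finset.mem_union, not_or]
  have ha := (hmem a).2 (Or.inl rfl)
  have hb := (hmem b).2 (Or.inr (Or.inl rfl))
  have hc := (hmem c).2 (Or.inr (Or.inr rfl))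
  have hsplit : ∀ {M : Type} [AddCommMonoid M] (F : IrrCharacter G → M),
      ∑ χ, F χ = F one + F D.St + ∑ χ ∈ E0, F χ + ∑ χ ∈ E1, F χ + (F a + (F b + F c)) := by
    intro M _ F
    rw [D.split4 h0 h1 F, hR, Finset.sum_insert (by simp [hab, hac]), Finset.sum_pair hbc]
  obtain ⟨u, hu⟩ := D.exists_val h1
  obtain ⟨k, hk, hk1⟩ := D.exists_A 1 (D.one_lt_A 1)
  obtain ⟨y, hy, hy1⟩ := D.exists_A 2 (D.one_lt_A 2)
  have hv' := fun ψ => const_int (D.A 2) (D.hC 2) (D.hab 2) (by omega) ψ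
  choose v hv using hv'
  -- common value on E1
  obtain ⟨χ₁, hχ₁⟩ : E1.Nonempty := by rw [← Finset.card_pos]; omega
  have hvE : ∀ χ ∈ E1, v χ = v χ₁ := by
    intro χ hχ
    have h4 := h1.agree y (D.off_A (by decide) hy hy1) χ hχ χ₁ hχ₁
    rw [hv χ y hy hy1, hv χ₁ y hy hy1] at h4
    exact_mod_cast h4
  set Y := v χ₁ with hY
  -- degrees
  obtain ⟨da, hda, hda'⟩ := a.2.exists_degree
  obtain ⟨db, hdb, hdb'⟩ := b.2.exists_degree
  obtain ⟨dc, hdc, hdc'⟩ := c.2.exists_degree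
  have hz : 0 < z := by
    obtain ⟨d, hd, hd'⟩ := χ₁.2.exists_degree
    have h3 := h1.deg χ₁ hχ₁
    rw [hd'] at h3
    have : d = z := by exact_mod_cast h3
    omega
  -- (1)
  have r1 := D.rel_norm h0 (by decide) h1 u hu
  rw [hR, Finset.sum_insert (by simp [hab, hac]), Finset.sum_pair hbc, hE1] at r1
  -- (2)
  have r2 : 3 * Y ^ 2 + v a ^ 2 + v b ^ 2 + v c ^ 2 = 3 := by
    have h3 := col_norm y
    rw [hsplit, cent_A (D.hC 2) (D.hab 2) hy hy1, one_apply, D.StA2 y hy hy1,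
      Finset.sum_eq_zero (s := E0) (fun χ hχ => by
        rw [D.P0_zero h0 (by decide) hχ hy hy1]; simp),
      Finset.sum_congr rfl (fun χ hχ => by rw [hv χ y hy hy1, hvE χ hχ]), Finset.sum_const,
      hE1, hv a y hy hy1, hv b y hy hy1, hv c y hy hy1] at h3
    have h4 : Nat.card (D.A 2) = 5 := by omega
    rw [h4] at h3
    simp only [Complex.norm_intCast, sq_abs, norm_one, norm_neg, one_pow, nsmul_eq_mul] at h3
    have h5 : ((3 * Y ^ 2 + v a ^ 2 + v b ^ 2 + v c ^ 2 : ℤ) : ℝ) = ((3 : ℤ) : ℝ) := by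
      push_cast
      push_cast at h3
      linarith
    exact_mod_cast h5
  have hS : ∑ χ ∈ E1, (χ : G → ℂ) k = ε * (-1 + m * 3) := by
    rw [h1.sum k hk hk1, hE1]; norm_num
  -- (3)
  have r3 : 2 + Y * (ε * (-1 + m * 3)) + u a * v a + u b * v b + u c * v c = 0 := by
    have h3 := col_zero (D.not_conj_A (i := 1) (j := 2) (by decide) hk hk1 hy)
    rw [hsplit, one_apply, one_apply, D.StA1 k hk hk1, D.StA2 y hy hy1,
      Finset.sum_eq_zero (s := E0) (fun χ hχ => by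
        rw [D.P0_zero h0 (by decide) hχ hk hk1]; simp),
      Finset.sum_congr rfl (fun χ hχ => by rw [hv χ y hy hy1, hvE χ hχ]), ← Finset.sum_mul, hS,
      hu a ha.2.2.2 k hk hk1, hu b hb.2.2.2 k hk hk1, hu c hc.2.2.2 k hk hk1,
      hv a y hy hy1, hv b y hy hy1, hv c y hy hy1] at h3
    have h5 : ((2 + Y * (ε * (-1 + m * 3)) + u a * v a + u b * v b + u c * v c : ℤ) : ℂ) =
        ((0 : ℤ) : ℂ) := by
      push_cast
      simp only [map_one, map_neg, map_intCast] at h3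
      linear_combination h3
    exact_mod_cast h5
  have hk1c : ¬ IsConj k 1 := fun h => hk1 (isConj_one_right.1 h.symm)
  have hy1c : ¬ IsConj y 1 := fun h => hy1 (isConj_one_right.1 h.symm)
  -- (4)
  have r4 : 1 - 64 + (z : ℤ) * (ε * (-1 + m * 3)) + u a * da + u b * db + u c * dc = 0 := by
    have h3 := col_zero hk1c
    rw [hsplit, one_apply, one_apply, D.StA1 k hk hk1, D.St1,
      Finset.sum_eq_zero (s := E0) (fun χ hχ => by
        rw [D.P0_zero h0 (by decide) hχ hk hk1]; simp),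
      Finset.sum_congr rfl (fun χ hχ => by rw [h1.deg χ hχ]), ← Finset.sum_mul, hS,
      hu a ha.2.2.2 k hk hk1, hu b hb.2.2.2 k hk hk1, hu c hc.2.2.2 k hk hk1, hda', hdb', hdc'] at h3
    have h5 : ((1 - 64 + (z : ℤ) * (ε * (-1 + m * 3)) + u a * da + u b * db + u c * dc : ℤ) : ℂ) =
        ((0 : ℤ) : ℂ) := by
      push_cast
      simp only [map_one, map_pow, map_natCast] at h3
      push_cast at h3
      linear_combination h3
    exact_mod_cast h5
  -- (5)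
  have r5 : 1 - 64 + 3 * Y * (z : ℤ) + v a * da + v b * db + v c * dc = 0 := by
    have h3 := col_zero hy1c
    rw [hsplit, one_apply, one_apply, D.StA2 y hy hy1, D.St1,
      Finset.sum_eq_zero (s := E0) (fun χ hχ => by
        rw [D.P0_zero h0 (by decide) hχ hy hy1]; simp),
      Finset.sum_congr rfl (fun χ hχ => by rw [h1.deg χ hχ, hv χ y hy hy1, hvE χ hχ]),
      Finset.sum_const, hE1,
      hv a y hy hy1, hv b y hy hy1, hv c y hy hy1, hda', hdb', hdc'] at h3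
    have h5 : ((1 - 64 + 3 * Y * (z : ℤ) + v a * da + v b * db + v c * dc : ℤ) : ℂ) =
        ((0 : ℤ) : ℂ) := by
      push_cast
      simp only [map_one, map_pow, map_natCast, nsmul_eq_mul] at h3
      push_cast at h3
      linear_combination h3
    exact_mod_cast h5
  -- (6)
  have r6 : 3 * (z : ℤ) ^ 2 + (da : ℤ) ^ 2 + (db : ℤ) ^ 2 + (dc : ℤ) ^ 2 = 12348 := by
    have h3 := sum_degree_sq (G := G)
    rw [hsplit, one_apply, D.St1, Finset.sum_congr rfl (fun χ hχ => by rw [h0.deg χ hχ]),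
      Finset.sum_const, hE0, Finset.sum_congr rfl (fun χ hχ => by rw [h1.deg χ hχ]),
      Finset.sum_const, hE1, hda', hdb', hdc', D.card] at h3
    have h5 : ((3 * (z : ℤ) ^ 2 + (da : ℤ) ^ 2 + (db : ℤ) ^ 2 + (dc : ℤ) ^ 2 : ℤ) : ℂ) =
        ((12348 : ℤ) : ℂ) := by
      push_cast
      push_cast at h3
      simp only [nsmul_eq_mul] at h3
      norm_num at h3
      linear_combination h3
    exact_mod_cast h5
  push_cast at r1
  rcases arith8a h1.eps (by linarith) r2 r3 with ⟨hm, hY0, va, vb, vc, hcase⟩ | ⟨hm, hY1, va, vb, vc, hcase⟩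
  · subst hm
    have hv1 : ∀ χ ∈ E1, v χ = 0 := fun χ hχ => by rw [hvE χ hχ, hY0]
    rcases hcase with ⟨e1, e2, e3, e4, e5⟩ | ⟨e1, e2, e3, e4, e5⟩ | ⟨e1, e2, e3, e4, e5⟩
    · exact D.mk8 h0 h1 hab hac hbc hmem u v hu hv hv1 e1 vc e2 e3 e4 e5
    · refine D.mk8 h0 h1 hac hab (Ne.symm hbc) (fun ψ => ?_) u v hu hv hv1 e1 vb e2 e3 e4 e5
      rw [hmem]; tauto
    · refine D.mk8 h0 h1 hbc (Ne.symm hab) (Ne.symm hac) (fun ψ => ?_) u v hu hv hv1 e1 va e2 e3 e4 e5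
      rw [hmem]; tauto
  · exfalso
    subst hm
    rw [va, vb, vc] at r5
    exact arith8b h1.eps (by exact_mod_cast hda) (by exact_mod_cast hdb) (by exact_mod_cast hdc)
      (by exact_mod_cast hz) hY1 hcase (by linarith) (by linarith) r6

end Data

end Cfsg.Agent.Lib.SzChr
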