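import Cfsg.Agent.Lib.SzChr6

set_option autoImplicit false
set_option linter.unusedSectionVars false

/-!
# Groups with the subgroup structure of `Sz(q)`: the character table (helper6)
-/

namespace Cfsg.Agent.Lib.SzChr

open scoped ComplexConjugate
open Cfsg Cfsg.Agent.Lib.CharBasic Cfsg.Agent.Lib.TIFN Cfsg.Agent.Lib.AbTI Cfsg.Agent.Lib.TICount

universe u

variable {G : Type u} [Group G] [Fintype G]

theorem int_of_rat {x : ℂ} (hx : IsIntegral ℤ x) {a b : ℤ} (hb : b ≠ 0) (h : (b : ℂ) * x = a) :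
    ∃ n : ℤ, x = n := by
  have hb' : (b : ℂ) ≠ 0 := by exact_mod_cast hb
  have h1 : x = algebraMap ℚ ℂ ((a : ℚ) / b) := by
    rw [map_div₀, map_intCast, map_intCast, eq_div_iff hb', ← h]
    ring
  have h2 := hx
  rw [h1, isIntegral_algebraMap_iff (algebraMap ℚ ℂ).injective] at h2
  obtain ⟨n, hn⟩ := IsIntegrallyClosed.isIntegral_iff.mp h2
  refine ⟨n, ?_⟩
  rw [h1, ← hn]
  simp

theorem irr_integral (χ : IrrCharacter G) (g : G) : IsIntegral ℤ ((χ : G → ℂ) g) := by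
  obtain ⟨n, ρ, hρ⟩ := χ.2.isCharacter
  rw [← hρ]
  exact CharValues.isIntegral_character ρ g

theorem pm_one {a : ℤ} (h : a ^ 2 = 1) : a = 1 ∨ a = -1 := by
  rcases sq_le_one_of (a := a) (by rw [h]; norm_num) with h1 | h1 | h1
  · rw [h1] at h; norm_num at h
  · exact Or.inl h1
  · exact Or.inr h1

set_option maxHeartbeats 1000000 in
theorem ar1 {t d1 d2 z1 z2 w1 w2 ε1 ε2 : ℤ} (ht : 1 ≤ t) (hd1 : 0 < d1) (hd2 : 0 < d2)
    (hz1 : 0 ≤ z1) (hz2 : 0 ≤ z2) (hε1 : ε1 = 1 ∨ ε1 = -1) (hε2 : ε2 = 1 ∨ ε2 = -1)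
    (hw1 : w1 = 1 ∨ w1 = -1) (hw2 : w2 = 1 ∨ w2 = -1)
    (p1 : 1 - (8 * t ^ 2) ^ 2 - z1 * ε1 + d1 * w1 + d2 * w2 = 0)
    (p2 : 1 - (8 * t ^ 2) ^ 2 - z2 * ε2 - d1 * w1 - d2 * w2 = 0)
    (p3 : 1 + ((8 * t ^ 2) ^ 2) ^ 2 + (4 * t ^ 2 - 1) * ((8 * t ^ 2) ^ 2 + 1) ^ 2 +
      (2 * t ^ 2 + t) * z1 ^ 2 + d1 ^ 2 + d2 ^ 2 + (2 * t ^ 2 - t) * z2 ^ 2 =
      (8 * t ^ 2) ^ 2 * ((8 * t ^ 2) ^ 2 + 1) * (8 * t ^ 2 - 1)) :
    ε1 = -1 ∧ ε2 = -1 ∧ w1 = 1 ∧ w2 = 1 ∧ z1 = (8 * t ^ 2 - 1) * (8 * t ^ 2 + 1 - 4 * t) ∧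
      z2 = (8 * t ^ 2 - 1) * (8 * t ^ 2 + 1 + 4 * t) ∧ 2 * d1 = 4 * t * (8 * t ^ 2 - 1) ∧
      2 * d2 = 4 * t * (8 * t ^ 2 - 1) := by
  have hz1s : z1 ^ 2 = (z1 * ε1) ^ 2 := by rcases hε1 with h | h <;> rw [h] <;> ring
  have hz2s : z2 ^ 2 = (z2 * ε2) ^ 2 := by rcases hε2 with h | h <;> rw [h] <;> ring
  have hw1s : w1 ^ 2 = 1 := by rcases hw1 with h | h <;> rw [h] <;> norm_num
  have hw2s : w2 ^ 2 = 1 := by rcases hw2 with h | h <;> rw [h] <;> norm_num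
  obtain ⟨s, hs⟩ : ∃ s, s = d1 * w1 + d2 * w2 := ⟨_, rfl⟩
  obtain ⟨e, he⟩ : ∃ e, e = d1 * w1 - d2 * w2 := ⟨_, rfl⟩
  have hde : 2 * (d1 ^ 2 + d2 ^ 2) = s ^ 2 + e ^ 2 := by
    rw [hs, he]
    linear_combination (-2 * d1 ^ 2) * hw1s + (-2 * d2 ^ 2) * hw2s
  have e1 : z1 * ε1 = s + 1 - (8 * t ^ 2) ^ 2 := by rw [hs]; linarith
  have e2 : z2 * ε2 = - s + 1 - (8 * t ^ 2) ^ 2 := by rw [hs]; linarith
  rw [hz1s, hz2s, e1, e2] at p3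
  have key : (8 * t ^ 2 + 1) * (s - 4 * t * (8 * t ^ 2 - 1)) ^ 2 + e ^ 2 = 0 := by
    linear_combination 2 * p3 - hde
  clear p3
  have kp : 0 < 8 * t ^ 2 + 1 := by positivity
  have k1 : 0 ≤ (8 * t ^ 2 + 1) * (s - 4 * t * (8 * t ^ 2 - 1)) ^ 2 := by positivity
  have k2 : e ^ 2 = 0 := by have := sq_nonneg e; linarith
  have k3 : e = 0 := pow_eq_zero_iff two_ne_zero |>.1 k2
  have k4 : (8 * t ^ 2 + 1) * (s - 4 * t * (8 * t ^ 2 - 1)) ^ 2 = 0 := by linarith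
  have k5 : s - 4 * t * (8 * t ^ 2 - 1) = 0 := by
    rcases mul_eq_zero.1 k4 with h | h
    · exact absurd h kp.ne'
    · exact pow_eq_zero_iff two_ne_zero |>.1 h
  have h5 : s = 4 * t * (8 * t ^ 2 - 1) := by linarith
  have ht2 : 1 ≤ t ^ 2 := by nlinarith
  have hspos : 0 < s := by
    rw [h5]
    have h7 : 0 < 8 * t ^ 2 - 1 := by linarith
    positivity
  have hw : w1 = 1 ∧ w2 = 1 := by
    rcases hw1 with h | h <;> rcases hw2 with h' | h' <;> rw [h, h'] at hs he <;>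
      first | exact ⟨h, h'⟩ | (exfalso; linarith)
  obtain ⟨rfl, rfl⟩ := hw
  have hsd : 2 * d1 = s := by linarith
  have hsd2 : 2 * d2 = s := by linarith
  have hbig : s + 1 - (8 * t ^ 2) ^ 2 < 0 := by
    rw [h5]
    have : 4 * t * (8 * t ^ 2 - 1) + 1 - (8 * t ^ 2) ^ 2 = -((8 * t ^ 2 - 1) * (8 * t ^ 2 + 1 - 4 * t)) := by
      ring
    rw [this]
    have h7 : 0 < 8 * t ^ 2 - 1 := by linarith
    have h8 : 0 < 8 * t ^ 2 + 1 - 4 * t := by nlinarith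
    have := mul_pos h7 h8
    linarith
  have f1 : ε1 = -1 := by
    rcases hε1 with h | h
    · exfalso
      rw [h] at e1
      linarith
    · exact h
  have f2 : ε2 = -1 := by
    rcases hε2 with h | h
    · exfalso
      rw [h] at e2
      linarith
    · exact h
  rw [f1] at e1
  rw [f2] at e2
  refine ⟨f1, f2, rfl, rfl, ?_, ?_, ?_, ?_⟩
  · linear_combination -e1 - h5
  · linear_combination -e2 + h5
  · rw [hsd, h5]
  · rw [hsd2, h5]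

theorem real_of_conj (χ : IrrCharacter G) {g : G} (h : IsConj g g⁻¹) :
    conj ((χ : G → ℂ) g) = (χ : G → ℂ) g := by
  rw [← χ.2.isCharacter.inv]
  exact (χ.2.isClassFunction.conj_eq h.symm)

namespace Data

variable {q r : ℕ} (D : Data G q r)
include D

theorem tab : ∃ E0 E1 E2 W1 W2 ε1 ε2 z1 z2 w1 w2, Tab D E0 E1 E2 W1 W2 ε1 ε2 z1 z2 w1 w2 := by
  by_cases h : 2 ≤ Nat.card (Rel (D.A 2))
  · exact D.tab_big h
  · have h2 := D.rel2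
    obtain ⟨t, ht, rfl, rfl⟩ := D.exists_t
    have h3 : 8 * t ^ 2 - 4 * t ≤ 4 := by omega
    have h4 : t = 1 := by
      by_contra hcon
      have : 2 ≤ t := by omega
      have : 8 * t ^ 2 ≥ 16 * t := by nlinarith
      omega
    subst h4
    exact tab_small D

end Data

namespace Tab

variable {q r : ℕ} {D : Data G q r} {E0 E1 E2 : Finset (IrrCharacter G)} {W1 W2 : IrrCharacter G}
  {ε1 ε2 : ℤ} {z1 z2 : ℕ} {w1 w2 : ℤ} (T : Tab D E0 E1 E2 W1 W2 ε1 ε2 z1 z2 w1 w2)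
include T

theorem split {M : Type*} [AddCommMonoid M] (F : IrrCharacter G → M) :
    ∑ χ, F χ = F one + F D.St + ∑ χ ∈ E0, F χ + ∑ χ ∈ E1, F χ + (F W1 + (F W2 + ∑ χ ∈ E2, F χ)) := by
  classical
  rw [D.split4 T.p0 T.p1 F]
  congr 1
  have : ((insert one (insert D.St (E0 ∪ E1)))ᶜ : Finset (IrrCharacter G)) =
      insert W1 (insert W2 E2) := by
    ext ψ
    simp only [Finset.mem_compl, Finset.mem_insert, Finset.mem_union, not_or]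
    exact T.mem ψ
  rw [this, Finset.sum_insert (by simp [T.hW, T.hW1]), Finset.sum_insert T.hW2]

theorem W1_0 {h : G} (hh : h ∈ D.A 0) (hh1 : h ≠ 1) : (W1 : G → ℂ) h = 0 := by
  obtain ⟨g1, g2, g3, g4⟩ := (T.mem W1).2 (Or.inl rfl)
  exact T.p0.rest W1 g3 g1 g2 h hh hh1

theorem W2_0 {h : G} (hh : h ∈ D.A 0) (hh1 : h ≠ 1) : (W2 : G → ℂ) h = 0 := by
  obtain ⟨g1, g2, g3, g4⟩ := (T.mem W2).2 (Or.inr (Or.inl rfl))
  exact T.p0.rest W2 g3 g1 g2 h hh hh1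

theorem E2_0 {χ : IrrCharacter G} (hχ : χ ∈ E2) {h : G} (hh : h ∈ D.A 0) (hh1 : h ≠ 1) :
    (χ : G → ℂ) h = 0 := by
  obtain ⟨g1, g2, g3, g4⟩ := (T.mem χ).2 (Or.inr (Or.inr hχ))
  exact T.p0.rest χ g3 g1 g2 h hh hh1

theorem E0_1 {χ : IrrCharacter G} (hχ : χ ∈ E0) {k : G} (hk : k ∈ D.A 1) (hk1 : k ≠ 1) :
    (χ : G → ℂ) k = 0 := D.P0_zero T.p0 (by decide) hχ hk hk1

theorem E0_2 {χ : IrrCharacter G} (hχ : χ ∈ E0) {k : G} (hk : k ∈ D.A 2) (hk1 : k ≠ 1) :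
    (χ : G → ℂ) k = 0 := D.P0_zero T.p0 (by decide) hχ hk hk1

theorem sum1 {k : G} (hk : k ∈ D.A 1) (hk1 : k ≠ 1) : ∑ χ ∈ E1, (χ : G → ℂ) k = -ε1 := by
  rw [T.p1.sum k hk hk1]; push_cast; ring

/-- orthogonality with an element of `A 1` -/
theorem orth1 {g : G} (hg : ∀ k ∈ D.A 1, k ≠ 1 → ¬ IsConj g k) (a : ℂ)
    (ha : ∀ χ ∈ E1, (χ : G → ℂ) g = a) :
    1 - (D.St : G → ℂ) g - a * ε1 + (W1 : G → ℂ) g * w1 + (W2 : G → ℂ) g * w2 = 0 := by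
  obtain ⟨k, hk, hk1⟩ := D.exists_A 1 (D.one_lt_A 1)
  have h := col_zero (hg k hk hk1)
  rw [T.split, one_apply, one_apply, D.StA1 k hk hk1,
    Finset.sum_eq_zero (s := E0) (fun χ hχ => by rw [T.E0_1 hχ hk hk1]; simp),
    Finset.sum_congr rfl (fun χ hχ => by rw [ha χ hχ]), ← Finset.mul_sum, ← map_sum,
    T.sum1 hk hk1, T.W1_1 k hk hk1, T.W2_1 k hk hk1,
    Finset.sum_eq_zero (s := E2) (fun χ hχ => by rw [T.E2_1 χ hχ k hk hk1]; simp)] at h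
  simp only [map_one, map_neg, map_intCast] at h
  linear_combination h

/-- orthogonality with an element of `A 2` -/
theorem orth2 {g : G} (hg : ∀ k ∈ D.A 2, k ≠ 1 → ¬ IsConj g k) (b : ℂ)
    (hb : ∀ χ ∈ E2, (χ : G → ℂ) g = b) :
    1 - (D.St : G → ℂ) g - b * ε2 - (W1 : G → ℂ) g * w1 - (W2 : G → ℂ) g * w2 = 0 := by
  obtain ⟨k, hk, hk1⟩ := D.exists_A 2 (D.one_lt_A 2)
  have h := col_zero (hg k hk hk1)
  rw [T.split, one_apply, one_apply, D.StA2 k hk hk1,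
    Finset.sum_eq_zero (s := E0) (fun χ hχ => by rw [T.E0_2 hχ hk hk1]; simp),
    Finset.sum_eq_zero (s := E1) (fun χ hχ => by rw [T.E1_2 χ hχ k hk hk1]; simp),
    Finset.sum_congr (s₁ := E2) rfl (fun χ hχ => by rw [hb χ hχ]), ← Finset.mul_sum, ← map_sum,
    T.sum2 k hk hk1, T.W1_2 k hk hk1, T.W2_2 k hk hk1] at h
  simp only [map_one, map_neg, map_intCast] at h
  linear_combination h

/-- the degrees -/
theorem degrees : ε1 = -1 ∧ ε2 = -1 ∧ w1 = 1 ∧ w2 = 1 ∧ (z1 : ℤ) = (q - 1) * (q + 1 - r) ∧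
    (z2 : ℤ) = (q - 1) * (q + 1 + r) ∧ 2 * (W1 : G → ℂ) 1 = r * (q - 1) ∧
    2 * (W2 : G → ℂ) 1 = r * (q - 1) := by
  obtain ⟨d1, hd1, hd1'⟩ := W1.2.exists_degree
  obtain ⟨d2, hd2, hd2'⟩ := W2.2.exists_degree
  have o1 := T.orth1 (g := 1) (fun k _ hk1 h => hk1 (isConj_one_right.1 h)) z1 T.p1.deg
  have o2 := T.orth2 (g := 1) (fun k _ hk1 h => hk1 (isConj_one_right.1 h)) z2 T.deg2
  rw [hd1', hd2', D.St1] at o1 o2
  have p1 : 1 - (q : ℤ) ^ 2 - z1 * ε1 + d1 * w1 + d2 * w2 = 0 := by exact_mod_cast o1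
  have p2 : 1 - (q : ℤ) ^ 2 - z2 * ε2 - d1 * w1 - d2 * w2 = 0 := by exact_mod_cast o2
  have hsq := sum_degree_sq (G := G)
  rw [T.split, one_apply, D.St1, hd1', hd2', Finset.sum_congr (s₁ := E0) rfl
    (fun χ hχ => by rw [T.p0.deg χ hχ]), Finset.sum_const, Finset.sum_congr (s₁ := E1) rfl
    (fun χ hχ => by rw [T.p1.deg χ hχ]), Finset.sum_const, Finset.sum_congr (s₁ := E2) rfl
    (fun χ hχ => by rw [T.deg2 χ hχ]), Finset.sum_const, D.card] at hsq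
  simp only [nsmul_eq_mul] at hsq
  have c0 := T.p0.card
  have c1 := T.p1.card
  have c2 := T.card2
  rw [D.a1] at c1
  have a2 := D.a2
  obtain ⟨t, ht, rfl, rfl⟩ := D.exists_t
  have n0 : (E0.card : ℤ) = 4 * t ^ 2 - 1 := by
    have : ((2 * E0.card + 2 : ℕ) : ℤ) = ((8 * t ^ 2 : ℕ) : ℤ) := by exact_mod_cast c0
    push_cast at this; linarith
  have n1 : (E1.card : ℤ) = 2 * t ^ 2 + t := by
    have : ((4 * E1.card + 1 : ℕ) : ℤ) = ((8 * t ^ 2 + 4 * t + 1 : ℕ) : ℤ) := by exact_mod_cast c1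
    push_cast at this; linarith
  have n2 : (E2.card : ℤ) = 2 * t ^ 2 - t := by
    have : ((4 * E2.card + 1 + 4 * t : ℕ) : ℤ) = ((8 * t ^ 2 + 1 : ℕ) : ℤ) := by
      rw [c2]; exact_mod_cast a2
    push_cast at this; linarith
  have hq1 : ((8 * t ^ 2 - 1 : ℕ) : ℤ) = 8 * (t : ℤ) ^ 2 - 1 := by
    have : 1 ≤ 8 * t ^ 2 := by nlinarith
    rw [Nat.cast_sub this]; push_cast; ring
  have p3 : (1 : ℤ) + ((8 * (t : ℤ) ^ 2) ^ 2) ^ 2 + (4 * t ^ 2 - 1) * ((8 * (t : ℤ) ^ 2) ^ 2 + 1) ^ 2 +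
      (2 * t ^ 2 + t) * z1 ^ 2 + d1 ^ 2 + d2 ^ 2 + (2 * t ^ 2 - t) * z2 ^ 2 =
      (8 * (t : ℤ) ^ 2) ^ 2 * ((8 * (t : ℤ) ^ 2) ^ 2 + 1) * (8 * (t : ℤ) ^ 2 - 1) := by
    rw [← n0, ← n1, ← n2, ← hq1]
    have h3 : ((1 + ((8 * (t : ℤ) ^ 2) ^ 2) ^ 2 + (E0.card : ℤ) * ((8 * (t : ℤ) ^ 2) ^ 2 + 1) ^ 2 +
      (E1.card : ℤ) * z1 ^ 2 + d1 ^ 2 + d2 ^ 2 + (E2.card : ℤ) * z2 ^ 2 : ℤ) : ℂ) =
      (((8 * (t : ℤ) ^ 2) ^ 2 * ((8 * (t : ℤ) ^ 2) ^ 2 + 1) * ((8 * t ^ 2 - 1 : ℕ) : ℤ) : ℤ) : ℂ) := by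
      push_cast
      push_cast at hsq
      linear_combination hsq
    exact_mod_cast h3
  push_cast at p1 p2
  obtain ⟨f1, f2, f3, f4, f5, f6, f7, f8⟩ := ar1 (by exact_mod_cast ht) (by exact_mod_cast hd1)
    (by exact_mod_cast hd2) (Int.natCast_nonneg _) (Int.natCast_nonneg _) T.p1.eps T.eps2
    (pm_one T.w1s) (pm_one T.w2s) p1 p2 p3
  refine ⟨f1, f2, f3, f4, by push_cast; exact f5, by push_cast; exact f6, ?_, ?_⟩
  · rw [hd1']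
    have : ((2 * (d1 : ℤ) : ℤ) : ℂ) = ((4 * t * (8 * t ^ 2 - 1) : ℤ) : ℂ) := by rw [f7]
    push_cast at this ⊢
    linear_combination this
  · rw [hd2']
    have : ((2 * (d2 : ℤ) : ℤ) : ℂ) = ((4 * t * (8 * t ^ 2 - 1) : ℤ) : ℂ) := by rw [f8]
    push_cast at this ⊢
    linear_combination this

end Tab

end Cfsg.Agent.Lib.SzChr
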