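import Cfsg.Agent.Lib.SzChr7

set_option autoImplicit false
set_option linter.unusedSectionVars false

/-!
# Groups with the subgroup structure of `Sz(q)`: values on 2-elements (helper6)
-/

namespace Cfsg.Agent.Lib.SzChr

open scoped ComplexConjugate
open Cfsg Cfsg.Agent.Lib.CharBasic Cfsg.Agent.Lib.TIFN Cfsg.Agent.Lib.AbTI Cfsg.Agent.Lib.TICount

universe u

variable {G : Type u} [Group G] [Fintype G]

namespace Tab

variable {q r : ℕ} {D : Data G q r} {E0 E1 E2 : Finset (IrrCharacter G)} {W1 W2 : IrrCharacter G}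
  {ε1 ε2 : ℤ} {z1 z2 : ℕ} {w1 w2 : ℤ} (T : Tab D E0 E1 E2 W1 W2 ε1 ε2 z1 z2 w1 w2)
include T

/-- the parameter `t`: `r = 4 t`, `q = 8 t²` -/
theorem cards {t : ℕ} (hr : r = 4 * t) (hq : q = 8 * t ^ 2) :
    (E0.card : ℤ) = 4 * t ^ 2 - 1 ∧ (E1.card : ℤ) = 2 * t ^ 2 + t ∧ (E2.card : ℤ) = 2 * t ^ 2 - t := by
  have c0 := T.p0.card
  have c1 := T.p1.card
  have c2 := T.card2
  rw [D.a1] at c1
  have a2 := D.a2
  subst hr hq
  refine ⟨?_, ?_, ?_⟩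
  · have : ((2 * E0.card + 2 : ℕ) : ℤ) = ((8 * t ^ 2 : ℕ) : ℤ) := by exact_mod_cast c0
    push_cast at this; linarith
  · have : ((4 * E1.card + 1 : ℕ) : ℤ) = ((8 * t ^ 2 + 4 * t + 1 : ℕ) : ℤ) := by exact_mod_cast c1
    push_cast at this; linarith
  · have : ((4 * E2.card + 1 + 4 * t : ℕ) : ℤ) = ((8 * t ^ 2 + 1 : ℕ) : ℤ) := by
      rw [c2]; exact_mod_cast a2
    push_cast at this; linarith

theorem nonempty1 : E1.Nonempty := by
  obtain ⟨t, ht, h1, h2⟩ := D.exists_t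
  obtain ⟨-, h3, -⟩ := T.cards h1 h2
  rw [← Finset.card_pos]
  have : (0 : ℤ) < E1.card := by rw [h3]; positivity
  exact_mod_cast this

theorem nonempty2 : E2.Nonempty := by
  obtain ⟨t, ht, h1, h2⟩ := D.exists_t
  obtain ⟨-, -, h3⟩ := T.cards h1 h2
  rw [← Finset.card_pos]
  have h4 : (1 : ℤ) ≤ t := by exact_mod_cast ht
  have : (0 : ℤ) < E2.card := by rw [h3]; nlinarith
  exact_mod_cast this

theorem nonempty0 : E0.Nonempty := by
  have h1 := T.p0.card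
  have h2 := D.hq
  rw [← Finset.card_pos]
  omega

theorem common1 {g : G} (hg : ∀ k : G, k⁻¹ * g * k ∉ D.A 1) :
    ∃ a : ℂ, (∀ χ ∈ E1, (χ : G → ℂ) g = a) ∧ conj a = a := by
  obtain ⟨χ, hχ⟩ := T.nonempty1
  refine ⟨(χ : G → ℂ) g, fun ξ hξ => T.p1.agree g hg ξ hξ χ hχ, ?_⟩
  rw [← cj_apply]
  exact T.p1.agree g hg _ (D.cj_PX T.p1 hχ) χ hχ

theorem common2 {g : G} (hg : ∀ k : G, k⁻¹ * g * k ∉ D.A 2) :
    ∃ a : ℂ, (∀ χ ∈ E2, (χ : G → ℂ) g = a) ∧ conj a = a := by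
  obtain ⟨χ, hχ⟩ := T.nonempty2
  refine ⟨(χ : G → ℂ) g, fun ξ hξ => T.agree2 g hg ξ hξ χ hχ, ?_⟩
  rw [← cj_apply]
  exact T.agree2 g hg _ (T.cj2 χ hχ) χ hχ

/-- `W1` and `W2` are complex conjugate -/
theorem cjW : cj W1 = W2 := by
  have hone : cj (one : IrrCharacter G) = one := by
    apply Subtype.ext; funext g; simp [cj, one]
  obtain ⟨g1, g2, g3, g4⟩ := (T.mem W1).2 (Or.inl rfl)
  obtain ⟨h1, h2, h3, h4⟩ := (T.mem W2).2 (Or.inr (Or.inl rfl))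
  obtain ⟨h, hh, hh1⟩ := D.exists_A 0 (D.one_lt_A 0)
  have hSt : ∀ {W : IrrCharacter G}, (W : G → ℂ) h = 0 → cj W ≠ D.St := by
    intro W hW h5
    have h6 := congrArg (fun χ : IrrCharacter G => (χ : G → ℂ) h) h5
    simp only [cj_apply, hW, map_zero, D.StA0 h hh hh1] at h6
    exact one_ne_zero h6.symm
  have hm : cj W1 = W1 ∨ cj W1 = W2 ∨ cj W1 ∈ E2 := by
    rw [← T.mem]
    refine ⟨fun h5 => g1 ?_, hSt (T.W1_0 hh hh1), fun h5 => g3 ?_, fun h5 => g4 ?_⟩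
    · rw [← cj_cj W1, h5, hone]
    · rw [← cj_cj W1]; exact D.cj_P0 T.p0 h5
    · rw [← cj_cj W1]; exact D.cj_PX T.p1 h5
  have hm2 : cj W2 = W1 ∨ cj W2 = W2 ∨ cj W2 ∈ E2 := by
    rw [← T.mem]
    refine ⟨fun h5 => h1 ?_, hSt (T.W2_0 hh hh1), fun h5 => h3 ?_, fun h5 => h4 ?_⟩
    · rw [← cj_cj W2, h5, hone]
    · rw [← cj_cj W2]; exact D.cj_P0 T.p0 h5
    · rw [← cj_cj W2]; exact D.cj_PX T.p1 h5
  rcases hm with hm | hm | hm
  · exfalso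
    have hm2' : cj W2 = W2 := by
      rcases hm2 with h5 | h5 | h5
      · exfalso; apply T.hW
        rw [← cj_cj W2, h5, hm]
      · exact h5
      · exfalso; apply T.hW2
        rw [← cj_cj W2]; exact T.cj2 _ h5
    apply D.hρ
    rw [isConj_iff_forall_irr]
    intro χ
    rw [χ.2.isCharacter.inv]
    symm
    by_cases c1 : χ = one
    · rw [c1, one_apply, map_one]
    by_cases c2 : χ = D.St
    · rw [c2, D.Stρ, map_zero]
    by_cases c3 : χ ∈ E0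
    · rw [T.p0.off D.ρ D.ρ_ne (D.hρA 0) χ c3, D.Stρ]; simp
    by_cases c4 : χ ∈ E1
    · obtain ⟨a, ha, ha'⟩ := T.common1 (D.hρA 1)
      rw [ha χ c4, ha']
    rcases (T.mem χ).1 ⟨c1, c2, c3, c4⟩ with c5 | c5 | c5
    · rw [c5, ← cj_apply, hm]
    · rw [c5, ← cj_apply, hm2']
    · obtain ⟨a, ha, ha'⟩ := T.common2 (D.hρA 2)
      rw [ha χ c5, ha']
  · exact hm
  · exfalso; apply T.hW1
    rw [← cj_cj W1]; exact T.cj2 _ hm

/-- values on the involution -/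
theorem at_σ : (∀ χ ∈ E0, (χ : G → ℂ) D.σ = 1) ∧ (∀ χ ∈ E1, (χ : G → ℂ) D.σ = r - 1) ∧
    (∀ χ ∈ E2, (χ : G → ℂ) D.σ = -r - 1) ∧ 2 * (W1 : G → ℂ) D.σ = -r ∧ 2 * (W2 : G → ℂ) D.σ = -r := by
  obtain ⟨f1, f2, f3, f4, -, -, -, -⟩ := T.degrees
  obtain ⟨a, ha, -⟩ := T.common1 (D.hσA 1)
  obtain ⟨b, hb, -⟩ := T.common2 (D.hσA 2)
  have o1 := T.orth1 (g := D.σ) (fun k hk _ hc => by
    obtain ⟨c, hc⟩ := isConj_iff.1 hc
    exact D.hσA 1 c⁻¹ (by rw [inv_inv, hc]; exact hk)) a ha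
  have o2 := T.orth2 (g := D.σ) (fun k hk _ hc => by
    obtain ⟨c, hc⟩ := isConj_iff.1 hc
    exact D.hσA 2 c⁻¹ (by rw [inv_inv, hc]; exact hk)) b hb
  have r1 := real_of_conj W1 D.hσ
  have hW2 : (W2 : G → ℂ) D.σ = (W1 : G → ℂ) D.σ := by
    rw [← T.cjW, cj_apply, r1]
  obtain ⟨x, hx⟩ := Complex.conj_eq_iff_real.1 r1
  rw [hW2, hx, f1, f3, f4, D.Stσ] at o1
  rw [hW2, hx, f2, f3, f4, D.Stσ] at o2
  have ha' : a = ((-1 - 2 * x : ℝ) : ℂ) := by push_cast at o1 ⊢; linear_combination o1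
  have hb' : b = ((-1 + 2 * x : ℝ) : ℂ) := by push_cast at o2 ⊢; linear_combination o2
  have hE0 : ∀ χ ∈ E0, (χ : G → ℂ) D.σ = 1 := by
    intro χ hχ
    rw [T.p0.off D.σ D.σ_ne (D.hσA 0) χ hχ, D.Stσ]; ring
  have hn := col_norm D.σ
  rw [T.split, D.cσ, one_apply, D.Stσ, hW2, hx,
    Finset.sum_congr (s₁ := E0) rfl (fun χ hχ => by rw [hE0 χ hχ]), Finset.sum_const,
    Finset.sum_congr (s₁ := E1) rfl (fun χ hχ => by rw [ha χ hχ, ha']), Finset.sum_const,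
    Finset.sum_congr (s₁ := E2) rfl (fun χ hχ => by rw [hb χ hχ, hb']), Finset.sum_const] at hn
  simp only [Complex.norm_real, Real.norm_eq_abs, sq_abs, norm_one, norm_zero, nsmul_eq_mul] at hn
  obtain ⟨t, ht, hr, hq⟩ := D.exists_t
  obtain ⟨n0, n1, n2⟩ := T.cards hr hq
  have n0' : (E0.card : ℝ) = 4 * t ^ 2 - 1 := by exact_mod_cast n0
  have n1' : (E1.card : ℝ) = 2 * t ^ 2 + t := by exact_mod_cast n1
  have n2' : (E2.card : ℝ) = 2 * t ^ 2 - t := by exact_mod_cast n2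
  rw [n0', n1', n2', hq] at hn
  push_cast at hn
  have key : (x + 2 * t) * ((8 * t ^ 2 + 1) * x - 2 * t * (8 * t ^ 2 - 1)) = 0 := by
    linear_combination hn / 2
  have hxx : x = - 2 * t := by
    rcases mul_eq_zero.1 key with h | h
    · linarith
    · exfalso
      have h1 : (((8 * (t : ℤ) ^ 2 + 1 : ℤ)) : ℂ) * (W1 : G → ℂ) D.σ =
          ((2 * t * (8 * (t : ℤ) ^ 2 - 1) : ℤ) : ℂ) := by
        rw [hx]
        have : (8 * (t : ℝ) ^ 2 + 1) * x = 2 * t * (8 * t ^ 2 - 1) := by linarith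
        have h2 : (((8 * (t : ℝ) ^ 2 + 1) * x : ℝ) : ℂ) = ((2 * t * (8 * t ^ 2 - 1) : ℝ) : ℂ) := by
          rw [this]
        push_cast at h2 ⊢
        exact h2
      obtain ⟨n, hn'⟩ := int_of_rat (irr_integral W1 D.σ) (by positivity) h1
      rw [hn'] at h1
      have h2 : (8 * (t : ℤ) ^ 2 + 1) * n = 2 * t * (8 * (t : ℤ) ^ 2 - 1) := by exact_mod_cast h1
      have h3 : (8 * (t : ℤ) ^ 2 + 1) * (2 * t - n) = 4 * t := by linear_combination -h2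
      have h4 : (8 * (t : ℤ) ^ 2 + 1) ∣ 4 * (t : ℤ) := ⟨_, h3.symm⟩
      have htz : (1 : ℤ) ≤ t := by exact_mod_cast ht
      have h5 := Int.le_of_dvd (by positivity) h4
      nlinarith
  refine ⟨hE0, ?_, ?_, ?_, ?_⟩
  · intro χ hχ
    rw [ha χ hχ, ha', hxx, hr]; push_cast; ring
  · intro χ hχ
    rw [hb χ hχ, hb', hxx, hr]; push_cast; ring
  · rw [hx, hxx, hr]; push_cast; ring
  · rw [hW2, hx, hxx, hr]; push_cast; ring

/-- values on the elements of order four -/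
theorem at_ρ : (∀ χ ∈ E0, (χ : G → ℂ) D.ρ = 1) ∧ (∀ χ ∈ E1, (χ : G → ℂ) D.ρ = - 1) ∧
    (∀ χ ∈ E2, (χ : G → ℂ) D.ρ = - 1) ∧ 2 * (W1 : G → ℂ) D.ρ ^ 2 = -q ∧
    (W2 : G → ℂ) D.ρ = - (W1 : G → ℂ) D.ρ := by
  obtain ⟨f1, f2, f3, f4, -, -, -, -⟩ := T.degrees
  obtain ⟨s0, s1, s2, s3, s4⟩ := T.at_σ
  obtain ⟨a, ha, -⟩ := T.common1 (D.hρA 1)
  obtain ⟨b, hb, -⟩ := T.common2 (D.hρA 2)
  have o1 := T.orth1 (g := D.ρ) (fun k hk _ hc => by
    obtain ⟨c, hc⟩ := isConj_iff.1 hc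
    exact D.hρA 1 c⁻¹ (by rw [inv_inv, hc]; exact hk)) a ha
  have o2 := T.orth2 (g := D.ρ) (fun k hk _ hc => by
    obtain ⟨c, hc⟩ := isConj_iff.1 hc
    exact D.hρA 2 c⁻¹ (by rw [inv_inv, hc]; exact hk)) b hb
  have hW2 : (W2 : G → ℂ) D.ρ = conj ((W1 : G → ℂ) D.ρ) := by
    rw [← T.cjW, cj_apply]
  set c := (W1 : G → ℂ) D.ρ with hc
  obtain ⟨x, hx⟩ : ∃ x : ℝ, c + conj c = 2 * x := ⟨c.re, by rw [Complex.add_conj]; push_cast; ring⟩
  rw [hW2, f1, f3, f4, D.Stρ] at o1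
  rw [hW2, f2, f3, f4, D.Stρ] at o2
  have ha' : a = ((-1 - 2 * x : ℝ) : ℂ) := by push_cast at o1 ⊢; linear_combination o1 - hx
  have hb' : b = ((-1 + 2 * x : ℝ) : ℂ) := by push_cast at o2 ⊢; linear_combination o2 + hx
  have hE0 : ∀ χ ∈ E0, (χ : G → ℂ) D.ρ = 1 := by
    intro χ hχ
    rw [T.p0.off D.ρ D.ρ_ne (D.hρA 0) χ hχ, D.Stρ]; ring
  obtain ⟨t, ht, hr, hq⟩ := D.exists_t
  obtain ⟨n0, n1, n2⟩ := T.cards hr hq
  have htc : (t : ℂ) ≠ 0 := by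
    have : t ≠ 0 := by omega
    exact_mod_cast this
  -- orthogonality with the involution
  have hcr := col_zero (fun h : IsConj D.ρ D.σ => D.not_conj_σρ h.symm)
  rw [T.split, one_apply, one_apply, D.Stρ, hW2,
    Finset.sum_congr (s₁ := E0) rfl (fun χ hχ => by rw [hE0 χ hχ, s0 χ hχ]), Finset.sum_const,
    Finset.sum_congr (s₁ := E1) rfl (fun χ hχ => by rw [ha χ hχ, ha', s1 χ hχ]), Finset.sum_const,
    Finset.sum_congr (s₁ := E2) rfl (fun χ hχ => by rw [hb χ hχ, hb', s2 χ hχ]), Finset.sum_const] at hcr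
  have hrc : (r : ℂ) = 4 * t := by rw [hr]; push_cast; ring
  have s3' : (W1 : G → ℂ) D.σ = -(2 * t : ℕ) := by
    rw [hrc] at s3; push_cast at s3 ⊢; linear_combination s3 / 2
  have s4' : (W2 : G → ℂ) D.σ = -(2 * t : ℕ) := by
    rw [hrc] at s4; push_cast at s4 ⊢; linear_combination s4 / 2
  have n0c : (E0.card : ℂ) = 4 * t ^ 2 - 1 := by exact_mod_cast n0
  have n1c : (E1.card : ℂ) = 2 * t ^ 2 + t := by exact_mod_cast n1
  have n2c : (E2.card : ℂ) = 2 * t ^ 2 - t := by exact_mod_cast n2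
  rw [s3', s4'] at hcr
  simp only [nsmul_eq_mul, n0c, n1c, n2c, map_neg, map_sub, map_one, map_natCast, hrc, ← hc] at hcr
  push_cast at hcr
  have hcj4 : conj (4 * (t : ℂ)) = 4 * t := by
    have h44 : (4 : ℂ) * t = ((4 * t : ℕ) : ℂ) := by push_cast; ring
    rw [h44, map_natCast]
  rw [hcj4] at hcr
  have hx0 : x = 0 := by
    have h1 : (t : ℂ) ^ 3 * (x : ℂ) = 0 := by
      linear_combination (-1 / 32) * hcr + (-(t : ℂ) / 16) * hx
    have h2 : (x : ℂ) = 0 := by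
      rcases mul_eq_zero.1 h1 with h | h
      · exact absurd (pow_eq_zero_iff (by norm_num) |>.1 h) htc
      · exact h
    exact_mod_cast h2
  subst hx0
  have hcc : conj c = - c := by
    have : c + conj c = 0 := by rw [hx]; simp
    linear_combination this
  have hn := col_norm D.ρ
  rw [T.split, D.cρ, one_apply, D.Stρ, hW2,
    Finset.sum_congr (s₁ := E0) rfl (fun χ hχ => by rw [hE0 χ hχ]), Finset.sum_const,
    Finset.sum_congr (s₁ := E1) rfl (fun χ hχ => by rw [ha χ hχ, ha']), Finset.sum_const,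
    Finset.sum_congr (s₁ := E2) rfl (fun χ hχ => by rw [hb χ hχ, hb']), Finset.sum_const] at hn
  have n0' : (E0.card : ℝ) = 4 * t ^ 2 - 1 := by exact_mod_cast n0
  have n1' : (E1.card : ℝ) = 2 * t ^ 2 + t := by exact_mod_cast n1
  have n2' : (E2.card : ℝ) = 2 * t ^ 2 - t := by exact_mod_cast n2
  simp only [Complex.norm_real, Real.norm_eq_abs, sq_abs, norm_one, norm_zero, nsmul_eq_mul,
    RCLike.norm_conj, n0', n1', n2', hq, ← hc] at hn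
  push_cast at hn
  have hnc : ‖c‖ ^ 2 = 4 * (t : ℝ) ^ 2 := by linear_combination hn / 2
  have hc2 : c ^ 2 = - (4 * (t : ℂ) ^ 2) := by
    have h1 := mul_conj_sq c
    rw [hcc, hnc] at h1
    push_cast at h1
    linear_combination -h1
  refine ⟨hE0, ?_, ?_, ?_, ?_⟩
  · intro χ hχ
    rw [ha χ hχ, ha']; push_cast; ring
  · intro χ hχ
    rw [hb χ hχ, hb']; push_cast; ring
  · rw [hc2, hq]; push_cast; ring
  · rw [hW2, hcc]

end Tab

end Cfsg.Agent.Lib.SzChr
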