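import Cfsg.Agent.Lib.SzChr8
import Cfsg.Agent.Lib.LMinSz
import Cfsg.Agent.S0157

set_option autoImplicit false
set_option linter.unusedSectionVars false

/-!
# `Sz(q)` satisfies the hypotheses of `SzChr.Data` (helper6)
-/

open scoped LinearAlgebra.Projectivization Matrix Pointwise

namespace Cfsg.Agent.Lib.SzChr

open Cfsg Cfsg.Agent.Lib.SuzukiOvoid Cfsg.Agent.Lib.SuzukiGroup Cfsg.Agent.Lib.SuzukiFin
  Cfsg.Agent.Lib.SuzukiStab Cfsg.Agent.Lib.SuzukiSyl Cfsg.Agent.Lib.SuzukiPts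
  Cfsg.Agent.Lib.SuzukiTor Cfsg.Agent.Lib.SuzukiNoFix Cfsg.Agent.Lib.TICount
  Cfsg.Agent.Lib.SuzukiCount Cfsg.Agent.Lib.SuzukiTori Cfsg.Agent.Lib.SuzukiStr Cfsg.Agent.Lib.SuzukiPart

universe u

variable {F : Type u} [Field F] [CharP F 2] (θ : F ≃+* F) (hθ : ∀ x, θ (θ x) = x ^ 2)
  (hne : ∃ x, θ x ≠ x ^ 2)

section finite
variable [Finite F]
include hθ hne

/-- the Steinberg character -/
noncomputable def stb : IrrCharacter (Gz θ) :=
  ⟨fun g => (Nat.card (MulAction.fixedBy (ov θ) g) : ℂ) - 1, by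
    have := pretransitive θ hθ
    refine (Cfsg.Agent.S0157.result (ov θ) ?_).2 (two_pretransitive θ hθ)
    rw [card_ov]
    have := one_lt_card (F := F)
    nlinarith⟩

omit hne in
theorem stb_apply (g : Gz θ) : (stb θ hθ : Gz θ → ℂ) g =
    (Nat.card (MulAction.fixedBy (ov θ) g) : ℂ) - 1 := rfl

theorem stb_one : (stb θ hθ : Gz θ → ℂ) 1 = (Nat.card F : ℂ) ^ 2 := by
  rw [stb_apply]
  have : Nat.card (MulAction.fixedBy (ov θ) (1 : Gz θ)) = Nat.card F ^ 2 + 1 := by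
    rw [← card_ov θ]
    apply Nat.card_congr
    exact (Equiv.subtypeUnivEquiv (fun x => one_smul _ x))
  rw [this]; push_cast; ring

theorem stb_Up {p : ov θ} {g : Gz θ} (hg : g ∈ Up θ hθ hne p) (h1 : g ≠ 1) :
    (stb θ hθ : Gz θ → ℂ) g = 0 := by
  rw [stb_apply]
  have : Nat.card (MulAction.fixedBy (ov θ) g) = 1 := by
    rw [Nat.card_eq_one_iff_unique]
    refine ⟨⟨fun a b => ?_⟩, ⟨⟨p, Up_fix θ hθ hne hg⟩⟩⟩
    apply Subtype.ext
    rw [Up_unique θ hθ hne hg h1 a.2, Up_unique θ hθ hne hg h1 b.2]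
  rw [this]; simp

theorem stb_Tp {p p' : ov θ} (hpp : p ≠ p') {g : Gz θ} (hg : g ∈ Tp θ p p') (h1 : g ≠ 1) :
    (stb θ hθ : Gz θ → ℂ) g = 1 := by
  classical
  rw [stb_apply]
  have : Nat.card (MulAction.fixedBy (ov θ) g) = 2 := by
    have e : MulAction.fixedBy (ov θ) g = {p, p'} := by
      ext x
      constructor
      · intro hx
        by_contra hcon
        simp only [Set.mem_insert_iff, Set.mem_singleton_iff, not_or] at hcon
        exact h1 (three_points θ hθ hne hpp (fun h => hcon.2 h.symm) (fun h => hcon.1 h.symm) hg.1 hg.2 hx)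
      · rintro (rfl | rfl)
        · exact hg.1
        · exact hg.2
    rw [e, Nat.card_coe_set_eq, Set.ncard_pair hpp]
  rw [this]; norm_num

theorem stb_NoFix {g : Gz θ} (hg : NoFix θ g) : (stb θ hθ : Gz θ → ℂ) g = -1 := by
  rw [stb_apply]
  have : Nat.card (MulAction.fixedBy (ov θ) g) = 0 := by
    rw [Nat.card_eq_zero]
    left
    exact ⟨fun x => hg x.1 x.2⟩
  rw [this]; norm_num

/-! ### the group `HSub` -/

theorem card_norm_Tp {p p' : ov θ} (hpp : p ≠ p') :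
    ((Tp θ p p').subgroupOf (Subgroup.normalizer (Tp θ p p' : Set (Gz θ)))).index = 2 := by
  have hcard := card_Tp θ hθ hne hpp
  have hq : 2 ≤ Nat.card (Tp θ p p') := by
    rw [hcard]
    obtain ⟨x, hx0, hx1⟩ := SuzukiSyl.exists_ne θ hne
    have : Nat.card ({0, 1, x} : Set F) ≤ Nat.card F :=
      Nat.card_le_card_of_injective (Subtype.val) Subtype.val_injective
    rw [Nat.card_coe_set_eq, Set.ncard_eq_three.2 ⟨0, 1, x, zero_ne_one, hx0.symm, hx1.symm, rfl⟩] at this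
    omega
  have hne1 : ∃ a ∈ Tp θ p p', a ≠ 1 := by
    have : Nontrivial (Tp θ p p') := Finite.one_lt_card_iff_nontrivial.1 (by omega)
    obtain ⟨k, hk⟩ := exists_ne (1 : Tp θ p p')
    exact ⟨k, k.2, fun h => hk (Subtype.ext h)⟩
  obtain ⟨a, ha, ha1⟩ := hne1
  -- normalising elements permute `{p, p'}`
  have hfix : ∀ x : ov θ, a • x = x → x = p ∨ x = p' := by
    intro x hx
    by_contra hcon
    push Not at hcon
    exact ha1 (three_points θ hθ hne hpp (fun h => hcon.2 h.symm) (fun h => hcon.1 h.symm) ha.1 ha.2 hx)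
  have hN : ∀ g : Gz θ, g ∈ Subgroup.normalizer (Tp θ p p' : Set (Gz θ)) →
      (g • p = p ∧ g • p' = p') ∨ (g • p = p' ∧ g • p' = p) := by
    intro g hg
    have h1 : g⁻¹ * a * g ∈ Tp θ p p' := by
      have := (Subgroup.mem_normalizer_iff.1 ((Subgroup.normalizer (Tp θ p p' : Set (Gz θ))).inv_mem hg) a).1 ha
      simpa using this
    have e1 : a • (g • p) = g • p := by
      have := ((mem_Tp θ).1 h1).1
      rw [mul_smul, mul_smul, inv_smul_eq_iff] at this
      exact this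
    have e2 : a • (g • p') = g • p' := by
      have := ((mem_Tp θ).1 h1).2
      rw [mul_smul, mul_smul, inv_smul_eq_iff] at this
      exact this
    have hdiff : g • p ≠ g • p' := fun h => hpp (smul_left_cancel g h)
    rcases hfix _ e1 with h2 | h2 <;> rcases hfix _ e2 with h3 | h3
    · exact absurd (h2.trans h3.symm) hdiff
    · exact Or.inl ⟨h2, h3⟩
    · exact Or.inr ⟨h2, h3⟩
    · exact absurd (h2.trans h3.symm) hdiff
  -- a swap
  obtain ⟨w, hw1, hw2⟩ : ∃ w : Gz θ, w • p = p' ∧ w • p' = p := by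
    obtain ⟨k, hk1, hk2⟩ := exists_pair θ hθ hpp
    obtain ⟨l, hl1, hl2⟩ := exists_pair θ hθ hpp.symm
    refine ⟨l * k⁻¹, ?_, ?_⟩
    · rw [← hk1, mul_smul, inv_smul_smul, hl1]
    · rw [← hk2, mul_smul, inv_smul_smul, hl2]
  have hwN : w ∈ Subgroup.normalizer (Tp θ p p' : Set (Gz θ)) := by
    rw [Subgroup.mem_normalizer_iff]
    intro h
    rw [mem_Tp, mem_Tp]
    have hwi1 : w⁻¹ • p = p' := by rw [inv_smul_eq_iff, hw2]
    have hwi2 : w⁻¹ • p' = p := by rw [inv_smul_eq_iff, hw1]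
    rw [mul_smul, mul_smul, hwi1, mul_smul, mul_smul, hwi2]
    constructor
    · rintro ⟨h1, h2⟩
      rw [h2, hw2, h1, hw1]
      exact ⟨rfl, rfl⟩
    · rintro ⟨h1, h2⟩
      rw [← hw2] at h1
      rw [← hw1] at h2
      have h1' := smul_left_cancel w h1
      have h2' := smul_left_cancel w h2
      exact ⟨h2', h1'⟩
  rw [Subgroup.index_eq_two_iff]
  refine ⟨⟨w, hwN⟩, ?_⟩
  rintro ⟨b, hb⟩
  rw [Subgroup.mem_subgroupOf, Subgroup.mem_subgroupOf]
  simp only [Subgroup.coe_mul]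
  rcases hN b hb with ⟨h1, h2⟩ | ⟨h1, h2⟩
  · right
    refine ⟨⟨h1, h2⟩, fun h3 => ?_⟩
    have := ((mem_Tp θ).1 h3).1
    rw [mul_smul, hw1, h2] at this
    exact hpp this.symm
  · left
    refine ⟨(mem_Tp θ).2 ⟨?_, ?_⟩, fun h3 => ?_⟩
    · rw [mul_smul, hw1, h2]
    · rw [mul_smul, hw2, h1]
    · have := ((mem_Tp θ).1 h3).1
      rw [h1] at this
      exact hpp this.symm

omit hθ hne [Finite F] in
theorem perm_norm {p p' : ov θ} {w : Gz θ}
    (h : (w • p = p ∧ w • p' = p') ∨ (w • p = p' ∧ w • p' = p)) :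
    w ∈ Subgroup.normalizer (Tp θ p p' : Set (Gz θ)) := by
  rw [Subgroup.mem_normalizer_iff]
  intro h'
  rw [mem_Tp, mem_Tp]
  rcases h with ⟨hw1, hw2⟩ | ⟨hw1, hw2⟩
  · have hwi1 : w⁻¹ • p = p := by rw [inv_smul_eq_iff, hw1]
    have hwi2 : w⁻¹ • p' = p' := by rw [inv_smul_eq_iff, hw2]
    rw [mul_smul, mul_smul, hwi1, mul_smul, mul_smul, hwi2]
    constructor
    · rintro ⟨h1, h2⟩
      rw [h2, hw2, h1, hw1]
      exact ⟨rfl, rfl⟩
    · rintro ⟨h1, h2⟩
      nth_rewrite 2 [← hw1] at h1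
      nth_rewrite 2 [← hw2] at h2
      exact ⟨smul_left_cancel w h1, smul_left_cancel w h2⟩
  · have hwi1 : w⁻¹ • p = p' := by rw [inv_smul_eq_iff, hw2]
    have hwi2 : w⁻¹ • p' = p := by rw [inv_smul_eq_iff, hw1]
    rw [mul_smul, mul_smul, hwi1, mul_smul, mul_smul, hwi2]
    constructor
    · rintro ⟨h1, h2⟩
      rw [h2, hw2, h1, hw1]
      exact ⟨rfl, rfl⟩
    · rintro ⟨h1, h2⟩
      rw [← hw2] at h1
      rw [← hw1] at h2
      exact ⟨smul_left_cancel w h2, smul_left_cancel w h1⟩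

theorem ti_Tp {p p' : ov θ} (hpp : p ≠ p') (g : Gz θ)
    (hg : g ∉ Subgroup.normalizer (Tp θ p p' : Set (Gz θ))) (k : Gz θ) (hk : k ∈ Tp θ p p')
    (hgk : g * k * g⁻¹ ∈ Tp θ p p') : k = 1 := by
  by_contra hk1
  apply hg
  have hfix : ∀ x : ov θ, k • x = x → x = p ∨ x = p' := by
    intro x hx
    by_contra hcon
    push Not at hcon
    exact hk1 (three_points θ hθ hne hpp (fun h => hcon.2 h.symm) (fun h => hcon.1 h.symm) hk.1 hk.2 hx)
  obtain ⟨h1, h2⟩ := (mem_Tp θ).1 hgk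
  have e1 : k • (g⁻¹ • p) = g⁻¹ • p := by
    rw [mul_smul, mul_smul, smul_eq_iff_eq_inv_smul] at h1
    exact h1
  have e2 : k • (g⁻¹ • p') = g⁻¹ • p' := by
    rw [mul_smul, mul_smul, smul_eq_iff_eq_inv_smul] at h2
    exact h2
  have hdiff : g⁻¹ • p ≠ g⁻¹ • p' := fun h => hpp (smul_left_cancel g⁻¹ h)
  have hi : g⁻¹ ∈ Subgroup.normalizer (Tp θ p p' : Set (Gz θ)) := by
    apply perm_norm
    rcases hfix _ e1 with h3 | h3 <;> rcases hfix _ e2 with h4 | h4
    · exact absurd (h3.trans h4.symm) hdiff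
    · exact Or.inl ⟨h3, h4⟩
    · exact Or.inr ⟨h3, h4⟩
    · exact absurd (h3.trans h4.symm) hdiff
  simpa using (Subgroup.normalizer (Tp θ p p' : Set (Gz θ))).inv_mem hi

/-! ### 2-elements -/

theorem cent_σ : Nat.card (Subgroup.centralizer ({Ug θ hθ 0 1} : Set (Gz θ))) = Nat.card F ^ 2 := by
  have h1 : Ug θ hθ 0 1 ∈ Up θ hθ hne (inf θ) := by rw [Up_inf]; exact Ug_mem θ hθ 0 1
  have h2 : Ug θ hθ 0 1 ≠ 1 := by rw [Ne, Ug_eq_one]; simp
  have h3 : Subgroup.centralizer ({Ug θ hθ 0 1} : Set (Gz θ)) = USub θ hθ := by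
    apply le_antisymm
    · rw [← Up_inf θ hθ hne]
      exact centralizer_Up θ hθ hne h1 h2
    · rintro _ ⟨a, b, rfl⟩
      rw [Subgroup.mem_centralizer_singleton_iff, Ug_commute_iff]
      simp
  rw [h3, card_U]

theorem cent_ρ : Nat.card (Subgroup.centralizer ({Ug θ hθ 1 0} : Set (Gz θ))) = 2 * Nat.card F := by
  have h1 : Ug θ hθ 1 0 ∈ Up θ hθ hne (inf θ) := by rw [Up_inf]; exact Ug_mem θ hθ 1 0
  have h2 : Ug θ hθ 1 0 ≠ 1 := by rw [Ne, Ug_eq_one]; simp
  have h3 : (Subgroup.centralizer ({Ug θ hθ 1 0} : Set (Gz θ)) : Set (Gz θ)) =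
      (fun x : F × F => Ug θ hθ x.1 x.2) '' (({0, 1} : Set F) ×ˢ (Set.univ : Set F)) := by
    ext g
    constructor
    · intro hg
      have h4 : g ∈ USub θ hθ := by
        rw [← Up_inf θ hθ hne]
        exact centralizer_Up θ hθ hne h1 h2 hg
      obtain ⟨a, b, rfl⟩ := h4
      refine ⟨(a, b), ⟨?_, trivial⟩, rfl⟩
      have h5 : Ug θ hθ a b * Ug θ hθ 1 0 = Ug θ hθ 1 0 * Ug θ hθ a b :=
        Subgroup.mem_centralizer_singleton_iff.1 hg
      rw [Ug_commute_iff] at h5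
      have h6 := fcomm_eq_zero θ hθ (a := 1) (c := a) one_ne_zero (by rw [add_comm]; exact h5)
      exact h6
    · rintro ⟨⟨a, b⟩, ⟨ha, -⟩, rfl⟩
      show _ ∈ Subgroup.centralizer _
      rw [Subgroup.mem_centralizer_singleton_iff, Ug_commute_iff]
      rcases ha with rfl | rfl
      · simp
      · exact CharTwo.add_self_eq_zero _
  have h4 : Nat.card (Subgroup.centralizer ({Ug θ hθ 1 0} : Set (Gz θ))) =
      (Subgroup.centralizer ({Ug θ hθ 1 0} : Set (Gz θ)) : Set (Gz θ)).ncard :=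
    (Nat.card_coe_set_eq _)
  rw [h4, h3, Set.ncard_image_of_injective, Set.ncard_prod, Set.ncard_pair zero_ne_one, Set.ncard_univ]
  rintro ⟨a, b⟩ ⟨c, d⟩ h
  obtain ⟨h5, h6⟩ := Ug_inj θ hθ h
  exact Prod.ext h5 h6

omit hne in
theorem exists_add (b : F) : ∃ c : F, θ c + c = b ∨ θ c + c = b + 1 := by
  classical
  let L : F →+ F :=
    { toFun := fun c => θ c + c
      map_zero' := by simp
      map_add' := fun a b => by rw [map_add]; ring }
  have hker : (L.ker : Set F) = {0, 1} := by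
    ext x
    constructor
    · intro hx
      have h1 : θ x + x = 0 := hx
      have h2 : θ x = x := by
        rw [← sub_eq_zero, CharTwo.sub_eq_add]; exact h1
      exact fix_eq θ hθ h2
    · rintro (rfl | rfl)
      · exact L.ker.zero_mem
      · show θ 1 + 1 = 0
        rw [map_one]; exact CharTwo.add_self_eq_zero _
  have hk2 : Nat.card L.ker = 2 := by
    have : Nat.card L.ker = (L.ker : Set F).ncard := (Nat.card_coe_set_eq _)
    rw [this, hker, Set.ncard_pair zero_ne_one]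
  have h1 := AddSubgroup.card_mul_index L.ker
  rw [AddSubgroup.index_ker, hk2] at h1
  have h2 := AddSubgroup.card_mul_index L.range
  have h3 : L.range.index = 2 := by
    have hpos : 0 < Nat.card L.range := Nat.card_pos
    apply Nat.eq_of_mul_eq_mul_left hpos
    rw [h2, ← h1, mul_comm]
  by_cases hb : b ∈ L.range
  · obtain ⟨c, hc⟩ := hb
    exact ⟨c, Or.inl hc⟩
  · have h1n : (1 : F) ∉ L.range := by
      rintro ⟨c, hc⟩
      exact one_add_θ_ne θ hθ hc
    have : b + 1 ∈ L.range := by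
      rw [AddSubgroup.add_mem_iff_of_index_two h3]
      exact ⟨fun h => absurd h hb, fun h => absurd h h1n⟩
    obtain ⟨c, hc⟩ := this
    exact ⟨c, Or.inr hc⟩

omit hne in
theorem conj_ρ (a b : F) (ha : a ≠ 0) : IsConj (Ug θ hθ 1 0) (Ug θ hθ a b) ∨
    IsConj (Ug θ hθ 1 0)⁻¹ (Ug θ hθ a b) := by
  let κ : Fˣ := (Units.mk0 a ha)⁻¹
  have hκ : (κ : F) * a = 1 := by
    have : (κ : F) = a⁻¹ := by simp [κ]
    rw [this, inv_mul_cancel₀ ha]
  obtain ⟨c, hc⟩ := exists_add θ hθ (κ * θ κ * b)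
  have h1 := Ug_Hg_conj θ hθ a b c 0 κ
  rw [hκ, map_one, mul_one, one_mul] at h1
  rcases hc with hc | hc
  · left
    apply IsConj.symm
    rw [isConj_iff]
    refine ⟨_, h1.trans ?_⟩
    rw [add_assoc, hc]
    congr 1
    exact CharTwo.add_self_eq_zero _
  · right
    apply IsConj.symm
    rw [isConj_iff]
    refine ⟨_, h1.trans ?_⟩
    rw [Ug_inv, add_assoc, hc, map_one]
    congr 1
    have := CharTwo.add_self_eq_zero (κ * θ κ * b : F)
    linear_combination this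

omit hne in
theorem conj_σ (b : F) (hb : b ≠ 0) : IsConj (Ug θ hθ 0 1) (Ug θ hθ 0 b) := by
  obtain ⟨x, hx⟩ := mulθ_surj θ hθ b
  have hx0 : x ≠ 0 := by
    rintro rfl
    rw [zero_mul] at hx
    exact hb hx.symm
  rw [isConj_iff]
  refine ⟨Hg θ hθ (Units.mk0 x hx0), ?_⟩
  rw [Hg_conj]
  simp [hx]

open Classical in
theorem exists_data {m : ℕ} (hm : 1 ≤ m) (hF : Nat.card F = 2 ^ (2 * m + 1)) [Fintype (Gz θ)] :
    Nonempty (Data (Gz θ) (2 ^ (2 * m + 1)) (2 ^ (m + 1))) := by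
  obtain ⟨x, y, hx, hy, hyx, hxy, hnx, hny, hcx, hcy⟩ := two_classes θ hθ hne hm hF
  have hp0 : inf θ ≠ pt θ 0 0 := fun h => pt_ne_inf θ 0 0 h.symm
  let A : Fin 3 → Subgroup (Gz θ) :=
    ![Tp θ (inf θ) (pt θ 0 0), Subgroup.centralizer {x}, Subgroup.centralizer {y}]
  have hA0 : A 0 = Tp θ (inf θ) (pt θ 0 0) := rfl
  have hA1 : A 1 = Subgroup.centralizer {x} := rfl
  have hA2 : A 2 = Subgroup.centralizer {y} := rfl
  have hidx : ∀ {z : Gz θ}, Nat.card (Subgroup.normalizer (Subgroup.centralizer {z} : Set (Gz θ))) =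
      Nat.card (Subgroup.centralizer {z}) * 4 →
      ((Subgroup.centralizer {z}).subgroupOf (Subgroup.normalizer (Subgroup.centralizer {z} : Set (Gz θ)))).index = 4 := by
    intro z hz
    have h1 := Subgroup.card_mul_index ((Subgroup.centralizer {z}).subgroupOf
      (Subgroup.normalizer (Subgroup.centralizer {z} : Set (Gz θ))))
    rw [hz, Nat.card_congr (Subgroup.subgroupOfEquivOfLe Subgroup.le_normalizer).toEquiv] at h1
    exact Nat.eq_of_mul_eq_mul_left Nat.card_pos h1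
  have hti : ∀ {z : Gz θ}, NoFix θ z → ∀ g : Gz θ,
      g ∉ Subgroup.normalizer (Subgroup.centralizer {z} : Set (Gz θ)) →
      ∀ k ∈ Subgroup.centralizer {z}, g * k * g⁻¹ ∈ Subgroup.centralizer {z} → k = 1 := by
    intro z hz g hg k hk hgk
    by_contra hk1
    exact hg (ti_noFix θ hθ hne hz k hk hk1 g hgk)
  have hcc : ∀ {z : Gz θ}, NoFix θ z → ∀ k ∈ Subgroup.centralizer ({z} : Set (Gz θ)), k ≠ 1 →
      Subgroup.centralizer ({k} : Set (Gz θ)) ≤ Subgroup.centralizer {z} := by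
    intro z hz k hk hk1
    rw [NoFix.centralizer_eq θ hθ hne hz (cent_comm θ hθ hne hk) hk1]
  have hcyc : ∀ {B : Subgroup (Gz θ)}, IsCyclic B → ∀ a ∈ B, ∀ b ∈ B, a * b = b * a := by
    intro B hB a ha b hb
    letI := IsCyclic.commGroup (α := B)
    exact congrArg Subtype.val (mul_comm (⟨a, ha⟩ : B) ⟨b, hb⟩)
  have hnof : ∀ {z : Gz θ}, NoFix θ z → ∀ k ∈ Subgroup.centralizer ({z} : Set (Gz θ)), k ≠ 1 →
      NoFix θ k := by
    intro z hz k hk hk1
    exact NoFix.of_commute θ hθ hne hz (cent_comm θ hθ hne hk) hk1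
  have hdisj := cls_disjoint θ hθ hne hx hy hyx
  have hconjne : ∀ {a g : Gz θ}, a ≠ 1 → g⁻¹ * a * g ≠ 1 := by
    intro a g ha h
    apply ha
    have : a = g * (g⁻¹ * a * g) * g⁻¹ := by group
    rw [this, h]; group
  have hfixTp : ∀ {a g : Gz θ}, g⁻¹ * a * g ∈ Tp θ (inf θ) (pt θ 0 0) →
      a • (g • inf θ) = g • inf θ ∧ a • (g • pt θ 0 0) = g • pt θ 0 0 := by
    intro a g h
    obtain ⟨h1, h2⟩ := (mem_Tp θ).1 h
    rw [mul_smul, mul_smul, inv_smul_eq_iff] at h1 h2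
    exact ⟨h1, h2⟩
  have hodd : ∀ i, Odd (Nat.card (A i)) := by
    have h2q : Even (2 ^ (2 * m + 1)) := even_two.pow_of_ne_zero (by omega)
    have h2r : Even (2 ^ (m + 1)) := even_two.pow_of_ne_zero (by omega)
    intro i
    fin_cases i
    · show Odd (Nat.card (Tp θ (inf θ) (pt θ 0 0)))
      rw [card_Tp θ hθ hne hp0, hF]
      exact Nat.Even.sub_odd Nat.one_le_two_pow h2q odd_one
    · show Odd (Nat.card (Subgroup.centralizer {x}))
      rw [hcx]
      exact (h2q.add h2r).add_one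
    · show Odd (Nat.card (Subgroup.centralizer {y}))
      have h5 : Odd (Nat.card (Subgroup.centralizer {y}) + 2 ^ (m + 1)) := by
        rw [hcy]; exact h2q.add_one
      rw [Nat.odd_add] at h5
      exact h5.2 h2r
  have hσU : ∀ {p : ov θ}, Ug θ hθ 0 1 • p = p → p = inf θ := fun h =>
    Up_unique θ hθ hne (p := inf θ) (by rw [Up_inf]; exact Ug_mem θ hθ 0 1)
      (by rw [Ne, Ug_eq_one]; simp) h
  have hρU : ∀ {p : ov θ}, Ug θ hθ 1 0 • p = p → p = inf θ := fun h =>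
    Up_unique θ hθ hne (p := inf θ) (by rw [Up_inf]; exact Ug_mem θ hθ 1 0)
      (by rw [Ne, Ug_eq_one]; simp) h
  have hUA : ∀ (u : Gz θ), (∀ {p : ov θ}, u • p = p → p = inf θ) → u • inf θ = inf θ → u ≠ 1 →
      ∀ i (g : Gz θ), g⁻¹ * u * g ∉ A i := by
    intro u hu hui hu1 i g hg
    fin_cases i
    · obtain ⟨h1, h2⟩ := hfixTp (a := u) (g := g) hg
      have h3 := hu h1
      have h4 := hu h2
      exact hp0 (smul_left_cancel g (h3.trans h4.symm))
    · have h1 := hnof hx _ hg (hconjne hu1)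
      apply h1 (g⁻¹ • inf θ)
      rw [mul_smul, mul_smul, smul_inv_smul, hui]
    · have h1 := hnof hy _ hg (hconjne hu1)
      apply h1 (g⁻¹ • inf θ)
      rw [mul_smul, mul_smul, smul_inv_smul, hui]
  have hq8 : 8 ≤ 2 ^ (2 * m + 1) := by
    calc 8 = 2 ^ 3 := by norm_num
      _ ≤ _ := Nat.pow_le_pow_right (by norm_num) (by omega)
  refine ⟨{
    hq := hq8
    hr := by rw [← pow_mul]; ring
    h4 := by
      obtain ⟨j, rfl⟩ : ∃ j, m = j + 1 := ⟨m - 1, by omega⟩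
      exact ⟨2 ^ j, by ring⟩
    card := by rw [card_G θ hθ hne, hF]
    A := A
    hTI := ?_
    hC := ?_
    hab := ?_
    a0 := by rw [hA0, card_Tp θ hθ hne hp0, hF]
    a1 := hcx
    a2 := hcy
    e0 := card_norm_Tp θ hθ hne hp0
    e1 := hidx hnx
    e2 := hidx hny
    hdis := ?_
    hreal := ?_
    σ := Ug θ hθ 0 1
    ρ := Ug θ hθ 1 0
    hσA := hUA _ hσU (Ug_inf θ hθ 0 1) (by rw [Ne, Ug_eq_one]; simp)
    hρA := hUA _ hρU (Ug_inf θ hθ 1 0) (by rw [Ne, Ug_eq_one]; simp)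
    cσ := by rw [cent_σ θ hθ hne, hF]
    cρ := by rw [cent_ρ θ hθ hne, hF]
    σ2 := ?_
    hσ := ?_
    hρ := ?_
    cover := ?_
    St := stb θ hθ
    St1 := by rw [stb_one θ hθ hne, hF]
    Stσ := stb_Up θ hθ hne (p := inf θ) (by rw [Up_inf]; exact Ug_mem θ hθ 0 1)
      (by rw [Ne, Ug_eq_one]; simp)
    Stρ := stb_Up θ hθ hne (p := inf θ) (by rw [Up_inf]; exact Ug_mem θ hθ 1 0)
      (by rw [Ne, Ug_eq_one]; simp)
    StA0 := fun k hk hk1 => stb_Tp θ hθ hne hp0 hk hk1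
    StA1 := fun k hk hk1 => stb_NoFix θ hθ hne (hnof hx k hk hk1)
    StA2 := fun k hk hk1 => stb_NoFix θ hθ hne (hnof hy k hk hk1) }⟩
  · intro i
    fin_cases i
    · exact ti_Tp θ hθ hne hp0
    · exact hti hx
    · exact hti hy
  · intro i
    fin_cases i
    · intro k hk hk1
      exact (centralizer_Tp θ hθ hne hp0 hk hk1).le
    · exact hcc hx
    · exact hcc hy
  · intro i
    fin_cases i
    · exact hcyc (Tp_cyclic θ hθ hne hp0)
    · exact hcyc (NoFix.cyclic θ hθ hne hx)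
    · exact hcyc (NoFix.cyclic θ hθ hne hy)
  · intro i j hij a ha ha1 g hg
    have t0 : ∀ {z : Gz θ}, NoFix θ z → a ∈ Tp θ (inf θ) (pt θ 0 0) →
        g⁻¹ * a * g ∈ Subgroup.centralizer {z} → False := by
      intro z hz ha hg
      have h1 := hnof hz _ hg (hconjne ha1)
      apply h1 (g⁻¹ • inf θ)
      rw [mul_smul, mul_smul, smul_inv_smul, ((mem_Tp θ).1 ha).1]
    have t1 : ∀ {z : Gz θ}, NoFix θ z → a ∈ Subgroup.centralizer {z} →
        g⁻¹ * a * g ∈ Tp θ (inf θ) (pt θ 0 0) → False := by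
      intro z hz ha hg
      exact hnof hz _ ha ha1 _ (hfixTp hg).1
    have t2 : ∀ {z w : Gz θ}, Disjoint (cls (Subgroup.centralizer {z})) (cls (Subgroup.centralizer {w})) →
        a ∈ Subgroup.centralizer {z} → g⁻¹ * a * g ∈ Subgroup.centralizer {w} → False := by
      intro z w hd ha hg
      rw [Set.disjoint_left] at hd
      refine hd (a := a) ⟨ha1, 1, by simpa using ha⟩ ⟨ha1, g⁻¹, by simpa using hg⟩
    fin_cases i <;> fin_cases j
    · exact hij rfl
    · exact t0 hx ha hg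
    · exact t0 hy ha hg
    · exact t1 hx ha hg
    · exact hij rfl
    · exact t2 hdisj ha hg
    · exact t1 hy ha hg
    · exact t2 hdisj.symm ha hg
    · exact hij rfl
  · intro i a ha
    by_cases ha1 : a = 1
    · rw [ha1, inv_one]
    have ho : Odd (orderOf a) := by
      have h1 : orderOf a ∣ Nat.card (A i) := by
        have := orderOf_dvd_natCard (⟨a, ha⟩ : A i)
        rwa [← Subgroup.orderOf_coe] at this
      exact Odd.of_dvd_nat (hodd i) h1
    obtain ⟨t, ht, hta⟩ := LMinSz.exists_inverting θ hθ hne hm hF ho ha1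
    rw [isConj_iff]
    refine ⟨t, ?_⟩
    have htt : t⁻¹ = t := by
      rw [inv_eq_iff_mul_eq_one, ← pow_two, ← ht, pow_orderOf_eq_one]
    rw [htt, hta]
  · rw [Ug_mul]
    have : (1 : F) + 1 = 0 := CharTwo.add_self_eq_zero 1
    rw [this, map_zero, zero_mul, add_zero, Ug_zero]
  · rw [Ug_inv]
    simp only [zero_mul, add_zero]
    exact IsConj.refl _
  · intro h
    have h1 := SuzukiMax.real_two θ hθ hne (p := inf θ) (by rw [Up_inf]; exact Ug_mem θ hθ 1 0) h
    rw [Ug_sq, Ug_eq_one, map_one] at h1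
    simp at h1
  · intro g
    rcases types θ hθ hne g with h | ⟨p, h⟩ | ⟨p, p', hpp, h⟩ | h
    · exact Or.inl (Subgroup.mem_bot.1 h)
    · obtain ⟨k, hk⟩ := exists_to θ hθ p
      have h1 := (mem_Up_iff_conj θ hθ hne hk g).1 h
      obtain ⟨a, b, hab⟩ := h1
      have hc : IsConj (Ug θ hθ a b) g := by
        rw [isConj_iff]
        exact ⟨k, by rw [← hab]; group⟩
      by_cases ha : a = 0
      · subst ha
        by_cases hb : b = 0
        · left
          subst hb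
          rw [Ug_zero] at hab
          have : g = k * (k⁻¹ * g * k) * k⁻¹ := by group
          rw [this, hab]; group
        · right; left
          exact (conj_σ θ hθ b hb).trans hc
      · rcases conj_ρ θ hθ a b ha with h2 | h2
        · exact Or.inr (Or.inr (Or.inl (h2.trans hc)))
        · exact Or.inr (Or.inr (Or.inr (Or.inl (h2.trans hc))))
    · by_cases hg1 : g = 1
      · exact Or.inl hg1
      obtain ⟨k, hk1, hk2⟩ := exists_pair θ hθ hpp
      refine Or.inr (Or.inr (Or.inr (Or.inr ⟨0, k, hg1, ?_⟩)))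
      show k⁻¹ * g * k ∈ Tp θ (inf θ) (pt θ 0 0)
      rw [mem_Tp]
      obtain ⟨h1, h2⟩ := (mem_Tp θ).1 h
      constructor
      · rw [mul_smul, mul_smul, hk1, h1, ← hk1, inv_smul_smul]
      · rw [mul_smul, mul_smul, hk2, h2, ← hk2, inv_smul_smul]
    · rcases hxy g h with ⟨h1, k, hk⟩ | ⟨h1, k, hk⟩
      · exact Or.inr (Or.inr (Or.inr (Or.inr ⟨1, k⁻¹, h1, by rw [inv_inv]; exact hk⟩)))
      · exact Or.inr (Or.inr (Or.inr (Or.inr ⟨2, k⁻¹, h1, by rw [inv_inv]; exact hk⟩)))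

end finite

end Cfsg.Agent.Lib.SzChr
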