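import Cfsg.Prelude.Def_Sz
import Cfsg.Agent.Lib.CharpolyFour
import Mathlib.Tactic
import Mathlib.LinearAlgebra.Matrix.ToLinearEquiv
import Mathlib.LinearAlgebra.Matrix.Charpoly.Coeff

/-! The Suzuki groups `Sz F e` of `Def_Sz`: the defining set is a subgroup, and elements fixing a nonzero
vector have order dividing 4. -/

set_option autoImplicit false

namespace Cfsg.Agent.Lib.SzFixed

open Matrix Cfsg.Lie

variable {F : Type*} [Field F]

/-- column relations of an element of `Sp4` -/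
lemma col_rel {g : GL (Fin 4) F} (hg : g ∈ Sp4 F) (i j : Fin 4) :
    altForm4 (fun a => g.1 a i) (fun a => g.1 a j) = altForm4 (Pi.single i 1) (Pi.single j (1 : F)) := by
  have h := hg (Pi.single i 1) (Pi.single j 1)
  rw [Units.coeHom_apply, Matrix.mulVec_single_one, Matrix.mulVec_single_one] at h
  exact h

/-- the antidiagonal matrix -/
def J (F : Type*) [Field F] : Matrix (Fin 4) (Fin 4) F := Matrix.of fun i j => if (i : ℕ) + j = 3 then 1 else 0

lemma J_mul_J : J F * J F = 1 := by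
  ext i j
  fin_cases i <;> fin_cases j <;> simp [J, Matrix.mul_apply, Fin.sum_univ_succ]

lemma transpose_mul {g : GL (Fin 4) F} (hg : g ∈ Sp4 F) : g.1ᵀ * J F * g.1 = J F := by
  ext i j
  have h := col_rel hg i j
  rw [Matrix.mul_apply]
  simp only [Matrix.mul_apply, Matrix.transpose_apply, Fin.sum_univ_four]
  have e : ∀ a b : Fin 4, J F a b = if (a : ℕ) + b = 3 then 1 else 0 := fun a b => rfl
  have e2 : altForm4 (Pi.single i 1) (Pi.single j (1 : F)) = J F i j := by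
    fin_cases i <;> fin_cases j <;> simp [altForm4, J]
  rw [e2] at h
  rw [← h]
  simp [e, altForm4]
  ring

lemma mul_transpose {g : GL (Fin 4) F} (hg : g ∈ Sp4 F) : g.1 * J F * g.1ᵀ = J F := by
  have h := transpose_mul hg
  have h1 : (J F * g.1ᵀ * J F) * g.1 = 1 := by
    have : (J F * g.1ᵀ * J F) * g.1 = J F * (g.1ᵀ * J F * g.1) := by noncomm_ring
    rw [this, h, J_mul_J]
  have h2 : g.1 * (J F * g.1ᵀ * J F) = 1 := mul_eq_one_comm.mp h1
  have h3 : g.1 * (J F * g.1ᵀ * J F) * J F = J F := by rw [h2, one_mul]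
  have h4 : g.1 * (J F * g.1ᵀ * J F) * J F = g.1 * J F * g.1ᵀ * (J F * J F) := by noncomm_ring
  rw [h4, J_mul_J, mul_one] at h3
  exact h3

lemma col_rel' {g : GL (Fin 4) F} (hg : g ∈ Sp4 F) (i j : Fin 4) :
    g.1 0 i * g.1 3 j + g.1 1 i * g.1 2 j + g.1 2 i * g.1 1 j + g.1 3 i * g.1 0 j =
      if (i : ℕ) + j = 3 then 1 else 0 := by
  have h := col_rel hg i j
  have e2 : altForm4 (Pi.single i 1) (Pi.single j (1 : F)) = if (i : ℕ) + j = 3 then 1 else 0 := by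
    fin_cases i <;> fin_cases j <;> simp [altForm4]
  rw [e2] at h
  exact h

lemma row_rel {g : GL (Fin 4) F} (hg : g ∈ Sp4 F) (i j : Fin 4) :
    g.1 i 0 * g.1 j 3 + g.1 i 1 * g.1 j 2 + g.1 i 2 * g.1 j 1 + g.1 i 3 * g.1 j 0 =
      if (i : ℕ) + j = 3 then 1 else 0 := by
  have h := congrFun (congrFun (mul_transpose hg) i) j
  have e : ∀ a b : Fin 4, J F a b = if (a : ℕ) + b = 3 then 1 else 0 := fun a b => rfl
  rw [Matrix.mul_apply] at h
  simp only [Matrix.mul_apply, Matrix.transpose_apply, Fin.sum_univ_four] at h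
  simp [e] at h
  rw [← h]
  ring

lemma star4_mul [CharP F 2] {g h : GL (Fin 4) F} (hg : g ∈ Sp4 F) (hh : h ∈ Sp4 F) :
    star4 (g.1 * h.1) = star4 g.1 * star4 h.1 := by
  have h2 : (2 : F) = 0 := CharTwo.two_eq_zero
  ext p r
  have key : ∀ k l i j : Fin 4, (k : ℕ) + l ≠ 3 → (i : ℕ) + j ≠ 3 →
      (g.1 * h.1) k i * (g.1 * h.1) l j - (g.1 * h.1) l i * (g.1 * h.1) k j =
      (g.1 k 0 * g.1 l 1 - g.1 l 0 * g.1 k 1) * (h.1 0 i * h.1 1 j - h.1 1 i * h.1 0 j) +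
      (g.1 k 0 * g.1 l 2 - g.1 l 0 * g.1 k 2) * (h.1 0 i * h.1 2 j - h.1 2 i * h.1 0 j) +
      (g.1 k 1 * g.1 l 3 - g.1 l 1 * g.1 k 3) * (h.1 1 i * h.1 3 j - h.1 3 i * h.1 1 j) +
      (g.1 k 2 * g.1 l 3 - g.1 l 2 * g.1 k 3) * (h.1 2 i * h.1 3 j - h.1 3 i * h.1 2 j) := by
    intro k l i j hkl hij
    have hr := row_rel hg k l
    have hc := col_rel' hh i j
    rw [if_neg hkl] at hr
    rw [if_neg hij] at hc
    simp only [Matrix.mul_apply, Fin.sum_univ_four]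
    linear_combination (g.1 k 0 * g.1 l 3 - g.1 l 0 * g.1 k 3) * hc
      + (h.1 1 i * h.1 2 j - h.1 2 i * h.1 1 j) * hr
      - ((g.1 k 0 * g.1 l 3 - g.1 l 0 * g.1 k 3) * (h.1 1 i * h.1 2 j) ) * h2
      + (-(g.1 k 0 * h.1 3 i * h.1 0 j * g.1 l 3) - h.1 1 i * g.1 k 2 * g.1 l 1 * h.1 2 j
        - h.1 1 i * g.1 k 3 * g.1 l 0 * h.1 2 j + g.1 k 2 * h.1 2 i * g.1 l 1 * h.1 1 j
        + h.1 2 i * g.1 k 3 * g.1 l 0 * h.1 1 j + g.1 k 3 * h.1 3 i * g.1 l 0 * h.1 0 j) * h2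
  have e : ∀ (A : Matrix (Fin 4) (Fin 4) F) (p r : Fin 4), star4 A p r =
      A (pairOf p).1 (pairOf r).1 * A (pairOf p).2 (pairOf r).2 -
      A (pairOf p).2 (pairOf r).1 * A (pairOf p).1 (pairOf r).2 := fun A p r => rfl
  have hp : ∀ p : Fin 4, (((pairOf p).1 : Fin 4) : ℕ) + (pairOf p).2 ≠ 3 := by
    intro p; fin_cases p <;> simp [pairOf]
  rw [Matrix.mul_apply, Fin.sum_univ_four, e, key _ _ _ _ (hp p) (hp r)]
  simp only [e]
  simp only [pairOf]
  simp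

lemma star4_one : star4 (1 : Matrix (Fin 4) (Fin 4) F) = 1 := by
  ext p r
  fin_cases p <;> fin_cases r <;> simp [star4, pairOf, Matrix.one_apply]

/-- the defining condition of the Suzuki group -/
def IsSz (k : ℕ) (g : GL (Fin 4) F) : Prop :=
  g ∈ Sp4 F ∧ star4 (g : Matrix (Fin 4) (Fin 4) F) = (g : Matrix (Fin 4) (Fin 4) F).map (fun x => x ^ (2 ^ k))

lemma map_pow_mul [CharP F 2] (k : ℕ) (A B : Matrix (Fin 4) (Fin 4) F) :
    (A * B).map (fun x => x ^ (2 ^ k)) = A.map (fun x => x ^ (2 ^ k)) * B.map (fun x => x ^ (2 ^ k)) := by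
  have : Fact (Nat.Prime 2) := ⟨Nat.prime_two⟩
  have h := Matrix.map_mul (L := A) (M := B) (f := iterateFrobenius F 2 k)
  exact h

lemma map_pow_one [CharP F 2] (k : ℕ) :
    (1 : Matrix (Fin 4) (Fin 4) F).map (fun x => x ^ (2 ^ k)) = 1 := by
  ext i j
  by_cases h : i = j
  · subst h; simp
  · simp [Matrix.one_apply_ne h]

theorem isSz_of_mem [CharP F 2] {k : ℕ} {g : GL (Fin 4) F} (hg : g ∈ Sz F (2 ^ k)) : IsSz k g := by
  refine Subgroup.closure_induction (p := fun g _ => IsSz k g) ?_ ?_ ?_ ?_ hg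
  · intro x hx; exact hx
  · refine ⟨(Sp4 F).one_mem, ?_⟩
    show star4 (1 : Matrix (Fin 4) (Fin 4) F) = (1 : Matrix (Fin 4) (Fin 4) F).map _
    rw [star4_one, map_pow_one]
  · rintro x y _ _ ⟨hx1, hx2⟩ ⟨hy1, hy2⟩
    refine ⟨(Sp4 F).mul_mem hx1 hy1, ?_⟩
    show star4 (x.1 * y.1) = (x.1 * y.1).map _
    rw [star4_mul hx1 hy1, map_pow_mul, hx2, hy2]
  · rintro x _ ⟨hx1, hx2⟩
    refine ⟨(Sp4 F).inv_mem hx1, ?_⟩
    have h1 : star4 x.1 * star4 (x⁻¹).1 = 1 := by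
      rw [← star4_mul hx1 ((Sp4 F).inv_mem hx1)]
      have : x.1 * (x⁻¹).1 = 1 := by rw [← Units.val_mul, mul_inv_cancel, Units.val_one]
      rw [this, star4_one]
    have h2 : (x.1).map (fun x => x ^ (2 ^ k)) * ((x⁻¹).1).map (fun x => x ^ (2 ^ k)) = 1 := by
      rw [← map_pow_mul]
      have : x.1 * (x⁻¹).1 = 1 := by rw [← Units.val_mul, mul_inv_cancel, Units.val_one]
      rw [this, map_pow_one]
    rw [hx2] at h1
    have h3 := mul_eq_one_comm.mp h1
    calc star4 (x⁻¹).1 = star4 (x⁻¹).1 * ((x.1).map (fun x => x ^ (2 ^ k)) * ((x⁻¹).1).map (fun x => x ^ (2 ^ k))) := by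
          rw [h2, mul_one]
      _ = (star4 (x⁻¹).1 * (x.1).map (fun x => x ^ (2 ^ k))) * ((x⁻¹).1).map (fun x => x ^ (2 ^ k)) := by rw [mul_assoc]
      _ = _ := by rw [h3, one_mul]

theorem mem_Sz_iff [CharP F 2] {k : ℕ} {g : GL (Fin 4) F} : g ∈ Sz F (2 ^ k) ↔ IsSz k g :=
  ⟨isSz_of_mem, fun h => Subgroup.subset_closure h⟩

open Cfsg.Agent.Lib.CharpolyFour

lemma det_eq_one [CharP F 2] {g : GL (Fin 4) F} (hg : g ∈ Sp4 F) : g.1.det = 1 := by
  have h := congrArg Matrix.det (transpose_mul hg)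
  rw [Matrix.det_mul, Matrix.det_mul, Matrix.det_transpose] at h
  have hJ : (J F).det * (J F).det = 1 := by rw [← Matrix.det_mul, J_mul_J, Matrix.det_one]
  have h2 : (2 : F) = 0 := CharTwo.two_eq_zero
  have h3 : g.1.det * g.1.det = 1 := by
    linear_combination (J F).det * h - (g.1.det * g.1.det - 1) * hJ
  have h4 : (g.1.det - 1) ^ 2 = 0 := by linear_combination h3 - (g.1.det - 1) * h2
  exact sub_eq_zero.mp (pow_eq_zero_iff (two_ne_zero) |>.mp h4)

lemma e3_eq [CharP F 2] {g : GL (Fin 4) F} (hg : g ∈ Sp4 F) : e3 g.1 = g.1 0 0 + g.1 1 1 + g.1 2 2 + g.1 3 3 := by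
  have h := mul_transpose hg
  have h1 : g.1 * (J F * g.1ᵀ * J F) = 1 := by
    have : g.1 * (J F * g.1ᵀ * J F) = (g.1 * J F * g.1ᵀ) * J F := by noncomm_ring
    rw [this, h, J_mul_J]
  have hadj : g.1.adjugate = J F * g.1ᵀ * J F := by
    have h2 : g.1.adjugate * g.1 = 1 := by rw [Matrix.adjugate_mul, det_eq_one hg, one_smul]
    calc g.1.adjugate = g.1.adjugate * (g.1 * (J F * g.1ᵀ * J F)) := by rw [h1, mul_one]
      _ = (g.1.adjugate * g.1) * (J F * g.1ᵀ * J F) := (mul_assoc _ _ _).symm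
      _ = _ := by rw [h2, one_mul]
  rw [← trace_adjugate, hadj, Matrix.trace_mul_comm, ← mul_assoc, J_mul_J, one_mul, Matrix.trace_transpose,
    Matrix.trace, Fin.sum_univ_four]
  rfl

/-- an element of `Sz` with eigenvalue `1` is unipotent: `g ^ 4 = 1`. -/
theorem pow_four_eq_one [CharP F 2] {k : ℕ} {g : GL (Fin 4) F} (hg : g ∈ Sz F (2 ^ k)) {v : Fin 4 → F}
    (hv : v ≠ 0) (hgv : g.1 *ᵥ v = v) : g ^ 4 = 1 := by
  obtain ⟨hsp, hst⟩ := isSz_of_mem hg
  have h2 : (2 : F) = 0 := CharTwo.two_eq_zero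
  set a := g.1 0 0 + g.1 1 1 + g.1 2 2 + g.1 3 3 with ha
  have he3 := e3_eq hsp
  have hdet := det_eq_one hsp
  -- e2 = a ^ (2^k)
  have he2 : e2 g.1 = a ^ (2 ^ k) := by
    have : Fact (Nat.Prime 2) := ⟨Nat.prime_two⟩
    have hfr : ∀ x y : F, (x + y) ^ (2 ^ k) = x ^ (2 ^ k) + y ^ (2 ^ k) := fun x y => add_pow_char_pow x y 2 k
    have h0 := congrFun (congrFun hst 0) 0
    have h1 := congrFun (congrFun hst 1) 1
    have h2' := congrFun (congrFun hst 2) 2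
    have h3 := congrFun (congrFun hst 3) 3
    simp only [star4, pairOf, Matrix.of_apply, Matrix.map_apply] at h0 h1 h2' h3
    simp at h0 h1 h2' h3
    rw [ha, hfr, hfr, hfr, ← h0, ← h1, ← h2', ← h3]
    have hr := row_rel hsp 0 3
    have hc := col_rel' hsp 0 3
    have hr' := row_rel hsp 1 2
    simp at hr hc hr'
    simp only [e2]
    linear_combination hc + hr' + (1 - g.1 1 0 * g.1 2 3 - g.1 2 0 * g.1 1 3 - g.1 0 3 * g.1 3 0
      - g.1 1 2 * g.1 2 1) * h2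
  have hdet0 : (g.1 - 1).det = 0 := by
    rw [← Matrix.exists_mulVec_eq_zero_iff]
    exact ⟨v, hv, by rw [Matrix.sub_mulVec, hgv, Matrix.one_mulVec, sub_self]⟩
  have heval : (g.1.charpoly).eval 1 = 0 := by
    rw [Matrix.eval_charpoly]
    have : (Matrix.scalar (Fin 4) (1 : F) - g.1) = -(g.1 - 1) := by
      rw [map_one]; abel
    rw [this, Matrix.det_neg, hdet0, mul_zero]
  rw [charpoly_four, he2, he3, hdet, ← ha] at heval
  simp at heval
  have ha0 : a ^ (2 ^ k) = 0 := by linear_combination heval - (1 - a) * h2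
  have ha1 : a = 0 := pow_eq_zero_iff (by positivity) |>.mp ha0
  have hc := cayley g.1
  rw [he2, he3, hdet, ← ha, ha0, ha1, zero_smul, zero_smul, zero_smul, one_smul, sub_zero, add_zero, sub_zero] at hc
  have h4 : g.1 ^ 4 = 1 := by
    have : g.1 ^ 4 = -1 := eq_neg_of_add_eq_zero_left hc
    rw [this]
    ext i j
    simp [CharTwo.neg_eq]
  apply Units.ext
  rw [Units.val_pow_eq_pow_val, h4, Units.val_one]

/-- the antidiagonal matrix is an involution of the Suzuki group -/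
def Jgl (F : Type*) [Field F] : GL (Fin 4) F := ⟨J F, J F, J_mul_J, J_mul_J⟩

lemma Jgl_mem [CharP F 2] (k : ℕ) : Jgl F ∈ Sz F (2 ^ k) := by
  rw [mem_Sz_iff]
  refine ⟨?_, ?_⟩
  · intro u v
    show altForm4 (J F *ᵥ u) (J F *ᵥ v) = altForm4 u v
    have : ∀ w : Fin 4 → F, J F *ᵥ w = ![w 3, w 2, w 1, w 0] := by
      intro w
      ext i
      fin_cases i <;> simp [J, Matrix.mulVec, dotProduct, Fin.sum_univ_four]
    rw [this, this]
    simp [altForm4]
    ring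
  · show star4 (J F) = (J F).map _
    ext p r
    fin_cases p <;> fin_cases r <;> simp [star4, pairOf, J, CharTwo.neg_eq]

lemma Jgl_sq : Jgl F ^ 2 = 1 := by
  rw [pow_two]
  apply Units.ext
  exact J_mul_J

lemma Jgl_ne_one : Jgl F ≠ 1 := by
  intro h
  have h1 := congrArg (fun g : GL (Fin 4) F => (g : Matrix (Fin 4) (Fin 4) F) 0 3) h
  have h2 : J F 0 3 = (1 : Matrix (Fin 4) (Fin 4) F) 0 3 := h1
  simp [J] at h2

end Cfsg.Agent.Lib.SzFixed
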