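import Mathlib

/-!
Identification of the Suzuki groups: the functional equation (helper13).
-/

set_option autoImplicit false

namespace Cfsg.Agent.Lib.SzId

section alg

variable {F : Type*} [Field F] {φ : F ≃+* F}

theorem nrm_inj (hinj : ∀ x : F, x * φ x = 1 → x = 1) {x y : F} (h : x * φ x = y * φ y) : x = y := by
  by_cases hy : y = 0
  · rw [hy, zero_mul] at h
    rcases mul_eq_zero.1 h with h1 | h1
    · rw [hy, h1]
    · rw [hy]; exact (map_eq_zero φ).1 h1
  · have h1 : φ y ≠ 0 := fun h => hy ((map_eq_zero φ).1 h)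
    have h2 := hinj (x / y) (by
      rw [map_div₀]
      field_simp
      linear_combination h)
    rwa [div_eq_one_iff_eq hy] at h2

theorem nrm_surj [Finite F] (hinj : ∀ x : F, x * φ x = 1 → x = 1) (x : F) : ∃ y, y * φ y = x :=
  (Finite.injective_iff_surjective.1 (fun _ _ h => nrm_inj hinj h :
    Function.Injective (fun y : F => y * φ y))) x

variable [CharP F 2]

/-- products of two endomorphisms -/
theorem two_aut {χ S T : F →+* F} (h : ∀ x, χ x * χ (φ x) = S x * T x) :
    χ = S ∨ χ = T := by
  have hsum : ∀ x, χ x + χ (φ x) = S x + T x := by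
    intro x
    have h1 := h (x + 1)
    simp only [map_add, map_one] at h1
    linear_combination h1 - h x
  have hor : ∀ x, χ x = S x ∨ χ x = T x := by
    intro x
    have h1 : (χ x - S x) * (χ x - T x) = 0 := by
      linear_combination (χ x) * hsum x - h x
    rcases mul_eq_zero.1 h1 with h2 | h2
    · exact Or.inl (sub_eq_zero.1 h2)
    · exact Or.inr (sub_eq_zero.1 h2)
  by_contra hcon
  rw [not_or] at hcon
  obtain ⟨x, hx⟩ : ∃ x, χ x ≠ S x := by
    by_contra hc
    push Not at hc
    exact hcon.1 (RingHom.ext hc)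
  obtain ⟨y, hy⟩ : ∃ y, χ y ≠ T y := by
    by_contra hc
    push Not at hc
    exact hcon.2 (RingHom.ext hc)
  have hxT := (hor x).resolve_left hx
  have hyS := (hor y).resolve_right hy
  rcases hor (x + y) with h1 | h1
  · apply hx
    rw [map_add, map_add, hyS] at h1
    exact add_right_cancel h1
  · apply hy
    rw [map_add, map_add, hxT] at h1
    exact add_left_cancel h1

theorem exists_chi [Finite F] (hinj : ∀ x : F, x * φ x = 1 → x = 1) (S T : F →+* F)
    (h : ∀ u u' : F, u ≠ 0 → u ≠ 1 → u * φ u + u' * φ u' = 1 → S u * T u + S u' * T u' = 1) :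
    ∃ χ : F →+* F, ∀ y, χ y * χ (φ y) = S y * T y := by
  choose s hs using nrm_surj (φ := φ) hinj
  have s0 : s 0 = 0 := nrm_inj hinj (by rw [hs, zero_mul])
  have s1 : s 1 = 1 := nrm_inj hinj (by rw [hs, map_one, mul_one])
  have smul : ∀ x y, s (x * y) = s x * s y := by
    intro x y
    apply nrm_inj hinj
    rw [hs, map_mul]
    conv_lhs => rw [← hs x, ← hs y]
    ring
  have h2 : (1 : F) + 1 = 0 := CharTwo.add_self_eq_zero 1
  have hadd1 : ∀ x, S (s (1 + x)) * T (s (1 + x)) = 1 + S (s x) * T (s x) := by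
    intro x
    by_cases hx0 : x = 0
    · rw [hx0, add_zero, s1, s0]; simp
    · by_cases hx1 : x = 1
      · rw [hx1, h2, s1, s0]
        simp [h2]
      · have h3 := h (s x) (s (1 + x)) (fun e => hx0 (by rw [← hs x, e, zero_mul]))
          (fun e => hx1 (by rw [← hs x, e, map_one, mul_one]))
          (by rw [hs, hs]; linear_combination x * h2)
        linear_combination h3 - (S (s x) * T (s x)) * h2
  have hmul : ∀ x y, S (s (x * y)) * T (s (x * y)) = (S (s x) * T (s x)) * (S (s y) * T (s y)) := by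
    intro x y
    rw [smul, map_mul, map_mul]; ring
  let χ : F →+* F :=
    { toFun := fun x => S (s x) * T (s x)
      map_one' := by rw [s1, map_one, map_one, one_mul]
      map_zero' := by rw [s0, map_zero, map_zero, zero_mul]
      map_mul' := hmul
      map_add' := by
        intro x y
        by_cases hx : x = 0
        · rw [hx, zero_add, s0, map_zero, zero_mul, zero_add]
        · have e1 : x + y = x * (1 + y / x) := by field_simp
          rw [e1, hmul, hadd1, mul_add, mul_one, ← hmul, mul_div_cancel₀ _ hx] }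
  refine ⟨χ, fun y => ?_⟩
  rw [← map_mul]
  change S (s (y * φ y)) * T (s (y * φ y)) = _
  have : s (y * φ y) = y := nrm_inj hinj (by rw [hs])
  rw [this]

theorem alg_main [Finite F] (hφ : φ ≠ RingEquiv.refl F) (hinj : ∀ x : F, x * φ x = 1 → x = 1)
    (ρ : F) (A : F → F)
    (h1 : ∀ u u' : F, u ≠ 0 → u ≠ 1 → u * φ u + u' * φ u' = 1 →
      A (u * φ u) * (1 + u * u') = 1 + u)
    (h2 : ∀ ν κ N : F, ν ≠ 0 → ν ≠ 1 → ν + κ = 1 → N * φ N = ν * φ ν + κ * φ κ →
      A ((ρ + 1) * κ + ρ * φ κ) * (ν * N) = N + κ)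
    (h0 : A 0 = 1) :
    (ρ = 1 ∧ ∀ x, φ (φ x) = x ^ 2) ∨ (ρ = 0 ∧ ∀ x, φ (φ x) ^ 2 = x) := by
  have h11 : (1 : F) + 1 = 0 := CharTwo.add_self_eq_zero 1
  have hself : ∀ x : F, x + x = 0 := fun x => CharTwo.add_self_eq_zero x
  obtain ⟨z, hz0, hz1⟩ : ∃ z : F, z ≠ 0 ∧ z ≠ 1 := by
    by_contra hcon
    push Not at hcon
    apply hφ
    ext x
    by_cases hx : x = 0
    · rw [hx]; simp
    · rw [hcon x hx]; simp
  -- the additive map `L`
  let L : F →+ F := AddMonoidHom.mk' (fun κ => (ρ + 1) * κ + ρ * φ κ) (by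
    intro a b; rw [map_add]; ring)
  have hL : ∀ κ, L κ = (ρ + 1) * κ + ρ * φ κ := fun _ => rfl
  have hL1 : L 1 = 1 := by rw [hL, map_one]; linear_combination ρ * h11
  have hnu : ∀ {κ : F}, κ ≠ 0 → κ ≠ 1 → (1 + κ) ≠ 0 ∧ (1 + κ) ≠ 1 := by
    intro κ hκ0 hκ1
    constructor
    · intro e
      apply hκ1
      linear_combination e - h11
    · intro e
      apply hκ0
      linear_combination e
  have hLinj : Function.Injective L := by
    rw [injective_iff_map_eq_zero]
    intro κ hκ
    by_contra hκ0
    have hκ1 : κ ≠ 1 := by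
      rintro rfl
      rw [hL1] at hκ
      exact one_ne_zero hκ
    obtain ⟨hν0, hν1⟩ := hnu hκ0 hκ1
    obtain ⟨N, hN⟩ := nrm_surj hinj ((1 + κ) * φ (1 + κ) + κ * φ κ)
    have h3 := h2 (1 + κ) κ N hν0 hν1 (by linear_combination hself κ) hN
    rw [← hL, hκ, h0] at h3
    have hN1 : N = 1 := by
      apply mul_left_cancel₀ hκ0
      linear_combination h3
    rw [hN1, map_one, map_add, map_one] at hN
    have h4 : φ κ = κ := by
      linear_combination -hN - κ * h11 - (κ * φ κ) * h11
    rw [hL, h4] at hκ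
    apply hκ0
    linear_combination hκ - (ρ * κ) * h11
  have hLsurj : Function.Surjective L := Finite.injective_iff_surjective.1 hLinj
  -- the key relation
  have key : ∀ u u' κ ν : F, u ≠ 0 → u ≠ 1 → u * φ u + u' * φ u' = 1 → L κ = u * φ u →
      ν + κ = 1 → κ ^ 2 * u' + ν ^ 2 * u = u * u' := by
    intro u u' κ ν hu0 hu1 huu hLκ hνκ
    have hLν : L ν = u' * φ u' := by
      have e : ν = 1 + κ := by linear_combination hνκ - hself κ
      rw [e, map_add, hL1, hLκ]
      linear_combination -huu + hself (u * φ u)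
    have hκ0 : κ ≠ 0 := by
      rintro rfl
      rw [map_zero] at hLκ
      rcases mul_eq_zero.1 hLκ.symm with h | h
      · exact hu0 h
      · exact hu0 ((map_eq_zero φ).1 h)
    have hκ1 : κ ≠ 1 := by
      rintro rfl
      rw [hL1] at hLκ
      exact hu1 (hinj u hLκ.symm)
    have e : ν = 1 + κ := by linear_combination hνκ - hself κ
    obtain ⟨hν0, hν1⟩ := hnu hκ0 hκ1
    rw [← e] at hν0 hν1
    have hu0' : u' ≠ 0 := by
      rintro rfl
      rw [zero_mul, add_zero] at huu
      exact hu1 (hinj u huu)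
    have hu1' : u' ≠ 1 := by
      rintro rfl
      rw [map_one, mul_one] at huu
      have : u * φ u = 0 := by linear_combination huu
      rcases mul_eq_zero.1 this with h | h
      · exact hu0 h
      · exact hu0 ((map_eq_zero φ).1 h)
    obtain ⟨N, hN⟩ := nrm_surj hinj (ν * φ ν + κ * φ κ)
    have hN0 : N ≠ 0 := by
      rintro rfl
      rw [zero_mul] at hN
      have h3 : ν * φ ν = κ * φ κ := by linear_combination -hN - hself (κ * φ κ)
      have h4 := nrm_inj hinj h3
      rw [h4, hself] at hνκ
      exact zero_ne_one hνκ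
    have a1 := h1 u u' hu0 hu1 huu
    have a2 := h2 ν κ N hν0 hν1 hνκ hN
    have a3 := h1 u' u hu0' hu1' (by rw [add_comm]; exact huu)
    have a4 := h2 κ ν N hκ0 hκ1 (by rw [add_comm]; exact hνκ) (by rw [add_comm]; exact hN)
    rw [← hL, hLκ] at a2
    rw [← hL, hLν] at a4
    set X := A (u * φ u) with hX
    set Y := A (u' * φ u') with hY
    have hp : 1 + u * u' ≠ 0 := by
      intro hp
      rw [hp, mul_zero] at a1
      apply hu1
      linear_combination -a1 - h11
    -- eliminate `X`, `Y`
    have b1 : (N + κ) * (1 + u * u') = ν * N * (1 + u) := by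
      rw [← a2, ← a1]; ring
    have b2 : (N + ν) * (1 + u * u') = κ * N * (1 + u') := by
      rw [← a4]
      have : Y * (1 + u * u') = 1 + u' := by rw [← a3]; ring
      rw [← this]; ring
    have c1 : κ * (1 + u * u') = N * (ν * (1 + u) + (1 + u * u')) := by
      linear_combination b1 - hself (N * (1 + u * u'))
    have c2 : ν * (1 + u * u') = N * (κ * (1 + u') + (1 + u * u')) := by
      linear_combination b2 - hself (N * (1 + u * u'))
    have c3 : (1 + u * u') * (κ * (κ * (1 + u') + (1 + u * u'))) =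
        (1 + u * u') * (ν * (ν * (1 + u) + (1 + u * u'))) := by
      linear_combination (κ * (1 + u') + (1 + u * u')) * c1 - (ν * (1 + u) + (1 + u * u')) * c2
    have c4 := mul_left_cancel₀ hp c3
    have c5 : κ ^ 2 + ν ^ 2 = 1 := by
      linear_combination (ν + κ + 1) * hνκ - (ν * κ) * h11
    linear_combination c4 + (1 + u * u') * hνκ - c5 + (ν ^ 2 * u) * h11
      + (ν ^ 2) * h11 - κ * (1 + u * u') * h11
  -- the fixed field
  have hfix : ∀ c, φ c = c → c = 0 ∨ c = 1 := by
    intro c hc
    by_contra hcon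
    rw [not_or] at hcon
    obtain ⟨hc0, hc1⟩ := hcon
    obtain ⟨κ, hκ⟩ := hLsurj (c * φ c)
    have h3 := key c (1 + c) κ (1 + κ) hc0 hc1 (by
      rw [map_add, map_one, hc]
      linear_combination (c ^ 2 + c) * h11) hκ (by linear_combination hself κ)
    have h4 : (κ + c) ^ 2 = 0 := by
      linear_combination h3 + (c ^ 2) * h11 - (κ ^ 2 * c) * h11
    have h5 : κ = c := by
      have := pow_eq_zero_iff (two_ne_zero) |>.1 h4
      linear_combination this - hself c
    rw [h5, hL, hc] at hκ
    have h6 : c * (c - 1) = 0 := by linear_combination -hκ + (ρ * c) * h11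
    rcases mul_eq_zero.1 h6 with h | h
    · exact hc0 h
    · exact hc1 (sub_eq_zero.1 h)
  -- `ρ` is `0` or `1`
  have hρ : ρ = 0 ∨ ρ = 1 := by
    by_contra hcon
    rw [not_or] at hcon
    obtain ⟨hρ0, hρ1⟩ := hcon
    have hρ1' : ρ + 1 ≠ 0 := fun e => hρ1 (by linear_combination e - h11)
    have hsur : Function.Surjective (fun x : Fˣ => Units.mk0 (φ (x : F) / x)
        (div_ne_zero (fun e => x.ne_zero ((map_eq_zero φ).1 e)) x.ne_zero)) := by
      apply Finite.injective_iff_surjective.1
      intro x y hxy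
      have h3 : φ (x : F) / x = φ (y : F) / y := congrArg Units.val hxy
      have hy0 : φ (y : F) ≠ 0 := fun e => y.ne_zero ((map_eq_zero φ).1 e)
      have h4 := hfix ((x : F) / y) (by
        rw [map_div₀]
        have hx := x.ne_zero
        have hy := y.ne_zero
        field_simp at h3 ⊢
        linear_combination h3)
      rcases h4 with h4 | h4
      · exact absurd h4 (div_ne_zero x.ne_zero y.ne_zero)
      · rw [div_eq_one_iff_eq y.ne_zero] at h4
        exact Units.ext h4
    obtain ⟨κ, hκ⟩ := hsur (Units.mk0 ((ρ + 1) / ρ) (div_ne_zero hρ1' hρ0))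
    have h3 : φ (κ : F) / κ = (ρ + 1) / ρ := congrArg Units.val hκ
    have h4 : L (κ : F) = 0 := by
      rw [hL]
      rw [div_eq_div_iff κ.ne_zero hρ0] at h3
      linear_combination h3 + ((ρ + 1) * κ) * h11
    exact κ.ne_zero (hLinj (by rw [h4, map_zero]))
  -- conclusion
  have hbad : ∀ x : F, (∀ y : F, y ^ 2 = y) → x = 0 ∨ x = 1 := by
    intro x h
    have h3 : x * (x - 1) = 0 := by linear_combination h x
    rcases mul_eq_zero.1 h3 with h | h
    · exact Or.inl h
    · exact Or.inr (sub_eq_zero.1 h)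
  have hzbad : ¬ ∀ y : F, y ^ 2 = y := fun h => by
    rcases hbad z h with h | h
    · exact hz0 h
    · exact hz1 h
  rcases hρ with rfl | rfl
  · right
    refine ⟨rfl, ?_⟩
    let T : F →+* F := (frobenius F 2).comp (φ : F →+* F)
    have hT : ∀ x, T x = φ x ^ 2 := fun _ => rfl
    obtain ⟨χ, hχ⟩ := exists_chi hinj (RingHom.id F) T (by
      intro u u' hu0 hu1 huu
      have h3 := key u u' (u * φ u) (1 + u * φ u) hu0 hu1 huu (by rw [hL]; ring)
        (by linear_combination hself (u * φ u))
      have h4 : 1 + u * φ u = u' * φ u' := by linear_combination -huu + hself (u * φ u)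
      rw [h4] at h3
      have hu0' : u' ≠ 0 := by
        rintro rfl
        rw [zero_mul, add_zero] at huu
        exact hu1 (hinj u huu)
      rw [hT, hT]
      apply mul_left_cancel₀ (mul_ne_zero hu0 hu0')
      change u * u' * (u * φ u ^ 2 + u' * φ u' ^ 2) = _
      linear_combination h3)
    rcases two_aut hχ with h3 | h3
    · exfalso
      apply hzbad
      intro y
      obtain ⟨x, rfl⟩ := φ.surjective y
      have h4 := hχ x
      rw [h3, hT] at h4
      change x * φ x = x * φ x ^ 2 at h4
      by_cases hx : x = 0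
      · rw [hx]; simp
      · exact (mul_left_cancel₀ hx h4).symm
    · intro x
      have h4 := hχ x
      rw [h3, hT, hT] at h4
      change φ x ^ 2 * φ (φ x) ^ 2 = x * φ x ^ 2 at h4
      by_cases hx : x = 0
      · rw [hx]; simp
      · have h5 : φ x ^ 2 ≠ 0 := pow_ne_zero _ (fun e => hx ((map_eq_zero φ).1 e))
        apply mul_left_cancel₀ h5
        rw [h4]; ring
  · left
    refine ⟨rfl, ?_⟩
    obtain ⟨χ, hχ⟩ := exists_chi hinj (frobenius F 2) (φ : F →+* F) (by
      intro u u' hu0 hu1 huu
      obtain ⟨κ, hκ⟩ := φ.surjective (u * φ u)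
      have h3 := key u u' κ (1 + κ) hu0 hu1 huu (by rw [hL, ← hκ]; linear_combination κ * h11)
        (by linear_combination hself κ)
      have h4 : φ (1 + κ) = u' * φ u' := by
        rw [map_add, map_one, hκ]
        linear_combination -huu + hself (u * φ u)
      have hu0' : u' ≠ 0 := by
        rintro rfl
        rw [zero_mul, add_zero] at huu
        exact hu1 (hinj u huu)
      have h5 := congrArg φ h3
      rw [map_add, map_mul, map_mul, map_mul, map_pow, map_pow, h4, hκ] at h5
      have hφu : φ u ≠ 0 := fun e => hu0 ((map_eq_zero φ).1 e)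
      have hφu' : φ u' ≠ 0 := fun e => hu0' ((map_eq_zero φ).1 e)
      apply mul_left_cancel₀ (mul_ne_zero hφu hφu')
      change φ u * φ u' * (u ^ 2 * φ u + u' ^ 2 * φ u') = _
      linear_combination h5)
    have hfr : ∀ x : F, frobenius F 2 x = x ^ 2 := fun _ => rfl
    rcases two_aut hχ with h3 | h3
    · exfalso
      apply hzbad
      intro y
      obtain ⟨x, rfl⟩ := φ.surjective y
      have h4 := hχ x
      rw [h3, hfr, hfr] at h4
      change x ^ 2 * φ x ^ 2 = x ^ 2 * φ x at h4
      by_cases hx : x = 0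
      · rw [hx]; simp
      · exact mul_left_cancel₀ (pow_ne_zero 2 hx) h4
    · intro x
      have h4 := hχ x
      rw [h3, hfr] at h4
      change φ x * φ (φ x) = x ^ 2 * φ x at h4
      by_cases hx : x = 0
      · rw [hx]; simp
      · have h5 : φ x ≠ 0 := (fun e => hx ((map_eq_zero φ).1 e))
        apply mul_left_cancel₀ h5
        rw [h4]; ring

end alg

end Cfsg.Agent.Lib.SzId
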