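import Cfsg.Agent.Lib.HigmanA

/-!
Equivariant coordinates on a Suzuki 2-group of order `q ^ 2` (helper13; after helper6's
`HigmanA`).
-/

set_option autoImplicit false
set_option linter.all false

namespace Cfsg.Agent.Lib.SzId

open Cfsg Cfsg.Agent.Lib HigmanLin Cfsg.Agent.Lib.HigmanBase
open scoped commutatorElement

universe u v

/-- equivariant coordinates -/
structure Coord {P : Type*} [Group P] {K : Type*} [Group K] (φ : K →* MulAut P) {E : Type*} [Field E]
    (ψ : E ≃+* E) (α b : P → E) (lam : K → E) : Prop where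
  add : ∀ x y, α (x * y) = α x + α y
  coc : ∀ x y, b (x * y) = b x + b y + ψ (α x) * α y
  act : ∀ k x, α (φ k x) = lam k * α x
  actb : ∀ k x, b (φ k x) = lam k * ψ (lam k) * b x
  ne : ∀ k, lam k ≠ 0
  surj : ∀ c : E, c ≠ 0 → ∃ k, lam k = c
  bij : Function.Bijective (fun x => (α x, b x))

variable {P : Type u} [Group P] [Finite P] {K : Type v} [CommGroup K]

set_option maxHeartbeats 1000000 in
theorem exists_coord {φ : K →* MulAut P} (h : Hyp φ) (hna : ∃ x y : P, x * y ≠ y * x)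
    {F : Type u} [Field F] [CharP F 2] [Finite F] {ι : P → F} {χ : K → F} (f : Fld φ ι χ)
    (hcard : Nat.card P = Nat.card F ^ 2) :
    ∃ (E : Type) (_ : Field E) (_ : Fintype E) (_ : CharP E 2) (ψ : E ≃+* E) (α b : P → E)
      (lam : K → E), Fintype.card E = Nat.card F ∧ ψ ≠ RingEquiv.refl E ∧
      (∀ x : E, x * ψ x = 1 → x = 1) ∧ Coord φ ψ α b lam := by
  classical
  haveI := h.Z_normal
  haveI : Fintype F := Fintype.ofFinite F
  have hZ : ∀ k, ∀ x ∈ h.Z, φ k x ∈ h.Z := fun k x hx => h.Z_inv k hx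
  set V := P ⧸ h.Z with hV
  -- V is commutative
  have hVc : ∀ a b : V, a * b = b * a := by
    intro a b
    induction a using QuotientGroup.induction_on with
    | H a =>
    induction b using QuotientGroup.induction_on with
    | H b =>
    rw [← commutatorElement_eq_one_iff_mul_comm]
    exact (QuotientGroup.eq_one_iff _).2 (h.comm_mem hna a b)
  letI : CommGroup V := { (inferInstance : Group V) with mul_comm := hVc }
  let Φ := quot φ h.Z hZ
  letI : MulDistribMulAction K V := MulDistribMulAction.compHom V Φ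
  have hsm : ∀ (k : K) (x : P), k • (x : V) = ((φ k x : P) : V) := fun k x => quot_mk φ h.Z hZ k x
  have hcV : Nat.card V = Nat.card F := by
    have h1 := h.Z.card_eq_card_quotient_mul_card_subgroup
    rw [f.card_Z h, hcard, pow_two] at h1
    exact (Nat.eq_of_mul_eq_mul_right Nat.card_pos h1).symm
  obtain ⟨n, hn2, hn⟩ := h.card_F f
  have hq4 : 4 ≤ Nat.card F := by
    rw [hn]
    calc 4 = 2 ^ 2 := by norm_num
      _ ≤ 2 ^ n := Nat.pow_le_pow_right (by norm_num) hn2
  haveI : Finite V := inferInstance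
  haveI : Fintype V := Fintype.ofFinite V
  haveI : Nontrivial V := by
    rw [← Finite.one_lt_card_iff_nontrivial, hcV]; omega
  -- K is finite of order q - 1
  let eK : K ≃ Fˣ := Equiv.ofBijective (fun k => Units.mk0 (χ k) (f.χ_ne k)) ⟨by
    intro k l hkl
    have h1 : χ k = χ l := congrArg Units.val hkl
    have h2 : χ (k * l⁻¹) = 1 := by
      rw [f.χ_mul, f.χ_inv, h1, mul_inv_cancel₀ (f.χ_ne l)]
    exact mul_inv_eq_one.1 (f.χ_inj h h2), by
    intro u
    obtain ⟨k, hk⟩ := f.χ_surj u u.ne_zero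
    exact ⟨k, Units.ext hk⟩⟩
  haveI : Fintype K := Fintype.ofEquiv _ eK.symm
  have hcK : Fintype.card K = Fintype.card F - 1 := by
    rw [Fintype.card_congr eK, Fintype.card_units]
  -- regularity
  have hfix : ∀ (k : K) (a : V), k • a = a → a ≠ 1 → k = 1 := by
    intro k a hka ha
    induction a using QuotientGroup.induction_on with
    | H a =>
    by_contra hk
    apply ha
    rw [hsm] at hka
    have h1 : a⁻¹ * φ k a ∈ h.Z := QuotientGroup.eq.1 hka.symm
    exact (QuotientGroup.eq_one_iff a).2 (h.fpf_quot hk (hZ k) h1)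
  have hreg : ∀ a b : V, a ≠ 1 → b ≠ 1 → ∃! k : K, k • a = b := by
    intro a b ha hb
    have hne : ∀ k : K, k • a ≠ 1 := by
      intro k hk
      apply ha
      have := congrArg (fun t => k⁻¹ • t) hk
      simpa using this
    let g : K → {v : V // v ≠ 1} := fun k => ⟨k • a, hne k⟩
    have hg : Function.Injective g := by
      intro k l hkl
      have h1 : k • a = l • a := congrArg Subtype.val hkl
      have h2 : (l⁻¹ * k) • a = a := by rw [mul_smul, h1, inv_smul_smul]
      have h3 := hfix _ _ h2 ha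
      exact (inv_mul_eq_one.1 h3).symm
    have hb' : Function.Bijective g := by
      rw [Fintype.bijective_iff_injective_and_card]
      refine ⟨hg, ?_⟩
      rw [hcK, Fintype.card_subtype_compl, Fintype.card_subtype_eq]
      rw [Nat.card_eq_fintype_card, Nat.card_eq_fintype_card] at hcV
      rw [hcV]
    obtain ⟨k, hk⟩ := hb'.2 ⟨b, hb⟩
    refine ⟨k, congrArg Subtype.val hk, fun l hl => hg ?_⟩
    rw [hk]
    exact Subtype.ext hl
  obtain ⟨fE, η, χ', hη1, hηm, hηa, hχ0, hχs⟩ := RegField.exists_field hreg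
  letI := fE
  haveI : Finite (RegField.Wrap V) := Finite.of_equiv _ η
  haveI : Fintype (RegField.Wrap V) := Fintype.ofFinite _
  have hcW : Nat.card (RegField.Wrap V) = 2 ^ n := by
    rw [← hn, ← hcV]; exact (Nat.card_congr η).symm
  haveI hF2 : Fact (Nat.Prime 2) := ⟨Nat.prime_two⟩
  -- the target field
  have hn0 : n ≠ 0 := by omega
  let E := GaloisField 2 n
  have hcE : Nat.card E = 2 ^ n := GaloisField.card 2 n hn0
  haveI : Finite E := Nat.finite_of_card_ne_zero (by rw [hcE]; positivity)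
  haveI : Fintype E := Fintype.ofFinite E
  haveI : CharP E 2 := inferInstance
  let e1 : RegField.Wrap V ≃+* E := FiniteField.ringEquivOfCardEq (by
    rw [← Nat.card_eq_fintype_card, ← Nat.card_eq_fintype_card, hcW, hcE])
  let e2 : F ≃+* E := FiniteField.ringEquivOfCardEq (by
    rw [← Nat.card_eq_fintype_card, ← Nat.card_eq_fintype_card, hn, hcE])
  -- base point
  obtain ⟨v1, hv1⟩ := η.surjective 1
  obtain ⟨x1, rfl⟩ := QuotientGroup.mk_surjective v1
  have hx1 : x1 ∉ h.Z := by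
    intro hx
    rw [← QuotientGroup.eq_one_iff] at hx
    rw [hx, hη1] at hv1
    exact zero_ne_one hv1
  have hx1' : ι (x1 * x1) ≠ 0 := fun h0 => hx1 (f.inj _ (h.sq_mem hna x1) h0)
  set c0 := ι (x1 * x1) with hc0
  -- squares depend only on the class
  have hsqc : ∀ x y : P, (x : V) = y → x * x = y * y := by
    intro x y hxy
    have h1 : x⁻¹ * y ∈ h.Z := QuotientGroup.eq.1 hxy
    have h2 : y = x * (x⁻¹ * y) := by group
    have h3 := h.central (h.mem_Z.1 h1)
    calc x * x = x * x * ((x⁻¹ * y) * (x⁻¹ * y)) := by rw [h.mem_Z.1 h1, mul_one]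
      _ = x * (x * (x⁻¹ * y)) * (x⁻¹ * y) := by group
      _ = x * ((x⁻¹ * y) * x) * (x⁻¹ * y) := by rw [h3 x]
      _ = y * y := by group
  let α : P → E := fun x => e1 (η (x : V))
  let γ : P → E := fun z => e2 (ι z / c0)
  let Q : E → E := fun v => γ (Quotient.out (η.symm (e1.symm v)) * Quotient.out (η.symm (e1.symm v)))
  have hQ : ∀ x : P, Q (α x) = γ (x * x) := by
    intro x
    change γ (Quotient.out (η.symm (e1.symm (e1 (η (x : V))))) *
      Quotient.out (η.symm (e1.symm (e1 (η (x : V)))))) = γ (x * x)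
    rw [RingEquiv.symm_apply_apply, Equiv.symm_apply_apply]
    rw [hsqc _ x (Quotient.out_eq (x : V))]
  have hα0 : ∀ x, α x = 0 ↔ x ∈ h.Z := by
    intro x
    change e1 (η (x : V)) = 0 ↔ _
    rw [map_eq_zero, ← hη1, η.injective.eq_iff, QuotientGroup.eq_one_iff]
  have hαs : ∀ v, ∃ x, α x = v := by
    intro v
    obtain ⟨x, hx⟩ := QuotientGroup.mk_surjective (η.symm (e1.symm v))
    refine ⟨x, ?_⟩
    change e1 (η (x : V)) = v
    rw [hx, Equiv.apply_symm_apply, RingEquiv.apply_symm_apply]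
  have hαm : ∀ x y, α (x * y) = α x + α y := by
    intro x y
    change e1 (η ((x * y : P) : V)) = e1 (η (x : V)) + e1 (η (y : V))
    rw [QuotientGroup.mk_mul, hηm, map_add]
  have hγm : ∀ z w, z ∈ h.Z → w ∈ h.Z → γ (z * w) = γ z + γ w := by
    intro z w hz hw
    change e2 (ι (z * w) / c0) = e2 (ι z / c0) + e2 (ι w / c0)
    rw [f.add z w hz hw, add_div, map_add]
  have hγ0 : ∀ z ∈ h.Z, γ z = 0 → z = 1 := by
    intro z hz h0
    have h1 := (map_eq_zero e2).1 h0
    exact f.inj z hz ((div_eq_zero_iff.1 h1).resolve_right hx1')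
  have hγs : ∀ v, ∃ z ∈ h.Z, γ z = v := by
    intro v
    obtain ⟨z, hz, hz2⟩ := f.surj (c0 * e2.symm v)
    refine ⟨z, hz, ?_⟩
    change e2 (ι z / c0) = v
    rw [hz2, mul_div_cancel_left₀ _ hx1', RingEquiv.apply_symm_apply]
  -- multiplicativity
  have hαk : ∀ k x, α (φ k x) = e1 (χ' k) * α x := by
    intro k x
    change e1 (η ((φ k x : P) : V)) = e1 (χ' k) * e1 (η (x : V))
    rw [← map_mul, ← hηa, hsm]
  have hγk : ∀ k z, z ∈ h.Z → γ (φ k z) = e2 (χ k) * γ z := by
    intro k z hz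
    change e2 (ι (φ k z) / c0) = e2 (χ k) * e2 (ι z / c0)
    rw [f.act k z hz, ← map_mul, mul_div_assoc]
  have hα1 : α x1 = 1 := by
    change e1 (η (x1 : V)) = 1
    rw [hv1, map_one]
  have hQk : ∀ k v, Q (e1 (χ' k) * v) = e2 (χ k) * Q v := by
    intro k v
    obtain ⟨x, rfl⟩ := hαs v
    rw [← hαk, hQ, hQ, ← map_mul, hγk _ _ (h.sq_mem hna x)]
  have hQ1 : Q 1 = 1 := by
    have h1 := hQ x1
    rw [hα1] at h1
    rw [h1]
    change e2 (ι (x1 * x1) / c0) = 1
    rw [← hc0, div_self hx1', map_one]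
  have hQk1 : ∀ k, Q (e1 (χ' k)) = e2 (χ k) := by
    intro k
    have := hQk k 1
    rwa [mul_one, hQ1, mul_one] at this
  have hQ0 : Q 0 = 0 := by
    have h1 : α 1 = 0 := (hα0 1).2 h.Z.one_mem
    have h2 := hQ 1
    rw [h1] at h2
    rw [h2, one_mul]
    change e2 (ι 1 / c0) = 0
    rw [f.map_one, zero_div, map_zero]
  have hks : ∀ v : E, v ≠ 0 → ∃ k, e1 (χ' k) = v := by
    intro v hv
    obtain ⟨k, hk⟩ := hχs (e1.symm v) (by
      intro h0; exact hv ((map_eq_zero e1.symm).1 h0))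
    exact ⟨k, by rw [hk, RingEquiv.apply_symm_apply]⟩
  have hQm : ∀ x y, Q (x * y) = Q x * Q y := by
    intro x y
    by_cases hx : x = 0
    · rw [hx, zero_mul, hQ0, zero_mul]
    · obtain ⟨k, rfl⟩ := hks x hx
      rw [hQk, hQk1]
  -- the bilinear map
  have hBex : ∃ B : E →+ E →+ E, ∀ x y, Q (x + y) = Q x + Q y + B x y := by
    have hadd : ∀ x y : P, Q (α x + α y) = Q (α x) + Q (α y) + γ ⁅x, y⁆ := by
      intro x y
      rw [← hαm, hQ, hQ, hQ, h.sq_mul hna, hγm _ _ (h.Z.mul_mem (h.sq_mem hna x) (h.sq_mem hna y))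
        (h.comm_mem hna x y), hγm _ _ (h.sq_mem hna x) (h.sq_mem hna y)]
    have hb : ∀ x y : P, Q (α x + α y) - Q (α x) - Q (α y) = γ ⁅x, y⁆ := by
      intro x y; rw [hadd]; ring
    refine ⟨AddMonoidHom.mk' (fun x => AddMonoidHom.mk' (fun y => Q (x + y) - Q x - Q y) ?_) ?_, ?_⟩
    · intro a b
      obtain ⟨x, rfl⟩ := hαs x
      obtain ⟨a, rfl⟩ := hαs a
      obtain ⟨b, rfl⟩ := hαs b
      rw [← hαm a b, hb, hb, hb, h.comm_mul_right hna, hγm _ _ (h.comm_mem hna x a) (h.comm_mem hna x b)]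
    · intro a b
      ext y
      obtain ⟨y, rfl⟩ := hαs y
      obtain ⟨a, rfl⟩ := hαs a
      obtain ⟨b, rfl⟩ := hαs b
      change Q (α a + α b + α y) - Q (α a + α b) - Q (α y) =
        (Q (α a + α y) - Q (α a) - Q (α y)) + (Q (α b + α y) - Q (α b) - Q (α y))
      rw [← hαm a b, hb, hb, hb, h.comm_mul_left hna, hγm _ _ (h.comm_mem hna a y) (h.comm_mem hna b y)]
    · intro x y
      change Q (x + y) = Q x + Q y + (Q (x + y) - Q x - Q y)
      ring
  obtain ⟨B, hB⟩ := hBex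
  have hB0 : B ≠ 0 := by
    intro h0
    obtain ⟨x, y, hxy⟩ := hna
    apply hxy
    rw [← commutatorElement_eq_one_iff_mul_comm]
    apply hγ0 _ (h.comm_mem ⟨x, y, hxy⟩ x y)
    have h1 := hB (α x) (α y)
    rw [h0, ← hαm, hQ, hQ, hQ, h.sq_mul ⟨x, y, hxy⟩,
      hγm _ _ (h.Z.mul_mem (h.sq_mem ⟨x, y, hxy⟩ x) (h.sq_mem ⟨x, y, hxy⟩ y))
        (h.comm_mem ⟨x, y, hxy⟩ x y), hγm _ _ (h.sq_mem ⟨x, y, hxy⟩ x) (h.sq_mem ⟨x, y, hxy⟩ y)] at h1
    have h2 : (0 : E →+ E →+ E) (α x) (α y) = 0 := rfl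
    rw [h2, add_zero] at h1
    exact add_eq_left.1 h1
  have hinj : ∀ v, Q v = 1 → v = 1 := by
    intro v hv
    have hv0 : v ≠ 0 := by
      rintro rfl
      rw [hQ0] at hv
      exact zero_ne_one hv
    obtain ⟨k, rfl⟩ := hks v hv0
    rw [hQk1] at hv
    have h1 : χ k = 1 := by
      apply e2.injective
      rw [hv, map_one]
    have h2 := f.χ_inj h h1
    subst h2
    have h3 := hαk 1 x1
    rw [map_one, hα1, mul_one] at h3
    rw [← h3]
    exact hα1
  obtain ⟨ρ, ψ, hψ1, hψo, hψ⟩ := HigmanQuad.quad_map Q hQm B hB hB0 hinj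
  have hext : HigmanIso.Ext (fun x => ρ (α x)) γ := by
    refine ⟨?_, ?_, ?_, ?_, ?_, ?_⟩
    · intro x y; rw [hαm, map_add]
    · intro e
      obtain ⟨x, hx⟩ := hαs (ρ.symm e)
      exact ⟨x, by rw [hx, RingEquiv.apply_symm_apply]⟩
    · intro z hz x
      have hz' : z ∈ h.Z := (hα0 z).1 ((map_eq_zero ρ).1 hz)
      exact h.central hz' x
    · intro z w hz hw
      exact hγm z w ((hα0 z).1 ((map_eq_zero ρ).1 hz)) ((hα0 w).1 ((map_eq_zero ρ).1 hw))
    · intro z hz h0
      exact hγ0 z ((hα0 z).1 ((map_eq_zero ρ).1 hz)) h0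
    · intro e
      obtain ⟨z, hz, hz2⟩ := hγs e
      exact ⟨z, by rw [(hα0 z).2 hz, map_zero], hz2⟩

  -- the graph
  haveI : Finite (suzukiTypeA E (ψ : E →+* E)) :=
    Finite.of_equiv _ (HigmanTypeA.equiv (ψ : E →+* E)).symm
  have hext' := HigmanTypeA.ext (ψ : E →+* E)
  obtain ⟨M, hM1, hM2, hM3⟩ := HigmanIso.exists_graph hext hext' (fun e => CharTwo.add_self_eq_zero e)
    (by
      intro x x' hxx
      rw [← hQ, hψ, HigmanTypeA.sq, hxx]; rfl)
  choose Θ hΘ using hM3
  have huniq : ∀ {p : P} {p' p''}, (p, p') ∈ M → (p, p'') ∈ M → p' = p'' := by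
    intro p p' p'' h1 h2
    have h3 : ((1 : P), p'⁻¹ * p'') ∈ M := by
      have := M.mul_mem (M.inv_mem h1) h2
      have e : (p, p')⁻¹ * (p, p'') = ((1 : P), p'⁻¹ * p'') := by
        change (p⁻¹ * p, p'⁻¹ * p'') = _
        rw [inv_mul_cancel]
      rwa [e] at this
    have h4 := hM1 _ h3
    have h5 : (fun x => ρ (α x)) (1 : P) = 0 := hext.map_one
    have h6 := hM2 _ h3 h5
    have h7 : γ (1 : P) = 0 := hext.one
    change γ (1 : P) = _ at h6
    rw [h7] at h6
    change (fun x => ρ (α x)) (1 : P) = _ at h4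
    rw [h5] at h4
    have h8 := hext'.inj _ h4.symm h6.symm
    exact inv_mul_eq_one.1 h8
  have hΘm : ∀ x y, Θ (x * y) = Θ x * Θ y := fun x y => huniq (hΘ _) (M.mul_mem (hΘ x) (hΘ y))
  set b0 : P → E := fun x => HigmanTypeA.cy (ψ : E →+* E) (Θ x) with hb0
  have hcx : ∀ x, HigmanTypeA.cx (ψ : E →+* E) (Θ x) = ρ (α x) := fun x => (hM1 _ (hΘ x)).symm
  have hcymul : ∀ g g' : suzukiTypeA E (ψ : E →+* E), HigmanTypeA.cy (ψ : E →+* E) (g * g') =
      HigmanTypeA.cy (ψ : E →+* E) g + HigmanTypeA.cy (ψ : E →+* E) g' +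
        ψ (HigmanTypeA.cx (ψ : E →+* E) g) * HigmanTypeA.cx (ψ : E →+* E) g' := by
    intro g g'
    obtain ⟨x, y, rfl⟩ := HigmanTypeA.exists_el (ψ : E →+* E) g
    obtain ⟨x', y', rfl⟩ := HigmanTypeA.exists_el (ψ : E →+* E) g'
    rw [HigmanTypeA.el_mul, HigmanTypeA.cy_el, HigmanTypeA.cy_el, HigmanTypeA.cy_el,
      HigmanTypeA.cx_el, HigmanTypeA.cx_el]
    rfl
  have hb0m : ∀ x y, b0 (x * y) = b0 x + b0 y + ψ (ρ (α x)) * ρ (α y) := by
    intro x y
    change HigmanTypeA.cy _ (Θ (x * y)) = _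
    rw [hΘm, hcymul, hcx, hcx]
  have hb0z : ∀ z, α z = 0 → b0 z = γ z := by
    intro z hz
    have h1 := hM2 _ (hΘ z) (by
      change ρ (α z) = 0
      rw [hz, map_zero])
    exact h1.symm
  set lam : K → E := fun k => ρ (e1 (χ' k)) with hlam
  have hlam0 : ∀ k, lam k ≠ 0 := by
    intro k h0
    have h1 := (map_eq_zero e1).1 ((map_eq_zero ρ).1 h0)
    exact hχ0 k h1
  have hlamm : ∀ k l, lam (k * l) = lam k * lam l := by
    intro k l
    have h1 := hαk (k * l) x1
    have h2 := hαk k (φ l x1)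
    rw [hαk l x1, hα1, mul_one] at h2
    rw [map_mul, hα1, mul_one] at h1
    have h3 : (φ k * φ l) x1 = φ k (φ l x1) := rfl
    rw [h3, h2] at h1
    change ρ (e1 (χ' (k * l))) = _
    rw [← h1, map_mul]
  have hγlam : ∀ k z, z ∈ h.Z → γ (φ k z) = lam k * ψ (lam k) * γ z := by
    intro k z hz
    rw [hγk k z hz, ← hQk1, hψ]
  have hK1 : ((Fintype.card K : ℕ) : E) = 1 := by
    have h1 : Fintype.card K + 1 = 2 ^ n := by
      have h2 : 1 ≤ Fintype.card F := Fintype.card_pos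
      rw [← hn, Nat.card_eq_fintype_card, hcK]
      omega
    have h2 : ((Fintype.card K : ℕ) : E) + 1 = 0 := by
      have h3 : (((Fintype.card K + 1 : ℕ)) : E) = 0 := by
        rw [h1, Nat.cast_pow]
        have : ((2 : ℕ) : E) = 0 := CharP.cast_eq_zero E 2
        rw [this, zero_pow hn0]
      push_cast at h3
      exact h3
    have h3 : (1 : E) + 1 = 0 := CharTwo.add_self_eq_zero 1
    linear_combination h2 - h3
  refine ⟨E, inferInstance, inferInstance, inferInstance, ψ, fun x => ρ (α x),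
    fun x => ∑ k : K, (lam k * ψ (lam k))⁻¹ * b0 (φ k x), lam, ?_, hψ1, ?_, ?_⟩
  · rw [← Nat.card_eq_fintype_card, hcE, hn]
  · intro x hx
    have h1 : ρ.symm x = 1 := by
      apply hinj
      rw [hψ, RingEquiv.apply_symm_apply]
      exact hx
    have h2 := congrArg ρ h1
    rwa [RingEquiv.apply_symm_apply, map_one] at h2
  · have hne : ∀ k, lam k * ψ (lam k) ≠ 0 := fun k =>
      mul_ne_zero (hlam0 k) (fun e => hlam0 k ((map_eq_zero ψ).1 e))
    have hbz : ∀ z, α z = 0 → ∑ k : K, (lam k * ψ (lam k))⁻¹ * b0 (φ k z) = γ z := by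
      intro z hz
      have h1 : ∀ k ∈ (Finset.univ : Finset K), (lam k * ψ (lam k))⁻¹ * b0 (φ k z) = γ z := by
        intro k _
        rw [hb0z _ (by rw [hαk, hz, mul_zero]), hγlam k z ((hα0 z).1 hz), ← mul_assoc,
          inv_mul_cancel₀ (hne k), one_mul]
      rw [Finset.sum_congr rfl h1, Finset.sum_const, Finset.card_univ, nsmul_eq_mul, hK1, one_mul]
    have hcoc : ∀ x y, ∑ k : K, (lam k * ψ (lam k))⁻¹ * b0 (φ k (x * y)) =
        (∑ k : K, (lam k * ψ (lam k))⁻¹ * b0 (φ k x)) + (∑ k : K, (lam k * ψ (lam k))⁻¹ * b0 (φ k y)) +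
          ψ (ρ (α x)) * ρ (α y) := by
      intro x y
      have h1 : ∀ k ∈ (Finset.univ : Finset K), (lam k * ψ (lam k))⁻¹ * b0 (φ k (x * y)) =
          (lam k * ψ (lam k))⁻¹ * b0 (φ k x) + (lam k * ψ (lam k))⁻¹ * b0 (φ k y) +
            ψ (ρ (α x)) * ρ (α y) := by
        intro k _
        have h2 := hne k
        have h5 : (lam k * ψ (lam k))⁻¹ * (lam k * ψ (lam k)) = 1 := inv_mul_cancel₀ h2
        rw [map_mul, hb0m, hαk, hαk]
        simp only [map_mul]
        change (lam k * ψ (lam k))⁻¹ * (b0 (φ k x) + b0 (φ k y) +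
          (ψ (lam k) * ψ (ρ (α x))) * (lam k * ρ (α y))) = _
        linear_combination (ψ (ρ (α x)) * ρ (α y)) * h5
      rw [Finset.sum_congr rfl h1, Finset.sum_add_distrib, Finset.sum_add_distrib, Finset.sum_const,
        Finset.card_univ, nsmul_eq_mul, hK1, one_mul]
    have hinj2 : Function.Injective (fun x => (ρ (α x), ∑ k : K, (lam k * ψ (lam k))⁻¹ * b0 (φ k x))) := by
      intro x y hxy
      have h1 : ρ (α x) = ρ (α y) := congrArg Prod.fst hxy
      have h2 : ∑ k : K, (lam k * ψ (lam k))⁻¹ * b0 (φ k x) =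
        ∑ k : K, (lam k * ψ (lam k))⁻¹ * b0 (φ k y) := congrArg Prod.snd hxy
      have h3 := ρ.injective h1
      have h4 : x = y * (y⁻¹ * x) := by group
      have h5 : α (y⁻¹ * x) = 0 := by
        have := hαm y (y⁻¹ * x)
        rw [← h4, h3] at this
        exact (add_eq_left.1 this.symm)
      have h6 := hcoc y (y⁻¹ * x)
      rw [← h4, h2, h5, map_zero, mul_zero, add_zero, hbz _ h5] at h6
      have h7 : γ (y⁻¹ * x) = 0 := add_eq_left.1 h6.symm
      have h8 := hγ0 _ ((hα0 _).1 h5) h7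
      exact (inv_mul_eq_one.1 h8).symm
    refine ⟨?_, hcoc, ?_, ?_, hlam0, ?_, ?_⟩
    · intro x y
      change ρ (α (x * y)) = _
      rw [hαm, map_add]
    · intro k x
      change ρ (α (φ k x)) = _
      rw [hαk, map_mul]
    · intro l x
      change ∑ k : K, (lam k * ψ (lam k))⁻¹ * b0 (φ k (φ l x)) = _
      rw [Finset.mul_sum]
      refine Fintype.sum_equiv (Equiv.mulRight l) _ _ ?_
      intro k
      change _ = lam l * ψ (lam l) * ((lam (k * l) * ψ (lam (k * l)))⁻¹ * b0 (φ (k * l) x))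
      have h1 : φ k (φ l x) = φ (k * l) x := by rw [map_mul]; rfl
      rw [h1, hlamm, map_mul ψ]
      have h7 : (lam l * ψ (lam l)) * (lam l * ψ (lam l))⁻¹ = 1 := mul_inv_cancel₀ (hne l)
      have h8 : lam k * lam l * (ψ (lam k) * ψ (lam l)) =
        (lam k * ψ (lam k)) * (lam l * ψ (lam l)) := by ring
      rw [h8, mul_inv]
      linear_combination (-((lam k * ψ (lam k))⁻¹ * b0 (φ (k * l) x))) * h7
    · intro c hc
      obtain ⟨k, hk⟩ := hks (ρ.symm c) (fun e => hc ((map_eq_zero ρ.symm).1 e))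
      refine ⟨k, ?_⟩
      change ρ (e1 (χ' k)) = c
      rw [hk, RingEquiv.apply_symm_apply]
    · haveI : Fintype P := Fintype.ofFinite P
      rw [Fintype.bijective_iff_injective_and_card]
      refine ⟨hinj2, ?_⟩
      rw [← Nat.card_eq_fintype_card, ← Nat.card_eq_fintype_card, Nat.card_prod, hcard, hcE, hn,
        pow_two]

end Cfsg.Agent.Lib.SzId
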