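import Cfsg.Agent.Lib.SzId1
import Cfsg.Agent.Lib.SzId2

/-!
Identification of the Suzuki groups: the rank one relation in coordinates (helper13).
-/

set_option autoImplicit false
set_option linter.unusedSectionVars false

namespace Cfsg.Agent.Lib.SzId

/-- the abstract rank one relation: `R x y` means `t • x • b = y • b` -/
structure Sys {P K : Type*} [Group P] [CommGroup K] (φ : K →* MulAut P) (R : P → P → Prop) (s r : P) :
    Prop where
  symm : ∀ x y, R x y → R y x
  uniq : ∀ x y y', R x y → R x y' → y = y'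
  ex : ∀ x, x ≠ 1 → ∃ y, R x y
  act : ∀ k x y, R x y → R (φ k x) (φ k⁻¹ y)
  R_s : R s r⁻¹
  R_r : R r r
  R_e : ∀ k y, R (r⁻¹ * φ k s) y → R (r * φ k s) (r * φ k y)
  R_2 : ∀ k l w, φ k s * φ l s = φ w s → R (r * φ (k * l⁻¹) r⁻¹) (r * φ (k * w⁻¹) r⁻¹)
  rr : r * r = s

section

variable {P K : Type*} [Group P] [CommGroup K] {φ : K →* MulAut P} {E : Type*} [Field E]
  {ψ : E ≃+* E} {α b : P → E} {lam : K → E}

namespace Coord

variable (c : Coord φ ψ α b lam)

include c

theorem ext {x y : P} (h1 : α x = α y) (h2 : b x = b y) : x = y :=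
  c.bij.1 (Prod.ext h1 h2)

theorem one : α 1 = 0 := by
  have := c.add 1 1
  rw [one_mul] at this
  simpa using this

theorem bone : b 1 = 0 := by
  have := c.coc 1 1
  rw [one_mul, c.one, map_zero, zero_mul, add_zero] at this
  simpa using this

theorem ne_one {x : P} (h : x ≠ 1) : α x ≠ 0 ∨ b x ≠ 0 := by
  by_contra hcon
  rw [not_or, not_not, not_not] at hcon
  exact h (c.ext (by rw [hcon.1, c.one]) (by rw [hcon.2, c.bone]))

theorem lam_mul (k l : K) : lam (k * l) = lam k * lam l := by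
  obtain ⟨y, hy⟩ : ∃ y, α y ≠ 0 := by
    obtain ⟨y, hy⟩ := c.bij.2 (1, 0)
    exact ⟨y, by
      have : α y = 1 := congrArg Prod.fst hy
      rw [this]; exact one_ne_zero⟩
  have h1 := c.act (k * l) y
  rw [map_mul] at h1
  have h2 : (φ k * φ l) y = φ k (φ l y) := rfl
  rw [h2, c.act, c.act, ← mul_assoc] at h1
  exact (mul_right_cancel₀ hy h1).symm

theorem lam_mul' (k l : K) : lam (k * l) = lam k * lam l := c.lam_mul k l

theorem lam_one : lam 1 = 1 := by
  have := c.lam_mul' 1 1
  rw [one_mul] at this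
  have h1 := c.ne 1
  exact (mul_left_cancel₀ h1 (by rw [mul_one]; exact this)).symm

theorem lam_inv (k : K) : lam k⁻¹ = (lam k)⁻¹ := by
  have := c.lam_mul' k⁻¹ k
  rw [inv_mul_cancel, c.lam_one] at this
  exact eq_inv_of_mul_eq_one_left this.symm

/-- rescaling -/
theorem scale {d : E} (hd : d ≠ 0) : Coord φ ψ (fun x => d⁻¹ * α x) (fun x => (d * ψ d)⁻¹ * b x) lam := by
  have hd' : ψ d ≠ 0 := fun e => hd ((map_eq_zero ψ).1 e)
  refine ⟨?_, ?_, ?_, ?_, c.ne, c.surj, ?_⟩
  · intro x y; rw [c.add]; ring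
  · intro x y
    rw [c.coc, map_mul, map_inv₀, mul_inv]
    ring
  · intro k x; rw [c.act]; ring
  · intro k x; rw [c.actb]; ring
  · constructor
    · intro x y hxy
      have h1 : d⁻¹ * α x = d⁻¹ * α y := congrArg Prod.fst hxy
      have h2 : (d * ψ d)⁻¹ * b x = (d * ψ d)⁻¹ * b y := congrArg Prod.snd hxy
      exact c.ext (mul_left_cancel₀ (inv_ne_zero hd) h1)
        (mul_left_cancel₀ (inv_ne_zero (mul_ne_zero hd hd')) h2)
    · rintro ⟨u, v⟩
      obtain ⟨x, hx⟩ := c.bij.2 (d * u, (d * ψ d) * v)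
      have h1 : α x = d * u := congrArg Prod.fst hx
      have h2 : b x = (d * ψ d) * v := congrArg Prod.snd hx
      refine ⟨x, ?_⟩
      ext
      · change d⁻¹ * α x = u
        rw [h1, inv_mul_cancel_left₀ hd]
      · change (d * ψ d)⁻¹ * b x = v
        rw [h2, inv_mul_cancel_left₀ (mul_ne_zero hd hd')]

/-- the other cocycle -/
theorem flip [CharP E 2] : Coord φ ψ.symm α (fun x => ψ.symm (b x + α x * ψ (α x))) lam := by
  have h11 : (1 : E) + 1 = 0 := CharTwo.add_self_eq_zero 1
  refine ⟨c.add, ?_, c.act, ?_, c.ne, c.surj, ?_⟩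
  · intro x y
    apply ψ.injective
    simp only [map_add, map_mul, RingEquiv.apply_symm_apply]
    rw [c.coc, c.add, map_add]
    linear_combination (ψ (α x) * α y) * h11
  · intro k x
    apply ψ.injective
    simp only [map_add, map_mul, RingEquiv.apply_symm_apply]
    rw [c.actb, c.act, map_mul]
    ring
  · constructor
    · intro x y hxy
      have h1 : α x = α y := congrArg Prod.fst hxy
      have h2 := ψ.symm.injective (congrArg Prod.snd hxy)
      rw [h1] at h2
      exact c.ext h1 (add_right_cancel h2)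
    · rintro ⟨u, v⟩
      obtain ⟨x, hx⟩ := c.bij.2 (u, ψ v + u * ψ u)
      have h1 : α x = u := congrArg Prod.fst hx
      have h2 : b x = ψ v + u * ψ u := congrArg Prod.snd hx
      refine ⟨x, ?_⟩
      ext
      · exact h1
      · change ψ.symm (b x + α x * ψ (α x)) = v
        rw [h1, h2, RingEquiv.symm_apply_eq]
        linear_combination (u * ψ u) * h11

end Coord

variable {R : P → P → Prop} {s r : P}

variable [CharP E 2] [Finite E]

/-- first step: the parameters -/
theorem param (c : Coord φ ψ α b lam) (hψ : ψ ≠ RingEquiv.refl E)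
    (hinj : ∀ x : E, x * ψ x = 1 → x = 1) (S : Sys φ R s r) (hr : α r = 1) :
    (b r = 1 ∧ ∀ x, ψ (ψ x) = x ^ 2) ∨ (b r = 0 ∧ ∀ x, ψ (ψ x) ^ 2 = x) := by
  classical
  have h11 : (1 : E) + 1 = 0 := CharTwo.add_self_eq_zero 1
  have hself : ∀ x : E, x + x = 0 := fun x => CharTwo.add_self_eq_zero x
  set ρ := b r with hρ
  have has : α s = 0 := by rw [← S.rr, c.add, hself]
  have hbs : b s = 1 := by rw [← S.rr, c.coc, hself, hr, map_one]; ring
  have hri : α r⁻¹ = 1 := by
    have := c.add r r⁻¹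
    rw [mul_inv_cancel, c.one, hr] at this
    linear_combination -this - h11
  have hbri : b r⁻¹ = ρ + 1 := by
    have := c.coc r r⁻¹
    rw [mul_inv_cancel, c.bone, hr, hri, map_one, ← hρ] at this
    linear_combination -this - hself (ρ + 1)
  choose pt hpt using c.bij.2
  have hpt1 : ∀ p, α (pt p) = p.1 := fun p => congrArg Prod.fst (hpt p)
  have hpt2 : ∀ p, b (pt p) = p.2 := fun p => congrArg Prod.snd (hpt p)
  have hne : ∀ ε, pt (1, ρ + ε) ≠ 1 := by
    intro ε h
    have := hpt1 (1, ρ + ε)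
    rw [h, c.one] at this
    exact zero_ne_one this
  choose! y hy using fun ε => S.ex _ (hne ε)
  have hA : ∀ ε x w, α x = 1 → b x = ρ + ε → R x w → α (y ε) = α w := by
    intro ε x w h1 h2 h3
    have h4 : x = pt (1, ρ + ε) := c.ext (by rw [h1, hpt1]) (by rw [h2, hpt2])
    rw [h4] at h3
    rw [S.uniq _ _ _ (hy ε) h3]
  refine alg_main hψ hinj ρ (fun ε => α (y ε)) ?_ ?_ ?_
  · intro u u' hu0 hu1 huu
    have hu0' : u' ≠ 0 := by
      rintro rfl
      rw [zero_mul, add_zero] at huu
      exact hu1 (hinj u huu)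
    obtain ⟨k, hk⟩ := c.surj u hu0
    obtain ⟨k', hk'⟩ := c.surj u' hu0'
    have e1 : r⁻¹ * φ k s = r * φ k' s := by
      apply c.ext
      · rw [c.add, c.add, c.act, c.act, has, mul_zero, mul_zero, hr, hri]
      · rw [c.coc, c.coc, c.act, c.act, c.actb, c.actb, has, hbs, hk, hk', hbri, ← hρ]
        linear_combination huu - (u' * ψ u') * h11 + h11
    have e2 : r⁻¹ * φ k' s = r * φ k s := by
      apply c.ext
      · rw [c.add, c.add, c.act, c.act, has, mul_zero, mul_zero, hr, hri]
      · rw [c.coc, c.coc, c.act, c.act, c.actb, c.actb, has, hbs, hk, hk', hbri, ← hρ]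
        linear_combination huu - (u * ψ u) * h11 + h11
    have hne1 : r * φ k s ≠ 1 := by
      intro h
      have := congrArg α h
      rw [c.add, c.act, has, mul_zero, add_zero, hr, c.one] at this
      exact one_ne_zero this
    obtain ⟨X, hX⟩ := S.ex _ hne1
    have h1 := S.R_e k' X (by rw [e2]; exact hX)
    rw [← e1] at h1
    have h2 := S.R_e k _ h1
    have h3 := S.uniq _ _ _ hX h2
    have h4 := congrArg α h3
    rw [c.add, c.act, c.add, c.act, hr, hk, hk'] at h4
    have h5 := hA (u * ψ u) (r * φ k s) X (by rw [c.add, c.act, has, mul_zero, add_zero, hr])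
      (by rw [c.coc, c.act, c.actb, has, hbs, hk, ← hρ]; ring) hX
    change α (y (u * ψ u)) * (1 + u * u') = 1 + u
    rw [h5]
    linear_combination h4 + (u * u' * α X) * h11
  · intro ν κ N hν0 hν1 hνκ hN
    have hκ0 : κ ≠ 0 := by
      rintro rfl
      rw [add_zero] at hνκ
      exact hν1 hνκ
    have hN0 : N ≠ 0 := by
      rintro rfl
      rw [zero_mul] at hN
      have h3 : ν * ψ ν = κ * ψ κ := by linear_combination -hN - hself (κ * ψ κ)
      have h4 := nrm_inj hinj h3
      rw [h4, hself] at hνκ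
      exact zero_ne_one hνκ
    obtain ⟨k, hk⟩ := c.surj κ hκ0
    obtain ⟨l, hl⟩ := c.surj ν hν0
    obtain ⟨w, hw⟩ := c.surj N hN0
    have h1 := S.R_2 k l w (by
      apply c.ext
      · rw [c.add, c.act, c.act, c.act, has]; ring
      · rw [c.coc, c.act, c.act, c.actb, c.actb, c.actb, has, hbs, hk, hl, hw, hN]; ring)
    have h2 := S.act l _ _ h1
    have hκ : κ = 1 + ν := by linear_combination hνκ - hself ν
    have hψν : ψ ν ≠ 0 := fun e => hν0 ((map_eq_zero ψ).1 e)
    have h5 := hA ((ρ + 1) * κ + ρ * ψ κ) _ _ (by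
      rw [c.act, c.add, c.act, c.lam_mul', c.lam_inv, hr, hri, hk, hl, mul_one]
      field_simp
      exact hνκ) (by
      rw [c.actb, c.coc, c.act, c.actb, c.lam_mul', c.lam_inv, hr, hri, hbri, hk, hl, ← hρ, map_mul,
        map_inv₀, map_one]
      field_simp
      rw [hκ, map_add, map_one]
      linear_combination (ρ * ν * ψ ν + ρ * ν + ν * ψ ν - ν * ρ + ψ ν - ρ) * h11) h2
    change α (y ((ρ + 1) * κ + ρ * ψ κ)) * (ν * N) = N + κ
    rw [h5, c.act, c.add, c.act, c.lam_mul', c.lam_inv, c.lam_inv, hr, hri, hk, hl, hw]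
    field_simp
  · have h1 := hA 0 r r hr (by rw [add_zero]) S.R_r
    change α (y 0) = 1
    rw [h1, hr]

end

end Cfsg.Agent.Lib.SzId
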