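import Cfsg.Agent.Lib.SzId3

/-!
Identification of the Suzuki groups: the rank one relation in coordinates, final formula (helper13).
-/

set_option autoImplicit false
set_option linter.unusedSectionVars false

namespace Cfsg.Agent.Lib.SzId

section

variable {P K : Type*} [Group P] [CommGroup K] {φ : K →* MulAut P} {E : Type*} [Field E]
  {ψ : E ≃+* E} {α b : P → E} {lam : K → E} {R : P → P → Prop} {s r : P}

/-- reduction to `b r = 1` -/
theorem param' [CharP E 2] [Finite E] (c : Coord φ ψ α b lam) (hψ : ψ ≠ RingEquiv.refl E)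
    (hinj : ∀ x : E, x * ψ x = 1 → x = 1) (S : Sys φ R s r) (hr : α r = 1) :
    ∃ (ψ' : E ≃+* E) (b' : P → E), Coord φ ψ' α b' lam ∧ (∀ x : E, x * ψ' x = 1 → x = 1) ∧
      b' r = 1 ∧ ∀ x, ψ' (ψ' x) = x ^ 2 := by
  have h11 : (1 : E) + 1 = 0 := CharTwo.add_self_eq_zero 1
  rcases param c hψ hinj S hr with ⟨h1, h2⟩ | ⟨h1, h2⟩
  · exact ⟨ψ, b, c, hinj, h1, h2⟩
  · refine ⟨ψ.symm, _, c.flip, ?_, ?_, ?_⟩
    · intro x hx
      have h3 := congrArg ψ hx
      rw [map_mul, RingEquiv.apply_symm_apply, map_one, mul_comm] at h3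
      exact hinj x h3
    · change ψ.symm (b r + α r * ψ (α r)) = 1
      rw [h1, hr, map_one, mul_one, zero_add, map_one]
    · intro x
      apply ψ.injective
      rw [RingEquiv.apply_symm_apply]
      apply ψ.injective
      rw [RingEquiv.apply_symm_apply, map_pow, map_pow]
      exact (h2 x).symm

/-- the formula for the relation -/
theorem formula [CharP E 2] [Finite E] (c : Coord φ ψ α b lam)
    (hinj : ∀ x : E, x * ψ x = 1 → x = 1) (S : Sys φ R s r) (hr : α r = 1) (hbr : b r = 1)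
    (hψψ : ∀ x, ψ (ψ x) = x ^ 2) {x y : P} (hx : x ≠ 1) (hR : R x y) {z : E}
    (hz : z = α x * b x + α x ^ 2 * ψ (α x) + ψ (b x)) :
    z ≠ 0 ∧ α y = b x / z ∧ b y = α x / z := by
  classical
  have h11 : (1 : E) + 1 = 0 := CharTwo.add_self_eq_zero 1
  have hself : ∀ x : E, x + x = 0 := fun x => CharTwo.add_self_eq_zero x
  have hψ0 : ∀ {x : E}, x ≠ 0 → ψ x ≠ 0 := fun hx e => hx ((map_eq_zero ψ).1 e)
  have has : α s = 0 := by rw [← S.rr, c.add, hself]
  have hbs : b s = 1 := by rw [← S.rr, c.coc, hself, hr, map_one]; ring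
  have hri : α r⁻¹ = 1 := by
    have := c.add r r⁻¹
    rw [mul_inv_cancel, c.one, hr] at this
    linear_combination -this - h11
  have hbri : b r⁻¹ = 0 := by
    have := c.coc r r⁻¹
    rw [mul_inv_cancel, c.bone, hr, hri, map_one, hbr] at this
    linear_combination -this - h11
  by_cases ha : α x = 0
  · have hb : b x ≠ 0 := (c.ne_one hx).resolve_left (fun h => h ha)
    obtain ⟨u, hu⟩ := nrm_surj hinj (b x)
    have hu0 : u ≠ 0 := by
      rintro rfl
      rw [zero_mul] at hu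
      exact hb hu.symm
    obtain ⟨k, hk⟩ := c.surj u hu0
    have hxk : x = φ k s := c.ext (by rw [c.act, has, mul_zero, ha]) (by rw [c.actb, hbs, hk, mul_one, hu])
    rw [hxk] at hR
    have hy := S.uniq _ _ _ hR (S.act k _ _ S.R_s)
    have hzz : z = u ^ 2 * ψ u := by
      rw [hz, ha, ← hu, map_mul, hψψ]; ring
    have hz0 : z ≠ 0 := by rw [hzz]; exact mul_ne_zero (pow_ne_zero _ hu0) (hψ0 hu0)
    refine ⟨hz0, ?_, ?_⟩
    · rw [hy, c.act, c.lam_inv, hri, hk, ← hu, hzz]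
      have := hψ0 hu0
      field_simp
    · rw [hy, c.actb, hbri, ha, mul_zero, zero_div]
  by_cases hb : b x = 0
  · obtain ⟨k, hk⟩ := c.surj _ ha
    have hxk : x = φ k r⁻¹ := c.ext (by rw [c.act, hri, hk, mul_one]) (by rw [c.actb, hbri, hb, mul_zero])
    have hR' := hR
    rw [hxk] at hR'
    have hy := S.uniq _ _ _ hR' (S.act k _ _ (S.symm _ _ S.R_s))
    have hzz : z = α x ^ 2 * ψ (α x) := by
      rw [hz, hb, map_zero]; ring
    have hz0 : z ≠ 0 := by rw [hzz]; exact mul_ne_zero (pow_ne_zero _ ha) (hψ0 ha)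
    refine ⟨hz0, ?_, ?_⟩
    · rw [hy, c.act, has, hb, mul_zero, zero_div]
    · rw [hy, c.actb, c.lam_inv, hbs, hk, hzz, map_inv₀]
      have := hψ0 ha
      field_simp
  set a := α x with hadef
  set β := b x with hβdef
  obtain ⟨ν, hν⟩ : ∃ ν, ψ ν = β / a := ⟨ψ.symm (β / a), RingEquiv.apply_symm_apply _ _⟩
  have hν0 : ν ≠ 0 := by
    rintro rfl
    rw [map_zero] at hν
    exact (div_ne_zero hb ha) hν.symm
  have hβ : β = a * ψ ν := by rw [hν]; field_simp
  obtain ⟨κ, hκdef⟩ : ∃ κ, κ = ν + a := ⟨_, rfl⟩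
  by_cases hκ : κ = 0
  · have haν : a = ν := by linear_combination hκ - hκdef - hself ν
    obtain ⟨k, hk⟩ := c.surj _ ha
    have hxk : x = φ k r := c.ext (by rw [c.act, hr, hk, mul_one])
      (by rw [c.actb, hbr, ← hβdef, mul_one, hk, hβ, ← haν])
    have hR' := hR
    rw [hxk] at hR'
    have hy := S.uniq _ _ _ hR' (S.act k _ _ S.R_r)
    have hzz : z = a ^ 2 * ψ a := by
      rw [hz, hβ, ← haν, map_mul, hψψ]
      linear_combination (a ^ 2 * ψ a) * h11
    have hz0 : z ≠ 0 := by rw [hzz]; exact mul_ne_zero (pow_ne_zero _ ha) (hψ0 ha)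
    refine ⟨hz0, ?_, ?_⟩
    · rw [hy, c.act, c.lam_inv, hr, hk, hzz, hβ, ← haν]
      have := hψ0 ha
      field_simp
    · rw [hy, c.actb, c.lam_inv, hbr, hk, hzz, map_inv₀]
      have := hψ0 ha
      field_simp
  have haa : a = ν + κ := by rw [hκdef]; linear_combination -hself ν
  obtain ⟨N, hN⟩ := nrm_surj hinj (ν * ψ ν + κ * ψ κ)
  have hN0 : N ≠ 0 := by
    rintro rfl
    rw [zero_mul] at hN
    have h3 : ν * ψ ν = κ * ψ κ := by linear_combination -hN - hself (κ * ψ κ)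
    have h4 := nrm_inj hinj h3
    apply ha
    rw [haa, h4, hself]
  obtain ⟨k, hk⟩ := c.surj κ hκ
  obtain ⟨l, hl⟩ := c.surj ν hν0
  obtain ⟨w, hw⟩ := c.surj N hN0
  have h1 := S.R_2 k l w (by
    apply c.ext
    · rw [c.add, c.act, c.act, c.act, has]; ring
    · rw [c.coc, c.act, c.act, c.actb, c.actb, c.actb, has, hbs, hk, hl, hw, hN]; ring)
  have h2 := S.act l _ _ h1
  have hψν : ψ ν ≠ 0 := hψ0 hν0
  have hxk : x = φ l (r * φ (k * l⁻¹) r⁻¹) := by
    apply c.ext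
    · rw [c.act, c.add, c.act, c.lam_mul', c.lam_inv, hr, hri, hk, hl, ← hadef, haa]
      field_simp
    · rw [c.actb, c.coc, c.act, c.actb, c.lam_mul', c.lam_inv, hr, hri, hbri, hk, hl, hbr, map_one,
        ← hβdef, hβ, haa]
      field_simp
      ring
  rw [hxk] at hR
  have hy := S.uniq _ _ _ hR h2
  have hzz : z = N ^ 2 * ψ N := by
    have h3 : ψ (N * ψ N) = ψ (ν * ψ ν + κ * ψ κ) := by rw [hN]
    rw [map_mul, map_add, map_mul, map_mul, hψψ, hψψ, hψψ] at h3
    rw [hz, hβ, haa, map_mul, hψψ, map_add]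
    linear_combination -h3 + (ν * κ * ψ ν * 2 + ν * κ * ψ κ + ν ^ 2 * ψ ν + ν ^ 2 * ψ κ + κ ^ 2 * ψ ν) * h11
  have hz0 : z ≠ 0 := by rw [hzz]; exact mul_ne_zero (pow_ne_zero _ hN0) (hψ0 hN0)
  have key : (N + κ) * (N * ψ N) = ν * β := by
    rw [mul_comm, mul_add, mul_comm, ← sub_eq_zero]
    have h3 : N * (N * ψ N) = N ^ 2 * ψ N := by ring
    have h4 : N ^ 2 * ψ N = ν ^ 2 * ψ ν + κ ^ 2 * ψ κ := by
      have h5 := congrArg ψ hN
      rw [map_mul, map_add, map_mul, map_mul, hψψ, hψψ, hψψ] at h5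
      linear_combination h5
    rw [h3, h4, hN, hβ, haa]
    linear_combination (κ ^ 2 * ψ κ) * h11
  have hψN := hψ0 hN0
  refine ⟨hz0, ?_, ?_⟩
  · rw [hy, c.act, c.add, c.act, c.lam_mul', c.lam_inv, c.lam_inv, hr, hri, hk, hl, hw, hzz]
    field_simp
    linear_combination key
  · rw [hy, c.actb, c.coc, c.act, c.actb, c.lam_mul', c.lam_inv, c.lam_inv, hr, hri, hbri, hbr, hk, hl,
      hw, hzz, map_inv₀, map_one]
    field_simp
    linear_combination key + ν * hβ

end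

end Cfsg.Agent.Lib.SzId
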