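import Cfsg.Agent.Lib.FFAut
import Cfsg.Agent.Lib.SuzukiLie

/-!
Identification of the Suzuki groups: the Tits automorphism (helper13).
-/

set_option autoImplicit false

namespace Cfsg.Agent.Lib.SzId

open Cfsg.Agent.Lib.SuzukiFin

variable {F : Type*} [Field F] [Fintype F] [CharP F 2]

theorem pow_fix {n k : ℕ} (hF : Fintype.card F = 2 ^ n) (h : ∀ x : F, x ^ 2 ^ k = x) (hk : k ≠ 0) : n ≤ k := by
  classical
  obtain ⟨u, hu⟩ := IsCyclic.exists_generator (α := Fˣ)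
  have h1 : orderOf u = 2 ^ n - 1 := by
    rw [orderOf_eq_card_of_forall_mem_zpowers hu, Nat.card_eq_fintype_card, Fintype.card_units, hF]
  have h2 : u ^ (2 ^ k - 1) = 1 := by
    have h3 : u ^ 2 ^ k = u := Units.ext (by rw [Units.val_pow_eq_pow_val]; exact h _)
    have h4 : u ^ (2 ^ k - 1) * u = u := by
      rw [← pow_succ, Nat.sub_add_cancel Nat.one_le_two_pow, h3]
    exact mul_eq_right.1 h4
  have h5 := orderOf_dvd_of_pow_eq_one h2
  rw [h1] at h5
  have h6 : 0 < 2 ^ k - 1 := by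
    have : 2 ^ 1 ≤ 2 ^ k := Nat.pow_le_pow_right (by norm_num) (Nat.one_le_iff_ne_zero.2 hk)
    omega
  have h7 := Nat.le_of_dvd h6 h5
  have h8 : 2 ^ n ≤ 2 ^ k := by
    have := Nat.one_le_two_pow (n := n)
    omega
  exact (Nat.pow_le_pow_iff_right (by norm_num)).1 h8

/-- a square root of the Frobenius automorphism is the Tits automorphism -/
theorem tits (ψ : F ≃+* F) (hψ : ∀ x, ψ (ψ x) = x ^ 2) {n : ℕ} (hn : 2 ≤ n)
    (hF : Fintype.card F = 2 ^ n) :
    ∃ m : ℕ, 1 ≤ m ∧ Fintype.card F = 2 ^ (2 * m + 1) ∧ ψ = th F m := by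
  have hpow : ∀ (k : ℕ) (x : F), (ψ ^ (2 * k)) x = x ^ 2 ^ k := by
    intro k
    induction k with
    | zero => intro x; simp
    | succ k ih =>
      intro x
      have e1 : (ψ ^ (2 * (k + 1))) x = ψ (ψ ((ψ ^ (2 * k)) x)) := by
        rw [show 2 * (k + 1) = 2 + 2 * k by ring, pow_add, sq]; rfl
      rw [e1, hψ, ih, ← pow_mul, ← pow_succ]
  have hfin := Cfsg.Agent.Lib.FFAut.finite_aut (F := F)
  haveI : Fact (Nat.Prime 2) := ⟨Nat.prime_two⟩
  have hc := Cfsg.Agent.Lib.FFAut.card_aut (p := 2) hF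
  have h1 : ψ ^ n = 1 := by rw [← hc]; exact pow_card_eq_one'
  rcases Nat.even_or_odd n with ⟨k, hk⟩ | ⟨m, hm⟩
  · exfalso
    have h2 : ∀ x : F, x ^ 2 ^ k = x := by
      intro x
      rw [← hpow, two_mul, ← hk, h1]; rfl
    have := pow_fix hF h2 (by omega)
    omega
  · refine ⟨m, by omega, by rw [hF, hm], ?_⟩
    ext x
    rw [th_apply, ← hpow, show 2 * (m + 1) = n + 1 by omega, pow_succ, h1, one_mul]

end Cfsg.Agent.Lib.SzId
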