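import Cfsg.Agent.Lib.SuzS1
import Cfsg.Agent.Lib.SzId4

/-!
Identification of the Suzuki groups: the group theoretic set-up (helper13).
-/

set_option autoImplicit false
set_option linter.unusedSectionVars false

namespace Cfsg.Agent.Lib.SzId

open MulAction Cfsg.Agent.Lib.RankOne Cfsg.Agent.Lib.RankOneC Cfsg.Agent.Lib.SuzS1
open Cfsg.Agent.Lib.HigmanBase

variable {G Ω : Type*} [Group G] [MulAction G Ω] {a : Ω} {t : G} {Q K : Subgroup G} {s r : G}

section

variable [Finite G] (X : Env a t Q K s r)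

/-- the commutative group `K` -/
@[reducible] def commK : CommGroup K :=
  { (inferInstance : Group K) with
    mul_comm := fun k l => Subtype.ext (X.Kcomm k k.2 l l.2) }

include X in
theorem conjQ {k x : G} (hk : k ∈ K) (hx : x ∈ Q) : k * x * k⁻¹ ∈ Q :=
  X.hS.conj_mem _ (mem_stabilizer_iff.2 (X.Ka hk)) _ hx

/-- the action of `K` on `Q` -/
def phi : K →* MulAut Q where
  toFun k :=
    { toFun := fun x => ⟨k * x * (k : G)⁻¹, conjQ X k.2 x.2⟩
      invFun := fun x => ⟨(k : G)⁻¹ * x * ((k : G)⁻¹)⁻¹, conjQ X (K.inv_mem k.2) x.2⟩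
      left_inv := fun x => Subtype.ext (by
        change (k : G)⁻¹ * (k * x * (k : G)⁻¹) * ((k : G)⁻¹)⁻¹ = x
        group)
      right_inv := fun x => Subtype.ext (by
        change (k : G) * ((k : G)⁻¹ * x * ((k : G)⁻¹)⁻¹) * (k : G)⁻¹ = x
        group)
      map_mul' := fun x y => Subtype.ext (by
        change (k : G) * (x * y) * (k : G)⁻¹ = (k * x * (k : G)⁻¹) * (k * y * (k : G)⁻¹)
        group) }
  map_one' := by
    ext x
    change ((1 : K) : G) * x * ((1 : K) : G)⁻¹ = x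
    rw [Subgroup.coe_one, one_mul, inv_one, mul_one]
  map_mul' := fun k l => by
    ext x
    change ((k * l : K) : G) * x * ((k * l : K) : G)⁻¹ = k * (l * x * (l : G)⁻¹) * (k : G)⁻¹
    rw [Subgroup.coe_mul]; group

theorem phi_coe (k : K) (x : Q) : ((phi X k x : Q) : G) = k * x * (k : G)⁻¹ := rfl

/-- the relation -/
def Rl (a : Ω) (t : G) (Q : Subgroup G) (x y : Q) : Prop := t • (x : G) • t • a = (y : G) • t • a

include X in
theorem ta_ne' : t • a ≠ a := ta_ne X.hS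

include X in
theorem tt_smul (p : Ω) : t • t • p = p := by rw [smul_smul, X.tt, one_smul]

theorem hyp (h2 : IsPGroup 2 Q) : letI := commK X; Hyp (phi X) := by
  letI := commK X
  refine ⟨h2, ?_, ?_⟩
  · obtain ⟨k, hk, hk1⟩ := X.exists_K_ne
    have h1 : k * s * k⁻¹ ∈ Q := conjQ X hk X.sQ
    refine ⟨⟨s, X.sQ⟩, ⟨k * s * k⁻¹, h1⟩, ?_, ?_, ?_, ?_, ?_⟩
    · intro h
      have h3 : s = k * s * k⁻¹ := congrArg Subtype.val h
      have h4 := X.k_inj (K.one_mem) (K.inv_mem hk) (by rw [inv_inv, inv_one, one_mul, mul_one]; exact h3)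
      exact hk1 (inv_eq_one.1 h4.symm)
    · intro h; exact X.s_ne (congrArg Subtype.val h)
    · exact Subtype.ext X.ss
    · intro h
      have h3 : k * s * k⁻¹ = 1 := congrArg Subtype.val h
      apply X.s_ne
      calc s = k⁻¹ * (k * s * k⁻¹) * k := by group
        _ = 1 := by rw [h3]; group
    · apply Subtype.ext
      change k * s * k⁻¹ * (k * s * k⁻¹) = 1
      calc k * s * k⁻¹ * (k * s * k⁻¹) = k * (s * s) * k⁻¹ := by group
        _ = 1 := by rw [X.ss]; group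
  · rintro ⟨x, hx⟩ ⟨y, hy⟩ hx1 hxx hy1 hyy
    have hx1' : x ≠ 1 := fun h => hx1 (Subtype.ext h)
    have hy1' : y ≠ 1 := fun h => hy1 (Subtype.ext h)
    have hxx' : x * x = 1 := congrArg Subtype.val hxx
    have hyy' : y * y = 1 := congrArg Subtype.val hyy
    obtain ⟨k, hk, hkx⟩ := X.exists_k (Q_fix X.hS hx) hx1' hxx'
    obtain ⟨l, hl, hly⟩ := X.exists_k (Q_fix X.hS hy) hy1' hyy'
    refine ⟨⟨l⁻¹ * k, K.mul_mem (K.inv_mem hl) hk⟩, ?_, ?_⟩
    · apply Subtype.ext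
      rw [phi_coe]
      change l⁻¹ * k * x * (l⁻¹ * k)⁻¹ = y
      rw [hkx, hly]; group
    · rintro ⟨m, hm⟩ hmx
      have h3 : m * x * m⁻¹ = y := congrArg Subtype.val hmx
      apply Subtype.ext
      change m = l⁻¹ * k
      have h4 : k * m⁻¹ = l := by
        apply X.k_inj (K.mul_mem hk (K.inv_mem hm)) hl
        rw [← hly, ← h3, hkx]; group
      rw [← h4]
      group

/-- the set of axioms for the relation -/
theorem sys (hr4 : (r * r) * (r * r) = 1) (hr2 : r * r ≠ 1) :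
    letI := commK X
    Sys (phi X) (Rl a t Q) ⟨s, X.sQ⟩ ⟨r, X.hr⟩ := by
  letI := commK X
  have hsym : ∀ x y : Q, Rl a t Q x y → Rl a t Q y x := by
    intro x y h
    have h1 : t • (x : G) • t • a = (y : G) • t • a := h
    change t • (y : G) • t • a = (x : G) • t • a
    rw [← h1, tt_smul X]
  have huniq : ∀ x y y' : Q, Rl a t Q x y → Rl a t Q x y' → y = y' := by
    intro x y y' h h'
    have h1 : t • (x : G) • t • a = (y : G) • t • a := h
    have h2 : t • (x : G) • t • a = (y' : G) • t • a := h'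
    exact Subtype.ext (Q_eq X.hS y.2 y'.2 (ta_ne' X) (h1.symm.trans h2))
  have hra : r • a = a := Q_fix X.hS X.hr
  have hria : r⁻¹ • a = a := Q_fix X.hS (Q.inv_mem X.hr)
  have hsa : s • a = a := X.sa
  have hka : ∀ k : K, (k : G) • a = a := fun k => X.Ka k.2
  have hkia : ∀ k : K, (k : G)⁻¹ • a = a := fun k => X.Ka (K.inv_mem k.2)
  have hkb : ∀ k : K, (k : G) • t • a = t • a := fun k => X.Kb k.2
  have hkib : ∀ k : K, (k : G)⁻¹ • t • a = t • a := fun k => X.Kb (K.inv_mem k.2)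
  have hRe : ∀ (k : K) (y : Q), Rl a t Q ((⟨r, X.hr⟩ : Q)⁻¹ * phi X k ⟨s, X.sQ⟩) y →
      Rl a t Q (⟨r, X.hr⟩ * phi X k ⟨s, X.sQ⟩) (⟨r, X.hr⟩ * phi X k y) := by
    intro k y h
    have h1 : t • (r⁻¹ * (k * s * (k : G)⁻¹)) • t • a = (y : G) • t • a := h
    change t • (r * (k * s * (k : G)⁻¹)) • t • a = (r * (k * y * (k : G)⁻¹)) • t • a
    have hcen : (k * s * (k : G)⁻¹) * r⁻¹ = r⁻¹ * (k * s * (k : G)⁻¹) :=
      X.E_central (X.E_conj (X.Ka k.2) X.sE) (Q.inv_mem X.hr)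
    have e1 : (r * (k * s * (k : G)⁻¹)) • t • a = (t * (t * r * t) * (t * (k * s))) • t • a := by
      have : t * (t * r * t) * (t * (k * s)) = (t * t) * r * (t * t) * (k * s) := by group
      rw [this, X.tt, one_mul, mul_one]
      have : r * (k * s * (k : G)⁻¹) = (r * (k * s)) * (k : G)⁻¹ := by group
      rw [this, mul_smul _ (k : G)⁻¹, hkib]
    have e2 : t * (k * s) = (k : G)⁻¹ * (r⁻¹ * t * r) * t := by
      rw [← X.hsr]
      calc t * (k * s) = (t * k) * s := by group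
        _ = (k : G)⁻¹ * t * s * (t * t) := by rw [X.tk k.2, X.tt, mul_one]
        _ = (k : G)⁻¹ * (t * s * t) * t := by group
    have e3 : ((k : G)⁻¹ * (r⁻¹ * t * r) * t) • t • a = ((k : G)⁻¹ * r⁻¹) • t • a := by
      have : (k : G)⁻¹ * (r⁻¹ * t * r) * t = ((k : G)⁻¹ * r⁻¹) * t * r * t := by group
      rw [this, mul_smul _ t, tt_smul X, mul_smul _ r, hra, mul_smul _ t]
    rw [e1, mul_smul (t * (t * r * t)), e2, e3, mul_smul t, tt_smul X, X.trt]
    have e4 : (r * t * s) • ((k : G)⁻¹ * r⁻¹) • t • a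
        = (r * (t * (k : G)⁻¹)) • ((k * s * (k : G)⁻¹) * r⁻¹) • t • a := by
      rw [smul_smul (r * t * s), smul_smul (r * (t * (k : G)⁻¹))]
      congr 1
      group
    have e5 : t * (k : G)⁻¹ = k * t := (X.kt k.2).symm
    rw [e4, hcen, e5, ← mul_assoc, mul_smul _ t, h1]
    have e6 : r * (k * y * (k : G)⁻¹) = (r * k * y) * (k : G)⁻¹ := by group
    rw [e6, mul_smul _ (k : G)⁻¹, hkib, smul_smul]
  refine ⟨hsym, huniq, ?_, ?_, ?_, ?_, hRe, ?_, ?_⟩
  · intro x hx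
    have h1 : t • (x : G) • t • a ≠ a := by
      intro h
      apply hx
      have h2 : (x : G) • t • a = t • a := by
        have := congrArg (fun p => t • p) h
        simpa only [tt_smul X] using this
      by_contra hne
      exact ta_ne' X (Q_free X.hS x.2 (fun e => hne (Subtype.ext e)) h2)
    obtain ⟨y, hy, h2⟩ := Q_trans X.hS h1
    exact ⟨⟨y, hy⟩, h2.symm⟩
  · intro k x y h
    have h1 : t • (x : G) • t • a = (y : G) • t • a := h
    change t • (k * (x : G) * (k : G)⁻¹) • t • a = (((k⁻¹ : K) : G) * (y : G) * ((k⁻¹ : K) : G)⁻¹) • t • a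
    rw [Subgroup.coe_inv, inv_inv, mul_smul _ (k : G)⁻¹, hkib, mul_smul _ (k : G), hkb, mul_smul (k : G),
      mul_smul (k : G)⁻¹, ← h1, smul_smul t, X.tk k.2, mul_smul]
  · change t • s • t • a = ((⟨r, X.hr⟩ : Q)⁻¹ : Q) • t • a
    change t • s • t • a = r⁻¹ • t • a
    rw [smul_smul, smul_smul, X.hsr, mul_smul, hra, mul_smul]
  · change t • r • t • a = r • t • a
    rw [smul_smul, smul_smul, X.trt, mul_smul, hsa, mul_smul]
  · intro k l w h
    have h1 : (k * s * (k : G)⁻¹) * (l * s * (l : G)⁻¹) = w * s * (w : G)⁻¹ := congrArg Subtype.val h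
    have hT : ∀ k : K, t * (k * s * (k : G)⁻¹) * t = (k : G)⁻¹ * r⁻¹ * t * r * k := by
      intro k
      calc t * (k * s * (k : G)⁻¹) * t = (t * k) * s * ((k : G)⁻¹ * t) := by group
        _ = ((k : G)⁻¹ * t) * s * (t * k) := by rw [X.tk k.2]
        _ = (k : G)⁻¹ * (t * s * t) * k := by group
        _ = _ := by rw [X.hsr]; group
    have h2 : ((k : G)⁻¹ * r⁻¹ * t * r * k) * ((l : G)⁻¹ * r⁻¹ * t * r * l) = (w : G)⁻¹ * r⁻¹ * t * r * w := by
      rw [← hT, ← hT, ← hT, ← h1]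
      calc t * (k * s * (k : G)⁻¹) * t * (t * (l * s * (l : G)⁻¹) * t)
          = t * (k * s * (k : G)⁻¹) * (t * t) * (l * s * (l : G)⁻¹) * t := by group
        _ = _ := by rw [X.tt]; group
    have h3 := congrArg (fun g => (r * (k : G)) • g • a) h2
    beta_reduce at h3
    have e1 : (r * (k : G)) • (((k : G)⁻¹ * r⁻¹ * t * r * k) * ((l : G)⁻¹ * r⁻¹ * t * r * l)) • a
        = t • (r * (k * (l : G)⁻¹) * r⁻¹) • t • a := by
      have : (((k : G)⁻¹ * r⁻¹ * t * r * k) * ((l : G)⁻¹ * r⁻¹ * t * r * l))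
          = ((k : G)⁻¹ * r⁻¹ * t) * (r * (k * (l : G)⁻¹) * r⁻¹) * t * r * l := by group
      rw [this, mul_smul _ (l : G), hka, mul_smul _ r, hra, mul_smul _ t, mul_smul _ (r * (k * (l : G)⁻¹) * r⁻¹),
        smul_smul (r * (k : G))]
      have : r * (k : G) * ((k : G)⁻¹ * r⁻¹ * t) = t := by group
      rw [this]
    have e2 : (r * (k : G)) • ((w : G)⁻¹ * r⁻¹ * t * r * w) • a = (r * (k * (w : G)⁻¹) * r⁻¹) • t • a := by
      rw [mul_smul _ (w : G), hka, mul_smul _ r, hra, mul_smul _ t, smul_smul (r * (k : G))]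
      congr 1
      group
    rw [e1, e2] at h3
    change t • (r * (((k * l⁻¹ : K) : G) * r⁻¹ * ((k * l⁻¹ : K) : G)⁻¹)) • t • a =
      (r * (((k * w⁻¹ : K) : G) * r⁻¹ * ((k * w⁻¹ : K) : G)⁻¹)) • t • a
    have e3 : ∀ l : K, (r * (((k * l⁻¹ : K) : G) * r⁻¹ * ((k * l⁻¹ : K) : G)⁻¹)) • t • a
        = (r * (k * (l : G)⁻¹) * r⁻¹) • t • a := by
      intro l
      have : r * (((k * l⁻¹ : K) : G) * r⁻¹ * ((k * l⁻¹ : K) : G)⁻¹)
          = (r * ((k * l⁻¹ : K) : G) * r⁻¹) * ((k * l⁻¹ : K) : G)⁻¹ := by group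
      rw [this, mul_smul _ ((k * l⁻¹ : K) : G)⁻¹, hkib, Subgroup.coe_mul, Subgroup.coe_inv]
    rw [e3, e3]
    exact h3
  · -- `r * r = s`
    obtain ⟨k0, hk0, hk⟩ := X.exists_k (Q_fix X.hS (Q.mul_mem X.hr X.hr)) hr2 hr4
    obtain ⟨k, hkk⟩ : ∃ k : K, (k : G) = k0⁻¹ := ⟨⟨k0⁻¹, K.inv_mem hk0⟩, rfl⟩
    have hk' : r * r = k * s * (k : G)⁻¹ := by rw [hk, hkk, inv_inv]
    have hT : t * (r * r) * t = (k : G)⁻¹ * r⁻¹ * t * r * k := by
      rw [hk']
      calc t * (k * s * (k : G)⁻¹) * t = (t * k) * s * ((k : G)⁻¹ * t) := by group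
        _ = ((k : G)⁻¹ * t) * s * (t * k) := by rw [X.tk k.2]
        _ = (k : G)⁻¹ * (t * s * t) * k := by group
        _ = _ := by rw [X.hsr]; group
    have h1 : (r * t * s) * (r * t * s) = (k : G)⁻¹ * r⁻¹ * t * r * k := by
      rw [← X.trt, ← hT]
      calc t * r * t * (t * r * t) = t * r * (t * t) * r * t := by group
        _ = t * (r * r) * t := by rw [X.tt]; group
    have hsi : s⁻¹ = s := by rw [inv_eq_iff_mul_eq_one]; exact X.ss
    -- first relation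
    have hX1 : Rl a t Q (⟨s, X.sQ⟩ * ⟨r, X.hr⟩) ((⟨r, X.hr⟩ : Q)⁻¹ * phi X k⁻¹ (⟨r, X.hr⟩ : Q)⁻¹) := by
      change t • (s * r) • t • a = (r⁻¹ * (((k⁻¹ : K) : G) * r⁻¹ * ((k⁻¹ : K) : G)⁻¹)) • t • a
      have h3 := congrArg (fun g => r⁻¹ • g • a) h1
      beta_reduce at h3
      have e1 : r⁻¹ • ((r * t * s) * (r * t * s)) • a = t • (s * r) • t • a := by
        have : (r * t * s) * (r * t * s) = r * t * (s * r) * t * s := by group
        rw [this, mul_smul _ s, hsa, mul_smul _ t, mul_smul _ (s * r), smul_smul r⁻¹, ← mul_assoc,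
          inv_mul_cancel, one_mul]
      have e2 : r⁻¹ • ((k : G)⁻¹ * r⁻¹ * t * r * k) • a = (r⁻¹ * ((k : G)⁻¹ * r⁻¹)) • t • a := by
        rw [mul_smul _ (k : G), hka, mul_smul _ r, hra, mul_smul _ t, smul_smul r⁻¹]
      rw [e1, e2] at h3
      rw [h3, Subgroup.coe_inv, inv_inv]
      have : r⁻¹ * ((k : G)⁻¹ * r⁻¹ * (k : G)) = (r⁻¹ * ((k : G)⁻¹ * r⁻¹)) * k := by group
      rw [this, mul_smul _ (k : G), hkb]
    -- second relation
    have hX2 : Rl a t Q ((⟨r, X.hr⟩ : Q)⁻¹ * phi X 1 ⟨s, X.sQ⟩) (⟨s, X.sQ⟩ * phi X k⁻¹ (⟨r, X.hr⟩ : Q)⁻¹) := by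
      rw [map_one]
      change t • (r⁻¹ * s) • t • a = (s * (((k⁻¹ : K) : G) * r⁻¹ * ((k⁻¹ : K) : G)⁻¹)) • t • a
      have h4 : (s * t * r⁻¹) * (s * t * r⁻¹) = (k : G)⁻¹ * r⁻¹ * t * r * k := by
        have h5 := congrArg (fun g => g⁻¹) h1
        simp only [mul_inv_rev, hsi, X.ti, inv_inv] at h5
        rw [mul_assoc s t r⁻¹, h5]
        group
      have h3 := congrArg (fun g => s • g • a) h4
      beta_reduce at h3
      have e1 : s • ((s * t * r⁻¹) * (s * t * r⁻¹)) • a = t • (r⁻¹ * s) • t • a := by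
        have : (s * t * r⁻¹) * (s * t * r⁻¹) = s * t * (r⁻¹ * s) * t * r⁻¹ := by group
        rw [this, mul_smul _ r⁻¹, hria, mul_smul _ t, mul_smul _ (r⁻¹ * s), smul_smul s, ← mul_assoc,
          X.ss, one_mul]
      have e2 : s • ((k : G)⁻¹ * r⁻¹ * t * r * k) • a = (s * ((k : G)⁻¹ * r⁻¹)) • t • a := by
        rw [mul_smul _ (k : G), hka, mul_smul _ r, hra, mul_smul _ t, smul_smul s]
      rw [e1, e2] at h3
      rw [h3, Subgroup.coe_inv, inv_inv]
      have : s * ((k : G)⁻¹ * r⁻¹ * (k : G)) = (s * ((k : G)⁻¹ * r⁻¹)) * k := by group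
      rw [this, mul_smul _ (k : G), hkb]
    have hX3 := hRe 1 _ hX2
    rw [map_one] at hX3
    change Rl a t Q (⟨r, X.hr⟩ * ⟨s, X.sQ⟩) (⟨r, X.hr⟩ * (⟨s, X.sQ⟩ * phi X k⁻¹ (⟨r, X.hr⟩ : Q)⁻¹)) at hX3
    have hcomm : (⟨r, X.hr⟩ : Q) * ⟨s, X.sQ⟩ = ⟨s, X.sQ⟩ * ⟨r, X.hr⟩ :=
      Subtype.ext (X.E_central X.sE X.hr).symm
    rw [hcomm] at hX3
    have h6 := huniq _ _ _ hX1 hX3
    rw [← mul_assoc] at h6
    have h7 := mul_right_cancel h6
    -- r⁻¹ = r * s
    have h8 : r⁻¹ = r * s := congrArg Subtype.val h7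
    apply Subtype.ext
    change r * r = s
    have h9 : r * r * s = 1 := by rw [mul_assoc, ← h8, mul_inv_cancel]
    calc r * r = r * r * (s * s) := by rw [X.ss, mul_one]
      _ = (r * r * s) * s := by group
      _ = s := by rw [h9, one_mul]

end

end Cfsg.Agent.Lib.SzId
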