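import Cfsg.Agent.Lib.SzId6

/-!
Identification of the Suzuki groups: the kernel is not abelian; exponent four (helper13).
-/

set_option autoImplicit false
set_option linter.unusedSectionVars false

namespace Cfsg.Agent.Lib.SzId

open Cfsg.Agent.Lib.HigmanBase

universe u v

section

variable {P : Type u} [Group P] [Finite P] {K : Type v} [CommGroup K] {φ : K →* MulAut P}
  {R : P → P → Prop} {s r : P}

/-- the kernel is not abelian -/
theorem not_comm (h : Hyp φ) (S : Sys φ R s r) (hs1 : s ≠ 1) (hss : s * s = 1)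
    (hab : ∀ x y : P, x * y = y * x) : False := by
  have hreg : ∀ e : P, e ≠ 1 → e * e = 1 → ∃ k, e = φ k s := by
    intro e he hee
    obtain ⟨k, hk, -⟩ := h.reg s e hs1 hss he hee
    exact ⟨k, hk.symm⟩
  have hcl : ∀ k l : K, φ k s * φ l s = s → φ l r * φ k r⁻¹ = r := by
    intro k l hkl
    have h1 := S.R_2 k l 1 (by rw [map_one]; exact hkl)
    rw [inv_one, mul_one] at h1
    have h2 := S.act l _ _ h1
    have ex : φ l (r * φ (k * l⁻¹) r⁻¹) = φ l r * φ k r⁻¹ := by
      rw [map_mul]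
      congr 1
      have : φ l (φ (k * l⁻¹) r⁻¹) = φ (l * (k * l⁻¹)) r⁻¹ := by rw [map_mul φ l]; rfl
      rw [this, mul_comm k, mul_inv_cancel_left]
    rw [ex] at h2
    set x := φ l r * φ k r⁻¹ with hx
    set y := φ l⁻¹ (r * φ k r⁻¹) with hy
    have hks : (φ k s) * (φ k s) = 1 := by rw [← map_mul, hss, map_one]
    have hki : φ k r⁻¹ * φ k r⁻¹ = φ k s := by
      rw [← map_mul, ← mul_inv_rev, S.rr, map_inv, h.inv_eq hks]
    have hyy : y * y = s := by
      have e1 : (r * φ k r⁻¹) * (r * φ k r⁻¹) = φ l s := by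
        calc (r * φ k r⁻¹) * (r * φ k r⁻¹) = r * (φ k r⁻¹ * r) * φ k r⁻¹ := by group
          _ = r * (r * φ k r⁻¹) * φ k r⁻¹ := by rw [hab (φ k r⁻¹) r]
          _ = (r * r) * (φ k r⁻¹ * φ k r⁻¹) := by group
          _ = s * φ k s := by rw [hki, S.rr]
          _ = (φ k s * φ l s) * φ k s := by rw [hkl]
          _ = φ k s * (φ l s * φ k s) := by group
          _ = φ k s * (φ k s * φ l s) := by rw [hab (φ l s)]
          _ = φ l s := by rw [← mul_assoc, hks, one_mul]
      rw [hy, ← map_mul, e1]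
      have : φ l⁻¹ (φ l s) = φ (l⁻¹ * l) s := by rw [map_mul φ l⁻¹]; rfl
      rw [this, inv_mul_cancel, map_one]; rfl
    have hxx : x * x = s := by
      calc x * x = φ l r * (φ k r⁻¹ * φ l r) * φ k r⁻¹ := by rw [hx]; group
        _ = φ l r * (φ l r * φ k r⁻¹) * φ k r⁻¹ := by rw [hab (φ k r⁻¹)]
        _ = (φ l r * φ l r) * (φ k r⁻¹ * φ k r⁻¹) := by group
        _ = φ l s * φ k s := by rw [hki, ← map_mul, S.rr]
        _ = s := by rw [hab]; exact hkl
    by_contra hne
    have hrsi : r * s = r⁻¹ := by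
      rw [eq_inv_iff_mul_eq_one, mul_assoc, hab s r, ← mul_assoc, S.rr, hss]
    have he1 : r⁻¹ * x ≠ 1 := fun e => hne (by rw [inv_mul_eq_one] at e; exact e.symm)
    have hee : (r⁻¹ * x) * (r⁻¹ * x) = 1 := by
      calc (r⁻¹ * x) * (r⁻¹ * x) = r⁻¹ * (x * r⁻¹) * x := by group
        _ = r⁻¹ * (r⁻¹ * x) * x := by rw [hab x r⁻¹]
        _ = (r * r)⁻¹ * (x * x) := by group
        _ = 1 := by rw [S.rr, hxx]; group
    by_cases hes : r⁻¹ * x = s
    · have hxr : x = r⁻¹ := by
        rw [← hrsi, ← hes]; group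
      rw [hxr] at h2
      have h3 := S.uniq _ _ _ h2 (S.symm _ _ S.R_s)
      rw [h3, hss] at hyy
      exact hs1 hyy.symm
    obtain ⟨k1, hk1⟩ := hreg _ he1 hee
    have hcen : s * (r⁻¹ * x) = (r⁻¹ * x) * s := hab _ _
    have he2 : (r⁻¹ * x) * s ≠ 1 := fun e => hes (by
      rw [mul_eq_one_iff_eq_inv, h.inv_eq hss] at e; exact e)
    have hee2 : ((r⁻¹ * x) * s) * ((r⁻¹ * x) * s) = 1 := by
      calc ((r⁻¹ * x) * s) * ((r⁻¹ * x) * s) = (r⁻¹ * x) * (s * (r⁻¹ * x)) * s := by group
        _ = (r⁻¹ * x) * ((r⁻¹ * x) * s) * s := by rw [hcen]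
        _ = ((r⁻¹ * x) * (r⁻¹ * x)) * (s * s) := by group
        _ = 1 := by rw [hee, hss, one_mul]
    obtain ⟨k2, hk2⟩ := hreg _ he2 hee2
    have hx1 : x = r⁻¹ * φ k2 s := by
      rw [← hk2, ← hcen, ← mul_assoc, ← mul_assoc]
      have : r⁻¹ * s * r⁻¹ = 1 := by
        rw [← hrsi, mul_assoc r s s, hss, mul_one, hrsi, mul_inv_cancel]
      rw [this, one_mul]
    have hx2 : x = r * φ k1 s := by rw [← hk1, mul_inv_cancel_left]
    have hx3 : r * φ k2 s = r⁻¹ * φ k1 s := by
      rw [← hk2, ← hcen, ← mul_assoc, hrsi, hk1]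
    have h4 := S.R_e k2 y (by rw [← hx1]; exact h2)
    rw [hx3] at h4
    have h5 := S.R_e k1 _ h4
    rw [← hx2] at h5
    have h6 := S.uniq _ _ _ h2 h5
    have hsq : ∀ u v : P, (u * v) * (u * v) = (u * u) * (v * v) := by
      intro u v
      calc (u * v) * (u * v) = u * (v * u) * v := by group
        _ = u * (u * v) * v := by rw [hab v u]
        _ = _ := by group
    have h7 : s = s * φ k1 (s * φ k2 s) := by
      have := congrArg (fun z => z * z) h6
      beta_reduce at this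
      rw [hyy, hsq, S.rr, ← map_mul, hsq, S.rr, ← map_mul, hyy] at this
      exact this
    have h8 : φ k1 (s * φ k2 s) = 1 := by
      have := h7.symm
      exact mul_eq_left.1 this
    have h9 : s * φ k2 s = 1 := by
      rw [← map_one (φ k1)] at h8
      exact (φ k1).injective h8
    rw [← hk2, ← hcen, ← mul_assoc, hss, one_mul] at h9
    exact he1 h9
  -- two different involutions
  obtain ⟨e, he1, hee, hes⟩ : ∃ e : P, e ≠ 1 ∧ e * e = 1 ∧ e ≠ s := by
    obtain ⟨x, y, hxy, hx1, hx, hy1, hy⟩ := h.two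
    by_cases hxs : x = s
    · exact ⟨y, hy1, hy, fun e => hxy (hxs.trans e.symm)⟩
    · exact ⟨x, hx1, hx, hxs⟩
  obtain ⟨k, hk⟩ := hreg e he1 hee
  have he2 : e * s ≠ 1 := fun e' => hes (by
    rw [mul_eq_one_iff_eq_inv, h.inv_eq hss] at e'; exact e')
  have hee2 : (e * s) * (e * s) = 1 := by
    calc (e * s) * (e * s) = e * (s * e) * s := by group
      _ = e * (e * s) * s := by rw [hab s e]
      _ = (e * e) * (s * s) := by group
      _ = 1 := by rw [hee, hss, one_mul]
  obtain ⟨l, hl⟩ := hreg _ he2 hee2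
  have hkl : φ k s * φ l s = s := by
    rw [← hk, ← hl, ← mul_assoc, hee, one_mul]
  have h1 := hcl k l hkl
  have h2 := hcl l k (by rw [hab]; exact hkl)
  have h3 : r * r = 1 := by
    calc r * r = (φ l r * φ k r⁻¹) * (φ k r * φ l r⁻¹) := by rw [h1, h2]
      _ = φ l r * (φ k r⁻¹ * φ k r) * φ l r⁻¹ := by group
      _ = 1 := by rw [← map_mul, inv_mul_cancel, map_one, mul_one, ← map_mul, mul_inv_cancel, map_one]
  rw [S.rr] at h3
  exact hs1 h3

/-- in the abelian case of order `q²` the exponent is four -/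
theorem pow_four (h : Hyp φ) (hab : ∀ x y : P, x * y = y * x) (hcard : Nat.card P = Nat.card h.Z ^ 2)
    {x : P} : (x * x) * (x * x) = 1 := by
  let sq : P →* P :=
    { toFun := fun x => x * x
      map_one' := by rw [one_mul]
      map_mul' := fun u v => by
        calc (u * v) * (u * v) = u * (v * u) * v := by group
          _ = u * (u * v) * v := by rw [hab v u]
          _ = _ := by group }
  have hker : sq.ker = h.Z := by
    ext z
    rw [MonoidHom.mem_ker, h.mem_Z]; rfl
  have hpos : 0 < Nat.card h.Z := Nat.card_pos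
  have hr : Nat.card sq.range = Nat.card h.Z := by
    have h1 := Subgroup.card_mul_index sq.ker
    rw [Subgroup.index_ker, hker, hcard, pow_two] at h1
    exact Nat.eq_of_mul_eq_mul_left hpos h1
  -- the range contains an involution
  have hle : h.Z ≤ sq.range := by
    obtain ⟨z, hz1⟩ : ∃ z : sq.range, z ≠ 1 := by
      by_contra hcon
      push Not at hcon
      have h1 : Nat.card sq.range = 1 := by
        rw [Nat.card_eq_one_iff_unique]
        exact ⟨⟨fun u v => by rw [hcon u, hcon v]⟩, ⟨1⟩⟩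
      rw [hr] at h1
      obtain ⟨w, w', -, hw1, hw, -, -⟩ := h.two
      rw [Nat.card_eq_one_iff_unique] at h1
      haveI := h1.1
      have h2 : (⟨w, hw⟩ : h.Z) = 1 := Subsingleton.elim _ _
      exact hw1 (congrArg Subtype.val h2)
    have hz1' : (z : P) ≠ 1 := fun e => hz1 (Subtype.ext e)
    obtain ⟨n, hn1, hn2⟩ := exists_invol h.isP hz1'
    obtain ⟨u, hu⟩ : (z : P) ^ 2 ^ n ∈ sq.range := sq.range.pow_mem z.2 _
    intro e he
    by_cases he1 : e = 1
    · rw [he1]; exact one_mem _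
    obtain ⟨k, hk, -⟩ := h.reg _ e hn1 hn2 he1 he
    refine ⟨φ k u, ?_⟩
    change φ k u * φ k u = e
    rw [← map_mul, ← hk, ← hu]; rfl
  have heq : h.Z = sq.range := Subgroup.eq_of_le_of_card_ge hle (le_of_eq hr)
  have : x * x ∈ h.Z := by rw [heq]; exact ⟨x, rfl⟩
  exact this

end

end Cfsg.Agent.Lib.SzId
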