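import Cfsg.Agent.Lib.SzId5
import Cfsg.Agent.Lib.SzId7

/-!
Identification of the Suzuki groups: the main theorem (helper13).
-/

set_option autoImplicit false
set_option linter.unusedSectionVars false

namespace Cfsg.Agent.Lib.SzId

open MulAction Cfsg.Agent.Lib.RankOne Cfsg.Agent.Lib.RankOneC Cfsg.Agent.Lib.SuzS1
open Cfsg.Agent.Lib.HigmanBase Cfsg.Agent.Lib.SuzukiOvoid Cfsg.Agent.Lib.SuzukiGroup

section iso

variable {G H M : Type*} [Group G] [Group H] [Group M]

/-- two faithful representations with the same image -/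
theorem iso_of_range (A : G →* M) (hA : Function.Injective A) (B : H →* M) (hB : Function.Injective B)
    (L : Subgroup G) (h : L.map A = B.range) : Nonempty (L ≃* H) :=
  ⟨((L.equivMapOfInjective A hA).trans (MulEquiv.subgroupCongr h)).trans (MonoidHom.ofInjective hB).symm⟩

end iso

variable {G Ω : Type*} [Group G] [MulAction G Ω] {a : Ω} {t : G} {Q K : Subgroup G} {s r : G}

/-- Suzuki coordinates on the points -/
theorem main_coord [Finite G] [FaithfulSMul G Ω] (X : Env a t Q K s r) {E : Type*} [Field E] [Finite E]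
    [CharP E 2] {ψ : E ≃+* E} {α b : Q → E} {lam : K → E}
    (hc : letI := commK X; Coord (phi X) ψ α b lam)
    (hψ : ∀ x, ψ (ψ x) = x ^ 2) (hne : ∃ x, ψ x ≠ x ^ 2)
    (hR : ∀ x y : Q, x ≠ 1 → Rl a t Q x y →
      ff ψ (α x) (b x) ≠ 0 ∧ α y = b x / ff ψ (α x) (b x) ∧ b y = α x / ff ψ (α x) (b x)) :
    Nonempty (Subgroup.closure ((Q : Set G) ∪ K ∪ {t}) ≃* Gz ψ) := by
  classical
  letI := commK X
  have htta : t • t • a = a := tt_smul X a
  have htne : t • a ≠ a := ta_ne' X
  -- the points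
  have hpt : ∀ p : Ω, p = a ∨ ∃ x : Q, (x : G) • t • a = p := by
    intro p
    by_cases hp : p = a
    · exact Or.inl hp
    · obtain ⟨y, hy, h⟩ := Q_trans X.hS hp
      exact Or.inr ⟨⟨y, hy⟩, h⟩
  have hxa : ∀ x : Q, (x : G) • t • a ≠ a := by
    intro x h
    apply htne
    have h1 : (x : G) • a = a := Q_fix X.hS x.2
    exact smul_left_cancel (x : G) (h.trans h1.symm)
  have hinj : ∀ x y : Q, (x : G) • t • a = (y : G) • t • a → x = y := fun x y h =>
    Subtype.ext (Q_eq X.hS x.2 y.2 htne h)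
  let f0 : Option Q → Ω := fun o => match o with
    | none => a
    | some x => (x : G) • t • a
  have hf0 : Function.Bijective f0 := by
    constructor
    · rintro (_ | x) (_ | y) h
      · rfl
      · exact absurd h.symm (hxa y)
      · exact absurd h (hxa x)
      · rw [hinj x y h]
    · intro p
      rcases hpt p with rfl | ⟨x, rfl⟩
      · exact ⟨none, rfl⟩
      · exact ⟨some x, rfl⟩
  let g0 : Option Q → ov ψ := fun o => match o with
    | none => inf ψ
    | some x => pt ψ (α x) (b x)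
  have hg0 : Function.Bijective g0 := by
    constructor
    · rintro (_ | x) (_ | y) h
      · rfl
      · exact absurd h.symm (pt_ne_inf ψ _ _)
      · exact absurd h (pt_ne_inf ψ _ _)
      · obtain ⟨h1, h2⟩ := pt_inj ψ h
        rw [hc.ext h1 h2]
    · intro p
      rcases cases ψ p with rfl | ⟨x, y, rfl⟩
      · exact ⟨none, rfl⟩
      · obtain ⟨u, hu⟩ := hc.bij.2 (x, y)
        refine ⟨some u, ?_⟩
        have h1 : α u = x := congrArg Prod.fst hu
        have h2 : b u = y := congrArg Prod.snd hu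
        change pt ψ (α u) (b u) = _
        rw [h1, h2]
  let e : Ω ≃ ov ψ := (Equiv.ofBijective f0 hf0).symm.trans (Equiv.ofBijective g0 hg0)
  have hea : e a = inf ψ := by
    have h1 : (Equiv.ofBijective f0 hf0).symm a = none := by
      rw [Equiv.symm_apply_eq]; rfl
    change (Equiv.ofBijective g0 hg0) ((Equiv.ofBijective f0 hf0).symm a) = _
    rw [h1]; rfl
  have hex : ∀ x : Q, e ((x : G) • t • a) = pt ψ (α x) (b x) := by
    intro x
    have h1 : (Equiv.ofBijective f0 hf0).symm ((x : G) • t • a) = some x := by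
      rw [Equiv.symm_apply_eq]; rfl
    change (Equiv.ofBijective g0 hg0) ((Equiv.ofBijective f0 hf0).symm ((x : G) • t • a)) = _
    rw [h1]; rfl
  -- equivariance
  have hlam : ∀ k, lam k ≠ 0 := hc.ne
  have hQ : ∀ (u : Q) (p : Ω), e ((u : G) • p) = Ug ψ hψ (α u) (b u) • e p := by
    intro u p
    rcases hpt p with rfl | ⟨x, rfl⟩
    · rw [Q_fix X.hS u.2, hea, Ug_inf]
    · rw [smul_smul, ← Subgroup.coe_mul, hex, hex, Ug_pt, hc.add, hc.coc]
      congr 1
      · ring
      · ring
  have hK : ∀ (k : K) (p : Ω), e ((k : G) • p) = Hg ψ hψ (Units.mk0 (lam k) (hlam k)) • e p := by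
    intro k p
    rcases hpt p with rfl | ⟨x, rfl⟩
    · rw [X.Ka k.2, hea, Hg_inf]
    · have h1 : (k : G) • (x : G) • t • a = ((phi X k x : Q) : G) • t • a := by
        rw [phi_coe, mul_smul _ (k : G)⁻¹, X.Kb (K.inv_mem k.2), mul_smul]
      rw [h1, hex, hex, Hg_pt, hc.act, hc.actb, Units.val_mk0]
  have hone : α 1 = 0 ∧ b 1 = 0 := ⟨hc.one, hc.bone⟩
  have ht : ∀ p : Ω, e (t • p) = Wg ψ hψ • e p := by
    have h1 : e (t • a) = pt ψ 0 0 := by
      have := hex 1
      rw [Subgroup.coe_one, one_smul, hone.1, hone.2] at this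
      exact this
    intro p
    rcases hpt p with rfl | ⟨x, rfl⟩
    · rw [hea, Wg_inf, h1]
    · by_cases hx : x = 1
      · rw [hx, Subgroup.coe_one, one_smul, htta, hea, h1, Wg_zero]
      · have h2 : t • (x : G) • t • a ≠ a := by
          intro h
          apply hx
          apply hinj
          have h3 : t • t • (x : G) • t • a = t • a := by rw [h]
          rw [tt_smul X] at h3
          rw [h3, Subgroup.coe_one, one_smul]
        obtain ⟨y, hy⟩ := (hpt _).resolve_left h2
        have h3 : Rl a t Q x y := hy.symm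
        obtain ⟨h4, h5, h6⟩ := hR x y hx h3
        rw [← hy, hex, hex, Wg_pt ψ hψ h4, h5, h6]
  -- the two representations
  let A : G →* Equiv.Perm (ov ψ) := (e.permCongrHom : Equiv.Perm Ω →* Equiv.Perm (ov ψ)).comp (MulAction.toPermHom G Ω)
  have hAapp : ∀ (g : G) (p : Ω), A g (e p) = e (g • p) := by
    intro g p
    change e (g • e.symm (e p)) = _
    rw [e.symm_apply_apply]
  have hA : Function.Injective A := by
    intro g h hgh
    apply FaithfulSMul.eq_of_smul_eq_smul (α := Ω)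
    intro p
    apply e.injective
    rw [← hAapp, ← hAapp, hgh]
  haveI := faithful ψ hψ hne
  let B : Gz ψ →* Equiv.Perm (ov ψ) := MulAction.toPermHom (Gz ψ) (ov ψ)
  have hB : Function.Injective B := MulAction.toPerm_injective
  have hBapp : ∀ (g : Gz ψ) (p : ov ψ), B g p = g • p := fun _ _ => rfl
  have hAB : ∀ (g : G) (g' : Gz ψ), (∀ p, e (g • p) = g' • e p) → A g = B g' := by
    intro g g' h
    ext p : 1
    obtain ⟨q, rfl⟩ := e.surjective p
    rw [hAapp, hBapp, h]
  have hAQ : ∀ u : Q, A (u : G) = B (Ug ψ hψ (α u) (b u)) := fun u => hAB _ _ (hQ u)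
  have hAK : ∀ k : K, A (k : G) = B (Hg ψ hψ (Units.mk0 (lam k) (hlam k))) := fun k => hAB _ _ (hK k)
  have hAt : A t = B (Wg ψ hψ) := hAB _ _ ht
  refine iso_of_range A hA B hB _ ?_
  set L := Subgroup.closure ((Q : Set G) ∪ K ∪ {t}) with hL
  have hQL : ∀ u : Q, (u : G) ∈ L := fun u => Subgroup.subset_closure (Or.inl (Or.inl u.2))
  have hKL : ∀ k : K, (k : G) ∈ L := fun k => Subgroup.subset_closure (Or.inl (Or.inr k.2))
  have htL : t ∈ L := Subgroup.subset_closure (Or.inr rfl)
  apply le_antisymm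
  · rw [hL, MonoidHom.map_closure, Subgroup.closure_le]
    rintro _ ⟨g, (hg | hg) | hg, rfl⟩
    · exact ⟨_, (hAQ ⟨g, hg⟩).symm⟩
    · exact ⟨_, (hAK ⟨g, hg⟩).symm⟩
    · rw [Set.mem_singleton_iff] at hg
      rw [hg]
      exact ⟨_, hAt.symm⟩
  · have hU : ∀ x y : E, B (Ug ψ hψ x y) ∈ L.map A := by
      intro x y
      obtain ⟨u, hu⟩ := hc.bij.2 (x, y)
      have h1 : α u = x := congrArg Prod.fst hu
      have h2 : b u = y := congrArg Prod.snd hu
      refine ⟨u, hQL u, ?_⟩
      rw [hAQ, h1, h2]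
    have hH : ∀ κ : Eˣ, B (Hg ψ hψ κ) ∈ L.map A := by
      intro κ
      obtain ⟨k, hk⟩ := hc.surj (κ : E) κ.ne_zero
      refine ⟨k, hKL k, ?_⟩
      rw [hAK]
      congr 2
      exact Units.ext hk
    have hW : B (Wg ψ hψ) ∈ L.map A := ⟨t, htL, hAt⟩
    rintro _ ⟨g, rfl⟩
    rcases SuzukiStab.bruhat ψ hψ hne g with ⟨x, y, κ, h⟩ | ⟨x, y, c, d, κ, h⟩
    · rw [h, map_mul]
      exact mul_mem (hU x y) (hH κ)
    · rw [h, map_mul, map_mul, map_mul]
      exact mul_mem (mul_mem (hU x y) hW) (mul_mem (hU c d) (hH κ))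

end Cfsg.Agent.Lib.SzId
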