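import Cfsg.Agent.Lib.TIFacts2
import Cfsg.Agent.Lib.CyclicSylow

/-!
# TI cyclic Sylow subgroups and Sylow direct factors (helper2)
-/

set_option autoImplicit false

open Subgroup
open scoped Pointwise commutatorElement

namespace Cfsg.Agent.Lib.TIFacts

open Cfsg.Agent.Lib.GroupUtil

variable {G : Type*} [Group G]

/-- A cyclic Sylow subgroup which is normal in `C_G(x)`, `1 ≠ x ∈ P`, is central in it. -/
theorem centralizer_le_of_cyclic [Finite G] {p : ℕ} [hp : Fact p.Prime] (P : Sylow p G)
    [hcyc : IsCyclic ↥(P : Subgroup G)] {x : G} (hx : x ∈ (P : Subgroup G)) (hx1 : x ≠ 1)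
    (hN : centralizer ({x} : Set G) ≤ normalizer ((P : Subgroup G) : Set G)) :
    centralizer ({x} : Set G) ≤ centralizer ((P : Subgroup G) : Set G) := by
  have hPc : ∀ a ∈ (P : Subgroup G), ∀ b ∈ (P : Subgroup G), a * b = b * a := by
    intro a ha b hb
    letI : CommGroup P := IsCyclic.commGroup
    exact congrArg Subtype.val (mul_comm (⟨a, ha⟩ : P) ⟨b, hb⟩)
  have hPC : (P : Subgroup G) ≤ centralizer ({x} : Set G) := by
    intro a ha
    rw [mem_centralizer_singleton_iff]
    exact hPc a ha x hx
  set H := centralizer ({x} : Set G) with hH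
  set PH : Sylow p H := P.subtype hPC with hPH
  haveI : IsCyclic PH :=
    isCyclic_of_surjective _ (Subgroup.subgroupOfEquivOfLe hPC).symm.surjective
  have hxH : x ∈ H := hPC hx
  have h1 : Cfsg.HasNormalPComplement p H := by
    refine CyclicSylow.hasNormalPComplement_of_central PH ⟨x, hxH⟩ ?_ hx (fun h => hx1 (congrArg Subtype.val h))
    rw [mem_center_iff]
    intro g
    exact Subtype.ext ((mem_centralizer_singleton_iff.mp g.2))
  obtain ⟨K, hK, hKP⟩ := (PNilp.hasNormalPComplement_iff_sylow PH).mp h1
  haveI : (PH : Subgroup H).Normal := by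
    constructor
    intro n hn g
    exact (mem_normalizer_iff.mp (hN g.2) n).mp hn
  intro g hg
  have h2 : (⟨g, hg⟩ : H) ∈ K ⊔ (PH : Subgroup H) := by rw [hKP.sup_eq_top]; exact mem_top _
  obtain ⟨k, hk, a, ha, hka⟩ := mem_sup_of_normal_left.mp h2
  rw [mem_centralizer_iff]
  intro b hb
  have h3 : (⟨b, hPC hb⟩ : H) * k = k * ⟨b, hPC hb⟩ :=
    (Subgroup.commute_of_normal_of_disjoint _ _ (inferInstance : (PH : Subgroup H).Normal) hK hKP.disjoint.symm _ _ hb hk).eq
  have h4 : b * (k : G) = k * b := congrArg Subtype.val h3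
  have h5 : b * (a : G) = a * b := hPc b hb a ha
  have h6 : g = k * a := (congrArg Subtype.val hka).symm
  rw [h6]
  calc b * ((k : G) * a) = (b * k) * a := by group
    _ = k * (b * a) := by rw [h4]; group
    _ = k * a * b := by rw [h5]; group

/-- **S3985** -/
theorem cyclic_ti_iff [Finite G] {p : ℕ} [hp : Fact p.Prime] (P : Sylow p G)
    (hcyc : IsCyclic ↥(P : Subgroup G)) :
    (∀ g : G, g ∉ Subgroup.normalizer ((P : Subgroup G) : Set G) →
      (P : Subgroup G) ⊓ (MulAut.conj g • (P : Subgroup G)) = ⊥) ↔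
    ∀ x : G, x ∈ (P : Subgroup G) → x ≠ 1 →
      Subgroup.centralizer ({x} : Set G) = Subgroup.centralizer ((P : Subgroup G) : Set G) := by
  have hPc : ∀ a ∈ (P : Subgroup G), ∀ b ∈ (P : Subgroup G), a * b = b * a := by
    intro a ha b hb
    letI : CommGroup P := IsCyclic.commGroup
    exact congrArg Subtype.val (mul_comm (⟨a, ha⟩ : P) ⟨b, hb⟩)
  constructor
  · intro hTI x hx hx1
    apply le_antisymm
    · apply centralizer_le_of_cyclic P hx hx1
      intro g hg
      rw [mem_normalizer_sylow_iff]
      have h1 : g⁻¹ * x * g = x := by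
        rw [mem_centralizer_singleton_iff] at hg
        rw [mul_assoc, ← hg]; group
      refine (eq_of_ti hTI P (g • P) hx ?_ hx1).symm
      rw [mem_smul_sylow, h1]; exact hx
    · apply centralizer_le
      rw [Set.singleton_subset_iff]; exact hx
  · intro h
    refine fun g hg => ti_of_eq ?_ P g hg
    have hconj : ∀ (k : G) (Q : Sylow p G), Q = k • P → ∀ y ∈ (Q : Subgroup G), y ≠ 1 →
        centralizer ({y} : Set G) = centralizer ((Q : Subgroup G) : Set G) := by
      rintro k Q rfl y hy hy1
      rw [mem_smul_sylow] at hy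
      have h1 := h _ hy (fun h2 => hy1 (by
        have : y = k * (k⁻¹ * y * k) * k⁻¹ := by group
        rw [this, h2]; group))
      apply le_antisymm
      · intro c hc
        have h2 : k⁻¹ * c * k ∈ centralizer ({k⁻¹ * y * k} : Set G) := by
          rw [mem_centralizer_singleton_iff] at hc ⊢
          calc k⁻¹ * c * k * (k⁻¹ * y * k) = k⁻¹ * (c * y) * k := by group
            _ = k⁻¹ * y * k * (k⁻¹ * c * k) := by rw [hc]; group
        rw [h1, mem_centralizer_iff] at h2
        rw [mem_centralizer_iff]
        intro z hz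
        have hz' := (mem_smul_sylow _ _ _).mp hz
        have h3 := h2 _ hz'
        calc z * c = k * (k⁻¹ * z * k * (k⁻¹ * c * k)) * k⁻¹ := by group
          _ = c * z := by rw [h3]; group
      · apply centralizer_le
        rw [Set.singleton_subset_iff]
        exact (mem_smul_sylow _ _ _).mpr hy
    intro P₁ P₂ x h1 h2 hx
    obtain ⟨g₁, hg₁⟩ := MulAction.exists_smul_eq G P P₁
    obtain ⟨g₂, hg₂⟩ := MulAction.exists_smul_eq G P P₂
    have h3 : centralizer ((P₁ : Subgroup G) : Set G) = centralizer ((P₂ : Subgroup G) : Set G) := by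
      rw [← hconj g₁ P₁ hg₁.symm x h1 hx, ← hconj g₂ P₂ hg₂.symm x h2 hx]
    have h4 : (P₁ : Subgroup G) ≤ centralizer ((P₁ : Subgroup G) : Set G) := by
      intro a ha
      rw [mem_centralizer_iff]
      intro b hb
      rw [← hg₁, mem_smul_sylow] at ha
      rw [SetLike.mem_coe, ← hg₁, mem_smul_sylow] at hb
      have := hPc _ hb _ ha
      calc b * a = g₁ * (g₁⁻¹ * b * g₁ * (g₁⁻¹ * a * g₁)) * g₁⁻¹ := by group
        _ = a * b := by rw [this]; group
    have h5 : IsPGroup p ((P₁ : Subgroup G) ⊔ P₂ : Subgroup G) := by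
      apply IsPGroup.to_sup_of_normal_right' P₁.2 P₂.2
      rw [h3] at h4
      exact h4.trans (GroupUtil.centralizer_le_normalizer _)
    apply Sylow.ext
    exact (P₁.3 h5 le_sup_left).symm.trans (P₂.3 h5 le_sup_right)

/-- `q`-parts: if all elements of prime power order `q ^ b`, `q ≠ p`, of `G` lie in `C` and
`P ≤ C` then `C = G`. -/
theorem eq_top_of_primary [Finite G] {p : ℕ} [hp : Fact p.Prime] (P : Sylow p G) (C : Subgroup G)
    (hPC : (P : Subgroup G) ≤ C)
    (h : ∀ y : G, (∃ q b : ℕ, q.Prime ∧ q ≠ p ∧ orderOf y = q ^ b) → y ∈ C) : C = ⊤ := by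
  rw [← index_eq_one]
  by_contra hne
  obtain ⟨q, hq, hqd⟩ := Nat.exists_prime_and_dvd hne
  haveI := Fact.mk hq
  by_cases hqp : q = p
  · subst hqp
    exact P.not_dvd_index (hqd.trans (index_dvd_of_le hPC))
  · obtain ⟨Q⟩ : Nonempty (Sylow q G) := inferInstance
    have hQC : (Q : Subgroup G) ≤ C := by
      intro y hy
      obtain ⟨b, hb⟩ := IsPGroup.iff_orderOf.mp Q.2 ⟨y, hy⟩
      rw [Subgroup.orderOf_mk] at hb
      exact h y ⟨q, b, hq, hqp, hb⟩
    exact Q.not_dvd_index (hqd.trans (index_dvd_of_le hQC))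

/-- **S3986** -/
theorem direct_factor_iff [Finite G] (p : ℕ) [hp : Fact p.Prime] :
    (∃ (P : Sylow p G) (K : Subgroup G), (P : Subgroup G).Normal ∧ K.Normal ∧ (P : Subgroup G) ⊓ K = ⊥ ∧
      (P : Subgroup G) ⊔ K = ⊤) ↔
    ∀ x y : G, (∃ a : ℕ, orderOf x = p ^ a) → (∃ q b : ℕ, q.Prime ∧ q ≠ p ∧ orderOf y = q ^ b) →
      x * y = y * x := by
  constructor
  · rintro ⟨P, K, hP, hK, hinf, hsup⟩ x y hx hy
    have hxP : x ∈ (P : Subgroup G) := by
      obtain ⟨a, ha⟩ := hx
      have h1 : IsPGroup p (zpowers x) := IsPGroup.of_card (n := a) (by rw [Nat.card_zpowers, ha])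
      have h2 : (P : Subgroup G) ⊔ zpowers x ≤ P := by
        have := P.3 (IsPGroup.to_sup_of_normal_left P.2 h1) le_sup_left
        exact this.le
      exact h2 (le_sup_right (a := (P : Subgroup G)) (mem_zpowers x))
    have hyK : y ∈ K := by
      obtain ⟨q, b, hq, hqp, hb⟩ := hy
      have h1 : K.index = Nat.card P := by
        have h2 : (P : Subgroup G).IsComplement' K :=
          isComplement'_of_disjoint_and_mul_eq_univ (disjoint_iff.mpr hinf) (by
            rw [← mul_normal, hsup]; rfl)
        exact h2.index_eq_card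
      obtain ⟨n, hn⟩ := IsPGroup.iff_card.mp P.2
      rw [← QuotientGroup.eq_one_iff, ← orderOf_eq_one_iff]
      have h2 : orderOf (y : G ⧸ K) ∣ q ^ b := by
        rw [← hb]
        exact orderOf_map_dvd (QuotientGroup.mk' K) y
      have h3 : orderOf (y : G ⧸ K) ∣ p ^ n := by
        rw [← hn, ← h1, index_eq_card]
        exact orderOf_dvd_natCard _
      have h4 : Nat.Coprime (q ^ b) (p ^ n) :=
        Nat.Coprime.pow _ _ ((Nat.coprime_primes hq hp.out).mpr hqp)
      exact Nat.dvd_one.mp (h4 ▸ Nat.dvd_gcd h2 h3)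
    exact (Subgroup.commute_of_normal_of_disjoint _ _ hP hK (disjoint_iff.mpr hinf) _ _ hxP hyK).eq
  · intro h
    obtain ⟨P⟩ : Nonempty (Sylow p G) := inferInstance
    have hord : ∀ x ∈ (P : Subgroup G), ∃ a : ℕ, orderOf x = p ^ a := by
      intro x hx
      obtain ⟨b, hb⟩ := IsPGroup.iff_orderOf.mp P.2 ⟨x, hx⟩
      rw [Subgroup.orderOf_mk] at hb
      exact ⟨b, hb⟩
    have hPn : (P : Subgroup G).Normal := by
      rw [← normalizer_eq_top_iff]
      apply eq_top_of_primary P _ le_normalizer
      intro y hy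
      apply GroupUtil.centralizer_le_normalizer
      rw [mem_centralizer_iff]
      intro x hx
      exact h x y (hord x hx) hy
    obtain ⟨K, hK⟩ := exists_right_complement'_of_coprime (N := (P : Subgroup G)) P.card_coprime_index
    have hKC : K ≤ centralizer ((P : Subgroup G) : Set G) := by
      obtain ⟨P₀⟩ : Nonempty (Sylow p K) := inferInstance
      have h1 : (centralizer ((P : Subgroup G) : Set G)).subgroupOf K = ⊤ := by
        apply eq_top_of_primary P₀
        · have h2 : (P₀ : Subgroup K) = ⊥ := by
            rw [← Subgroup.card_eq_one]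
            obtain ⟨n, hn⟩ := IsPGroup.iff_card.mp P₀.2
            rw [hn]
            rcases Nat.eq_zero_or_pos n with h3 | h3
            · rw [h3, pow_zero]
            · exfalso
              have h4 : p ∣ Nat.card K := (dvd_pow_self p h3.ne').trans (hn ▸ card_subgroup_dvd_card _)
              rw [← hK.symm.index_eq_card] at h4
              exact P.not_dvd_index h4
          rw [h2]; exact bot_le
        · rintro y ⟨q, b, hq, hqp, hb⟩
          rw [mem_subgroupOf, mem_centralizer_iff]
          intro x hx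
          exact h x y (hord x hx) ⟨q, b, hq, hqp, by rw [← hb, orderOf_coe]⟩
      rw [subgroupOf_eq_top] at h1
      exact h1
    refine ⟨P, K, hPn, ?_, hK.disjoint.eq_bot, hK.sup_eq_top⟩
    rw [← normalizer_eq_top_iff, eq_top_iff, ← hK.sup_eq_top, sup_le_iff]
    refine ⟨?_, le_normalizer⟩
    intro x hx
    apply GroupUtil.centralizer_le_normalizer
    rw [mem_centralizer_iff]
    intro k hk
    exact ((mem_centralizer_iff.mp (hKC hk)) x hx).symm

/-- **S3987** -/
theorem direct_factor_iff_index [Finite G] (p : ℕ) [hp : Fact p.Prime] :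
    (∃ (P : Sylow p G) (K : Subgroup G), (P : Subgroup G).Normal ∧ K.Normal ∧ (P : Subgroup G) ⊓ K = ⊥ ∧
      (P : Subgroup G) ⊔ K = ⊤) ↔
    ∀ x y : G, (∃ a : ℕ, orderOf x = p ^ a) → (∃ q b : ℕ, q.Prime ∧ q ≠ p ∧ orderOf y = q ^ b) →
      (Subgroup.centralizer ({x * y} : Set G)).index =
        (Subgroup.centralizer ({x} : Set G)).index * (Subgroup.centralizer ({y} : Set G)).index := by
  constructor
  · intro hPK x y hx hy
    have hcomm := (direct_factor_iff p).mp hPK
    obtain ⟨a, ha⟩ := hx
    obtain ⟨q, b, hq, hqp, hb⟩ := hy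
    have hxy : x * y = y * x := hcomm x y ⟨a, ha⟩ ⟨q, b, hq, hqp, hb⟩
    have hcop : Nat.Coprime (p ^ a) (q ^ b) := Nat.Coprime.pow _ _ ((Nat.coprime_primes hp.out hq).mpr hqp.symm)
    have hC : centralizer ({x * y} : Set G) = centralizer ({x} : Set G) ⊓ centralizer ({y} : Set G) := by
      apply le_antisymm
      · intro g hg
        rw [mem_centralizer_singleton_iff] at hg
        have hgc : Commute g (x * y) := hg
        have hxyc : Commute x y := hxy
        -- `(xy)^{q^b} = x^{q^b}` and `x` is a power of it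
        have h1 : Commute g x := by
          obtain ⟨m, hm⟩ := exists_pow_eq_self_of_coprime (n := q ^ b) (x := x) (by rw [ha]; exact hcop.symm)
          have h2 : (x * y) ^ (q ^ b) = x ^ (q ^ b) := by
            rw [hxyc.mul_pow, ← hb, pow_orderOf_eq_one, mul_one]
          rw [← hm, ← h2]
          exact (hgc.pow_right _).pow_right _
        have h3 : Commute g y := by
          have h4 : y = x⁻¹ * (x * y) := by group
          rw [h4]
          exact h1.inv_right.mul_right hgc
        exact ⟨mem_centralizer_singleton_iff.mpr h1.eq, mem_centralizer_singleton_iff.mpr h3.eq⟩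
      · intro g hg
        have h1 := mem_centralizer_singleton_iff.mp (mem_inf.mp hg).1
        have h2 := mem_centralizer_singleton_iff.mp (mem_inf.mp hg).2
        rw [mem_centralizer_singleton_iff]
        calc g * (x * y) = (g * x) * y := by group
          _ = x * (g * y) := by rw [h1]; group
          _ = x * y * g := by rw [h2]; group
    rw [hC]
    -- coprime indices
    obtain ⟨P, K, hP, hK, hinf, hsup⟩ := hPK
    have hcompl : (P : Subgroup G).IsComplement' K :=
      isComplement'_of_disjoint_and_mul_eq_univ (disjoint_iff.mpr hinf) (by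
        rw [← mul_normal, hsup]; rfl)
    have hPKc : (Nat.card P).Coprime (P : Subgroup G).index := P.card_coprime_index
    have hxP : x ∈ (P : Subgroup G) := by
      have h1 : IsPGroup p (zpowers x) := IsPGroup.of_card (n := a) (by rw [Nat.card_zpowers, ha])
      have h2 : (P : Subgroup G) ⊔ zpowers x ≤ P := by
        have := P.3 (IsPGroup.to_sup_of_normal_left P.2 h1) le_sup_left
        exact this.le
      exact h2 (le_sup_right (a := (P : Subgroup G)) (mem_zpowers x))
    have hi1 : (centralizer ({x} : Set G)).index ∣ Nat.card P := by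
      rw [← hcompl.index_eq_card]
      apply index_dvd_of_le
      intro k hk
      rw [mem_centralizer_singleton_iff]
      exact (Subgroup.commute_of_normal_of_disjoint _ _ hK hP (disjoint_iff.mpr hinf).symm _ _ hk hxP).eq
    have hi2 : (centralizer ({y} : Set G)).index ∣ (P : Subgroup G).index := by
      apply index_dvd_of_le
      intro k hk
      rw [mem_centralizer_singleton_iff]
      apply hcomm k y _ ⟨q, b, hq, hqp, hb⟩
      obtain ⟨b, hb⟩ := IsPGroup.iff_orderOf.mp P.2 ⟨k, hk⟩
      rw [Subgroup.orderOf_mk] at hb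
      exact ⟨b, hb⟩
    have hic := Nat.Coprime.coprime_dvd_left hi1 (Nat.Coprime.coprime_dvd_right hi2 hPKc)
    apply le_antisymm index_inf_le
    apply Nat.le_of_dvd (Nat.pos_of_ne_zero index_ne_zero_of_finite)
    exact Nat.Coprime.mul_dvd_of_dvd_of_dvd hic (index_dvd_of_le inf_le_left) (index_dvd_of_le inf_le_right)
  · intro h
    rw [direct_factor_iff]
    intro x y hx hy
    have h1 := h x y hx hy
    have h2 : centralizer ({x} : Set G) ⊓ centralizer ({y} : Set G) ≤ centralizer ({x * y} : Set G) := by
      intro g hg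
      have h1 := mem_centralizer_singleton_iff.mp (mem_inf.mp hg).1
      have h2 := mem_centralizer_singleton_iff.mp (mem_inf.mp hg).2
      rw [mem_centralizer_singleton_iff]
      calc g * (x * y) = (g * x) * y := by group
        _ = x * (g * y) := by rw [h1]; group
        _ = x * y * g := by rw [h2]; group
    have h3 := index_inf_le (H := centralizer ({x} : Set G)) (K := centralizer ({y} : Set G))
    rw [← h1] at h3
    have h4 : Nat.card (centralizer ({x * y} : Set G)) ≤
        Nat.card (centralizer ({x} : Set G) ⊓ centralizer ({y} : Set G) : Subgroup G) := by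
      have h5 := Subgroup.card_mul_index (centralizer ({x * y} : Set G))
      have h6 := Subgroup.card_mul_index (centralizer ({x} : Set G) ⊓ centralizer ({y} : Set G))
      rw [← h6] at h5
      by_contra h7
      push Not at h7
      have h8 : 0 < (centralizer ({x * y} : Set G)).index := Nat.pos_of_ne_zero index_ne_zero_of_finite
      nlinarith
    have h5 := eq_of_le_of_card_ge h2 h4
    have h6 : x * y ∈ centralizer ({x * y} : Set G) := by rw [mem_centralizer_singleton_iff]
    rw [← h5] at h6
    have h7 := mem_centralizer_singleton_iff.mp h6.1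
    -- (x * y) * x = x * (x * y)
    have h8 : x * (y * x) = x * (x * y) := by rw [← mul_assoc]; exact h7
    exact (mul_left_cancel h8).symm

end Cfsg.Agent.Lib.TIFacts
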