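import Cfsg.Agent.Lib.BenderMax
import Cfsg.Agent.Lib.H22BenderMax
import Cfsg.Agent.Lib.LocBase
import Cfsg.Agent.Lib.GroupUtil
import Cfsg.Agent.Lib.FrakH
import Cfsg.Agent.Lib.CFCore

/-!
# The Thompson-Wielandt theorem (helper62)

`M₁ ≠ M₂` subgroups such that `N(X) ≤ M_i` for nontrivial `X ⊴ M_i`, with isomorphic `O_p` and `E`.
`cr M Y` is the core of `Y` in `M`.  Iterated cores `A₁ B₁ A₂ B₂` of `D = M₁ ⊓ M₂`.
-/

set_option autoImplicit false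
set_option linter.unusedSectionVars false

open Subgroup Cfsg

namespace Cfsg.Agent.Lib.TW62

open Cfsg.Agent.Lib.Components Cfsg.Agent.Lib.Layer Cfsg.Agent.Lib.CompRel
  Cfsg.Agent.Lib.BenderMax Cfsg.Agent.Lib.H22BenderMax Cfsg.Agent.Lib.LocBase
open scoped commutatorElement

section cr

variable {G : Type*} [Group G]

/-- The core of `Y` in `M`, as a subgroup of `G`. -/
def cr (M Y : Subgroup G) : Subgroup G := ((Y.subgroupOf M).normalCore).map M.subtype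

theorem mem_cr {M Y : Subgroup G} {x : G} :
    x ∈ cr M Y ↔ x ∈ M ∧ ∀ m ∈ M, m * x * m⁻¹ ∈ Y := by
  constructor
  · rintro ⟨y, hy, rfl⟩
    refine ⟨y.2, fun m hm => ?_⟩
    exact hy ⟨m, hm⟩
  · rintro ⟨hx, h⟩
    refine ⟨⟨x, hx⟩, ?_, rfl⟩
    intro m
    exact h m m.2

theorem cr_le (M Y : Subgroup G) : cr M Y ≤ Y := fun x hx => by
  have := (mem_cr.mp hx).2 1 M.one_mem
  simpa using this

theorem cr_le_left (M Y : Subgroup G) : cr M Y ≤ M := map_subtype_le _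

theorem le_normalizer_cr (M Y : Subgroup G) : M ≤ normalizer (cr M Y : Set G) := by
  rw [le_normalizer_iff]
  intro m hm x hx
  rw [mem_cr] at hx ⊢
  refine ⟨M.mul_mem (M.mul_mem hm hx.1) (M.inv_mem hm), fun k hk => ?_⟩
  have := hx.2 (k * m) (M.mul_mem hk hm)
  simpa [mul_assoc] using this

theorem le_cr {M Y X : Subgroup G} (h1 : X ≤ M) (h2 : X ≤ Y) (h3 : M ≤ normalizer (X : Set G)) :
    X ≤ cr M Y := fun _ hx =>
  mem_cr.mpr ⟨h1 hx, fun _ hm => h2 (conj_mem_of_le_normalizer h3 hm hx)⟩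

end cr

section main

variable {G : Type*} [Group G] [Finite G]

/-- The standing hypothesis. -/
structure Hyp (M₁ M₂ : Subgroup G) : Prop where
  n1 : ∀ X : Subgroup G, X ≠ ⊥ → X ≤ M₁ → M₁ ≤ normalizer (X : Set G) → normalizer (X : Set G) ≤ M₁
  n2 : ∀ X : Subgroup G, X ≠ ⊥ → X ≤ M₂ → M₂ ≤ normalizer (X : Set G) → normalizer (X : Set G) ≤ M₂
  ne : M₁ ≠ M₂
  cO : ∀ p : ℕ, Nat.card (OA p M₁) = Nat.card (OA p M₂)
  cE : Nat.card (EA M₁) = Nat.card (EA M₂)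

variable {M₁ M₂ : Subgroup G}

theorem Hyp.symm (h : Hyp M₁ M₂) : Hyp M₂ M₁ :=
  ⟨h.n2, h.n1, h.ne.symm, fun p => (h.cO p).symm, h.cE.symm⟩

variable (M₁ M₂)

/-- `A₁`. -/
def A1 : Subgroup G := cr M₁ (M₁ ⊓ M₂)
/-- `A₂`. -/
def A2 : Subgroup G := cr M₁ (A1 M₁ M₂ ⊓ A1 M₂ M₁)

variable {M₁ M₂}

theorem A1_le : A1 M₁ M₂ ≤ M₁ := (cr_le_left _ _)
theorem A1_le' : A1 M₁ M₂ ≤ M₂ := (cr_le _ _).trans inf_le_right
theorem A1_n : M₁ ≤ normalizer (A1 M₁ M₂ : Set G) := le_normalizer_cr _ _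
theorem A2_n : M₁ ≤ normalizer (A2 M₁ M₂ : Set G) := le_normalizer_cr _ _
theorem A2_le1 : A2 M₁ M₂ ≤ A1 M₁ M₂ := (cr_le _ _).trans inf_le_left
theorem A2_le2 : A2 M₁ M₂ ≤ A1 M₂ M₁ := (cr_le _ _).trans inf_le_right
theorem A2_le : A2 M₁ M₂ ≤ M₁ := A2_le1.trans A1_le
theorem A2_le' : A2 M₁ M₂ ≤ M₂ := A2_le1.trans A1_le'

theorem mem_map_conj' {A : Subgroup G} {k x : G} (hx : x ∈ A) :
    k * x * k⁻¹ ∈ A.map (MulAut.conj k).toMonoidHom := ⟨x, hx, rfl⟩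

theorem map_conj_A2_le {h : G} (hh : h ∈ M₂) :
    (A2 M₁ M₂).map (MulAut.conj h).toMonoidHom ≤ A1 M₂ M₁ := by
  calc _ ≤ (A1 M₂ M₁).map (MulAut.conj h).toMonoidHom := map_conj_mono h A2_le2
    _ = _ := map_conj_eq_of_mem (A1_n hh)

theorem OA_char (p : ℕ) (A : Subgroup G) : normalizer (A : Set G) ≤ normalizer (OA p A : Set G) :=
  normalizer_le_normalizer_pCoreOf p A

theorem Hyp.P_step (H : Hyp M₁ M₂) {p : ℕ} (hp : p.Prime) (hA : ¬ IsPGroup p ↥(A2 M₁ M₂)) :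
    OA p M₁ = ⊥ ∧ OA p M₂ = ⊥ := by
  haveI : Fact p.Prime := ⟨hp⟩
  set X := pRes p (A2 M₁ M₂) with hX
  have hX1 : X ≠ ⊥ := fun h => hA (isPGroup_iff_pRes_eq_bot.mpr h)
  have hXA : X ≤ A2 M₁ M₂ := pRes_le _ _
  have hXn : M₁ ≤ normalizer (X : Set G) := A2_n.trans (normalizer_le_normalizer_pRes p _)
  have hNX : normalizer (X : Set G) ≤ M₁ := H.n1 X hX1 (hXA.trans A2_le) hXn
  -- `Q₂ ≤ M₁`
  have hQ2 : OA p M₂ ≤ M₁ := by
    set P := OA p M₂ ⊓ A1 M₂ M₁ with hP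
    have hPp : IsPGroup p ↥P := isPGroup_mono (isPGroup_OA M₂ p) inf_le_left
    have h1 : P ≤ normalizer (A2 M₁ M₂ : Set G) :=
      (inf_le_right.trans A1_le').trans A2_n
    have h2 : OA p M₂ ≤ normalizer (P : Set G) :=
      le_normalizer_inf ((OA_le M₂ p).trans (le_normalizer_OA M₂ p)) ((OA_le M₂ p).trans A1_n)
    have h3 : OA p M₂ ≤ normalizer ((A2 M₁ M₂ ⊔ P : Subgroup G) : Set G) := by
      intro q hq
      apply mem_normalizer_of_map_conj_le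
      rw [Subgroup.map_sup]
      refine sup_le ?_ ?_
      · rintro _ ⟨a, ha, rfl⟩
        have h6 : ⁅q, a⁆ ∈ P := by
          exact ⟨commutator_le_left_of_le ((A1_le (M₁ := M₂)).trans (le_normalizer_OA M₂ p))
              (commutator_mem_commutator hq (A2_le2 ha)),
            commutator_le_right_of_le ((OA_le M₂ p).trans A1_n)
              (commutator_mem_commutator hq (A2_le2 ha))⟩
        have h7 : (MulAut.conj q).toMonoidHom a = ⁅q, a⁆ * a := by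
          simp [commutatorElement_def]
        rw [h7]
        exact mul_mem (mem_sup_right h6) (mem_sup_left ha)
      · rw [map_conj_eq_of_mem (h2 hq)]
        exact le_sup_right
    have h4 : pRes p (A2 M₁ M₂ ⊔ P) ≤ A2 M₁ M₂ := FrakH.pRes_sup_le hPp h1
    have h5 : X = pRes p (A2 M₁ M₂ ⊔ P) := pRes_eq_of_le h4 le_sup_left
    calc OA p M₂ ≤ _ := h3
      _ ≤ _ := normalizer_le_normalizer_pRes p _
      _ = normalizer (X : Set G) := by rw [h5]
      _ ≤ M₁ := hNX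
  have hQ2B : OA p M₂ ≤ A1 M₂ M₁ := le_cr (OA_le M₂ p) (le_inf (OA_le M₂ p) hQ2) (le_normalizer_OA M₂ p)
  -- `Q₁ ⊓ B₁ ≤ Q₂`
  have hQB : OA p M₁ ⊓ A1 M₂ M₁ ≤ OA p M₂ := by
    have h1 : OA p M₁ ⊓ A1 M₂ M₁ ≤ OA p (A1 M₂ M₁) := by
      refine le_OA inf_le_right ?_ (isPGroup_mono (isPGroup_OA M₁ p) inf_le_left)
      exact le_normalizer_inf ((A1_le' (M₁ := M₂)).trans (le_normalizer_OA M₁ p)) le_normalizer
    refine h1.trans (le_OA ((OA_le _ p).trans (A1_le (M₁ := M₂))) ?_ (isPGroup_OA _ p))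
    exact A1_n.trans (OA_char _ _)
  -- `P = Q₁ ⊓ M₂` lies in every `M₁^h`
  have hP : OA p M₁ ⊓ M₂ ≤ A1 M₂ M₁ := by
    intro a ha
    have key : ∀ h ∈ M₂, h⁻¹ * a * h ∈ M₁ := by
      intro h hh
      set S := X.map (MulAut.conj h).toMonoidHom with hS
      have hSB : S ≤ A1 M₂ M₁ := (map_conj_mono h hXA).trans (map_conj_A2_le hh)
      have hMS : M₁.map (MulAut.conj h).toMonoidHom ≤ normalizer (S : Set G) := by
        rw [hS, ← map_conj_normalizer]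
        exact map_conj_mono h hXn
      have hQS : OA p M₂ ≤ normalizer (S : Set G) := by
        refine le_trans ?_ hMS
        rw [← map_conj_eq_of_mem (le_normalizer_OA M₂ p hh)]
        exact map_conj_mono h hQ2
      have hSS : S = pRes p S := by rw [hS, ← pRes_map_conj, hX, pRes_pRes]
      have h2 : ∀ x ∈ S, (orderOf x).Coprime p → a * x * a⁻¹ ∈ S := by
        intro x hx ho
        have h3 : ⁅x, a⁆ ∈ OA p M₂ := by
          apply hQB
          refine ⟨commutator_le_right_of_le ((A1_le' (M₁ := M₂)).trans (le_normalizer_OA M₁ p))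
              (commutator_mem_commutator (hSB hx) ha.1),
            commutator_le_left_of_le A1_n (commutator_mem_commutator (hSB hx) ha.2)⟩
        have h4 : ⁅x, ⁅x, a⁆⁆ ∈ S :=
          commutator_le_left_of_le hQS (commutator_mem_commutator hx h3)
        have h5 : ⁅x, a⁆ ∈ S :=
          commutator_mem_of_coprime (isPGroup_OA M₂ p) ho h3 (le_normalizer hx) (hQS h3) h4
        have h6 : a * x * a⁻¹ = ⁅x, a⁆⁻¹ * x := by
          rw [commutatorElement_def]; group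
        rw [h6]
        exact S.mul_mem (S.inv_mem h5) hx
      have h7 : a ∈ normalizer (S : Set G) := by
        apply mem_normalizer_of_map_conj_le
        rw [Subgroup.map_le_iff_le_comap, hSS, pRes_le_iff]
        intro x hx ho
        rw [← hSS]
        exact h2 x hx ho
      rw [hS, ← map_conj_normalizer, mem_map_conj] at h7
      exact hNX h7
    refine mem_cr.mpr ⟨ha.2, fun m hm => ⟨M₂.mul_mem (M₂.mul_mem hm ha.2) (M₂.inv_mem hm), ?_⟩⟩
    have := key m⁻¹ (M₂.inv_mem hm)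
    simpa using this
  have hP2 : OA p M₁ ⊓ M₂ ≤ OA p M₂ := (le_inf inf_le_left hP).trans hQB
  -- conclusion
  have hfin : OA p M₂ = ⊥ := by
    by_contra hne
    have hN2 : normalizer (OA p M₂ : Set G) ≤ M₂ := H.n2 _ hne (OA_le M₂ p) (le_normalizer_OA M₂ p)
    have hSp : IsPGroup p ↥(OA p M₁ ⊔ OA p M₂) :=
      isPGroup_sup (isPGroup_OA M₁ p) (isPGroup_OA M₂ p) (hQ2.trans (le_normalizer_OA M₁ p))
    have hinf : (OA p M₁ ⊔ OA p M₂) ⊓ M₂ ≤ OA p M₂ := by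
      rintro x ⟨hx, hxM⟩
      have hx' : x ∈ OA p M₂ ⊔ OA p M₁ := by rw [sup_comm]; exact hx
      rw [Components.mem_sup_of_le_normalizer (hQ2.trans (le_normalizer_OA M₁ p))] at hx'
      obtain ⟨b, hb, a, ha, rfl⟩ := hx'
      have h11 : a ∈ M₂ := (M₂.mul_mem_cancel_left (OA_le M₂ p hb)).mp hxM
      exact mul_mem hb (hP2 ⟨ha, h11⟩)
    have heq : OA p M₁ ⊔ OA p M₂ = OA p M₂ := by
      by_contra hne2
      have hlt : OA p M₂ < OA p M₁ ⊔ OA p M₂ := lt_of_le_of_ne le_sup_right (Ne.symm hne2)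
      have h8 := GroupUtil.lt_inf_normalizer_of_isPGroup hSp hlt
      exact absurd ((inf_le_inf_left _ hN2).trans hinf) (not_le_of_gt h8)
    have h9 : OA p M₁ ≤ OA p M₂ := by rw [← heq]; exact le_sup_left
    have h10 : OA p M₁ = OA p M₂ := Subgroup.eq_of_le_of_card_ge h9 (H.cO p).ge
    apply H.ne
    apply le_antisymm
    · calc M₁ ≤ _ := le_normalizer_OA M₁ p
        _ = _ := by rw [h10]
        _ ≤ M₂ := hN2
    · calc M₂ ≤ _ := le_normalizer_OA M₂ p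
        _ = _ := by rw [← h10]
        _ ≤ M₁ := H.n1 _ (h10 ▸ hne) (OA_le M₁ p) (le_normalizer_OA M₁ p)
  refine ⟨?_, hfin⟩
  have := H.cO p
  rw [hfin, Subgroup.card_bot, Subgroup.card_eq_one] at this
  exact this

/-- `K` is a component of `A` contained in `B`, `B ≤ A`: it is a component of `B`. -/
theorem comp_down {K A B : Subgroup G} (hKB : K ≤ B) (hBA : B ≤ A) (h : IsComponent (K.subgroupOf A)) :
    IsComponent (K.subgroupOf B) :=
  ⟨LocalLayer.isSubnormal_subgroupOf_of_le h.1 (hKB.trans hBA) hBA,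
    (quasisimple_subgroupOf hKB).mpr ((quasisimple_subgroupOf (hKB.trans hBA)).mp h.2)⟩

theorem sub_trans {K A B : Subgroup G} (hKA : K ≤ A) (h1 : (K.subgroupOf A).IsSubnormal)
    (h2 : (A.subgroupOf B).IsSubnormal) : (K.subgroupOf B).IsSubnormal := by
  refine Subgroup.IsSubnormal.trans (K := A.subgroupOf B) (subgroupOf_mono _ hKA) ?_ h2
  let f : ↥(A.subgroupOf B) →* ↥A := MonoidHom.mk' (fun x => ⟨((x : B) : G), x.2⟩) (fun _ _ => rfl)
  exact h1.comap f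

theorem sub_norm {K A : Subgroup G} (h : A ≤ normalizer (K : Set G)) : (K.subgroupOf A).IsSubnormal :=
  (normal_subgroupOf_of_le_normalizer h).isSubnormal

/-- `E(A)` is contained in `S` as soon as all components of `A` are. -/
theorem EA_le_of {A S : Subgroup G} (h : ∀ T : Subgroup G, T ≤ A → IsComponent (T.subgroupOf A) → T ≤ S) :
    EA A ≤ S := by
  change (layer ↥A).map A.subtype ≤ _
  rw [Subgroup.map_le_iff_le_comap]
  refine sSup_le fun K hK => ?_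
  rw [← Subgroup.map_le_iff_le_comap]
  refine h _ (map_subtype_le _) ?_
  rw [Subgroup.subgroupOf, Subgroup.comap_map_eq_self_of_injective A.subtype_injective]
  exact hK

theorem le_EA {A T : Subgroup G} (hT : T ≤ A) (h : IsComponent (T.subgroupOf A)) : T ≤ EA A := by
  rw [← map_subgroupOf_eq_of_le hT]
  exact Subgroup.map_mono (component_le_layer h)

theorem Hyp.EA_le' (H : Hyp M₁ M₂) (hA : A2 M₁ M₂ ≠ ⊥) : EA M₂ ≤ M₁ := by
  refine EA_le_of fun T hT hc => ?_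
  have hs : ((A2 M₁ M₂).subgroupOf M₂).IsSubnormal :=
    sub_trans A2_le2 (sub_norm ((A1_le' (M₁ := M₂)).trans A2_n)) (sub_norm A1_n)
  rcases component_le_or_le_centralizer_rel hT A2_le' hc hs with h | h
  · exact h.trans A2_le
  · exact (h.trans (centralizer_le_normalizer' _)).trans (H.n1 _ hA A2_le A2_n)

theorem Hyp.EA_le_A1 (H : Hyp M₁ M₂) (hA : A2 M₁ M₂ ≠ ⊥) (hB : A2 M₂ M₁ ≠ ⊥) : EA M₁ ≤ A1 M₂ M₁ := by
  have hE : EA M₁ ≤ M₂ := H.symm.EA_le' hB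
  have hNA := H.n1 _ hA A2_le A2_n
  have key : ∀ h ∈ M₂, EA M₁ ≤ M₁.map (MulAut.conj h).toMonoidHom := by
    intro h hh
    refine EA_le_of fun T hT hc => ?_
    have hT2 : T ≤ M₂ := (le_EA hT hc).trans hE
    set D := M₂ ⊓ M₁ with hD
    have hTD : T ≤ D := le_inf hT2 hT
    have hcD : IsComponent (T.subgroupOf D) := comp_down hTD inf_le_right hc
    set S := (A2 M₁ M₂).map (MulAut.conj h).toMonoidHom with hS
    have hSB : S ≤ A1 M₂ M₁ := map_conj_A2_le hh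
    have hBn : A1 M₂ M₁ ≤ normalizer (S : Set G) := by
      rw [hS, ← map_conj_normalizer]
      rw [← map_conj_eq_of_mem (A1_n (M₁ := M₂) (M₂ := M₁) hh)]
      exact map_conj_mono h ((A1_le' (M₁ := M₂)).trans A2_n)
    have hs : (S.subgroupOf D).IsSubnormal :=
      sub_trans hSB (sub_norm hBn) (sub_norm (inf_le_left.trans A1_n))
    have hSD : S ≤ D := hSB.trans (cr_le _ _)
    rcases component_le_or_le_centralizer_rel hTD hSD hcD hs with h1 | h1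
    · exact h1.trans (map_conj_mono h A2_le)
    · refine h1.trans ?_
      rw [hS, ← LocBase.map_conj_centralizer]
      exact map_conj_mono h ((centralizer_le_normalizer' _).trans hNA)
  intro x hx
  refine mem_cr.mpr ⟨hE hx, fun m hm => ⟨M₂.mul_mem (M₂.mul_mem hm (hE hx)) (M₂.inv_mem hm), ?_⟩⟩
  have := key m⁻¹ (M₂.inv_mem hm) hx
  rw [mem_map_conj] at this
  simpa using this

theorem Hyp.EA_le_EA (H : Hyp M₁ M₂) (hA : A2 M₁ M₂ ≠ ⊥) (hB : A2 M₂ M₁ ≠ ⊥) : EA M₁ ≤ EA M₂ := by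
  refine EA_le_of fun T hT hc => ?_
  have hTB : T ≤ A1 M₂ M₁ := (le_EA hT hc).trans (H.EA_le_A1 hA hB)
  have h1 : IsComponent (T.subgroupOf (A1 M₂ M₁)) := comp_down hTB A1_le' hc
  have hT2 : T ≤ M₂ := hTB.trans A1_le
  refine le_EA hT2 ⟨sub_trans hTB h1.1 (sub_norm A1_n), ?_⟩
  exact (quasisimple_subgroupOf hT2).mpr ((quasisimple_subgroupOf hTB).mp h1.2)

theorem Hyp.EA_eq_bot (H : Hyp M₁ M₂) (hA : A2 M₁ M₂ ≠ ⊥) (hB : A2 M₂ M₁ ≠ ⊥) : EA M₁ = ⊥ := by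
  by_contra hne
  have h10 : EA M₁ = EA M₂ := Subgroup.eq_of_le_of_card_ge (H.EA_le_EA hA hB) H.cE.ge
  apply H.ne
  apply le_antisymm
  · calc M₁ ≤ _ := le_normalizer_EA M₁
      _ = _ := by rw [h10]
      _ ≤ M₂ := H.n2 _ (h10 ▸ hne) (EA_le M₂) (le_normalizer_EA M₂)
  · calc M₂ ≤ _ := le_normalizer_EA M₂
      _ = _ := by rw [← h10]
      _ ≤ M₁ := H.n1 _ hne (EA_le M₁) (le_normalizer_EA M₁)

/-- `FA A ≤ OA p A` if all other `O_r` vanish. -/
theorem FA_eq_OA {A : Subgroup G} {p : ℕ} [hp : Fact p.Prime] (h : ∀ r : ℕ, r.Prime → r ≠ p → OA r A = ⊥) :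
    FA A = OA p A := by
  apply le_antisymm _ (OA_le_FA A p)
  refine FA_le_of_OA fun r hr => ?_
  rcases eq_or_ne r p with rfl | hne
  · exact le_rfl
  · rw [h r hr hne]; exact bot_le

theorem FS_ne_bot {A : Subgroup G} (h : A ≠ ⊥) : FS A ≠ ⊥ := by
  intro h1
  have h2 := inf_centralizer_FS_le A
  rw [h1] at h2
  have h3 : A ≤ FA A := by
    refine le_trans (le_inf le_rfl ?_) h2
    intro x _
    rw [mem_centralizer_iff]
    intro y hy
    rw [coe_bot, Set.mem_singleton_iff] at hy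
    rw [hy]; simp
  exact h (eq_bot_iff.mpr ((h3.trans (FA_le_FS A)).trans h1.le))

theorem exists_OA_ne_bot {A : Subgroup G} (hE : EA A = ⊥) (h : A ≠ ⊥) : ∃ p : ℕ, p.Prime ∧ OA p A ≠ ⊥ := by
  by_contra hcon
  push Not at hcon
  apply FS_ne_bot h
  rw [FS_eq, hE, bot_sup_eq, eq_bot_iff]
  exact FA_le_of_OA fun r hr => (hcon r hr).le

/-- The Thompson-Wielandt theorem. -/
theorem Hyp.main (H : Hyp M₁ M₂) (hA : A2 M₁ M₂ ≠ ⊥) (hB : A2 M₂ M₁ ≠ ⊥) :
    EA M₁ = ⊥ ∧ ∃ p : ℕ, p.Prime ∧ IsPGroup p ↥(A2 M₁ M₂) ∧ IsPGroup p ↥(A2 M₂ M₁) ∧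
      ∀ r : ℕ, r.Prime → r ≠ p → OA r M₁ = ⊥ := by
  have hE := H.EA_eq_bot hA hB
  refine ⟨hE, ?_⟩
  have hM : M₁ ≠ ⊥ := fun h => hA (eq_bot_iff.mpr (A2_le.trans h.le))
  obtain ⟨p, hp, hne⟩ := exists_OA_ne_bot hE hM
  haveI : Fact p.Prime := ⟨hp⟩
  have h1 : IsPGroup p ↥(A2 M₁ M₂) := by
    by_contra hcon
    exact hne (H.P_step hp hcon).1
  have h2 : IsPGroup p ↥(A2 M₂ M₁) := by
    by_contra hcon
    exact hne (H.symm.P_step hp hcon).2
  refine ⟨p, hp, h1, h2, fun r hr hrp => ?_⟩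
  by_contra hcon
  haveI : Fact r.Prime := ⟨hr⟩
  have h3 : ¬ IsPGroup r ↥(A2 M₁ M₂) := by
    intro h4
    apply hA
    rw [← Subgroup.card_eq_one]
    obtain ⟨a, ha⟩ := IsPGroup.iff_card.mp h1
    obtain ⟨b, hb⟩ := IsPGroup.iff_card.mp h4
    have h5 : Nat.Coprime (p ^ a) (r ^ b) :=
      Nat.Coprime.pow _ _ ((Nat.coprime_primes hp hr).mpr (Ne.symm hrp))
    rw [← ha, ← hb, Nat.coprime_self] at h5
    exact h5
  exact hcon (H.P_step hr h3).1

theorem Hyp.FS_eq_OA (H : Hyp M₁ M₂) (hA : A2 M₁ M₂ ≠ ⊥) (hB : A2 M₂ M₁ ≠ ⊥) :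
    ∃ p : ℕ, p.Prime ∧ IsPGroup p ↥(A2 M₁ M₂ ⊔ A2 M₂ M₁) ∧ FS M₁ = OA p M₁ ∧ FS M₂ = OA p M₂ ∧
      FS (A1 M₁ M₂) = OA p (A1 M₁ M₂) ∧ FS (A1 M₂ M₁) = OA p (A1 M₂ M₁) := by
  obtain ⟨hE, p, hp, h1, h2, hr⟩ := H.main hA hB
  have hE2 : EA M₂ = ⊥ := by
    have := H.cE
    rw [hE, Subgroup.card_bot] at this
    exact Subgroup.card_eq_one.mp this.symm
  have hr2 : ∀ r : ℕ, r.Prime → r ≠ p → OA r M₂ = ⊥ := by
    intro r hr' hrp
    have := H.cO r
    rw [hr r hr' hrp, Subgroup.card_bot] at this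
    exact Subgroup.card_eq_one.mp this.symm
  haveI : Fact p.Prime := ⟨hp⟩
  have aux : ∀ {A B : Subgroup G}, A ≤ B → B ≤ normalizer (A : Set G) → EA B = ⊥ →
      (∀ r : ℕ, r.Prime → r ≠ p → OA r B = ⊥) → FS A = OA p A := by
    intro A B hAB hn hEB hrB
    have h3 : EA A = ⊥ := by
      rw [eq_bot_iff, ← hEB]
      refine EA_le_of fun T hT hc => le_EA (hT.trans hAB) ⟨sub_trans hT hc.1 (sub_norm hn), ?_⟩
      exact (quasisimple_subgroupOf (hT.trans hAB)).mpr ((quasisimple_subgroupOf hT).mp hc.2)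
    rw [FS_eq, h3, bot_sup_eq]
    refine FA_eq_OA fun r hr' hrp => ?_
    rw [eq_bot_iff, ← hrB r hr' hrp]
    haveI : Fact r.Prime := ⟨hr'⟩
    exact le_OA ((OA_le A r).trans hAB) (hn.trans (OA_char r A)) (isPGroup_OA A r)
  refine ⟨p, hp, isPGroup_sup h1 h2 ((A2_le' (M₁ := M₂)).trans A2_n), aux le_rfl le_normalizer hE hr,
    aux le_rfl le_normalizer hE2 hr2, aux A1_le A1_n hE hr, aux A1_le A1_n hE2 hr2⟩

end main

end Cfsg.Agent.Lib.TW62
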