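import Cfsg.Agent.Lib.TW62

/-!
# The Thompson-Wielandt theorem, II: index bounds, permutation groups (helper62)
-/

set_option autoImplicit false
set_option linter.unusedSectionVars false

open Subgroup Cfsg

namespace Cfsg.Agent.Lib.TW62

open Cfsg.Agent.Lib.Components Cfsg.Agent.Lib.Layer Cfsg.Agent.Lib.CompRel
  Cfsg.Agent.Lib.BenderMax Cfsg.Agent.Lib.H22BenderMax Cfsg.Agent.Lib.LocBase
open scoped commutatorElement

section

variable {G : Type*} [Group G] [Finite G]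

theorem card_OA (p : ℕ) (A : Subgroup G) : Nat.card (OA p A) = Nat.card (pCore p ↥A) :=
  (Nat.card_congr ((pCore p ↥A).equivMapOfInjective _ A.subtype_injective).toEquiv).symm

theorem card_EA (A : Subgroup G) : Nat.card (EA A) = Nat.card (layer ↥A) :=
  (Nat.card_congr ((layer ↥A).equivMapOfInjective _ A.subtype_injective).toEquiv).symm

theorem card_OA_of_equiv (p : ℕ) {A B : Subgroup G} (e : A ≃* B) :
    Nat.card (OA p A) = Nat.card (OA p B) := by
  rw [card_OA, card_OA, ← CFCore.pCore_map_equiv e]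
  exact Nat.card_congr ((pCore p ↥A).equivMapOfInjective _ e.injective).toEquiv

theorem card_EA_of_equiv {A B : Subgroup G} (e : A ≃* B) :
    Nat.card (EA A) = Nat.card (EA B) := by
  rw [card_EA, card_EA, ← layer_map_equiv e]
  exact Nat.card_congr ((layer ↥A).equivMapOfInjective _ e.injective).toEquiv

/-- Conjugate subgroups. -/
theorem Hyp.of_conj {M₁ M₂ : Subgroup G} {g : G} (hg : M₂ = M₁.map (MulAut.conj g).toMonoidHom)
    (hne : M₁ ≠ M₂)
    (n1 : ∀ X : Subgroup G, X ≠ ⊥ → X ≤ M₁ → M₁ ≤ normalizer (X : Set G) → normalizer (X : Set G) ≤ M₁) :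
    Hyp M₁ M₂ := by
  have e : M₁ ≃* M₂ := by
    rw [hg]; exact M₁.equivMapOfInjective _ (MulAut.conj g).injective
  refine ⟨n1, ?_, hne, fun p => card_OA_of_equiv p e, card_EA_of_equiv e⟩
  intro X hX hXM hn
  have h0 : M₁ = M₂.map (MulAut.conj g⁻¹).toMonoidHom := by
    rw [hg, ← map_conj_mul, inv_mul_cancel, map_conj_one]
  have h1 := n1 (X.map (MulAut.conj g⁻¹).toMonoidHom) ?_ ?_ ?_
  · rw [← map_conj_normalizer, h0, map_conj_le_map_conj] at h1
    exact h1
  · intro h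
    apply hX
    rwa [Subgroup.map_eq_bot_iff_of_injective _ (MulAut.conj g⁻¹).injective] at h
  · rw [h0]; exact map_conj_mono _ hXM
  · rw [← map_conj_normalizer, h0]
    exact map_conj_mono _ hn

/-- index of the intersection of normal subgroups -/
theorem index_iInf_dvd {H : Type*} [Group H] [Finite H] {ι : Type*} (s : Finset ι) (N : ι → Subgroup H)
    (hN : ∀ i, (N i).Normal) (k : ℕ) (hk : ∀ i, (N i).index ∣ k) :
    (⨅ i ∈ s, N i).index ∣ k ^ s.card := by
  classical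
  induction s using Finset.induction_on with
  | empty => simp
  | insert a s has ih =>
    rw [Finset.iInf_insert, Finset.card_insert_of_notMem has, pow_succ, mul_comm]
    have h1 : ((N a) ⊓ ⨅ i ∈ s, N i).index = (N a).relIndex (⨅ i ∈ s, N i) * (⨅ i ∈ s, N i).index := by
      rw [← Subgroup.relIndex_mul_index (inf_le_right : (N a) ⊓ ⨅ i ∈ s, N i ≤ _), Subgroup.inf_relIndex_right]
    rw [h1]
    have := hN a
    exact mul_dvd_mul ((Subgroup.relIndex_dvd_index_of_normal _ _).trans (hk a)) ih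

/-- index of the core -/
theorem index_normalCore_dvd {H : Type*} [Group H] [Finite H] (K : Subgroup H) :
    K.normalCore.index ∣ Nat.factorial K.index := by
  rw [Subgroup.normalCore_eq_ker, Subgroup.index_ker]
  have h1 := Subgroup.card_subgroup_dvd_card (MulAction.toPermHom H (H ⧸ K)).range
  rwa [Nat.card_perm, ← Subgroup.index_eq_card] at h1

theorem relIndex_cr {M Y : Subgroup G} : (cr M Y).relIndex M = ((Y.subgroupOf M).normalCore).index := by
  unfold cr Subgroup.relIndex Subgroup.subgroupOf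
  rw [Subgroup.comap_map_eq_self_of_injective M.subtype_injective]

variable {M₁ M₂ : Subgroup G}

theorem relIndex_A1 : (A1 M₁ M₂).relIndex M₁ ∣ Nat.factorial ((M₁ ⊓ M₂).relIndex M₁) := by
  unfold A1
  rw [relIndex_cr]
  exact index_normalCore_dvd _

/-- `|D : B₁|` divides `(d-1)!`. -/
theorem relIndex_B1 {d : ℕ} (hd : (M₁ ⊓ M₂).relIndex M₂ = d) :
    (A1 M₂ M₁).relIndex (M₁ ⊓ M₂) ∣ Nat.factorial (d - 1) := by
  have h0 : 0 < d := by
    rw [← hd]; exact Nat.pos_of_ne_zero Subgroup.index_ne_zero_of_finite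
  have h1 : (A1 M₂ M₁).relIndex M₂ ∣ Nat.factorial d := by
    have := relIndex_A1 (M₁ := M₂) (M₂ := M₁)
    rwa [inf_comm, hd] at this
  have h2 : (A1 M₂ M₁).relIndex (M₁ ⊓ M₂) * (M₁ ⊓ M₂).relIndex M₂ = (A1 M₂ M₁).relIndex M₂ :=
    Subgroup.relIndex_mul_relIndex _ _ _ (by rw [inf_comm]; exact cr_le _ _) inf_le_right
  rw [← h2, hd, ← Nat.mul_factorial_pred h0.ne', mul_comm] at h1
  exact Nat.dvd_of_mul_dvd_mul_left h0 h1

theorem relIndex_A2 {d : ℕ} (hd1 : (M₁ ⊓ M₂).relIndex M₁ = d) (hd2 : (M₁ ⊓ M₂).relIndex M₂ = d) :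
    (A2 M₁ M₂).relIndex M₁ ∣ Nat.factorial d * (Nat.factorial (d - 1)) ^ d := by
  classical
  rw [← Subgroup.relIndex_mul_relIndex _ _ _ (A2_le1 (M₁ := M₁) (M₂ := M₂)) A1_le, mul_comm]
  refine mul_dvd_mul (by rw [← hd1]; exact relIndex_A1) ?_
  set ι := M₁ ⧸ (M₁ ⊓ M₂).subgroupOf M₁ with hι
  haveI : Fintype ι := Fintype.ofFinite _
  have hcard : Finset.card (Finset.univ : Finset ι) = d := by
    rw [Finset.card_univ, ← Nat.card_eq_fintype_card, ← hd1]; rfl
  set N : ι → Subgroup (A1 M₁ M₂) := fun c =>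
    ((A1 M₂ M₁).map (MulAut.conj (c.out : G)).toMonoidHom).subgroupOf (A1 M₁ M₂) with hN
  have hA1c : ∀ m ∈ M₁, (A1 M₁ M₂) = (A1 M₁ M₂).map (MulAut.conj m).toMonoidHom := fun m hm =>
    (map_conj_eq_of_mem (A1_n hm)).symm
  have hnorm : ∀ c, (N c).Normal := by
    intro c
    apply normal_subgroupOf_of_le_normalizer
    rw [← map_conj_normalizer, hA1c _ (c.out).2]
    exact map_conj_mono _ ((A1_le' (M₁ := M₁)).trans A1_n)
  have hidx : ∀ c, (N c).index ∣ Nat.factorial (d - 1) := by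
    intro c
    have h1 : (N c).index = (A1 M₂ M₁).relIndex (A1 M₁ M₂) := by
      change ((A1 M₂ M₁).map (MulAut.conj (c.out : G)).toMonoidHom).relIndex (A1 M₁ M₂) = _
      conv_lhs => rw [hA1c _ (c.out).2]
      exact Subgroup.relIndex_map_map_of_injective _ _ (MulAut.conj (c.out : G)).injective
    rw [h1]
    refine dvd_trans ?_ (relIndex_B1 hd2)
    have h2 : ((A1 M₂ M₁).subgroupOf (M₁ ⊓ M₂)).Normal :=
      normal_subgroupOf_of_le_normalizer (inf_le_right.trans A1_n)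
    rw [← Subgroup.relIndex_subgroupOf (show A1 M₁ M₂ ≤ M₁ ⊓ M₂ from cr_le _ _)]
    exact Subgroup.relIndex_dvd_index_of_normal _ _
  have h1 := index_iInf_dvd Finset.univ N hnorm _ hidx
  rw [hcard] at h1
  refine dvd_trans ?_ h1
  apply Subgroup.index_dvd_of_le
  intro x hx
  rw [mem_subgroupOf]
  refine mem_cr.mpr ⟨A1_le x.2, fun m hm => ⟨conj_mem_of_le_normalizer A1_n hm x.2, ?_⟩⟩
  set c : ι := QuotientGroup.mk (⟨m⁻¹, M₁.inv_mem hm⟩ : M₁) with hc
  have h2 : x ∈ N c := by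
    rw [Subgroup.mem_iInf] at hx
    have := hx c
    rw [Subgroup.mem_iInf] at this
    exact this (Finset.mem_univ c)
  obtain ⟨k, hk⟩ := QuotientGroup.mk_out_eq_mul ((M₁ ⊓ M₂).subgroupOf M₁) (⟨m⁻¹, M₁.inv_mem hm⟩ : M₁)
  have hk2 : ((c.out : M₁) : G) = m⁻¹ * ((k : M₁) : G) := congrArg Subtype.val hk
  have hkM : ((k : M₁) : G) ∈ M₂ := k.2.2
  rw [hN] at h2
  simp only [mem_subgroupOf] at h2
  rw [mem_map_conj, hk2] at h2
  have h3 := conj_mem_of_le_normalizer (A1_n (M₁ := M₂) (M₂ := M₁)) hkM h2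
  have h4 : ((k : M₁) : G) * ((m⁻¹ * ((k : M₁) : G))⁻¹ * x * (m⁻¹ * ((k : M₁) : G))) * (((k : M₁) : G))⁻¹ = m * x * m⁻¹ := by
    group
  rwa [h4] at h3

theorem card_dvd_of_bot {d : ℕ} (hd1 : (M₁ ⊓ M₂).relIndex M₁ = d) (hd2 : (M₁ ⊓ M₂).relIndex M₂ = d)
    (h : A2 M₁ M₂ = ⊥) : Nat.card M₁ ∣ Nat.factorial d * (Nat.factorial (d - 1)) ^ d := by
  have := relIndex_A2 hd1 hd2
  rwa [h, Subgroup.relIndex_bot_left] at this

theorem card_dvd_of_bot_or {d : ℕ} (hd1 : (M₁ ⊓ M₂).relIndex M₁ = d) (hd2 : (M₁ ⊓ M₂).relIndex M₂ = d)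
    (hc : Nat.card M₁ = Nat.card M₂)
    (h : A2 M₁ M₂ = ⊥ ∨ A2 M₂ M₁ = ⊥) : Nat.card M₁ ∣ Nat.factorial d * (Nat.factorial (d - 1)) ^ d := by
  rcases h with h | h
  · exact card_dvd_of_bot hd1 hd2 h
  · rw [hc]
    exact card_dvd_of_bot (by rw [inf_comm]; exact hd2) (by rw [inf_comm]; exact hd1) h

/-- Wielandt's bound. -/
theorem Hyp.wielandt (H : Hyp M₁ M₂) {d : ℕ} (hd1 : (M₁ ⊓ M₂).relIndex M₁ = d)
    (hd2 : (M₁ ⊓ M₂).relIndex M₂ = d) (hc : Nat.card M₁ = Nat.card M₂) :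
    ∃ p : ℕ, p.Prime ∧ ∃ P : Subgroup G, P ≤ M₁ ∧ P ≤ M₂ ∧ M₁ ≤ normalizer (P : Set G) ∧ IsPGroup p P ∧
      P.relIndex M₁ ∣ Nat.factorial d * (Nat.factorial (d - 1)) ^ d := by
  by_cases h : ∃ p : ℕ, p.Prime ∧ IsPGroup p ↥(A2 M₁ M₂)
  · obtain ⟨p, hp, h1⟩ := h
    exact ⟨p, hp, A2 M₁ M₂, A2_le, A2_le', A2_n, h1, relIndex_A2 hd1 hd2⟩
  · push Not at h
    have hA : A2 M₁ M₂ ≠ ⊥ := by
      intro h1
      apply h 2 Nat.prime_two
      rw [h1]
      exact IsPGroup.of_bot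
    have hB : A2 M₂ M₁ = ⊥ := by
      by_contra hB
      obtain ⟨-, p, hp, h1, -⟩ := H.main hA hB
      exact h p hp h1
    refine ⟨2, Nat.prime_two, ⊥, bot_le, bot_le, ?_, IsPGroup.of_bot, ?_⟩
    · rw [Subgroup.normalizer_eq_top_iff.mpr (inferInstance : (⊥ : Subgroup G).Normal)]; exact le_top
    · rw [Subgroup.relIndex_bot_left]
      exact card_dvd_of_bot_or hd1 hd2 hc (Or.inr hB)

end

section perm

variable {G Ω : Type*} [Group G] [Finite G] [MulAction G Ω] [FaithfulSMul G Ω]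

theorem stab_subgroupOf (a b : Ω) :
    MulAction.stabilizer (MulAction.stabilizer G a) b =
      (MulAction.stabilizer G b).subgroupOf (MulAction.stabilizer G a) := by
  ext x
  rw [MulAction.mem_stabilizer_iff, mem_subgroupOf, MulAction.mem_stabilizer_iff]
  rfl

theorem relIndex_eq (a b : Ω) {d : ℕ} (hd : Nat.card (MulAction.orbit (MulAction.stabilizer G a) b) = d) :
    (MulAction.stabilizer G a ⊓ MulAction.stabilizer G b).relIndex (MulAction.stabilizer G a) = d := by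
  rw [Subgroup.inf_relIndex_left, ← hd, Nat.card_coe_set_eq, ← MulAction.index_stabilizer,
    stab_subgroupOf]
  rfl

theorem exists_conj (hprim : MulAction.IsPreprimitive G Ω) (a b : Ω) :
    ∃ g : G, g • a = b ∧ MulAction.stabilizer G b = (MulAction.stabilizer G a).map (MulAut.conj g).toMonoidHom := by
  obtain ⟨g, rfl⟩ := MulAction.exists_smul_eq G a b
  exact ⟨g, rfl, MulAction.stabilizer_smul_eq_stabilizer_map_conj g a⟩

theorem card_stab_eq (hprim : MulAction.IsPreprimitive G Ω) (a b : Ω) :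
    Nat.card (MulAction.stabilizer G a) = Nat.card (MulAction.stabilizer G b) := by
  obtain ⟨g, -, h⟩ := exists_conj hprim a b
  rw [h, card_map_conj]

theorem relIndex_eq' (hprim : MulAction.IsPreprimitive G Ω) (a b : Ω) {d : ℕ}
    (hd : Nat.card (MulAction.orbit (MulAction.stabilizer G a) b) = d) :
    (MulAction.stabilizer G a ⊓ MulAction.stabilizer G b).relIndex (MulAction.stabilizer G b) = d := by
  have h1 := relIndex_eq a b hd
  have h2 : Nat.card ↥(MulAction.stabilizer G a ⊓ MulAction.stabilizer G b) * d =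
      Nat.card (MulAction.stabilizer G a) := by
    rw [← h1]; exact GroupUtil.card_mul_relIndex inf_le_left
  have h3 := GroupUtil.card_mul_relIndex
    (inf_le_right : MulAction.stabilizer G a ⊓ MulAction.stabilizer G b ≤ MulAction.stabilizer G b)
  rw [← card_stab_eq hprim a b, ← h2] at h3
  exact Nat.eq_of_mul_eq_mul_left Nat.card_pos h3

theorem normal_eq_bot (hprim : MulAction.IsPreprimitive G Ω) (a : Ω) {X : Subgroup G} (hX : X.Normal)
    (h : X ≤ MulAction.stabilizer G a) : X = ⊥ := by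
  rw [eq_bot_iff]
  intro x hx
  rw [mem_bot]
  apply eq_of_smul_eq_smul (α := Ω)
  intro c
  obtain ⟨g, rfl⟩ := MulAction.exists_smul_eq G a c
  have h1 := h (hX.conj_mem x hx g⁻¹)
  rw [MulAction.mem_stabilizer_iff, mul_smul, mul_smul, inv_inv, inv_smul_eq_iff] at h1
  rw [h1, one_smul]

theorem hyp_of_prim (hprim : MulAction.IsPreprimitive G Ω) (a b : Ω) {d : ℕ}
    (hd : Nat.card (MulAction.orbit (MulAction.stabilizer G a) b) = d) (h2 : 2 ≤ d) :
    Hyp (MulAction.stabilizer G a) (MulAction.stabilizer G b) := by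
  obtain ⟨g, hg, hc⟩ := exists_conj hprim a b
  have hne : MulAction.stabilizer G a ≠ MulAction.stabilizer G b := by
    intro h
    have h1 := relIndex_eq a b hd
    rw [← h, inf_idem, Subgroup.relIndex_self] at h1
    omega
  have hnt : Nontrivial Ω := ⟨a, b, fun h => hne (by rw [h])⟩
  have hmax : IsCoatom (MulAction.stabilizer G a) :=
    MulAction.IsPreprimitive.isCoatom_stabilizer_of_isPreprimitive G a
  refine Hyp.of_conj hc hne fun X hX hXM hn => ?_
  rcases hmax.le_iff.mp hn with h | h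
  · exact absurd (normal_eq_bot hprim a (Subgroup.normalizer_eq_top_iff.mp h) hXM) hX
  · exact h.le

end perm

end Cfsg.Agent.Lib.TW62
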