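import Cfsg.Agent.Lib.TateLift

/-!
# The lifting data `Hom_V(U, M)` (helper78)

`M` a lattice for `G`, `U` a lattice for `T ≤ G` whose restriction to the normal `p'`-subgroup `V`
is absolutely irreducible modulo `p`.  `L = Hom_V(U, M)`.
-/

namespace Cfsg.Agent.Lib.TateData

open Module TensorProduct Cfsg.Agent.Lib.RedMod Cfsg.Agent.Lib.TateLift

variable {R : Type*} [CommRing R] {G : Type*} [Group G]
  {M : Type*} [AddCommGroup M] [Module R M] {U : Type*} [AddCommGroup U] [Module R U]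

/-- conjugation action on `Hom(U, M)` -/
def hom (ρ : Representation R G M) {T : Subgroup G} (r : Representation R T U) (n : T) :
    (U →ₗ[R] M) →ₗ[R] (U →ₗ[R] M) :=
  LinearMap.lcomp R M (r n⁻¹) ∘ₗ LinearMap.llcomp R U M M (ρ n)

theorem hom_apply (ρ : Representation R G M) {T : Subgroup G} (r : Representation R T U) (n : T)
    (w : U →ₗ[R] M) (s : U) : hom ρ r n w s = ρ n (w (r n⁻¹ s)) := rfl

variable {ρ : Representation R G M} {T : Subgroup G} {r : Representation R T U}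

theorem hom_one (w : U →ₗ[R] M) : hom ρ r 1 w = w := by
  ext s
  rw [hom_apply]
  simp

theorem hom_mul (m n : T) (w : U →ₗ[R] M) : hom ρ r (m * n) w = hom ρ r m (hom ρ r n w) := by
  ext s
  rw [hom_apply, hom_apply, hom_apply, mul_inv_rev, Subgroup.coe_mul, map_mul, map_mul]
  rfl

variable (ρ r) in
/-- `Hom_V(U, M)` -/
def homV (V : Subgroup G) (hVT : V ≤ T) : Submodule R (U →ₗ[R] M) where
  carrier := {w | ∀ v, (hv : v ∈ V) → hom ρ r ⟨v, hVT hv⟩ w = w}
  add_mem' := by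
    intro a b ha hb v hv
    rw [map_add, ha v hv, hb v hv]
  zero_mem' := by intro v hv; rw [map_zero]
  smul_mem' := by
    intro c a ha v hv
    rw [map_smul, ha v hv]

variable {V : Subgroup G} {hVT : V ≤ T} [Fintype V]

variable (ρ r hVT) in
/-- averaging, `vi` the inverse of `|V|` -/
noncomputable def proj (vi : R) : (U →ₗ[R] M) →ₗ[R] (U →ₗ[R] M) :=
  vi • ∑ v : V, hom ρ r ⟨v, hVT v.2⟩

theorem proj_mem (vi : R) (w : U →ₗ[R] M) : proj ρ r hVT vi w ∈ homV ρ r V hVT := by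
  intro v hv
  simp only [proj, LinearMap.smul_apply, LinearMap.sum_apply, map_smul, map_sum]
  congr 1
  apply Fintype.sum_equiv (Equiv.mulLeft (⟨v, hv⟩ : V))
  intro v'
  rw [← hom_mul]
  rfl

theorem proj_eq_self {vi : R} (hvi : vi * (Fintype.card V : R) = 1) {w : U →ₗ[R] M}
    (hw : w ∈ homV ρ r V hVT) : proj ρ r hVT vi w = w := by
  simp only [proj, LinearMap.smul_apply, LinearMap.sum_apply]
  have h : ∀ v : V, hom ρ r ⟨v, hVT v.2⟩ w = w := fun v => hw v v.2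
  simp only [h, Finset.sum_const, Finset.card_univ]
  rw [← Nat.cast_smul_eq_nsmul R, smul_smul, hvi, one_smul]

/-- rank one maps -/
theorem hom_smulRight (n : T) (s : U →ₗ[R] R) (m : M) :
    hom ρ r n (s.smulRight m) = (s ∘ₗ r n⁻¹).smulRight (ρ n m) := by
  ext u
  rw [hom_apply]
  simp

variable (hVn : ∀ n ∈ T, ∀ v ∈ V, n * v * n⁻¹ ∈ V)

include hVn in
theorem hom_proj (n : T) (vi : R) (w : U →ₗ[R] M) :
    hom ρ r n (proj ρ r hVT vi w) = proj ρ r hVT vi (hom ρ r n w) := by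
  simp only [proj, LinearMap.smul_apply, LinearMap.sum_apply, map_smul, map_sum]
  congr 1
  let f : V ≃ V :=
    { toFun := fun v => ⟨(n : G) * v * (n : G)⁻¹, hVn n n.2 v v.2⟩
      invFun := fun v => ⟨(n : G)⁻¹ * v * n, by
        have := hVn _ (T.inv_mem n.2) v v.2
        rwa [inv_inv] at this⟩
      left_inv := fun v => Subtype.ext (by simp [mul_assoc])
      right_inv := fun v => Subtype.ext (by simp [mul_assoc]) }
  apply Fintype.sum_equiv f
  intro v
  rw [← hom_mul, ← hom_mul]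
  congr 1
  congr 1
  apply Subtype.ext
  simp [f, mul_assoc]

include hVn in
theorem hom_mem (n : T) {w : U →ₗ[R] M} (hw : w ∈ homV ρ r V hVT) :
    hom ρ r n w ∈ homV ρ r V hVT := by
  intro v hv
  have h1 : (⟨v, hVT hv⟩ : T) * n = n * ⟨(n : G)⁻¹ * v * n, by
      have := hVn _ (T.inv_mem n.2) v hv
      rw [inv_inv] at this
      exact hVT this⟩ := by
    apply Subtype.ext
    simp [mul_assoc]
  rw [← hom_mul, h1, hom_mul]
  congr 1
  apply hw
  have := hVn _ (T.inv_mem n.2) v hv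
  rwa [inv_inv] at this

variable [Module.Free R U] [Module.Finite R U]

/-- evaluation functionals determine elements of `U` -/
theorem ext_dual {x y : U} (h : ∀ s : U →ₗ[R] R, s x = s y) : x = y := by
  let b := Module.Free.chooseBasis R U
  apply b.ext_elem
  intro i
  exact h (b.coord i)

/-- The element of `U` representing a functional of the dual. -/
noncomputable def repEl : ((U →ₗ[R] R) →ₗ[R] R) →ₗ[R] U :=
  (Module.evalEquiv R U).symm.toLinearMap

theorem apply_repEl (F : (U →ₗ[R] R) →ₗ[R] R) (s : U →ₗ[R] R) : s (repEl F) = F s := by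
  have h := LinearEquiv.apply_symm_apply (Module.evalEquiv R U) F
  have h2 := LinearMap.congr_fun h s
  exact h2


variable (ρ r hVT) in
/-- projection onto `L` -/
noncomputable def projL (vi : R) : (U →ₗ[R] M) →ₗ[R] homV ρ r V hVT :=
  LinearMap.codRestrict _ (proj ρ r hVT vi) (fun w => proj_mem vi w)

omit [Module.Free R U] [Module.Finite R U] in
theorem coe_projL (vi : R) (w : U →ₗ[R] M) :
    (projL ρ r hVT vi w : U →ₗ[R] M) = proj ρ r hVT vi w := rfl

variable (ρ r hVT) in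
/-- `E φ : M → U` with `s (E φ m) = f0 φ (proj (s ⊗ m))`. -/
noncomputable def E (f0 vi : R) (φ : homV ρ r V hVT →ₗ[R] R) : M →ₗ[R] U :=
  f0 • (repEl ∘ₗ (LinearMap.llcomp R (U →ₗ[R] R) (U →ₗ[R] M) R (φ ∘ₗ projL ρ r hVT vi) ∘ₗ
    (LinearMap.smulRightₗ (R := R) (M := M) (M₂ := U)).flip))

theorem apply_E (f0 vi : R) (φ : homV ρ r V hVT →ₗ[R] R) (m : M) (s : U →ₗ[R] R) :
    s (E ρ r hVT f0 vi φ m) = f0 * φ (projL ρ r hVT vi (s.smulRight m)) := by
  simp only [E, LinearMap.smul_apply, LinearMap.comp_apply, map_smul, smul_eq_mul, apply_repEl]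
  rfl

variable (V) in
/-- The Schur relation modulo the order of `V`. -/
def Schur (r : Representation R T U) (hVT : V ≤ T) (f0 vi : R) : Prop :=
  ∀ A : U →ₗ[R] U, (f0 * vi) • ∑ v : V, r ⟨v, hVT v.2⟩ ∘ₗ A ∘ₗ r ⟨v, hVT v.2⟩⁻¹ =
    LinearMap.trace R U A • LinearMap.id

theorem E_comp {f0 vi : R} (hS : Schur V r hVT f0 vi) (φ : homV ρ r V hVT →ₗ[R] R)
    (w : homV ρ r V hVT) : E ρ r hVT f0 vi φ ∘ₗ (w : U →ₗ[R] M) = φ w • LinearMap.id := by
  ext x
  apply ext_dual (R := R)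
  intro s
  rw [LinearMap.comp_apply, apply_E]
  have h1 : f0 • projL ρ r hVT vi (s.smulRight ((w : U →ₗ[R] M) x)) = s x • w := by
    apply Subtype.ext
    rw [Submodule.coe_smul, Submodule.coe_smul, coe_projL, proj, LinearMap.smul_apply, smul_smul,
      LinearMap.sum_apply]
    have h2 : ∀ v : V, hom ρ r ⟨v, hVT v.2⟩ (s.smulRight ((w : U →ₗ[R] M) x)) =
        (w : U →ₗ[R] M) ∘ₗ (r ⟨v, hVT v.2⟩ ∘ₗ (s.smulRight x) ∘ₗ r ⟨v, hVT v.2⟩⁻¹) := by
      intro v
      ext y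
      rw [hom_apply]
      have h3 := LinearMap.congr_fun (w.2 v v.2) (r ⟨v, hVT v.2⟩ x)
      rw [hom_apply] at h3
      have h4 : r (⟨v, hVT v.2⟩ : T)⁻¹ (r ⟨v, hVT v.2⟩ x) = x := by
        rw [← Module.End.mul_apply, ← map_mul, inv_mul_cancel, map_one, Module.End.one_apply]
      rw [h4] at h3
      simp only [LinearMap.smulRight_apply, LinearMap.comp_apply, map_smul]
      rw [← h3]
    simp only [h2]
    have h5 : ∑ v : V, (w : U →ₗ[R] M) ∘ₗ
        (r ⟨v, hVT v.2⟩ ∘ₗ (s.smulRight x) ∘ₗ r ⟨v, hVT v.2⟩⁻¹) =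
        (w : U →ₗ[R] M) ∘ₗ ∑ v : V, (r ⟨v, hVT v.2⟩ ∘ₗ (s.smulRight x) ∘ₗ r ⟨v, hVT v.2⟩⁻¹) := by
      ext y
      simp
    rw [h5, ← LinearMap.comp_smul, hS, LinearMap.trace_smulRight]
    ext y
    simp
  have h2 := congrArg φ h1
  rw [map_smul, map_smul, smul_eq_mul, smul_eq_mul] at h2
  rw [h2]
  simp [mul_comm]

/-- the action on `L` -/
noncomputable def sig (hVn : ∀ n ∈ T, ∀ v ∈ V, n * v * n⁻¹ ∈ V) : Representation R T (homV ρ r V hVT) where
  toFun n := (hom ρ r n).restrict (fun _ hw => hom_mem hVn n hw)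
  map_one' := by
    ext w : 2
    exact hom_one _
  map_mul' m n := by
    ext w : 2
    exact hom_mul _ _ _

/-- The lifting data. -/
noncomputable def liftData [Module.Free R M] [Module.Finite R M] {N : Subgroup G}
    (hVN : ∀ n ∈ N, ∀ v ∈ V, n * v * n⁻¹ ∈ V) (hTN : T ≤ N)
    (f0 vi : R) (hvi : vi * (Fintype.card V : R) = 1) (hf0 : (finrank R U : R) = f0)
    (hS : Schur V r hVT f0 vi)
    (hO : ∀ g (hg : g ∈ N), g ∉ T → ∀ A : U →ₗ[R] U,
      ∑ v : V, r ⟨g * v * g⁻¹, hVT (hVN g hg v v.2)⟩ ∘ₗ A ∘ₗ r ⟨v, hVT v.2⟩⁻¹ = 0) :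
    LiftData ρ T N (homV ρ r V hVT) where
  σ := sig (fun n hn => hVN n (hTN hn))
  Θ :=
    { toFun := fun x => projL ρ r hVT vi ∘ₗ (LinearMap.llcomp R U M M x) ∘ₗ
        (homV ρ r V hVT).subtype
      map_add' := fun x y => by ext w s; simp [coe_projL]
      map_smul' := fun c x => by ext w s; simp [coe_projL] }
  θ := LinearMap.mk₂ R (fun φ u => (u : U →ₗ[R] M) ∘ₗ E ρ r hVT f0 vi φ)
    (by
      intro φ ψ u
      have : E ρ r hVT f0 vi (φ + ψ) = E ρ r hVT f0 vi φ + E ρ r hVT f0 vi ψ := by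
        ext m
        apply ext_dual (R := R)
        intro s
        rw [LinearMap.add_apply, map_add, apply_E, apply_E, apply_E, LinearMap.add_apply, mul_add]
      rw [this, LinearMap.comp_add])
    (by
      intro c φ u
      have : E ρ r hVT f0 vi (c • φ) = c • E ρ r hVT f0 vi φ := by
        ext m
        apply ext_dual (R := R)
        intro s
        rw [LinearMap.smul_apply, map_smul, apply_E, apply_E, LinearMap.smul_apply, smul_eq_mul,
          smul_eq_mul]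
        ring
      rw [this, LinearMap.comp_smul])
    (by intro φ u v; rfl)
    (by intro c φ u; rfl)
  f0 := f0
  Θ_one := by
    ext w : 2
    show proj ρ r hVT vi ((1 : Module.End R M) ∘ₗ (w : U →ₗ[R] M)) = w
    exact proj_eq_self hvi w.2
  Θ_mul := by
    intro x y hx hy
    have hmem : ∀ z : Module.End R M, Comm ρ z → ∀ w ∈ homV ρ r V hVT, z ∘ₗ w ∈ homV ρ r V hVT := by
      intro z hz w hw v hv
      have h1 := hw v hv
      ext s
      rw [hom_apply]
      have h2 := LinearMap.congr_fun h1 s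
      rw [hom_apply] at h2
      rw [LinearMap.comp_apply, LinearMap.comp_apply, ← h2, ← Module.End.mul_apply,
        ← Module.End.mul_apply, hz]
    ext w : 2
    show proj ρ r hVT vi ((x * y) ∘ₗ (w : U →ₗ[R] M)) =
      proj ρ r hVT vi (x ∘ₗ (proj ρ r hVT vi (y ∘ₗ (w : U →ₗ[R] M))))
    rw [proj_eq_self hvi (hmem y hy w w.2)]
    rfl
  Θ_conj := by
    intro n x
    ext w : 2
    show proj ρ r hVT vi ((ρ n * x * ρ (n : G)⁻¹) ∘ₗ (w : U →ₗ[R] M)) =
      hom ρ r n (proj ρ r hVT vi (x ∘ₗ (hom ρ r n⁻¹ (w : U →ₗ[R] M))))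
    rw [hom_proj (fun n hn => hVN n (hTN hn))]
    congr 1
    ext s
    rw [hom_apply, LinearMap.comp_apply, LinearMap.comp_apply, hom_apply, inv_inv]
    have h4 : r n (r n⁻¹ s) = s := by
      rw [← Module.End.mul_apply, ← map_mul, mul_inv_cancel, map_one, Module.End.one_apply]
    rw [h4]
    rfl
  Θ_θ := by
    intro φ u w
    apply Subtype.ext
    show proj ρ r hVT vi (((u : U →ₗ[R] M) ∘ₗ E ρ r hVT f0 vi φ) ∘ₗ (w : U →ₗ[R] M)) =
      φ w • (u : U →ₗ[R] M)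
    rw [LinearMap.comp_assoc, E_comp hS, LinearMap.comp_smul, LinearMap.comp_id, map_smul,
      proj_eq_self hvi u.2]
  θ_conj := by
    intro n φ u
    show ρ n ∘ₗ ((u : U →ₗ[R] M) ∘ₗ E ρ r hVT f0 vi φ) ∘ₗ ρ (n : G)⁻¹ =
      (hom ρ r n (u : U →ₗ[R] M)) ∘ₗ E ρ r hVT f0 vi (φ ∘ₗ sig (fun n hn => hVN n (hTN hn)) n⁻¹)
    have h1 : E ρ r hVT f0 vi (φ ∘ₗ sig (fun n hn => hVN n (hTN hn)) n⁻¹) =
        r n ∘ₗ E ρ r hVT f0 vi φ ∘ₗ ρ (n : G)⁻¹ := by
      ext m
      apply ext_dual (R := R)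
      intro s
      rw [apply_E, LinearMap.comp_apply, LinearMap.comp_apply]
      have h2 := apply_E (hVT := hVT) (ρ := ρ) (r := r) f0 vi φ (ρ (n : G)⁻¹ m) (s ∘ₗ r n)
      refine Eq.trans ?_ h2.symm
      congr 2
      apply Subtype.ext
      show hom ρ r n⁻¹ (proj ρ r hVT vi (s.smulRight m)) = proj ρ r hVT vi _
      rw [hom_proj (fun n hn => hVN n (hTN hn)), hom_smulRight, inv_inv]
      rfl
    rw [h1]
    ext m
    simp only [LinearMap.comp_apply, hom_apply]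
    have h4 : ∀ s, r n⁻¹ (r n s) = s := by
      intro s
      rw [← Module.End.mul_apply, ← map_mul, inv_mul_cancel, map_one, Module.End.one_apply]
    rw [h4]
  Θ_other := by
    intro g hg hgT φ u
    ext w : 2
    show proj ρ r hVT vi ((ρ g ∘ₗ ((u : U →ₗ[R] M) ∘ₗ E ρ r hVT f0 vi φ) ∘ₗ ρ g⁻¹) ∘ₗ
      (w : U →ₗ[R] M)) = 0
    have h1 : E ρ r hVT f0 vi φ ∘ₗ ρ g⁻¹ ∘ₗ (w : U →ₗ[R] M) = 0 := by
      ext x
      apply ext_dual (R := R)
      intro s
      rw [LinearMap.comp_apply, LinearMap.comp_apply, apply_E]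
      have h2 : projL ρ r hVT vi (s.smulRight (ρ g⁻¹ ((w : U →ₗ[R] M) x))) = 0 := by
        apply Subtype.ext
        rw [coe_projL, proj, LinearMap.smul_apply, LinearMap.sum_apply]
        have h3 : ∀ v : V, hom ρ r ⟨v, hVT v.2⟩ (s.smulRight (ρ g⁻¹ ((w : U →ₗ[R] M) x))) =
            (ρ g⁻¹ ∘ₗ (w : U →ₗ[R] M)) ∘ₗ (r ⟨g * v * g⁻¹, hVT (hVN g hg v v.2)⟩ ∘ₗ
              (s.smulRight x) ∘ₗ r ⟨v, hVT v.2⟩⁻¹) := by
          intro v
          ext y
          rw [hom_apply]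
          simp only [LinearMap.smulRight_apply, LinearMap.comp_apply, map_smul]
          congr 1
          have h4 := LinearMap.congr_fun (w.2 (g * v * g⁻¹) (hVN g hg v v.2))
            (r ⟨g * v * g⁻¹, hVT (hVN g hg v v.2)⟩ x)
          rw [hom_apply, ← Module.End.mul_apply (r _) (r _), ← map_mul, inv_mul_cancel, map_one,
            Module.End.one_apply] at h4
          rw [← h4, ← Module.End.mul_apply, ← Module.End.mul_apply, ← map_mul, ← map_mul]
          congr 2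
          simp [mul_assoc]
        simp only [h3]
        have h5 : ∑ v : V, (ρ g⁻¹ ∘ₗ (w : U →ₗ[R] M)) ∘ₗ (r ⟨g * v * g⁻¹, hVT (hVN g hg v v.2)⟩ ∘ₗ
              (s.smulRight x) ∘ₗ r ⟨v, hVT v.2⟩⁻¹) =
            (ρ g⁻¹ ∘ₗ (w : U →ₗ[R] M)) ∘ₗ ∑ v : V, (r ⟨g * v * g⁻¹, hVT (hVN g hg v v.2)⟩ ∘ₗ
              (s.smulRight x) ∘ₗ r ⟨v, hVT v.2⟩⁻¹) := by
          ext y
          simp
        rw [h5, hO g hg hgT, LinearMap.comp_zero, smul_zero]
        rfl
      rw [h2, map_zero, mul_zero, LinearMap.zero_apply, map_zero]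
    have h2 : (ρ g ∘ₗ ((u : U →ₗ[R] M) ∘ₗ E ρ r hVT f0 vi φ) ∘ₗ ρ g⁻¹) ∘ₗ (w : U →ₗ[R] M) =
      (ρ g ∘ₗ (u : U →ₗ[R] M)) ∘ₗ (E ρ r hVT f0 vi φ ∘ₗ ρ g⁻¹ ∘ₗ (w : U →ₗ[R] M)) := rfl
    rw [h2, h1, LinearMap.comp_zero, map_zero]
  trace_θ := by
    intro φ u x hx
    show LinearMap.trace R M (((u : U →ₗ[R] M) ∘ₗ E ρ r hVT f0 vi φ) ∘ₗ x) =
      f0 * φ (projL ρ r hVT vi (x ∘ₗ (u : U →ₗ[R] M)))
    have hmem : x ∘ₗ (u : U →ₗ[R] M) ∈ homV ρ r V hVT := by
      intro v hv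
      have h1 := u.2 v hv
      ext s
      rw [hom_apply]
      have h2 := LinearMap.congr_fun h1 s
      rw [hom_apply] at h2
      rw [LinearMap.comp_apply, LinearMap.comp_apply, ← h2, ← Module.End.mul_apply,
        ← Module.End.mul_apply, hx]
    have h1 : projL ρ r hVT vi (x ∘ₗ (u : U →ₗ[R] M)) = ⟨_, hmem⟩ :=
      Subtype.ext (proj_eq_self hvi hmem)
    have h2 := E_comp hS φ ⟨_, hmem⟩
    rw [h1, LinearMap.comp_assoc, LinearMap.trace_comp_comm', LinearMap.comp_assoc, h2,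
      map_smul, LinearMap.trace_id, hf0, smul_eq_mul, mul_comm]

end Cfsg.Agent.Lib.TateData
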