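import Cfsg.Agent.Lib.TateLift

/-!
# The lattice of translates of a class function (helper78)
-/

namespace Cfsg.Agent.Lib.TransLat

open Module Cfsg.Agent.Lib.TateLift

variable {R : Type*} [CommRing R] {G : Type*} [Group G]

/-- The span of the translates `g ↦ Ξ (h g)`. -/
def lat (Ξ : G → R) : Submodule R (G → R) := Submodule.span R (Set.range fun h g => Ξ (h * g))

variable {Ξ : G → R}

/-- generator -/
def gen (Ξ : G → R) (h : G) : lat Ξ := ⟨fun g => Ξ (h * g), Submodule.subset_span ⟨h, rfl⟩⟩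

/-- right translation of functions -/
def trans (k : G) : (G → R) →ₗ[R] (G → R) where
  toFun f := fun g => f (g * k)
  map_add' _ _ := rfl
  map_smul' _ _ := rfl

variable (hΞ : ∀ g h, Ξ (g * h) = Ξ (h * g))

include hΞ in
theorem trans_mem (k : G) {f : G → R} (hf : f ∈ lat Ξ) : trans k f ∈ lat Ξ := by
  induction hf using Submodule.span_induction with
  | mem x hx =>
    obtain ⟨h, rfl⟩ := hx
    have h1 : trans (R := R) k (fun g => Ξ (h * g)) = fun g => Ξ (k * h * g) := by
      funext g
      show Ξ (h * (g * k)) = _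
      rw [← mul_assoc, hΞ, ← mul_assoc]
    rw [h1]
    exact Submodule.subset_span ⟨k * h, rfl⟩
  | zero => rw [map_zero]; exact Submodule.zero_mem _
  | add x y _ _ hx hy => rw [map_add]; exact Submodule.add_mem _ hx hy
  | smul c x _ hx => rw [map_smul]; exact Submodule.smul_mem _ _ hx

/-- left action on the lattice -/
def rep (hΞ : ∀ g h, Ξ (g * h) = Ξ (h * g)) : Representation R G (lat Ξ) where
  toFun k := (trans k).restrict (fun _ hf => trans_mem hΞ k hf)
  map_one' := by
    ext f g
    show (f : G → R) (g * 1) = (f : G → R) g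
    rw [mul_one]
  map_mul' a b := by
    ext f g
    show (f : G → R) (g * (a * b)) = (f : G → R) (g * a * b)
    rw [mul_assoc]

theorem rep_apply (k : G) (f : lat Ξ) (g : G) : (rep hΞ k f : G → R) g = (f : G → R) (g * k) := rfl

theorem rep_gen (k h : G) : rep hΞ k (gen Ξ h) = gen Ξ (k * h) := by
  apply Subtype.ext
  funext g
  show Ξ (h * (g * k)) = Ξ (k * h * g)
  rw [← mul_assoc, hΞ, ← mul_assoc]

theorem gen_induction {p : lat Ξ → Prop} (hg : ∀ h, p (gen Ξ h)) (h0 : p 0)
    (ha : ∀ x y, p x → p y → p (x + y)) (hs : ∀ (c : R) x, p x → p (c • x)) (x : lat Ξ) : p x := by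
  obtain ⟨x, hx⟩ := x
  induction hx using Submodule.span_induction with
  | mem y hy => obtain ⟨h, rfl⟩ := hy; exact hg h
  | zero => exact h0
  | add x y hx hy ihx ihy => exact ha _ _ ihx ihy
  | smul c x hx ih => exact hs c _ ih

/-- the functional `x ↦ (x Ξ)(1)` -/
def tau (Ξ : G → R) : Module.End R (lat Ξ) →ₗ[R] R where
  toFun x := ((x (gen Ξ 1) : lat Ξ) : G → R) 1
  map_add' _ _ := rfl
  map_smul' _ _ := rfl

variable [Fintype G]

/-- The reproducing property -/
def Repr (n : R) (Ξ : G → R) : Prop :=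
  ∀ b h, n * ∑ g, Ξ (b * g) * Ξ (g⁻¹ * h) = (Fintype.card G : R) * Ξ (b * h)

theorem sum_smul_gen {n : R} (hR : Repr n Ξ) (v : lat Ξ) :
    n • ∑ g : G, (v : G → R) g • gen Ξ g⁻¹ = (Fintype.card G : R) • v := by
  induction v using gen_induction with
  | hg b =>
    apply Subtype.ext
    funext h
    have := hR b h
    simp only [Submodule.coe_smul, Submodule.coe_sum, Pi.smul_apply, Finset.sum_apply, smul_eq_mul]
    exact this
  | h0 => simp
  | ha x y hx hy =>
    simp only [Submodule.coe_add, Pi.add_apply, add_smul, Finset.sum_add_distrib, smul_add, hx, hy]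
  | hs c x hx =>
    simp only [Submodule.coe_smul, Pi.smul_apply, smul_assoc, ← Finset.smul_sum]
    rw [smul_comm, hx, smul_comm]

section free

variable [IsDomain R] [IsPrincipalIdealRing R]

instance : Module.Free R (lat Ξ) := inferInstance
instance : Module.Finite R (lat Ξ) := inferInstance

/-- The trace formula. -/
theorem trace_formula {n : R} (hR : Repr n Ξ) (z : Module.End R (lat Ξ)) :
    n * tau Ξ (∑ g, rep hΞ g * z * rep hΞ g⁻¹) =
      (Fintype.card G : R) * LinearMap.trace R (lat Ξ) z := by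
  classical
  let b := Module.Free.chooseBasis R (lat Ξ)
  have h1 : tau Ξ (∑ g, rep hΞ g * z * rep hΞ g⁻¹) =
      ∑ g, ((z (gen Ξ g⁻¹) : lat Ξ) : G → R) g := by
    rw [map_sum]
    refine Finset.sum_congr rfl fun g _ => ?_
    show ((rep hΞ g (z (rep hΞ g⁻¹ (gen Ξ 1))) : lat Ξ) : G → R) 1 = _
    rw [rep_gen, mul_one, rep_apply, one_mul]
  have h2 : ∀ g, ((z (gen Ξ g⁻¹) : lat Ξ) : G → R) g =
      ∑ i, b.repr (gen Ξ g⁻¹) i * ((z (b i) : lat Ξ) : G → R) g := by
    intro g
    conv_lhs => rw [← b.sum_repr (gen Ξ g⁻¹)]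
    rw [map_sum]
    simp only [map_smul, Submodule.coe_sum, Finset.sum_apply, Submodule.coe_smul, Pi.smul_apply,
      smul_eq_mul]
  rw [h1]
  simp only [h2]
  rw [Finset.sum_comm, Finset.mul_sum, LinearMap.trace_eq_matrix_trace R b, Matrix.trace,
    Finset.mul_sum]
  refine Finset.sum_congr rfl fun i _ => ?_
  have h3 := congrArg (fun v => b.repr v i) (sum_smul_gen hR (z (b i)))
  simp only [map_smul, map_sum, Finsupp.smul_apply, Finsupp.coe_finset_sum, Finset.sum_apply,
    smul_eq_mul] at h3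
  rw [Matrix.diag_apply, LinearMap.toMatrix_apply]
  rw [← h3]
  congr 1
  refine Finset.sum_congr rfl fun g _ => ?_
  ring

theorem trace_rep [CharZero R] {n : R} (hR : Repr n Ξ) (h : G) :
    LinearMap.trace R (lat Ξ) (rep hΞ h) = n * Ξ h := by
  have h1 := trace_formula hΞ hR (rep hΞ h)
  have h2 : tau Ξ (∑ g, rep hΞ g * rep hΞ h * rep hΞ g⁻¹) = (Fintype.card G : R) * Ξ h := by
    rw [map_sum]
    have h3 : ∀ g, tau Ξ (rep hΞ g * rep hΞ h * rep hΞ g⁻¹) = Ξ h := by
      intro g
      rw [← map_mul, ← map_mul]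
      show ((rep hΞ (g * h * g⁻¹) (gen Ξ 1) : lat Ξ) : G → R) 1 = _
      rw [rep_gen, mul_one]
      show Ξ (g * h * g⁻¹ * 1) = _
      rw [mul_one, mul_assoc, hΞ, mul_assoc, inv_mul_cancel, mul_one]
    simp only [h3, Finset.sum_const, Finset.card_univ, nsmul_eq_mul]
  rw [h2] at h1
  have hG : (Fintype.card G : R) ≠ 0 := by rw [Nat.cast_ne_zero]; exact Fintype.card_pos.ne'
  apply mul_left_cancel₀ hG
  rw [← h1]; ring

end free

omit [Fintype G] in
/-- Endomorphisms of the lattice are matrices. -/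
theorem exists_matrix {K' : Type*} [Field K'] [Algebra R K'] {n : ℕ}
    (r1 : G →* Matrix (Fin n) (Fin n) K') {t' : K'}
    (hr : ∀ g, algebraMap R K' (Ξ g) = t' * (r1 g).trace)
    (x : Module.End R (lat Ξ)) (hx : Comm (rep hΞ) x) :
    ∃ X : Matrix (Fin n) (Fin n) K', ∀ l, algebraMap R K' (tau Ξ (x ^ l)) = t' * (X ^ l).trace := by
  let S : Submodule R (lat Ξ × Matrix (Fin n) (Fin n) K') :=
    Submodule.span R (Set.range fun k => (gen Ξ k, r1 k))
  have h1 : ∀ v : lat Ξ, ∃ A, (v, A) ∈ S := by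
    intro v
    induction v using gen_induction with
    | hg h => exact ⟨r1 h, Submodule.subset_span ⟨h, rfl⟩⟩
    | h0 => exact ⟨0, S.zero_mem⟩
    | ha x y hx hy =>
      obtain ⟨A, hA⟩ := hx
      obtain ⟨B, hB⟩ := hy
      exact ⟨A + B, S.add_mem hA hB⟩
    | hs c x hx =>
      obtain ⟨A, hA⟩ := hx
      exact ⟨c • A, S.smul_mem c hA⟩
  have h2 : ∀ (k : G) (q : lat Ξ × Matrix (Fin n) (Fin n) K'), q ∈ S →
      (rep hΞ k q.1, r1 k * q.2) ∈ S := by
    intro k q hq
    induction hq using Submodule.span_induction with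
    | mem y hy =>
      obtain ⟨h, rfl⟩ := hy
      refine Submodule.subset_span ⟨k * h, ?_⟩
      simp only [rep_gen, map_mul]
    | zero =>
      have : ((rep hΞ k) (0 : lat Ξ × Matrix (Fin n) (Fin n) K').1,
        r1 k * (0 : lat Ξ × Matrix (Fin n) (Fin n) K').2) = 0 := by simp
      rw [this]; exact S.zero_mem
    | add a b _ _ ha hb =>
      have := S.add_mem ha hb
      rw [Prod.mk_add_mk, ← map_add, ← mul_add] at this
      exact this
    | smul c a _ ha =>
      have := S.smul_mem c ha
      rw [Prod.smul_mk, ← map_smul, ← mul_smul_comm] at this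
      exact this
  obtain ⟨X, hX⟩ := h1 (x (gen Ξ 1))
  have h3 : ∀ (q : lat Ξ × Matrix (Fin n) (Fin n) K'), q ∈ S → (x q.1, q.2 * X) ∈ S := by
    intro q hq
    induction hq using Submodule.span_induction with
    | mem y hy =>
      obtain ⟨k, rfl⟩ := hy
      have h4 : x (gen Ξ k) = rep hΞ k (x (gen Ξ 1)) := by
        have h5 := LinearMap.congr_fun (hx k) (gen Ξ 1)
        rw [Module.End.mul_apply, Module.End.mul_apply, rep_gen, mul_one] at h5
        exact h5.symm
      simp only [h4]
      exact h2 k _ hX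
    | zero =>
      have : (x (0 : lat Ξ × Matrix (Fin n) (Fin n) K').1,
        (0 : lat Ξ × Matrix (Fin n) (Fin n) K').2 * X) = 0 := by simp
      rw [this]; exact S.zero_mem
    | add a b _ _ ha hb =>
      have := S.add_mem ha hb
      rw [Prod.mk_add_mk, ← map_add, ← add_mul] at this
      exact this
    | smul c a _ ha =>
      have := S.smul_mem c ha
      rw [Prod.smul_mk, ← map_smul, ← smul_mul_assoc] at this
      exact this
  have h4 : ∀ (q : lat Ξ × Matrix (Fin n) (Fin n) K'), q ∈ S → ∀ h : G,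
      algebraMap R K' ((q.1 : G → R) h) = t' * (q.2 * r1 h).trace := by
    intro q hq
    induction hq using Submodule.span_induction with
    | mem y hy =>
      obtain ⟨k, rfl⟩ := hy
      intro h
      rw [← map_mul, ← hr]; rfl
    | zero => intro h; simp
    | add a b _ _ ha hb =>
      intro h
      rw [Prod.fst_add, Prod.snd_add, Submodule.coe_add, Pi.add_apply, map_add, ha, hb, add_mul,
        Matrix.trace_add, mul_add]
    | smul c a _ ha =>
      intro h
      rw [Prod.smul_fst, Prod.smul_snd, Submodule.coe_smul, Pi.smul_apply, smul_eq_mul, map_mul, ha,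
        smul_mul_assoc, Matrix.trace_smul, Algebra.smul_def]
      ring
  refine ⟨X, fun l => ?_⟩
  have h5 : ∀ l : ℕ, ((x ^ l) (gen Ξ 1), X ^ l) ∈ S := by
    intro l
    induction l with
    | zero =>
      rw [pow_zero, pow_zero]
      refine Submodule.subset_span ⟨1, ?_⟩
      show (gen Ξ 1, r1 1) = (gen Ξ 1, 1)
      rw [map_one]
    | succ l ih =>
      have := h3 _ ih
      rw [pow_succ', pow_succ]
      exact this
  have h6 := h4 _ (h5 l) 1
  rw [map_one, mul_one] at h6
  exact h6

end Cfsg.Agent.Lib.TransLat
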