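import Cfsg.Agent.Lib.TateCases
import Cfsg.Agent.Lib.TateData
import Cfsg.Agent.Lib.TransLat

/-!
# The bound (helper78)
-/

namespace Cfsg.Agent.Lib.TateBound

open Module TensorProduct Cfsg.Agent.Lib.RedMod Cfsg.Agent.Lib.TateLift Cfsg.Agent.Lib.TateCases
  Cfsg.Agent.Lib.TateData Cfsg.Agent.Lib.TransLat

section red

variable {R : Type*} [CommRing R] {k : Type*} [Field k] [Algebra R k]
  {L : Type*} [AddCommGroup L] [Module R L]

theorem redSub_range (hs : Function.Surjective (algebraMap R k)) (f : L →ₗ[R] L) :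
    redSub R k (LinearMap.range f) = LinearMap.range (f.baseChange k) := by
  ext v
  rw [mem_redSub hs]
  constructor
  · rintro ⟨_, ⟨w, rfl⟩, rfl⟩
    exact ⟨red R k w, rfl⟩
  · rintro ⟨x, rfl⟩
    obtain ⟨w, rfl⟩ := red_surjective hs x
    exact ⟨f w, ⟨w, rfl⟩, rfl⟩

theorem sum_eq_sum_pow {D A : Type*} [Group D] [Fintype D] [AddCommMonoid A] {p : ℕ}
    (hD : Fintype.card D = p) (y : D) (hy : ∀ d : D, ∃ i : ℕ, d = y ^ i) (F : D → A) :
    ∑ d, F d = ∑ i ∈ Finset.range p, F (y ^ i) := by
  classical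
  have ho : orderOf y = p := by
    rw [← hD, ← Nat.card_eq_fintype_card]
    apply orderOf_eq_card_of_forall_mem_zpowers
    intro d
    obtain ⟨i, rfl⟩ := hy d
    exact Subgroup.npow_mem_zpowers y i
  have h1 : Set.InjOn (fun i => y ^ i) (Finset.range p : Set ℕ) := by
    rw [← ho]
    intro i hi j hj hij
    exact pow_injOn_Iio_orderOf (by simpa using hi) (by simpa using hj) hij
  rw [← Finset.sum_image (f := F) (g := fun i => y ^ i) (s := Finset.range p) h1]
  apply Finset.sum_congr _ (fun _ _ => rfl)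
  ext d
  simp only [Finset.mem_univ, Finset.mem_image, Finset.mem_range, true_iff]
  obtain ⟨i, rfl⟩ := hy d
  refine ⟨i % p, Nat.mod_lt _ (by rw [← hD]; exact Fintype.card_pos), ?_⟩
  rw [← ho, pow_mod_orderOf]

/-- Dimension counts for a lattice with an operator `Y` of order `p`. -/
theorem counts [IsDomain R] [Module.Free R L] [Module.Finite R L] {p : ℕ} [Fact p.Prime]
    [CharP k p] (hs : Function.Surjective (algebraMap R k)) (Y : Module.End R L) (hY : Y ^ p = 1) :
    p * finrank k (redSub R k (LinearMap.range (∑ i ∈ Finset.range p, Y ^ i))) ≤ finrank R L ∧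
    p * finrank k (redSub R k (LinearMap.range (Y - 1))) ≤ (p - 1) * finrank R L := by
  let Yb : Module.End k (k ⊗[R] L) := Y.baseChange k
  have hYb : Yb ^ p = 1 := by
    have h1 : ∀ i : ℕ, Yb ^ i = (Y ^ i).baseChange k := fun i => (LinearMap.baseChange_pow (R := R) (A := k) (M := L) Y i).symm
    rw [h1, hY]
    exact LinearMap.baseChange_one R L
  have hν := NilOp.pow_eq_zero_of_pow_eq_one (k := k) Yb hYb
  have h1 : (∑ i ∈ Finset.range p, Y ^ i).baseChange k = (Yb - 1) ^ (p - 1) := by
    rw [← NilOp.sum_pow_eq (k := k) Yb]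
    have h2 : ∀ s : Finset ℕ, (∑ i ∈ s, Y ^ i).baseChange k = ∑ i ∈ s, Yb ^ i := by
      intro s
      classical
      induction s using Finset.induction_on with
      | empty => simp
      | insert a s ha ih =>
        rw [Finset.sum_insert ha, Finset.sum_insert ha, LinearMap.baseChange_add, ih]
        congr 1
        exact LinearMap.baseChange_pow (R := R) (A := k) (M := L) Y a
    exact h2 _
  have h2 : (Y - 1).baseChange k = Yb - 1 := by
    rw [LinearMap.baseChange_sub, LinearMap.baseChange_one R L]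
  have h3 := NilOp.mul_finrank_range_pow_pred_le (Yb - 1) hν
  have h4 := NilOp.mul_finrank_range_le (Yb - 1) hν
  have h5 : finrank k (k ⊗[R] L) = finrank R L := finrank_red
  constructor
  · rw [redSub_range hs, h1, ← h5]
    exact h3
  · rw [redSub_range hs, h2, ← h5]
    exact h4

end red

section ranks

variable {R : Type*} [CommRing R] [IsDomain R] [IsPrincipalIdealRing R] {G : Type*} [Group G]
  {M : Type*} [AddCommGroup M] [Module R M] [Module.Free R M] [Module.Finite R M]
  {U : Type*} [AddCommGroup U] [Module R U] [Module.Free R U] [Module.Finite R U]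
  {ρ : Representation R G M} {T : Subgroup G} {r : Representation R T U}
  {V : Subgroup G} {hVT : V ≤ T} [Fintype V]

omit [IsDomain R] [IsPrincipalIdealRing R] in
theorem trace_hom (n : T) :
    LinearMap.trace R (U →ₗ[R] M) (hom ρ r n) =
      LinearMap.trace R M (ρ n) * LinearMap.trace R U (r n⁻¹) := by
  have h1 : (dualTensorHomEquiv R U M).conj (TensorProduct.map (Module.Dual.transpose (r n⁻¹)) (ρ n)) =
      hom ρ r n := by
    rw [LinearEquiv.conj_apply]
    apply LinearMap.ext
    intro w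
    obtain ⟨x, rfl⟩ := (dualTensorHomEquiv R U M).surjective w
    rw [LinearMap.comp_apply, LinearMap.comp_apply, LinearEquiv.coe_coe, LinearEquiv.coe_coe,
      LinearEquiv.symm_apply_apply]
    induction x using TensorProduct.induction_on with
    | zero => simp
    | tmul s m =>
      rw [TensorProduct.map_tmul]
      ext u
      rw [hom_apply]
      simp [dualTensorHomEquiv, dualTensorHom_apply, Module.Dual.transpose_apply]
    | add x y hx hy => simp only [map_add, hx, hy]
  have h2 := LinearMap.trace_conj' (R := R) (M := Module.Dual R U ⊗[R] M) (N := U →ₗ[R] M)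
    (TensorProduct.map (Module.Dual.transpose (r n⁻¹)) (ρ n)) (dualTensorHomEquiv R U M)
  have h3 := LinearMap.trace_tensorProduct' (R := R) (Module.Dual.transpose (r n⁻¹)) (ρ n)
  rw [← h1]
  refine h2.trans (h3.trans ?_)
  rw [LinearMap.trace_transpose', mul_comm]

/-- Trace of the action of `n` on `L`. -/
theorem trace_sig {hVn : ∀ n ∈ T, ∀ v ∈ V, n * v * n⁻¹ ∈ V} {vi : R}
    (hvi : vi * (Fintype.card V : R) = 1) (n : T) :
    LinearMap.trace R (homV ρ r V hVT) (sig hVn n) =
      vi * ∑ v : V, LinearMap.trace R M (ρ (n * v)) *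
        LinearMap.trace R U (r (n * ⟨v, hVT v.2⟩)⁻¹) := by
  have h1 : (sig (hVT := hVT) hVn n : Module.End R (homV ρ r V hVT)) =
      projL ρ r hVT vi ∘ₗ (hom ρ r n ∘ₗ (homV ρ r V hVT).subtype) := by
    ext w : 2
    show hom ρ r n (w : U →ₗ[R] M) = proj ρ r hVT vi (hom ρ r n (w : U →ₗ[R] M))
    rw [proj_eq_self hvi (hom_mem hVn n w.2)]
  rw [h1, LinearMap.trace_comp_comm', LinearMap.comp_assoc]
  have h2 : (homV ρ r V hVT).subtype ∘ₗ projL ρ r hVT vi = proj ρ r hVT vi := by
    ext w : 1; rfl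
  rw [h2, proj, LinearMap.comp_smul, map_smul, smul_eq_mul]
  congr 1
  have h3 : hom ρ r n ∘ₗ (∑ v : V, hom ρ r ⟨v, hVT v.2⟩) = ∑ v : V, hom ρ r (n * ⟨v, hVT v.2⟩) := by
    apply LinearMap.ext
    intro w
    rw [LinearMap.comp_apply, LinearMap.sum_apply, LinearMap.sum_apply, map_sum]
    exact Finset.sum_congr rfl fun v _ => (hom_mul _ _ _).symm
  rw [h3, map_sum]
  refine Finset.sum_congr rfl fun v _ => ?_
  rw [trace_hom]
  rfl

theorem finrank_homV [CharZero R] {hVn : ∀ n ∈ T, ∀ v ∈ V, n * v * n⁻¹ ∈ V} {vi : R}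
    (hvi : vi * (Fintype.card V : R) = 1) :
    (finrank R (homV ρ r V hVT) : R) = vi * ∑ v : V, LinearMap.trace R M (ρ v) *
        LinearMap.trace R U (r (⟨v, hVT v.2⟩ : T)⁻¹) := by
  have h1 := trace_sig (ρ := ρ) (r := r) (hVT := hVT) (hVn := hVn) hvi 1
  rw [map_one, LinearMap.trace_one] at h1
  rw [h1]
  simp only [one_mul, Subgroup.coe_one]

/-- Trace of a quasi-idempotent. -/
theorem trace_of_sq {L : Type*} [AddCommGroup L] [Module R L] [Module.Free R L] [Module.Finite R L]
    (f : Module.End R L) (S : Submodule R L) (hf : ∀ w, f w ∈ S) {c : R} (hS : ∀ w ∈ S, f w = c • w) :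
    LinearMap.trace R L f = c * finrank R S := by
  let f1 : L →ₗ[R] S := LinearMap.codRestrict S f hf
  have h1 : f = S.subtype ∘ₗ f1 := rfl
  rw [h1, LinearMap.trace_comp_comm']
  have h2 : f1 ∘ₗ S.subtype = c • LinearMap.id := by
    ext w
    exact hS w w.2
  rw [h2, map_smul, LinearMap.trace_id, smul_eq_mul]

end ranks

end Cfsg.Agent.Lib.TateBound
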