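import Cfsg.Agent.Lib.TateLift

/-!
# The two Tate groups (helper78)

`L^D / Tr L` and `ker Tr / (y - 1) L`.
-/

namespace Cfsg.Agent.Lib.TateCases

open Module TensorProduct Cfsg.Agent.Lib.RedMod Cfsg.Agent.Lib.TateLift

variable {R : Type*} [CommRing R] [IsDomain R] {G : Type*} [Group G]
  {M : Type*} [AddCommGroup M] [Module R M] {L : Type*} [AddCommGroup L] [Module R L]
  {ρ : Representation R G M} {T N C D : Subgroup G} [Fintype D]
  (ld : LiftData ρ T N L) (hDT : D ≤ T)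

theorem exists_div {ϖ : R} (hϖ : ϖ ≠ 0) (g : L →ₗ[R] R) (hg : ∀ w, ϖ ∣ g w) :
    ∃ f : L →ₗ[R] R, ∀ w, ϖ * f w = g w := by
  choose f hf using hg
  refine ⟨{ toFun := f, map_add' := ?_, map_smul' := ?_ }, fun w => (hf w).symm⟩
  · intro x y
    apply mul_left_cancel₀ hϖ
    rw [← hf, map_add, hf x, hf y, mul_add]
  · intro c x
    apply mul_left_cancel₀ hϖ
    rw [← hf, map_smul, hf x, RingHom.id_apply, smul_eq_mul, smul_eq_mul]
    ring

/-- the trace -/
noncomputable def TD : Module.End R L := ∑ d : D, ld.σ ⟨d, hDT d.2⟩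

variable {ld hDT}

omit [IsDomain R] in
theorem TD_apply (w : L) : TD ld hDT w = ∑ d : D, ld.σ ⟨d, hDT d.2⟩ w := by
  rw [TD, LinearMap.sum_apply]

omit [IsDomain R] in
theorem TD_sig (d : D) (w : L) : TD ld hDT (ld.σ ⟨d, hDT d.2⟩ w) = TD ld hDT w := by
  rw [TD_apply, TD_apply]
  apply Fintype.sum_equiv (Equiv.mulRight d)
  intro d'
  rw [← Module.End.mul_apply, ← map_mul]
  rfl

omit [IsDomain R] in
theorem sig_TD (d : D) (w : L) : ld.σ ⟨d, hDT d.2⟩ (TD ld hDT w) = TD ld hDT w := by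
  rw [TD_apply, map_sum]
  apply Fintype.sum_equiv (Equiv.mulLeft d)
  intro d'
  rw [← Module.End.mul_apply, ← map_mul]
  rfl

omit [IsDomain R] in
theorem sig_TD_n (hn : ∀ n ∈ T, ∀ d ∈ D, n * d * n⁻¹ ∈ D) (n : T) (w : L) :
    ld.σ n (TD ld hDT w) = TD ld hDT (ld.σ n w) := by
  rw [TD_apply, TD_apply, map_sum]
  let f : D ≃ D :=
    { toFun := fun v => ⟨(n : G) * v * (n : G)⁻¹, hn n n.2 v v.2⟩
      invFun := fun v => ⟨(n : G)⁻¹ * v * n, by
        have := hn _ (T.inv_mem n.2) v v.2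
        rwa [inv_inv] at this⟩
      left_inv := fun v => Subtype.ext (by simp [mul_assoc])
      right_inv := fun v => Subtype.ext (by simp [mul_assoc]) }
  apply Fintype.sum_equiv f
  intro d
  rw [← Module.End.mul_apply, ← Module.End.mul_apply, ← map_mul, ← map_mul]
  congr 2
  apply Subtype.ext
  simp [f, mul_assoc]

omit [IsDomain R] [Fintype D] in
theorem Θ_sig {x : Module.End R M} (hx : Comm ρ x) (n : T) (w : L) :
    ld.Θ x (ld.σ n w) = ld.σ n (ld.Θ x w) := by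
  have h1 := ld.Θ_conj n x
  have h2 : ρ n * x * ρ (n : G)⁻¹ = x := by
    rw [hx, mul_assoc, ← map_mul, mul_inv_cancel, map_one, mul_one]
  rw [h2] at h1
  conv_lhs => rw [h1]
  rw [Module.End.mul_apply, Module.End.mul_apply, ← Module.End.mul_apply (ld.σ n⁻¹), ← map_mul,
    inv_mul_cancel, map_one, Module.End.one_apply]

omit [IsDomain R] in
theorem sig_inv_sum (w : L) : ∑ d : D, ld.σ ⟨d, hDT d.2⟩⁻¹ w = TD ld hDT w := by
  rw [TD_apply]
  apply Fintype.sum_equiv (Equiv.inv D)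
  intro d
  rfl

/-- `L^D / Tr L`. -/
noncomputable def case0 [CharZero R] [NoZeroSMulDivisors R L] (hDC : D ≤ C)
    (hn : ∀ n ∈ T, ∀ d ∈ D, n * d * n⁻¹ ∈ D)
    (hC : ∀ c : T, (c : G) ∈ C → ∃ d : D, ld.σ c = ld.σ ⟨d, hDT d.2⟩) (hCT : C ≤ T) :
    TCase ld C D hDT (Fintype.card D : R) ld.f0 where
  L1 :=
    { carrier := {w | ∀ d : D, ld.σ ⟨d, hDT d.2⟩ w = w}
      add_mem' := by intro a b ha hb d; rw [map_add, ha, hb]
      zero_mem' := by intro d; rw [map_zero]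
      smul_mem' := by intro c a ha d; rw [map_smul, ha] }
  L2 := LinearMap.range (TD ld hDT)
  le := by
    rintro _ ⟨w, rfl⟩ d
    exact sig_TD d w
  smul_mem := by
    intro w hw
    refine ⟨w, ?_⟩
    rw [TD_apply]
    have : ∀ d : D, ld.σ ⟨d, hDT d.2⟩ w = w := hw
    simp only [this, Finset.sum_const, Finset.card_univ]
    rw [Nat.cast_smul_eq_nsmul]
  pure := by
    intro w hw d
    have h1 := hw d
    rw [map_smul] at h1
    have hϖ : (Fintype.card D : R) ≠ 0 := by rw [Nat.cast_ne_zero]; exact Fintype.card_pos.ne'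
    exact smul_right_injective L hϖ h1
  stab1 := by
    intro n w hw d
    have h1 : (⟨d, hDT d.2⟩ : T) * n = n * ⟨(n : G)⁻¹ * d * n, hDT (by
        have := hn _ (T.inv_mem n.2) d d.2
        rwa [inv_inv] at this)⟩ := by
      apply Subtype.ext
      simp [mul_assoc]
    rw [← Module.End.mul_apply, ← map_mul, h1, map_mul, Module.End.mul_apply]
    congr 1
    exact hw ⟨_, by
      have := hn _ (T.inv_mem n.2) d d.2
      rwa [inv_inv] at this⟩
  stab2 := by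
    rintro n _ ⟨w, rfl⟩
    exact ⟨ld.σ n w, (sig_TD_n hn n w).symm⟩
  stabΘ1 := by
    intro x hx w hw d
    rw [← Θ_sig hx]
    congr 1
    exact hw d
  stabΘ2 := by
    rintro x hx _ ⟨w, rfl⟩
    refine ⟨ld.Θ x w, ?_⟩
    rw [TD_apply, TD_apply, map_sum]
    exact Finset.sum_congr rfl fun d _ => (Θ_sig hx _ _).symm
  trD := by
    intro a w hw
    refine ⟨a w, ?_⟩
    rw [TD_apply]
    refine Finset.sum_congr rfl fun d _ => ?_
    have h1 : ld.σ (⟨d, hDT d.2⟩ : T)⁻¹ w = w := hw d⁻¹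
    rw [h1]
  lift := by
    intro φ hφ u hu
    have hϖ : (Fintype.card D : R) ≠ 0 := by rw [Nat.cast_ne_zero]; exact Fintype.card_pos.ne'
    obtain ⟨f, hf⟩ := exists_div hϖ (φ ∘ₗ TD ld hDT) (fun w => hφ _ ⟨w, rfl⟩)
    have hfd : ∀ (d : D) w, f (ld.σ ⟨d, hDT d.2⟩ w) = f w := by
      intro d w
      apply mul_left_cancel₀ hϖ
      rw [hf, hf, LinearMap.comp_apply, LinearMap.comp_apply, TD_sig]
    have hf1 : ∀ w, (∀ d : D, ld.σ ⟨d, hDT d.2⟩ w = w) → f w = φ w := by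
      intro w hw
      apply mul_left_cancel₀ hϖ
      rw [hf, LinearMap.comp_apply, TD_apply]
      simp only [hw, Finset.sum_const, Finset.card_univ]
      rw [map_nsmul, nsmul_eq_mul]
    refine ⟨ld.θ f u, ?_, ?_, ?_, ?_⟩
    · intro c hc
      have h1 := ld.θ_conj ⟨c, hCT hc⟩ f u
      have h2 : ld.σ ⟨c, hCT hc⟩ u = u := by
        obtain ⟨d, hd⟩ := hC ⟨c, hCT hc⟩ hc
        rw [hd]; exact hu d
      have h3 : f ∘ₗ ld.σ (⟨c, hCT hc⟩ : T)⁻¹ = f := by
        obtain ⟨d, hd⟩ := hC (⟨c, hCT hc⟩ : T)⁻¹ (C.inv_mem hc)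
        rw [hd]
        ext w
        exact hfd d w
      rw [h2, h3] at h1
      calc ρ c * ld.θ f u = ρ c * ld.θ f u * (ρ c⁻¹ * ρ c) := by
            rw [← map_mul, inv_mul_cancel, map_one, mul_one]
        _ = (ρ c * ld.θ f u * ρ c⁻¹) * ρ c := by simp only [mul_assoc]
        _ = ld.θ f u * ρ c := by rw [h1]
    · intro w hw
      rw [ld.Θ_θ, hf1 w hw, sub_self]
      exact Submodule.zero_mem _
    · intro g hg hgT
      exact ld.Θ_other g hg hgT f u
    · intro x hx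
      rw [ld.trace_θ f u x hx]
      congr 1
      apply hf1
      intro d
      rw [← Θ_sig hx]
      congr 1
      exact hu d
  triv := by
    intro c hc w hw
    obtain ⟨d, hd⟩ := hC c hc
    have h1 : ld.σ c w = w := by rw [hd]; exact hw d
    rw [h1, sub_self]
    exact Submodule.zero_mem _

omit [IsDomain R] [Fintype D] in
theorem sub_mem_range (y : D) (hy : ∀ d : D, ∃ i : ℕ, d = y ^ i) (d : D) (w : L) :
    ld.σ ⟨d, hDT d.2⟩ w - w ∈ LinearMap.range (ld.σ ⟨y, hDT y.2⟩ - 1) := by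
  obtain ⟨i, rfl⟩ := hy d
  refine ⟨(∑ j ∈ Finset.range i, (ld.σ ⟨y, hDT y.2⟩) ^ j) w, ?_⟩
  rw [← Module.End.mul_apply, mul_geom_sum, LinearMap.sub_apply, Module.End.one_apply, ← map_pow]
  rfl

/-- `ker Tr / (y - 1) L`. -/
noncomputable def case1 [CharZero R] [NoZeroSMulDivisors R L]
    (hn : ∀ n ∈ T, ∀ d ∈ D, n * d * n⁻¹ ∈ D)
    (hC : ∀ c : T, (c : G) ∈ C → ∃ d : D, ld.σ c = ld.σ ⟨d, hDT d.2⟩) (hCT : C ≤ T)
    (y : D) (hy : ∀ d : D, ∃ i : ℕ, d = y ^ i) :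
    TCase ld C D hDT (Fintype.card D : R) (-ld.f0) where
  L1 := LinearMap.ker (TD ld hDT)
  L2 := LinearMap.range (ld.σ ⟨y, hDT y.2⟩ - 1)
  le := by
    rintro _ ⟨w, rfl⟩
    rw [LinearMap.mem_ker, LinearMap.sub_apply, map_sub, TD_sig, Module.End.one_apply, sub_self]
  smul_mem := by
    intro w hw
    have h1 : (Fintype.card D : R) • w = ∑ d : D, -(ld.σ ⟨d, hDT d.2⟩ w - w) := by
      simp only [neg_sub]
      rw [Finset.sum_sub_distrib, ← TD_apply, LinearMap.mem_ker.mp hw, sub_zero, Finset.sum_const,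
        Finset.card_univ, Nat.cast_smul_eq_nsmul]
    rw [h1]
    exact Submodule.sum_mem _ fun d _ => Submodule.neg_mem _ (sub_mem_range y hy d w)
  pure := by
    intro w hw
    have hϖ : (Fintype.card D : R) ≠ 0 := by rw [Nat.cast_ne_zero]; exact Fintype.card_pos.ne'
    rw [LinearMap.mem_ker, map_smul] at hw
    exact LinearMap.mem_ker.mpr ((smul_eq_zero.mp hw).resolve_left hϖ)
  stab1 := by
    intro n w hw
    rw [LinearMap.mem_ker] at hw ⊢
    rw [← sig_TD_n hn, hw, map_zero]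
  stab2 := by
    rintro n _ ⟨w, rfl⟩
    have h1 : ld.σ n ((ld.σ ⟨y, hDT y.2⟩ - 1) w) =
        ld.σ ⟨n * y * (n : G)⁻¹, hDT (hn n n.2 y y.2)⟩ (ld.σ n w) - ld.σ n w := by
      rw [LinearMap.sub_apply, map_sub, Module.End.one_apply, ← Module.End.mul_apply,
        ← Module.End.mul_apply, ← map_mul, ← map_mul]
      congr 3
      apply Subtype.ext
      simp [mul_assoc]
    rw [h1]
    exact sub_mem_range y hy ⟨_, hn n n.2 y y.2⟩ _
  stabΘ1 := by
    intro x hx w hw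
    rw [LinearMap.mem_ker] at hw ⊢
    rw [TD_apply] at hw ⊢
    have : ∀ d : D, ld.σ ⟨d, hDT d.2⟩ (ld.Θ x w) = ld.Θ x (ld.σ ⟨d, hDT d.2⟩ w) :=
      fun d => (Θ_sig hx _ _).symm
    simp only [this, ← map_sum, hw, map_zero]
  stabΘ2 := by
    rintro x hx _ ⟨w, rfl⟩
    refine ⟨ld.Θ x w, ?_⟩
    rw [LinearMap.sub_apply, LinearMap.sub_apply, map_sub, Module.End.one_apply,
      Module.End.one_apply, Θ_sig hx]
  trD := by
    intro a w hw
    have h1 : ∑ d : D, ld.σ ⟨d, hDT d.2⟩ (a (ld.σ ⟨d, hDT d.2⟩⁻¹ w)) =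
        ∑ d : D, (ld.σ ⟨d, hDT d.2⟩ (a (ld.σ ⟨d, hDT d.2⟩⁻¹ w)) - a (ld.σ ⟨d, hDT d.2⟩⁻¹ w)) := by
      rw [Finset.sum_sub_distrib, ← map_sum, sig_inv_sum, LinearMap.mem_ker.mp hw, map_zero,
        sub_zero]
    rw [h1]
    exact Submodule.sum_mem _ fun d _ => sub_mem_range y hy d _
  lift := by
    intro φ hφ u hu
    have hϖ : (Fintype.card D : R) ≠ 0 := by rw [Nat.cast_ne_zero]; exact Fintype.card_pos.ne'
    have hdiv : ∀ d : D, ∃ f : L →ₗ[R] R, ∀ w,
        (Fintype.card D : R) * f w = φ w - φ (ld.σ ⟨d, hDT d.2⟩⁻¹ w) := by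
      intro d
      obtain ⟨f, hf⟩ := exists_div hϖ (φ - φ ∘ₗ ld.σ (⟨d, hDT d.2⟩ : T)⁻¹) (fun w => by
        have h1 := hφ _ (Submodule.neg_mem _ (sub_mem_range y hy d⁻¹ w))
        rw [map_neg, map_sub, neg_sub] at h1
        exact h1)
      exact ⟨f, fun w => (hf w).trans rfl⟩
    choose f hf using hdiv
    have hfs : ∀ (d' d : D), f d ∘ₗ ld.σ (⟨d', hDT d'.2⟩ : T)⁻¹ = f (d' * d) - f d' := by
      intro d' d
      ext w
      apply mul_left_cancel₀ hϖ
      rw [LinearMap.comp_apply, hf, LinearMap.sub_apply, mul_sub, hf, hf]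
      have h1 : ld.σ (⟨d, hDT d.2⟩ : T)⁻¹ (ld.σ (⟨d', hDT d'.2⟩ : T)⁻¹ w) =
          ld.σ (⟨(d' * d : D), hDT (d' * d).2⟩ : T)⁻¹ w := by
        rw [← Module.End.mul_apply, ← map_mul]
        congr 2
        apply Subtype.ext
        simp
      rw [h1]
      ring
    have hsumf : ∀ w, TD ld hDT w = 0 → ∑ d, f d w = φ w := by
      intro w hw
      apply mul_left_cancel₀ hϖ
      rw [Finset.mul_sum]
      simp only [hf]
      rw [Finset.sum_sub_distrib, ← map_sum φ (fun d : D => ld.σ (⟨d, hDT d.2⟩ : T)⁻¹ w),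
        sig_inv_sum, hw, map_zero, sub_zero,
        Finset.sum_const, Finset.card_univ, nsmul_eq_mul]
    have hsumf2 : ∀ w, TD ld hDT w = 0 → ∑ d, f d (ld.σ ⟨d, hDT d.2⟩ w) = - φ w := by
      intro w hw
      apply mul_left_cancel₀ hϖ
      rw [Finset.mul_sum]
      simp only [hf]
      have h1 : ∀ d : D, ld.σ (⟨d, hDT d.2⟩ : T)⁻¹ (ld.σ ⟨d, hDT d.2⟩ w) = w := by
        intro d
        rw [← Module.End.mul_apply, ← map_mul, inv_mul_cancel, map_one, Module.End.one_apply]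
      simp only [h1]
      rw [Finset.sum_sub_distrib, ← map_sum φ (fun d : D => ld.σ (⟨d, hDT d.2⟩ : T) w),
        ← TD_apply, hw, map_zero, zero_sub,
        Finset.sum_const, Finset.card_univ, nsmul_eq_mul, mul_neg]
    refine ⟨∑ d : D, ld.θ (f d) (ld.σ ⟨d, hDT d.2⟩ u), ?_, ?_, ?_, ?_⟩
    · intro c hc
      obtain ⟨d', hd'⟩ := hC ⟨c, hCT hc⟩ hc
      have hd'' : ld.σ (⟨c, hCT hc⟩ : T)⁻¹ = ld.σ (⟨d', hDT d'.2⟩ : T)⁻¹ := by
        have h1 : ld.σ (⟨c, hCT hc⟩ : T)⁻¹ * ld.σ ⟨c, hCT hc⟩ = 1 := by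
          rw [← map_mul, inv_mul_cancel, map_one]
        have h2 : ld.σ (⟨d', hDT d'.2⟩ : T) * ld.σ (⟨d', hDT d'.2⟩ : T)⁻¹ = 1 := by
          rw [← map_mul, mul_inv_cancel, map_one]
        rw [hd'] at h1
        exact left_inv_eq_right_inv h1 h2
      have h1 : ρ c * (∑ d : D, ld.θ (f d) (ld.σ ⟨d, hDT d.2⟩ u)) * ρ c⁻¹ =
          ∑ d : D, ld.θ (f d) (ld.σ ⟨d, hDT d.2⟩ u) := by
        rw [Finset.mul_sum, Finset.sum_mul]
        have h2 : ∀ d : D, ρ c * ld.θ (f d) (ld.σ ⟨d, hDT d.2⟩ u) * ρ c⁻¹ =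
            ld.θ (f (d' * d)) (ld.σ ⟨(d' * d : D), hDT (d' * d).2⟩ u) -
            ld.θ (f d') (ld.σ ⟨(d' * d : D), hDT (d' * d).2⟩ u) := by
          intro d
          rw [ld.θ_conj ⟨c, hCT hc⟩, hd'', hfs, hd', map_sub, LinearMap.sub_apply,
            ← Module.End.mul_apply (ld.σ _), ← map_mul]
          rfl
        simp only [h2]
        rw [Finset.sum_sub_distrib]
        have h3 : ∑ d : D, ld.θ (f d') (ld.σ ⟨(d' * d : D), hDT (d' * d).2⟩ u) = 0 := by
          rw [← map_sum]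
          have h4 : ∑ d : D, ld.σ ⟨(d' * d : D), hDT (d' * d).2⟩ u = TD ld hDT u := by
            rw [TD_apply]
            apply Fintype.sum_equiv (Equiv.mulLeft d')
            intro d; rfl
          rw [h4, LinearMap.mem_ker.mp hu, map_zero]
        rw [h3, sub_zero]
        apply Fintype.sum_equiv (Equiv.mulLeft d')
        intro d; rfl
      calc ρ c * _ = ρ c * (∑ d : D, ld.θ (f d) (ld.σ ⟨d, hDT d.2⟩ u)) * (ρ c⁻¹ * ρ c) := by
            rw [← map_mul, inv_mul_cancel, map_one, mul_one]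
        _ = (ρ c * (∑ d : D, ld.θ (f d) (ld.σ ⟨d, hDT d.2⟩ u)) * ρ c⁻¹) * ρ c := by
            simp only [mul_assoc]
        _ = _ := by rw [h1]
    · intro w hw
      rw [map_sum, LinearMap.sum_apply]
      simp only [ld.Θ_θ]
      rw [← hsumf w (LinearMap.mem_ker.mp hw), Finset.sum_smul, ← Finset.sum_sub_distrib]
      apply Submodule.sum_mem
      intro d _
      rw [← smul_sub]
      exact Submodule.smul_mem _ _ (sub_mem_range y hy d u)
    · intro g hg hgT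
      rw [Finset.mul_sum, Finset.sum_mul, map_sum]
      exact Finset.sum_eq_zero fun d _ => ld.Θ_other g hg hgT _ _
    · intro x hx
      rw [Finset.sum_mul, map_sum]
      have h1 : ∀ d : D, LinearMap.trace R M (ld.θ (f d) (ld.σ ⟨d, hDT d.2⟩ u) * x) =
          ld.f0 * f d (ld.σ ⟨d, hDT d.2⟩ (ld.Θ x u)) := by
        intro d
        rw [ld.trace_θ _ _ _ hx, Θ_sig hx]
      simp only [h1]
      rw [← Finset.mul_sum, hsumf2, mul_neg, neg_mul]
      rw [TD_apply]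
      have : ∀ d : D, ld.σ ⟨d, hDT d.2⟩ (ld.Θ x u) = ld.Θ x (ld.σ ⟨d, hDT d.2⟩ u) :=
        fun d => (Θ_sig hx _ _).symm
      simp only [this, ← map_sum]
      rw [← TD_apply, LinearMap.mem_ker.mp hu, map_zero]
  triv := by
    intro c hc w hw
    obtain ⟨d, hd⟩ := hC c hc
    rw [hd]
    exact sub_mem_range y hy d w

end Cfsg.Agent.Lib.TateCases
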