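import Cfsg.Agent.Lib.RedMod

/-!
# Lifting endomorphisms of Tate groups (helper78)

Abstract form of the argument which gives `|χ(y)| ≤ 1` for `p`-rational characters in blocks with
a Sylow `p`-subgroup of order `p`.
-/

namespace Cfsg.Agent.Lib.TateLift

open Module TensorProduct Cfsg.Agent.Lib.RedMod

variable {R : Type*} [CommRing R] {G : Type*} [Group G]
  {M : Type*} [AddCommGroup M] [Module R M] {L : Type*} [AddCommGroup L] [Module R L]

/-- `x` commutes with the action of `G` -/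
def Comm (ρ : Representation R G M) (x : Module.End R M) : Prop := ∀ g, ρ g * x = x * ρ g

theorem Comm.mul {ρ : Representation R G M} {x y : Module.End R M} (hx : Comm ρ x) (hy : Comm ρ y) :
    Comm ρ (x * y) := fun g => by rw [← mul_assoc, hx g, mul_assoc, hy g, mul_assoc]

theorem Comm.one {ρ : Representation R G M} : Comm ρ (1 : Module.End R M) :=
  fun g => by rw [mul_one, one_mul]

theorem Comm.pow {ρ : Representation R G M} {x : Module.End R M} (hx : Comm ρ x) (l : ℕ) :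
    Comm ρ (x ^ l) := by
  induction l with
  | zero => rw [pow_zero]; exact Comm.one
  | succ l ih => rw [pow_succ]; exact ih.mul hx

theorem Comm.smul {ρ : Representation R G M} {x : Module.End R M} (hx : Comm ρ x) (r : R) :
    Comm ρ (r • x) := fun g => by rw [mul_smul_comm, smul_mul_assoc, hx g]

theorem Comm.sum {ρ : Representation R G M} {ι : Type*} (s : Finset ι) {x : ι → Module.End R M}
    (hx : ∀ i ∈ s, Comm ρ (x i)) : Comm ρ (∑ i ∈ s, x i) := fun g => by
  rw [Finset.mul_sum, Finset.sum_mul]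
  exact Finset.sum_congr rfl fun i hi => hx i hi g

/-- The data: a lattice `L` with an action of `T ≤ G`, endomorphisms of `M` act on `L`, and rank
one operators of `L` come from `M`. -/
structure LiftData (ρ : Representation R G M) (T N : Subgroup G) (L : Type*) [AddCommGroup L]
    [Module R L] where
  σ : Representation R T L
  Θ : Module.End R M →ₗ[R] Module.End R L
  θ : (L →ₗ[R] R) →ₗ[R] L →ₗ[R] Module.End R M
  f0 : R
  Θ_one : Θ 1 = 1
  Θ_mul : ∀ x y, Comm ρ x → Comm ρ y → Θ (x * y) = Θ x * Θ y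
  Θ_conj : ∀ (n : T) (x : Module.End R M), Θ (ρ n * x * ρ (n : G)⁻¹) = σ n * Θ x * σ n⁻¹
  Θ_θ : ∀ φ u w, Θ (θ φ u) w = φ w • u
  θ_conj : ∀ (n : T) φ u, ρ n * θ φ u * ρ (n : G)⁻¹ = θ (φ ∘ₗ σ n⁻¹) (σ n u)
  Θ_other : ∀ g, g ∈ N → g ∉ T → ∀ φ u, Θ (ρ g * θ φ u * ρ g⁻¹) = 0
  trace_θ : ∀ φ u x, Comm ρ x → LinearMap.trace R M (θ φ u * x) = f0 * φ (Θ x u)

/-- One of the two Tate groups `L1 / L2`. -/
structure TCase {ρ : Representation R G M} {T N : Subgroup G} (ld : LiftData ρ T N L)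
    (C D : Subgroup G) [Fintype D] (hDT : D ≤ T) (ϖ s : R) where
  L1 : Submodule R L
  L2 : Submodule R L
  le : L2 ≤ L1
  smul_mem : ∀ w ∈ L1, ϖ • w ∈ L2
  pure : ∀ w, ϖ • w ∈ L1 → w ∈ L1
  stab1 : ∀ (n : T), ∀ w ∈ L1, ld.σ n w ∈ L1
  stab2 : ∀ (n : T), ∀ w ∈ L2, ld.σ n w ∈ L2
  stabΘ1 : ∀ x, Comm ρ x → ∀ w ∈ L1, ld.Θ x w ∈ L1
  stabΘ2 : ∀ x, Comm ρ x → ∀ w ∈ L2, ld.Θ x w ∈ L2
  trD : ∀ (a : Module.End R L), ∀ w ∈ L1,
    ∑ d : D, ld.σ ⟨d, hDT d.2⟩ (a (ld.σ ⟨d, hDT d.2⟩⁻¹ w)) ∈ L2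
  lift : ∀ φ : L →ₗ[R] R, (∀ w ∈ L2, ϖ ∣ φ w) → ∀ u ∈ L1, ∃ z : Module.End R M,
    (∀ c ∈ C, ρ c * z = z * ρ c) ∧ (∀ w ∈ L1, ld.Θ z w - φ w • u ∈ L2) ∧
    (∀ g ∈ N, g ∉ T → ld.Θ (ρ g * z * ρ g⁻¹) = 0) ∧
    ∀ x, Comm ρ x → LinearMap.trace R M (z * x) = s * φ (ld.Θ x u)
  triv : ∀ c : T, (c : G) ∈ C → ∀ w ∈ L1, ld.σ c w - w ∈ L2

section sums

variable [Fintype G] (C : Subgroup G) [Fintype (G ⧸ C)] [Fintype C]

theorem sum_quot {A : Type*} [AddCommMonoid A] (f : G → A) (hf : ∀ g, ∀ c ∈ C, f (g * c) = f g) :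
    ∑ g, f g = Fintype.card C • ∑ q : G ⧸ C, f q.out := by
  classical
  rw [Finset.smul_sum, ← Finset.sum_fiberwise Finset.univ (fun g => (QuotientGroup.mk g : G ⧸ C)) f]
  refine Finset.sum_congr rfl fun q _ => ?_
  have h1 : ∀ g ∈ Finset.univ.filter (fun g => (QuotientGroup.mk g : G ⧸ C) = q), f g = f q.out := by
    intro g hg
    have h2 : (QuotientGroup.mk q.out : G ⧸ C) = QuotientGroup.mk g := by
      rw [(Finset.mem_filter.mp hg).2, QuotientGroup.out_eq']
    rw [QuotientGroup.eq] at h2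
    have h3 := hf q.out _ h2
    rwa [mul_inv_cancel_left] at h3
  rw [Finset.sum_congr rfl h1, Finset.sum_const]
  congr 1
  rw [← Finset.card_univ]
  symm
  apply Finset.card_bij (fun (c : C) _ => q.out * (c : G))
  · intro c _
    rw [Finset.mem_filter]
    refine ⟨Finset.mem_univ _, ?_⟩
    rw [QuotientGroup.mk_mul_of_mem _ c.2, QuotientGroup.out_eq']
  · intro a _ b _ hab
    exact Subtype.ext (mul_left_cancel hab)
  · intro g hg
    have h2 : (QuotientGroup.mk q.out : G ⧸ C) = QuotientGroup.mk g := by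
      rw [(Finset.mem_filter.mp hg).2, QuotientGroup.out_eq']
    rw [QuotientGroup.eq] at h2
    exact ⟨⟨_, h2⟩, Finset.mem_univ _, mul_inv_cancel_left _ _⟩

theorem sum_quot_mul_left {A : Type*} [AddCommMonoid A] (f : G → A)
    (hf : ∀ g, ∀ c ∈ C, f (g * c) = f g) (h : G) :
    ∑ q : G ⧸ C, f (h * q.out) = ∑ q : G ⧸ C, f q.out := by
  apply Fintype.sum_equiv (MulAction.toPerm h)
  intro q
  have h1 : (QuotientGroup.mk (h * q.out) : G ⧸ C) = (MulAction.toPerm h) q := by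
    show h • (QuotientGroup.mk q.out : G ⧸ C) = h • q
    rw [QuotientGroup.out_eq']
  rw [← h1]
  have h2 : (QuotientGroup.mk (QuotientGroup.mk (h * q.out) : G ⧸ C).out : G ⧸ C) =
      QuotientGroup.mk (h * q.out) := QuotientGroup.out_eq' _
  rw [QuotientGroup.eq] at h2
  have h3 := hf (QuotientGroup.mk (h * q.out) : G ⧸ C).out _ h2
  rw [mul_inv_cancel_left] at h3
  exact h3

end sums

section conj

variable (ρ : Representation R G M)

theorem rho_mul_inv (g : G) : ρ g * ρ g⁻¹ = 1 := by rw [← map_mul, mul_inv_cancel, map_one]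
theorem rho_inv_mul (g : G) : ρ g⁻¹ * ρ g = 1 := by rw [← map_mul, inv_mul_cancel, map_one]

variable [Fintype G] (C : Subgroup G) [Fintype (G ⧸ C)] [Fintype C]

/-- conjugation sum over cosets -/
noncomputable def csum (z : Module.End R M) : Module.End R M :=
  ∑ q : G ⧸ C, ρ q.out * z * ρ q.out⁻¹

variable {ρ C}

theorem conj_mul_mem {z : Module.End R M} (hz : ∀ c ∈ C, ρ c * z = z * ρ c) (g : G) (c : G)
    (hc : c ∈ C) : ρ (g * c) * z * ρ (g * c)⁻¹ = ρ g * z * ρ g⁻¹ := by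
  rw [map_mul, mul_inv_rev, map_mul]
  calc ρ g * ρ c * z * (ρ c⁻¹ * ρ g⁻¹) = ρ g * (ρ c * z) * ρ c⁻¹ * ρ g⁻¹ := by
        simp only [mul_assoc]
    _ = ρ g * (z * ρ c) * ρ c⁻¹ * ρ g⁻¹ := by rw [hz c hc]
    _ = ρ g * z * (ρ c * ρ c⁻¹) * ρ g⁻¹ := by simp only [mul_assoc]
    _ = ρ g * z * ρ g⁻¹ := by rw [rho_mul_inv, mul_one]

theorem card_smul_csum {z : Module.End R M} (hz : ∀ c ∈ C, ρ c * z = z * ρ c) :
    Fintype.card C • csum ρ C z = ∑ g, ρ g * z * ρ g⁻¹ := by
  rw [csum, sum_quot C (fun g => ρ g * z * ρ g⁻¹) (fun g c hc => conj_mul_mem hz g c hc)]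

theorem comm_csum {z : Module.End R M} (hz : ∀ c ∈ C, ρ c * z = z * ρ c) :
    Comm ρ (csum ρ C z) := by
  intro h
  have h1 := sum_quot_mul_left C (fun g => ρ g * z * ρ g⁻¹) (fun g c hc => conj_mul_mem hz g c hc) h
  have h2 : ∀ q : G ⧸ C, ρ (h * q.out) * z * ρ (h * q.out)⁻¹ =
      ρ h * (ρ q.out * z * ρ q.out⁻¹) * ρ h⁻¹ := by
    intro q
    rw [map_mul, mul_inv_rev, map_mul]
    simp only [mul_assoc]
  simp only [h2, ← Finset.mul_sum, ← Finset.sum_mul] at h1
  change ρ h * csum ρ C z * ρ h⁻¹ = csum ρ C z at h1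
  calc ρ h * csum ρ C z = ρ h * csum ρ C z * (ρ h⁻¹ * ρ h) := by rw [rho_inv_mul, mul_one]
    _ = (ρ h * csum ρ C z * ρ h⁻¹) * ρ h := by simp only [mul_assoc]
    _ = csum ρ C z * ρ h := by rw [h1]

theorem csum_mul {z y : Module.End R M} (hy : Comm ρ y) :
    csum ρ C z * y = csum ρ C (z * y) := by
  simp only [csum, Finset.sum_mul]
  refine Finset.sum_congr rfl fun q _ => ?_
  rw [mul_assoc (ρ q.out * z), hy, ← mul_assoc, mul_assoc (ρ q.out) z y]

end conj

section functional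

variable {k : Type*} [Field k] [Algebra R k] [Module.Free R L] [Module.Finite R L]

theorem exists_lift_functional (hs : Function.Surjective (algebraMap R k))
    (ψ : (k ⊗[R] L) →ₗ[k] k) :
    ∃ φ : L →ₗ[R] R, ∀ w, algebraMap R k (φ w) = ψ (red R k w) := by
  let b := Module.Free.chooseBasis R L
  choose r hr using fun i => hs (ψ (red R k (b i)))
  refine ⟨b.constr R r, fun w => ?_⟩
  have h1 : (algebraMap R k).toSemilinearMap = (algebraMap R k).toSemilinearMap := rfl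
  let f1 : L →ₗ[R] k := (Algebra.linearMap R k) ∘ₗ (b.constr R r)
  let f2 : L →ₗ[R] k := (ψ.restrictScalars R) ∘ₗ (red R k)
  have h2 : f1 = f2 := by
    apply b.ext
    intro i
    simp only [f1, f2, LinearMap.comp_apply, Module.Basis.constr_basis, Algebra.linearMap_apply, hr]
    rfl
  exact LinearMap.congr_fun h2 w

end functional

section linear

/-- Eigenvectors of an operator of finite order on a subquotient. -/
theorem exists_eigen_subquotient {k V : Type*} [Field k] [AddCommGroup V] [Module k V]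
    [FiniteDimensional k V] (V1 V2 : Submodule k V) (hV : V2 ≤ V1) (A0 : V →ₗ[k] V)
    (hA1 : ∀ v ∈ V1, A0 v ∈ V1) (hA2 : ∀ v ∈ V2, A0 v ∈ V2) {e : ℕ} (he : (e : k) ≠ 0)
    (hAe : ∀ v ∈ V1, (A0 ^ e) v - v ∈ V2) {ζ : k} (hζ : IsPrimitiveRoot ζ e) :
    ∃ (d : ℕ) (v : Fin d → V) (ψ : Fin d → (V →ₗ[k] k)) (a : Fin d → k),
      finrank k V1 = finrank k V2 + d ∧ (∀ i, v i ∈ V1) ∧ (∀ i, ∀ w ∈ V2, ψ i w = 0) ∧
      (∀ i j, ψ i (v j) = if i = j then 1 else 0) ∧ (∀ i, A0 (v i) - a i • v i ∈ V2) ∧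
      (∀ i, ∀ w ∈ V1, ψ i (A0 w) = a i * ψ i w) := by
  classical
  let V2' : Submodule k V1 := V2.comap V1.subtype
  let W := V1 ⧸ V2'
  have hdim : finrank k V1 = finrank k V2 + finrank k W := by
    have h1 := Submodule.finrank_quotient_add_finrank V2'
    have h2 : finrank k V2' = finrank k V2 := by
      have h3 : Submodule.map V1.subtype V2' = V2 := by
        rw [Submodule.map_comap_subtype]; exact inf_eq_right.mpr hV
      rw [← h3]
      exact (LinearEquiv.finrank_eq (Submodule.equivMapOfInjective _ V1.subtype_injective V2'))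
    rw [h2] at h1
    rw [← h1, add_comm]
  let A1 : V1 →ₗ[k] V1 := A0.restrict hA1
  let A : Module.End k W := V2'.mapQ V2' A1 (by
    intro v hv
    exact hA2 _ hv)
  have hApow : ∀ (j : ℕ) (v : V1), (A ^ j) (V2'.mkQ v) = V2'.mkQ ((A1 ^ j) v) := by
    intro j
    induction j with
    | zero => intro v; rfl
    | succ j ih =>
      intro v
      rw [pow_succ, Module.End.mul_apply, pow_succ, Module.End.mul_apply]
      exact ih (A1 v)
  have hA1pow : ∀ (j : ℕ) (v : V1), (((A1 ^ j) v : V1) : V) = (A0 ^ j) v := by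
    intro j
    induction j with
    | zero => intro v; rfl
    | succ j ih =>
      intro v
      rw [pow_succ, Module.End.mul_apply, ih, pow_succ, Module.End.mul_apply]
      rfl
  have hmk0 : ∀ v : V1, V2'.mkQ v = 0 ↔ (v : V) ∈ V2 := by
    intro v
    rw [Submodule.mkQ_apply, Submodule.Quotient.mk_eq_zero]
    exact Iff.rfl
  have hAe : A ^ e = 1 := by
    refine LinearMap.ext fun x => ?_
    obtain ⟨v, rfl⟩ := V2'.mkQ_surjective x
    rw [hApow, Module.End.one_apply, ← sub_eq_zero, ← map_sub, hmk0]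
    show (((A1 ^ e) v : V1) : V) - v ∈ V2
    rw [hA1pow]
    exact hAe v v.2
  obtain ⟨b, a, hba⟩ := NilOp.exists_eigenbasis A he hAe hζ
  choose v hv using fun i => V2'.mkQ_surjective (b i)
  have hψ : ∀ i, ∃ ψ : V →ₗ[k] k, ψ ∘ₗ V1.subtype = (b.coord i) ∘ₗ V2'.mkQ := fun i =>
    LinearMap.exists_extend _
  choose ψ hψ2 using hψ
  have hψ3 : ∀ i (w : V1), ψ i w = b.coord i (V2'.mkQ w) := fun i w =>
    LinearMap.congr_fun (hψ2 i) w
  refine ⟨finrank k W, fun i => (v i : V), ψ, a, hdim, fun i => (v i).2, ?_, ?_, ?_, ?_⟩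
  · intro i w hw
    rw [hψ3 i ⟨w, hV hw⟩, (hmk0 ⟨w, hV hw⟩).mpr hw, map_zero]
  · intro i j
    rw [hψ3, hv, Module.Basis.coord_apply, Module.Basis.repr_self, Finsupp.single_apply]
    by_cases hij : i = j
    · subst hij; simp
    · rw [if_neg (fun h => hij h.symm), if_neg hij]
  · intro i
    have h1 : V2'.mkQ (A1 (v i) - a i • v i) = 0 := by
      rw [map_sub, map_smul, hv, ← (hba i).1, ← hv]
      exact sub_self _
    exact (hmk0 _).mp h1
  · intro i w hw
    have h1 : ψ i (A0 w) = b.coord i (A (V2'.mkQ ⟨w, hw⟩)) := hψ3 i (A1 ⟨w, hw⟩)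
    rw [h1, hψ3 i ⟨w, hw⟩]
    have h9 : (b.coord i) ∘ₗ A = a i • b.coord i := by
      apply b.ext
      intro j
      rw [LinearMap.comp_apply, (hba j).1, map_smul, LinearMap.smul_apply,
        Module.Basis.coord_apply, Module.Basis.repr_self, Finsupp.single_apply]
      by_cases hij : j = i
      · subst hij; simp
      · simp [hij]
    exact LinearMap.congr_fun h9 _

end linear

section main

variable [Fintype G] {ρ : Representation R G M} {T N C D : Subgroup G} [Fintype D]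
  {ld : LiftData ρ T N L} {hDT : D ≤ T} {ϖ s : R} (tc : TCase ld C D hDT ϖ s)
  {k : Type*} [Field k] [Algebra R k] [IsDomain R] [Module.Free R L] [Module.Finite R L]

omit [Fintype G] in
theorem mem_L2_of_red (hs : Function.Surjective (algebraMap R k))
    (hk : ∀ r, algebraMap R k r = 0 ↔ ϖ ∣ r) {w : L} (hw : w ∈ tc.L1)
    (h : red R k w ∈ redSub R k tc.L2) : w ∈ tc.L2 := by
  obtain ⟨w2, hw2, h2⟩ := (mem_redSub hs _ _).mp h
  have h3 : red R k (w - w2) = 0 := by rw [map_sub, h2, sub_self]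
  obtain ⟨w', hw'⟩ := (red_eq_zero_iff hk _).mp h3
  have h4 : w' ∈ tc.L1 := tc.pure w' (by rw [← hw']; exact tc.L1.sub_mem hw (tc.le hw2))
  have h5 : w = ϖ • w' + w2 := by rw [← hw']; abel
  rw [h5]
  exact tc.L2.add_mem (tc.smul_mem w' h4) hw2

omit [Fintype G] [IsDomain R] [Module.Free R L] [Module.Finite R L] in
theorem red_mem_of_smul {r : R} (hr : ϖ ∣ r) {w : L}
    (hw : w ∈ tc.L1) : r • w ∈ tc.L2 := by
  obtain ⟨a, rfl⟩ := hr
  rw [mul_comm, mul_smul]
  exact tc.L2.smul_mem a (tc.smul_mem w hw)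

/-- The eigenvectors and functionals. -/
theorem exists_family (hs : Function.Surjective (algebraMap R k))
    (hk : ∀ r, algebraMap R k r = 0 ↔ ϖ ∣ r) (hCT : C ≤ T) (g0 : T) {e : ℕ} (he : (e : k) ≠ 0)
    (hg0 : (g0 : G) ^ e ∈ C) {ζ : k} (hζ : IsPrimitiveRoot ζ e)
    (hgen : T ≤ Subgroup.closure (C ∪ {(g0 : G)})) :
    ∃ (d : ℕ) (u : Fin d → L) (φ : Fin d → (L →ₗ[R] R)),
      finrank k (redSub R k tc.L1) = finrank k (redSub R k tc.L2) + d ∧
      (∀ i, u i ∈ tc.L1) ∧ (∀ i, ∀ w ∈ tc.L2, ϖ ∣ φ i w) ∧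
      (∀ i j, ϖ ∣ φ i (u j) - if i = j then 1 else 0) ∧
      (∀ i, ∀ n : T, ∀ w ∈ tc.L1, φ i (ld.σ n⁻¹ w) • ld.σ n (u i) - φ i w • u i ∈ tc.L2) := by
  classical
  -- the action of g0
  let A0 : (k ⊗[R] L) →ₗ[k] (k ⊗[R] L) := (ld.σ g0).baseChange k
  have hA0 : ∀ w, A0 (red R k w) = red R k (ld.σ g0 w) := fun w => rfl
  have hA0pow : ∀ (j : ℕ) (w : L), (A0 ^ j) (red R k w) = red R k (ld.σ (g0 ^ j) w) := by
    intro j
    induction j with
    | zero => intro w; rw [pow_zero, pow_zero, map_one]; rfl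
    | succ j ih =>
      intro w
      rw [pow_succ, Module.End.mul_apply, hA0, ih, pow_succ, map_mul]; rfl
  obtain ⟨d, v, ψ, a, hd, hv, hψ1, hψ2, hAv, hψA⟩ := exists_eigen_subquotient
    (redSub R k tc.L1) (redSub R k tc.L2) (redSub_mono tc.le) A0 (by
      intro v hv
      obtain ⟨w, hw, rfl⟩ := (mem_redSub hs _ _).mp hv
      rw [hA0]; exact red_mem_redSub (tc.stab1 g0 w hw)) (by
      intro v hv
      obtain ⟨w, hw, rfl⟩ := (mem_redSub hs _ _).mp hv
      rw [hA0]; exact red_mem_redSub (tc.stab2 g0 w hw)) he (by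
      intro v hv
      obtain ⟨w, hw, rfl⟩ := (mem_redSub hs _ _).mp hv
      rw [hA0pow, ← map_sub]
      exact red_mem_redSub (tc.triv (g0 ^ e) (by simpa using hg0) w hw)) hζ
  choose u hu hub using fun i => (mem_redSub hs _ _).mp (hv i)
  choose φ hφ using fun i => exists_lift_functional hs (ψ i)
  refine ⟨d, u, φ, hd, hu, ?_, ?_, ?_⟩
  · intro i w hw
    rw [← hk, hφ, hψ1 i _ (red_mem_redSub hw)]
  · intro i j
    rw [← hk, map_sub, hφ, hub, hψ2]
    by_cases hij : i = j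
    · rw [if_pos hij, if_pos hij, map_one, sub_self]
    · rw [if_neg hij, if_neg hij, map_zero, sub_self]
  · intro i n
    have key : ∀ g ∈ Subgroup.closure (C ∪ {(g0 : G)}), ∃ hg : g ∈ T, ∀ w ∈ tc.L1,
        φ i (ld.σ (⟨g, hg⟩ : T)⁻¹ w) • ld.σ ⟨g, hg⟩ (u i) - φ i w • u i ∈ tc.L2 := by
      intro g hg
      induction hg using Subgroup.closure_induction with
      | mem x hx =>
        rcases hx with hx | hx
        · refine ⟨hCT hx, fun w hw => ?_⟩
          have h1 := tc.triv ⟨x, hCT hx⟩ hx (u i) (hu i)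
          have h2 := tc.triv (⟨x, hCT hx⟩ : T)⁻¹ (C.inv_mem hx) w hw
          have h3 : ϖ ∣ φ i (ld.σ (⟨x, hCT hx⟩ : T)⁻¹ w) - φ i w := by
            rw [← map_sub, ← hk, hφ, hψ1 i _ (red_mem_redSub h2)]
          have h4 : φ i (ld.σ (⟨x, hCT hx⟩ : T)⁻¹ w) • ld.σ ⟨x, hCT hx⟩ (u i) - φ i w • u i =
            φ i (ld.σ (⟨x, hCT hx⟩ : T)⁻¹ w) • (ld.σ ⟨x, hCT hx⟩ (u i) - u i) +
              (φ i (ld.σ (⟨x, hCT hx⟩ : T)⁻¹ w) - φ i w) • u i := by
            rw [smul_sub, sub_smul]; abel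
          rw [h4]
          exact tc.L2.add_mem (tc.L2.smul_mem _ h1) (red_mem_of_smul tc h3 (hu i))
        · rw [Set.mem_singleton_iff] at hx
          subst hx
          refine ⟨g0.2, fun w hw => ?_⟩
          -- eigenvalue
          obtain ⟨r, hr⟩ := hs (a i)
          have h2 : ld.σ g0 (u i) - r • u i ∈ tc.L2 := by
            apply mem_L2_of_red tc hs hk
              (tc.L1.sub_mem (tc.stab1 _ _ (hu i)) (tc.L1.smul_mem r (hu i)))
            have h3 := hAv i
            rw [← hub i, hA0, ← hr, smul_red, ← map_sub] at h3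
            exact h3
          have hw' := tc.stab1 g0⁻¹ w hw
          have h5 : ϖ ∣ φ i w - r * φ i (ld.σ g0⁻¹ w) := by
            rw [← hk, map_sub, map_mul, hφ, hφ, hr]
            have h6 : red R k w = A0 (red R k (ld.σ g0⁻¹ w)) := by
              rw [hA0]
              congr 1
              rw [← Module.End.mul_apply, ← map_mul, mul_inv_cancel, map_one, Module.End.one_apply]
            rw [h6, hψA i _ (red_mem_redSub hw'), sub_self]
          have h6 : φ i (ld.σ g0⁻¹ w) • ld.σ g0 (u i) - φ i w • u i =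
            φ i (ld.σ g0⁻¹ w) • (ld.σ g0 (u i) - r • u i) -
              (φ i w - r * φ i (ld.σ g0⁻¹ w)) • u i := by
            rw [smul_sub, sub_smul, smul_smul, mul_comm r]; abel
          show φ i (ld.σ g0⁻¹ w) • ld.σ g0 (u i) - φ i w • u i ∈ tc.L2
          rw [h6]
          exact tc.L2.sub_mem (tc.L2.smul_mem _ h2) (red_mem_of_smul tc h5 (hu i))
      | one =>
        refine ⟨T.one_mem, fun w _ => ?_⟩
        have h1 : (⟨1, T.one_mem⟩ : T) = 1 := rfl
        rw [h1, inv_one, map_one, Module.End.one_apply, Module.End.one_apply, sub_self]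
        exact tc.L2.zero_mem
      | mul x y _ _ hx hy =>
        obtain ⟨hxT, hx⟩ := hx
        obtain ⟨hyT, hy⟩ := hy
        refine ⟨T.mul_mem hxT hyT, fun w hw => ?_⟩
        have h1 := hy (ld.σ (⟨x, hxT⟩ : T)⁻¹ w) (tc.stab1 _ _ hw)
        have h2 := tc.stab2 ⟨x, hxT⟩ _ h1
        rw [map_sub, map_smul, map_smul] at h2
        have h3 := hx w hw
        have h4 := tc.L2.add_mem h2 h3
        have h5 : (⟨x * y, T.mul_mem hxT hyT⟩ : T) = ⟨x, hxT⟩ * ⟨y, hyT⟩ := rfl
        rw [h5, mul_inv_rev, map_mul, map_mul, Module.End.mul_apply, Module.End.mul_apply]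
        rw [sub_add_sub_cancel] at h4
        exact h4
      | inv x _ hx =>
        obtain ⟨hxT, hx⟩ := hx
        refine ⟨T.inv_mem hxT, fun w hw => ?_⟩
        have h1 := hx (ld.σ ⟨x, hxT⟩ w) (tc.stab1 _ _ hw)
        have h2 := tc.stab2 (⟨x, hxT⟩ : T)⁻¹ _ h1
        rw [map_sub, map_smul, map_smul] at h2
        have h3 : ∀ v, ld.σ (⟨x, hxT⟩ : T)⁻¹ (ld.σ ⟨x, hxT⟩ v) = v := by
          intro v
          rw [← Module.End.mul_apply, ← map_mul, inv_mul_cancel, map_one, Module.End.one_apply]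
        rw [h3, h3] at h2
        have h5 : (⟨x⁻¹, T.inv_mem hxT⟩ : T) = (⟨x, hxT⟩ : T)⁻¹ := rfl
        rw [h5, inv_inv]
        have h6 := tc.L2.neg_mem h2
        rwa [neg_sub] at h6
    obtain ⟨_, h⟩ := key n (hgen n.2)
    exact h


/-- Action of the coset sum on `L1 / L2`. -/
theorem csum_apply (hp : Nat.Prime (Fintype.card D)) [Fintype C] [Fintype (G ⧸ C)]
    (hCT : C ≤ T) (hTN : T ≤ N)
    (hN : ∀ g ∈ N, ∀ d ∈ D, g⁻¹ * d * g ∈ C)
    (hfix : ∀ g : G, (∀ d ∈ D, g⁻¹ * d * g ∈ C) → g ∈ N) {e : ℕ} (hcard : Nat.card T = Nat.card C * e)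
    {z : Module.End R M} (hz : ∀ c ∈ C, ρ c * z = z * ρ c) {φ : L →ₗ[R] R} {u : L}
    (hzw : ∀ w ∈ tc.L1, ld.Θ z w - φ w • u ∈ tc.L2)
    (hzN : ∀ g ∈ N, g ∉ T → ld.Θ (ρ g * z * ρ g⁻¹) = 0)
    (hφu : ∀ n : T, ∀ w ∈ tc.L1, φ (ld.σ n⁻¹ w) • ld.σ n u - φ w • u ∈ tc.L2)
    {w : L} (hw : w ∈ tc.L1) :
    ld.Θ (csum ρ C z) w - (e : R) • φ w • u ∈ tc.L2 := by
  classical
  let f : G → Module.End R M := fun g => ρ g * z * ρ g⁻¹
  have hf : ∀ g, ∀ c ∈ C, f (g * c) = f g := fun g c hc => conj_mul_mem hz g c hc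
  have hfout : ∀ g : G, f (QuotientGroup.mk g : G ⧸ C).out = f g := by
    intro g
    have h2 : (QuotientGroup.mk (QuotientGroup.mk g : G ⧸ C).out : G ⧸ C) =
      QuotientGroup.mk g := QuotientGroup.out_eq' _
    rw [QuotientGroup.eq] at h2
    have h3 := hf (QuotientGroup.mk g : G ⧸ C).out _ h2
    rw [mul_inv_cancel_left] at h3
    exact h3.symm
  let t : G ⧸ C → L := fun q => ld.Θ (f q.out) w
  have hsum : ld.Θ (csum ρ C z) w = ∑ q, t q := by
    simp only [csum, map_sum, LinearMap.sum_apply, t, f]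
  have hsmul : ∀ (d : D) (q : G ⧸ C), f (d • q).out = ρ d * f q.out * ρ (d : G)⁻¹ := by
    intro d q
    have h1 : d • q = (QuotientGroup.mk ((d : G) * q.out) : G ⧸ C) := by
      show (d : G) • q = _
      conv_lhs => rw [← QuotientGroup.out_eq' q]
      rfl
    rw [h1, hfout]
    simp only [f]
    rw [map_mul, mul_inv_rev, map_mul]
    simp only [mul_assoc]
  have h1 := NilOp.sum_nonfixed_mem (D := D) (X := G ⧸ C) hp rfl tc.L2.toAddSubgroup t (by
    intro q
    have h2 : ∀ d : D, t (d • q) =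
        ld.σ ⟨d, hDT d.2⟩ (ld.Θ (f q.out) (ld.σ ⟨d, hDT d.2⟩⁻¹ w)) := by
      intro d
      simp only [t]
      rw [hsmul, ld.Θ_conj ⟨d, hDT d.2⟩]
      rfl
    simp only [h2]
    exact tc.trD (ld.Θ (f q.out)) w hw)
  rw [hsum]
  have h2 : ∑ q ∈ Finset.univ.filter (fun q : G ⧸ C => ∀ d : D, d • q = q), t q -
      (e : R) • φ w • u ∈ tc.L2 := by
    have hmemN : ∀ q : G ⧸ C, (∀ d : D, d • q = q) ↔ q.out ∈ N := by
      intro q
      constructor
      · intro h
        apply hfix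
        intro d hd
        have h3 := h ⟨d⁻¹, D.inv_mem hd⟩
        have h4 : (QuotientGroup.mk (d⁻¹ * q.out) : G ⧸ C) = QuotientGroup.mk q.out := by
          rw [QuotientGroup.out_eq']
          conv_rhs => rw [← h3]
          show _ = d⁻¹ • q
          conv_rhs => rw [← QuotientGroup.out_eq' q]
          rfl
        rw [QuotientGroup.eq] at h4
        have h5 : (d⁻¹ * q.out)⁻¹ * q.out = q.out⁻¹ * d * q.out := by group
        rwa [h5] at h4
      · intro h d
        have h3 := hN _ h d⁻¹ (D.inv_mem d.2)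
        have h4 : (QuotientGroup.mk ((d : G) * q.out) : G ⧸ C) = QuotientGroup.mk q.out := by
          rw [QuotientGroup.eq]
          have h5 : ((d : G) * q.out)⁻¹ * q.out = q.out⁻¹ * (d : G)⁻¹ * q.out := by group
          rw [h5]; exact h3
        rw [QuotientGroup.out_eq'] at h4
        calc d • q = (d : G) • (QuotientGroup.mk q.out : G ⧸ C) := by
              rw [QuotientGroup.out_eq']; rfl
          _ = (QuotientGroup.mk ((d : G) * q.out) : G ⧸ C) := rfl
          _ = q := h4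
    have h3 : ∑ q ∈ Finset.univ.filter (fun q : G ⧸ C => ∀ d : D, d • q = q), t q =
        ∑ q ∈ Finset.univ.filter (fun q : G ⧸ C => q.out ∈ T), t q := by
      symm
      apply Finset.sum_subset_zero_on_sdiff
      · intro q hq
        rw [Finset.mem_filter] at hq ⊢
        exact ⟨hq.1, (hmemN q).mpr (hTN hq.2)⟩
      · intro q hq
        rw [Finset.mem_sdiff, Finset.mem_filter, Finset.mem_filter] at hq
        have h4 : q.out ∉ T := fun h => hq.2 ⟨Finset.mem_univ _, h⟩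
        simp only [t, f]
        rw [hzN q.out ((hmemN q).mp hq.1.2) h4]
        rfl
      · intro q _; rfl
    have hcardT : (Finset.univ.filter (fun q : G ⧸ C => q.out ∈ T)).card = e := by
      have h4 := sum_quot C (fun g : G => if g ∈ T then (1 : ℕ) else 0) (by
        intro g c hc
        by_cases hg : g ∈ T
        · rw [if_pos hg, if_pos (T.mul_mem hg (hCT hc))]
        · rw [if_neg hg, if_neg]
          intro h
          apply hg
          have := T.mul_mem h (T.inv_mem (hCT hc))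
          rwa [mul_inv_cancel_right] at this)
      rw [← Finset.sum_filter, ← Finset.card_eq_sum_ones, ← Finset.sum_filter,
        ← Finset.card_eq_sum_ones, smul_eq_mul] at h4
      have h5 : (Finset.univ.filter (fun g : G => g ∈ T)).card = Nat.card T := by
        rw [Nat.card_eq_fintype_card, Fintype.card_subtype]
      rw [h5, hcard, Nat.card_eq_fintype_card] at h4
      exact (Nat.eq_of_mul_eq_mul_left Fintype.card_pos h4).symm
    rw [h3]
    have h4 : (e : R) • φ w • u =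
        ∑ q ∈ Finset.univ.filter (fun q : G ⧸ C => q.out ∈ T), φ w • u := by
      rw [Finset.sum_const, hcardT, Nat.cast_smul_eq_nsmul]
    rw [h4, ← Finset.sum_sub_distrib]
    apply Submodule.sum_mem
    intro q hq
    have hqT : q.out ∈ T := (Finset.mem_filter.mp hq).2
    let n : T := ⟨q.out, hqT⟩
    have h5 : t q = ld.σ n (ld.Θ z (ld.σ n⁻¹ w)) := by
      simp only [t, f]
      rw [ld.Θ_conj n]; rfl
    rw [h5]
    have h6 := tc.stab2 n _ (hzw _ (tc.stab1 n⁻¹ w hw))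
    rw [map_sub, map_smul] at h6
    have h7 := tc.L2.add_mem h6 (hφu n w hw)
    rwa [sub_add_sub_cancel] at h7
  have h3 := tc.L2.add_mem h1 h2
  rwa [sub_add_sub_cancel] at h3


theorem bound [CharZero R] (hp : Nat.Prime (Fintype.card D)) [Fintype C] [Fintype (G ⧸ C)]
    (hs : Function.Surjective (algebraMap R k))
    (hk : ∀ r, algebraMap R k r = 0 ↔ ϖ ∣ r)
    (hCT : C ≤ T) (hTN : T ≤ N)
    (hN : ∀ g ∈ N, ∀ d ∈ D, g⁻¹ * d * g ∈ C)
    (hfix : ∀ g : G, (∀ d ∈ D, g⁻¹ * d * g ∈ C) → g ∈ N) {e : ℕ} (hcard : Nat.card T = Nat.card C * e)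
    (g0 : T) (he : (e : k) ≠ 0)
    (hg0 : (g0 : G) ^ e ∈ C) {ζ : k} (hζ : IsPrimitiveRoot ζ e)
    (hgen : T ≤ Subgroup.closure (C ∪ {(g0 : G)}))
    {K' : Type*} [Field K'] (ι : R →+* K') (hι : ∀ r, ι r = 0 ↔ ϖ ∣ r)
    {n : ℕ} (hn : (n : K') ≠ 0) (τ : Module.End R M →ₗ[R] R)
    (hτ : ∀ z, (n : R) * τ (∑ g, ρ g * z * ρ g⁻¹) = (Fintype.card G : R) * LinearMap.trace R M z)
    {t' : K'} (ht' : t' ≠ 0)
    (hX : ∀ x, Comm ρ x → ∃ X : Matrix (Fin n) (Fin n) K', ∀ l, ι (τ (x ^ l)) = t' * (X ^ l).trace)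
    (hs0 : ι s ≠ 0) (hindex : (Fintype.card (G ⧸ C) : K') ≠ 0)
    (hc : ∀ d : ℕ, ∃ c : Fin d → R, (∀ i, ¬ ϖ ∣ c i) ∧ ∀ i j, ϖ ∣ c i - c j → i = j) :
    finrank k (redSub R k tc.L1) ≤ finrank k (redSub R k tc.L2) + n := by
  classical
  obtain ⟨d, u, φ, hd, hu, hφ2, hφu, hφn⟩ := exists_family tc hs hk hCT g0 he hg0 hζ hgen
  obtain ⟨c, hc0, hcinj⟩ := hc d
  rw [hd]
  suffices d ≤ n by omega
  choose z hz1 hz2 hz3 hz4 using fun i => tc.lift (φ i) (hφ2 i) (u i) (hu i)
  have hcs : ∀ i, ∀ w ∈ tc.L1, ld.Θ (csum ρ C (z i)) w - (e : R) • φ i w • u i ∈ tc.L2 :=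
    fun i w hw => csum_apply tc hp hCT hTN hN hfix hcard (hz1 i) (hz2 i) (hz3 i) (hφn i) hw
  let x : Module.End R M := ∑ i, c i • csum ρ C (z i)
  have hxc : Comm ρ x := Comm.sum _ fun i _ => (comm_csum (hz1 i)).smul _
  have hxu : ∀ j, ld.Θ x (u j) - ((e : R) * c j) • u j ∈ tc.L2 := by
    intro j
    have h1 : ld.Θ x (u j) - ((e : R) * c j) • u j = ∑ i, (c i • (ld.Θ (csum ρ C (z i)) (u j) -
        (e : R) • φ i (u j) • u i) + (c i * (e : R) * (φ i (u j) - if i = j then 1 else 0)) • u i) := by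
      simp only [x, map_sum, map_smul, LinearMap.sum_apply, LinearMap.smul_apply, smul_sub,
        Finset.sum_add_distrib, Finset.sum_sub_distrib, mul_sub, sub_smul, mul_ite, mul_one,
        mul_zero, ite_smul, zero_smul, Finset.sum_ite_eq', Finset.mem_univ, if_true, smul_smul]
      rw [mul_comm (e : R) (c j)]
      have h2 : ∀ i, c i * ((e : R) * φ i (u j)) = c i * (e : R) * φ i (u j) := fun i => by ring
      simp only [h2]
      abel
    rw [h1]
    apply Submodule.sum_mem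
    intro i _
    apply tc.L2.add_mem (tc.L2.smul_mem _ (hcs i (u j) (hu j)))
    exact red_mem_of_smul tc ((hφu i j).mul_left _) (hu i)
  have hpow : ∀ j m, ld.Θ (x ^ m) (u j) - ((e : R) * c j) ^ m • u j ∈ tc.L2 := by
    intro j m
    induction m with
    | zero =>
      rw [pow_zero, pow_zero, ld.Θ_one, Module.End.one_apply, one_smul, sub_self]
      exact tc.L2.zero_mem
    | succ m ih =>
      rw [pow_succ', ld.Θ_mul _ _ hxc (hxc.pow m), Module.End.mul_apply]
      have h1 := tc.stabΘ2 x hxc _ ih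
      rw [map_sub, map_smul] at h1
      have h2 := tc.L2.smul_mem (((e : R) * c j) ^ m) (hxu j)
      have h3 := tc.L2.add_mem h1 h2
      rw [smul_sub, sub_add_sub_cancel, smul_smul, ← pow_succ] at h3
      exact h3
  have hφpow : ∀ i m, ι (φ i (ld.Θ (x ^ m) (u i))) = (ι ((e : R) * c i)) ^ m := by
    intro i m
    have h1 : ϖ ∣ φ i (ld.Θ (x ^ m) (u i)) - ((e : R) * c i) ^ m * φ i (u i) := by
      have := hφ2 i _ (hpow i m)
      rwa [map_sub, map_smul, smul_eq_mul] at this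
    have h2 := hφu i i
    rw [if_pos rfl] at h2
    rw [← hι, map_sub, map_mul, sub_eq_zero] at h1
    rw [← hι, map_sub, map_one, sub_eq_zero] at h2
    rw [h1, h2, mul_one, map_pow]
  have hC0 : (Fintype.card C : R) ≠ 0 := by
    rw [Nat.cast_ne_zero]; exact Fintype.card_pos.ne'
  have hτc : ∀ z' : Module.End R M, (∀ c ∈ C, ρ c * z' = z' * ρ c) →
      (n : R) * τ (csum ρ C z') = (Fintype.card (G ⧸ C) : R) * LinearMap.trace R M z' := by
    intro z' hz'
    have h1 := hτ z'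
    rw [← card_smul_csum hz', map_nsmul, nsmul_eq_mul] at h1
    have h2 : Fintype.card G = Fintype.card (G ⧸ C) * Fintype.card C := by
      rw [← Nat.card_eq_fintype_card, ← Nat.card_eq_fintype_card, ← Nat.card_eq_fintype_card]
      exact Subgroup.card_eq_card_quotient_mul_card_subgroup C
    rw [h2, Nat.cast_mul] at h1
    apply mul_left_cancel₀ hC0
    linear_combination h1
  obtain ⟨X, hX⟩ := hX x hxc
  have hιe : ι (e : R) ≠ 0 := by
    rw [Ne, hι, ← hk, map_natCast]; exact he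
  have htr : ∀ l : ℕ, 1 ≤ l → (X ^ l).trace =
      ((Fintype.card (G ⧸ C) : K') * ι s / (ι (e : R) * (n : K') * t')) *
        ∑ i, (ι ((e : R) * c i)) ^ l := by
    intro l hl
    obtain ⟨m, rfl⟩ : ∃ m, l = m + 1 := ⟨l - 1, by omega⟩
    have h1 : x ^ (m + 1) = ∑ i, c i • csum ρ C (z i * x ^ m) := by
      rw [pow_succ']
      conv_lhs => rw [show x * x ^ m = (∑ i, c i • csum ρ C (z i)) * x ^ m from rfl]
      rw [Finset.sum_mul]
      refine Finset.sum_congr rfl fun i _ => ?_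
      rw [smul_mul_assoc, csum_mul (hxc.pow m)]
    have h2 : (n : R) * τ (x ^ (m + 1)) =
        ∑ i, c i * ((Fintype.card (G ⧸ C) : R) * (s * φ i (ld.Θ (x ^ m) (u i)))) := by
      rw [h1, map_sum, Finset.mul_sum]
      refine Finset.sum_congr rfl fun i _ => ?_
      rw [map_smul, smul_eq_mul, mul_left_comm, hτc _ _, hz4 i _ (hxc.pow m)]
      intro c' hc'
      rw [← mul_assoc, hz1 i c' hc', mul_assoc, (hxc.pow m) c', mul_assoc]
    have h3 := congrArg ι h2
    rw [map_mul, map_natCast, hX, map_sum] at h3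
    simp only [map_mul, map_natCast, hφpow] at h3
    have h4 : ∀ i, ι (c i) * ((Fintype.card (G ⧸ C) : K') * (ι s * (ι (e : R) * ι (c i)) ^ m)) =
        ((Fintype.card (G ⧸ C) : K') * ι s / ι (e : R)) * (ι (e : R) * ι (c i)) ^ (m + 1) := by
      intro i
      rw [pow_succ]
      field_simp
    simp only [map_natCast] at h3 h4 hιe ⊢
    simp only [h4, ← Finset.mul_sum] at h3
    simp only [map_mul, map_natCast]
    field_simp
    field_simp at h3
    linear_combination h3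
  have hfin := NilOp.card_le_of_trace X (fun i => ι ((e : R) * c i)) (by
    intro i j hij
    apply hcinj i j
    rw [← hι, map_sub, sub_eq_zero]
    simp only [map_mul] at hij
    exact mul_left_cancel₀ hιe hij) (by
    intro i
    rw [map_mul]
    exact mul_ne_zero hιe (by rw [Ne, hι]; exact hc0 i)) (κ :=
      (Fintype.card (G ⧸ C) : K') * ι s / (ι (e : R) * (n : K') * t'))
    (div_ne_zero (mul_ne_zero hindex hs0) (mul_ne_zero (mul_ne_zero hιe hn) ht')) htr
  rwa [Fintype.card_fin] at hfin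

end main

end Cfsg.Agent.Lib.TateLift
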