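import Cfsg.Agent.Lib.TateBound

/-!
# The two inequalities (helper78)
-/

namespace Cfsg.Agent.Lib.TateTwo

open Module TensorProduct Cfsg.Agent.Lib.RedMod Cfsg.Agent.Lib.TateLift Cfsg.Agent.Lib.TateCases
  Cfsg.Agent.Lib.TateData Cfsg.Agent.Lib.TransLat Cfsg.Agent.Lib.TateBound

variable {R : Type*} [CommRing R] [IsDomain R] [IsPrincipalIdealRing R] [CharZero R]
  {k : Type*} [Field k] [Algebra R k] {G : Type*} [Group G] [Fintype G]
  {T N C D : Subgroup G} [Fintype D] [Fintype C] [Fintype (G ⧸ C)]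

section abs

variable {M : Type*} [AddCommGroup M] [Module R M] [Module.Free R M] [Module.Finite R M]
  {ρ : Representation R G M}
  {L : Type*} [AddCommGroup L] [Module R L] [Module.Free R L] [Module.Finite R L]

theorem two_bounds_abs (ld : LiftData ρ T N L) {p : ℕ} [Fact p.Prime] [CharP k p]
    (hDp : Fintype.card D = p)
    (hDT : D ≤ T) (hCT : C ≤ T) (hTN : T ≤ N)
    (hDn : ∀ n ∈ T, ∀ d ∈ D, n * d * n⁻¹ ∈ D)
    (hDC : D ≤ C) (hC : ∀ c : T, (c : G) ∈ C → ∃ d : D, ld.σ c = ld.σ ⟨d, hDT d.2⟩)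
    (y : D) (hy : ∀ d : D, ∃ i : ℕ, d = y ^ i)
    (hs : Function.Surjective (algebraMap R k))
    (hk : ∀ r, algebraMap R k r = 0 ↔ (p : R) ∣ r)
    (hN : ∀ g ∈ N, ∀ d ∈ D, g⁻¹ * d * g ∈ C)
    (hfix : ∀ g : G, (∀ d ∈ D, g⁻¹ * d * g ∈ C) → g ∈ N) {e : ℕ}
    (hcard : Nat.card T = Nat.card C * e)
    (g0 : T) (he : (e : k) ≠ 0)
    (hg0 : (g0 : G) ^ e ∈ C) {ζ : k} (hζ : IsPrimitiveRoot ζ e)
    (hgen : T ≤ Subgroup.closure (C ∪ {(g0 : G)}))
    {K' : Type*} [Field K'] [Algebra R K'] (hι : ∀ r, algebraMap R K' r = 0 ↔ (p : R) ∣ r)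
    {n : ℕ} (hn : (n : K') ≠ 0)
    (τ : Module.End R M →ₗ[R] R)
    (hτ : ∀ z, (n : R) * τ (∑ g, ρ g * z * ρ g⁻¹) = (Fintype.card G : R) * LinearMap.trace R M z)
    {t' : K'} (ht' : t' ≠ 0)
    (hX : ∀ x, Comm ρ x → ∃ X : Matrix (Fin n) (Fin n) K', ∀ l,
      algebraMap R K' (τ (x ^ l)) = t' * (X ^ l).trace)
    (hs0 : algebraMap R K' ld.f0 ≠ 0) (hindex : (Fintype.card (G ⧸ C) : K') ≠ 0)
    (hc : ∀ d : ℕ, ∃ c : Fin d → R, (∀ i, ¬ (p : R) ∣ c i) ∧ ∀ i j, (p : R) ∣ c i - c j → i = j)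
    {b s : ℕ} (hrankL : finrank R L = n * b)
    (htr : LinearMap.trace R L (TD ld hDT) = ((n * (p * s) : ℕ) : R)) :
    p * s ≤ b + p ∧ b ≤ p * s + p := by
  have hp : p.Prime := Fact.out
  haveI : NoZeroSMulDivisors R L := by
    constructor
    intro c x hcx
    by_contra hcon
    push Not at hcon
    apply hcon.2
    let B := Module.Free.chooseBasis R L
    apply B.ext_elem
    intro i
    have h1 := congrArg (fun v => B.repr v i) hcx
    simp only [map_smul, Finsupp.smul_apply, smul_eq_mul, map_zero, Finsupp.zero_apply] at h1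
    rw [map_zero, Finsupp.zero_apply]
    exact (mul_eq_zero.mp h1).resolve_left hcon.1
  have hn0 : n ≠ 0 := by rintro rfl; exact hn (by simp)
  have hk' : ∀ r, algebraMap R k r = 0 ↔ (Fintype.card D : R) ∣ r := by rw [hDp]; exact hk
  have hι' : ∀ r, algebraMap R K' r = 0 ↔ (Fintype.card D : R) ∣ r := by rw [hDp]; exact hι
  have hc' : ∀ d : ℕ, ∃ c : Fin d → R, (∀ i, ¬ (Fintype.card D : R) ∣ c i) ∧
      ∀ i j, (Fintype.card D : R) ∣ c i - c j → i = j := by rw [hDp]; exact hc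
  have hp' : Nat.Prime (Fintype.card D) := by rw [hDp]; exact hp
  have b0 := bound (k := k) (case0 (ld := ld) (hDT := hDT) hDC hDn hC hCT) hp' hs hk' hCT hTN hN hfix hcard g0 he hg0 hζ hgen
    (algebraMap R K') hι' hn τ hτ ht' hX hs0 hindex hc'
  have b1 := bound (k := k) (case1 (ld := ld) (hDT := hDT) hDn hC hCT y hy) hp' hs hk' hCT hTN hN hfix hcard g0 he hg0 hζ hgen
    (algebraMap R K') hι' hn τ hτ ht' hX (by rw [map_neg, neg_ne_zero]; exact hs0) hindex hc'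
  rw [finrank_redSub hs hk' _ (case0 (ld := ld) (hDT := hDT) hDC hDn hC hCT).pure] at b0
  rw [finrank_redSub hs hk' _ (case1 (ld := ld) (hDT := hDT) hDn hC hCT y hy).pure] at b1
  have hYp : (ld.σ ⟨y, hDT y.2⟩) ^ p = 1 := by
    rw [← map_pow]
    have h1 : (⟨y, hDT y.2⟩ : T) ^ p = 1 := by
      apply Subtype.ext
      show (y : G) ^ p = 1
      rw [← Subgroup.coe_pow, ← hDp, pow_card_eq_one, Subgroup.coe_one]
    rw [h1, map_one]
  have hcounts := counts (k := k) hs (ld.σ ⟨y, hDT y.2⟩) hYp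
  have hTDy : TD ld hDT = ∑ i ∈ Finset.range p, (ld.σ ⟨y, hDT y.2⟩) ^ i := by
    rw [TD, sum_eq_sum_pow hDp y hy (fun d => ld.σ ⟨d, hDT d.2⟩)]
    refine Finset.sum_congr rfl fun i _ => ?_
    rw [← map_pow]
    rfl
  rw [← hTDy, hrankL] at hcounts
  have hL20 : (case0 (ld := ld) (hDT := hDT) hDC hDn hC hCT).L2 = LinearMap.range (TD ld hDT) := rfl
  have hL21 : (case1 (ld := ld) (hDT := hDT) hDn hC hCT y hy).L2 =
    LinearMap.range (ld.σ ⟨y, hDT y.2⟩ - 1) := rfl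
  have hL11 : (case1 (ld := ld) (hDT := hDT) hDn hC hCT y hy).L1 =
    LinearMap.ker (TD ld hDT) := rfl
  rw [hL20] at b0
  rw [hL21, hL11] at b1
  -- the fixed points
  have g1 : LinearMap.trace R L (TD ld hDT) =
      (p : R) * finrank R (case0 (ld := ld) (hDT := hDT) hDC hDn hC hCT).L1 := by
    apply trace_of_sq
    · intro w
      exact (case0 (ld := ld) (hDT := hDT) hDC hDn hC hCT).le ⟨w, rfl⟩
    · intro w hw
      rw [TD_apply]
      have : ∀ d : D, ld.σ ⟨d, hDT d.2⟩ w = w := hw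
      simp only [this, Finset.sum_const, Finset.card_univ]
      rw [hDp, Nat.cast_smul_eq_nsmul]
  have g2 : LinearMap.trace R L (TD ld hDT) = (p : R) * finrank R (LinearMap.range (TD ld hDT)) := by
    apply trace_of_sq
    · intro w
      exact ⟨w, rfl⟩
    · rintro _ ⟨w, rfl⟩
      rw [TD_apply]
      simp only [sig_TD, Finset.sum_const, Finset.card_univ]
      rw [hDp, Nat.cast_smul_eq_nsmul]
  have g3 : finrank R (LinearMap.range (TD ld hDT)) + finrank R (LinearMap.ker (TD ld hDT)) =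
      n * b := by
    rw [← hrankL, ← Submodule.finrank_quotient_add_finrank (LinearMap.ker (TD ld hDT)),
      (LinearMap.quotKerEquivRange (TD ld hDT)).finrank_eq]
  have g4 : finrank R (case0 (ld := ld) (hDT := hDT) hDC hDn hC hCT).L1 = n * s := by
    rw [htr] at g1
    have h1 : n * (p * s) = p * finrank R (case0 (ld := ld) (hDT := hDT) hDC hDn hC hCT).L1 := by
      exact_mod_cast g1
    have h2 : p * (n * s) = p * finrank R (case0 (ld := ld) (hDT := hDT) hDC hDn hC hCT).L1 := by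
      rw [← h1]; ring
    exact (Nat.eq_of_mul_eq_mul_left hp.pos h2).symm
  have g5 : finrank R (LinearMap.range (TD ld hDT)) = n * s := by
    rw [htr] at g2
    have h1 : n * (p * s) = p * finrank R (LinearMap.range (TD ld hDT)) := by exact_mod_cast g2
    have h2 : p * (n * s) = p * finrank R (LinearMap.range (TD ld hDT)) := by rw [← h1]; ring
    exact (Nat.eq_of_mul_eq_mul_left hp.pos h2).symm
  have g7 : n * s ≤ n * b := by rw [← g3, g5]; omega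
  have g6 : finrank R (LinearMap.ker (TD ld hDT)) = n * b - n * s := by
    rw [← g3, g5]; omega
  rw [g4] at b0
  rw [g6] at b1
  have hnpos : 0 < n := Nat.pos_of_ne_zero hn0
  generalize finrank k (redSub R k (LinearMap.range (TD ld hDT))) = A0 at *
  generalize finrank k (redSub R k (LinearMap.range (ld.σ ⟨y, hDT y.2⟩ - 1))) = A1 at *
  constructor
  · have h1 : p * (n * s) ≤ n * b + p * n := by
      calc p * (n * s) ≤ p * (A0 + n) := Nat.mul_le_mul_left _ b0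
        _ = p * A0 + p * n := by ring
        _ ≤ n * b + p * n := Nat.add_le_add_right hcounts.1 _
    have h2 : n * (p * s) ≤ n * (b + p) := by
      calc n * (p * s) = p * (n * s) := by ring
        _ ≤ _ := h1
        _ = n * (b + p) := by ring
    exact Nat.le_of_mul_le_mul_left h2 hnpos
  · have h1 : p * (n * b - n * s) ≤ (p - 1) * (n * b) + p * n := by
      calc p * (n * b - n * s) ≤ p * (A1 + n) := Nat.mul_le_mul_left _ b1
        _ = p * A1 + p * n := by ring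
        _ ≤ (p - 1) * (n * b) + p * n := Nat.add_le_add_right hcounts.2 _
    obtain ⟨q, hq⟩ : ∃ q, p = q + 1 := ⟨p - 1, (Nat.succ_pred_eq_of_pos hp.pos).symm⟩
    have h2 : n * b ≤ n * (p * s + p) := by
      have h3 : p * (n * b - n * s) + p * (n * s) = p * (n * b) := by
        rw [← mul_add, Nat.sub_add_cancel g7]
      have h4 : (p - 1) * (n * b) + n * b = p * (n * b) := by
        rw [hq, Nat.add_sub_cancel]; ring
      have h5 : n * (p * s + p) = p * (n * s) + p * n := by ring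
      omega
    exact Nat.le_of_mul_le_mul_left h2 hnpos

end abs

variable {V : Subgroup G} [Fintype V]
  {U : Type*} [AddCommGroup U] [Module R U] [Module.Free R U] [Module.Finite R U]
  {r : Representation R T U}

theorem two_bounds_aux {M : Type*} [AddCommGroup M] [Module R M] [Module.Free R M] [Module.Finite R M]
    (ρ : Representation R G M) {p : ℕ} [Fact p.Prime] [CharP k p] (hDp : Fintype.card D = p)
    (hDT : D ≤ T) (hVT : V ≤ T) (hCT : C ≤ T) (hTN : T ≤ N)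
    (hVN : ∀ n ∈ N, ∀ v ∈ V, n * v * n⁻¹ ∈ V) (hDn : ∀ n ∈ T, ∀ d ∈ D, n * d * n⁻¹ ∈ D)
    (hDC : D ≤ C) (hCDV : ∀ c ∈ C, ∃ d ∈ D, ∃ v ∈ V, c = d * v)
    (y : D) (hy : ∀ d : D, ∃ i : ℕ, d = y ^ i)
    (f0 vi : R) (hvi : vi * (Fintype.card V : R) = 1) (hf0 : (finrank R U : R) = f0)
    (hS : Schur V r hVT f0 vi)
    (hO : ∀ g (hg : g ∈ N), g ∉ T → ∀ A : U →ₗ[R] U,
      ∑ v : V, r ⟨g * v * g⁻¹, hVT (hVN g hg v v.2)⟩ ∘ₗ A ∘ₗ r ⟨v, hVT v.2⟩⁻¹ = 0)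
    (hs : Function.Surjective (algebraMap R k))
    (hk : ∀ r, algebraMap R k r = 0 ↔ (p : R) ∣ r)
    (hN : ∀ g ∈ N, ∀ d ∈ D, g⁻¹ * d * g ∈ C)
    (hfix : ∀ g : G, (∀ d ∈ D, g⁻¹ * d * g ∈ C) → g ∈ N) {e : ℕ}
    (hcard : Nat.card T = Nat.card C * e)
    (g0 : T) (he : (e : k) ≠ 0)
    (hg0 : (g0 : G) ^ e ∈ C) {ζ : k} (hζ : IsPrimitiveRoot ζ e)
    (hgen : T ≤ Subgroup.closure (C ∪ {(g0 : G)}))
    {K' : Type*} [Field K'] [Algebra R K'] (hι : ∀ r, algebraMap R K' r = 0 ↔ (p : R) ∣ r)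
    {n : ℕ} (hn : (n : K') ≠ 0)
    {Ξ : G → R} (htrace : ∀ g, LinearMap.trace R M (ρ g) = n * Ξ g)
    (τ : Module.End R M →ₗ[R] R)
    (hτ : ∀ z, (n : R) * τ (∑ g, ρ g * z * ρ g⁻¹) = (Fintype.card G : R) * LinearMap.trace R M z)
    {t' : K'} (ht' : t' ≠ 0)
    (hX : ∀ x, Comm ρ x → ∃ X : Matrix (Fin n) (Fin n) K', ∀ l,
      algebraMap R K' (τ (x ^ l)) = t' * (X ^ l).trace)
    (hs0 : algebraMap R K' f0 ≠ 0) (hindex : (Fintype.card (G ⧸ C) : K') ≠ 0)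
    (hc : ∀ d : ℕ, ∃ c : Fin d → R, (∀ i, ¬ (p : R) ∣ c i) ∧ ∀ i j, (p : R) ∣ c i - c j → i = j)
    {b s : ℕ}
    (hb : (b : R) = vi * ∑ v : V, Ξ v * LinearMap.trace R U (r (⟨v, hVT v.2⟩ : T)⁻¹))
    (hsum : ((p * s : ℕ) : R) = vi * ∑ d : D, ∑ v : V, Ξ (d * v) *
      LinearMap.trace R U (r ((⟨d, hDT d.2⟩ : T) * ⟨v, hVT v.2⟩)⁻¹)) :
    p * s ≤ b + p ∧ b ≤ p * s + p := by
  subst hf0
  have hVT' : ∀ n ∈ T, ∀ v ∈ V, n * v * n⁻¹ ∈ V := fun n hn => hVN n (hTN hn)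
  obtain ⟨ld, hld⟩ : ∃ ld : LiftData ρ T N (homV ρ r V hVT),
      ld = liftData hVN hTN (finrank R U : R) vi hvi rfl hS hO := ⟨_, rfl⟩
  have hldσ : ld.σ = sig (hVT := hVT) hVT' := by rw [hld]; rfl
  have hldf : ld.f0 = (finrank R U : R) := by rw [hld]; rfl
  have hC : ∀ c : T, (c : G) ∈ C → ∃ d : D, ld.σ c = ld.σ ⟨d, hDT d.2⟩ := by
    intro c hc
    obtain ⟨d, hd, v, hv, hcdv⟩ := hCDV c hc
    refine ⟨⟨d, hd⟩, ?_⟩
    have h1 : c = ⟨d, hDT hd⟩ * ⟨v, hVT hv⟩ := Subtype.ext hcdv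
    have h2 : ld.σ (⟨v, hVT hv⟩ : T) = 1 := by
      rw [hldσ]
      ext w : 2
      exact w.2 v hv
    rw [h1, map_mul, h2, mul_one]
  have hrankL : finrank R (homV ρ r V hVT) = n * b := by
    have h1 := finrank_homV (ρ := ρ) (r := r) (hVT := hVT) (hVn := hVT') hvi
    simp only [htrace] at h1
    have h2 : (finrank R (homV ρ r V hVT) : R) = ((n * b : ℕ) : R) := by
      push_cast
      rw [hb]
      refine h1.trans ?_
      simp only [Finset.mul_sum]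
      refine Finset.sum_congr rfl fun v _ => ?_
      ring
    exact_mod_cast h2
  have htr : LinearMap.trace R (homV ρ r V hVT) (TD ld hDT) = ((n * (p * s) : ℕ) : R) := by
    rw [TD, map_sum]
    have h1 : ∀ d : D, LinearMap.trace R (homV ρ r V hVT) (ld.σ ⟨d, hDT d.2⟩) =
        vi * ∑ v : V, (n * Ξ (d * v)) *
          LinearMap.trace R U (r ((⟨d, hDT d.2⟩ : T) * ⟨v, hVT v.2⟩)⁻¹) := by
      intro d
      rw [hldσ]
      refine (trace_sig (ρ := ρ) (r := r) (hVT := hVT) (hVn := hVT') hvi ⟨d, hDT d.2⟩).trans ?_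
      simp only [htrace]
    simp only [h1]
    have h2 : ((n * (p * s) : ℕ) : R) = (n : R) * ((p * s : ℕ) : R) := by push_cast; ring
    rw [h2, hsum]
    simp only [Finset.mul_sum]
    refine Finset.sum_congr rfl fun d _ => Finset.sum_congr rfl fun v _ => ?_
    ring
  exact two_bounds_abs (k := k) ld hDp hDT hCT hTN hDn hDC hC y hy hs hk hN hfix hcard g0 he hg0 hζ
    hgen hι hn τ hτ ht' hX (by rw [hldf]; exact hs0) hindex hc hrankL htr

theorem two_bounds {p : ℕ} [Fact p.Prime] [CharP k p] (hDp : Fintype.card D = p)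
    (hDT : D ≤ T) (hVT : V ≤ T) (hCT : C ≤ T) (hTN : T ≤ N)
    (hVN : ∀ n ∈ N, ∀ v ∈ V, n * v * n⁻¹ ∈ V) (hDn : ∀ n ∈ T, ∀ d ∈ D, n * d * n⁻¹ ∈ D)
    (hDC : D ≤ C) (hCDV : ∀ c ∈ C, ∃ d ∈ D, ∃ v ∈ V, c = d * v)
    (y : D) (hy : ∀ d : D, ∃ i : ℕ, d = y ^ i)
    (f0 vi : R) (hvi : vi * (Fintype.card V : R) = 1) (hf0 : (finrank R U : R) = f0)
    (hS : Schur V r hVT f0 vi)
    (hO : ∀ g (hg : g ∈ N), g ∉ T → ∀ A : U →ₗ[R] U,
      ∑ v : V, r ⟨g * v * g⁻¹, hVT (hVN g hg v v.2)⟩ ∘ₗ A ∘ₗ r ⟨v, hVT v.2⟩⁻¹ = 0)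
    (hs : Function.Surjective (algebraMap R k))
    (hk : ∀ r, algebraMap R k r = 0 ↔ (p : R) ∣ r)
    (hN : ∀ g ∈ N, ∀ d ∈ D, g⁻¹ * d * g ∈ C)
    (hfix : ∀ g : G, (∀ d ∈ D, g⁻¹ * d * g ∈ C) → g ∈ N) {e : ℕ}
    (hcard : Nat.card T = Nat.card C * e)
    (g0 : T) (he : (e : k) ≠ 0)
    (hg0 : (g0 : G) ^ e ∈ C) {ζ : k} (hζ : IsPrimitiveRoot ζ e)
    (hgen : T ≤ Subgroup.closure (C ∪ {(g0 : G)}))
    {K' : Type*} [Field K'] [Algebra R K'] (hι : ∀ r, algebraMap R K' r = 0 ↔ (p : R) ∣ r)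
    {n : ℕ} (hn : (n : K') ≠ 0)
    {Ξ : G → R} (hΞ : ∀ g h, Ξ (g * h) = Ξ (h * g)) (hR : Repr (n : R) Ξ)
    (r1 : G →* Matrix (Fin n) (Fin n) K') {t' : K'} (ht' : t' ≠ 0)
    (hr : ∀ g, algebraMap R K' (Ξ g) = t' * (r1 g).trace)
    (hs0 : algebraMap R K' f0 ≠ 0) (hindex : (Fintype.card (G ⧸ C) : K') ≠ 0)
    (hc : ∀ d : ℕ, ∃ c : Fin d → R, (∀ i, ¬ (p : R) ∣ c i) ∧ ∀ i j, (p : R) ∣ c i - c j → i = j)
    {b s : ℕ}
    (hb : (b : R) = vi * ∑ v : V, Ξ v * LinearMap.trace R U (r (⟨v, hVT v.2⟩ : T)⁻¹))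
    (hsum : ((p * s : ℕ) : R) = vi * ∑ d : D, ∑ v : V, Ξ (d * v) *
      LinearMap.trace R U (r ((⟨d, hDT d.2⟩ : T) * ⟨v, hVT v.2⟩)⁻¹)) :
    p * s ≤ b + p ∧ b ≤ p * s + p :=
  two_bounds_aux (k := k) (rep hΞ) hDp hDT hVT hCT hTN hVN hDn hDC hCDV y hy f0 vi hvi hf0 hS hO hs hk hN
    hfix hcard g0 he hg0 hζ hgen hι hn (trace_rep hΞ hR) (tau Ξ) (trace_formula hΞ hR) ht'
    (exists_matrix hΞ r1 hr) hs0 hindex hc hb hsum

end Cfsg.Agent.Lib.TateTwo
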