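import Cfsg.Agent.Lib.TenOO1
import Cfsg.Agent.Lib.TenOO_L

/-! Piece A1b of S5681 + S5709 (helper10). -/

set_option autoImplicit false
set_option linter.all false

namespace Cfsg.Agent.Lib.TenOO_A1b

open QuadraticMap Module Cfsg.Agent.Lib.Quad Cfsg.Agent.Lib.OrthMax Cfsg.Agent.Lib.OrthNd Cfsg.Agent.Lib.TenSLH94
open Cfsg.Agent.Lib.TenOO

variable {F E W : Type*} [Field F] [AddCommGroup E] [Module F E] [FiniteDimensional F E]
  [AddCommGroup W] [Module F W] [FiniteDimensional F W]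

/-- the lemmas of piece L -/
structure LL (QE : QuadraticForm F E) : Prop where
  irr : ∀ {S : Submodule F E}, S ≠ ⊥ → (∀ a f, QE a = 0 → polar QE a f = 0 → ∀ x ∈ S, siegMap QE a f x ∈ S) → S = ⊤
  fixd : ∀ {a y : E}, a ≠ 0 → QE a = 0 → (∀ f, polar QE a f = 0 → siegMap QE a f y = y) → ∃ c : F, y = c • a
  span_sing : Submodule.span F {a | QE a = 0} = ⊤

theorem siegMap_self {QE : QuadraticForm F E} {a f : E} (ha : QE a = 0) (haf : polar QE a f = 0) :
    siegMap QE a f a = a := by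
  have h1 : polar QE a a = 0 := by
    rw [polar_self, ha]; simp
  have h2 : polar QE f a = 0 := by rw [polar_comm]; exact haf
  rw [siegMap_apply, h1, h2]
  simp

theorem siegMap_pt {QE : QuadraticForm F E} {a f x : E} (φ : Dual F W) :
    (siegMap QE a f) ∘ₗ (pt x φ : W →ₗ[F] E) = pt (siegMap QE a f x) φ := by
  apply LinearMap.ext
  intro w
  rw [LinearMap.comp_apply, pt_apply, pt_apply, map_smul]

theorem pair_core {QE : QuadraticForm F E} (L : LL QE) (hE : 1 ≤ finrank F E) (hW : 2 ≤ finrank F W)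
    {g : (W →ₗ[F] E) ≃ₗ[F] (W →ₗ[F] E)} (A : E ≃ₗ[F] E)
    (h : ∀ a f, QE a = 0 → polar QE a f = 0 → ∀ v : W →ₗ[F] E, g ((siegMap QE a f) ∘ₗ v) =
      (A : E →ₗ[F] E) ∘ₗ (siegMap QE a f) ∘ₗ (A.symm : E →ₗ[F] E) ∘ₗ (g v)) : ∃ p q, g = ac p q := by
  -- a singular vector
  obtain ⟨a₀, ha₀, hQa₀⟩ : ∃ a₀ : E, a₀ ≠ 0 ∧ QE a₀ = 0 := by
    by_contra hcon
    have h0 : Submodule.span F {a | QE a = 0} = ⊥ := by
      rw [Submodule.span_eq_bot]
      intro a ha
      by_contra hne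
      exact hcon ⟨a, hne, ha⟩
    rw [L.span_sing] at h0
    haveI : Nontrivial E := Module.finrank_pos_iff (R := F).1 (by omega)
    exact top_ne_bot h0
  have hA₀ : A a₀ ≠ 0 := by
    intro e
    exact ha₀ (by simpa using e)
  obtain ⟨α, hα⟩ := exists_dual0 (F := F) hA₀
  -- the images of the tensors with a₀
  have key : ∀ φ : Dual F W, g (pt a₀ φ) = pt (A a₀) (α ∘ₗ g (pt a₀ φ)) := by
    intro φ
    apply LinearMap.ext
    intro w
    have h1 : ∃ c : F, A.symm (g (pt a₀ φ) w) = c • a₀ := by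
      apply L.fixd ha₀ hQa₀
      intro f hf
      have h2 := h a₀ f hQa₀ hf (pt a₀ φ)
      rw [siegMap_pt, siegMap_self hQa₀ hf] at h2
      have h3 := congrArg (fun v : W →ₗ[F] E => A.symm (v w)) h2
      simp only [LinearMap.comp_apply, LinearEquiv.coe_coe, LinearEquiv.symm_apply_apply] at h3
      exact h3.symm
    obtain ⟨c, hc⟩ := h1
    have h4 : g (pt a₀ φ) w = c • A a₀ := by
      have := congrArg A hc
      rwa [LinearEquiv.apply_symm_apply, map_smul] at this
    rw [pt_apply, LinearMap.comp_apply, h4, map_smul, hα, smul_eq_mul, mul_one]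
  let S : Submodule F E :=
    { carrier := {x | ∀ φ : Dual F W, g (pt x φ) = pt (A x) (α ∘ₗ g (pt a₀ φ))}
      add_mem' := by
        intro x y hx hy φ
        rw [map_add, map_add, map_add, LinearMap.add_apply, LinearMap.add_apply, map_add, hx φ, hy φ]
      zero_mem' := by
        intro φ
        rw [map_zero, map_zero, map_zero, LinearMap.zero_apply, LinearMap.zero_apply, map_zero]
      smul_mem' := by
        intro c x hx φ
        rw [map_smul, map_smul, map_smul, LinearMap.smul_apply, LinearMap.smul_apply, map_smul, hx φ] }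
  have hS : S = ⊤ := by
    apply L.irr
    · intro hbot
      have : a₀ ∈ S := key
      rw [hbot, Submodule.mem_bot] at this
      exact ha₀ this
    · intro a f hQ hf x hx φ
      have h1 := h a f hQ hf (pt x φ)
      rw [siegMap_pt, hx φ] at h1
      rw [h1]
      apply LinearMap.ext
      intro w
      simp only [LinearMap.comp_apply, pt_apply, map_smul, LinearEquiv.coe_coe, LinearEquiv.symm_apply_apply]
  refine fund hE hW ?_
  intro b hb
  refine ⟨α ∘ₗ g (pt a₀ b), fun a => ?_⟩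
  have ha : a ∈ S := by rw [hS]; trivial
  rw [ha b]
  exact pt_mem_sp _ _

theorem pair_of_inter [Finite F] {QE : QuadraticForm F E} {QW : QuadraticForm F W} {Q : QuadraticForm F (W →ₗ[F] E)}
    {M : Subgroup ((W →ₗ[F] E) ≃ₗ[F] (W →ₗ[F] E))} (T : TO QE QW Q M)
    {g : (W →ₗ[F] E) ≃ₗ[F] (W →ₗ[F] E)} (A : E ≃ₗ[F] E) (k : F) (hk : k ≠ 0)
    (hA : ∀ x y, polar QE (A x) (A y) = k * polar QE x y)
    (h : ∀ a f, QE a = 0 → polar QE a f = 0 → ∀ v : W →ₗ[F] E, g ((siegMap QE a f) ∘ₗ v) =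
      (A : E →ₗ[F] E) ∘ₗ (siegMap QE a f) ∘ₗ (A.symm : E →ₗ[F] E) ∘ₗ (g v)) : ∃ p q, g = ac p q :=
  pair_core ⟨fun hS hh => TenOO_L.irr T.h2 T.ndE T.hE hS hh, fun ha hQa hh => TenOO_L.fixd T.h2 T.ndE T.hE ha hQa hh,
    TenOO_L.span_sing T.h2 T.ndE T.hE⟩ (by have := T.hE; omega) (by have := T.hW; omega) A h

end Cfsg.Agent.Lib.TenOO_A1b
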