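import Cfsg.Agent.Lib.TenOO1

/-!
# Overgroups of `O ⊗ O`: elements mapping `E ⊗ L` to `E ⊗ L'` are pairs
-/

set_option autoImplicit false
set_option linter.all false

namespace Cfsg.Agent.Lib.TenOO_A2

open QuadraticMap Module Cfsg.Agent.Lib.Quad Cfsg.Agent.Lib.OrthMax Cfsg.Agent.Lib.OrthNd Cfsg.Agent.Lib.TenSLH94
open Cfsg.Agent.Lib.TenOO

variable {F E W : Type*} [Field F] [AddCommGroup E] [Module F E] [FiniteDimensional F E]
  [AddCommGroup W] [Module F W] [FiniteDimensional F W]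
  {QE : QuadraticForm F E} {QW : QuadraticForm F W} {Q : QuadraticForm F (W →ₗ[F] E)}
  {M : Subgroup ((W →ₗ[F] E) ≃ₗ[F] (W →ₗ[F] E))}

theorem exists_ew (T : TO QE QW Q M) (b c : W) : ∃ e w : W, polar QW b e = 0 ∧ polar QW c e = 0 ∧
    polar QW b w = 0 ∧ polar QW c w = 0 ∧ polar QW w e = 1 := by
  classical
  set L : Submodule F W := Submodule.span F (({b, c} : Finset W) : Set W) with hL
  have hb : b ∈ L := Submodule.subset_span (by simp)
  have hc : c ∈ L := Submodule.subset_span (by simp)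
  have h1 : finrank F L ≤ 2 := (finrank_span_finset_le_card ({b, c} : Finset W)).trans Finset.card_le_two
  have h2 := T.ndW.finrank_add_finrank_perp L
  have h5 := T.hW
  have hnot : ¬ perp QW L ≤ L := by
    intro hle
    have := Submodule.finrank_mono hle
    omega
  obtain ⟨e, he, heL⟩ := Set.not_subset.1 hnot
  obtain ⟨w, hw, hew⟩ := T.ndW.exists_polar_one L heL
  exact ⟨e, w, he b hb, he c hc, hw b hb, hw c hc, by rw [polar_comm]; exact hew⟩

theorem tb_add (x y : E) (b : W) : tb QW (x + y) b = tb QW x b + tb QW y b := by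
  apply LinearMap.ext; intro w; simp only [tb_apply, LinearMap.add_apply, smul_add]

theorem tb_zero (b : W) : tb QW (0 : E) b = 0 := by
  apply LinearMap.ext; intro w; simp only [tb_apply, smul_zero, LinearMap.zero_apply]

/-- the map onto `E ⊗ L` -/
noncomputable def Psi (QW : QuadraticForm F W) (b c : W) : (E × E) →ₗ[F] (W →ₗ[F] E) :=
  LinearMap.coprod ((pt : E →ₗ[F] Dual F W →ₗ[F] (W →ₗ[F] E)).flip (polarBilin QW b))
    ((pt : E →ₗ[F] Dual F W →ₗ[F] (W →ₗ[F] E)).flip (polarBilin QW c))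

theorem Psi_apply (b c : W) (x y : E) : Psi QW b c (x, y) = tb QW x b + tb QW y c := rfl

theorem exists_sep (hW : Nd QW) {b c : W} (h : Ln QW b c) : ∃ w, polar QW b w = 1 ∧ polar QW c w = 0 := by
  have hnm : b ∉ Submodule.span F {c} := by
    intro hm
    obtain ⟨t, ht⟩ := Submodule.mem_span_singleton.1 hm
    have := (LinearIndependent.pair_iff.1 h.2.2.2) 1 (-t) (by rw [one_smul, neg_smul, ← ht]; abel)
    exact one_ne_zero this.1
  obtain ⟨y, hy, hby⟩ := hW.exists_polar_one _ hnm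
  exact ⟨y, hby, hy c (Submodule.mem_span_singleton_self c)⟩

theorem ln_symm {b c : W} (h : Ln QW b c) : Ln QW c b := by
  refine ⟨h.2.1, h.1, ?_, ?_⟩
  · rw [polar_comm]; exact h.2.2.1
  · rw [LinearIndependent.pair_symm_iff]; exact h.2.2.2

theorem Psi_inj (hW : Nd QW) {b c : W} (h : Ln QW b c) : Function.Injective (Psi (E := E) QW b c) := by
  rw [← LinearMap.ker_eq_bot, LinearMap.ker_eq_bot']
  rintro ⟨x, y⟩ hxy
  rw [Psi_apply] at hxy
  obtain ⟨w, h1, h2⟩ := exists_sep hW h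
  obtain ⟨z, h3, h4⟩ := exists_sep hW (ln_symm h)
  have e1 := congrArg (fun v : W →ₗ[F] E => v w) hxy
  have e2 := congrArg (fun v : W →ₗ[F] E => v z) hxy
  simp only [LinearMap.add_apply, tb_apply, h1, h2, h3, h4, one_smul, zero_smul, add_zero, zero_add, LinearMap.zero_apply] at e1 e2
  rw [e1, e2]; rfl

/-- surjectivity -/
theorem sur (hW : Nd QW) {g : (W →ₗ[F] E) ≃ₗ[F] (W →ₗ[F] E)} {b c b' c' : W} (h : Ln QW b c) (h' : Ln QW b' c')
    (hg : ∀ x y, ∃ x' y', g (tb QW x b + tb QW y c) = tb QW x' b' + tb QW y' c') (x' y' : E) :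
    ∃ x y, g (tb QW x b + tb QW y c) = tb QW x' b' + tb QW y' c' := by
  have hle : (LinearMap.range (Psi (E := E) QW b c)).map (g : (W →ₗ[F] E) →ₗ[F] (W →ₗ[F] E)) ≤
      LinearMap.range (Psi (E := E) QW b' c') := by
    rintro _ ⟨_, ⟨⟨x, y⟩, rfl⟩, rfl⟩
    obtain ⟨x', y', hh⟩ := hg x y
    exact ⟨(x', y'), hh.symm⟩
  have heq := Submodule.eq_of_le_of_finrank_eq hle (by
    rw [LinearEquiv.finrank_map_eq, LinearMap.finrank_range_of_inj (Psi_inj hW h), LinearMap.finrank_range_of_inj (Psi_inj hW h')])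
  have hm : Psi QW b' c' (x', y') ∈ (LinearMap.range (Psi (E := E) QW b c)).map (g : (W →ₗ[F] E) →ₗ[F] (W →ₗ[F] E)) := by
    rw [heq]; exact ⟨_, rfl⟩
  obtain ⟨_, ⟨⟨x, y⟩, rfl⟩, hh⟩ := hm
  exact ⟨x, y, hh⟩

theorem perpL (T : TO QE QW Q M) {g : (W →ₗ[F] E) ≃ₗ[F] (W →ₗ[F] E)} (hg : g ∈ O Q) {b c b' c' : W}
    (h : ∀ x y, ∃ x' y', g (tb QW x b + tb QW y c) = tb QW x' b' + tb QW y' c') {v u : W →ₗ[F] E} (hvu : g v = u)
    (h1 : u b' = 0) (h2 : u c' = 0) : v b = 0 ∧ v c = 0 := by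
  constructor
  · apply T.ndE.eq_zero
    intro x
    rw [← T.pol]
    obtain ⟨x', y', hx⟩ := h x 0
    rw [tb_zero, add_zero] at hx
    rw [← O_polar hg, hvu, hx, polar_add_left, T.pol, T.pol, h1, h2, polar_zero_left, polar_zero_left, add_zero]
  · apply T.ndE.eq_zero
    intro x
    rw [← T.pol]
    obtain ⟨x', y', hx⟩ := h 0 x
    rw [tb_zero, zero_add] at hx
    rw [← O_polar hg, hvu, hx, polar_add_left, T.pol, T.pol, h1, h2, polar_zero_left, polar_zero_left, add_zero]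

/-- functionals are polar forms -/
theorem rep (hQ : Nd QW) (f : W →ₗ[F] F) : ∃ p, f = polarBilin QW p := by
  exact ⟨(LinearMap.BilinForm.toDual (polarBilin QW) hQ).symm f,
    ((LinearMap.BilinForm.toDual (polarBilin QW) hQ).apply_symm_apply f).symm⟩

theorem lineF (T : TO QE QW Q M) (hF : FixF QW M) : LineF QW M := by
  intro g hg b c b' c' hL hL' hgL
  have hgO : g ∈ O Q := T.hM hg
  obtain ⟨e, w, hbe, hce, hbw, hcw, hwe⟩ := exists_ew T b c
  obtain ⟨s, hs, hsv⟩ := T.tB b e hL.1 hbe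
  have hsur := sur T.ndW hL hL' hgL
  have hE := T.hE
  obtain ⟨x0, hx0⟩ := Module.finrank_pos_iff_exists_ne_zero.1 (show 0 < finrank F E by omega)
  have hb0 : b ≠ 0 := hL.2.2.2.ne_zero 0
  have hb'0 : b' ≠ 0 := hL'.2.2.2.ne_zero 0
  -- s fixes U_L
  have hfix : ∀ x y, s (tb QW x b + tb QW y c) = tb QW x b + tb QW y c := by
    intro x y
    have hbb : polar QW b b = 0 := by rw [QuadraticMap.polar_self, hL.1, smul_zero]
    have hcb : polar QW c b = 0 := by rw [polar_comm]; exact hL.2.2.1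
    rw [hsv, SgV]
    simp only [LinearMap.add_apply, tb_apply, hbe, hce, hbb, hcb, zero_smul, add_zero, tb_zero, smul_zero, sub_zero]
  -- action on the perp of U_b
  have hact : ∀ v : W →ₗ[F] E, v b = 0 → s v = v - tb QW (v e) b := by
    intro v hv
    rw [hsv, SgV, hv, tb_zero, tb_zero, smul_zero, sub_zero, add_zero]
  set K : (W →ₗ[F] E) ≃ₗ[F] (W →ₗ[F] E) := g * s * g⁻¹ with hK
  have hKM : K ∈ M := M.mul_mem (M.mul_mem hg hs) (M.inv_mem hg)
  have hKg : ∀ v, K (g v) = g (s v) := by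
    intro v
    show g (s (g⁻¹ (g v))) = g (s v)
    have : g⁻¹ (g v) = v := g.symm_apply_apply v
    rw [this]
  have hKb : ∀ x, K (tb QW x b') = tb QW x b' := by
    intro x
    obtain ⟨x1, y1, h1⟩ := hsur x 0
    rw [tb_zero, add_zero] at h1
    rw [← h1, hKg, hfix]
  obtain ⟨p, q, hpq⟩ := hF K hKM b' b' hb'0 hL'.1 hb'0 hL'.1 (fun x => ⟨x, hKb x⟩)
  obtain ⟨w0, hw0⟩ := T.ndW.exists_polar_one' hb'0
  set κ : F := polar QW b' (q.symm w0) with hκ
  have hpx : ∀ x, κ • p x = x := by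
    intro x
    have h1 : K (tb QW x b') w0 = tb QW x b' w0 := by rw [hKb]
    rw [hpq, ac_apply, tb_apply, tb_apply, hw0, one_smul, map_smul] at h1
    exact h1
  have hκ0 : κ ≠ 0 := by
    intro h0
    apply hx0
    rw [← hpx x0, h0, zero_smul]
  have hpx' : ∀ x, p x = κ⁻¹ • x := by
    intro x
    have h1 : κ⁻¹ • (κ • p x) = κ⁻¹ • x := by rw [hpx]
    rw [smul_smul, inv_mul_cancel₀ hκ0, one_smul] at h1
    exact h1
  let N : W →ₗ[F] W := LinearMap.id - κ⁻¹ • (q.symm : W →ₗ[F] W)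
  have hN : ∀ (v : W →ₗ[F] E), v ∘ₗ N = v - K v := by
    intro v
    apply LinearMap.ext
    intro z
    have e1 : N z = z - κ⁻¹ • q.symm z := rfl
    rw [LinearMap.comp_apply, e1, map_sub, map_smul, LinearMap.sub_apply, hpq, ac_apply, hpx']
  have key : ∀ v : W →ₗ[F] E, v b = 0 → g (tb QW (v e) b) = (g v) ∘ₗ N := by
    intro v hv
    rw [hN, hKg, hact v hv, map_sub]
    abel
  -- the perp spaces
  have hperp : ∀ u : W →ₗ[F] E, u b' = 0 → u c' = 0 → ∃ v : W →ₗ[F] E, v b = 0 ∧ g v = u := by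
    intro u h1 h2
    have h3 : g (g.symm u) = u := g.apply_symm_apply u
    exact ⟨g.symm u, (perpL T hgO hgL h3 h1 h2).1, h3⟩
  have hperp' : ∀ v : W →ₗ[F] E, v b = 0 → v c = 0 → (g v) b' = 0 ∧ (g v) c' = 0 := by
    intro v h1 h2
    have hgi : g⁻¹ ∈ O Q := (O Q).inv_mem hgO
    refine perpL T hgi (b := b') (c := c') (b' := b) (c' := c) ?_ (u := v) ?_ h1 h2
    · intro x' y'
      obtain ⟨x, y, hxy⟩ := hsur x' y'
      refine ⟨x, y, ?_⟩
      rw [← hxy]
      exact g.symm_apply_apply _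
    · exact g.symm_apply_apply v
  -- a functional
  have hv0b : (tb QW x0 w) b = 0 := by rw [tb_apply, polar_comm, hbw, zero_smul]
  have hv0c : (tb QW x0 w) c = 0 := by rw [tb_apply, polar_comm, hcw, zero_smul]
  have hv0e : (tb QW x0 w) e = x0 := by rw [tb_apply, hwe, one_smul]
  have hk0 := key _ hv0b
  rw [hv0e] at hk0
  have htb0 : ∀ x : E, x ≠ 0 → ∀ d : W, d ≠ 0 → tb QW x d ≠ 0 := by
    intro x hx d hd h0
    obtain ⟨z, hz⟩ := T.ndW.exists_polar_one' hd
    have := congrArg (fun v : W →ₗ[F] E => v z) h0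
    simp only [tb_apply, hz, one_smul, LinearMap.zero_apply] at this
    exact hx this
  obtain ⟨w1, hw1⟩ : ∃ w1, g (tb QW x0 w) (N w1) ≠ 0 := by
    by_contra hall
    push Not at hall
    have h1 : g (tb QW x0 b) = 0 := by
      rw [hk0]
      apply LinearMap.ext
      intro z
      rw [LinearMap.comp_apply, hall, LinearMap.zero_apply]
    exact htb0 x0 hx0 b hb0 ((map_eq_zero_iff g g.injective).1 h1)
  obtain ⟨α, hα⟩ : ∃ α : E →ₗ[F] F, α (g (tb QW x0 w) (N w1)) ≠ 0 := by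
    obtain ⟨y, hy⟩ := T.ndE.exists_polar_one' hw1
    refine ⟨polarBilin QE y, ?_⟩
    rw [polarBilin_apply_apply, polar_comm, hy]
    exact one_ne_zero
  have hpp := hperp' _ hv0b hv0c
  let f : W →ₗ[F] F := α ∘ₗ (g (tb QW x0 w))
  have hfb : f b' = 0 := by show α (g (tb QW x0 w) b') = 0; rw [hpp.1, map_zero]
  have hfc : f c' = 0 := by show α (g (tb QW x0 w) c') = 0; rw [hpp.2, map_zero]
  have hfN : f ∘ₗ N ≠ 0 := by
    intro h0
    exact hα (congrArg (fun φ : W →ₗ[F] F => φ w1) h0)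
  obtain ⟨d, hd⟩ := rep T.ndW (f ∘ₗ N)
  have hd0 : d ≠ 0 := by
    rintro rfl
    apply hfN
    rw [hd, map_zero]
  -- sp
  let Ub : Submodule F (W →ₗ[F] E) := LinearMap.range ((pt : E →ₗ[F] Dual F W →ₗ[F] (W →ₗ[F] E)).flip (polarBilin QW b))
  have hUb : ∀ z ∈ Ub, ∃ x, tb QW x b = z := fun z hz => hz
  have hUb' : ∀ x, tb QW x b ∈ Ub := fun x => ⟨x, rfl⟩
  have hle : (sp (f ∘ₗ N) : Submodule F (W →ₗ[F] E)) ≤ Ub.map (g : (W →ₗ[F] E) →ₗ[F] (W →ₗ[F] E)) := by
    intro z hz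
    obtain ⟨x, rfl⟩ := mem_sp.1 hz
    obtain ⟨v, hv, hgv⟩ := hperp (pt x f) (by rw [pt_apply, hfb, zero_smul]) (by rw [pt_apply, hfc, zero_smul])
    refine ⟨tb QW (v e) b, hUb' _, ?_⟩
    rw [LinearEquiv.coe_coe, key v hv, hgv]
    rfl
  have heq := Submodule.eq_of_le_of_finrank_le hle (by
    rw [LinearEquiv.finrank_map_eq, finrank_sp hfN]
    exact LinearMap.finrank_range_le _)
  have hall : ∀ x, ∃ x', g (tb QW x b) = tb QW x' d := by
    intro x
    have h1 : g (tb QW x b) ∈ (sp (f ∘ₗ N) : Submodule F (W →ₗ[F] E)) := by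
      rw [heq]; exact ⟨_, hUb' x, rfl⟩
    obtain ⟨x', hx'⟩ := mem_sp.1 h1
    refine ⟨x', ?_⟩
    rw [hx', hd]; rfl
  -- d singular
  have hQd : QW d = 0 := by
    obtain ⟨x', hx'⟩ := hall x0
    obtain ⟨x1, y1, h1⟩ := hgL x0 0
    rw [tb_zero, add_zero, hx'] at h1
    have hx'0 : x' ≠ 0 := by
      rintro rfl
      rw [tb_zero] at hx'
      exact htb0 x0 hx0 b hb0 ((map_eq_zero_iff g g.injective).1 hx')
    obtain ⟨y, hy⟩ := T.ndE.exists_polar_one' hx'0
    have h3 : d = polar QE x1 y • b' + polar QE y1 y • c' := by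
      rw [← sub_eq_zero]
      apply T.ndW.eq_zero
      intro z
      have h4 := congrArg (fun v : W →ₗ[F] E => polar QE (v z) y) h1
      simp only [tb_apply, LinearMap.add_apply, polar_smul_left, polar_add_left, hy, smul_eq_mul, mul_one] at h4
      rw [sub_eq_add_neg, polar_add_left, polar_neg_left, polar_add_left, polar_smul_left, polar_smul_left, smul_eq_mul, smul_eq_mul, h4]
      ring
    rw [h3, QuadraticMap.map_add QW, QuadraticMap.map_smul, QuadraticMap.map_smul, hL'.1, hL'.2.1, polar_smul_left, polar_smul_right,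
      hL'.2.2.1]
    simp
  exact hF g hg b d hb0 hL.1 hd0 hQd hall

end Cfsg.Agent.Lib.TenOO_A2
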