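import Cfsg.Agent.Lib.TenOO1

/-!
# Overgroups of `O ⊗ O`: elements of tensor type are long roots of the second factor
-/

set_option autoImplicit false
set_option linter.all false

namespace Cfsg.Agent.Lib.TenOO_A4

open QuadraticMap Module Cfsg.Agent.Lib.Quad Cfsg.Agent.Lib.OrthMax Cfsg.Agent.Lib.OrthNd Cfsg.Agent.Lib.TenSLH94
open Cfsg.Agent.Lib.TenOO

section lin
variable {F E W : Type*} [Field F] [AddCommGroup E] [Module F E] [FiniteDimensional F E]
  [AddCommGroup W] [Module F W] [FiniteDimensional F W]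

/-- rank of right composition -/
theorem rk_right (r : Module.End F (W →ₗ[F] E)) (ν : W →ₗ[F] W) (h : ∀ v, r v = v ∘ₗ ν) :
    finrank F (LinearMap.range r) = finrank F (LinearMap.range ν) * finrank F E := by
  let Φ : (LinearMap.range ν →ₗ[F] E) →ₗ[F] (W →ₗ[F] E) := LinearMap.lcomp F E ν.rangeRestrict
  have hΦ : ∀ φ w, Φ φ w = φ (ν.rangeRestrict w) := fun φ w => rfl
  have hinj : Function.Injective Φ := by
    intro φ φ' hφ
    apply LinearMap.ext
    intro y
    obtain ⟨w, hw⟩ := ν.surjective_rangeRestrict y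
    have := congrArg (fun v : W →ₗ[F] E => v w) hφ
    simp only [hΦ, hw] at this
    exact this
  have hr : LinearMap.range r = LinearMap.range Φ := by
    apply le_antisymm
    · rintro _ ⟨v, rfl⟩
      refine ⟨v ∘ₗ (LinearMap.range ν).subtype, ?_⟩
      rw [h]
      apply LinearMap.ext
      intro w
      rw [hΦ]; rfl
    · rintro _ ⟨φ, rfl⟩
      obtain ⟨v, hv⟩ := LinearMap.exists_extend φ
      refine ⟨v, ?_⟩
      rw [h]
      apply LinearMap.ext
      intro w
      rw [hΦ, ← hv]; rfl
  rw [hr, LinearMap.finrank_range_of_inj hinj, Module.finrank_linearMap]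

/-- rank of left composition -/
theorem rk_left (r : Module.End F (W →ₗ[F] E)) (R : E →ₗ[F] E) (h : ∀ v, r v = R ∘ₗ v) :
    finrank F (LinearMap.range r) = finrank F W * finrank F (LinearMap.range R) := by
  let Φ : (W →ₗ[F] LinearMap.range R) →ₗ[F] (W →ₗ[F] E) := LinearMap.llcomp F W (LinearMap.range R) E (LinearMap.range R).subtype
  have hΦ : ∀ φ w, Φ φ w = ((φ w : LinearMap.range R) : E) := fun φ w => rfl
  have hinj : Function.Injective Φ := by
    intro φ φ' hφ
    apply LinearMap.ext
    intro w
    have := congrArg (fun v : W →ₗ[F] E => v w) hφ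
    simp only [hΦ] at this
    exact Subtype.ext this
  obtain ⟨s, hs⟩ := R.rangeRestrict.exists_rightInverse_of_surjective R.range_rangeRestrict
  have hr : LinearMap.range r = LinearMap.range Φ := by
    apply le_antisymm
    · rintro _ ⟨v, rfl⟩
      refine ⟨R.rangeRestrict ∘ₗ v, ?_⟩
      rw [h]
      apply LinearMap.ext
      intro w
      rw [hΦ]; rfl
    · rintro _ ⟨φ, rfl⟩
      refine ⟨s ∘ₗ φ, ?_⟩
      rw [h]
      apply LinearMap.ext
      intro w
      rw [hΦ]
      have := congrArg (fun f : LinearMap.range R →ₗ[F] LinearMap.range R => ((f (φ w) : LinearMap.range R) : E)) hs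
      exact this
  rw [hr, LinearMap.finrank_range_of_inj hinj, Module.finrank_linearMap]

/-- a map all of whose values are multiples is a scalar -/
theorem scalar_of {R : W →ₗ[F] W} (h : ∀ x, ∃ c : F, R x = c • x) : ∃ c : F, ∀ x, R x = c • x := by
  by_cases h0 : ∃ x : W, x ≠ 0
  · obtain ⟨x, hx⟩ := h0
    obtain ⟨c, hc⟩ := h x
    refine ⟨c, fun y => ?_⟩
    obtain ⟨d, hd⟩ := h y
    obtain ⟨e, he⟩ := h (x + y)
    rw [map_add, hc, hd, smul_add] at he
    have h1 : (c - e) • x + (d - e) • y = 0 := by
      rw [sub_smul, sub_smul]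
      have : c • x + d • y - (e • x + e • y) = 0 := sub_eq_zero.2 he
      rw [← this]; abel
    by_cases hde : d = e
    · rw [hde, sub_self, zero_smul, add_zero] at h1
      have := (smul_eq_zero.1 h1).resolve_right hx
      rw [hd, hde, sub_eq_zero.1 this]
    · have h2 : y = (-((d - e)⁻¹ * (c - e))) • x := by
        have h3 : (d - e) • y = -((c - e) • x) := eq_neg_of_add_eq_zero_right h1
        have h4 : y = (d - e)⁻¹ • ((d - e) • y) := by
          rw [smul_smul, inv_mul_cancel₀ (sub_ne_zero.2 hde), one_smul]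
        rw [h4, h3, smul_neg, smul_smul, neg_smul]
      rw [h2, map_smul, hc, smul_comm]
  · push Not at h0
    exact ⟨0, fun x => by rw [h0 x, map_zero, smul_zero]⟩

end lin

variable {F E W : Type*} [Field F] [AddCommGroup E] [Module F E] [FiniteDimensional F E]
  [AddCommGroup W] [Module F W] [FiniteDimensional F W]
  {QE : QuadraticForm F E} {QW : QuadraticForm F W} {Q : QuadraticForm F (W →ₗ[F] E)}
  {M : Subgroup ((W →ₗ[F] E) ≃ₗ[F] (W →ₗ[F] E))}

theorem two_sm {V : Type*} [AddCommGroup V] [Module F V] (h2 : (2 : F) ≠ 0) {x : V} (h : x + x = 0) : x = 0 := by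
  have : (2 : F) • x = 0 := by rw [two_smul]; exact h
  exact (smul_eq_zero.1 this).resolve_left h2

theorem two_f (h2 : (2 : F) ≠ 0) {x : F} (h : x + x = 0) : x = 0 := by
  have : (2 : F) * x = 0 := by rw [two_mul]; exact h
  exact (mul_eq_zero.1 this).resolve_left h2

/-- polar form of tensors -/
theorem pol_tb (T : TO QE QW Q M) (x y : E) (w z : W) :
    polar Q (tb QW x w) (tb QW y z) = polar QW z w * polar QE y x := by
  rw [T.pol, tb_apply, polar_smul_left, smul_eq_mul]

/-- nonzero vectors -/
theorem exE (T : TO QE QW Q M) : ∃ x y : E, polar QE x y = 1 := by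
  have : 0 < finrank F E := by have := T.hE; omega
  obtain ⟨x, hx⟩ := Module.finrank_pos_iff_exists_ne_zero.1 this
  obtain ⟨y, hy⟩ := T.ndE.exists_polar_one' hx
  exact ⟨x, y, hy⟩

theorem exW (T : TO QE QW Q M) : ∃ x y : W, polar QW x y = 1 := by
  have : 0 < finrank F W := by have := T.hW; omega
  obtain ⟨x, hx⟩ := Module.finrank_pos_iff_exists_ne_zero.1 this
  obtain ⟨y, hy⟩ := T.ndW.exists_polar_one' hx
  exact ⟨x, y, hy⟩

/-- the skew form of an element of tensor type -/
theorem skew_form (T : TO QE QW Q M) {r : Module.End F (W →ₗ[F] E)} (hr : Rt Q M r) (h : Tens r) :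
    ∃ (R : E →ₗ[F] E) (ν : W →ₗ[F] W), (∀ v, r v = R ∘ₗ v + v ∘ₗ ν) ∧
      (∀ x y, polar QE (R x) y + polar QE x (R y) = 0) ∧ ∀ w z, polar QW (ν w) z + polar QW w (ν z) = 0 := by
  obtain ⟨R, ν, h⟩ := h
  have h2 := T.h2
  have key : ∀ (x y : E) (w z : W), (polar QE (R x) y + polar QE x (R y)) * polar QW w z +
      polar QE x y * (polar QW (ν w) z + polar QW w (ν z)) = 0 := by
    intro x y w z
    have h1 := hr.sk (tb QW x w) (tb QW y z)
    have e1 : r (tb QW x w) z = polar QW w z • R x + polar QW w (ν z) • x := by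
      rw [h, LinearMap.add_apply, LinearMap.comp_apply, LinearMap.comp_apply, tb_apply, tb_apply, map_smul]
    have e2 : r (tb QW y z) w = polar QW z w • R y + polar QW z (ν w) • y := by
      rw [h, LinearMap.add_apply, LinearMap.comp_apply, LinearMap.comp_apply, tb_apply, tb_apply, map_smul]
    rw [polar_comm, T.pol, e1, T.pol, e2, polar_add_left, polar_add_left, polar_smul_left, polar_smul_left, polar_smul_left,
      polar_smul_left] at h1
    simp only [smul_eq_mul] at h1
    rw [polar_comm QW z w, polar_comm QW z (ν w), polar_comm QE (R y) x, polar_comm QE y x] at h1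
    linear_combination h1
  obtain ⟨x0, y0, h0⟩ := exE T
  obtain ⟨w0, z0, h0'⟩ := exW T
  set k : F := polar QW (ν w0) z0 + polar QW w0 (ν z0) with hk
  have hcc : k * 2⁻¹ + k * 2⁻¹ = k := by field_simp; ring
  have k1 : ∀ x y, polar QE (R x) y + polar QE x (R y) = - k * polar QE x y := by
    intro x y
    have := key x y w0 z0
    rw [h0'] at this
    linear_combination this
  have k2 : ∀ w z, polar QW (ν w) z + polar QW w (ν z) = k * polar QW w z := by
    intro w z
    have := key x0 y0 w z
    rw [h0, k1, h0] at this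
    linear_combination this
  refine ⟨R + (k * 2⁻¹) • LinearMap.id, ν - (k * 2⁻¹) • LinearMap.id, ?_, ?_, ?_⟩
  · intro v
    rw [h]
    apply LinearMap.ext
    intro w
    simp only [LinearMap.add_apply, LinearMap.comp_apply, LinearMap.sub_apply, LinearMap.smul_apply, LinearMap.id_apply,
      map_sub, map_smul]
    abel
  · intro x y
    simp only [LinearMap.add_apply, LinearMap.smul_apply, LinearMap.id_apply, polar_add_left, polar_add_right,
      polar_smul_left, polar_smul_right, smul_eq_mul]
    linear_combination k1 x y + polar QE x y * hcc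
  · intro w z
    have e : ∀ w, (ν - (k * 2⁻¹) • (LinearMap.id : W →ₗ[F] W)) w = ν w + (-(k * 2⁻¹)) • w := by
      intro w
      rw [LinearMap.sub_apply, LinearMap.smul_apply, LinearMap.id_apply, neg_smul, sub_eq_add_neg]
    rw [e, e, polar_add_left, polar_add_right, polar_smul_left, polar_smul_right, smul_eq_mul]
    linear_combination k2 w z - polar QW w z * hcc

/-- functionals are polar forms -/
theorem rep (hQ : Nd QW) (f : W →ₗ[F] F) : ∃ p, ∀ w, f w = polar QW p w := by
  refine ⟨(LinearMap.BilinForm.toDual (polarBilin QW) hQ).symm f, fun w => ?_⟩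
  have := congrArg (fun g : Dual F W => g w) ((LinearMap.BilinForm.toDual (polarBilin QW) hQ).apply_symm_apply f)
  exact this.symm

/-- a skew map of rank at most one is zero -/
theorem skew_rk (h2 : (2 : F) ≠ 0) (hE : Nd QE) {R : E →ₗ[F] E} (hR : ∀ x y, polar QE (R x) y + polar QE x (R y) = 0)
    {e : E} (h : ∀ x, ∃ c : F, R x = c • e) : R = 0 := by
  have h1 : ∀ x, polar QE (R x) x = 0 := by
    intro x
    have := hR x x
    rw [polar_comm QE x (R x)] at this
    exact two_f h2 this
  apply LinearMap.ext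
  intro x
  rw [LinearMap.zero_apply]
  by_contra hx
  obtain ⟨c, hc⟩ := h x
  have he : e ≠ 0 := by rintro rfl; apply hx; rw [hc, smul_zero]
  have hc0 : c ≠ 0 := by rintro rfl; apply hx; rw [hc, zero_smul]
  have h3 : polar QE e x = 0 := by
    have := h1 x
    rw [hc, polar_smul_left, smul_eq_mul] at this
    exact (mul_eq_zero.1 this).resolve_left hc0
  apply he
  apply hE.eq_zero
  intro y
  obtain ⟨d, hd⟩ := h y
  have h4 := h1 (x + y)
  rw [map_add, hc, hd, ← add_smul, polar_smul_left, polar_add_right, h3, zero_add, smul_eq_mul] at h4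
  rcases mul_eq_zero.1 h4 with h5 | h5
  · have h6 := h1 y
    rw [hd, polar_smul_left, smul_eq_mul] at h6
    have : d ≠ 0 := by rintro rfl; rw [add_zero] at h5; exact hc0 h5
    exact (mul_eq_zero.1 h6).resolve_left this
  · exact h5

/-- skew maps of rank two and square zero -/
theorem wedge_form (h2 : (2 : F) ≠ 0) (hW : Nd QW) {ν : W →ₗ[F] W}
    (hs : ∀ w z, polar QW (ν w) z + polar QW w (ν z) = 0) (h0 : ∀ w, ν (ν w) = 0)
    (hrk : finrank F (LinearMap.range ν) = 2) :
    ∃ b c, Ln QW b c ∧ ∀ w, ν w = polar QW c w • b - polar QW b w • c := by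
  obtain ⟨B⟩ : Nonempty (Basis (Fin 2) F (LinearMap.range ν)) := ⟨Module.finBasisOfFinrankEq F _ hrk⟩
  obtain ⟨b0, hb0⟩ : ∃ b0 : W, b0 = ((B 0 : LinearMap.range ν) : W) := ⟨_, rfl⟩
  obtain ⟨c0, hc0⟩ : ∃ c0 : W, c0 = ((B 1 : LinearMap.range ν) : W) := ⟨_, rfl⟩
  obtain ⟨p, hp⟩ := rep hW ((B.coord 0) ∘ₗ ν.rangeRestrict)
  obtain ⟨q, hq⟩ := rep hW ((B.coord 1) ∘ₗ ν.rangeRestrict)
  have hν : ∀ w, ν w = polar QW p w • b0 + polar QW q w • c0 := by
    intro w
    have h1 := B.sum_repr (ν.rangeRestrict w)
    rw [Fin.sum_univ_two] at h1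
    have h3 := congrArg (fun y : LinearMap.range ν => (y : W)) h1
    simp only [Submodule.coe_add, Submodule.coe_smul] at h3
    rw [← hp, ← hq, hb0, hc0]
    exact h3.symm
  have hskw : ∀ w, polar QW (ν w) w = 0 := by
    intro w
    have := hs w w
    rw [polar_comm QW w (ν w)] at this
    exact two_f h2 this
  have hν2 : ∀ w, ν w = (-polar QW b0 w) • p + (-polar QW c0 w) • q := by
    intro w
    rw [← sub_eq_zero]
    apply hW.eq_zero
    intro z
    have h1 := hs w z
    rw [hν z, polar_add_right, polar_smul_right, polar_smul_right, smul_eq_mul, smul_eq_mul] at h1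
    rw [sub_eq_add_neg, polar_add_left, polar_neg_left, polar_add_left, polar_smul_left, polar_smul_left, smul_eq_mul, smul_eq_mul]
    rw [polar_comm QW w b0, polar_comm QW w c0] at h1
    linear_combination h1
  obtain ⟨f1, hf1⟩ := LinearMap.exists_extend (B.coord 0)
  obtain ⟨f2, hf2⟩ := LinearMap.exists_extend (B.coord 1)
  obtain ⟨w1, hw1⟩ := rep hW f1
  obtain ⟨w2, hw2⟩ := rep hW f2
  have b1 : ∀ (j : Fin 2), f1 ((B j : LinearMap.range ν) : W) = if j = 0 then 1 else 0 := by
    intro j
    have := congrArg (fun g : LinearMap.range ν →ₗ[F] F => g (B j)) hf1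
    simp only [LinearMap.comp_apply, Submodule.subtype_apply] at this
    rw [this, Basis.coord_apply, Basis.repr_self, Finsupp.single_apply]
  have b2 : ∀ (j : Fin 2), f2 ((B j : LinearMap.range ν) : W) = if j = 1 then 1 else 0 := by
    intro j
    have := congrArg (fun g : LinearMap.range ν →ₗ[F] F => g (B j)) hf2
    simp only [LinearMap.comp_apply, Submodule.subtype_apply] at this
    rw [this, Basis.coord_apply, Basis.repr_self, Finsupp.single_apply]
  have w1b : polar QW b0 w1 = 1 := by rw [polar_comm, ← hw1, hb0, b1, if_pos rfl]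
  have w1c : polar QW c0 w1 = 0 := by rw [polar_comm, ← hw1, hc0, b1, if_neg (by decide)]
  have w2b : polar QW b0 w2 = 0 := by rw [polar_comm, ← hw2, hb0, b2, if_neg (by decide)]
  have w2c : polar QW c0 w2 = 1 := by rw [polar_comm, ← hw2, hc0, b2, if_pos rfl]
  have n1 : ν w1 = -p := by rw [hν2, w1b, w1c, neg_zero, zero_smul, add_zero, neg_one_smul]
  have n2 : ν w2 = -q := by rw [hν2, w2b, w2c, neg_zero, zero_smul, zero_add, neg_one_smul]
  have pw1 : polar QW p w1 = 0 := by
    have := hskw w1
    rw [n1, polar_neg_left, neg_eq_zero] at this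
    exact this
  have qw2 : polar QW q w2 = 0 := by
    have := hskw w2
    rw [n2, polar_neg_left, neg_eq_zero] at this
    exact this
  have p1 : p = (-polar QW q w1) • c0 := by
    have h1 : -p = polar QW q w1 • c0 := by rw [← n1, hν, pw1, zero_smul, zero_add]
    rw [neg_smul, ← h1, neg_neg]
  have q1 : q = (-polar QW p w2) • b0 := by
    have h1 : -q = polar QW p w2 • b0 := by rw [← n2, hν, qw2, zero_smul, add_zero]
    rw [neg_smul, ← h1, neg_neg]
  set β : F := polar QW p w2 with hβ
  have hqw1 : polar QW q w1 = -β := by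
    rw [q1, polar_smul_left, w1b, smul_eq_mul, mul_one]
  rw [hqw1, neg_neg] at p1
  have hβ0 : β ≠ 0 := by
    intro h
    have hp0 : p = 0 := by rw [p1, h, zero_smul]
    have hq0 : q = 0 := by rw [q1, h, neg_zero, zero_smul]
    have hz : ∀ w, ν w = 0 := by
      intro w
      rw [hν2, hp0, hq0, smul_zero, smul_zero, add_zero]
    obtain ⟨w, hw⟩ := (B 0).2
    have : b0 = 0 := by rw [hb0, ← hw]; exact hz w
    rw [this, polar_zero_left] at w1b
    exact zero_ne_one w1b
  have hform : ∀ w, ν w = polar QW c0 w • (β • b0) - polar QW (β • b0) w • c0 := by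
    intro w
    rw [hν2, p1, q1, polar_smul_left, smul_smul, smul_smul, smul_smul, neg_mul_neg, smul_eq_mul, sub_eq_add_neg, ← neg_smul]
    rw [add_comm]
    congr 1
    congr 1
    ring
  have hli : ∀ s t : F, s • b0 + t • c0 = 0 → s = 0 ∧ t = 0 := by
    intro s t h
    constructor
    · have := congrArg (fun y => polar QW y w1) h
      simp only [polar_add_left, polar_smul_left, w1b, w1c, smul_eq_mul, mul_one, mul_zero, add_zero, polar_zero_left] at this
      exact this
    · have := congrArg (fun y => polar QW y w2) h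
      simp only [polar_add_left, polar_smul_left, w2b, w2c, smul_eq_mul, mul_one, mul_zero, zero_add, polar_zero_left] at this
      exact this
  have nc : ν c0 = 0 := by
    have h1 := h0 w1
    rw [n1, p1, map_neg, map_smul, neg_eq_zero] at h1
    exact (smul_eq_zero.1 h1).resolve_left hβ0
  have nb : ν b0 = 0 := by
    have h1 := h0 w2
    rw [n2, q1, map_neg, map_smul, neg_eq_zero] at h1
    exact (smul_eq_zero.1 h1).resolve_left (neg_ne_zero.2 hβ0)
  have cc : polar QW c0 c0 = 0 ∧ polar QW b0 c0 = 0 := by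
    have h1 := nc
    rw [hν2, p1, q1, smul_smul, smul_smul] at h1
    obtain ⟨h3, h4⟩ := hli _ _ ((add_comm _ _).trans h1)
    constructor
    · rw [neg_mul_neg] at h3
      exact (mul_eq_zero.1 h3).resolve_right hβ0
    · rw [neg_mul, neg_eq_zero] at h4
      exact (mul_eq_zero.1 h4).resolve_right hβ0
  have bb : polar QW b0 b0 = 0 := by
    have h1 := nb
    rw [hν2, p1, q1, smul_smul, smul_smul] at h1
    obtain ⟨h3, h4⟩ := hli _ _ ((add_comm _ _).trans h1)
    rw [neg_mul, neg_eq_zero] at h4
    exact (mul_eq_zero.1 h4).resolve_right hβ0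
  have sing : ∀ x : W, polar QW x x = 0 → QW x = 0 := by
    intro x hx
    rw [QuadraticMap.polar_self, two_smul] at hx
    exact two_f h2 hx
  refine ⟨β • b0, c0, ⟨?_, sing _ cc.1, ?_, ?_⟩, hform⟩
  · rw [QuadraticMap.map_smul, sing _ bb, smul_zero]
  · rw [polar_smul_left, cc.2, smul_zero]
  · rw [LinearIndependent.pair_iff]
    intro s t h
    rw [smul_smul] at h
    obtain ⟨h3, h4⟩ := hli _ _ h
    exact ⟨(mul_eq_zero.1 h3).resolve_right hβ0, h4⟩

/-- elements of tensor type are long roots of the second factor -/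
theorem std_of_tens (T : TO QE QW Q M) {r : Module.End F (W →ₗ[F] E)} (hr : Rt Q M r) (h : Tens r) : Std QW r := by
  have h2 := T.h2
  obtain ⟨R, ν, hf, hR, hs⟩ := skew_form T hr h
  have hE := T.hE
  have hEW := T.hEW
  obtain ⟨x0, y0, hxy⟩ := exE T
  have hx0 : x0 ≠ 0 := by rintro rfl; rw [polar_zero_left] at hxy; exact zero_ne_one hxy
  have hsq : ∀ (v : W →ₗ[F] E) (w : W), R (R (v w)) + (R (v (ν w)) + R (v (ν w))) + v (ν (ν w)) = 0 := by
    intro v w
    have h1 := congrArg (fun u : W →ₗ[F] E => u w) (hr.sq v)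
    simp only [hf, LinearMap.add_apply, LinearMap.comp_apply, map_add, LinearMap.zero_apply] at h1
    rw [← h1]; abel
  have hR0 : R = 0 := by
    by_cases hsc : ∀ w, ∃ c : F, ν w = c • w
    · obtain ⟨c, hc⟩ := scalar_of hsc
      obtain ⟨w0, z0, hwz⟩ := exW T
      have hc0 : c = 0 := by
        have := hs w0 z0
        rw [hc, hc, polar_smul_left, polar_smul_right, hwz, smul_eq_mul, mul_one] at this
        exact two_f h2 this
      have hr' : ∀ v, r v = R ∘ₗ v := by
        intro v
        rw [hf]
        apply LinearMap.ext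
        intro w
        rw [LinearMap.add_apply, LinearMap.comp_apply, LinearMap.comp_apply, hc, hc0, zero_smul, map_zero, add_zero]
      have h1 := rk_left r R hr'
      rw [hr.rk] at h1
      have h3 : finrank F (LinearMap.range R) ≤ 1 := by
        by_contra hlt
        push Not at hlt
        have : finrank F W * 2 ≤ finrank F W * finrank F (LinearMap.range R) := Nat.mul_le_mul_left _ hlt
        omega
      obtain ⟨e, he⟩ := finrank_le_one_iff.1 h3
      apply skew_rk h2 T.ndE hR (e := (e : E))
      intro x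
      obtain ⟨d, hd⟩ := he ⟨R x, x, rfl⟩
      exact ⟨d, (congrArg (fun y : LinearMap.range R => (y : E)) hd).symm⟩
    · push Not at hsc
      obtain ⟨u, hu⟩ := hsc
      have hu0 : u ≠ 0 := by rintro rfl; exact hu 0 (by rw [map_zero, smul_zero])
      obtain ⟨f, f0, f1⟩ : ∃ f : W →ₗ[F] F, f u = 0 ∧ f (ν u) = 1 := by
        have hnm : ν u ∉ Submodule.span F {u} := by
          intro hm
          obtain ⟨c, hc⟩ := Submodule.mem_span_singleton.1 hm
          exact hu c hc.symm
        obtain ⟨f, f1, f0⟩ := Submodule.exists_le_ker_of_notMem hnm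
        refine ⟨(f (ν u))⁻¹ • f, ?_, ?_⟩
        · have : f u = 0 := f0 (Submodule.mem_span_singleton_self u)
          rw [LinearMap.smul_apply, this, smul_zero]
        · rw [LinearMap.smul_apply, smul_eq_mul, inv_mul_cancel₀ f1]
      have hRa : ∀ a, R a = (-(2⁻¹ * f (ν (ν u)))) • a := by
        intro a
        have h1 := hsq (f.smulRight a) u
        simp only [LinearMap.smulRight_apply, f0, f1, zero_smul, map_zero, one_smul, zero_add] at h1
        rw [← two_smul F] at h1
        have h3 : (2 : F) • R a = -(f (ν (ν u)) • a) := eq_neg_of_add_eq_zero_left h1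
        have h4 : R a = (2 : F)⁻¹ • ((2 : F) • R a) := by rw [smul_smul, inv_mul_cancel₀ h2, one_smul]
        rw [h4, h3, smul_neg, smul_smul, neg_smul]
      have hl : (-(2⁻¹ * f (ν (ν u)))) = 0 := by
        have := hR x0 y0
        rw [hRa, hRa, polar_smul_left, polar_smul_right, hxy, smul_eq_mul, mul_one] at this
        exact two_f h2 this
      apply LinearMap.ext
      intro a
      rw [hRa, hl, zero_smul, LinearMap.zero_apply]
  have hr' : ∀ v, r v = v ∘ₗ ν := by
    intro v
    rw [hf, hR0, LinearMap.zero_comp, zero_add]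
  have h1 := rk_right r ν hr'
  rw [hr.rk] at h1
  have hrk : finrank F (LinearMap.range ν) = 2 := (Nat.eq_of_mul_eq_mul_right (by omega) h1).symm
  have h0 : ∀ w, ν (ν w) = 0 := by
    intro w
    by_contra hne
    obtain ⟨z, hz⟩ := T.ndW.exists_polar_one' hne
    have h3 := hsq ((polarBilin QW z).smulRight x0) w
    simp only [hR0, LinearMap.zero_apply, zero_add, LinearMap.smulRight_apply, polarBilin_apply_apply] at h3
    rw [polar_comm, hz, one_smul] at h3
    exact hx0 h3
  obtain ⟨b, c, hL, hfo⟩ := wedge_form h2 T.ndW hs h0 hrk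
  refine ⟨b, c, hL, fun v => ?_⟩
  rw [hr', chi_apply]
  apply LinearMap.ext
  intro w
  rw [LinearMap.comp_apply, hfo, map_sub, map_smul, map_smul, LinearMap.sub_apply, tb_apply, tb_apply]

/-- root elements that are pairs are long roots of the second factor -/
theorem std_of_pair (T : TO QE QW Q M) {r : Module.End F (W →ₗ[F] E)} (hr : Rt Q M r)
    (h : ∃ g : (W →ₗ[F] E) ≃ₗ[F] (W →ₗ[F] E), (∀ v, g v = v + r v) ∧ ∃ p q, g = ac p q) : Std QW r := by
  obtain ⟨g, hg, p, q, hpq⟩ := h
  have hrv : ∀ v, r v = ac p q v - v := by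
    intro v
    rw [← hpq, hg, add_sub_cancel_left]
  have hsq : ∀ (v : W →ₗ[F] E) (w : W), p (p (v (q.symm (q.symm w)))) - (p (v (q.symm w)) + p (v (q.symm w))) + v w = 0 := by
    intro v w
    have h1 := congrArg (fun u : W →ₗ[F] E => u w) (hr.sq v)
    simp only [hrv, LinearMap.sub_apply, ac_apply, map_sub, LinearMap.zero_apply] at h1
    rw [← h1]; abel
  apply std_of_tens T hr
  by_cases hsc : ∀ x, ∃ c : F, (p : E →ₗ[F] E) x = c • x
  · obtain ⟨c, hc⟩ := scalar_of hsc
    refine ⟨-LinearMap.id, c • (q.symm : W →ₗ[F] W), fun v => ?_⟩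
    rw [hrv]
    apply LinearMap.ext
    intro w
    have h1 : p (v (q.symm w)) = c • v (q.symm w) := hc _
    rw [LinearMap.sub_apply, ac_apply, h1, LinearMap.add_apply, LinearMap.comp_apply, LinearMap.comp_apply,
      LinearMap.neg_apply, LinearMap.id_apply, LinearMap.smul_apply, map_smul]
    rw [LinearEquiv.coe_coe]
    abel
  · push Not at hsc
    obtain ⟨x, hx⟩ := hsc
    have hqs : ∀ w, ∃ c : F, (q.symm : W →ₗ[F] W) w = c • w := by
      intro w
      by_contra hne
      push Not at hne
      have hnm : q.symm w ∉ Submodule.span F {w} := by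
        intro hm
        obtain ⟨c, hc⟩ := Submodule.mem_span_singleton.1 hm
        exact hne c hc.symm
      obtain ⟨f, f1, f0⟩ := Submodule.exists_le_ker_of_notMem hnm
      have f0' : f w = 0 := f0 (Submodule.mem_span_singleton_self w)
      have h1 := hsq (f.smulRight x) w
      simp only [LinearMap.smulRight_apply, f0', zero_smul, add_zero, map_smul] at h1
      -- apply p.symm
      have h3 := congrArg p.symm h1
      rw [map_zero, map_sub, map_smul, map_add, map_smul, p.symm_apply_apply, p.symm_apply_apply, sub_eq_zero, ← two_smul F, smul_smul] at h3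
      apply hx ((f (q.symm (q.symm w)))⁻¹ * (2 * f (q.symm w)))
      have hne0 : f (q.symm (q.symm w)) ≠ 0 := by
        intro h0
        rw [h0, zero_smul] at h3
        rcases smul_eq_zero.1 h3.symm with h4 | h4
        · rcases mul_eq_zero.1 h4 with h5 | h5
          · exact T.h2 h5
          · exact f1 h5
        · exact hx 0 (by rw [h4, map_zero, smul_zero])
      rw [mul_smul, ← h3, smul_smul, inv_mul_cancel₀ hne0, one_smul]
      rfl
    obtain ⟨c, hc⟩ := scalar_of hqs
    refine ⟨c • (p : E →ₗ[F] E) - LinearMap.id, 0, fun v => ?_⟩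
    rw [hrv]
    apply LinearMap.ext
    intro w
    have h1 : q.symm w = c • w := hc w
    rw [LinearMap.sub_apply, ac_apply, h1, map_smul, map_smul, LinearMap.comp_zero, add_zero, LinearMap.comp_apply,
      LinearMap.sub_apply, LinearMap.smul_apply, LinearMap.id_apply, LinearEquiv.coe_coe]

end Cfsg.Agent.Lib.TenOO_A4
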