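import Cfsg.Agent.Lib.TenOO1
import Cfsg.Agent.Lib.TenSpG5

/-!
# Overgroups of `O ⊗ O` in orthogonal groups: piece A5, the dichotomy (helper23)
-/

set_option autoImplicit false
set_option linter.unusedSectionVars false
set_option linter.unusedSimpArgs false
set_option linter.unusedVariables false

namespace Cfsg.Agent.Lib.TenOO_A5

open QuadraticMap Module Cfsg.Agent.Lib.Quad Cfsg.Agent.Lib.OrthMax Cfsg.Agent.Lib.OrthNd Cfsg.Agent.Lib.TenSLH94
open Cfsg.Agent.Lib.TenOO

variable {F E W : Type*} [Field F] [Finite F] [AddCommGroup E] [Module F E] [FiniteDimensional F E]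
  [AddCommGroup W] [Module F W] [FiniteDimensional F W]
  {QE : QuadraticForm F E} {QW : QuadraticForm F W} {Q : QuadraticForm F (W →ₗ[F] E)}
  {M : Subgroup ((W →ₗ[F] E) ≃ₗ[F] (W →ₗ[F] E))}

theorem polar_self0 {b : W} (hb : QW b = 0) : polar QW b b = 0 := by rw [polar_self', hb, mul_zero]

/-- independence of two tensors -/
theorem tb_indep {b c w w' : W} {φ ψ : Dual F W} (hb : φ b = 1) (hc : φ c = 0) (hb' : ψ b = 0) (hc' : ψ c = 1)
    (hw : ∀ z, φ z = polar QW z w) (hw' : ∀ z, ψ z = polar QW z w') {x y x' y' : E}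
    (h : tb QW x c - tb QW y b = tb QW x' c - tb QW y' b) : x = x' ∧ y = y' := by
  have h1 := LinearMap.congr_fun h w
  have h2 := LinearMap.congr_fun h w'
  simp only [LinearMap.sub_apply, tb_apply, ← hw, ← hw', hb, hc, hb', hc', one_smul, zero_smul, zero_sub, sub_zero] at h1 h2
  exact ⟨h2, neg_injective h1⟩

/-- functionals are polar -/
theorem exists_polar (hQ : Nd QW) (φ : Dual F W) : ∃ w, ∀ z, φ z = polar QW z w := by
  have hinj : Function.Injective (polarBilin QW : W →ₗ[F] Dual F W) := by
    rw [← LinearMap.ker_eq_bot, LinearMap.ker_eq_bot']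
    intro x hx
    exact hQ.eq_zero fun y => LinearMap.congr_fun hx y
  have hsurj : Function.Surjective (polarBilin QW : W →ₗ[F] Dual F W) :=
    (LinearMap.injective_iff_surjective_of_finrank_eq_finrank (Subspace.dual_finrank_eq).symm).1 hinj
  obtain ⟨w, hw⟩ := hsurj φ
  exact ⟨w, fun z => by rw [← hw, polar_comm]; rfl⟩

theorem exists_map {b c : W} {φ ψ : Dual F W} (hb : φ b = 1) (hc : φ c = 0) (hb' : ψ b = 0) (hc' : ψ c = 1) (x y : E) :
    ∃ u : W →ₗ[F] E, u b = x ∧ u c = y :=
  ⟨pt x φ + pt y ψ, by simp [pt_apply, hb, hb'], by simp [pt_apply, hc, hc']⟩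

theorem exists_duals {b c : W} (h : LinearIndependent F ![b, c]) :
    ∃ φ ψ : Dual F W, φ b = 1 ∧ φ c = 0 ∧ ψ b = 0 ∧ ψ c = 1 := by
  have h1 : b ∉ Submodule.span F {c} := by
    intro hm
    obtain ⟨t, ht⟩ := Submodule.mem_span_singleton.1 hm
    have := LinearIndependent.pair_iff.1 h 1 (-t) (by rw [← ht]; module)
    exact one_ne_zero this.1
  have h2 : c ∉ Submodule.span F {b} := by
    intro hm
    obtain ⟨t, ht⟩ := Submodule.mem_span_singleton.1 hm
    have := LinearIndependent.pair_iff.1 h (-t) 1 (by rw [← ht]; module)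
    exact one_ne_zero this.2
  obtain ⟨φ, hφ, hφ'⟩ := exists_dual1 h1
  obtain ⟨ψ, hψ, hψ'⟩ := exists_dual1 h2
  exact ⟨φ, ψ, hφ, hφ', hψ', hψ⟩

theorem chi_sq {b c : W} (hbc : Ln QW b c) : chi QW b c * chi QW b c = (0 : Module.End F (W →ₗ[F] E)) := by
  apply LinearMap.ext
  intro v
  change chi QW b c (chi QW b c v) = 0
  apply LinearMap.ext
  intro w
  simp only [chi_apply, LinearMap.sub_apply, tb_apply, polar_self0 hbc.1, polar_self0 hbc.2.1, hbc.2.2.1,
    polar_comm QW c b, zero_smul, sub_zero, smul_zero, LinearMap.zero_apply]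

theorem act_line {c0 : (W →ₗ[F] E) ≃ₗ[F] (W →ₗ[F] E)} {p : E ≃ₗ[F] E} {q : W ≃ₗ[F] W} (hpq : c0 = ac p q) {b c d : W}
    {x0 : E} (hx0 : x0 ≠ 0) (h : ∃ x' y', c0 (tb QW x0 d) = tb QW x' b + tb QW y' c) :
    ∃ s t : F, ∀ x, c0 (tb QW x d) = s • tb QW (p x) b + t • tb QW (p x) c := by
  obtain ⟨x', y', h⟩ := h
  obtain ⟨φ, hφ⟩ := exists_dual0 (F := F) (x := p x0) (by simpa using hx0)
  refine ⟨φ x', φ y', fun x => ?_⟩
  apply LinearMap.ext
  intro w
  have h1 := congrArg φ (LinearMap.congr_fun h w)
  rw [hpq, ac_apply, tb_apply, LinearMap.add_apply, tb_apply, tb_apply, map_smul, map_smul, map_add, map_smul, map_smul, hφ,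
    smul_eq_mul, mul_one, smul_eq_mul, smul_eq_mul] at h1
  rw [hpq, ac_apply, tb_apply, map_smul, h1, LinearMap.add_apply, LinearMap.smul_apply, LinearMap.smul_apply, tb_apply, tb_apply]
  module

theorem sca_of (T : TO QE QW Q M) (hL : LineF QW M) {b c : W} (hbc : Ln QW b c)
    {r t : Module.End F (W →ₗ[F] E)} {c0 : (W →ₗ[F] E) ≃ₗ[F] (W →ₗ[F] E)} (hc0 : c0 ∈ M)
    (htp : ∀ v, t (chi QW b c v) = chi QW b c (t v))
    (htt : ∀ v, t (t (chi QW b c v)) = chi QW b c v + chi QW b c (r (chi QW b c v)))
    (hct : ∀ v, c0 (chi QW b c v) = t (chi QW b c v))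
    (hts : ∀ u v, polar Q (t u) v = polar Q u (t v)) : Sca QW r b c := by
  obtain ⟨φ, ψ, hφb, hφc, hψb, hψc⟩ := exists_duals hbc.2.2.2
  obtain ⟨w, hw⟩ := exists_polar T.ndW φ
  obtain ⟨w', hw'⟩ := exists_polar T.ndW ψ
  have hnt : Nontrivial E := Module.nontrivial_of_finrank_pos (R := F) (by have := T.hE; omega)
  obtain ⟨x0, hx0⟩ := exists_ne (0 : E)
  -- the element is a pair
  have hline : ∀ x y, ∃ x' y', c0 (tb QW x b + tb QW y c) = tb QW x' b + tb QW y' c := by
    intro x y
    obtain ⟨u, hub, huc⟩ := exists_map (b := b) (c := c) hφb hφc hψb hψc y (-x)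
    refine ⟨-(t u) c, (t u) b, ?_⟩
    have e1 : tb QW x b + tb QW y c = chi QW b c u := by
      apply LinearMap.ext; intro z
      simp only [chi_apply, LinearMap.add_apply, LinearMap.sub_apply, tb_apply, hub, huc]
      module
    rw [e1, hct, htp, chi_apply]
    apply LinearMap.ext; intro z
    simp only [LinearMap.add_apply, LinearMap.sub_apply, tb_apply]
    module
  obtain ⟨p, q, hpq⟩ := hL c0 hc0 b c b c hbc hbc hline
  obtain ⟨g11, g12, hg1⟩ : ∃ s t : F, ∀ x, c0 (tb QW x b) = s • tb QW (p x) b + t • tb QW (p x) c :=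
    act_line hpq hx0 (by
      obtain ⟨x', y', h⟩ := hline x0 0
      refine ⟨x', y', ?_⟩
      rw [← h]; congr 1
      apply LinearMap.ext; intro z; simp [tb_apply])
  obtain ⟨g21, g22, hg2⟩ : ∃ s t : F, ∀ x, c0 (tb QW x c) = s • tb QW (p x) b + t • tb QW (p x) c :=
    act_line hpq hx0 (by
      obtain ⟨x', y', h⟩ := hline 0 x0
      refine ⟨x', y', ?_⟩
      rw [← h]; congr 1
      apply LinearMap.ext; intro z; simp [tb_apply])
  -- the values of `t u`
  have htu : ∀ u : W →ₗ[F] E, (t u) b = g22 • p (u b) - g12 • p (u c) ∧ (t u) c = g11 • p (u c) - g21 • p (u b) := by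
    intro u
    refine tb_indep (QW := QW) hφb hφc hψb hψc hw hw' ?_
    have e1 : c0 (chi QW b c u) = chi QW b c (t u) := by rw [hct, htp]
    rw [chi_apply, chi_apply, map_sub, hg1, hg2] at e1
    rw [← e1]
    apply LinearMap.ext; intro z
    simp only [LinearMap.add_apply, LinearMap.sub_apply, LinearMap.smul_apply, tb_apply]
    module
  -- the form
  have hpol : ∀ u u' : W →ₗ[F] E, polar Q u (chi QW b c u') = polar QE (u c) (u' b) - polar QE (u b) (u' c) := by
    intro u u'
    have h' : ∀ a z, polar Q u (tb QW a z) = polar QE (u z) a := fun a z => by rw [polar_comm, T.pol]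
    rw [chi_apply, polar_sub_right, h', h']
  have hadj : ∀ x y x' y' : E, polar QE (g11 • p y - g21 • p x) x' - polar QE (g22 • p x - g12 • p y) y' =
      polar QE y (g22 • p x' - g12 • p y') - polar QE x (g11 • p y' - g21 • p x') := by
    intro x y x' y'
    obtain ⟨u, hub, huc⟩ := exists_map (b := b) (c := c) hφb hφc hψb hψc x y
    obtain ⟨u', hub', huc'⟩ := exists_map (b := b) (c := c) hφb hφc hψb hψc x' y'
    have e1 := hts u (chi QW b c u')
    rw [htp, hpol, hpol, (htu u).1, (htu u).2, (htu u').1, (htu u').2, hub, huc, hub', huc'] at e1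
    exact e1
  have r1 : ∀ x x', g21 * polar QE (p x) x' = - (g21 * polar QE x (p x')) := by
    intro x x'
    have := hadj x 0 x' 0
    simp only [map_zero, smul_zero, zero_sub, sub_zero, polar_neg_left, polar_neg_right, polar_smul_left, polar_smul_right,
      polar_zero_left, polar_zero_right, smul_eq_mul] at this
    linear_combination -this
  have r2 : ∀ x x', g12 * polar QE (p x) x' = - (g12 * polar QE x (p x')) := by
    intro x x'
    have := hadj 0 x 0 x'
    simp only [map_zero, smul_zero, zero_sub, sub_zero, polar_neg_left, polar_neg_right, polar_smul_left, polar_smul_right,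
      polar_zero_left, polar_zero_right, smul_eq_mul] at this
    linear_combination this
  have r3 : ∀ x x', g11 * polar QE (p x) x' = g22 * polar QE x (p x') := by
    intro x x'
    have := hadj 0 x x' 0
    simp only [map_zero, smul_zero, zero_sub, sub_zero, polar_neg_left, polar_neg_right, polar_smul_left, polar_smul_right,
      polar_zero_left, polar_zero_right, smul_eq_mul] at this
    linear_combination this
  have r4 : ∀ x x', g22 * polar QE (p x) x' = g11 * polar QE x (p x') := by
    intro x x'
    have := hadj x 0 0 x'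
    simp only [map_zero, smul_zero, zero_sub, sub_zero, polar_neg_left, polar_neg_right, polar_smul_left, polar_smul_right,
      polar_zero_left, polar_zero_right, smul_eq_mul] at this
    linear_combination -this
  -- a pair of vectors
  obtain ⟨y0, hy0⟩ := T.ndE.exists_polar_one' (v := p x0) (by simpa using hx0)
  -- `p` is a similitude
  obtain ⟨k, hk⟩ : ∃ k : F, ∀ x y, polar QE x y = k * polar QE (p x) (p y) := by
    have hb0 : b ≠ 0 := by rintro rfl; simp at hφb
    obtain ⟨z, hz⟩ := T.ndW.exists_polar_one' hb0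
    refine ⟨g11 * polar QW z (q.symm b) + g12 * polar QW z (q.symm c), fun x y => ?_⟩
    have e1 := O_polar (T.hM hc0) (tb QW x b) (tb QW y z)
    rw [hg1, polar_add_left, polar_smul_left, polar_smul_left, T.pol, T.pol, T.pol, hpq, ac_apply, ac_apply, tb_apply,
      tb_apply, tb_apply, polar_comm QW z b, hz, one_smul, map_smul, map_smul, polar_smul_left, polar_smul_left] at e1
    rw [polar_comm QE x y, ← e1, polar_comm QE (p x)]
    simp only [smul_eq_mul]
    ring
  have hk0 : k ≠ 0 := by
    rintro rfl
    obtain ⟨y1, hy1⟩ := T.ndE.exists_polar_one' hx0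
    rw [hk, zero_mul] at hy1
    exact zero_ne_one hy1
  -- the coefficients
  obtain ⟨ε, hε, h1, h2, h3⟩ : ∃ ε : F, (∀ x y, polar QE (p x) y = ε * polar QE x (p y)) ∧ g12 * (g11 + g22) = 0 ∧
      g21 * (g11 + g22) = 0 ∧ g11 * g11 = g22 * g22 := by
    have hneg : (∀ x y, polar QE (p x) y = (-1) * polar QE x (p y)) → g11 + g22 = 0 := by
      intro h
      have e1 := r3 x0 y0
      have e2 := h x0 y0
      rw [hy0] at e1 e2
      have e3 : polar QE x0 (p y0) = -1 := by linear_combination e2
      rw [e3] at e1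
      linear_combination e1
    by_cases h12 : g12 = 0
    · by_cases h21 : g21 = 0
      · have hg11 : g11 ≠ 0 := by
          rintro h11
          have e1 := hg1 x0
          rw [h11, h12, zero_smul, zero_smul, add_zero] at e1
          have e2 : tb QW x0 b = 0 := by simpa using e1
          have e3 := LinearMap.congr_fun e2 w
          rw [tb_apply, ← hw, hφb, one_smul] at e3
          exact hx0 e3
        refine ⟨g22 / g11, fun x y => ?_, by rw [h12, zero_mul], by rw [h21, zero_mul], ?_⟩
        · have := r3 x y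
          field_simp
          linear_combination this
        · have e1 := r3 x0 y0
          have e2 := r4 x0 y0
          rw [hy0] at e1 e2
          have e3 : g22 * g11 = g22 * g22 * polar QE x0 (p y0) := by linear_combination g22 * e1
          have e4 : g22 * g11 = g11 * g11 * polar QE x0 (p y0) := by linear_combination g11 * e2
          have e5 : polar QE x0 (p y0) ≠ 0 := by
            intro h0
            rw [h0] at e1
            apply hg11
            linear_combination e1
          apply mul_right_cancel₀ e5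
          rw [← e3, e4]
      · have h : ∀ x y, polar QE (p x) y = (-1) * polar QE x (p y) := fun x y => by
          apply mul_left_cancel₀ h21
          linear_combination r1 x y
        have h' := hneg h
        refine ⟨-1, h, by rw [h', mul_zero], by rw [h', mul_zero], ?_⟩
        linear_combination (g11 - g22) * h'
    · have h : ∀ x y, polar QE (p x) y = (-1) * polar QE x (p y) := fun x y => by
        apply mul_left_cancel₀ h12
        linear_combination r2 x y
      have h' := hneg h
      refine ⟨-1, h, by rw [h', mul_zero], by rw [h', mul_zero], ?_⟩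
      linear_combination (g11 - g22) * h'
  -- `p` squared
  have hpp : ∀ x, p (p x) = (ε / k) • x := by
    intro x
    rw [← sub_eq_zero]
    apply T.ndE.eq_zero
    intro y
    obtain ⟨y, rfl⟩ := p.surjective y
    rw [polar_sub_left, polar_smul_left, smul_eq_mul]
    have e1 := hk (p x) y
    rw [hε] at e1
    field_simp
    linear_combination -e1
  -- the square of `t`
  have hcc : ∀ u, chi QW b c (r (chi QW b c u)) = c0 (c0 (chi QW b c u)) - chi QW b c u := by
    intro u
    have e1 := htt u
    have e2 : c0 (c0 (chi QW b c u)) = t (t (chi QW b c u)) := by rw [hct, htp, hct]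
    rw [e2, e1]; abel
  refine ⟨ε / k * (g11 * g11 + g12 * g21) - 1, fun x => ⟨?_, ?_⟩⟩
  · obtain ⟨u, hub, huc⟩ := exists_map (b := b) (c := c) hφb hφc hψb hψc 0 (-x)
    have e1 : tb QW x b = chi QW b c u := by
      apply LinearMap.ext; intro z
      simp only [chi_apply, LinearMap.add_apply, LinearMap.sub_apply, tb_apply, hub, huc]
      module
    have e2 := hcc u
    rw [← e1] at e2
    rw [e2, hg1, map_add, map_smul, map_smul, hg1, hg2, hpp]
    apply LinearMap.ext; intro z
    simp only [LinearMap.add_apply, LinearMap.sub_apply, LinearMap.smul_apply, tb_apply]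
    have : ∀ s : F, s • (ε / k) • x = (s * (ε / k)) • x := fun s => smul_smul _ _ _
    simp only [this, smul_smul, ← add_smul, ← sub_smul]
    rw [← sub_eq_zero]
    have e3 : (g11 * (g11 * (polar QW b z * (ε / k))) + g11 * (g12 * (polar QW c z * (ε / k))) +
      (g12 * (g21 * (polar QW b z * (ε / k))) + g12 * (g22 * (polar QW c z * (ε / k)))) - polar QW b z) =
      (ε / k * (g11 * g11 + g12 * g21) - 1) * polar QW b z := by
      linear_combination (polar QW c z * (ε / k)) * h1
    first
      | (rw [sub_eq_zero]; congr 1; linear_combination e3)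
      | (rw [← sub_smul]; convert zero_smul F x using 2; linear_combination e3)
  · obtain ⟨u, hub, huc⟩ := exists_map (b := b) (c := c) hφb hφc hψb hψc x 0
    have e1 : tb QW x c = chi QW b c u := by
      apply LinearMap.ext; intro z
      simp only [chi_apply, LinearMap.add_apply, LinearMap.sub_apply, tb_apply, hub, huc]
      module
    have e2 := hcc u
    rw [← e1] at e2
    rw [e2, hg2, map_add, map_smul, map_smul, hg1, hg2, hpp]
    apply LinearMap.ext; intro z
    simp only [LinearMap.add_apply, LinearMap.sub_apply, LinearMap.smul_apply, tb_apply]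
    simp only [smul_smul, ← add_smul, ← sub_smul]
    congr 1
    linear_combination (polar QW b z * (ε / k)) * h2 - (polar QW c z * (ε / k)) * h3

theorem dich (T : TO QE QW Q M) (hL : LineF QW M) {b c : W} (hbc : Ln QW b c)
    {r : Module.End F (W →ₗ[F] E)} (hr : Rt Q M r) : Sca QW r b c ∨ Ivo QW M r b c := by
  obtain ⟨a, haM, ha⟩ := T.tB b c hbc.1 hbc.2.2.1
  obtain ⟨g, hgM, hg⟩ := hr.me 1
  have H : Cfsg.Agent.Lib.TenSpT.JJ M (chi QW b c) r a g (a * (g * g) * a) := {
    pp := chi_sq hbc
    rr := LinearMap.ext hr.sq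
    ha := haM
    hb := hgM
    a_eq := fun v => by
      rw [ha]
      apply LinearMap.ext; intro z
      simp only [SgV, chi_apply, LinearMap.add_apply, LinearMap.sub_apply, LinearMap.smul_apply, tb_apply, hbc.2.1,
        Module.End.one_apply, zero_smul, sub_zero]
      abel
    b_eq := fun v => by rw [hg, one_smul]; rfl
    hj := rfl }
  haveI : Finite E := Module.finite_of_finite F
  haveI : Finite W := Module.finite_of_finite F
  haveI : Finite (W →ₗ[F] E) := Module.finite_of_finite F
  haveI : Finite ((W →ₗ[F] E) ≃ₗ[F] (W →ₗ[F] E)) := Finite.of_injective (fun f => (f : (W →ₗ[F] E) → (W →ₗ[F] E))) DFunLike.coe_injective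
  obtain ⟨j, hj⟩ : ∃ j, j = a * (g * g) * a := ⟨_, rfl⟩
  rw [← hj] at H
  rcases Nat.even_or_odd (orderOf j) with ⟨m, hm⟩ | ho
  · right
    refine H.even_case T.h2 (m := m) (by rw [← hm]; exact pow_orderOf_eq_one _) ?_
    intro h
    have h0 : 0 < orderOf j := orderOf_pos j
    have h1 := Nat.le_of_dvd (by omega) (orderOf_dvd_of_pow_eq_one h)
    omega
  · left
    obtain ⟨t, c0, hc0M, htp, htt, hc0, i, hi, hti⟩ := H.odd_case T.h2 ho (pow_orderOf_eq_one _)
    refine sca_of T hL hbc hc0M (fun v => LinearMap.congr_fun htp v) (fun v => ?_) hc0 ?_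
    · have e1 := LinearMap.congr_fun htt (chi QW b c v)
      have e2 : chi QW b c (chi QW b c v) = 0 := LinearMap.congr_fun (chi_sq hbc) v
      change t (t (chi QW b c v)) = chi QW b c v + (chi QW b c (r (chi QW b c v)) + r (chi QW b c (chi QW b c v))) at e1
      rw [e1, e2, map_zero, add_zero]
    · intro u v
      have hiO := T.hM hi
      have hiO' := T.hM (inv_mem hi)
      have e1 : ∀ u v, polar Q (i u) v = polar Q u (i⁻¹ v) := by
        intro u v
        have := O_polar hiO u (i⁻¹ v)
        rw [← this]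
        congr 1
        exact (i.apply_symm_apply v).symm
      have e2 : ∀ u v, polar Q (i⁻¹ u) v = polar Q u (i v) := by
        intro u v
        have := O_polar hiO' u (i v)
        rw [← this]
        congr 1
        exact (i.symm_apply_apply v).symm
      have e3 : ∀ u, t u = (2 : F)⁻¹ • (i u + i⁻¹ u) := fun u => LinearMap.congr_fun hti u
      rw [e3, e3, polar_smul_left, polar_smul_right, polar_add_left, polar_add_right, e1, e2]
      congr 1
      exact add_comm _ _

end Cfsg.Agent.Lib.TenOO_A5
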