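import Mathlib
import Cfsg.Agent.Lib.TenOO1

/-!
# Overgroups of `O ⊗ O` in orthogonal groups: the even type (piece OO-A6; helper33)
-/

set_option autoImplicit false
set_option linter.unusedSectionVars false
set_option linter.unusedSimpArgs false
set_option linter.unusedVariables false

namespace Cfsg.Agent.Lib.TenOO_A6

open QuadraticMap Module Cfsg.Agent.Lib.Quad Cfsg.Agent.Lib.OrthMax Cfsg.Agent.Lib.OrthNd
  Cfsg.Agent.Lib.TenSLH94 Cfsg.Agent.Lib.TenOO

section gen

variable {F V : Type*} [Field F] [AddCommGroup V] [Module F V] [FiniteDimensional F V]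

/-- eigenspaces -/
def Fx (s : F) (q : V →ₗ[F] V) : Submodule F V := LinearMap.ker (q - s • LinearMap.id)

theorem mem_Fx {s : F} {q : V →ₗ[F] V} {w : V} : w ∈ Fx s q ↔ q w = s • w := by
  rw [Fx, LinearMap.mem_ker, LinearMap.sub_apply, LinearMap.smul_apply, LinearMap.id_apply, sub_eq_zero]

/-- projection to the eigenspace -/
noncomputable def pj (s : F) (hs : s * s = 1) (q : V →ₗ[F] V) (hq : ∀ w, q (q w) = w) : V →ₗ[F] Fx s q :=
  LinearMap.codRestrict (Fx s q) ((2 : F)⁻¹ • (LinearMap.id + s • q)) (fun w => by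
    rw [mem_Fx]
    simp only [LinearMap.smul_apply, LinearMap.add_apply, LinearMap.id_apply, map_smul, map_add, hq]
    rw [smul_comm s]
    congr 1
    rw [smul_add, smul_smul, hs, one_smul, add_comm])

theorem pj_coe (s : F) (hs : s * s = 1) (q : V →ₗ[F] V) (hq : ∀ w, q (q w) = w) (w : V) :
    (pj s hs q hq w : V) = (2 : F)⁻¹ • (w + s • q w) := rfl

theorem pj_q (s : F) (hs : s * s = 1) (q : V →ₗ[F] V) (hq : ∀ w, q (q w) = w) (w : V) :
    pj s hs q hq (q w) = s • pj s hs q hq w := by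
  apply Subtype.ext
  rw [Submodule.coe_smul, pj_coe, pj_coe, hq, smul_comm s]
  congr 1
  rw [smul_add, smul_smul, hs, one_smul, add_comm]

theorem pj_self (h2 : (2 : F) ≠ 0) (s : F) (hs : s * s = 1) (q : V →ₗ[F] V) (hq : ∀ w, q (q w) = w)
    (w : Fx s q) : pj s hs q hq w = w := by
  apply Subtype.ext
  rw [pj_coe, mem_Fx.1 w.2, smul_smul, hs, one_smul, ← two_smul F, smul_smul, inv_mul_cancel₀ h2, one_smul]

theorem pj_other (s t : F) (hs : s * s = 1) (hst : s * t = -1) (q : V →ₗ[F] V) (hq : ∀ w, q (q w) = w)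
    (w : Fx t q) : pj s hs q hq w = 0 := by
  apply Subtype.ext
  rw [pj_coe, mem_Fx.1 w.2, smul_smul, hst, neg_one_smul, add_neg_cancel, smul_zero]
  rfl

theorem mn1 : (-1 : F) * (-1) = 1 := by ring

theorem add_pj (h2 : (2 : F) ≠ 0) (q : V →ₗ[F] V) (hq : ∀ w, q (q w) = w) (w : V) :
    w = (pj 1 (one_mul 1) q hq w : V) + (pj (-1) mn1 q hq w : V) := by
  rw [pj_coe, pj_coe, ← smul_add, one_smul, neg_one_smul, add_add_add_comm, add_neg_cancel, add_zero,
    ← two_smul F w, smul_smul, inv_mul_cancel₀ h2, one_smul]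

theorem finrank_Fx (h2 : (2 : F) ≠ 0) (q : V →ₗ[F] V) (hq : ∀ w, q (q w) = w) :
    finrank F (Fx 1 q) + finrank F (Fx (-1) q) = finrank F V := by
  have h3 : Fx 1 q ⊓ Fx (-1) q = ⊥ := by
    rw [eq_bot_iff]
    intro x hx
    have h4 := mem_Fx.1 hx.1
    have h5 := mem_Fx.1 hx.2
    rw [h4, one_smul, neg_one_smul] at h5
    have h6 : (2 : F) • x = 0 := by
      rw [two_smul]; nth_rw 1 [h5]; exact neg_add_cancel x
    exact (Submodule.mem_bot F).2 ((smul_eq_zero.1 h6).resolve_left h2)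
  have h4 : Fx 1 q ⊔ Fx (-1) q = ⊤ := by
    rw [eq_top_iff]
    intro x _
    rw [add_pj h2 q hq x]
    exact Submodule.add_mem_sup (pj 1 (one_mul 1) q hq x).2 (pj (-1) mn1 q hq x).2
  have h5 := Submodule.finrank_sup_add_finrank_inf_eq (Fx 1 q) (Fx (-1) q)
  rw [h3, h4, finrank_bot, finrank_top] at h5
  omega

/-- an involution with multiplier `-1` -/
theorem even_of {Q : QuadraticForm F V} (hQ : Nd Q) (h2 : (2 : F) ≠ 0) (q : V →ₗ[F] V) (hq : ∀ w, q (q w) = w)
    (h : ∀ x y, polar Q (q x) (q y) = - polar Q x y) : Even (finrank F V) := by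
  have h1 := finrank_Fx h2 q hq
  have h3 : ∀ s : F, s * s = 1 → 2 * finrank F (Fx s q) ≤ finrank F V := by
    intro s hs
    have h4 : Fx s q ≤ perp Q (Fx s q) := by
      intro x hx
      rw [mem_perp]
      intro y hy
      have h5 := h y x
      rw [mem_Fx.1 hx, mem_Fx.1 hy, polar_smul_left, polar_smul_right, smul_smul, hs, one_smul] at h5
      have h6 : (2 : F) * polar Q y x = 0 := by rw [two_mul]; nth_rw 1 [h5]; exact neg_add_cancel _
      exact (mul_eq_zero.1 h6).resolve_left h2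
    have h5 := Submodule.finrank_mono h4
    have h6 := hQ.finrank_add_finrank_perp (Fx s q)
    omega
  have h4 := h3 1 (one_mul 1)
  have h5 := h3 (-1) mn1
  exact ⟨finrank F (Fx 1 q), by omega⟩

/-- eigenspaces of isometric involutions -/
theorem perp_Fx {Q : QuadraticForm F V} (hQ : Nd Q) (h2 : (2 : F) ≠ 0) (q : V →ₗ[F] V) (hq : ∀ w, q (q w) = w)
    (h : ∀ x y, polar Q (q x) (q y) = polar Q x y) : perp Q (Fx 1 q) = Fx (-1) q ∧ NDs Q (Fx 1 q) := by
  have h3 : ∀ x ∈ Fx 1 q, ∀ y ∈ Fx (-1) q, polar Q x y = 0 := by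
    intro x hx y hy
    have h5 := h x y
    rw [mem_Fx.1 hx, mem_Fx.1 hy, one_smul, neg_one_smul, polar_neg_right] at h5
    have h6 : (2 : F) * polar Q x y = 0 := by rw [two_mul]; nth_rw 1 [← h5]; exact neg_add_cancel _
    exact (mul_eq_zero.1 h6).resolve_left h2
  have h4 : NDs Q (Fx 1 q) := by
    rw [NDs, eq_bot_iff]
    rintro x ⟨hx, hx'⟩
    refine (Submodule.mem_bot F).2 (hQ.eq_zero fun y => ?_)
    rw [add_pj h2 q hq y, polar_add_right, h3 x hx _ (pj (-1) mn1 q hq y).2, add_zero, polar_comm]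
    exact mem_perp.1 hx' _ (pj 1 (one_mul 1) q hq y).2
  refine ⟨le_antisymm ?_ ?_, h4⟩
  · intro x hx
    have h5 : (pj 1 (one_mul 1) q hq x : V) = 0 := by
      have h6 : (pj 1 (one_mul 1) q hq x : V) ∈ Fx 1 q ⊓ perp Q (Fx 1 q) := by
        refine ⟨(pj 1 (one_mul 1) q hq x).2, ?_⟩
        rw [show (pj 1 (one_mul 1) q hq x : V) = x - (pj (-1) mn1 q hq x : V) from
          eq_sub_of_add_eq (add_pj h2 q hq x).symm]
        refine Submodule.sub_mem _ hx ?_
        rw [mem_perp]
        exact fun w hw => h3 w hw _ (pj (-1) mn1 q hq x).2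
      rw [h4] at h6
      exact (Submodule.mem_bot F).1 h6
    rw [add_pj h2 q hq x, h5, zero_add]
    exact (pj (-1) mn1 q hq x).2
  · intro y hy
    rw [mem_perp]
    exact fun w hw => h3 w hw y hy

end gen

section hom

variable {F E W : Type*} [Field F] [AddCommGroup E] [Module F E] [FiniteDimensional F E]
  [AddCommGroup W] [Module F W] [FiniteDimensional F W]

/-- maps of eigenspaces to a map -/
noncomputable def Ph (p : E →ₗ[F] E) (q : W →ₗ[F] W) (hq : ∀ w, q (q w) = w) :
    ((Fx 1 q →ₗ[F] Fx (-1) p) × (Fx (-1) q →ₗ[F] Fx 1 p)) →ₗ[F] (W →ₗ[F] E) where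
  toFun f := (Fx (-1) p).subtype ∘ₗ f.1 ∘ₗ pj 1 (one_mul 1) q hq + (Fx 1 p).subtype ∘ₗ f.2 ∘ₗ pj (-1) mn1 q hq
  map_add' f g := by ext w; simp; abel
  map_smul' t f := by ext w; simp

theorem Ph_apply (p : E →ₗ[F] E) (q : W →ₗ[F] W) (hq : ∀ w, q (q w) = w)
    (f : (Fx 1 q →ₗ[F] Fx (-1) p) × (Fx (-1) q →ₗ[F] Fx 1 p)) (w : W) :
    Ph p q hq f w = (f.1 (pj 1 (one_mul 1) q hq w) : E) + (f.2 (pj (-1) mn1 q hq w) : E) := rfl

theorem dim_ge (h2 : (2 : F) ≠ 0) (p : E →ₗ[F] E) (q : W →ₗ[F] W) (hq : ∀ w, q (q w) = w)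
    (z : (W →ₗ[F] E) →ₗ[F] (W →ₗ[F] E)) (hz : ∀ v w, z v w = p (v (q w))) :
    finrank F (Fx 1 q) * finrank F (Fx (-1) p) + finrank F (Fx (-1) q) * finrank F (Fx 1 p) ≤
      finrank F (Fx (-1) z) := by
  rw [← Module.finrank_linearMap F F (Fx 1 q) (Fx (-1) p), ← Module.finrank_linearMap F F (Fx (-1) q) (Fx 1 p),
    ← Module.finrank_prod]
  refine LinearMap.finrank_le_finrank_of_injective (f := LinearMap.codRestrict (Fx (-1) z) (Ph p q hq) ?_) ?_
  · intro f
    rw [mem_Fx]
    ext w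
    rw [hz, Ph_apply, pj_q, pj_q, LinearMap.smul_apply, Ph_apply, map_smul, map_smul, Submodule.coe_smul,
      Submodule.coe_smul, map_add, map_smul, map_smul, mem_Fx.1 (f.1 _).2, mem_Fx.1 (f.2 _).2]
    simp
  · rw [injective_iff_map_eq_zero]
    intro f hf
    have h1 : ∀ w, (f.1 (pj 1 (one_mul 1) q hq w) : E) + (f.2 (pj (-1) mn1 q hq w) : E) = 0 := fun w => by
      have := congrArg (fun g : Fx (-1) z => (g : W →ₗ[F] E) w) hf
      exact this
    apply Prod.ext
    · ext w
      have := h1 w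
      rw [pj_self h2, pj_other (-1) 1 mn1 (by ring), map_zero] at this
      simpa using this
    · ext w
      have := h1 w
      rw [pj_self h2, pj_other 1 (-1) (one_mul 1) (by ring), map_zero] at this
      simpa using this

end hom


section sim

variable {F E W : Type*} [Field F] [AddCommGroup E] [Module F E] [FiniteDimensional F E]
  [AddCommGroup W] [Module F W] [FiniteDimensional F W]

theorem rep {QW : QuadraticForm F W} (hQ : Nd QW) (φ : Dual F W) : ∃ b, ∀ w, polar QW b w = φ w := by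
  have hinj : Function.Injective (polarBilin QW) := by
    rw [injective_iff_map_eq_zero]
    intro y hy
    exact hQ.eq_zero fun w => LinearMap.congr_fun hy w
  obtain ⟨y, hy⟩ := (LinearMap.injective_iff_surjective_of_finrank_eq_finrank
    (Subspace.dual_finrank_eq (K := F) (V := W)).symm).1 hinj φ
  exact ⟨y, fun w => by rw [← hy]; rfl⟩

/-- scalars that are squares of maps -/
theorem sq_of (ν : F) (hν : ν ≠ 0) (p : W →ₗ[F] W) (h : ∀ x, p (p x) = ν • x) (ho : Odd (finrank F W)) :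
    ∃ κ : F, κ * κ = ν := by
  obtain ⟨k, hk⟩ := ho
  have h1 : LinearMap.det p * LinearMap.det p = ν ^ finrank F W := by
    rw [← LinearMap.det_comp, show p ∘ₗ p = ν • LinearMap.id from LinearMap.ext h, LinearMap.det_smul,
      LinearMap.det_id, mul_one]
  refine ⟨LinearMap.det p / ν ^ k, ?_⟩
  rw [div_mul_div_comm, h1, hk, ← pow_add, div_eq_iff (pow_ne_zero _ hν)]
  ring

theorem struct {QE : QuadraticForm F E} {QW : QuadraticForm F W} {Q : QuadraticForm F (W →ₗ[F] E)}
    {M : Subgroup ((W →ₗ[F] E) ≃ₗ[F] (W →ₗ[F] E))}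
    (T : TO QE QW Q M) {z : (W →ₗ[F] E) ≃ₗ[F] (W →ₗ[F] E)} (hzM : z ∈ M) (hzz : ∀ v, z (z v) = v)
    {p0 : E ≃ₗ[F] E} {q0 : W ≃ₗ[F] W} (hz : z = ac p0 q0) :
    ∃ (p : E →ₗ[F] E) (q : W →ₗ[F] W), (∀ v w, z v w = p (v (q w))) ∧ (∀ x, p (p x) = x) ∧ (∀ w, q (q w) = w) ∧
      (∀ x y, polar QE (p x) (p y) = polar QE x y) ∧ ∀ x y, polar QW (q x) (q y) = polar QW x y := by
  have hz' : ∀ v w, z v w = p0 (v (q0.symm w)) := fun v w => by rw [hz]; rfl
  have hzO : z ∈ O Q := T.hM hzM
  obtain ⟨e, he⟩ : ∃ e : E, e ≠ 0 := by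
    haveI : Nontrivial E := Module.nontrivial_of_finrank_pos (R := F) (by have := T.hE; omega)
    exact exists_ne 0
  obtain ⟨w0, hw0⟩ : ∃ w : W, w ≠ 0 := by
    haveI : Nontrivial W := Module.nontrivial_of_finrank_pos (R := F) (by have := T.hW; omega)
    exact exists_ne 0
  obtain ⟨s, hs⟩ : ∃ s : F, ∀ w, q0.symm (q0.symm w) = s • w := by
    by_contra hcon
    obtain ⟨v, hv⟩ := exists_noneigen (X := q0.symm.toLinearMap ∘ₗ q0.symm.toLinearMap) hcon
    obtain ⟨φ, h1, h3⟩ := exists_dual1 hv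
    have h4 := LinearMap.congr_fun (hzz (φ.smulRight e)) v
    rw [hz', hz', LinearMap.smulRight_apply, LinearMap.smulRight_apply, h3, zero_smul,
      show φ (q0.symm (q0.symm v)) = 1 from h1, one_smul] at h4
    exact he (by simpa using h4)
  have hs0 : s ≠ 0 := by
    rintro rfl
    have := hs w0
    rw [zero_smul] at this
    exact hw0 (by simpa using this)
  obtain ⟨φ0, hφ0⟩ := exists_dual0 (F := F) hw0
  have hp : ∀ x, p0 (p0 x) = s⁻¹ • x := by
    intro x
    have h4 := LinearMap.congr_fun (hzz (φ0.smulRight x)) w0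
    simp only [hz', LinearMap.smulRight_apply, hs, map_smul, hφ0, smul_eq_mul, mul_one, one_smul] at h4
    rw [eq_inv_smul_iff₀ hs0]; exact h4
  have hq : ∀ w, q0 (q0 w) = s⁻¹ • w := by
    intro w
    have := hs (q0 (q0 w))
    rw [LinearEquiv.symm_apply_apply, LinearEquiv.symm_apply_apply] at this
    rw [eq_inv_smul_iff₀ hs0]; exact this.symm
  have hqs : ∀ w, q0.symm w = s • q0 w := fun w => by
    have := congrArg q0 (hs w)
    rwa [LinearEquiv.apply_symm_apply, map_smul] at this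
  obtain ⟨κ, hκ⟩ : ∃ κ : F, κ * κ = s⁻¹ := by
    rcases T.hodd with ho | ho
    · exact sq_of _ (inv_ne_zero hs0) p0.toLinearMap hp ho
    · exact sq_of _ (inv_ne_zero hs0) q0.toLinearMap hq ho
  have hκ0 : κ ≠ 0 := by rintro rfl; rw [mul_zero] at hκ; exact inv_ne_zero hs0 hκ.symm
  have hκs : κ⁻¹ * κ⁻¹ = s := by rw [← mul_inv, hκ, inv_inv]
  -- multipliers
  have hf : ∀ b, ∃ b1, ∀ w, polar QW b1 w = polar QW b (q0.symm w) := fun b =>
    rep T.ndW ((polarBilin QW b) ∘ₗ q0.symm.toLinearMap)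
  choose f hf using hf
  have hzt : ∀ a b, z (tb QW a b) = tb QW (p0 a) (f b) := fun a b => by
    ext w
    rw [hz', tb_apply, tb_apply, map_smul, hf]
  have h5 : ∀ a a' b b', polar QW (f b') (f b) * polar QE (p0 a') (p0 a) = polar QW b' b * polar QE a' a := by
    intro a a' b b'
    have h6 := O_polar hzO (tb QW a b) (tb QW a' b')
    rw [hzt, hzt, T.pol, T.pol, tb_apply, tb_apply, polar_smul_left, polar_smul_left] at h6
    exact h6
  obtain ⟨e', hee'⟩ := T.ndE.exists_polar_one' he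
  obtain ⟨w0', hww'⟩ := T.ndW.exists_polar_one' hw0
  obtain ⟨μ, hμ⟩ : ∃ μ, μ = polar QE (p0 e) (p0 e') := ⟨_, rfl⟩
  have h6 : ∀ b b', polar QW (f b') (f b) * μ = polar QW b' b := fun b b' => by
    have := h5 e' e b b'
    rw [hee', mul_one, ← hμ] at this
    exact this
  have h9 := h6 w0' w0
  rw [hww'] at h9
  have hμ0 : μ ≠ 0 := by
    intro h
    rw [h, mul_zero] at h9
    exact zero_ne_one h9
  have h7 : ∀ a a', polar QE (p0 a') (p0 a) = μ * polar QE a' a := fun a a' => by
    have h8 := h5 a a' w0' w0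
    rw [hww', one_mul] at h8
    calc _ = (polar QW (f w0) (f w0') * μ) * polar QE (p0 a') (p0 a) := by rw [h9, one_mul]
      _ = μ * (polar QW (f w0) (f w0') * polar QE (p0 a') (p0 a)) := by ring
      _ = _ := by rw [h8]
  have h8 : ∀ b, b = μ • q0.symm (f b) := by
    intro b
    rw [← sub_eq_zero]
    refine T.ndW.eq_zero fun b' => ?_
    rw [polar_sub_left, polar_smul_left, smul_eq_mul, polar_comm _ (q0.symm _), ← hf b', mul_comm, h6,
      polar_comm, sub_self]
  have h10 : ∀ b b', polar QW (q0 b') (q0 b) = μ * polar QW b' b := by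
    intro b b'
    have h10 := hf b' (q0 b)
    rw [LinearEquiv.symm_apply_apply] at h10
    have h11 : q0 b' = μ • f b' := by
      have := congrArg q0 (h8 b')
      rwa [map_smul, LinearEquiv.apply_symm_apply] at this
    rw [h11, polar_smul_left, smul_eq_mul, h10]
  have h12 : μ * μ = (κ * κ) * (κ * κ) := by
    have := h7 (p0 e') (p0 e)
    rw [hp, hp, h7, hee', polar_smul_left, polar_smul_right, hee', smul_eq_mul, smul_eq_mul, mul_one, mul_one,
      ← hκ] at this
    exact this.symm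
  have hpp : ∀ x, (κ⁻¹ • p0.toLinearMap) ((κ⁻¹ • p0.toLinearMap) x) = x := by
    intro x
    simp only [LinearMap.smul_apply, LinearEquiv.coe_coe, map_smul, hp, smul_smul]
    rw [← mul_assoc, hκs, mul_inv_cancel₀ hs0, one_smul]
  have hqq : ∀ x, (κ⁻¹ • q0.toLinearMap) ((κ⁻¹ • q0.toLinearMap) x) = x := by
    intro x
    simp only [LinearMap.smul_apply, LinearEquiv.coe_coe, map_smul, hq, smul_smul]
    rw [← mul_assoc, hκs, mul_inv_cancel₀ hs0, one_smul]
  have hpm : ∀ x y, polar QE ((κ⁻¹ • p0.toLinearMap) x) ((κ⁻¹ • p0.toLinearMap) y) = (s * μ) * polar QE x y := by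
    intro x y
    simp only [LinearMap.smul_apply, LinearEquiv.coe_coe, polar_smul_left, polar_smul_right, h7, smul_eq_mul]
    rw [← mul_assoc, hκs, mul_assoc]
  have hqm : ∀ x y, polar QW ((κ⁻¹ • q0.toLinearMap) x) ((κ⁻¹ • q0.toLinearMap) y) = (s * μ) * polar QW x y := by
    intro x y
    simp only [LinearMap.smul_apply, LinearEquiv.coe_coe, polar_smul_left, polar_smul_right, h10, smul_eq_mul]
    rw [← mul_assoc, hκs, mul_assoc]
  rcases mul_self_eq_mul_self_iff.1 h12 with h13 | h13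
  · rw [hκ] at h13
    rw [h13, mul_inv_cancel₀ hs0] at hpm hqm
    refine ⟨_, _, ?_, hpp, hqq, fun x y => by rw [hpm, one_mul], fun x y => by rw [hqm, one_mul]⟩
    intro v w
    rw [hz', hqs]
    simp only [LinearMap.smul_apply, LinearEquiv.coe_coe, map_smul, smul_smul]
    rw [hκs]
  · exfalso
    rw [hκ] at h13
    rw [h13, mul_neg, mul_inv_cancel₀ hs0] at hpm hqm
    rcases T.hodd with ho | ho
    · exact (Nat.not_even_iff_odd.2 ho) (even_of T.ndE T.h2 _ hpp fun x y => by rw [hpm, neg_one_mul])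
    · exact (Nat.not_even_iff_odd.2 ho) (even_of T.ndW T.h2 _ hqq fun x y => by rw [hqm, neg_one_mul])

end sim

section main

variable {F E W : Type*} [Field F] [AddCommGroup E] [Module F E] [FiniteDimensional F E]
  [AddCommGroup W] [Module F W] [FiniteDimensional F W]

theorem exists_dual2 {QW : QuadraticForm F W} (hQ : Nd QW) {b c : W} (hbc : Ln QW b c) :
    ∃ b' c', polar QW b b' = 1 ∧ polar QW c b' = 0 ∧ polar QW b c' = 0 ∧ polar QW c c' = 1 := by
  obtain ⟨-, -, -, h⟩ := hbc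
  rw [LinearIndependent.pair_iff] at h
  have hb : b ∉ (F ∙ c) := by
    intro hb
    obtain ⟨t, ht⟩ := Submodule.mem_span_singleton.1 hb
    have := (h 1 (-t) (by rw [one_smul, neg_smul, ht, add_neg_cancel])).1
    exact one_ne_zero this
  have hc : c ∉ (F ∙ b) := by
    intro hb
    obtain ⟨t, ht⟩ := Submodule.mem_span_singleton.1 hb
    have := (h (-t) 1 (by rw [one_smul, neg_smul, ht, neg_add_cancel])).2
    exact one_ne_zero this
  obtain ⟨b', hb', hbb'⟩ := hQ.exists_polar_one _ hb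
  obtain ⟨c', hc', hcc'⟩ := hQ.exists_polar_one _ hc
  exact ⟨b', c', hbb', mem_perp_singleton.1 hb', mem_perp_singleton.1 hc', hcc'⟩

/-- a nondegenerate space containing a totally singular line -/
theorem four_le {QW : QuadraticForm F W} (hQ : Nd QW) {b c : W} (hbc : Ln QW b c) {A : Submodule F W}
    (hA : NDs QW A) (hb : b ∈ A) (hc : c ∈ A) (h2 : (2 : F) ≠ 0) : 4 ≤ finrank F A := by
  obtain ⟨hQb, hQc, hpbc, hli⟩ := hbc
  obtain ⟨L, hL⟩ : ∃ L : Submodule F W, L = Submodule.span F (Set.range ![b, c]) := ⟨_, rfl⟩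
  have hL2 : finrank F L = 2 := by
    rw [hL, finrank_span_eq_card hli, Fintype.card_fin]
  have hLA : L ≤ A := by
    rw [hL, Submodule.span_le]
    rintro x ⟨i, rfl⟩
    fin_cases i
    · exact hb
    · exact hc
  have hLL : L ≤ perp QW L := by
    nth_rw 1 [hL]
    rw [Submodule.span_le]
    rintro x ⟨i, rfl⟩
    show _ ∈ perp QW L
    rw [hL, mem_perp_span]
    rintro y ⟨j, rfl⟩
    fin_cases i <;> fin_cases j
    · show polar QW b b = 0; rw [polar_self', hQb, mul_zero]
    · show polar QW c b = 0; rw [polar_comm]; exact hpbc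
    · exact hpbc
    · show polar QW c c = 0; rw [polar_self', hQc, mul_zero]
  have h1 : L ⊓ perp QW A = ⊥ := by
    rw [eq_bot_iff, ← hA]
    exact inf_le_inf_right _ hLA
  have h3 : L ⊔ perp QW A ≤ perp QW L := by
    refine sup_le hLL ?_
    intro x hx
    rw [mem_perp] at hx ⊢
    exact fun w hw => hx w (hLA hw)
  have h4 := Submodule.finrank_mono h3
  have h5 := Submodule.finrank_sup_add_finrank_inf_eq L (perp QW A)
  rw [h1, finrank_bot] at h5
  have h6 := hQ.finrank_add_finrank_perp L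
  have h7 := hQ.finrank_add_finrank_perp A
  omega

/-- the dimension argument -/
theorem half {V : Type*} [AddCommGroup V] [Module F V] [FiniteDimensional F V] {U : Submodule F V} {A B : V →ₗ[F] V}
    (hB : ∀ u ∈ U, B u ∈ U) (hBB : ∀ u, B (B u) = 0) (hU : ∀ u ∈ U, ∃ x ∈ U, ∃ y ∈ U, u = A x + B y) {d : ℕ}
    (hd : finrank F (U.map A) ≤ d) :
    finrank F U ≤ 2 * d ∧ finrank F U ≤ d + finrank F (U.map B) := by
  have h1 : U ≤ U.map A ⊔ U.map B := by
    intro u hu
    obtain ⟨x, hx, y, hy, rfl⟩ := hU u hu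
    exact Submodule.add_mem_sup (Submodule.mem_map_of_mem hx) (Submodule.mem_map_of_mem hy)
  have h2 := Submodule.finrank_mono h1
  have h3 := Submodule.finrank_add_le_finrank_add_finrank (U.map A) (U.map B)
  have h4 := LinearMap.finrank_range_add_finrank_ker (B.domRestrict U)
  rw [LinearMap.range_domRestrict] at h4
  have h5 : U.map B ≤ (LinearMap.ker (B.domRestrict U)).map U.subtype := by
    rintro _ ⟨u, hu, rfl⟩
    exact ⟨⟨B u, hB u hu⟩, hBB u, rfl⟩
  have h6 := Submodule.finrank_mono h5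
  rw [Submodule.finrank_map_subtype_eq] at h6
  omega

/-- piece OO-A6 -/
theorem evn {QE : QuadraticForm F E} {QW : QuadraticForm F W} {Q : QuadraticForm F (W →ₗ[F] E)}
    {M : Subgroup ((W →ₗ[F] E) ≃ₗ[F] (W →ₗ[F] E))} (T : TO QE QW Q M) (hL : LineF QW M) {b c : W}
    (hbc : Ln QW b c) {r : Module.End F (W →ₗ[F] E)} (hr : Rt Q M r) (h : Ivo QW M r b c) : Evn QW r b c := by
  obtain ⟨z, hzM, hz1, hzz, hzc, hzr, hzd, -⟩ := h
  have h2 := T.h2
  obtain ⟨b', c', hbb, hcb, hbc', hcc⟩ := exists_dual2 T.ndW hbc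
  have hv : ∀ x y : E, ∃ v : W →ₗ[F] E, v b = x ∧ v c = y := by
    intro x y
    refine ⟨tb QW x b' + tb QW y c', ?_, ?_⟩
    · rw [LinearMap.add_apply, tb_apply, tb_apply, polar_comm, hbb, polar_comm, hbc', one_smul, zero_smul, add_zero]
    · rw [LinearMap.add_apply, tb_apply, tb_apply, polar_comm, hcb, polar_comm, hcc, one_smul, zero_smul, zero_add]
  obtain ⟨p0, q0, hz⟩ : ∃ p0 q0, z = ac p0 q0 := by
    refine hL z hzM b c b c hbc hbc ?_
    intro x y
    obtain ⟨v, h3, h4⟩ := hv y (-x)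
    have h5 : tb QW x b + tb QW y c = chi QW b c v := by
      rw [chi_apply, h3, h4]
      ext w
      simp only [LinearMap.add_apply, LinearMap.sub_apply, tb_apply, smul_neg]
      abel
    refine ⟨-(z v c), z v b, ?_⟩
    rw [h5, hzc, chi_apply]
    ext w
    simp only [LinearMap.add_apply, LinearMap.sub_apply, tb_apply, smul_neg]
    abel
  obtain ⟨p1, q1, hz1', hpp1, hqq1, hpi1, hqi1⟩ := struct T hzM hzz hz
  -- the action on the line
  obtain ⟨s, hss, hqb1, hqc1⟩ : ∃ s : F, s * s = 1 ∧ q1 b = s • b ∧ q1 c = s • c := by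
    have hb0 : b ≠ 0 := by
      rintro rfl
      rw [polar_zero_left] at hbb
      exact zero_ne_one hbb
    have key : ∀ (φ : Dual F W) (w : W), polar QW c (q1 w) * φ b - polar QW b (q1 w) * φ c =
        polar QW c w * φ (q1 b) - polar QW b w * φ (q1 c) := by
      intro φ w
      obtain ⟨e, he⟩ : ∃ e : E, e ≠ 0 := by
        haveI : Nontrivial E := Module.nontrivial_of_finrank_pos (R := F) (by have := T.hE; omega)
        exact exists_ne 0
      have h3 := LinearMap.congr_fun (hzc (φ.smulRight e)) w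
      rw [hz1', chi_apply, chi_apply, LinearMap.sub_apply, LinearMap.sub_apply, tb_apply, tb_apply, tb_apply,
        tb_apply, hz1', hz1'] at h3
      have h4 := congrArg p1 h3
      simp only [map_sub, map_smul, hpp1] at h4
      simp only [LinearMap.smulRight_apply, smul_smul, ← sub_smul] at h4
      exact smul_left_injective F he h4
    have hbq : ∀ x y, polar QW x (q1 y) = polar QW (q1 x) y := fun x y => by
      rw [← hqi1 x (q1 y), hqq1]
    have ext' : ∀ x y : W, (∀ φ : Dual F W, φ x = φ y) → x = y := fun x y h =>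
      sub_eq_zero.1 ((Module.forall_dual_apply_eq_zero_iff F (x - y)).1 fun φ => by rw [map_sub, h φ, sub_self])
    have e1 : q1 b = polar QW c (q1 c') • b - polar QW b (q1 c') • c := ext' _ _ fun φ => by
      have := key φ c'
      rw [hcc, hbc', one_mul, zero_mul, sub_zero] at this
      rw [map_sub, map_smul, map_smul, smul_eq_mul, smul_eq_mul, this]
    have e2 : q1 c = polar QW b (q1 b') • c - polar QW c (q1 b') • b := ext' _ _ fun φ => by
      have := key φ b'
      rw [hcb, hbb, one_mul, zero_mul, zero_sub] at this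
      rw [map_sub, map_smul, map_smul, smul_eq_mul, smul_eq_mul]
      linear_combination this
    have e3 : polar QW b (q1 c') = 0 := by
      have h3 := hbq b c'
      rw [e1, polar_sub_left, polar_smul_left, polar_smul_left, hbc', hcc, smul_zero, smul_eq_mul, mul_one,
        zero_sub] at h3
      have h4 : (2 : F) * polar QW b (q1 c') = 0 := by linear_combination h3
      exact (mul_eq_zero.1 h4).resolve_left h2
    have e4 : polar QW c (q1 b') = 0 := by
      have h3 := hbq c b'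
      rw [e2, polar_sub_left, polar_smul_left, polar_smul_left, hbb, hcb, smul_zero, smul_eq_mul, mul_one,
        zero_sub] at h3
      have h4 : (2 : F) * polar QW c (q1 b') = 0 := by linear_combination h3
      exact (mul_eq_zero.1 h4).resolve_left h2
    rw [e3, zero_smul, sub_zero] at e1
    rw [e4, zero_smul, sub_zero] at e2
    have e5 : polar QW c (q1 c') = polar QW b (q1 b') := by
      rw [hbq c c', e2, polar_smul_left, hcc, smul_eq_mul, mul_one]
    rw [← e5] at e2
    refine ⟨_, ?_, e1, e2⟩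
    have h3 := hqq1 b
    rw [e1, map_smul, e1, smul_smul] at h3
    have h4 : (polar QW c (q1 c') * polar QW c (q1 c') - 1) • b = 0 := by
      rw [sub_smul, h3, one_smul, sub_self]
    exact sub_eq_zero.1 ((smul_eq_zero.1 h4).resolve_right hb0)
  -- normalisation
  obtain ⟨p, q, hzv, hpp, hqq, hpi, hqi, hqb, hqc⟩ : ∃ (p : E →ₗ[F] E) (q : W →ₗ[F] W),
      (∀ v w, z v w = p (v (q w))) ∧ (∀ x, p (p x) = x) ∧ (∀ w, q (q w) = w) ∧
      (∀ x y, polar QE (p x) (p y) = polar QE x y) ∧ (∀ x y, polar QW (q x) (q y) = polar QW x y) ∧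
      q b = b ∧ q c = c := by
    refine ⟨s • p1, s • q1, ?_, ?_, ?_, ?_, ?_, ?_, ?_⟩
    · intro v w
      rw [hz1', LinearMap.smul_apply, LinearMap.smul_apply, map_smul, map_smul, smul_smul, hss, one_smul]
    · intro x
      rw [LinearMap.smul_apply, LinearMap.smul_apply, map_smul, hpp1, smul_smul, hss, one_smul]
    · intro x
      rw [LinearMap.smul_apply, LinearMap.smul_apply, map_smul, hqq1, smul_smul, hss, one_smul]
    · intro x y
      rw [LinearMap.smul_apply, LinearMap.smul_apply, polar_smul_left, polar_smul_right, smul_smul, hss, one_smul,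
        hpi1]
    · intro x y
      rw [LinearMap.smul_apply, LinearMap.smul_apply, polar_smul_left, polar_smul_right, smul_smul, hss, one_smul,
        hqi1]
    · rw [LinearMap.smul_apply, hqb1, smul_smul, hss, one_smul]
    · rw [LinearMap.smul_apply, hqc1, smul_smul, hss, one_smul]
  obtain ⟨hperp, hnds⟩ := perp_Fx T.ndW h2 q hqq hqi
  have hbT : b ∈ Fx 1 q := by rw [mem_Fx, one_smul]; exact hqb
  have hcT : c ∈ Fx 1 q := by rw [mem_Fx, one_smul]; exact hqc
  have hf4 := four_le T.ndW hbc hnds hbT hcT h2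
  have hfs := finrank_Fx h2 q hqq
  have hes := finrank_Fx h2 p hpp
  have hge := dim_ge h2 p q hqq z.toLinearMap hzv
  obtain ⟨Vm, hVm⟩ : ∃ Vm : Submodule F (W →ₗ[F] E), Vm = Fx (-1) z.toLinearMap := ⟨_, rfl⟩
  have mVm : ∀ v, v ∈ Vm ↔ z v = -v := fun v => by
    rw [hVm, mem_Fx, neg_one_smul]; rfl
  rw [← hVm] at hge
  -- decomposition
  have hdec : ∀ u ∈ Vm, ∃ x ∈ Vm, ∃ y ∈ Vm, u = chi QW b c x + r y := by
    intro u hu
    obtain ⟨x, y, hxy⟩ := hzd u
    rw [(mVm u).1 hu] at hxy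
    have hm : ∀ x, (4 : F)⁻¹ • (z x - x) ∈ Vm := fun x => by
      rw [mVm, map_smul, map_sub, hzz, ← smul_neg, neg_sub]
    refine ⟨_, hm x, _, hm y, ?_⟩
    have h4 : (4 : F) ≠ 0 := by
      rw [show (4 : F) = 2 * 2 by norm_num]; exact mul_ne_zero h2 h2
    have h5 := congrArg z hxy
    rw [map_sub, map_neg, (mVm u).1 hu, map_add, hzc, hzr, neg_neg] at h5
    rw [map_smul, map_smul, map_sub, map_sub, ← smul_add]
    rw [show chi QW b c (z x) - chi QW b c x + (r (z y) - r y) =
      (chi QW b c (z x) + r (z y)) - (chi QW b c x + r y) by abel, ← h5, ← hxy]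
    rw [show u - -u - (-u - u) = (4 : F) • u by
      rw [show (4 : F) = 1 + 1 + 1 + 1 by norm_num, add_smul, add_smul, add_smul, one_smul]; abel]
    rw [smul_smul, inv_mul_cancel₀ h4, one_smul]
  have hrV : ∀ u ∈ Vm, r u ∈ Vm := fun u hu => by
    rw [mVm, hzr, (mVm u).1 hu, map_neg]
  have hd : finrank F (Vm.map (chi QW b c)) ≤ 2 * finrank F (Fx (-1) p) := by
    let Γ : (Fx (-1) p × Fx (-1) p) →ₗ[F] (W →ₗ[F] E) :=
      { toFun := fun x => tb QW (x.1 : E) c - tb QW (x.2 : E) b
        map_add' := fun x y => by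
          ext w
          simp only [tb_apply, LinearMap.add_apply, LinearMap.sub_apply, Prod.fst_add, Prod.snd_add,
            Submodule.coe_add, smul_add]
          abel
        map_smul' := fun t x => by
          ext w
          simp only [tb_apply, LinearMap.smul_apply, LinearMap.sub_apply, Prod.smul_fst, Prod.smul_snd,
            Submodule.coe_smul, RingHom.id_apply, smul_sub, smul_comm t] }
    have h3 : Vm.map (chi QW b c) ≤ LinearMap.range Γ := by
      rintro _ ⟨v, hv, rfl⟩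
      have h4 : ∀ x, q x = x → v x ∈ Fx (-1) p := by
        intro x hx
        rw [mem_Fx, neg_one_smul]
        have := LinearMap.congr_fun ((mVm v).1 hv) x
        rwa [hzv, hx, LinearMap.neg_apply] at this
      exact ⟨(⟨v b, h4 b hqb⟩, ⟨v c, h4 c hqc⟩), rfl⟩
    have h4 := Submodule.finrank_mono h3
    have h5 := LinearMap.finrank_range_le Γ
    rw [Module.finrank_prod] at h5
    omega
  obtain ⟨hle1, hle2⟩ := half hrV hr.sq hdec hd
  -- numerical conclusions
  have hem : 1 ≤ finrank F (Fx (-1) p) := by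
    by_contra hcon
    have h3 : finrank F Vm = 0 := by omega
    have h4 : Vm = ⊥ := Submodule.finrank_eq_zero.1 h3
    apply hz1
    ext1 v
    have h5 : z v - v ∈ Vm := by rw [mVm, map_sub, hzz, neg_sub]
    rw [h4, Submodule.mem_bot, sub_eq_zero] at h5
    exact h5
  have hf : finrank F (Fx 1 q) = 4 := by
    by_contra hcon
    have h5 : 5 ≤ finrank F (Fx 1 q) := by omega
    have h6 : 5 * finrank F (Fx (-1) p) ≤ finrank F (Fx 1 q) * finrank F (Fx (-1) p) :=
      Nat.mul_le_mul_right _ h5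
    omega
  have hep : finrank F (Fx 1 p) = 0 := by
    have h5 : finrank F (Fx (-1) q) * finrank F (Fx 1 p) = 0 := by
      rw [hf] at hge
      omega
    rcases mul_eq_zero.1 h5 with h6 | h6
    · have := T.hW
      omega
    · exact h6
  have hpn : ∀ x, p x = -x := by
    intro x
    have h5 : Fx 1 p = ⊥ := Submodule.finrank_eq_zero.1 hep
    have h6 : p x + x ∈ Fx 1 p := by rw [mem_Fx, one_smul, map_add, hpp, add_comm]
    rw [h5, Submodule.mem_bot] at h6
    exact eq_neg_of_add_eq_zero_left h6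
  have hrm : ∀ v, r v ∈ Vm := by
    have h5 : Vm.map r = LinearMap.range r := by
      apply Submodule.eq_of_le_of_finrank_le
      · rintro _ ⟨v, -, rfl⟩
        exact ⟨v, rfl⟩
      · rw [hr.rk]
        rw [hf] at hge
        omega
    intro v
    have h6 : r v ∈ Vm.map r := by rw [h5]; exact ⟨v, rfl⟩
    obtain ⟨u, hu, hru⟩ := h6
    rw [← hru]
    exact hrV u hu
  refine ⟨Fx 1 q, hf, hnds, hbT, hcT, ?_, ?_⟩
  · intro v w hw
    rw [hperp, mem_Fx, neg_one_smul] at hw
    have h5 := LinearMap.congr_fun ((mVm _).1 (hrm v)) w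
    rw [hzv, hw, hpn, map_neg, neg_neg, LinearMap.neg_apply] at h5
    have h6 : (2 : F) • r v w = 0 := by
      rw [two_smul]; nth_rw 1 [h5]; exact neg_add_cancel _
    exact (smul_eq_zero.1 h6).resolve_left h2
  · intro v hv
    have h5 : v ∈ Vm := by
      rw [mVm]
      ext w
      rw [hzv, hpn, LinearMap.neg_apply]
      have h6 : q w - w ∈ perp QW (Fx 1 q) := by
        rw [hperp, mem_Fx, neg_one_smul, map_sub, hqq, neg_sub]
      have h7 := hv _ h6
      rw [map_sub, sub_eq_zero] at h7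
      rw [h7]
    obtain ⟨x, -, y, -, hxy⟩ := hdec v h5
    exact ⟨x, y, hxy⟩

end main

end Cfsg.Agent.Lib.TenOO_A6
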