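import Cfsg.Agent.Lib.TenOO1

/-!
# S5681 / S5709, piece A7a (helper97): the four-dimensional nondegenerate subspace
-/

set_option autoImplicit false
set_option linter.unusedSectionVars false
set_option linter.unusedSimpArgs false
set_option linter.unusedVariables false

namespace Cfsg.Agent.Lib.TenOO_A7a

open QuadraticMap Module Cfsg.Agent.Lib.Quad Cfsg.Agent.Lib.OrthMax Cfsg.Agent.Lib.OrthNd Cfsg.Agent.Lib.TenSLH94
open Cfsg.Agent.Lib.TenOO

variable {F E W : Type*} [Field F] [AddCommGroup E] [Module F E] [FiniteDimensional F E]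
  [AddCommGroup W] [Module F W] [FiniteDimensional F W]
  {QE : QuadraticForm F E} {QW : QuadraticForm F W} {Q : QuadraticForm F (W →ₗ[F] E)}
  {M : Subgroup ((W →ₗ[F] E) ≃ₗ[F] (W →ₗ[F] E))}

/-- the common kernel of the image of `r` -/
def KK (r : Module.End F (W →ₗ[F] E)) : Submodule F W := ⨅ v, LinearMap.ker (r v)

theorem mem_KK {r : Module.End F (W →ₗ[F] E)} {w : W} : w ∈ KK r ↔ ∀ v, r v w = 0 := by
  simp [KK, Submodule.mem_iInf]

theorem eq_zero_of_polar (T : TO QE QW Q M) {v : W →ₗ[F] E} (h : ∀ u, polar Q v u = 0) : v = 0 := by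
  refine LinearMap.ext fun b => ?_
  have h1 : ∀ a, polar QE (v b) a = 0 := fun a => by
    rw [← T.pol a b v, polar_comm]; exact h _
  exact T.ndE.1 (v b) h1

theorem r_tb (T : TO QE QW Q M) {r : Module.End F (W →ₗ[F] E)} (hr : Rt Q M r) {w : W} (hw : w ∈ KK r) (x : E) :
    r (tb QW x w) = 0 := by
  refine eq_zero_of_polar T fun u => ?_
  rw [hr.sk, T.pol, mem_KK.1 hw u]
  simp [polar]

theorem KK_aniso (T : TO QE QW Q M) (hF : FixF QW M) {r : Module.End F (W →ₗ[F] E)} (hr : Rt Q M r)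
    (hstd : (∃ g : (W →ₗ[F] E) ≃ₗ[F] (W →ₗ[F] E), (∀ v, g v = v + r v) ∧ ∃ p q, g = ac p q) → Std QW r)
    (hns : ¬ Std QW r) {w : W} (hw : w ∈ KK r) (hQw : QW w = 0) : w = 0 := by
  by_contra hw0
  obtain ⟨g, hg, hgv⟩ := hr.me 1
  refine hns (hstd ⟨g, fun v => by rw [hgv, one_smul], ?_⟩)
  refine hF g hg w w hw0 hQw hw0 hQw fun x => ⟨x, ?_⟩
  rw [hgv, r_tb T hr hw, smul_zero, add_zero]

theorem KK_nds (T : TO QE QW Q M) (hF : FixF QW M) {r : Module.End F (W →ₗ[F] E)} (hr : Rt Q M r)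
    (hstd : (∃ g : (W →ₗ[F] E) ≃ₗ[F] (W →ₗ[F] E), (∀ v, g v = v + r v) ∧ ∃ p q, g = ac p q) → Std QW r)
    (hns : ¬ Std QW r) : KK r ⊓ perp QW (KK r) = ⊥ := by
  rw [eq_bot_iff]
  rintro w ⟨hw, hw'⟩
  have h1 : polar QW w w = 0 := mem_perp.1 hw' w hw
  rw [polar_self, two_nsmul, ← two_mul] at h1
  have h2 : QW w = 0 := (mul_eq_zero.1 h1).resolve_left T.h2
  exact KK_aniso T hF hr hstd hns hw h2

theorem finrank_KK (T : TO QE QW Q M) (hF : FixF QW M) {r : Module.End F (W →ₗ[F] E)} (hr : Rt Q M r)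
    (hstd : (∃ g : (W →ₗ[F] E) ≃ₗ[F] (W →ₗ[F] E), (∀ v, g v = v + r v) ∧ ∃ p q, g = ac p q) → Std QW r)
    (hns : ¬ Std QW r) : finrank F (KK r) + 4 ≤ finrank F W := by
  have hnd := KK_nds T hF hr hstd hns
  have hcard := T.ndW.finrank_add_finrank_perp (KK r)
  have hsup : KK r ⊔ perp QW (KK r) = ⊤ := by
    apply Submodule.eq_top_of_finrank_eq
    have := Submodule.finrank_sup_add_finrank_inf_eq (KK r) (perp QW (KK r))
    rw [hnd, finrank_bot] at this
    omega
  have hc : IsCompl (KK r) (perp QW (KK r)) := ⟨disjoint_iff.2 hnd, codisjoint_iff.2 hsup⟩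
  set P : W →ₗ[F] KK r := (KK r).projectionOnto (perp QW (KK r)) hc with hP
  have hP1 : ∀ k : KK r, P k = k := fun k => Submodule.projectionOnto_apply_left hc k
  have hP2 : ∀ w ∈ perp QW (KK r), P w = 0 := fun w hw => (Submodule.projectionOnto_apply_eq_zero_iff hc).2 hw
  set P' : W →ₗ[F] W := (KK r).subtype ∘ₗ P with hP'
  set cp : (W →ₗ[F] E) →ₗ[F] (W →ₗ[F] E) := LinearMap.lcomp F E P' with hcp
  have hcpa : ∀ v, cp v = v ∘ₗ P' := fun v => rfl
  have hf : r ∘ₗ cp = 0 := by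
    refine ext_pt fun a b => ?_
    rw [LinearMap.comp_apply, LinearMap.zero_apply, hcpa]
    obtain ⟨k, hk⟩ : ∃ k, polarBilin QW k = b ∘ₗ P' := by
      exact (LinearMap.BilinForm.toDual (polarBilin QW) T.ndW).surjective (b ∘ₗ P')
    have hkK : k ∈ KK r := by
      rw [← T.ndW.perp_perp (KK r)]
      refine mem_perp'.2 fun w hw => ?_
      have : polarBilin QW k w = b (P' w) := by rw [hk]; rfl
      rw [show polar QW k w = polarBilin QW k w from rfl, this, hP', LinearMap.comp_apply, hP2 w hw, map_zero, map_zero]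
    have e : (pt a b) ∘ₗ P' = tb QW a k := by
      refine LinearMap.ext fun w => ?_
      rw [LinearMap.comp_apply, pt_apply, tb_apply, show polar QW k w = polarBilin QW k w from rfl, hk]
      rfl
    rw [e, r_tb T hr hkK]
  -- restriction of the kernel to `KK`
  set ρ : (W →ₗ[F] E) →ₗ[F] (KK r →ₗ[F] E) := LinearMap.lcomp F E (KK r).subtype with hρ
  have hρa : ∀ v, ρ v = v ∘ₗ (KK r).subtype := fun v => rfl
  set ρ' := ρ.domRestrict (LinearMap.ker r) with hρ'
  have hsurj : LinearMap.range ρ' = ⊤ := by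
    rw [LinearMap.range_eq_top]
    intro φ
    have hv : r (φ ∘ₗ P) = 0 := by
      have : cp (φ ∘ₗ P) = φ ∘ₗ P := by
        rw [hcpa]
        refine LinearMap.ext fun w => ?_
        simp only [LinearMap.comp_apply, hP', Submodule.subtype_apply, hP1]
      rw [← this, ← LinearMap.comp_apply, hf, LinearMap.zero_apply]
    refine ⟨⟨φ ∘ₗ P, LinearMap.mem_ker.2 hv⟩, ?_⟩
    refine LinearMap.ext fun k => ?_
    rw [hρ', LinearMap.domRestrict_apply, hρa]
    simp only [LinearMap.comp_apply, Submodule.subtype_apply, hP1]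
  have h1 := LinearMap.finrank_range_add_finrank_ker ρ'
  rw [hsurj, finrank_top, Module.finrank_linearMap] at h1
  have h2 : finrank F (LinearMap.range r) ≤ finrank F (LinearMap.ker ρ') := by
    have hle : LinearMap.range r ≤ LinearMap.ker r := by
      rintro _ ⟨v, rfl⟩; exact LinearMap.mem_ker.2 (hr.sq v)
    have hmem : ∀ x : LinearMap.range r, (Submodule.inclusion hle x) ∈ LinearMap.ker ρ' := by
      rintro ⟨_, v, rfl⟩
      rw [LinearMap.mem_ker, hρ', LinearMap.domRestrict_apply, hρa]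
      refine LinearMap.ext fun k => ?_
      exact mem_KK.1 k.2 v
    refine LinearMap.finrank_le_finrank_of_injective (f := (Submodule.inclusion hle).codRestrict (LinearMap.ker ρ') hmem) ?_
    intro x y hxy
    have := congrArg (fun z : LinearMap.ker ρ' => ((z : LinearMap.ker r) : W →ₗ[F] E)) hxy
    exact Subtype.ext this
  have h3 := LinearMap.finrank_range_add_finrank_ker r
  rw [Module.finrank_linearMap] at h3
  rw [hr.rk] at h2 h3
  have hE : 0 < finrank F E := by have := T.hE; omega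
  have h4 : (finrank F (KK r) + 4) * finrank F E ≤ finrank F W * finrank F E := by
    rw [add_mul]; omega
  exact Nat.le_of_mul_le_mul_right h4 hE

theorem KK_eq (T : TO QE QW Q M) (hF : FixF QW M) {r : Module.End F (W →ₗ[F] E)} (hr : Rt Q M r)
    (hstd : (∃ g : (W →ₗ[F] E) ≃ₗ[F] (W →ₗ[F] E), (∀ v, g v = v + r v) ∧ ∃ p q, g = ac p q) → Std QW r)
    (hns : ¬ Std QW r) {T4 : Submodule F W} (h4 : finrank F T4 = 4) (him : ∀ v, ∀ w ∈ perp QW T4, r v w = 0) :
    perp QW T4 = KK r := by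
  have h1 := T.ndW.finrank_add_finrank_perp T4
  have h2 := finrank_KK T hF hr hstd hns
  have hle : perp QW T4 ≤ KK r := fun w hw => mem_KK.2 fun v => him v w hw
  exact Submodule.eq_of_le_of_finrank_le hle (by omega)

/-- piece A7a, with `std_of_pair` as a hypothesis -/
theorem four' (T : TO QE QW Q M) (hF : FixF QW M) {r : Module.End F (W →ₗ[F] E)} (hr : Rt Q M r)
    (h : ∀ b c, Ln QW b c → Sca QW r b c ∨ Evn QW r b c)
    (hstd : (∃ g : (W →ₗ[F] E) ≃ₗ[F] (W →ₗ[F] E), (∀ v, g v = v + r v) ∧ ∃ p q, g = ac p q) → Std QW r)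
    (hns : ¬ Std QW r) (hex : ∃ b c, Ln QW b c ∧ ¬ Sca QW r b c) :
    ∃ T4 : Submodule F W, finrank F T4 = 4 ∧ NDs QW T4 ∧ (∃ b ∈ T4, ∃ c ∈ T4, Ln QW b c) ∧
      (∀ v, ∀ w ∈ perp QW T4, r v w = 0) ∧
      ∀ b c, Ln QW b c → (b ∉ T4 ∨ c ∉ T4) → Sca QW r b c := by
  obtain ⟨b, c, hbc, hsc⟩ := hex
  obtain ⟨T4, h4, hnd, hb, hc, him, -⟩ := (h b c hbc).resolve_left hsc
  refine ⟨T4, h4, hnd, ⟨b, hb, c, hc, hbc⟩, him, fun b' c' hl ho => ?_⟩
  rcases h b' c' hl with h' | ⟨T5, h5, -, hb', hc', him', -⟩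
  · exact h'
  · exfalso
    have e1 := KK_eq T hF hr hstd hns h4 him
    have e2 := KK_eq T hF hr hstd hns h5 him'
    have e3 : T5 = T4 := by
      rw [← T.ndW.perp_perp T5, ← T.ndW.perp_perp T4, e1, e2]
    rw [e3] at hb' hc'
    rcases ho with ho | ho
    · exact ho hb'
    · exact ho hc'

end Cfsg.Agent.Lib.TenOO_A7a
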