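import Mathlib
import Cfsg.Agent.Lib.TenOO1
import Cfsg.Agent.Lib.OrthDec2H94

set_option autoImplicit false

/-!
# Overgroups of `O ⊗ O` in orthogonal groups: piece A7b (helper20)
-/

namespace Cfsg.Agent.Lib.TenOO_A7b

open QuadraticMap Module Cfsg.Agent.Lib.Quad Cfsg.Agent.Lib.OrthMax Cfsg.Agent.Lib.OrthNd Cfsg.Agent.Lib.TenSLH94
  Cfsg.Agent.Lib.TenOO

variable {F E W : Type*} [Field F] [AddCommGroup E] [Module F E] [FiniteDimensional F E]
  [AddCommGroup W] [Module F W] [FiniteDimensional F W]

/-! ### one space -/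

/-- linear maps vanishing on the singular vectors of `A` vanish on `A` -/
theorem ext_sing_in [Finite F] {QW : QuadraticForm F W} (hQ : Nd QW) {A : Submodule F W} (hA : NDs QW A)
    (h3 : 3 ≤ finrank F A) {X : Type*} [AddCommGroup X] [Module F X] (f : W →ₗ[F] X)
    (h : ∀ a ∈ A, QW a = 0 → f a = 0) : ∀ a ∈ A, f a = 0 := by
  obtain ⟨e, he, e', he', hQe, hQe', hee⟩ := exists_pair_in hQ hA h3
  have hfe := h e he hQe
  have hfe' := h e' he' hQe'
  have key : ∀ w ∈ A, polar QW e w = 0 → polar QW e' w = 0 → f w = 0 := by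
    intro w hw h1 h2
    have hs : QW (e + w - QW w • e') = 0 := by
      rw [Q_sub, Q_add, Q_smul, hQe, hQe', h1, polar_smul_right, polar_add_left, hee, polar_comm QW w e', h2]
      simp
    have h3 := h _ (A.sub_mem (A.add_mem he hw) (A.smul_mem _ he')) hs
    rw [map_sub, map_add, map_smul, hfe, hfe'] at h3
    simpa using h3
  intro a ha
  have h1 : f (a - polar QW e' a • e - polar QW e a • e') = 0 := by
    apply key _ (A.sub_mem (A.sub_mem ha (A.smul_mem _ he)) (A.smul_mem _ he'))
    · rw [polar_sub_right, polar_sub_right, polar_smul_right, polar_smul_right, polar_self', hQe, hee]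
      simp
    · rw [polar_sub_right, polar_sub_right, polar_smul_right, polar_smul_right, polar_self', hQe', polar_comm QW e' e, hee]
      simp
  rw [map_sub, map_sub, map_smul, map_smul, hfe, hfe'] at h1
  simpa using h1

theorem nds_top {QW : QuadraticForm F W} (hQ : Nd QW) : NDs QW (⊤ : Submodule F W) := by
  rw [NDs, eq_bot_iff]
  rintro x ⟨-, hx⟩
  rw [Submodule.mem_bot]
  apply hQ.eq_zero
  intro y
  rw [polar_comm]
  exact mem_perp.1 hx y Submodule.mem_top

theorem ext_sing [Finite F] {QW : QuadraticForm F W} (hQ : Nd QW) (h3 : 3 ≤ finrank F W)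
    {X : Type*} [AddCommGroup X] [Module F X] (f : W →ₗ[F] X) (h : ∀ a, QW a = 0 → f a = 0) (a : W) : f a = 0 :=
  ext_sing_in hQ (nds_top hQ) (by rw [finrank_top]; exact h3) f (fun a _ => h a) a Submodule.mem_top

/-- bilinear maps vanishing on the diagonal of the singular vectors -/
theorem van5 [Finite F] {QW : QuadraticForm F W} (h2 : (2 : F) ≠ 0) (hQ : Nd QW) (h5 : 5 ≤ finrank F W)
    {X : Type*} [AddCommGroup X] [Module F X] (f : W →ₗ[F] W →ₗ[F] X) (h0 : ∀ a, QW a = 0 → f a a = 0) :
    ∃ R : X, ∀ y, f y y = QW y • R := by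
  obtain ⟨e, he, e', he', hQe, hQe', hee⟩ := exists_pair_in hQ (nds_top hQ) (by rw [finrank_top]; omega)
  set C := (⊤ : Submodule F W) ⊓ perp QW (Submodule.span F {e, e'}) with hC
  have hCn : NDs QW C := nds_cut hQ (nds_top hQ) he he' hQe hQe' hee
  have hC3 : 3 ≤ finrank F C := by
    have := finrank_cut hQ (⊤ : Submodule F W) e e'
    rw [finrank_top, ← hC] at this
    omega
  have hCm : ∀ x, x ∈ C ↔ polar QW e x = 0 ∧ polar QW e' x = 0 := by
    intro x
    rw [hC, mem_cut]
    simp
  have hfe := h0 e hQe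
  have hfe' := h0 e' hQe'
  have hE : ∀ w ∈ C, f e w + f w e = 0 := by
    intro w hw
    refine ext_sing_in hQ hCn hC3 (f e + f.flip e) ?_ w hw
    intro a ha hQa
    obtain ⟨h1, h2⟩ := (hCm a).1 ha
    have h3 := h0 (e + a) (by rw [Q_add, hQe, hQa, h1]; simp)
    simp only [map_add, LinearMap.add_apply, hfe, h0 a hQa] at h3
    simp only [LinearMap.add_apply, LinearMap.flip_apply]
    rw [← h3]; abel
  have hE' : ∀ w ∈ C, f e' w + f w e' = 0 := by
    intro w hw
    refine ext_sing_in hQ hCn hC3 (f e' + f.flip e') ?_ w hw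
    intro a ha hQa
    obtain ⟨h1, h2⟩ := (hCm a).1 ha
    have h3 := h0 (e' + a) (by rw [Q_add, hQe', hQa, h2]; simp)
    simp only [map_add, LinearMap.add_apply, hfe', h0 a hQa] at h3
    simp only [LinearMap.add_apply, LinearMap.flip_apply]
    rw [← h3]; abel
  set R := f e e' + f e' e with hR
  have hCC : ∀ w ∈ C, f w w = QW w • R := by
    intro w hw
    obtain ⟨h1, h2⟩ := (hCm w).1 hw
    have hs : QW (e + w - QW w • e') = 0 := by
      rw [Q_sub, Q_add, Q_smul, hQe, hQe', h1, polar_smul_right, polar_add_left, hee, polar_comm QW w e', h2]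
      simp
    have h3 := h0 _ hs
    simp only [map_add, map_sub, map_smul, LinearMap.add_apply, LinearMap.sub_apply, LinearMap.smul_apply, hfe, hfe'] at h3
    have h4 := hE w hw
    have h5 := hE' w hw
    have h6 : f w w - QW w • R = 0 := by
      have e1 : f w w - QW w • R = (f e w + f w e) - QW w • (f e' w + f w e') + f w w - QW w • R := by
        rw [h4, h5]; simp
      rw [e1, ← h3, hR]
      simp only [smul_add, smul_zero, add_zero, zero_add, sub_zero]
      abel
    exact sub_eq_zero.1 h6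
  refine ⟨R, fun y => ?_⟩
  set a := polar QW e' y with ha
  set b := polar QW e y with hb
  set w := y - a • e - b • e' with hw
  have hwC : w ∈ C := by
    rw [hCm]
    constructor
    · rw [hw, polar_sub_right, polar_sub_right, polar_smul_right, polar_smul_right, polar_self', hQe, hee]
      simp [hb]
    · rw [hw, polar_sub_right, polar_sub_right, polar_smul_right, polar_smul_right, polar_self', hQe', polar_comm QW e' e, hee]
      simp [ha]
  obtain ⟨h1, h2⟩ := (hCm w).1 hwC
  have hy : y = a • e + b • e' + w := by rw [hw]; abel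
  have hQy : QW y = a * b + QW w := by
    rw [hy, Q_add, Q_add, Q_smul, Q_smul, hQe, hQe', polar_add_left, polar_smul_left, polar_smul_left,
      polar_smul_left, polar_smul_right, hee, h1, h2]
    simp
  rw [hQy, add_smul, ← hCC w hwC]
  conv_lhs => rw [hy]
  have h4 := hE w hwC
  have h5 := hE' w hwC
  simp only [map_add, map_smul, LinearMap.add_apply, LinearMap.smul_apply, hfe, hfe', smul_zero, add_zero, zero_add]
  have e1 : (a • f e w + a • f w e) = 0 := by rw [← smul_add, h4, smul_zero]
  have e2 : (b • f e' w + b • f w e') = 0 := by rw [← smul_add, h5, smul_zero]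
  rw [hR]
  calc _ = (a * b) • (f e e' + f e' e) + f w w + (a • f e w + a • f w e) + (b • f e' w + b • f w e') := by
        simp only [smul_add, smul_smul, mul_comm b a]; abel
    _ = _ := by rw [e1, e2]; abel

/-- alternating maps vanishing on orthogonal singular pairs vanish -/
theorem alt_zero [Finite F] {QW : QuadraticForm F W} (h2 : (2 : F) ≠ 0) (hQ : Nd QW) (h5 : 5 ≤ finrank F W)
    {X : Type*} [AddCommGroup X] [Module F X] (f : W →ₗ[F] W →ₗ[F] X) (ha : ∀ w, f w w = 0)
    (h0 : ∀ b c, QW b = 0 → QW c = 0 → polar QW b c = 0 → f b c = 0) (x y : W) : f x y = 0 := by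
  have hsk : ∀ x y, f x y = - f y x := by
    intro x y
    have h1 := ha (x + y)
    simp only [map_add, LinearMap.add_apply, ha] at h1
    rw [eq_neg_iff_add_eq_zero, ← h1]; abel
  have h1' : ∀ b c, QW b = 0 → QW c = 0 → polar QW b c = 1 → f b c = 0 := by
    intro b c hb hc hbc
    set C := (⊤ : Submodule F W) ⊓ perp QW (Submodule.span F {b, c}) with hC
    have hCn : NDs QW C := nds_cut hQ (nds_top hQ) Submodule.mem_top Submodule.mem_top hb hc hbc
    have hC3 : 3 ≤ finrank F C := by
      have := finrank_cut hQ (⊤ : Submodule F W) b c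
      rw [finrank_top, ← hC] at this
      omega
    obtain ⟨e, he, e', he', hQe, hQe', hee⟩ := exists_pair_in hQ hCn hC3
    obtain ⟨-, h1, h2'⟩ := mem_cut.1 he
    obtain ⟨-, h3, h4⟩ := mem_cut.1 he'
    have k1 := h0 (b + e) (c - e') (by rw [Q_add, hb, hQe, h1]; simp)
      (by rw [Q_sub, hc, hQe', h4]; simp)
      (by rw [polar_add_left, polar_sub_right, polar_sub_right, hbc, h3, polar_comm QW e c, h2', hee]; simp)
    have k2 := h0 (b + e') (c - e) (by rw [Q_add, hb, hQe', h3]; simp)
      (by rw [Q_sub, hc, hQe, h2']; simp)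
      (by rw [polar_add_left, polar_sub_right, polar_sub_right, hbc, h1, polar_comm QW e' c, h4, polar_comm QW e' e, hee]; simp)
    have k3 := h0 b e hb hQe h1
    have k4 := h0 b e' hb hQe' h3
    have k5 := h0 c e hc hQe h2'
    have k6 := h0 c e' hc hQe' h4
    simp only [map_add, map_sub, LinearMap.add_apply] at k1 k2
    rw [hsk e c, k5, k4] at k1
    rw [hsk e' c, k6, k3, hsk e' e] at k2
    have k7 : (2 : F) • f b c = 0 := by
      rw [two_smul]
      have : f b c + f b c = (f b c - 0 + (-0 - f e e')) + (f b c - 0 + (-0 - -f e e')) := by abel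
      rw [this]
      rw [show f b c - 0 + (-0 - f e e') = f b c + -0 - (0 + f e e') by abel, k1,
        show f b c - 0 + (-0 - -f e e') = f b c + -0 - (0 + -f e e') by abel, k2, add_zero]
    exact (smul_eq_zero.1 k7).resolve_left h2
  have hall : ∀ b c, QW b = 0 → QW c = 0 → f b c = 0 := by
    intro b c hb hc
    by_cases hbc : polar QW b c = 0
    · exact h0 b c hb hc hbc
    · have h3 := h1' b ((polar QW b c)⁻¹ • c) hb (by rw [Q_smul, hc, mul_zero])
        (by rw [polar_smul_right, smul_eq_mul, inv_mul_cancel₀ hbc])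
      rw [map_smul] at h3
      exact (smul_eq_zero.1 h3).resolve_left (inv_ne_zero hbc)
  have h3' : 3 ≤ finrank F W := by omega
  have hb : ∀ b, QW b = 0 → ∀ y, f b y = 0 := fun b hb y => ext_sing hQ h3' (f b) (fun c hc => hall b c hb hc) y
  have := ext_sing hQ h3' f (fun b hb' => LinearMap.ext fun y => hb b hb' y) x
  rw [this]; rfl

/-! ### the blocks of `r` -/

/-- `ρ(w,w') x = (r (x ⊗ w)) w'` -/
noncomputable def rho (QW : QuadraticForm F W) (r : Module.End F (W →ₗ[F] E)) : W →ₗ[F] W →ₗ[F] (E →ₗ[F] E) :=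
  LinearMap.mk₂ F
    (fun w w' => { toFun := fun x => r (tb QW x w) w'
                   map_add' := fun x y => by
                    rw [show tb QW (x + y) w = tb QW x w + tb QW y w from by
                      rw [tb, tb, tb, map_add, LinearMap.add_apply], map_add, LinearMap.add_apply]
                   map_smul' := fun c x => by
                    rw [show tb QW (c • x) w = c • tb QW x w from by
                      rw [tb, tb, map_smul, LinearMap.smul_apply], map_smul, LinearMap.smul_apply]; rfl })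
    (fun w₁ w₂ w' => LinearMap.ext fun x => by
      show r (tb QW x (w₁ + w₂)) w' = r (tb QW x w₁) w' + r (tb QW x w₂) w'
      rw [show tb QW x (w₁ + w₂) = tb QW x w₁ + tb QW x w₂ from by rw [tb, tb, tb, map_add, map_add], map_add,
        LinearMap.add_apply])
    (fun c w w' => LinearMap.ext fun x => by
      show r (tb QW x (c • w)) w' = c • r (tb QW x w) w'
      rw [show tb QW x (c • w) = c • tb QW x w from by rw [tb, tb, map_smul, map_smul], map_smul,
        LinearMap.smul_apply])
    (fun w w₁ w₂ => LinearMap.ext fun x => by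
      show r (tb QW x w) (w₁ + w₂) = r (tb QW x w) w₁ + r (tb QW x w) w₂
      rw [map_add])
    (fun c w w' => LinearMap.ext fun x => by
      show r (tb QW x w) (c • w') = c • r (tb QW x w) w'
      rw [map_smul])

theorem rho_apply (QW : QuadraticForm F W) (r : Module.End F (W →ₗ[F] E)) (w w' : W) (x : E) :
    rho QW r w w' x = r (tb QW x w) w' := rfl

variable {QE : QuadraticForm F E} {QW : QuadraticForm F W} {Q : QuadraticForm F (W →ₗ[F] E)}
  {M : Subgroup ((W →ₗ[F] E) ≃ₗ[F] (W →ₗ[F] E))} {r : Module.End F (W →ₗ[F] E)}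

/-- skewness -/
theorem rho_skew (T : TO QE QW Q M) (hr : Rt Q M r) (w w' : W) (x y : E) :
    polar QE (rho QW r w w' x) y = - polar QE (rho QW r w' w y) x := by
  have h := hr.sk (tb QW x w) (tb QW y w')
  rw [polar_comm Q (r (tb QW x w)), T.pol, T.pol] at h
  exact h

/-- scalar type at a line -/
theorem rho_sca (hQ : Nd QW) {b c : W} (hbc : Ln QW b c) (h : Sca QW r b c) :
    rho QW r b b = 0 ∧ ∃ σ : F, rho QW r b c = (-σ) • (LinearMap.id : E →ₗ[F] E) := by
  obtain ⟨σ, hσ⟩ := h
  obtain ⟨hb, hc, hp, hli⟩ := hbc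
  have hne : ∀ s t : F, s • b + t • c = 0 → s = 0 ∧ t = 0 := LinearIndependent.pair_iff.1 hli
  have hcb : c ∉ Submodule.span F {b} := by
    intro hm
    obtain ⟨s, hs⟩ := Submodule.mem_span_singleton.1 hm
    have := (hne s (-1) (by rw [hs]; simp)).2
    simp at this
  have hbc' : b ∉ Submodule.span F {c} := by
    intro hm
    obtain ⟨s, hs⟩ := Submodule.mem_span_singleton.1 hm
    have := (hne (-1) s (by rw [hs]; simp)).1
    simp at this
  obtain ⟨y, hy, hy1⟩ := hQ.exists_polar_one _ hcb
  obtain ⟨z, hz, hz1⟩ := hQ.exists_polar_one _ hbc'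
  have hby : polar QW b y = 0 := mem_perp_singleton.1 hy
  have hcz : polar QW c z = 0 := mem_perp_singleton.1 hz
  refine ⟨LinearMap.ext fun x => ?_, σ, LinearMap.ext fun x => ?_⟩
  · have h1 := congrArg (fun v : W →ₗ[F] E => v y) (hσ x).1
    simp only [chi_apply, LinearMap.sub_apply, LinearMap.smul_apply, tb_apply, hby, hy1, zero_smul, smul_zero,
      one_smul, sub_zero] at h1
    exact h1
  · have h1 := congrArg (fun v : W →ₗ[F] E => v z) (hσ x).1
    simp only [chi_apply, LinearMap.sub_apply, LinearMap.smul_apply, tb_apply, hcz, hz1, zero_smul, smul_zero,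
      one_smul, zero_sub] at h1
    rw [LinearMap.smul_apply, LinearMap.id_apply, neg_smul, ← h1, neg_neg]
    rfl

/-- assembly: if all the blocks are `be(w,w') R` plus scalars then `r` is of tensor type -/
theorem tens_of_blocks (hQ : Nd QW) (hE : 1 ≤ finrank F E) (R : E →ₗ[F] E)
    (h : ∀ w w' : W, ∃ s : F, rho QW r w w' = polar QW w w' • R + s • (LinearMap.id : E →ₗ[F] E)) : Tens r := by
  classical
  have hid : (LinearMap.id : E →ₗ[F] E) ≠ 0 := by
    intro h0
    have : Subsingleton E := ⟨fun a b => by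
      have ha := LinearMap.congr_fun h0 a
      have hb := LinearMap.congr_fun h0 b
      simp only [LinearMap.id_apply, LinearMap.zero_apply] at ha hb
      rw [ha, hb]⟩
    have h1 := finrank_zero_of_subsingleton (R := F) (M := E)
    omega
  obtain ⟨τ, hτ⟩ := exists_dual0 (F := F) hid
  -- the bilinear form `s`
  set s : W →ₗ[F] W →ₗ[F] F := (rho QW r).compr₂ τ - (polarBilin QW).compr₂ (LinearMap.toSpanSingleton F F (τ R)) with hs
  have hs' : ∀ w w', s w w' = τ (rho QW r w w') - polar QW w w' * τ R := by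
    intro w w'
    rw [hs]
    simp [LinearMap.compr₂_apply, LinearMap.toSpanSingleton_apply, smul_eq_mul]
  have hss : ∀ w w', rho QW r w w' = polar QW w w' • R + s w w' • (LinearMap.id : E →ₗ[F] E) := by
    intro w w'
    obtain ⟨t, ht⟩ := h w w'
    have h1 : s w w' = t := by
      rw [hs', ht, map_add, map_smul, map_smul, hτ, smul_eq_mul, smul_eq_mul]; ring
    rw [h1]; exact ht
  -- represent `s`
  have hinj : Function.Injective (polarBilin QW : W →ₗ[F] Dual F W) := by
    rw [← LinearMap.ker_eq_bot, LinearMap.ker_eq_bot']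
    intro w hw
    exact hQ.eq_zero fun y => LinearMap.congr_fun hw y
  set e : W ≃ₗ[F] Dual F W := LinearEquiv.ofInjectiveOfFinrankEq (polarBilin QW : W →ₗ[F] Dual F W) hinj
    (by rw [Subspace.dual_finrank_eq]) with he
  set ν : W →ₗ[F] W := e.symm.toLinearMap ∘ₗ s.flip with hν
  have hνs : ∀ w w', polar QW w (ν w') = s w w' := by
    intro w w'
    have h1 : e (ν w') = s.flip w' := by rw [hν]; simp
    have h2 : polar QW (ν w') w = s.flip w' w := by rw [← h1]; rfl
    rw [polar_comm, h2]; rfl
  refine ⟨R, ν, ?_⟩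
  have key : r = (LinearMap.llcomp F W E E R : (W →ₗ[F] E) →ₗ[F] (W →ₗ[F] E)) + LinearMap.lcomp F E ν := by
    apply ext_pt
    intro a b
    obtain ⟨w, rfl⟩ := e.surjective b
    apply LinearMap.ext
    intro w'
    have h1 := LinearMap.congr_fun (hss w w') a
    rw [rho_apply] at h1
    show r (tb QW a w) w' = R (tb QW a w w') + tb QW a w (ν w')
    rw [h1, tb_apply, tb_apply, hνs, map_smul]
    rfl
  intro v
  rw [key]; rfl

/-- singular vectors lie on lines -/
theorem exists_Ln [Finite F] (hQ : Nd QW) (h5 : 5 ≤ finrank F W) {b : W} (hb : b ≠ 0) (hQb : QW b = 0) :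
    ∃ c, Ln QW b c := by
  have h1 := hQ.finrank_add_finrank_perp (F ∙ b)
  rw [finrank_span_singleton hb] at h1
  obtain ⟨c, hc, hcb, hQc⟩ := OrthPoint.exists_sing_avoid (Q := QW) (perp QW (F ∙ b)) (F ∙ b) (by
    rw [finrank_span_singleton hb]; omega)
  refine ⟨c, hQb, hQc, mem_perp_singleton.1 hc, ?_⟩
  rw [LinearIndependent.pair_iff]
  intro s t hst
  have ht : t = 0 := by
    by_contra ht
    apply hcb
    rw [Submodule.mem_span_singleton]
    refine ⟨-(t⁻¹ * s), ?_⟩
    have : c = t⁻¹ • (t • c) := by rw [smul_smul, inv_mul_cancel₀ ht, one_smul]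
    rw [this, show t • c = -(s • b) from by rw [eq_neg_iff_add_eq_zero, add_comm]; exact hst, smul_neg, smul_smul,
      neg_smul]
  rw [ht, zero_smul, add_zero] at hst
  exact ⟨(smul_eq_zero.1 hst).resolve_right hb, ht⟩

theorem ln_of_indep {b c : W} (hb : QW b = 0) (hc : QW c = 0) (hbc : polar QW b c = 0) (hb0 : b ≠ 0)
    (h : c ∉ Submodule.span F {b}) : Ln QW b c := by
  refine ⟨hb, hc, hbc, ?_⟩
  rw [LinearIndependent.pair_iff]
  intro s t hst
  have ht : t = 0 := by
    by_contra ht
    apply h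
    rw [Submodule.mem_span_singleton]
    refine ⟨-(t⁻¹ * s), ?_⟩
    have : c = t⁻¹ • (t • c) := by rw [smul_smul, inv_mul_cancel₀ ht, one_smul]
    rw [this, show t • c = -(s • b) from by rw [eq_neg_iff_add_eq_zero, add_comm]; exact hst, smul_neg, smul_smul,
      neg_smul]
  rw [ht, zero_smul, add_zero] at hst
  exact ⟨(smul_eq_zero.1 hst).resolve_right hb0, ht⟩

theorem tens_of_sca [Finite F] (T : TO QE QW Q M) (hr : Rt Q M r)
    (h : ∀ b c, Ln QW b c → Sca QW r b c) : Tens r := by
  have hQ := T.ndW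
  have h0 : ∀ b, QW b = 0 → rho QW r b b = 0 := by
    intro b hb
    by_cases hb0 : b = 0
    · rw [hb0, map_zero]
    obtain ⟨c, hc⟩ := exists_Ln hQ T.hW hb0 hb
    exact (rho_sca hQ hc (h b c hc)).1
  obtain ⟨R, hR⟩ := van5 T.h2 hQ T.hW (rho QW r) h0
  -- the alternating part modulo scalars
  set S := Submodule.span F {(LinearMap.id : E →ₗ[F] E)} with hS
  set a : W →ₗ[F] W →ₗ[F] ((E →ₗ[F] E) ⧸ S) := (rho QW r - (rho QW r).flip).compr₂ S.mkQ with ha
  have ha' : ∀ w w', a w w' = S.mkQ (rho QW r w w' - rho QW r w' w) := fun w w' => rfl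
  have hsc : ∀ b c, QW b = 0 → QW c = 0 → polar QW b c = 0 → a b c = 0 := by
    intro b c hb hc hbc
    by_cases hb0 : b = 0
    · rw [hb0, map_zero]; rfl
    by_cases hcb : c ∈ Submodule.span F {b}
    · obtain ⟨t, rfl⟩ := Submodule.mem_span_singleton.1 hcb
      rw [map_smul, ha', sub_self, map_zero, smul_zero]
    have hl : Ln QW b c := ln_of_indep hb hc hbc hb0 hcb
    have hc0 : c ≠ 0 := by rintro rfl; exact hcb (Submodule.zero_mem _)
    have hl' : Ln QW c b := by
      refine ⟨hc, hb, by rw [polar_comm]; exact hbc, ?_⟩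
      exact LinearIndependent.pair_symm_iff.1 hl.2.2.2
    obtain ⟨-, s, hs⟩ := rho_sca hQ hl (h b c hl)
    obtain ⟨-, t, ht⟩ := rho_sca hQ hl' (h c b hl')
    rw [ha', hs, ht, Submodule.mkQ_apply, Submodule.Quotient.mk_eq_zero, ← sub_smul]
    exact Submodule.smul_mem _ _ (Submodule.mem_span_singleton_self _)
  have haz := alt_zero T.h2 hQ T.hW a (fun w => by rw [ha', sub_self, map_zero]) hsc
  apply tens_of_blocks hQ (by have := T.hE; omega) ((2 : F)⁻¹ • R)
  intro w w'
  have h1 := haz w w'
  rw [ha', Submodule.mkQ_apply, Submodule.Quotient.mk_eq_zero, hS, Submodule.mem_span_singleton] at h1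
  obtain ⟨t, ht⟩ := h1
  have h3 : rho QW r w w' + rho QW r w' w = polar QW w w' • R := by
    have h4 := hR (w + w')
    rw [Q_add, add_smul, add_smul, ← hR w, ← hR w'] at h4
    simp only [map_add, LinearMap.add_apply] at h4
    have h5 : rho QW r w w' + rho QW r w' w = (rho QW r w w + rho QW r w' w + (rho QW r w w' + rho QW r w' w'))
        - rho QW r w w - rho QW r w' w' := by abel
    rw [h5, h4]; abel
  refine ⟨(2 : F)⁻¹ * t, ?_⟩
  have h6 : (2 : F) • rho QW r w w' = polar QW w w' • R + t • LinearMap.id := by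
    rw [two_smul, ← h3, ht]; abel
  calc rho QW r w w' = (2 : F)⁻¹ • ((2 : F) • rho QW r w w') := by rw [smul_smul, inv_mul_cancel₀ T.h2, one_smul]
    _ = _ := by rw [h6, smul_add, smul_smul, smul_smul, smul_smul, mul_comm (polar QW w w')]

end Cfsg.Agent.Lib.TenOO_A7b
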