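import Mathlib
import Cfsg.Agent.Lib.TenOO_A7b

set_option autoImplicit false

/-!
# Overgroups of `O ⊗ O` in orthogonal groups: piece A7c (helper20)
-/

namespace Cfsg.Agent.Lib.TenOO_A7c

open QuadraticMap Module Cfsg.Agent.Lib.Quad Cfsg.Agent.Lib.OrthMax Cfsg.Agent.Lib.OrthNd Cfsg.Agent.Lib.TenSLH94
  Cfsg.Agent.Lib.TenOO Cfsg.Agent.Lib.TenOO_A7b

variable {F E W : Type*} [Field F] [AddCommGroup E] [Module F E] [FiniteDimensional F E]
  [AddCommGroup W] [Module F W] [FiniteDimensional F W]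
  {QE : QuadraticForm F E} {QW : QuadraticForm F W} {Q : QuadraticForm F (W →ₗ[F] E)}
  {M : Subgroup ((W →ₗ[F] E) ≃ₗ[F] (W →ₗ[F] E))} {r : Module.End F (W →ₗ[F] E)}

/-- the computation in the hyperbolic space `⟨b,b'⟩ ⟂ ⟨f₁,f₂⟩` -/
theorem four_aux {X : Type*} [AddCommGroup X] [Module F X] (h2 : (2 : F) ≠ 0) {T4 : Submodule F W}
    (f : W →ₗ[F] W →ₗ[F] X) (ha : ∀ w, f w w = 0) {d : F} (hd : d ≠ 0)
    (h : ∀ b c, b ∈ T4 → c ∈ T4 → b ≠ 0 → QW b = 0 → QW c = d → polar QW b c = 0 → f b c = 0)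
    {b b' f₁ f₂ : W} (hbT : b ∈ T4) (hbT' : b' ∈ T4) (hfT₁ : f₁ ∈ T4) (hfT₂ : f₂ ∈ T4)
    (hQb : QW b = 0) (hQb' : QW b' = 0) (hQ₁ : QW f₁ = 0) (hQ₂ : QW f₂ = 0)
    (hbb : polar QW b b' = 1) (hff : polar QW f₁ f₂ = 1) (h1 : polar QW b f₁ = 0) (h2' : polar QW b f₂ = 0)
    (h3 : polar QW b' f₁ = 0) (h4 : polar QW b' f₂ = 0) :
    f f₁ b' = 0 ∧ f f₁ f₂ = f b b' := by
  have hbf : ∀ k : F, b + k • f₁ ≠ 0 := by
    intro k h0
    have := congrArg (fun x => polar QW x b') h0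
    simp only [polar_add_left, polar_smul_left, hbb, polar_comm QW f₁ b', h3, smul_zero, add_zero] at this
    simp [polar_zero_left] at this
  have hb0 : b ≠ 0 := by
    have := hbf 0
    simpa using this
  have k0 : f b f₁ + d • f b f₂ = 0 := by
    have := h b (f₁ + d • f₂) hbT (T4.add_mem hfT₁ (T4.smul_mem _ hfT₂)) hb0 hQb
      (by rw [Q_add, Q_smul, hQ₁, hQ₂, polar_smul_right, hff]; simp)
      (by rw [polar_add_right, polar_smul_right, h1, h2']; simp)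
    simpa using this
  have key : ∀ k : F, (k * d) • (f f₁ f₂ - f b b') = (k * k * d) • f f₁ b' := by
    intro k
    have h5 := h (b + k • f₁) (f₁ + d • f₂ - (k * d) • b') (T4.add_mem hbT (T4.smul_mem _ hfT₁))
      (T4.sub_mem (T4.add_mem hfT₁ (T4.smul_mem _ hfT₂)) (T4.smul_mem _ hbT')) (hbf k)
      (by rw [Q_add, Q_smul, hQb, hQ₁, polar_smul_right, h1]; simp)
      (by
        rw [Q_sub, Q_add, Q_smul, Q_smul, hQ₁, hQ₂, hQb', polar_smul_right, hff, polar_smul_right, polar_add_left,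
          polar_smul_left, polar_comm QW f₁ b', h3, polar_comm QW f₂ b', h4]
        simp)
      (by
        rw [polar_add_left, polar_sub_right, polar_sub_right, polar_add_right, polar_add_right, polar_smul_right,
          polar_smul_right, h1, h2', hbb, polar_smul_left, polar_smul_left, polar_smul_left, polar_smul_right,
          polar_smul_right, hff, polar_self', hQ₁, polar_comm QW f₁ b', h3]
        simp)
    simp only [map_add, map_sub, map_smul, LinearMap.add_apply, LinearMap.smul_apply, ha, smul_zero, add_zero] at h5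
    have e1 : (k * d) • (f f₁ f₂ - f b b') - (k * k * d) • f f₁ b' =
        (f b f₁ + d • f b f₂) + ((k * d) • (f f₁ f₂ - f b b') - (k * k * d) • f f₁ b') := by
      rw [k0, zero_add]
    rw [← sub_eq_zero, e1, ← h5]
    module
  have k1 := key 1
  have k2 := key (-1)
  rw [one_mul, one_mul, one_mul] at k1
  rw [neg_one_mul, neg_mul_neg, one_mul, one_mul, neg_smul] at k2
  have k3 : (2 : F) • (d • f f₁ b') = 0 := by
    rw [two_smul]
    nth_rewrite 1 [← k1]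
    rw [← k2]; abel
  have k4 : f f₁ b' = 0 := by
    have := (smul_eq_zero.1 k3).resolve_left h2
    exact (smul_eq_zero.1 this).resolve_left hd
  rw [k4, smul_zero] at k1
  exact ⟨k4, sub_eq_zero.1 ((smul_eq_zero.1 k1).resolve_left hd)⟩

theorem four_zero {X : Type*} [AddCommGroup X] [Module F X] (h2 : (2 : F) ≠ 0) {T4 : Submodule F W}
    (f : W →ₗ[F] W →ₗ[F] X) (ha : ∀ w, f w w = 0) {d : F} (hd : d ≠ 0)
    (h : ∀ b c, b ∈ T4 → c ∈ T4 → b ≠ 0 → QW b = 0 → QW c = d → polar QW b c = 0 → f b c = 0)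
    {b b' f₁ f₂ : W} (hbT : b ∈ T4) (hbT' : b' ∈ T4) (hfT₁ : f₁ ∈ T4) (hfT₂ : f₂ ∈ T4)
    (hQb : QW b = 0) (hQb' : QW b' = 0) (hQ₁ : QW f₁ = 0) (hQ₂ : QW f₂ = 0)
    (hbb : polar QW b b' = 1) (hff : polar QW f₁ f₂ = 1) (h1 : polar QW b f₁ = 0) (h2' : polar QW b f₂ = 0)
    (h3 : polar QW b' f₁ = 0) (h4 : polar QW b' f₂ = 0)
    (hspan : ∀ x ∈ T4, ∃ α β γ δ : F, x = α • b + β • b' + γ • f₁ + δ • f₂) :
    ∀ x ∈ T4, ∀ y ∈ T4, f x y = 0 := by
  have hsk : ∀ x y, f x y = - f y x := by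
    intro x y
    have h1 := ha (x + y)
    simp only [map_add, LinearMap.add_apply, ha] at h1
    rw [eq_neg_iff_add_eq_zero, ← h1]; abel
  have hbb' : polar QW b' b = 1 := by rw [polar_comm]; exact hbb
  have hff' : polar QW f₂ f₁ = 1 := by rw [polar_comm]; exact hff
  obtain ⟨a1, a2⟩ := four_aux h2 f ha hd h hbT hbT' hfT₁ hfT₂ hQb hQb' hQ₁ hQ₂ hbb hff h1 h2' h3 h4
  obtain ⟨b1, b2⟩ := four_aux h2 f ha hd h hbT hbT' hfT₂ hfT₁ hQb hQb' hQ₂ hQ₁ hbb hff' h2' h1 h4 h3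
  obtain ⟨c1, c2⟩ := four_aux h2 f ha hd h hbT' hbT hfT₁ hfT₂ hQb' hQb hQ₁ hQ₂ hbb' hff h3 h4 h1 h2'
  obtain ⟨d1, d2⟩ := four_aux h2 f ha hd h hbT' hbT hfT₂ hfT₁ hQb' hQb hQ₂ hQ₁ hbb' hff' h4 h3 h2' h1
  have e1 : f b b' = 0 := by
    have h5 : (2 : F) • f b b' = 0 := by
      rw [two_smul]
      nth_rewrite 1 [← a2]
      rw [← b2, hsk f₁ f₂]; abel
    exact (smul_eq_zero.1 h5).resolve_left h2
  have e2 : f f₁ f₂ = 0 := by rw [a2, e1]
  intro x hx y hy
  obtain ⟨α, β, γ, δ, rfl⟩ := hspan x hx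
  obtain ⟨α', β', γ', δ', rfl⟩ := hspan y hy
  have g1 : f b' b = 0 := by rw [hsk, e1, neg_zero]
  have g2 : f f₂ f₁ = 0 := by rw [hsk, e2, neg_zero]
  have g3 : f b' f₁ = 0 := by rw [hsk, a1, neg_zero]
  have g4 : f b' f₂ = 0 := by rw [hsk, b1, neg_zero]
  have g5 : f b f₁ = 0 := by rw [hsk, c1, neg_zero]
  have g6 : f b f₂ = 0 := by rw [hsk, d1, neg_zero]
  simp only [map_add, map_smul, LinearMap.add_apply, LinearMap.smul_apply, ha, e1, e2, g1, g2, g3, g4, g5, g6, a1, b1,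
    c1, d1, smul_zero, add_zero]

theorem tens_of_four [Finite F] (T : TO QE QW Q M) (hr : Rt Q M r) {T4 : Submodule F W} (h4 : finrank F T4 = 4)
    (hnd : NDs QW T4) (hpl : ∃ b ∈ T4, ∃ c ∈ T4, Ln QW b c) (him : ∀ v, ∀ w ∈ perp QW T4, r v w = 0)
    (h : ∀ b c, Ln QW b c → (b ∉ T4 ∨ c ∉ T4) → Sca QW r b c) : Tens r := by
  have hQ := T.ndW
  have h2 := T.h2
  -- blocks vanish on `T4^⊥`
  have hR1 : ∀ w, ∀ w' ∈ perp QW T4, rho QW r w w' = 0 := fun w w' hw' => LinearMap.ext fun x => him _ w' hw'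
  have hR2 : ∀ w ∈ perp QW T4, ∀ w', rho QW r w w' = 0 := by
    intro w hw w'
    apply LinearMap.ext
    intro x
    apply T.ndE.eq_zero
    intro y
    rw [rho_skew T hr, hR1 w' w hw, LinearMap.zero_apply, polar_zero_left, neg_zero]
  -- a nonsingular vector of `T4^⊥`
  have hnd' : NDs QW (perp QW T4) := nds_perp hQ hnd
  have hdim := hQ.finrank_add_finrank_perp T4
  have hW := T.hW
  obtain ⟨w₀, hw₀, hQw₀⟩ := OrthDecH94.exists_nonsing hnd' (by omega)
  have hw₀' : ∀ t ∈ T4, polar QW t w₀ = 0 := fun t ht => mem_perp.1 hw₀ t ht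
  have hw₀T : w₀ ∉ T4 := by
    intro hm
    have : w₀ ∈ T4 ⊓ perp QW T4 := ⟨hm, hw₀⟩
    rw [show T4 ⊓ perp QW T4 = ⊥ from hnd, Submodule.mem_bot] at this
    rw [this, QuadraticMap.map_zero] at hQw₀
    exact hQw₀ rfl
  -- lines outside `T4`
  have hout : ∀ b c, b ∈ T4 → c ∈ T4 → b ≠ 0 → QW b = 0 → QW c = - QW w₀ → polar QW b c = 0 → Ln QW b (c + w₀) ∧
      c + w₀ ∉ T4 := by
    intro b c hb hc hb0 hQb hQc hbc
    have hcT : c + w₀ ∉ T4 := by
      intro hm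
      exact hw₀T ((T4.add_mem_iff_right hc).1 hm)
    refine ⟨ln_of_indep hQb (by rw [Q_add, hQc, hw₀' c hc]; ring) (by rw [polar_add_right, hbc, hw₀' b hb, add_zero])
      hb0 ?_, hcT⟩
    intro hm
    apply hcT
    exact (Submodule.span_singleton_le_iff_mem b T4).2 hb hm
  have hdiag : ∀ b, QW b = 0 → rho QW r b b = 0 := by
    intro b hb
    by_cases hb0 : b = 0
    · rw [hb0, map_zero]
    by_cases hbT : b ∈ T4
    · obtain ⟨b', hb', hQb', hbb'⟩ := exists_partner hQ hnd hbT hb0 hb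
      have hc := nds_cut hQ hnd hbT hb' hb hQb' hbb'
      have hcd := finrank_cut hQ T4 b b'
      obtain ⟨t, ht, hQt⟩ := OrthDecH94.universal hQ h2 hc (by omega) (- QW w₀)
      obtain ⟨htT, hbt, -⟩ := mem_cut.1 ht
      obtain ⟨hl, hcT⟩ := hout b t hbT htT hb0 hb hQt hbt
      exact (rho_sca hQ hl (h b _ hl (Or.inr hcT))).1
    · obtain ⟨c, hc⟩ := exists_Ln hQ T.hW hb0 hb
      exact (rho_sca hQ hc (h b c hc (Or.inl hbT))).1
  obtain ⟨R, hR⟩ := van5 h2 hQ T.hW (rho QW r) hdiag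
  have hR0 : R = 0 := by
    have h1 := hR w₀
    rw [hR1 w₀ w₀ hw₀] at h1
    exact (smul_eq_zero.1 h1.symm).resolve_left hQw₀
  have halt : ∀ w, rho QW r w w = 0 := by
    intro w; rw [hR w, hR0, smul_zero]
  -- modulo scalars
  set S := Submodule.span F {(LinearMap.id : E →ₗ[F] E)} with hS
  set a : W →ₗ[F] W →ₗ[F] ((E →ₗ[F] E) ⧸ S) := (rho QW r).compr₂ S.mkQ with ha
  have ha' : ∀ w w', a w w' = S.mkQ (rho QW r w w') := fun w w' => rfl
  have hd : - QW w₀ ≠ 0 := neg_ne_zero.2 hQw₀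
  have hsc : ∀ b c, b ∈ T4 → c ∈ T4 → b ≠ 0 → QW b = 0 → QW c = - QW w₀ → polar QW b c = 0 → a b c = 0 := by
    intro b c hb hc hb0 hQb hQc hbc
    obtain ⟨hl, hcT⟩ := hout b c hb hc hb0 hQb hQc hbc
    obtain ⟨-, s, hs⟩ := rho_sca hQ hl (h b _ hl (Or.inr hcT))
    rw [map_add, hR1 b w₀ hw₀, add_zero] at hs
    rw [ha', hs, Submodule.mkQ_apply, Submodule.Quotient.mk_eq_zero]
    exact Submodule.smul_mem _ _ (Submodule.mem_span_singleton_self _)
  -- hyperbolic basis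
  obtain ⟨b, hbT, c, hcT, hQb, hQc, hbc, hli⟩ := hpl
  have hb0 : b ≠ 0 := hli.ne_zero 0
  obtain ⟨b', hbT', hQb', hbb⟩ := exists_partner hQ hnd hbT hb0 hQb
  set P := T4 ⊓ perp QW (Submodule.span F {b, b'}) with hP
  have hPn : NDs QW P := nds_cut hQ hnd hbT hbT' hQb hQb' hbb
  set f₁ := c - polar QW b' c • b with hf₁
  have hf₁T : f₁ ∈ T4 := T4.sub_mem hcT (T4.smul_mem _ hbT)
  have hb'b : polar QW b' b = 1 := by rw [polar_comm]; exact hbb
  have h1 : polar QW b f₁ = 0 := by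
    rw [hf₁, polar_sub_right, polar_smul_right, hbc, polar_self', hQb]; simp
  have h3 : polar QW b' f₁ = 0 := by
    rw [hf₁, polar_sub_right, polar_smul_right, hb'b]; simp
  have hQf₁ : QW f₁ = 0 := by
    rw [hf₁, Q_sub, Q_smul, hQc, hQb, polar_smul_right, polar_comm QW c b, hbc]; simp
  have hf₁0 : f₁ ≠ 0 := by
    intro h0
    have h5 := LinearIndependent.pair_iff.1 hli (-(polar QW b' c)) 1 (by
      rw [← h0, hf₁]; simp only [neg_smul, one_smul]; abel)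
    exact one_ne_zero h5.2
  have hf₁P : f₁ ∈ P := mem_cut.2 ⟨hf₁T, h1, h3⟩
  obtain ⟨f₂, hf₂P, hQf₂, hff⟩ := exists_partner hQ hPn hf₁P hf₁0 hQf₁
  obtain ⟨hf₂T, h2', h4'⟩ := mem_cut.1 hf₂P
  have hspan : ∀ x ∈ T4, ∃ α β γ δ : F, x = α • b + β • b' + γ • f₁ + δ • f₂ := by
    have hli4 : LinearIndependent F ![b, b', f₁, f₂] := by
      rw [Fintype.linearIndependent_iff]
      intro g hg
      rw [Fin.sum_univ_four] at hg
      simp only [Matrix.cons_val_zero, Matrix.cons_val_one, Matrix.cons_val] at hg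
      have p0 := congrArg (fun x => polar QW b' x) hg
      have p1 := congrArg (fun x => polar QW b x) hg
      have p2 := congrArg (fun x => polar QW f₂ x) hg
      have p3 := congrArg (fun x => polar QW f₁ x) hg
      simp only [polar_add_right, polar_smul_right, polar_self', hQb, hQb', hQf₁, hQf₂, hbb, hb'b, h1, h2', h3, h4', hff,
        polar_comm QW f₂ b', polar_comm QW f₂ b, polar_comm QW f₁ b', polar_comm QW f₁ b, polar_comm QW f₂ f₁,
        polar_zero_right, smul_eq_mul, mul_zero, mul_one, add_zero, zero_add] at p0 p1 p2 p3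
      intro i
      fin_cases i
      · exact p0
      · exact p1
      · exact p2
      · exact p3
    have hle : Submodule.span F (Set.range ![b, b', f₁, f₂]) ≤ T4 := by
      rw [Submodule.span_le]
      rintro _ ⟨i, rfl⟩
      fin_cases i
      · exact hbT
      · exact hbT'
      · exact hf₁T
      · exact hf₂T
    have heq : Submodule.span F (Set.range ![b, b', f₁, f₂]) = T4 := by
      apply Submodule.eq_of_le_of_finrank_le hle
      rw [finrank_span_eq_card hli4, h4]; simp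
    intro x hx
    rw [← heq, Submodule.mem_span_range_iff_exists_fun] at hx
    obtain ⟨g, hg⟩ := hx
    refine ⟨g 0, g 1, g 2, g 3, ?_⟩
    rw [← hg, Fin.sum_univ_four]
    simp
  have hz := four_zero h2 a (fun w => by rw [ha', halt w, map_zero]) hd hsc hbT hbT' hf₁T hf₂T hQb hQb' hQf₁ hQf₂ hbb hff
    h1 h2' h3 h4' hspan
  apply tens_of_blocks hQ (by have := T.hE; omega) 0
  intro w w'
  have hdec : ∀ x : W, ∃ t ∈ T4, ∃ p ∈ perp QW T4, x = t + p := by
    intro x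
    have hsup : T4 ⊔ perp QW T4 = ⊤ := by
      apply Submodule.eq_top_of_finrank_eq
      have h5 := Submodule.finrank_sup_add_finrank_inf_eq T4 (perp QW T4)
      rw [show T4 ⊓ perp QW T4 = ⊥ from hnd, finrank_bot] at h5
      omega
    have hx : x ∈ T4 ⊔ perp QW T4 := by rw [hsup]; exact Submodule.mem_top
    obtain ⟨t, ht, p, hp, rfl⟩ := Submodule.mem_sup.1 hx
    exact ⟨t, ht, p, hp, rfl⟩
  obtain ⟨t, ht, p, hp, rfl⟩ := hdec w
  obtain ⟨t', ht', p', hp', rfl⟩ := hdec w'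
  have h5 : rho QW r (t + p) (t' + p') = rho QW r t t' := by
    rw [map_add, hR1 (t + p) p' hp', add_zero, map_add, LinearMap.add_apply, hR2 p hp, add_zero]
  have h6 := hz t ht t' ht'
  rw [ha', Submodule.mkQ_apply, Submodule.Quotient.mk_eq_zero, hS, Submodule.mem_span_singleton] at h6
  obtain ⟨s, hs⟩ := h6
  refine ⟨s, ?_⟩
  rw [h5, ← hs, smul_zero, zero_add]

end Cfsg.Agent.Lib.TenOO_A7c
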