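import Cfsg.Agent.Lib.TenOO1

/-!
# Overgroups of `O ⊗ O` in orthogonal groups: Case II, assembly (helper46)
-/

set_option autoImplicit false
set_option linter.unusedSectionVars false
set_option linter.unusedSimpArgs false
set_option linter.unusedVariables false

namespace Cfsg.Agent.Lib.TenOO_A8

open QuadraticMap Module Cfsg.Agent.Lib.Quad Cfsg.Agent.Lib.OrthMax Cfsg.Agent.Lib.OrthNd Cfsg.Agent.Lib.TenSLH94
open Cfsg.Agent.Lib.TenOO

variable {F E W : Type*} [Field F] [AddCommGroup E] [Module F E] [FiniteDimensional F E]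
  [AddCommGroup W] [Module F W] [FiniteDimensional F W]
  {QE : QuadraticForm F E} {QW : QuadraticForm F W} {Q : QuadraticForm F (W →ₗ[F] E)}
  {M : Subgroup ((W →ₗ[F] E) ≃ₗ[F] (W →ₗ[F] E))}

theorem polar_self0 {b : W} (hb : QW b = 0) : polar QW b b = 0 := by
  rw [polar_self', hb, mul_zero]

theorem tb_add_left (x y : E) (b : W) : tb QW (x + y) b = tb QW x b + tb QW y b :=
  LinearMap.ext fun w => by simp [tb_apply, smul_add]

theorem tb_smul_left (t : F) (x : E) (b : W) : tb QW (t • x) b = t • tb QW x b :=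
  LinearMap.ext fun w => by
    rw [tb_apply, LinearMap.smul_apply, tb_apply, smul_comm]

theorem tb_add_right (x : E) (b c : W) : tb QW x (b + c) = tb QW x b + tb QW x c :=
  LinearMap.ext fun w => by simp [tb_apply, polar_add_left, add_smul]

theorem tb_smul_right (t : F) (x : E) (b : W) : tb QW x (t • b) = t • tb QW x b :=
  LinearMap.ext fun w => by simp [tb_apply, polar_smul_left, mul_smul]

theorem tb_neg_left (x : E) (b : W) : tb QW (-x) b = - tb QW x b :=
  LinearMap.ext fun w => by simp [tb_apply]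

theorem tb_zero_left (b : W) : tb QW (0 : E) b = 0 :=
  LinearMap.ext fun w => by simp [tb_apply]

/-- dual vectors -/
theorem exists_dual (hQ : Nd QW) {b c : W} (h : LinearIndependent F ![b, c]) :
    ∃ b' c', polar QW b b' = 1 ∧ polar QW c b' = 0 ∧ polar QW b c' = 0 ∧ polar QW c c' = 1 := by
  have key : ∀ b c : W, LinearIndependent F ![b, c] → ∃ b', polar QW b b' = 1 ∧ polar QW c b' = 0 := by
    intro b c h
    have hb : (polarBilin QW b) ∉ Submodule.span F {polarBilin QW c} := by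
      intro hmem
      obtain ⟨t, ht⟩ := Submodule.mem_span_singleton.1 hmem
      rw [LinearIndependent.pair_iff] at h
      have h1 : b - t • c = 0 := by
        apply hQ.eq_zero
        intro y
        have h2 := DFunLike.congr_fun ht y
        rw [LinearMap.smul_apply, polarBilin_apply_apply, polarBilin_apply_apply, smul_eq_mul] at h2
        rw [polar_sub_left, polar_smul_left, smul_eq_mul, h2, sub_self]
      have h3 := h 1 (-t) (by rw [one_smul, neg_smul, ← sub_eq_add_neg, h1])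
      exact one_ne_zero h3.1
    obtain ⟨v, hv, hv'⟩ := exists_sep hb
    exact ⟨v, hv, hv'⟩
  obtain ⟨b', h1, h2⟩ := key b c h
  have h' : LinearIndependent F ![c, b] := by
    rw [LinearIndependent.pair_iff] at h ⊢
    intro s t hst
    have := h t s (by rw [add_comm]; exact hst)
    exact ⟨this.2, this.1⟩
  obtain ⟨c', h3, h4⟩ := key c b h'
  exact ⟨b', c', h1, h2, h4, h3⟩

/-- lines exist -/
theorem exists_line [Finite F] (hQ : Nd QW) (h5 : 5 ≤ finrank F W) : ∃ b c, Ln QW b c := by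
  obtain ⟨b, -, hb0, hQb⟩ := exists_sing_in (Q := QW) (⊤ : Submodule F W) (by rw [finrank_top]; omega)
  have h1 : finrank F W = finrank F (LinearMap.range (polarBilin QW b)) + finrank F (LinearMap.ker (polarBilin QW b)) :=
    (LinearMap.finrank_range_add_finrank_ker _).symm
  have h2 : finrank F (LinearMap.range (polarBilin QW b)) ≤ 1 := by
    refine (Submodule.finrank_le _).trans ?_
    rw [finrank_self]
  obtain ⟨c, hc, hcb, hQc⟩ := OrthPoint.exists_sing_avoid (Q := QW) (LinearMap.ker (polarBilin QW b)) (Submodule.span F {b})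
    (by rw [finrank_span_singleton hb0]; omega)
  refine ⟨b, c, hQb, hQc, hc, ?_⟩
  rw [LinearIndependent.pair_iff' hb0]
  intro a ha
  exact hcb (Submodule.mem_span_singleton.2 ⟨a, ha⟩)

section chi

variable {b c : W}

theorem chi_chi (h : Ln QW b c) (v : W →ₗ[F] E) : chi QW b c (chi QW b c v) = 0 := by
  obtain ⟨hb, hc, hbc, -⟩ := h
  have hcb : polar QW c b = 0 := by rw [polar_comm, hbc]
  rw [chi_apply QW b c (chi QW b c v), chi_apply]
  simp only [LinearMap.sub_apply, tb_apply, polar_self0 hb, polar_self0 hc, hbc, hcb, zero_smul, sub_zero, tb_zero_left]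

theorem exists_chi (hQ : Nd QW) (h : Ln QW b c) (x y : E) : ∃ u : W →ₗ[F] E, chi QW b c u = tb QW x b + tb QW y c := by
  obtain ⟨b', c', h1, h2, h3, h4⟩ := exists_dual hQ h.2.2.2
  refine ⟨tb QW y b' - tb QW x c', ?_⟩
  rw [chi_apply]
  simp only [LinearMap.sub_apply, tb_apply, polar_comm QW b' b, polar_comm QW b' c, polar_comm QW c' b, polar_comm QW c' c,
    h1, h2, h3, h4, one_smul, zero_smul, sub_zero, zero_sub, tb_neg_left]
  abel

/-- the parametrisation of `E ⊗ L` -/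
noncomputable def ul (QW : QuadraticForm F W) (b c : W) : E × E →ₗ[F] (W →ₗ[F] E) where
  toFun p := tb QW p.1 b + tb QW p.2 c
  map_add' p q := by simp only [Prod.fst_add, Prod.snd_add, tb_add_left]; abel
  map_smul' t p := by simp only [Prod.smul_fst, Prod.smul_snd, tb_smul_left, RingHom.id_apply, smul_add]

theorem ul_inj (hQ : Nd QW) (h : Ln QW b c) : Function.Injective (ul (E := E) QW b c) := by
  rw [← LinearMap.ker_eq_bot, LinearMap.ker_eq_bot']
  rintro ⟨x, y⟩ hxy
  obtain ⟨b', c', h1, h2, h3, h4⟩ := exists_dual hQ h.2.2.2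
  have e1 := LinearMap.congr_fun hxy b'
  have e2 := LinearMap.congr_fun hxy c'
  change tb QW x b b' + tb QW y c b' = 0 at e1
  change tb QW x b c' + tb QW y c c' = 0 at e2
  rw [tb_apply, tb_apply, h1, h2, one_smul, zero_smul, add_zero] at e1
  rw [tb_apply, tb_apply, h3, h4, one_smul, zero_smul, zero_add] at e2
  rw [e1, e2]; rfl

theorem range_chi (hQ : Nd QW) (h : Ln QW b c) :
    LinearMap.range (chi QW b c : Module.End F (W →ₗ[F] E)) = LinearMap.range (ul QW b c) := by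
  apply le_antisymm
  · rintro _ ⟨v, rfl⟩
    refine ⟨(-(v c), v b), ?_⟩
    show tb QW (-(v c)) b + tb QW (v b) c = chi QW b c v
    rw [chi_apply, tb_neg_left]; abel
  · rintro _ ⟨⟨x, y⟩, rfl⟩
    obtain ⟨u, hu⟩ := exists_chi hQ h x y
    exact ⟨u, hu⟩

theorem rank_chi (hQ : Nd QW) (h : Ln QW b c) :
    finrank F (LinearMap.range (chi QW b c : Module.End F (W →ₗ[F] E))) = 2 * finrank F E := by
  rw [range_chi hQ h, LinearMap.finrank_range_of_inj (ul_inj hQ h), finrank_prod, two_mul]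

end chi

theorem rt_chi (T : TO QE QW Q M) {b c : W} (h : Ln QW b c) : Rt Q M (chi QW b c) where
  sq := chi_chi h
  me t := by
    obtain ⟨s, hs, hsv⟩ := T.tB b (t • c) h.1 (by rw [polar_smul_right, h.2.2.1, smul_zero])
    refine ⟨s, hs, fun v => ?_⟩
    rw [hsv, SgV, Q_smul, h.2.1, mul_zero, zero_smul, sub_zero, tb_smul_right, map_smul, tb_smul_left, chi_apply, smul_sub]
    abel
  sk u v := by
    rw [chi_apply, chi_apply, polar_sub_left, polar_sub_right, T.pol, T.pol, polar_comm Q u, polar_comm Q u, T.pol, T.pol,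
      polar_comm QE (v c), polar_comm QE (v b)]
    ring
  rk := rank_chi T.ndW h

theorem rt_conj (T : TO QE QW Q M) {r : Module.End F (W →ₗ[F] E)} (hr : Rt Q M r) {g : (W →ₗ[F] E) ≃ₗ[F] (W →ₗ[F] E)}
    (hg : g ∈ M) : Rt Q M ((g : (W →ₗ[F] E) →ₗ[F] (W →ₗ[F] E)) ∘ₗ r ∘ₗ (g.symm : (W →ₗ[F] E) →ₗ[F] (W →ₗ[F] E))) where
  sq v := by
    show g (r (g.symm (g (r (g.symm v))))) = 0
    rw [LinearEquiv.symm_apply_apply, hr.sq, map_zero]
  me t := by
    obtain ⟨s, hs, hsv⟩ := hr.me t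
    refine ⟨g * s * g⁻¹, mul_mem (mul_mem hg hs) (inv_mem hg), fun v => ?_⟩
    show g (s (g.symm v)) = v + t • g (r (g.symm v))
    rw [hsv, map_add, map_smul, LinearEquiv.apply_symm_apply]
  sk u v := by
    show polar Q (g (r (g.symm u))) v = - polar Q u (g (r (g.symm v)))
    have h1 := O_polar (T.hM hg) (r (g.symm u)) (g.symm v)
    have h2 := O_polar (T.hM hg) (g.symm u) (r (g.symm v))
    rw [LinearEquiv.apply_symm_apply] at h1 h2
    rw [h1, h2, hr.sk]
  rk := by
    rw [← hr.rk]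
    have h1 : LinearMap.range ((g : (W →ₗ[F] E) →ₗ[F] (W →ₗ[F] E)) ∘ₗ r ∘ₗ
        (g.symm : (W →ₗ[F] E) →ₗ[F] (W →ₗ[F] E))) =
        (LinearMap.range r).map (g : (W →ₗ[F] E) →ₗ[F] (W →ₗ[F] E)) := by
      ext v
      constructor
      · rintro ⟨u, rfl⟩
        exact ⟨_, ⟨g.symm u, rfl⟩, rfl⟩
      · rintro ⟨_, ⟨u, rfl⟩, rfl⟩
        exact ⟨g u, by
          show g (r (g.symm (g u))) = g (r u)
          rw [LinearEquiv.symm_apply_apply]⟩
    rw [h1, LinearEquiv.finrank_map_eq]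

/-- **Case II**, from the pieces -/
theorem caseII_of [Finite F] (T : TO QE QW Q M) (hF : FixF QW M) (hL : LineF QW M)
    (A5 : ∀ {b c : W} {r : Module.End F (W →ₗ[F] E)}, Ln QW b c → Rt Q M r → Sca QW r b c ∨ Ivo QW M r b c)
    (A6 : ∀ {b c : W} {r : Module.End F (W →ₗ[F] E)}, Ln QW b c → Rt Q M r → Ivo QW M r b c → Evn QW r b c)
    (A4 : ∀ {r : Module.End F (W →ₗ[F] E)}, Rt Q M r → Tens r → Std QW r)
    (A7a : ∀ {r : Module.End F (W →ₗ[F] E)}, Rt Q M r → (∀ b c, Ln QW b c → Sca QW r b c ∨ Evn QW r b c) →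
      ¬ Std QW r → (∃ b c, Ln QW b c ∧ ¬ Sca QW r b c) →
      ∃ T4 : Submodule F W, finrank F T4 = 4 ∧ NDs QW T4 ∧ (∃ b ∈ T4, ∃ c ∈ T4, Ln QW b c) ∧
        (∀ v, ∀ w ∈ perp QW T4, r v w = 0) ∧ ∀ b c, Ln QW b c → (b ∉ T4 ∨ c ∉ T4) → Sca QW r b c)
    (A7b : ∀ {r : Module.End F (W →ₗ[F] E)}, Rt Q M r → (∀ b c, Ln QW b c → Sca QW r b c) → Tens r)
    (A7c : ∀ {r : Module.End F (W →ₗ[F] E)}, Rt Q M r → ∀ {T4 : Submodule F W}, finrank F T4 = 4 → NDs QW T4 →
      (∃ b ∈ T4, ∃ c ∈ T4, Ln QW b c) → (∀ v, ∀ w ∈ perp QW T4, r v w = 0) →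
      (∀ b c, Ln QW b c → (b ∉ T4 ∨ c ∉ T4) → Sca QW r b c) → Tens r) :
    ∀ g ∈ M, ∃ p q, g = ac p q := by
  have std : ∀ {r : Module.End F (W →ₗ[F] E)}, Rt Q M r → Std QW r := by
    intro r hr
    have h : ∀ b c, Ln QW b c → Sca QW r b c ∨ Evn QW r b c := fun b c hbc =>
      (A5 hbc hr).imp_right (A6 hbc hr)
    by_contra hns
    by_cases hex : ∃ b c, Ln QW b c ∧ ¬ Sca QW r b c
    · obtain ⟨T4, h4, hnd, hpl, him, hsc⟩ := A7a hr h hns hex
      exact hns (A4 hr (A7c hr h4 hnd hpl him hsc))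
    · push Not at hex
      exact hns (A4 hr (A7b hr hex))
  intro g hg
  obtain ⟨b, c, hbc⟩ := exists_line T.ndW T.hW
  obtain ⟨b', c', hbc', hst⟩ := std (rt_conj T (rt_chi T hbc) hg)
  refine hL g hg b c b' c' hbc hbc' fun x y => ?_
  obtain ⟨u, hu⟩ := exists_chi T.ndW hbc x y
  have h1 := hst (g u)
  change g (chi QW b c (g.symm (g u))) = chi QW b' c' (g u) at h1
  rw [LinearEquiv.symm_apply_apply, hu, chi_apply] at h1
  refine ⟨-((g u) c'), (g u) b', ?_⟩
  rw [h1, tb_neg_left]; abel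

end Cfsg.Agent.Lib.TenOO_A8
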