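import Mathlib
import Cfsg.Agent.Lib.TenOO1
import Cfsg.Agent.Lib.TenOO_L
import Cfsg.Agent.Lib.TenOO_B2

/-!
# Overgroups of `O ⊗ O`, end of piece B1: commuting self-adjoint maps (helper14)
-/

set_option autoImplicit false
set_option linter.unusedSectionVars false
set_option linter.unusedSimpArgs false
set_option linter.unusedVariables false

namespace Cfsg.Agent.Lib.TenOO_B1e

open QuadraticMap Module Cfsg.Agent.Lib.Quad Cfsg.Agent.Lib.OrthMax Cfsg.Agent.Lib.OrthNd
open Cfsg.Agent.Lib.TenSLH94 Cfsg.Agent.Lib.TenOO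

variable {F E : Type*} [Field F] [AddCommGroup E] [Module F E] [FiniteDimensional F E]
  {QE : QuadraticForm F E}

/-- the rank one map `v ↦ (a, v) a` -/
noncomputable def th (QE : QuadraticForm F E) (a : E) : E →ₗ[F] E := (polarBilin QE a).smulRight a

theorem th_apply (a v : E) : th QE a v = polar QE a v • a := rfl

theorem conj_apply {X : E →ₗ[F] E} (h : ∀ x y, polar QE (X x) y = polar QE x (X y)) (a e v : E) :
    (siegMap QE a e ∘ₗ X ∘ₗ siegMap QE a (-e)) v +
      (siegMap QE a (-e) ∘ₗ X ∘ₗ siegMap QE a (- -e)) v =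
      (2 : F) • X v - (2 * (polar QE a v * QE e)) • X a - (2 * (QE e * polar QE a (X v))) • a
       - (2 * polar QE a v * polar QE a (X e)) • e + (2 * polar QE e v * polar QE a (X a)) • e
       + (2 * polar QE a v * polar QE e (X e)) • a - (2 * polar QE e v * polar QE e (X a)) • a
       + (2 * (QE e * QE e * polar QE a (X a)) * polar QE a v) • a := by
  have h1 : polar QE e (X a) = polar QE a (X e) := by rw [← h, polar_comm]
  simp only [LinearMap.comp_apply, siegMap_apply, neg_neg, QuadraticMap.map_neg, polar_neg_left,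
    map_add, map_sub, map_smul, map_neg, smul_neg,
    polar_add_right, polar_sub_right, polar_smul_right, polar_neg_right, h1, smul_eq_mul]
  module

variable [Finite F]

/-- commuting self-adjoint maps, stable under Siegel maps, are scalar -/
theorem comm_scalar (h2 : (2 : F) ≠ 0) (hE : Nd QE) (h3 : 3 ≤ finrank F E)
    (hex : 4 ≤ finrank F E ∨ ∃ s : F, s ≠ 0 ∧ s ≠ 1 ∧ s ≠ -1) (N : Submodule F (E →ₗ[F] E))
    (hsa : ∀ X ∈ N, ∀ x y, polar QE (X x) y = polar QE x (X y))
    (hconj : ∀ a e, QE a = 0 → polar QE a e = 0 → ∀ X ∈ N,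
      siegMap QE a e ∘ₗ X ∘ₗ siegMap QE a (-e) ∈ N)
    (hcomm : ∀ X ∈ N, ∀ Y ∈ N, ∀ v, X (Y v) = Y (X v)) : ∀ X ∈ N, ∃ c : F, ∀ v, X v = c • v := by
  intro X hX
  have h := hsa X hX
  by_contra hns
  -- a singular vector with `(X a, a) ≠ 0`
  obtain ⟨a, ha, hk⟩ : ∃ a, QE a = 0 ∧ polar QE a (X a) ≠ 0 := by
    by_contra hcon
    push Not at hcon
    apply hns
    obtain ⟨R, hR⟩ := TenOO_L.van h2 hE h3 hex
      ((polarBilin QE).compl₂ X) (fun a ha => hcon a ha)
    refine ⟨R * 2⁻¹, fun v => ?_⟩
    have hR' : ∀ y, polar QE y (X y) = QE y * R := fun y => hR y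
    rw [← sub_eq_zero]
    apply hE.eq_zero
    intro y
    have e1 := hR' (v + y)
    rw [map_add, Q_add, polar_add_left, polar_add_right, polar_add_right, hR', hR', ← h v y,
      polar_comm QE y (X v)] at e1
    rw [polar_sub_left, polar_smul_left, smul_eq_mul]
    have e2 : 2 * (polar QE (X v) y - R * 2⁻¹ * polar QE v y) = 0 := by
      have : (2 : F) * 2⁻¹ = 1 := mul_inv_cancel₀ h2
      linear_combination e1 - R * polar QE v y * this
    exact (mul_eq_zero.1 e2).resolve_left h2
  have ha0 : a ≠ 0 := by rintro rfl; exact hk (polar_zero_left _ _)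
  obtain ⟨b, hb, hab⟩ := TenOO_B2.partner hE ha ha0
  -- `G e`
  obtain ⟨G, hG⟩ : ∃ G : E → (E →ₗ[F] E), ∀ e, G e =
      siegMap QE a e ∘ₗ X ∘ₗ siegMap QE a (-e) + siegMap QE a (-e) ∘ₗ X ∘ₗ siegMap QE a (- -e) -
        (2 : F) • X := ⟨_, fun _ => rfl⟩
  have hGN : ∀ e, polar QE a e = 0 → G e ∈ N := by
    intro e he
    rw [hG]
    exact N.sub_mem (N.add_mem (hconj a e ha he X hX)
      (hconj a (-e) ha (by rw [polar_neg_right, he, neg_zero]) X hX)) (N.smul_mem _ hX)
  have hGv : ∀ e v, G e v = - (2 * (polar QE a v * QE e)) • X a - (2 * (QE e * polar QE a (X v))) • a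
       - (2 * polar QE a v * polar QE a (X e)) • e + (2 * polar QE e v * polar QE a (X a)) • e
       + (2 * polar QE a v * polar QE e (X e)) • a - (2 * polar QE e v * polar QE e (X a)) • a
       + (2 * (QE e * QE e * polar QE a (X a)) * polar QE a v) • a := by
    intro e v
    rw [hG, LinearMap.sub_apply, LinearMap.add_apply, conj_apply h, LinearMap.smul_apply]
    module
  -- `θ_a ∈ N`
  have hth : th QE a ∈ N := by
    obtain ⟨c, hc, hcN⟩ : ∃ c : F, c ≠ 0 ∧ c • th QE a ∈ N := by
      rcases hex with h4 | ⟨s, hs0, hs1, hs2⟩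
      · -- two orthogonal nonsingular vectors
        have e1 := finrank_cut hE (⊤ : Submodule F E) a b
        rw [finrank_top] at e1
        have hnd := nds_cut hE (TenOO_B2.nds_top hE) (e := a) (f := b) trivial trivial ha hb hab
        obtain ⟨d, hd, hQd⟩ := Cfsg.Agent.Lib.OrthDecH94.exists_nonsing hnd (by omega)
        have e2 := OrthDecH94.finrank_cut1 hE
          (A := (⊤ : Submodule F E) ⊓ perp QE (Submodule.span F {a, b})) (a := d)
        obtain ⟨d', hd', hQd'⟩ := Cfsg.Agent.Lib.OrthDecH94.exists_nonsing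
          (OrthDecH94.nds_cut1 hE h2 hnd hd hQd) (by omega)
        obtain ⟨hd'A, hdd'⟩ := OrthDecH94.mem_cut1.1 hd'
        have had : polar QE a d = 0 := (mem_cut.1 hd).2.1
        have had' : polar QE a d' = 0 := (mem_cut.1 hd'A).2.1
        have hd'd : polar QE d' d = 0 := by rw [polar_comm]; exact hdd'
        refine ⟨8 * (polar QE a (X a) * QE d * QE d'), ?_, ?_⟩
        · have : (8 : F) = 2 * 2 * 2 := by norm_num
          rw [this]
          exact mul_ne_zero (mul_ne_zero (mul_ne_zero h2 h2) h2) (mul_ne_zero (mul_ne_zero hk hQd) hQd')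
        · have m1 := hGN (d + d') (by rw [polar_add_right, had, had', add_zero])
          have m2 := hGN (d - d') (by rw [polar_sub_right, had, had', sub_zero])
          have m3 := N.smul_mem (2 : F) (hGN d had)
          have m4 := N.smul_mem (2 : F) (hGN d' had')
          have m5 := N.sub_mem (N.sub_mem (N.add_mem m1 m2) m3) m4
          convert m5 using 1
          refine LinearMap.ext fun v => ?_
          have h8 : polar QE d' (X d) = polar QE d (X d') := by rw [← h, polar_comm]
          simp only [LinearMap.sub_apply, LinearMap.add_apply, LinearMap.smul_apply, hGv, th_apply,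
            map_add, map_sub, polar_add_left, polar_sub_left, polar_add_right, polar_sub_right,
            Q_add, Q_sub, hdd', h8]
          module
      · obtain ⟨d, had, -, hQd⟩ := TenOO_B2.exists_third hE h3 ha hb hab
        refine ⟨2 * (polar QE a (X a) * QE d * QE d) * (s ^ 4 - s ^ 2), ?_, ?_⟩
        · refine mul_ne_zero (mul_ne_zero h2 (mul_ne_zero (mul_ne_zero hk hQd) hQd)) ?_
          have : s ^ 4 - s ^ 2 = s * s * ((s - 1) * (s + 1)) := by ring
          rw [this]
          refine mul_ne_zero (mul_ne_zero hs0 hs0) (mul_ne_zero (sub_ne_zero.2 hs1) ?_)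
          intro h0
          exact hs2 (eq_neg_of_add_eq_zero_left h0)
        · have m1 := hGN (s • d) (by rw [polar_smul_right, had, smul_zero])
          have m2 := N.smul_mem (s ^ 2) (hGN d had)
          have m3 := N.sub_mem m1 m2
          convert m3 using 1
          refine LinearMap.ext fun v => ?_
          simp only [LinearMap.sub_apply, LinearMap.smul_apply, hGv, th_apply,
            map_smul, polar_smul_left, polar_smul_right, Q_smul, smul_eq_mul]
          module
    have := N.smul_mem c⁻¹ hcN
    rwa [smul_smul, inv_mul_cancel₀ hc, one_smul] at this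
  -- a conjugate which does not commute
  obtain ⟨e, hae, hbe, hQe⟩ := TenOO_B2.exists_third hE h3 ha hb hab
  have hba : polar QE b a = 1 := by rw [polar_comm]; exact hab
  obtain ⟨d, hd⟩ : ∃ d, d = a + e - QE e • b := ⟨_, rfl⟩
  have hea : polar QE e a = 0 := by rw [polar_comm]; exact hae
  have heb : polar QE e b = 0 := by rw [polar_comm]; exact hbe
  have hth' : th QE d ∈ N := by
    have m1 := hconj b e hb hbe _ hth
    convert m1 using 1
    refine LinearMap.ext fun v => ?_
    simp only [LinearMap.comp_apply, th_apply, siegMap_apply, map_smul, QuadraticMap.map_neg,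
      polar_neg_left, polar_neg_right, polar_add_right, polar_sub_right, polar_smul_right, hd,
      polar_add_left, polar_sub_left, polar_smul_left, ha, hae, hbe, hab, hba, hea, heb, polar_self',
      smul_eq_mul, smul_neg]
    module
  have hc := hcomm _ hth _ hth' d
  have hQd : QE d = 0 := by
    rw [hd, Q_sub, Q_add, Q_smul, polar_smul_right, polar_add_left, ha, hae, hb, hab, heb]; simp
  have had : polar QE a d = - QE e := by
    rw [hd, polar_sub_right, polar_add_right, polar_smul_right, hab, hae, polar_self', ha]; simp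
  have hda : polar QE d a = - QE e := by rw [polar_comm]; exact had
  rw [th_apply, th_apply, th_apply, th_apply, polar_self', hQd, polar_smul_right, polar_smul_right,
    had, hda] at hc
  simp only [mul_zero, zero_smul, smul_eq_mul, zero_mul, smul_smul] at hc
  have hd0 : d ≠ 0 := by
    rintro h0
    rw [h0, polar_zero_left] at hda
    exact hQe (neg_eq_zero.1 hda.symm)
  have := (smul_eq_zero.1 hc.symm).resolve_right hd0
  exact hQe (by simpa using this)

end Cfsg.Agent.Lib.TenOO_B1e
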