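import Cfsg.Agent.Lib.TenOO_A8

/-!
# Overgroups of `O ⊗ O` in orthogonal groups: Case I, assembly, and the main statement (helper46)
-/

set_option autoImplicit false
set_option linter.unusedSectionVars false
set_option linter.unusedSimpArgs false
set_option linter.unusedVariables false

namespace Cfsg.Agent.Lib.TenOO_B4

open QuadraticMap Module Cfsg.Agent.Lib.Quad Cfsg.Agent.Lib.OrthMax Cfsg.Agent.Lib.OrthNd Cfsg.Agent.Lib.TenSLH94
open Cfsg.Agent.Lib.TenOO Cfsg.Agent.Lib.TenOO_A8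

variable {F E W : Type*} [Field F] [AddCommGroup E] [Module F E] [FiniteDimensional F E]
  [AddCommGroup W] [Module F W] [FiniteDimensional F W]
  {QE : QuadraticForm F E} {QW : QuadraticForm F W} {Q : QuadraticForm F (W →ₗ[F] E)}
  {M : Subgroup ((W →ₗ[F] E) ≃ₗ[F] (W →ₗ[F] E))}

theorem caseI_of [Finite F] (T : TO QE QW Q M) (hQ : Nd Q) (hgen : GenHyp Q)
    (B1 : ¬ II QW M → ∃ b : W, b ≠ 0 ∧ QW b = 0 ∧ ∃ X : E →ₗ[F] E, X ≠ 0 ∧ ZX QW M b X)
    (B2 : ∀ {b : W}, b ≠ 0 → QW b = 0 → ∀ {X : E →ₗ[F] E}, X ≠ 0 → ZX QW M b X → ∀ x y, ZX QW M b (wdg QE x y))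
    (B3 : ∀ {b0 : W}, b0 ≠ 0 → QW b0 = 0 → (∀ x y, ZX QW M b0 (wdg QE x y)) →
      ∀ (y : E) (b : W), QW b = 0 → Full Q M (tb QW y b))
    (hII : ¬ II QW M) : Om Q ≤ M := by
  obtain ⟨b, hb, hQb, X, hX, hZ⟩ := B1 hII
  have hF := B3 hb hQb (B2 hb hQb hX hZ)
  obtain ⟨y, hy⟩ : ∃ y : E, y ≠ 0 := by
    have : Nontrivial E := Module.finrank_pos_iff (R := F).1 (by have := T.hE; omega)
    exact exists_ne 0
  obtain ⟨y', hy'⟩ := T.ndE.exists_polar_one' hy
  obtain ⟨w, hw⟩ := T.ndW.exists_polar_one' hb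
  obtain ⟨t, ht⟩ := exists_sing_add (Q := QW) (z := b) (y := w) hQb (by rw [polar_comm, hw]; exact one_ne_zero)
  have hp : polar QW b (w + t • b) = 1 := by
    rw [polar_add_right, polar_smul_right, polar_self0 hQb, smul_zero, add_zero, hw]
  refine Om_le_of_two hQ hgen ?_ T.hM (hF y b hQb) (hF y' (w + t • b) ht) ?_
  · rw [Module.finrank_linearMap]
    have := T.hE
    have := T.hW
    nlinarith
  · rw [T.pol, tb_apply, polar_comm QW, hp, one_smul, polar_comm QE, hy']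
    exact one_ne_zero

end Cfsg.Agent.Lib.TenOO_B4
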