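import Cfsg.Agent.Lib.TenW40
import Cfsg.Agent.Lib.TenOO_B2

/-!
# Overgroups of `O₃ ⊗ O₄⁻`: piece B2 (port of `TenOO_B2` to the structure `T4`; helper22)
-/

set_option autoImplicit false
set_option linter.unusedSectionVars false
set_option linter.unusedVariables false
set_option linter.unusedSimpArgs false

namespace Cfsg.Agent.Lib.TenW4_B2

open QuadraticMap Module Cfsg.Agent.Lib.Quad Cfsg.Agent.Lib.OrthMax Cfsg.Agent.Lib.OrthNd Cfsg.Agent.Lib.TenSLH94
  Cfsg.Agent.Lib.TenOO Cfsg.Agent.Lib.TenW4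
open Cfsg.Agent.Lib.TenOO_B2 (Zs all tb_add tb_neg siegMap_neg_comp)

variable {F E W : Type*} [Field F] [Finite F] [AddCommGroup E] [Module F E] [FiniteDimensional F E]
  [AddCommGroup W] [Module F W] [FiniteDimensional F W]
  {QE : QuadraticForm F E} {QW : QuadraticForm F W} {Q : QuadraticForm F (W →ₗ[F] E)}
  {M : Subgroup ((W →ₗ[F] E) ≃ₗ[F] (W →ₗ[F] E))}

theorem ZX_zs (T : T4 QE QW Q M) {b : W} (hb : b ≠ 0) (hQb : QW b = 0) : Zs QE (ZX QW M b) := by
  have hbb : polar QW b b = 0 := by rw [polar_self', hQb, mul_zero]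
  have happ : ∀ (x : E), tb QW x b b = 0 := fun x => by rw [tb_apply, hbb, zero_smul]
  refine ⟨?_, ?_, ?_, ?_, ?_⟩
  · rintro X Y ⟨m, hm, hmX⟩ ⟨n, hn, hnY⟩
    refine ⟨m * n, M.mul_mem hm hn, fun v => ?_⟩
    rw [LinearEquiv.mul_apply, hmX, hnY, LinearMap.add_apply, happ, add_zero, LinearMap.add_apply,
      tb_add]
    abel
  · rintro X ⟨m, hm, hmX⟩
    refine ⟨m⁻¹, M.inv_mem hm, fun v => ?_⟩
    have h1 : m (v + tb QW ((-X) (v b)) b) = v := by
      rw [hmX, LinearMap.add_apply, happ, add_zero, LinearMap.neg_apply, tb_neg]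
      abel
    have h2 : m⁻¹ v = m.symm v := rfl
    rw [h2, LinearEquiv.symm_apply_eq]
    exact h1.symm
  · refine ⟨1, M.one_mem, fun v => ?_⟩
    have : tb QW ((0 : E →ₗ[F] E) (v b)) b = (0 : W →ₗ[F] E) := LinearMap.ext fun w => by
      rw [tb_apply, LinearMap.zero_apply, smul_zero, LinearMap.zero_apply]
    rw [this, add_zero]; rfl
  · rintro X ⟨m, hm, hmX⟩ x
    obtain ⟨c, hc⟩ := T.ndW.exists_polar_one' hb
    have hcb : polar QW c b = 1 := by rw [polar_comm]; exact hc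
    have hv : tb QW x c b = x := by rw [tb_apply, hcb, one_smul]
    have h1 := T.hM hm (tb QW x c)
    rw [hmX, hv, Q_add] at h1
    have h3 : Q (tb QW (X x) b) = 0 := by
      have h4 := T.pol (X x) b (tb QW (X x) b)
      rw [polar_self', happ, polar_zero_left] at h4
      exact (mul_eq_zero.1 h4).resolve_left T.h2
    rw [h3, polar_comm, T.pol, hv] at h1
    linear_combination h1
  · rintro a e ha hae X ⟨m, hm, hmX⟩
    obtain ⟨s, hs, hsv⟩ := T.tA a e ha hae
    obtain ⟨s', hs', hsv'⟩ := T.tA a (-e) ha (by rw [polar_neg_right, hae, neg_zero])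
    refine ⟨s * m * s', M.mul_mem (M.mul_mem hs hm) hs', fun v => ?_⟩
    rw [LinearEquiv.mul_apply, LinearEquiv.mul_apply, hsv', hmX, hsv]
    refine LinearMap.ext fun w => ?_
    simp only [LinearMap.comp_apply, LinearMap.add_apply, map_add, siegMap_neg_comp ha hae,
      tb_apply, map_smul]

/-- piece B2 -/
theorem ZX_all (T : T4 QE QW Q M) {b : W} (hb : b ≠ 0) (hQb : QW b = 0) {X : E →ₗ[F] E}
    (hX : X ≠ 0) (h : ZX QW M b X) : ∀ x y, ZX QW M b (wdg QE x y) :=
  all T.h2 T.ndE T.hE (fun h4 => absurd (h4.symm.trans T.hE3) (by omega)) (ZX_zs T hb hQb) h hX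

end Cfsg.Agent.Lib.TenW4_B2
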