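import Cfsg.Agent.Lib.ThC4W

/-!
# The centralizer of `a` in `³D₄(2):3`
-/

set_option autoImplicit false
set_option linter.all false
set_option maxRecDepth 100000

namespace Cfsg.Agent.Lib.ThC4

open Cfsg.Spor Cfsg.Agent.Lib.BenesWord Cfsg.Agent.Lib.Dce Cfsg.Agent.Lib.ThP ThPT

theorem hactP : ∀ c < 9, ∀ i < 819, PP.subtype (X c) i = look (tab c) i := fun c hc i hi => xb_act c_all hc hi
theorem hltP : ∀ c < 9, ∀ i < 819, look (tab c) i < 819 := fun c hc i hi => base_lt c_all hc hi

/-- the point stabilizer in the permutation group -/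
noncomputable def KP : Subgroup PP := Subgroup.closure {X 0, X 2, X 3, X 4, X 5, X 7}

/-- orbit data for transitivity -/
def ogP : List (List ℕ × List ℕ) := match stP with
  | [] => []
  | s :: _ => s.g

/-- words of the point stabilizer with the numbering of `Ws` -/
def WsK : List (List ℕ) := [[0], [], [2], [3], [4], [5], [6], [7], [8], [4, 3], [3, 4]]

theorem c_trP : growH tab 9 Ws [] ogP (2 ^ 0) 1 = some (2 ^ 819 - 1, 819) := by decide +kernel
theorem c_chK : chainH tab 9 819 WsK [] stP.tail = some 774144 := by decide +kernel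

theorem X6 : X 6 = (X 5)⁻¹ := by
  show xb tab iv 819 9 (iv 5) = _
  exact xb_iv c_all (by norm_num)

theorem X8 : X 8 = (X 7)⁻¹ := by
  show xb tab iv 819 9 (iv 7) = _
  exact xb_iv c_all (by norm_num)

theorem KP_mem {c : ℕ} (h : c < 9) (h1 : c ≠ 1) : X c ∈ KP := by
  have m : ∀ {x : PP}, x ∈ ({X 0, X 2, X 3, X 4, X 5, X 7} : Set PP) → x ∈ KP := fun hx => Subgroup.subset_closure hx
  interval_cases c
  · exact m (by simp)
  · exact absurd rfl h1
  · exact m (by simp)
  · exact m (by simp)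
  · exact m (by simp)
  · exact m (by simp)
  · rw [X6]; exact Subgroup.inv_mem _ (m (by simp))
  · exact m (by simp)
  · rw [X8]; exact Subgroup.inv_mem _ (m (by simp))

theorem c_fix7 : look (tab 7) 0 = 0 := by decide +kernel

theorem KP_fix : ∀ g ∈ KP, PP.subtype g 0 = 0 := by
  intro g hg
  induction hg using Subgroup.closure_induction with
  | mem x hx =>
    rcases hx with rfl | rfl | rfl | rfl | rfl | rfl
    · rw [hactP 0 (by norm_num) 0 (by norm_num)]; exact c_fix0.1.1
    · rw [hactP 2 (by norm_num) 0 (by norm_num)]; exact c_fix0.1.2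
    · rw [hactP 3 (by norm_num) 0 (by norm_num)]; exact c_fix0.2.1.1
    · rw [hactP 4 (by norm_num) 0 (by norm_num)]; exact c_fix0.2.1.2
    · rw [hactP 5 (by norm_num) 0 (by norm_num)]; exact c_fix0.2.2
    · rw [hactP 7 (by norm_num) 0 (by norm_num)]; exact c_fix7
  | one => simp
  | mul x y _ _ hx hy => rw [map_mul, Equiv.Perm.mul_apply, hy, hx]
  | inv x _ hx => rw [map_inv, Equiv.Perm.inv_eq_iff_eq, hx]

theorem KP_words : ∀ w ∈ WsK, ev X w ∈ KP := by
  intro w hw
  simp only [WsK, List.mem_cons, List.not_mem_nil, or_false] at hw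
  rcases hw with rfl | rfl | rfl | rfl | rfl | rfl | rfl | rfl | rfl | rfl | rfl
  · simpa [ev] using KP_mem (c := 0) (by norm_num) (by norm_num)
  · simpa [ev] using KP.one_mem
  · simpa [ev] using KP_mem (c := 2) (by norm_num) (by norm_num)
  · simpa [ev] using KP_mem (c := 3) (by norm_num) (by norm_num)
  · simpa [ev] using KP_mem (c := 4) (by norm_num) (by norm_num)
  · simpa [ev] using KP_mem (c := 5) (by norm_num) (by norm_num)
  · simpa [ev] using KP_mem (c := 6) (by norm_num) (by norm_num)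
  · simpa [ev] using KP_mem (c := 7) (by norm_num) (by norm_num)
  · simpa [ev] using KP_mem (c := 8) (by norm_num) (by norm_num)
  · simpa [ev] using KP.mul_mem (KP_mem (c := 4) (by norm_num) (by norm_num)) (KP_mem (c := 3) (by norm_num) (by norm_num))
  · simpa [ev] using KP.mul_mem (KP_mem (c := 3) (by norm_num) (by norm_num)) (KP_mem (c := 4) (by norm_num) (by norm_num))

/-- the stabilizer of the point `0` -/
theorem stab_KP : (∀ g : PP, PP.subtype g 0 = 0 → g ∈ KP) ∧ Nat.card KP = 774144 :=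
  stab_of (xs := X) (φ := PP.subtype) (tab := tab) (L := 9) (m := 819) hactP hltP (N := 634023936) (b := 774144) (pt := 0)
    (le_of_eq pp_main.2.1) (by norm_num) (B := KP) c_trP (chainH_card hactP hltP KP_words _ c_chK) KP_fix (by norm_num)
    (by norm_num)

theorem ev_invL : ∀ (w : List ℕ), Dce.lets 9 w = true → ev X (invL w) = (ev X w)⁻¹ ∧ Dce.lets 9 (invL w) = true := by
  intro w
  induction w with
  | nil => intro _; simp [invL, ev, Dce.lets]
  | cons c w ih =>
    intro h
    simp only [Dce.lets, Bool.and_eq_true, Nat.blt_eq] at h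
    have h1 := ih h.2
    have e1 : invL (c :: w) = invL w ++ [iv c] := by simp [invL]
    have h2 := allI_spec c_all c h.1
    constructor
    · rw [e1, ev_append, h1.1, ev_cons, ev_nil, mul_one, ev_cons, mul_inv_rev]
      congr 1
      exact xb_iv c_all h.1
    · rw [e1]
      have lets_app : ∀ u v : List ℕ, Dce.lets 9 u = true → Dce.lets 9 v = true → Dce.lets 9 (u ++ v) = true := by
        intro u v hu hv
        induction u with
        | nil => exact hv
        | cons a u ih =>
          simp only [Dce.lets, List.cons_append, Bool.and_eq_true] at hu ⊢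
          exact ⟨hu.1, ih hu.2⟩
      apply lets_app _ _ h1.2
      simp only [Dce.lets, Bool.and_eq_true, Nat.blt_eq]
      exact ⟨h2.2.1, trivial⟩

theorem chkW_spec : ∀ (l : List (List ℕ)) (j : ℕ), chkW l j = true → j + l.length = 819 ∧
    ∀ i < l.length, Dce.lets 9 (atD [] l i) = true ∧ actw tab (invL (atD [] l i)) 0 = j + i := by
  intro l
  induction l with
  | nil => intro j h; simp only [chkW, Nat.beq_eq] at h; subst h; simp
  | cons w l ih =>
    intro j h
    simp only [chkW, Bool.and_eq_true, Nat.beq_eq] at h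
    obtain ⟨h1, h2⟩ := ih _ h.2
    refine ⟨by simp only [List.length_cons]; omega, ?_⟩
    intro i hi
    cases i with
    | zero => exact ⟨h.1.1, by simpa [atD] using h.1.2⟩
    | succ i =>
      have := h2 i (by simpa using hi)
      rw [show j + (i + 1) = j + 1 + i by omega]
      exact this

theorem wl_spec : ∀ j < 819, Dce.lets 9 (atD [] wl j) = true ∧ actw tab (invL (atD [] wl j)) 0 = j := by
  have h := chkW_spec wl 0 c_wl
  intro j hj
  have := h.2 j (by omega)
  rwa [zero_add] at this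

/-- cosets of the point stabilizer -/
theorem coset_PP (g : PP) : ∃ j < 819, ∃ k ∈ KP, g = k * ev X (atD [] wl j) := by
  have hlt : PP.subtype g⁻¹ 0 < 819 := PG_lt c_all g⁻¹ (by norm_num)
  obtain ⟨h1, h2⟩ := wl_spec _ hlt
  set w := atD [] wl (PP.subtype g⁻¹ 0) with hw
  refine ⟨_, hlt, g * (ev X w)⁻¹, ?_, ?_⟩
  · apply stab_KP.1
    have h3 := ev_invL w h1
    have h4 := (actw_eq (φ := PP.subtype) hactP hltP _ h3.2 0 (by norm_num)).1
    rw [h3.1, h2] at h4
    rw [map_mul, Equiv.Perm.mul_apply, h4, map_inv]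
    exact Equiv.apply_symm_apply _ _
  · rw [← hw, inv_mul_cancel_right]

theorem comm_KP : ∀ k ∈ KP, Commute k (X 0) := by
  intro k hk
  induction hk using Subgroup.closure_induction with
  | mem x hx =>
    have m : ∀ {x : PP}, x ∈ ({X 0, X 2, X 3, X 4, X 5} : Set PP) → Commute x (X 0) := fun hx =>
      relPP.toRelL.comm_a _ (Subgroup.subset_closure hx)
    rcases hx with rfl | rfl | rfl | rfl | rfl | rfl
    · exact Commute.refl _
    · exact m (by simp)
    · exact m (by simp)
    · exact m (by simp)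
    · exact m (by simp)
    · have := relPP.tat.2
      rw [mul_inv_eq_iff_eq_mul] at this
      exact this
  | one => exact Commute.one_left _
  | mul x y _ _ hx hy => exact hx.mul_left hy
  | inv x _ hx => exact hx.inv_left

/-- suborbit representatives -/
def wq (k : ℕ) : List ℕ := nthL [[1], [1, 2, 0, 1], [1, 2, 3, 2, 1]] k
where nthL : List (List ℕ) → ℕ → List ℕ
  | [], _ => []
  | a :: _, 0 => a
  | _ :: l, n + 1 => nthL l n

theorem c_q0 : actw tab (wq 0) 0 = 1 ∧ actw tab (wq 0 ++ ([0] ++ invL (wq 0))) 0 = 2 ∧ look (tab 0) 0 = 0 := by decide +kernel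
theorem c_q1 : actw tab (wq 1) 0 = 6 ∧ actw tab (wq 1 ++ ([0] ++ invL (wq 1))) 1 = 3 ∧ look (tab 0) 1 = 2 := by decide +kernel
theorem c_q2 : actw tab (wq 2) 0 = 13 ∧ actw tab (wq 2 ++ ([0] ++ invL (wq 2))) 0 = 29 ∧ look (tab 0) 0 = 0 := by decide +kernel

theorem c_lq0 : Dce.lets 9 (wq 0) = true ∧ Dce.lets 9 (wq 0 ++ ([0] ++ invL (wq 0))) = true := by decide +kernel
theorem c_lq1 : Dce.lets 9 (wq 1) = true ∧ Dce.lets 9 (wq 1 ++ ([0] ++ invL (wq 1))) = true := by decide +kernel
theorem c_lq2 : Dce.lets 9 (wq 2) = true ∧ Dce.lets 9 (wq 2 ++ ([0] ++ invL (wq 2))) = true := by decide +kernel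

/-- one suborbit -/
theorem no_cent {g : PP} (hg : Commute g (X 0)) {w : List ℕ} {q pt v v' : ℕ} (hpt : pt < 819) (hv : v ≠ v')
    (h1 : actw tab w 0 = q ∧ actw tab (w ++ ([0] ++ invL w)) pt = v ∧ look (tab 0) pt = v')
    (h2 : Dce.lets 9 w = true ∧ Dce.lets 9 (w ++ ([0] ++ invL w)) = true)
    {k : PP} (hk : k ∈ KP) (hq : PP.subtype k q = PP.subtype g 0) : False := by
  have e1 : PP.subtype (ev X w) 0 = q := by
    rw [(actw_eq (φ := PP.subtype) hactP hltP w h2.1 0 (by norm_num)).1, h1.1]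
  have h3 : (ev X w)⁻¹ * k⁻¹ * g ∈ KP := by
    apply stab_KP.1
    rw [map_mul, map_mul, Equiv.Perm.mul_apply, Equiv.Perm.mul_apply, ← hq, map_inv, map_inv, ← e1]
    simp
  have h4 := comm_KP _ h3
  have h5 := comm_KP _ hk
  -- `a` commutes with the representative
  have h6 : Commute (ev X w) (X 0) := by
    have e2 : ev X w = k⁻¹ * g * ((ev X w)⁻¹ * k⁻¹ * g)⁻¹ := by group
    rw [e2]
    exact (h5.inv_left.mul_left hg).mul_left h4.inv_left
  have h7 : ev X (w ++ ([0] ++ invL w)) = X 0 := by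
    rw [ev_append, ev_append, (ev_invL w h2.1).1]
    simp only [ev_cons, ev_nil, mul_one]
    rw [← mul_assoc, h6.eq, mul_inv_cancel_right]
  have h8 := (actw_eq (φ := PP.subtype) hactP hltP _ h2.2 pt hpt).1
  rw [h7, hactP 0 (by norm_num) pt hpt, h1.2.1, h1.2.2] at h8
  exact hv h8.symm

/-- the centralizer of `a` in the permutation group -/
theorem cent_PP {g : PP} (hg : Commute g (X 0)) : g ∈ KP := by
  apply stab_KP.1
  have hlt : PP.subtype g 0 < 819 := PG_lt c_all g (by norm_num)
  have key : ∀ {og : List (List ℕ × List ℕ)} {pt M n : ℕ} (hpt : pt < 819) (h : growH tab 7 WsH [] og (2 ^ pt) 1 = some (M, n)),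
      M.testBit (PP.subtype g 0) = true → ∃ k ∈ KP, PP.subtype k pt = PP.subtype g 0 := by
    intro og pt M n hpt h hM
    obtain ⟨F, h1, h2, h3⟩ := orb_of (K := HL) HL_words' hpt h
    obtain ⟨_, k, hk, e⟩ := h3 _ ((h2 _).mp hM)
    refine ⟨(k : PP), ?_, e⟩
    have h5 : HL.map LL.subtype ≤ KP := by
      show (Subgroup.closure _).map _ ≤ _
      rw [MonoidHom.map_closure, Subgroup.closure_le]
      rintro _ ⟨x, (rfl | rfl | rfl | rfl | rfl), rfl⟩
      · show ((xl 0 : LL) : PP) ∈ KP
        rw [xl_val (by norm_num)]; exact KP_mem (by norm_num) (by norm_num)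
      · show ((xl 2 : LL) : PP) ∈ KP
        rw [xl_val (by norm_num)]; exact KP_mem (by norm_num) (by norm_num)
      · show ((xl 3 : LL) : PP) ∈ KP
        rw [xl_val (by norm_num)]; exact KP_mem (by norm_num) (by norm_num)
      · show ((xl 4 : LL) : PP) ∈ KP
        rw [xl_val (by norm_num)]; exact KP_mem (by norm_num) (by norm_num)
      · show ((xl 5 : LL) : PP) ∈ KP
        rw [xl_val (by norm_num)]; exact KP_mem (by norm_num) (by norm_num)
    exact h5 ⟨k, hk, rfl⟩
  rcases cover ⟨PP.subtype g 0, hlt⟩ with h | h | h | h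
  · exact congrArg Fin.val h
  · exfalso
    obtain ⟨k, hk, e⟩ := key (by norm_num) d_og0 h
    exact no_cent hg (by norm_num) (by norm_num) c_q0 c_lq0 hk e
  · exfalso
    obtain ⟨k, hk, e⟩ := key (by norm_num) d_og1 h
    exact no_cent hg (by norm_num) (by norm_num) c_q1 c_lq1 hk e
  · exfalso
    obtain ⟨k, hk, e⟩ := key (by norm_num) d_og2 h
    exact no_cent hg (by norm_num) (by norm_num) c_q2 c_lq2 hk e

/-- number of fixed points of a table -/
def cntF (T : ℕ) : ℕ → ℕ
  | 0 => 0
  | n + 1 => bif Nat.beq (look T n) n then cntF T n + 1 else cntF T n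

theorem cntF_eq (T : ℕ) (n : ℕ) : cntF T n = ((Finset.range n).filter (fun i => look T i = i)).card := by
  induction n with
  | zero => rfl
  | succ n ih =>
    rw [Finset.range_add_one, Finset.filter_insert, cntF]
    by_cases h : look T n = n
    · rw [if_pos h, Finset.card_insert_of_notMem (by simp), ih]
      have : Nat.beq (look T n) n = true := by rw [Nat.beq_eq]; exact h
      rw [this]; rfl
    · rw [if_neg h, ih]
      have : Nat.beq (look T n) n = false := by
        rw [← Bool.not_eq_true, Nat.beq_eq]; exact h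
      rw [this]; rfl

theorem c_cnt : cntF (tab 0) 819 = 19 ∧ cntF (tab 3) 819 = 27 := by decide +kernel

/-- `d` is not conjugate to `a` -/
theorem not_conj_PP (g : PP) : g⁻¹ * X 0 * g ≠ X 3 := by
  intro h
  have h1 : ((Finset.range 819).filter (fun i => look (tab 3) i = i)).card = ((Finset.range 819).filter (fun i => look (tab 0) i = i)).card := by
    apply Finset.card_bij (fun i _ => PP.subtype g i)
    · intro i hi
      rw [Finset.mem_filter, Finset.mem_range] at hi ⊢
      have hlt : PP.subtype g i < 819 := PG_lt c_all g hi.1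
      refine ⟨hlt, ?_⟩
      rw [← hactP 0 (by norm_num) _ hlt]
      have h2 := hi.2
      rw [← hactP 3 (by norm_num) _ hi.1, ← h, map_mul, map_mul, Equiv.Perm.mul_apply, Equiv.Perm.mul_apply, map_inv,
        Equiv.Perm.inv_eq_iff_eq] at h2
      exact h2
    · intro i _ j _ hij
      exact (PP.subtype g).injective hij
    · intro i hi
      rw [Finset.mem_filter, Finset.mem_range] at hi
      have hlt : PP.subtype g⁻¹ i < 819 := PG_lt c_all g⁻¹ hi.1
      refine ⟨PP.subtype g⁻¹ i, ?_, ?_⟩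
      · rw [Finset.mem_filter, Finset.mem_range]
        refine ⟨hlt, ?_⟩
        rw [← hactP 3 (by norm_num) _ hlt, ← h, map_mul, map_mul, Equiv.Perm.mul_apply, Equiv.Perm.mul_apply]
        have h3 : PP.subtype g (PP.subtype g⁻¹ i) = i := by
          rw [map_inv]; exact Equiv.apply_symm_apply _ _
        rw [h3, hactP 0 (by norm_num) _ hi.1, hi.2]
      · rw [map_inv]; exact Equiv.apply_symm_apply _ _
  rw [← cntF_eq, ← cntF_eq, c_cnt.1, c_cnt.2] at h1
  omega

/-- letters as words in `a b c d e s t = 0 … 6` -/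
def lw (c : ℕ) : Wd := bif Nat.blt c 6 then Wd.g c else bif Nat.beq c 6 then Wd.inv (Wd.g 5) else
  bif Nat.beq c 7 then Wd.g 6 else Wd.inv (Wd.g 6)

/-- words -/
def toWd : List ℕ → Wd
  | [] => Wd.one
  | c :: l => Wd.mul (lw c) (toWd l)

/-- the coset representatives as words in `a b c d e s t = 0 … 6` -/
def wd (j : ℕ) : Wd := toWd (atD [] wl j)

section gen
variable {G : Type*} [Group G] {x : ℕ → G}

theorem eval_toWd (x : ℕ → G) (w : List ℕ) : (toWd w).eval x = ev (fun c => (lw c).eval x) w := by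
  induction w with
  | nil => rfl
  | cons c w ih => rw [ev_cons, ← ih]; rfl

/-- an injective homomorphism from the permutation group -/
theorem psi_inj (h : RelP (x 0) (x 1) (x 2) (x 3) (x 4) (x 5) (x 6)) (ha : x 0 ≠ 1) :
    ∃ ψ : PP →* G, Function.Injective ψ ∧ (∀ c < 9, ψ (X c) = (lw c).eval x) ∧
      ψ.range = Subgroup.closure {x 0, x 1, x 2, x 3, x 4, x 5, x 6} := by
  obtain ⟨ψ, p0, p1, p2, p3, p4, p5, p6, p7⟩ := psi h c_all ⟨rfl, rfl⟩ c_rel c_stP
  obtain ⟨e, _, e0, _⟩ := iso_PP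
  refine ⟨ψ, ?_, ?_, p7⟩
  · have h1 : Function.Injective (ψ.comp e.toMonoidHom) := hom_inj _ (by
      show ψ (e (gp .a)) ≠ 1
      rw [e0, p0]; exact ha)
    intro u v huv
    have h2 : (ψ.comp e.toMonoidHom) (e.symm u) = (ψ.comp e.toMonoidHom) (e.symm v) := by
      show ψ (e (e.symm u)) = ψ (e (e.symm v))
      rw [MulEquiv.apply_symm_apply, MulEquiv.apply_symm_apply, huv]
    exact e.symm.injective (h1 h2)
  · intro c hc
    interval_cases c
    · exact p0
    · exact p1
    · exact p2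
    · exact p3
    · exact p4
    · exact p5
    · show ψ (X 6) = (x 5)⁻¹
      rw [X6, map_inv, p5]
    · exact p6
    · show ψ (X 8) = (x 6)⁻¹
      rw [X8, map_inv, p6]

/-- values of words -/
theorem psi_ev {ψ : PP →* G} (h : ∀ c < 9, ψ (X c) = (lw c).eval x) : ∀ w : List ℕ, Dce.lets 9 w = true →
    ψ (ev X w) = (toWd w).eval x := by
  intro w
  induction w with
  | nil => intro _; simp only [ev_nil, map_one]; rfl
  | cons c w ih =>
    intro hw
    simp only [Dce.lets, Bool.and_eq_true, Nat.blt_eq] at hw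
    rw [ev_cons, map_mul, h c hw.1, ih hw.2]; rfl

/-- the subgroup `⟨a, c, d, e, s, t⟩` -/
def Ksub (x : ℕ → G) : Subgroup G := Subgroup.closure {x 0, x 2, x 3, x 4, x 5, x 6}

theorem map_KP {ψ : PP →* G} (h : ∀ c < 9, ψ (X c) = (lw c).eval x) : KP.map ψ = Ksub x := by
  show (Subgroup.closure _).map _ = Subgroup.closure _
  rw [MonoidHom.map_closure]
  congr 1
  simp only [Set.image_insert_eq, Set.image_singleton]
  rw [h 0 (by norm_num), h 2 (by norm_num), h 3 (by norm_num), h 4 (by norm_num), h 5 (by norm_num), h 7 (by norm_num)]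
  rfl

variable (h : RelP (x 0) (x 1) (x 2) (x 3) (x 4) (x 5) (x 6)) (ha : x 0 ≠ 1)
include h ha

/-- the order of the centralizer -/
theorem card_K : Nat.card (Ksub x) = 774144 := by
  obtain ⟨ψ, h1, h2, h3⟩ := psi_inj h ha
  rw [← map_KP h2, ← Nat.card_congr (KP.equivMapOfInjective ψ h1).toEquiv, stab_KP.2]

/-- the centralizer of `a` -/
theorem mem_K {g : G} (hg : g ∈ Subgroup.closure {x 0, x 1, x 2, x 3, x 4, x 5, x 6}) (hc : Commute g (x 0)) : g ∈ Ksub x := by
  obtain ⟨ψ, h1, h2, h3⟩ := psi_inj h ha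
  rw [← h3] at hg
  obtain ⟨y, rfl⟩ := hg
  rw [← map_KP h2]
  refine ⟨y, cent_PP ?_, rfl⟩
  apply h1
  rw [map_mul, map_mul, h2 0 (by norm_num)]
  exact hc

theorem K_comm {g : G} (hg : g ∈ Ksub x) : Commute g (x 0) := by
  obtain ⟨ψ, h1, h2, h3⟩ := psi_inj h ha
  rw [← map_KP h2] at hg
  obtain ⟨y, hy, rfl⟩ := hg
  have := comm_KP y hy
  have h4 := this.map ψ
  rw [h2 0 (by norm_num)] at h4
  exact h4

/-- cosets of the centralizer -/
theorem coset_K {g : G} (hg : g ∈ Subgroup.closure {x 0, x 1, x 2, x 3, x 4, x 5, x 6}) :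
    ∃ j < 819, ∃ k ∈ Ksub x, g = k * (wd j).eval x := by
  obtain ⟨ψ, h1, h2, h3⟩ := psi_inj h ha
  rw [← h3] at hg
  obtain ⟨y, rfl⟩ := hg
  obtain ⟨j, hj, k, hk, e⟩ := coset_PP y
  refine ⟨j, hj, ψ k, ?_, ?_⟩
  · rw [← map_KP h2]; exact ⟨k, hk, rfl⟩
  · rw [e, map_mul, psi_ev h2 _ (wl_spec j hj).1]; rfl

/-- conjugates of `a` -/
theorem conj_a {g : G} (hg : g ∈ Subgroup.closure {x 0, x 1, x 2, x 3, x 4, x 5, x 6}) :
    ∃ j < 819, g⁻¹ * x 0 * g = ((wd j).eval x)⁻¹ * x 0 * (wd j).eval x := by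
  obtain ⟨j, hj, k, hk, rfl⟩ := coset_K h ha hg
  refine ⟨j, hj, ?_⟩
  have h1 := (K_comm h ha hk).symm
  have h2 : k⁻¹ * x 0 * k = x 0 := by rw [mul_assoc, h1.eq, inv_mul_cancel_left]
  have e : (k * (wd j).eval x)⁻¹ * x 0 * (k * (wd j).eval x) = ((wd j).eval x)⁻¹ * (k⁻¹ * x 0 * k) * (wd j).eval x := by
    group
  rw [e, h2]

/-- `d` is not conjugate to `a` in the subgroup -/
theorem not_conj {g : G} (hg : g ∈ Subgroup.closure {x 0, x 1, x 2, x 3, x 4, x 5, x 6}) : g⁻¹ * x 0 * g ≠ x 3 := by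
  obtain ⟨ψ, h1, h2, h3⟩ := psi_inj h ha
  rw [← h3] at hg
  obtain ⟨y, rfl⟩ := hg
  intro h4
  apply not_conj_PP y
  apply h1
  rw [map_mul, map_mul, map_inv, h2 0 (by norm_num), h2 3 (by norm_num)]
  exact h4

end gen

end Cfsg.Agent.Lib.ThC4
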