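import Cfsg.Agent.Lib.ThCE
import Cfsg.Agent.Lib.ThC4

/-!
# The involution centralizer of the Thompson group: the index of `⟨a, c, d, e, s, t⟩`
-/

set_option autoImplicit false
set_option linter.all false
set_option maxRecDepth 100000

namespace Cfsg.Agent.Lib.ThC3

open Cfsg.Spor Cfsg.Agent.Lib.BenesWord Cfsg.Agent.Lib.ThP Cfsg.Agent.Lib.H10Enum

/-- the relations of the Thompson group not involving `b` -/
structure RelC {G : Type*} [Group G] (a c d e s t u : G) : Prop where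
  a2 : a ^ 2 = 1
  c2 : c ^ 2 = 1
  d2 : d ^ 2 = 1
  e2 : e ^ 2 = 1
  ae : (a * e) ^ 2 = 1
  acd : a * ((c * d) ^ 4)⁻¹ = 1
  ce : (c * e) ^ 2 = 1
  de : (d * e) ^ 3 = 1
  s7 : s ^ 7 = 1
  sa : s⁻¹ * a⁻¹ * s * a = 1
  sc : s⁻¹ * c⁻¹ * s * c = 1
  sd : (s * d) ^ 2 = 1
  es : (e⁻¹ * s⁻¹ * e * s) * ((s ^ 3)⁻¹ * e * (s ^ 3))⁻¹ = 1
  t3 : t ^ 3 = 1
  ta : t⁻¹ * a⁻¹ * t * a = 1
  tc : t⁻¹ * c⁻¹ * t * c = 1
  td : t⁻¹ * d⁻¹ * t * d = 1
  te : t⁻¹ * e⁻¹ * t * e = 1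
  ts : (t⁻¹ * s * t) * (s ^ 2)⁻¹ = 1
  u2 : (u ^ 2) * (a * c)⁻¹ = 1
  ua : u⁻¹ * a⁻¹ * u * a = 1
  uc : u⁻¹ * c⁻¹ * u * c = 1
  ue : u⁻¹ * e⁻¹ * u * e = 1
  r4 : (d * e * (u⁻¹ * d * u)) ^ 2 = 1
  tu : (u⁻¹ * t * u) * (t⁻¹)⁻¹ = 1
  r61 : e⁻¹ * ((s ^ 2)⁻¹ * u * (s ^ 2))⁻¹ * e * ((s ^ 2)⁻¹ * u * (s ^ 2)) = 1
  r62 : (a * c) * ((u * s) ^ 3)⁻¹ = 1
  r63 : (a * c) * ((u⁻¹ * s⁻¹ * u * s) ^ 4)⁻¹ = 1
  r64 : ((d * ((s ^ 2)⁻¹ * u * (s ^ 2))) ^ 4) * (a * c * (d⁻¹ * c * d) * ((d * e * s⁻¹)⁻¹ * c * (d * e * s⁻¹)) *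
    ((d * e * (s ^ 2))⁻¹ * c * (d * e * (s ^ 2))))⁻¹ = 1

/-- the relators (4)–(6) without `b` in the letters `a … u = 0 … 7` -/
def us2 : Wd := Wd.mul (Wd.mul (Wd.inv (Wd.pow (Wd.g 5) 2)) (Wd.g 7)) (Wd.pow (Wd.g 5) 2)

/-- the relators (4)–(6) without `b` in the letters `a … u = 0 … 7` -/
def relCW : List Wd := [
  Wd.mul (Wd.pow (Wd.g 7) 2) (Wd.inv (Wd.mul (Wd.g 0) (Wd.g 2))),
  Wd.mul (Wd.mul (Wd.mul (Wd.inv (Wd.g 7)) (Wd.inv (Wd.g 0))) (Wd.g 7)) (Wd.g 0),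
  Wd.mul (Wd.mul (Wd.mul (Wd.inv (Wd.g 7)) (Wd.inv (Wd.g 2))) (Wd.g 7)) (Wd.g 2),
  Wd.mul (Wd.mul (Wd.mul (Wd.inv (Wd.g 7)) (Wd.inv (Wd.g 4))) (Wd.g 7)) (Wd.g 4),
  Wd.pow (Wd.mul (Wd.mul (Wd.g 3) (Wd.g 4)) (Wd.mul (Wd.mul (Wd.inv (Wd.g 7)) (Wd.g 3)) (Wd.g 7))) 2,
  Wd.mul (Wd.mul (Wd.mul (Wd.inv (Wd.g 7)) (Wd.g 6)) (Wd.g 7)) (Wd.inv (Wd.inv (Wd.g 6))),
  Wd.mul (Wd.mul (Wd.mul (Wd.inv (Wd.g 4)) (Wd.inv us2)) (Wd.g 4)) us2,
  Wd.mul (Wd.mul (Wd.g 0) (Wd.g 2)) (Wd.inv (Wd.pow (Wd.mul (Wd.g 7) (Wd.g 5)) 3)),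
  Wd.mul (Wd.mul (Wd.g 0) (Wd.g 2)) (Wd.inv (Wd.pow (Wd.mul (Wd.mul (Wd.mul (Wd.inv (Wd.g 7)) (Wd.inv (Wd.g 5))) (Wd.g 7)) (Wd.g 5)) 4)),
  Wd.mul (Wd.pow (Wd.mul (Wd.g 3) us2) 4) (Wd.inv (Wd.mul (Wd.mul (Wd.mul (Wd.mul (Wd.g 0) (Wd.g 2))
    (Wd.mul (Wd.mul (Wd.inv (Wd.g 3)) (Wd.g 2)) (Wd.g 3)))
    (Wd.mul (Wd.mul (Wd.inv (Wd.mul (Wd.mul (Wd.g 3) (Wd.g 4)) (Wd.inv (Wd.g 5)))) (Wd.g 2)) (Wd.mul (Wd.mul (Wd.g 3) (Wd.g 4)) (Wd.inv (Wd.g 5)))))
    (Wd.mul (Wd.mul (Wd.inv (Wd.mul (Wd.mul (Wd.g 3) (Wd.g 4)) (Wd.pow (Wd.g 5) 2))) (Wd.g 2)) (Wd.mul (Wd.mul (Wd.g 3) (Wd.g 4)) (Wd.pow (Wd.g 5) 2)))))]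

/-- the images of the letters -/
def pk8 {α : Type*} (a b c d e s t u : α) (n : ℕ) : α :=
  match n with
  | 0 => a
  | 1 => b
  | 2 => c
  | 3 => d
  | 4 => e
  | 5 => s
  | 6 => t
  | _ => u

/-- the generators of the Thompson group -/
noncomputable def XT (n : ℕ) : Th := pk8 (PresentedGroup.of Th.Gen.a : Th) (PresentedGroup.of Th.Gen.b)
  (PresentedGroup.of Th.Gen.c) (PresentedGroup.of Th.Gen.d) (PresentedGroup.of Th.Gen.e) (PresentedGroup.of Th.Gen.s)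
  (PresentedGroup.of Th.Gen.t) (PresentedGroup.of Th.Gen.u) n

theorem rels_XT : ∀ W ∈ relCW, W.eval XT = 1 := by
  intro W hW
  have h2 : W.eval (pk8 Th.a Th.b Th.c Th.d Th.e Th.s Th.t Th.u) ∈ Th.extra := by
    revert W
    simp only [relCW, List.forall_mem_cons, Th.extra]
    refine ⟨?_, ?_, ?_, ?_, ?_, ?_, ?_, ?_, ?_, ?_, by simp⟩
    · exact List.mem_of_getElem? (i := 27) rfl
    · exact List.mem_of_getElem? (i := 28) rfl
    · exact List.mem_of_getElem? (i := 29) rfl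
    · exact List.mem_of_getElem? (i := 30) rfl
    · exact List.mem_of_getElem? (i := 31) rfl
    · exact List.mem_of_getElem? (i := 34) rfl
    · exact List.mem_of_getElem? (i := 35) rfl
    · exact List.mem_of_getElem? (i := 36) rfl
    · exact List.mem_of_getElem? (i := 37) rfl
    · exact List.mem_of_getElem? (i := 38) rfl
  have h3 : (PresentedGroup.mk (coxRelators Th.edges ∪ {r | r ∈ Th.extra})
      (W.eval (pk8 Th.a Th.b Th.c Th.d Th.e Th.s Th.t Th.u))) = 1 := PresentedGroup.one_of_mem (Or.inr h2)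
  rw [← h3]
  clear h2 h3 hW
  induction W with
  | one => rfl
  | g c =>
    show pk8 _ _ _ _ _ _ _ _ c = PresentedGroup.mk _ (pk8 _ _ _ _ _ _ _ _ c)
    unfold pk8
    split <;> rfl
  | inv u ih => simp only [Wd.eval]; rw [ih]; rfl
  | mul u v ihu ihv => simp only [Wd.eval]; rw [ihu, ihv]; rfl
  | pow u m ih => simp only [Wd.eval]; rw [ih]; rfl

theorem relP_XT : RelP (XT 0) (XT 1) (XT 2) (XT 3) (XT 4) (XT 5) (XT 6) := relTh

theorem relC_XT : RelC (XT 0) (XT 2) (XT 3) (XT 4) (XT 5) (XT 6) (XT 7) := by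
  have h := rels_XT
  simp only [relCW, us2, List.forall_mem_cons, Wd.eval] at h
  obtain ⟨h1, h2, h3, h4, h5, h6, h7, h8, h9, h10, _⟩ := h
  have k := relP_XT
  exact ⟨k.a2, k.c2, k.d2, k.e2, k.ae, k.acd, k.ce, k.de, k.s7, k.sa, k.sc, k.sd, k.es, k.t3, k.ta, k.tc, k.td, k.te, k.ts,
    h1, h2, h3, h4, h5, h6, h7, h8, h9, h10⟩

section
variable {G : Type*} [Group G] {a c d e s t u : G}

/-- the letters of the enumeration -/
def let7 (a c d e s t u : G) (n : ℕ) : G :=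
  match n with
  | 0 => 1
  | 1 => a
  | 2 => c
  | 3 => d
  | 4 => e
  | 5 => s
  | 6 => t
  | 7 => u
  | _ => 1

theorem RelC.words (h : RelC a c d e s t u) : ∀ w ∈ ThCE.R, wval (let7 a c d e s t u) w = 1 := by
  have ia : a⁻¹ = a := inv_of_sq h.a2
  have ic : c⁻¹ = c := inv_of_sq h.c2
  have id' : d⁻¹ = d := inv_of_sq h.d2
  have ie : e⁻¹ = e := inv_of_sq h.e2
  have ha2 : a * a = 1 := by rw [← pow_two]; exact h.a2
  have hc2 : c * c = 1 := by rw [← pow_two]; exact h.c2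
  have hd2 : d * d = 1 := by rw [← pow_two]; exact h.d2
  have he2 : e * e = 1 := by rw [← pow_two]; exact h.e2
  have ca : ∀ x : G, a * (a * x) = x := fun x => by rw [← mul_assoc, ha2, one_mul]
  have cc : ∀ x : G, c * (c * x) = x := fun x => by rw [← mul_assoc, hc2, one_mul]
  have cdd : ∀ x : G, d * (d * x) = x := fun x => by rw [← mul_assoc, hd2, one_mul]
  have ce' : ∀ x : G, e * (e * x) = x := fun x => by rw [← mul_assoc, he2, one_mul]
  have v2 : val (let7 a c d e s t u) 2 = a := rfl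
  have v3 : val (let7 a c d e s t u) 3 = a⁻¹ := rfl
  have v4 : val (let7 a c d e s t u) 4 = c := rfl
  have v5 : val (let7 a c d e s t u) 5 = c⁻¹ := rfl
  have v6 : val (let7 a c d e s t u) 6 = d := rfl
  have v7 : val (let7 a c d e s t u) 7 = d⁻¹ := rfl
  have v8 : val (let7 a c d e s t u) 8 = e := rfl
  have v9 : val (let7 a c d e s t u) 9 = e⁻¹ := rfl
  have v10 : val (let7 a c d e s t u) 10 = s := rfl
  have v11 : val (let7 a c d e s t u) 11 = s⁻¹ := rfl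
  have v12 : val (let7 a c d e s t u) 12 = t := rfl
  have v13 : val (let7 a c d e s t u) 13 = t⁻¹ := rfl
  have v14 : val (let7 a c d e s t u) 14 = u := rfl
  have v15 : val (let7 a c d e s t u) 15 = u⁻¹ := rfl
  simp only [ThCE.R, List.forall_mem_cons, wval_cons, wval_nil, v2, v3, v4, v5, v6, v7, v8, v9, v10, v11, v12, v13, v14, v15]
  refine ⟨?_, ?_, ?_, ?_, ?_, ?_, ?_, ?_, ?_, ?_, ?_, ?_, ?_, ?_, ?_, ?_, ?_, ?_, ?_, ?_, ?_, ?_, ?_, ?_, ?_, ?_, ?_, ?_, ?_, ?_, ?_, ?_, ?_, ?_, ?_, ?_, by simp⟩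
  · simpa only [pow_succ, pow_zero, one_mul, mul_one, mul_assoc, mul_inv_rev, inv_inv, ia, ic, id', ie, inv_mul_cancel_left, mul_inv_cancel_left, ha2, hc2, hd2, he2, ca, cc, cdd, ce', mul_inv_cancel, inv_mul_cancel] using h.ae
  · simpa only [pow_succ, pow_zero, one_mul, mul_one, mul_assoc, mul_inv_rev, inv_inv, ia, ic, id', ie, inv_mul_cancel_left, mul_inv_cancel_left, ha2, hc2, hd2, he2, ca, cc, cdd, ce', mul_inv_cancel, inv_mul_cancel] using h.acd
  · simpa only [pow_succ, pow_zero, one_mul, mul_one, mul_assoc, mul_inv_rev, inv_inv, ia, ic, id', ie, inv_mul_cancel_left, mul_inv_cancel_left, ha2, hc2, hd2, he2, ca, cc, cdd, ce', mul_inv_cancel, inv_mul_cancel] using h.ce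
  · simpa only [pow_succ, pow_zero, one_mul, mul_one, mul_assoc, mul_inv_rev, inv_inv, ia, ic, id', ie, inv_mul_cancel_left, mul_inv_cancel_left, ha2, hc2, hd2, he2, ca, cc, cdd, ce', mul_inv_cancel, inv_mul_cancel] using h.de
  · simpa only [pow_succ, pow_zero, one_mul, mul_one, mul_assoc, mul_inv_rev, inv_inv, ia, ic, id', ie, inv_mul_cancel_left, mul_inv_cancel_left, ha2, hc2, hd2, he2, ca, cc, cdd, ce', mul_inv_cancel, inv_mul_cancel] using h.s7
  · simpa only [pow_succ, pow_zero, one_mul, mul_one, mul_assoc, mul_inv_rev, inv_inv, ia, ic, id', ie, inv_mul_cancel_left, mul_inv_cancel_left, ha2, hc2, hd2, he2, ca, cc, cdd, ce', mul_inv_cancel, inv_mul_cancel] using h.sa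
  · simpa only [pow_succ, pow_zero, one_mul, mul_one, mul_assoc, mul_inv_rev, inv_inv, ia, ic, id', ie, inv_mul_cancel_left, mul_inv_cancel_left, ha2, hc2, hd2, he2, ca, cc, cdd, ce', mul_inv_cancel, inv_mul_cancel] using h.sc
  · simpa only [pow_succ, pow_zero, one_mul, mul_one, mul_assoc, mul_inv_rev, inv_inv, ia, ic, id', ie, inv_mul_cancel_left, mul_inv_cancel_left, ha2, hc2, hd2, he2, ca, cc, cdd, ce', mul_inv_cancel, inv_mul_cancel] using h.sd
  · simpa only [pow_succ, pow_zero, one_mul, mul_one, mul_assoc, mul_inv_rev, inv_inv, ia, ic, id', ie, inv_mul_cancel_left, mul_inv_cancel_left, ha2, hc2, hd2, he2, ca, cc, cdd, ce', mul_inv_cancel, inv_mul_cancel] using h.es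
  · simpa only [pow_succ, pow_zero, one_mul, mul_one, mul_assoc, mul_inv_rev, inv_inv, ia, ic, id', ie, inv_mul_cancel_left, mul_inv_cancel_left, ha2, hc2, hd2, he2, ca, cc, cdd, ce', mul_inv_cancel, inv_mul_cancel] using h.t3
  · simpa only [pow_succ, pow_zero, one_mul, mul_one, mul_assoc, mul_inv_rev, inv_inv, ia, ic, id', ie, inv_mul_cancel_left, mul_inv_cancel_left, ha2, hc2, hd2, he2, ca, cc, cdd, ce', mul_inv_cancel, inv_mul_cancel] using h.ta
  · simpa only [pow_succ, pow_zero, one_mul, mul_one, mul_assoc, mul_inv_rev, inv_inv, ia, ic, id', ie, inv_mul_cancel_left, mul_inv_cancel_left, ha2, hc2, hd2, he2, ca, cc, cdd, ce', mul_inv_cancel, inv_mul_cancel] using h.tc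
  · simpa only [pow_succ, pow_zero, one_mul, mul_one, mul_assoc, mul_inv_rev, inv_inv, ia, ic, id', ie, inv_mul_cancel_left, mul_inv_cancel_left, ha2, hc2, hd2, he2, ca, cc, cdd, ce', mul_inv_cancel, inv_mul_cancel] using h.td
  · simpa only [pow_succ, pow_zero, one_mul, mul_one, mul_assoc, mul_inv_rev, inv_inv, ia, ic, id', ie, inv_mul_cancel_left, mul_inv_cancel_left, ha2, hc2, hd2, he2, ca, cc, cdd, ce', mul_inv_cancel, inv_mul_cancel] using h.te
  · simpa only [pow_succ, pow_zero, one_mul, mul_one, mul_assoc, mul_inv_rev, inv_inv, ia, ic, id', ie, inv_mul_cancel_left, mul_inv_cancel_left, ha2, hc2, hd2, he2, ca, cc, cdd, ce', mul_inv_cancel, inv_mul_cancel] using h.ts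
  · simpa only [pow_succ, pow_zero, one_mul, mul_one, mul_assoc, mul_inv_rev, inv_inv, ia, ic, id', ie, inv_mul_cancel_left, mul_inv_cancel_left, ha2, hc2, hd2, he2, ca, cc, cdd, ce', mul_inv_cancel, inv_mul_cancel] using h.u2
  · simpa only [pow_succ, pow_zero, one_mul, mul_one, mul_assoc, mul_inv_rev, inv_inv, ia, ic, id', ie, inv_mul_cancel_left, mul_inv_cancel_left, ha2, hc2, hd2, he2, ca, cc, cdd, ce', mul_inv_cancel, inv_mul_cancel] using h.ua
  · simpa only [pow_succ, pow_zero, one_mul, mul_one, mul_assoc, mul_inv_rev, inv_inv, ia, ic, id', ie, inv_mul_cancel_left, mul_inv_cancel_left, ha2, hc2, hd2, he2, ca, cc, cdd, ce', mul_inv_cancel, inv_mul_cancel] using h.uc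
  · simpa only [pow_succ, pow_zero, one_mul, mul_one, mul_assoc, mul_inv_rev, inv_inv, ia, ic, id', ie, inv_mul_cancel_left, mul_inv_cancel_left, ha2, hc2, hd2, he2, ca, cc, cdd, ce', mul_inv_cancel, inv_mul_cancel] using h.ue
  · simpa only [pow_succ, pow_zero, one_mul, mul_one, mul_assoc, mul_inv_rev, inv_inv, ia, ic, id', ie, inv_mul_cancel_left, mul_inv_cancel_left, ha2, hc2, hd2, he2, ca, cc, cdd, ce', mul_inv_cancel, inv_mul_cancel] using h.r4
  · simpa only [pow_succ, pow_zero, one_mul, mul_one, mul_assoc, mul_inv_rev, inv_inv, ia, ic, id', ie, inv_mul_cancel_left, mul_inv_cancel_left, ha2, hc2, hd2, he2, ca, cc, cdd, ce', mul_inv_cancel, inv_mul_cancel] using h.tu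
  · simpa only [pow_succ, pow_zero, one_mul, mul_one, mul_assoc, mul_inv_rev, inv_inv, ia, ic, id', ie, inv_mul_cancel_left, mul_inv_cancel_left, ha2, hc2, hd2, he2, ca, cc, cdd, ce', mul_inv_cancel, inv_mul_cancel] using h.r61
  · simpa only [pow_succ, pow_zero, one_mul, mul_one, mul_assoc, mul_inv_rev, inv_inv, ia, ic, id', ie, inv_mul_cancel_left, mul_inv_cancel_left, ha2, hc2, hd2, he2, ca, cc, cdd, ce', mul_inv_cancel, inv_mul_cancel] using h.r62
  · simpa only [pow_succ, pow_zero, one_mul, mul_one, mul_assoc, mul_inv_rev, inv_inv, ia, ic, id', ie, inv_mul_cancel_left, mul_inv_cancel_left, ha2, hc2, hd2, he2, ca, cc, cdd, ce', mul_inv_cancel, inv_mul_cancel] using h.r63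
  · simpa only [pow_succ, pow_zero, one_mul, mul_one, mul_assoc, mul_inv_rev, inv_inv, ia, ic, id', ie, inv_mul_cancel_left, mul_inv_cancel_left, ha2, hc2, hd2, he2, ca, cc, cdd, ce', mul_inv_cancel, inv_mul_cancel] using h.r64
  · simpa only [mul_one] using ha2
  · simpa only [mul_one] using hc2
  · simpa only [mul_one] using hd2
  · simpa only [mul_one] using he2
  · simp only [mul_one, mul_inv_cancel]
  · simp only [mul_one, mul_inv_cancel]
  · simp only [mul_one, mul_inv_cancel]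
  · simp only [mul_one, mul_inv_cancel]
  · simp only [mul_one, mul_inv_cancel]
  · simp only [mul_one, mul_inv_cancel]
  · simp only [mul_one, mul_inv_cancel]

/-- the subgroup `⟨a, c, d, e, s, t⟩` -/
def K6 (a c d e s t : G) : Subgroup G := Subgroup.closure {a, c, d, e, s, t}
/-- the subgroup `⟨a, c, d, e, s, t, u⟩` -/
def C7 (a c d e s t u : G) : Subgroup G := Subgroup.closure {a, c, d, e, s, t, u}

theorem K6_le (a c d e s t u : G) : K6 a c d e s t ≤ C7 a c d e s t u := by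
  apply Subgroup.closure_mono
  rintro x (rfl | rfl | rfl | rfl | rfl | rfl) <;> simp

theorem top_index (h : RelC a c d e s t u) (hgen : C7 a c d e s t u = ⊤) :
    Finite (G ⧸ K6 a c d e s t) ∧ Nat.card (G ⧸ K6 a c d e s t) ≤ 120 := by
  set p : G ⧸ K6 a c d e s t := ((1 : G) : G ⧸ K6 a c d e s t) with hp
  have hiv : ∀ i, (30 : ℕ).testBit i = true → (let7 a c d e s t u i)⁻¹ = let7 a c d e s t u i := by
    intro i hi
    have hlt : i < 5 := by
      by_contra hc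
      rw [Nat.testBit_lt_two_pow] at hi
      · simp at hi
      · exact lt_of_lt_of_le (by norm_num : (30 : ℕ) < 2 ^ 5) (Nat.pow_le_pow_right (by norm_num) (by omega))
    interval_cases i
    · exact inv_one
    · exact inv_of_sq h.a2
    · exact inv_of_sq h.c2
    · exact inv_of_sq h.d2
    · exact inv_of_sq h.e2
  have m : ∀ {x : G}, x ∈ ({a, c, d, e, s, t} : Set G) → x • p = p := by
    intro x hx
    rw [hp]
    show ((x * 1 : G) : G ⧸ K6 a c d e s t) = _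
    rw [mul_one, QuotientGroup.eq, mul_one]
    exact Subgroup.inv_mem _ (Subgroup.subset_closure hx)
  have hsub : ∀ i ∈ [1, 2, 3, 4, 5, 6], let7 a c d e s t u i • p = p := by
    intro i hi
    simp only [List.mem_cons, List.not_mem_nil, or_false] at hi
    rcases hi with rfl | rfl | rfl | rfl | rfl | rfl
    · exact m (x := a) (by simp)
    · exact m (x := c) (by simp)
    · exact m (x := d) (by simp)
    · exact m (x := e) (by simp)
    · exact m (x := s) (by simp)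
    · exact m (x := t) (by simp)
  have hg := sound (p := p) (x := let7 a c d e s t u) rfl hiv h.words hsub ThCE.ok
  refine card_le_of_closed (f := pts ThCE.T (let7 a c d e s t u) p) (n := 120) (by norm_num) {a, c, d, e, s, t, u} hgen ?_
  rintro x (rfl | rfl | rfl | rfl | rfl | rfl | rfl)
  · exact chkC_sound hiv hg 120 ThCE.cl1
  · exact chkC_sound hiv hg 120 ThCE.cl2
  · exact chkC_sound hiv hg 120 ThCE.cl3
  · exact chkC_sound hiv hg 120 ThCE.cl4
  · exact chkC_sound hiv hg 120 ThCE.cl5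
  · exact chkC_sound hiv hg 120 ThCE.cl6
  · exact chkC_sound hiv hg 120 ThCE.cl7

/-- the index of `⟨a, c, d, e, s, t⟩` in `⟨a, c, d, e, s, t, u⟩` -/
theorem index_le (h : RelC a c d e s t u) : (K6 a c d e s t).relIndex (C7 a c d e s t u) ≠ 0 ∧
    (K6 a c d e s t).relIndex (C7 a c d e s t u) ≤ 120 := by
  have mm : ∀ {x : G}, x ∈ ({a, c, d, e, s, t, u} : Set G) → x ∈ C7 a c d e s t u := fun hx => Subgroup.subset_closure hx
  let H := C7 a c d e s t u
  let a' : H := ⟨a, mm (by simp)⟩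
  let c' : H := ⟨c, mm (by simp)⟩
  let d' : H := ⟨d, mm (by simp)⟩
  let e' : H := ⟨e, mm (by simp)⟩
  let s' : H := ⟨s, mm (by simp)⟩
  let t' : H := ⟨t, mm (by simp)⟩
  let u' : H := ⟨u, mm (by simp)⟩
  have k : ∀ x : H, (x : G) = 1 → x = 1 := fun x hx => Subtype.ext hx
  have h' : RelC a' c' d' e' s' t' u' := ⟨k _ h.a2, k _ h.c2, k _ h.d2, k _ h.e2, k _ h.ae, k _ h.acd, k _ h.ce, k _ h.de,
    k _ h.s7, k _ h.sa, k _ h.sc, k _ h.sd, k _ h.es, k _ h.t3, k _ h.ta, k _ h.tc, k _ h.td, k _ h.te, k _ h.ts, k _ h.u2,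
    k _ h.ua, k _ h.uc, k _ h.ue, k _ h.r4, k _ h.tu, k _ h.r61, k _ h.r62, k _ h.r63, k _ h.r64⟩
  have hmap : (C7 a' c' d' e' s' t' u').map H.subtype = H := by
    show (Subgroup.closure _).map _ = Subgroup.closure _
    rw [MonoidHom.map_closure]
    congr 1
    simp only [Set.image_insert_eq, Set.image_singleton]
    rfl
  have hgen : C7 a' c' d' e' s' t' u' = ⊤ := by
    rw [eq_top_iff]
    intro x _
    have h3 : (x : G) ∈ (C7 a' c' d' e' s' t' u').map H.subtype := by rw [hmap]; exact x.2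
    obtain ⟨y, hy, hxy⟩ := h3
    rwa [← show y = x from Subtype.ext hxy]
  obtain ⟨h1, h2⟩ := top_index h' hgen
  have hK : (K6 a c d e s t).subgroupOf H = K6 a' c' d' e' s' t' := by
    have h4 : (K6 a' c' d' e' s' t').map H.subtype = K6 a c d e s t := by
      show (Subgroup.closure _).map _ = Subgroup.closure _
      rw [MonoidHom.map_closure]
      congr 1
      simp only [Set.image_insert_eq, Set.image_singleton]
      rfl
    rw [← h4]
    exact Subgroup.comap_map_eq_self_of_injective H.subtype_injective _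
  have e1 : (K6 a c d e s t).relIndex H = Nat.card (H ⧸ K6 a' c' d' e' s' t') := by
    show ((K6 a c d e s t).subgroupOf H).index = _
    rw [hK]; rfl
  refine ⟨?_, ?_⟩
  · show (K6 a c d e s t).relIndex H ≠ 0
    rw [e1]; exact Nat.card_pos.ne'
  · show (K6 a c d e s t).relIndex H ≤ 120
    rw [e1]; exact h2

end

/-- the index in the Thompson group -/
theorem index_Th : (K6 (XT 0) (XT 2) (XT 3) (XT 4) (XT 5) (XT 6)).relIndex
    (C7 (XT 0) (XT 2) (XT 3) (XT 4) (XT 5) (XT 6) (XT 7)) ≠ 0 ∧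
    (K6 (XT 0) (XT 2) (XT 3) (XT 4) (XT 5) (XT 6)).relIndex (C7 (XT 0) (XT 2) (XT 3) (XT 4) (XT 5) (XT 6) (XT 7)) ≤ 120 :=
  index_le relC_XT

/-- the order bound for `⟨a, c, d, e, s, t, u⟩` -/
theorem card_C7 {G : Type*} [Group G] {a b c d e s t u : G} (h : RelC a c d e s t u) (hp : RelP a b c d e s t) (ha : a ≠ 1) :
    Finite (C7 a c d e s t u) ∧ Nat.card (C7 a c d e s t u) ≤ 92897280 := by
  have hK : Nat.card (K6 a c d e s t) = 774144 := ThC4.card_K (x := pk a b c d e s t) hp ha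
  obtain ⟨h1, h2⟩ := index_le h
  have hle := K6_le a c d e s t u
  have h3 : (K6 a c d e s t).relIndex (C7 a c d e s t u) * Nat.card (K6 a c d e s t) = Nat.card (C7 a c d e s t u) := by
    have h4 := ((K6 a c d e s t).subgroupOf (C7 a c d e s t u)).index_mul_card
    have h5 : Nat.card ((K6 a c d e s t).subgroupOf (C7 a c d e s t u)) = Nat.card (K6 a c d e s t) :=
      Nat.card_congr (Subgroup.subgroupOfEquivOfLe hle).toEquiv
    rw [h5] at h4
    exact h4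
  have hpos : Nat.card (C7 a c d e s t u) ≠ 0 := by
    rw [← h3, hK]; exact Nat.mul_ne_zero h1 (by norm_num)
  refine ⟨Nat.finite_of_card_ne_zero hpos, ?_⟩
  rw [← h3, hK]
  calc _ ≤ 120 * 774144 := Nat.mul_le_mul_right _ h2
    _ = 92897280 := by norm_num

end Cfsg.Agent.Lib.ThC3
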