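import Cfsg.Agent.Lib.ThRho

/-!
The 819 words `w_j` in the letters of `P` (Schreier transversal of the stabilizer `⟨a,c,d,e,s,t⟩` of the point 0 in `P`,
`0 w_j = j` in the right action of tools/h13_th/p819.txt) (helper36).
Letters: `0..7 = a b c d e s t u`, `8 = s⁻¹`, `9 = t⁻¹`, `10 = u⁻¹`.
-/

set_option autoImplicit false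
set_option linter.all false
set_option maxRecDepth 100000
set_option Elab.async false

namespace Cfsg.Agent.Lib.ThCW

open Cfsg.Spor Cfsg.Agent.Lib.ThRho

/-- letters of the group -/
noncomputable def XX (c : ℕ) : Th :=
  match c with
  | 8 => (X 5)⁻¹
  | 9 => (X 6)⁻¹
  | 10 => (X 7)⁻¹
  | c => X c

/-- value of a list of letters -/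
noncomputable def evl (w : List ℕ) : Th := (w.map XX).prod

/-- words -/
def WL0 : List (List ℕ) := [
  [],
  [1],
  [1, 0],
  [1, 2],
  [1, 0, 2],
  [1, 2, 3],
  [1, 0, 2, 1],
  [1, 0, 2, 3],
  [1, 2, 3, 2],
  [1, 2, 3, 4],
  [1, 0, 2, 1, 3],
  [1, 0, 2, 3, 2],
  [1, 0, 2, 3, 4],
  [1, 2, 3, 2, 1],
  [1, 2, 3, 2, 4],
  [1, 2, 3, 4, 5],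
  [1, 0, 2, 1, 3, 2],
  [1, 0, 2, 1, 3, 4],
  [1, 0, 2, 3, 2, 1],
  [1, 0, 2, 3, 2, 4],
  [1, 0, 2, 3, 4, 5],
  [1, 2, 3, 2, 1, 0],
  [1, 2, 3, 2, 1, 4],
  [1, 2, 3, 2, 4, 3],
  [1, 2, 3, 2, 4, 5],
  [1, 2, 3, 4, 8],
  [1, 2, 3, 4, 5, 4],
  [1, 2, 3, 4, 5, 5],
  [1, 0, 2, 1, 3, 2, 1],
  [1, 0, 2, 1, 3, 2, 3],
  [1, 0, 2, 1, 3, 2, 4],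
  [1, 0, 2, 1, 3, 4, 5],
  [1, 0, 2, 3, 2, 1, 0],
  [1, 0, 2, 3, 2, 1, 4],
  [1, 0, 2, 3, 2, 4, 3],
  [1, 0, 2, 3, 2, 4, 5],
  [1, 0, 2, 3, 4, 8],
  [1, 0, 2, 3, 4, 5, 4],
  [1, 0, 2, 3, 4, 5, 5],
  [1, 2, 3, 2, 1, 0, 4],
  [1, 2, 3, 2, 1, 4, 3],
  [1, 2, 3, 2, 1, 4, 5],
  [1, 2, 3, 2, 4, 3, 2],
  [1, 2, 3, 2, 4, 3, 5],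
  [1, 2, 3, 2, 4, 3, 8],
  [1, 2, 3, 2, 4, 5, 4],
  [1, 2, 3, 2, 4, 5, 5],
  [1, 2, 3, 2, 4, 8],
  [1, 2, 3, 4, 8, 8],
  [1, 2, 3, 4, 5, 9],
  [1, 0, 2, 1, 3, 2, 1, 0],
  [1, 0, 2, 1, 3, 2, 1, 3],
  [1, 0, 2, 1, 3, 2, 1, 4],
  [1, 0, 2, 1, 3, 2, 4, 5],
  [1, 0, 2, 1, 3, 4, 8],
  [1, 0, 2, 1, 3, 4, 5, 4],
  [1, 0, 2, 1, 3, 4, 5, 5],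
  [1, 0, 2, 3, 2, 1, 0, 4],
  [1, 0, 2, 3, 2, 1, 4, 3],
  [1, 0, 2, 3, 2, 1, 4, 5],
  [1, 0, 2, 3, 2, 4, 3, 2],
  [1, 0, 2, 3, 2, 4, 3, 5],
  [1, 0, 2, 3, 2, 4, 3, 8],
  [1, 0, 2, 3, 2, 4, 5, 4],
  [1, 0, 2, 3, 2, 4, 5, 5],
  [1, 0, 2, 3, 2, 4, 8],
  [1, 0, 2, 3, 4, 8, 8],
  [1, 0, 2, 3, 4, 5, 9],
  [1, 2, 3, 2, 1, 0, 4, 3],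
  [1, 2, 3, 2, 1, 0, 4, 5],
  [1, 2, 3, 2, 1, 4, 3, 2],
  [1, 2, 3, 2, 1, 4, 3, 5],
  [1, 2, 3, 2, 1, 4, 3, 8],
  [1, 2, 3, 2, 1, 4, 5, 4],
  [1, 2, 3, 2, 1, 4, 5, 5],
  [1, 2, 3, 2, 4, 3, 2, 1],
  [1, 2, 3, 2, 4, 3, 2, 5],
  [1, 2, 3, 2, 4, 3, 5, 4],
  [1, 2, 3, 2, 4, 3, 5, 5],
  [1, 2, 3, 2, 4, 3, 2, 8],
  [1, 2, 3, 2, 4, 3, 8, 4],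
  [1, 2, 3, 2, 4, 3, 8, 8],
  [1, 2, 3, 2, 4, 3, 5, 9],
  [1, 2, 3, 2, 4, 5, 9],
  [1, 2, 3, 2, 1, 4, 8],
  [1, 2, 3, 2, 4, 8, 8],
  [1, 0, 2, 1, 3, 2, 1, 0, 3],
  [1, 0, 2, 1, 3, 2, 1, 0, 4],
  [1, 0, 2, 1, 3, 2, 1, 4, 5],
  [1, 0, 2, 1, 3, 2, 4, 8],
  [1, 0, 2, 1, 3, 2, 4, 5, 4],
  [1, 0, 2, 1, 3, 2, 4, 5, 5],
  [1, 0, 2, 1, 3, 4, 8, 8],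
  [1, 0, 2, 1, 3, 4, 5, 9],
  [1, 0, 2, 3, 2, 1, 0, 4, 3],
  [1, 0, 2, 3, 2, 1, 0, 4, 5],
  [1, 0, 2, 3, 2, 1, 4, 3, 2],
  [1, 0, 2, 3, 2, 1, 4, 3, 5],
  [1, 0, 2, 3, 2, 1, 4, 3, 8],
  [1, 0, 2, 3, 2, 1, 4, 5, 4],
  [1, 0, 2, 3, 2, 1, 4, 5, 5],
  [1, 0, 2, 3, 2, 4, 3, 2, 1],
  [1, 0, 2, 3, 2, 4, 3, 2, 5]]

/-- words -/
def WL1 : List (List ℕ) := [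
  [1, 0, 2, 3, 2, 4, 3, 5, 4],
  [1, 0, 2, 3, 2, 4, 3, 5, 5],
  [1, 0, 2, 3, 2, 4, 3, 2, 8],
  [1, 0, 2, 3, 2, 4, 3, 8, 4],
  [1, 0, 2, 3, 2, 4, 3, 8, 8],
  [1, 0, 2, 3, 2, 4, 3, 5, 9],
  [1, 0, 2, 3, 2, 4, 5, 9],
  [1, 0, 2, 3, 2, 1, 4, 8],
  [1, 0, 2, 3, 2, 4, 8, 8],
  [1, 2, 3, 2, 1, 0, 4, 3, 2],
  [1, 2, 3, 2, 1, 0, 4, 3, 5],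
  [1, 2, 3, 2, 1, 0, 4, 3, 8],
  [1, 2, 3, 2, 1, 0, 4, 5, 4],
  [1, 2, 3, 2, 1, 0, 4, 5, 5],
  [1, 2, 3, 2, 1, 4, 3, 2, 1],
  [1, 2, 3, 2, 1, 4, 3, 2, 3],
  [1, 2, 3, 2, 1, 4, 3, 2, 5],
  [1, 2, 3, 2, 1, 4, 3, 5, 4],
  [1, 2, 3, 2, 1, 4, 3, 5, 5],
  [1, 2, 3, 2, 1, 4, 3, 2, 8],
  [1, 2, 3, 2, 1, 4, 3, 8, 4],
  [1, 2, 3, 2, 1, 4, 3, 8, 8],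
  [1, 2, 3, 2, 1, 4, 3, 5, 9],
  [1, 2, 3, 2, 1, 4, 5, 9],
  [1, 2, 3, 2, 4, 3, 2, 1, 0],
  [1, 2, 3, 2, 4, 3, 2, 1, 5],
  [1, 2, 3, 2, 4, 3, 2, 5, 4],
  [1, 2, 3, 2, 4, 3, 2, 5, 5],
  [1, 2, 3, 2, 4, 3, 5, 4, 3],
  [1, 2, 3, 2, 4, 3, 5, 4, 5],
  [1, 2, 3, 2, 4, 3, 5, 4, 6],
  [1, 2, 3, 2, 4, 3, 8, 9],
  [1, 2, 3, 2, 4, 3, 2, 1, 8],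
  [1, 2, 3, 2, 4, 3, 2, 8, 4],
  [1, 2, 3, 2, 4, 3, 2, 8, 8],
  [1, 2, 3, 2, 4, 3, 5, 4, 9],
  [1, 2, 3, 2, 4, 3, 8, 4, 5],
  [1, 2, 3, 2, 4, 3, 2, 5, 9],
  [1, 2, 3, 2, 1, 0, 4, 8],
  [1, 2, 3, 2, 1, 4, 8, 8],
  [1, 0, 2, 1, 3, 2, 1, 0, 4, 5],
  [1, 0, 2, 1, 3, 2, 1, 4, 8],
  [1, 0, 2, 1, 3, 2, 1, 4, 5, 4],
  [1, 0, 2, 1, 3, 2, 1, 4, 5, 5],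
  [1, 0, 2, 1, 3, 2, 4, 8, 8],
  [1, 0, 2, 1, 3, 2, 4, 5, 9],
  [1, 0, 2, 3, 2, 1, 0, 4, 3, 2],
  [1, 0, 2, 3, 2, 1, 0, 4, 3, 5],
  [1, 0, 2, 3, 2, 1, 0, 4, 3, 8],
  [1, 0, 2, 3, 2, 1, 0, 4, 5, 4],
  [1, 0, 2, 3, 2, 1, 0, 4, 5, 5],
  [1, 0, 2, 3, 2, 1, 4, 3, 2, 1],
  [1, 0, 2, 3, 2, 1, 4, 3, 2, 5],
  [1, 0, 2, 3, 2, 1, 4, 3, 5, 4],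
  [1, 0, 2, 3, 2, 1, 4, 3, 5, 5],
  [1, 0, 2, 3, 2, 1, 4, 3, 2, 8],
  [1, 0, 2, 3, 2, 1, 4, 3, 8, 4],
  [1, 0, 2, 3, 2, 1, 4, 3, 8, 8],
  [1, 0, 2, 3, 2, 1, 4, 3, 5, 9],
  [1, 0, 2, 3, 2, 1, 4, 5, 9],
  [1, 0, 2, 3, 2, 4, 3, 2, 1, 0],
  [1, 0, 2, 3, 2, 4, 3, 2, 1, 5],
  [1, 0, 2, 3, 2, 4, 3, 2, 5, 4],
  [1, 0, 2, 3, 2, 4, 3, 2, 5, 5],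
  [1, 0, 2, 3, 2, 4, 3, 5, 4, 3],
  [1, 0, 2, 3, 2, 4, 3, 5, 4, 5],
  [1, 0, 2, 3, 2, 4, 3, 5, 4, 6],
  [1, 0, 2, 3, 2, 4, 3, 8, 9],
  [1, 0, 2, 3, 2, 4, 3, 2, 1, 8],
  [1, 0, 2, 3, 2, 4, 3, 2, 8, 4],
  [1, 0, 2, 3, 2, 4, 3, 2, 8, 8],
  [1, 0, 2, 3, 2, 4, 3, 5, 4, 9],
  [1, 0, 2, 3, 2, 4, 3, 8, 4, 5],
  [1, 0, 2, 3, 2, 4, 3, 2, 5, 9],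
  [1, 0, 2, 3, 2, 1, 0, 4, 8],
  [1, 0, 2, 3, 2, 1, 4, 8, 8],
  [1, 2, 3, 2, 1, 0, 4, 3, 2, 1],
  [1, 2, 3, 2, 1, 0, 4, 3, 2, 3],
  [1, 2, 3, 2, 1, 0, 4, 3, 2, 5],
  [1, 2, 3, 2, 1, 0, 4, 3, 5, 4],
  [1, 2, 3, 2, 1, 0, 4, 3, 5, 5],
  [1, 2, 3, 2, 1, 0, 4, 3, 2, 8],
  [1, 2, 3, 2, 1, 0, 4, 3, 8, 4],
  [1, 2, 3, 2, 1, 0, 4, 3, 8, 8],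
  [1, 2, 3, 2, 1, 0, 4, 3, 5, 9],
  [1, 2, 3, 2, 1, 0, 4, 5, 9],
  [1, 2, 3, 2, 1, 4, 3, 2, 1, 0],
  [1, 2, 3, 2, 1, 4, 3, 2, 1, 3],
  [1, 2, 3, 2, 1, 4, 3, 2, 1, 5],
  [1, 2, 3, 2, 1, 4, 3, 2, 3, 5],
  [1, 2, 3, 2, 1, 4, 3, 2, 3, 8],
  [1, 2, 3, 2, 1, 4, 3, 2, 5, 4],
  [1, 2, 3, 2, 1, 4, 3, 2, 5, 5],
  [1, 2, 3, 2, 1, 4, 3, 5, 4, 3],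
  [1, 2, 3, 2, 1, 4, 3, 5, 4, 5],
  [1, 2, 3, 2, 1, 4, 3, 5, 4, 6],
  [1, 2, 3, 2, 1, 4, 3, 8, 9],
  [1, 2, 3, 2, 1, 4, 3, 2, 1, 8],
  [1, 2, 3, 2, 1, 4, 3, 2, 8, 4],
  [1, 2, 3, 2, 1, 4, 3, 2, 8, 8],
  [1, 2, 3, 2, 1, 4, 3, 5, 4, 9],
  [1, 2, 3, 2, 1, 4, 3, 8, 4, 5],
  [1, 2, 3, 2, 1, 4, 3, 2, 5, 9]]

/-- words -/
def WL2 : List (List ℕ) := [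
  [1, 2, 3, 2, 4, 3, 2, 1, 0, 5],
  [1, 2, 3, 2, 4, 3, 2, 1, 5, 4],
  [1, 2, 3, 2, 4, 3, 2, 1, 5, 5],
  [1, 2, 3, 2, 4, 3, 2, 5, 4, 3],
  [1, 2, 3, 2, 4, 3, 2, 5, 4, 5],
  [1, 2, 3, 2, 4, 3, 2, 5, 4, 6],
  [1, 2, 3, 2, 4, 3, 2, 8, 9],
  [1, 2, 3, 2, 4, 3, 2, 8, 4, 6],
  [1, 2, 3, 2, 4, 3, 5, 4, 3, 5],
  [1, 2, 3, 2, 4, 3, 8, 4, 9],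
  [1, 2, 3, 2, 4, 3, 5, 4, 3, 8],
  [1, 2, 3, 2, 4, 3, 5, 4, 5, 4],
  [1, 2, 3, 2, 4, 3, 5, 4, 5, 5],
  [1, 2, 3, 2, 4, 3, 5, 4, 5, 6],
  [1, 0, 2, 3, 2, 4, 3, 8, 4, 9],
  [1, 2, 3, 2, 4, 3, 2, 1, 0, 8],
  [1, 2, 3, 2, 4, 3, 2, 1, 8, 4],
  [1, 2, 3, 2, 4, 3, 2, 1, 8, 8],
  [1, 2, 3, 2, 4, 3, 2, 8, 4, 3],
  [1, 2, 3, 2, 4, 3, 2, 8, 4, 5],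
  [1, 2, 3, 2, 4, 3, 2, 5, 4, 9],
  [1, 0, 2, 3, 2, 4, 3, 8, 4, 8],
  [1, 2, 3, 2, 4, 3, 5, 4, 9, 8],
  [1, 2, 3, 2, 4, 3, 8, 4, 5, 5],
  [1, 0, 2, 3, 2, 4, 3, 5, 4, 8],
  [1, 2, 3, 2, 4, 3, 2, 1, 5, 9],
  [1, 0, 2, 3, 2, 4, 3, 2, 8, 9],
  [1, 2, 3, 2, 1, 0, 4, 8, 8],
  [1, 0, 2, 1, 3, 2, 1, 0, 4, 8],
  [1, 0, 2, 1, 3, 2, 1, 0, 4, 5, 4],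
  [1, 0, 2, 1, 3, 2, 1, 0, 4, 5, 5],
  [1, 0, 2, 1, 3, 2, 1, 4, 8, 8],
  [1, 0, 2, 1, 3, 2, 1, 4, 5, 9],
  [1, 0, 2, 3, 2, 1, 0, 4, 3, 2, 1],
  [1, 0, 2, 3, 2, 1, 0, 4, 3, 2, 5],
  [1, 0, 2, 3, 2, 1, 0, 4, 3, 5, 4],
  [1, 0, 2, 3, 2, 1, 0, 4, 3, 5, 5],
  [1, 0, 2, 3, 2, 1, 0, 4, 3, 2, 8],
  [1, 0, 2, 3, 2, 1, 0, 4, 3, 8, 4],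
  [1, 0, 2, 3, 2, 1, 0, 4, 3, 8, 8],
  [1, 0, 2, 3, 2, 1, 0, 4, 3, 5, 9],
  [1, 0, 2, 3, 2, 1, 0, 4, 5, 9],
  [1, 0, 2, 3, 2, 1, 4, 3, 2, 1, 0],
  [1, 0, 2, 3, 2, 1, 4, 3, 2, 1, 5],
  [1, 0, 2, 3, 2, 1, 4, 3, 2, 5, 4],
  [1, 0, 2, 3, 2, 1, 4, 3, 2, 5, 5],
  [1, 0, 2, 3, 2, 1, 4, 3, 5, 4, 3],
  [1, 0, 2, 3, 2, 1, 4, 3, 5, 4, 5],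
  [1, 0, 2, 3, 2, 1, 4, 3, 5, 4, 6],
  [1, 0, 2, 3, 2, 1, 4, 3, 8, 9],
  [1, 0, 2, 3, 2, 1, 4, 3, 2, 1, 8],
  [1, 0, 2, 3, 2, 1, 4, 3, 2, 8, 4],
  [1, 0, 2, 3, 2, 1, 4, 3, 2, 8, 8],
  [1, 0, 2, 3, 2, 1, 4, 3, 5, 4, 9],
  [1, 0, 2, 3, 2, 1, 4, 3, 8, 4, 5],
  [1, 0, 2, 3, 2, 1, 4, 3, 2, 5, 9],
  [1, 0, 2, 3, 2, 4, 3, 2, 1, 0, 5],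
  [1, 0, 2, 3, 2, 4, 3, 2, 1, 5, 4],
  [1, 0, 2, 3, 2, 4, 3, 2, 1, 5, 5],
  [1, 0, 2, 3, 2, 4, 3, 2, 5, 4, 3],
  [1, 0, 2, 3, 2, 4, 3, 2, 5, 4, 5],
  [1, 0, 2, 3, 2, 4, 3, 2, 5, 4, 6],
  [1, 0, 2, 3, 2, 4, 3, 2, 8, 4, 6],
  [1, 2, 3, 2, 4, 3, 5, 4, 8, 8],
  [1, 0, 2, 3, 2, 4, 3, 5, 4, 3, 8],
  [1, 0, 2, 3, 2, 4, 3, 5, 4, 5, 4],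
  [1, 2, 3, 2, 4, 3, 8, 4, 8, 6],
  [1, 2, 3, 2, 4, 3, 8, 4, 9, 5],
  [1, 0, 2, 3, 2, 4, 3, 2, 1, 0, 8],
  [1, 0, 2, 3, 2, 4, 3, 2, 1, 8, 4],
  [1, 0, 2, 3, 2, 4, 3, 2, 1, 8, 8],
  [1, 0, 2, 3, 2, 4, 3, 2, 8, 4, 3],
  [1, 0, 2, 3, 2, 4, 3, 2, 8, 4, 5],
  [1, 0, 2, 3, 2, 4, 3, 2, 5, 4, 9],
  [1, 2, 3, 2, 4, 3, 8, 4, 8],
  [1, 0, 2, 3, 2, 4, 3, 5, 4, 9, 8],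
  [1, 2, 3, 2, 4, 3, 5, 4, 5, 9],
  [1, 2, 3, 2, 4, 3, 5, 4, 8],
  [1, 0, 2, 3, 2, 4, 3, 2, 1, 5, 9],
  [1, 0, 2, 3, 2, 1, 0, 4, 8, 8],
  [1, 2, 3, 2, 1, 0, 4, 3, 2, 1, 0],
  [1, 2, 3, 2, 1, 0, 4, 3, 2, 1, 3],
  [1, 2, 3, 2, 1, 0, 4, 3, 2, 1, 5],
  [1, 2, 3, 2, 1, 0, 4, 3, 2, 3, 5],
  [1, 2, 3, 2, 1, 0, 4, 3, 2, 3, 8],
  [1, 2, 3, 2, 1, 0, 4, 3, 2, 5, 4],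
  [1, 2, 3, 2, 1, 0, 4, 3, 2, 5, 5],
  [1, 2, 3, 2, 1, 0, 4, 3, 5, 4, 3],
  [1, 2, 3, 2, 1, 0, 4, 3, 5, 4, 5],
  [1, 2, 3, 2, 1, 0, 4, 3, 5, 4, 6],
  [1, 2, 3, 2, 1, 0, 4, 3, 8, 9],
  [1, 2, 3, 2, 1, 0, 4, 3, 2, 1, 8],
  [1, 2, 3, 2, 1, 0, 4, 3, 2, 8, 4],
  [1, 2, 3, 2, 1, 0, 4, 3, 2, 8, 8],
  [1, 2, 3, 2, 1, 0, 4, 3, 5, 4, 9],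
  [1, 2, 3, 2, 1, 0, 4, 3, 8, 4, 5],
  [1, 2, 3, 2, 1, 0, 4, 3, 2, 5, 9],
  [1, 2, 3, 2, 1, 4, 3, 2, 1, 0, 3],
  [1, 2, 3, 2, 1, 4, 3, 2, 1, 0, 5],
  [1, 2, 3, 2, 1, 4, 3, 2, 1, 3, 2],
  [1, 2, 3, 2, 1, 4, 3, 2, 1, 3, 5],
  [1, 2, 3, 2, 1, 4, 3, 2, 1, 3, 8],
  [1, 2, 3, 2, 1, 4, 3, 2, 1, 5, 4]]

/-- words -/
def WL3 : List (List ℕ) := [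
  [1, 2, 3, 2, 1, 4, 3, 2, 1, 5, 5],
  [1, 2, 3, 2, 1, 4, 3, 2, 3, 5, 5],
  [1, 2, 3, 2, 1, 4, 3, 2, 3, 8, 8],
  [1, 2, 3, 2, 1, 4, 3, 2, 5, 4, 5],
  [1, 2, 3, 2, 1, 4, 3, 2, 5, 4, 6],
  [1, 2, 3, 2, 1, 4, 3, 2, 8, 9],
  [1, 2, 3, 2, 1, 4, 3, 2, 8, 4, 6],
  [1, 2, 3, 2, 1, 4, 3, 5, 4, 3, 5],
  [1, 2, 3, 2, 1, 4, 3, 8, 4, 9],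
  [1, 2, 3, 2, 1, 4, 3, 5, 4, 3, 8],
  [1, 2, 3, 2, 1, 4, 3, 5, 4, 5, 4],
  [1, 2, 3, 2, 1, 4, 3, 5, 4, 5, 5],
  [1, 2, 3, 2, 1, 4, 3, 5, 4, 5, 6],
  [1, 0, 2, 3, 2, 1, 4, 3, 8, 4, 9],
  [1, 2, 3, 2, 1, 4, 3, 2, 1, 0, 8],
  [1, 2, 3, 2, 1, 4, 3, 2, 1, 8, 4],
  [1, 2, 3, 2, 1, 4, 3, 2, 1, 8, 8],
  [1, 2, 3, 2, 1, 4, 3, 2, 8, 4, 5],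
  [1, 2, 3, 2, 1, 4, 3, 2, 5, 4, 9],
  [1, 0, 2, 3, 2, 1, 4, 3, 8, 4, 8],
  [1, 2, 3, 2, 1, 4, 3, 5, 4, 9, 8],
  [1, 2, 3, 2, 1, 4, 3, 8, 4, 5, 5],
  [1, 0, 2, 3, 2, 1, 4, 3, 5, 4, 8],
  [1, 2, 3, 2, 1, 4, 3, 2, 1, 5, 9],
  [1, 2, 3, 2, 1, 4, 3, 2, 3, 8, 9],
  [1, 2, 3, 2, 4, 3, 2, 1, 0, 5, 4],
  [1, 2, 3, 2, 4, 3, 2, 1, 0, 5, 5],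
  [1, 2, 3, 2, 4, 3, 2, 1, 5, 4, 3],
  [1, 2, 3, 2, 4, 3, 2, 1, 5, 4, 5],
  [1, 2, 3, 2, 4, 3, 2, 1, 5, 4, 6],
  [1, 2, 3, 2, 4, 3, 2, 1, 8, 9],
  [1, 2, 3, 2, 4, 3, 2, 5, 4, 3, 2],
  [1, 2, 3, 2, 4, 3, 2, 5, 4, 3, 5],
  [1, 2, 3, 2, 4, 3, 2, 5, 4, 3, 6],
  [1, 2, 3, 2, 4, 3, 2, 5, 4, 5, 4],
  [1, 2, 3, 2, 4, 3, 2, 5, 4, 5, 6],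
  [1, 0, 2, 3, 2, 4, 3, 2, 8, 4, 9],
  [1, 2, 3, 2, 4, 3, 2, 8, 4, 9],
  [1, 2, 3, 2, 4, 3, 2, 1, 8, 4, 6],
  [1, 2, 3, 2, 4, 3, 2, 8, 4, 3, 6],
  [1, 2, 3, 2, 4, 3, 2, 8, 4, 6, 5],
  [1, 2, 3, 2, 4, 3, 8, 4, 8, 9],
  [1, 2, 3, 2, 4, 3, 8, 4, 8, 4],
  [1, 2, 3, 2, 4, 3, 2, 8, 4, 6, 8],
  [1, 0, 2, 3, 2, 4, 3, 5, 4, 6, 8],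
  [1, 0, 2, 3, 2, 4, 3, 8, 4, 8, 9],
  [1, 0, 2, 3, 2, 4, 3, 8, 4, 8, 4],
  [1, 2, 3, 2, 4, 3, 2, 1, 0, 8, 4],
  [1, 2, 3, 2, 4, 3, 2, 1, 0, 8, 8],
  [1, 2, 3, 2, 4, 3, 2, 1, 8, 4, 3],
  [1, 2, 3, 2, 4, 3, 2, 1, 8, 4, 5],
  [1, 2, 3, 2, 4, 3, 2, 8, 4, 3, 2],
  [1, 2, 3, 2, 4, 3, 2, 8, 4, 3, 5],
  [1, 2, 3, 2, 4, 3, 2, 8, 4, 3, 8],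
  [1, 2, 3, 2, 4, 3, 2, 8, 4, 5, 5],
  [1, 0, 2, 3, 2, 4, 3, 2, 5, 4, 8],
  [1, 2, 3, 2, 4, 3, 2, 1, 5, 4, 9],
  [1, 2, 3, 2, 4, 3, 2, 5, 4, 3, 9],
  [1, 0, 2, 3, 2, 4, 3, 2, 8, 4, 8],
  [1, 2, 3, 2, 4, 3, 2, 5, 4, 9, 8],
  [1, 2, 3, 2, 4, 3, 5, 4, 6, 8],
  [1, 2, 3, 2, 4, 3, 8, 4, 5, 9],
  [1, 2, 3, 2, 4, 3, 2, 1, 0, 5, 9],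
  [1, 0, 2, 3, 2, 4, 3, 2, 1, 8, 9],
  [1, 0, 2, 1, 3, 2, 1, 0, 4, 8, 8],
  [1, 0, 2, 1, 3, 2, 1, 0, 4, 5, 9],
  [1, 0, 2, 3, 2, 1, 0, 4, 3, 2, 1, 0],
  [1, 0, 2, 3, 2, 1, 0, 4, 3, 2, 1, 5],
  [1, 0, 2, 3, 2, 1, 0, 4, 3, 2, 5, 4],
  [1, 0, 2, 3, 2, 1, 0, 4, 3, 2, 5, 5],
  [1, 0, 2, 3, 2, 1, 0, 4, 3, 5, 4, 3],
  [1, 0, 2, 3, 2, 1, 0, 4, 3, 5, 4, 5],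
  [1, 0, 2, 3, 2, 1, 0, 4, 3, 5, 4, 6],
  [1, 0, 2, 3, 2, 1, 0, 4, 3, 8, 9],
  [1, 0, 2, 3, 2, 1, 0, 4, 3, 2, 1, 8],
  [1, 0, 2, 3, 2, 1, 0, 4, 3, 2, 8, 4],
  [1, 0, 2, 3, 2, 1, 0, 4, 3, 2, 8, 8],
  [1, 0, 2, 3, 2, 1, 0, 4, 3, 5, 4, 9],
  [1, 0, 2, 3, 2, 1, 0, 4, 3, 8, 4, 5],
  [1, 0, 2, 3, 2, 1, 0, 4, 3, 2, 5, 9],
  [1, 0, 2, 3, 2, 1, 4, 3, 2, 1, 0, 5],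
  [1, 0, 2, 3, 2, 1, 4, 3, 2, 1, 5, 4],
  [1, 0, 2, 3, 2, 1, 4, 3, 2, 1, 5, 5],
  [1, 0, 2, 3, 2, 1, 4, 3, 2, 5, 4, 3],
  [1, 0, 2, 3, 2, 1, 4, 3, 2, 5, 4, 5],
  [1, 0, 2, 3, 2, 1, 4, 3, 2, 5, 4, 6],
  [1, 0, 2, 3, 2, 1, 4, 3, 2, 8, 9],
  [1, 0, 2, 3, 2, 1, 4, 3, 2, 8, 4, 6],
  [1, 2, 3, 2, 1, 4, 3, 5, 4, 8, 8],
  [1, 0, 2, 3, 2, 1, 4, 3, 5, 4, 3, 8],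
  [1, 0, 2, 3, 2, 1, 4, 3, 5, 4, 5, 4],
  [1, 2, 3, 2, 1, 4, 3, 8, 4, 8, 6],
  [1, 2, 3, 2, 1, 4, 3, 8, 4, 9, 5],
  [1, 0, 2, 3, 2, 1, 4, 3, 2, 1, 0, 8],
  [1, 0, 2, 3, 2, 1, 4, 3, 2, 1, 8, 4],
  [1, 0, 2, 3, 2, 1, 4, 3, 2, 1, 8, 8],
  [1, 0, 2, 3, 2, 1, 4, 3, 2, 8, 4, 3],
  [1, 0, 2, 3, 2, 1, 4, 3, 2, 8, 4, 5],
  [1, 0, 2, 3, 2, 1, 4, 3, 2, 5, 4, 9],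
  [1, 2, 3, 2, 1, 4, 3, 8, 4, 8],
  [1, 0, 2, 3, 2, 1, 4, 3, 5, 4, 9, 8],
  [1, 2, 3, 2, 1, 4, 3, 5, 4, 5, 9],
  [1, 2, 3, 2, 1, 4, 3, 5, 4, 8]]

/-- words -/
def WL4 : List (List ℕ) := [
  [1, 0, 2, 3, 2, 1, 4, 3, 2, 1, 5, 9],
  [1, 0, 2, 3, 2, 1, 0, 4, 3, 2, 8, 9],
  [1, 0, 2, 3, 2, 4, 3, 2, 1, 0, 5, 4],
  [1, 0, 2, 3, 2, 4, 3, 2, 1, 0, 5, 5],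
  [1, 0, 2, 3, 2, 4, 3, 2, 1, 5, 4, 3],
  [1, 0, 2, 3, 2, 4, 3, 2, 1, 5, 4, 5],
  [1, 0, 2, 3, 2, 4, 3, 2, 1, 5, 4, 6],
  [1, 0, 2, 3, 2, 4, 3, 2, 5, 4, 3, 2],
  [1, 0, 2, 3, 2, 4, 3, 2, 5, 4, 3, 5],
  [1, 0, 2, 3, 2, 4, 3, 2, 5, 4, 3, 6],
  [1, 0, 2, 3, 2, 4, 3, 2, 5, 4, 3, 8],
  [1, 0, 2, 3, 2, 4, 3, 2, 5, 4, 5, 4],
  [1, 2, 3, 2, 4, 3, 2, 8, 4, 8, 6],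
  [1, 2, 3, 2, 4, 3, 2, 8, 4, 9, 5],
  [1, 0, 2, 3, 2, 4, 3, 2, 1, 8, 4, 6],
  [1, 0, 2, 3, 2, 4, 3, 2, 8, 4, 3, 6],
  [1, 2, 3, 2, 4, 3, 2, 5, 4, 8, 8],
  [1, 0, 2, 3, 2, 4, 3, 2, 8, 4, 6, 8],
  [1, 0, 2, 3, 2, 4, 3, 2, 1, 0, 8, 4],
  [1, 0, 2, 3, 2, 4, 3, 2, 1, 0, 8, 8],
  [1, 0, 2, 3, 2, 4, 3, 2, 1, 8, 4, 5],
  [1, 0, 2, 3, 2, 4, 3, 2, 8, 4, 3, 2],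
  [1, 0, 2, 3, 2, 4, 3, 2, 8, 4, 3, 8],
  [1, 2, 3, 2, 4, 3, 2, 5, 4, 5, 9],
  [1, 2, 3, 2, 4, 3, 2, 5, 4, 8],
  [1, 0, 2, 3, 2, 4, 3, 2, 1, 5, 4, 9],
  [1, 0, 2, 3, 2, 4, 3, 2, 5, 4, 3, 9],
  [1, 2, 3, 2, 4, 3, 2, 8, 4, 8],
  [1, 0, 2, 3, 2, 4, 3, 2, 5, 4, 9, 8],
  [1, 2, 3, 2, 4, 3, 5, 4, 8, 6],
  [1, 0, 2, 3, 2, 4, 3, 2, 1, 0, 5, 9],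
  [1, 2, 3, 2, 1, 0, 4, 3, 2, 1, 0, 5],
  [1, 2, 3, 2, 1, 0, 4, 3, 2, 1, 3, 5],
  [1, 2, 3, 2, 1, 0, 4, 3, 2, 1, 3, 8],
  [1, 2, 3, 2, 1, 0, 4, 3, 2, 1, 5, 4],
  [1, 2, 3, 2, 1, 0, 4, 3, 2, 1, 5, 5],
  [1, 2, 3, 2, 1, 0, 4, 3, 2, 3, 5, 5],
  [1, 2, 3, 2, 1, 0, 4, 3, 2, 3, 8, 8],
  [1, 2, 3, 2, 1, 0, 4, 3, 2, 5, 4, 5],
  [1, 2, 3, 2, 1, 0, 4, 3, 2, 5, 4, 6],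
  [1, 2, 3, 2, 1, 0, 4, 3, 2, 8, 9],
  [1, 2, 3, 2, 1, 0, 4, 3, 2, 8, 4, 6],
  [1, 2, 3, 2, 1, 0, 4, 3, 5, 4, 3, 5],
  [1, 2, 3, 2, 1, 0, 4, 3, 8, 4, 9],
  [1, 2, 3, 2, 1, 0, 4, 3, 5, 4, 3, 8],
  [1, 2, 3, 2, 1, 0, 4, 3, 5, 4, 5, 4],
  [1, 2, 3, 2, 1, 0, 4, 3, 5, 4, 5, 5],
  [1, 2, 3, 2, 1, 0, 4, 3, 5, 4, 5, 6],
  [1, 0, 2, 3, 2, 1, 0, 4, 3, 8, 4, 9],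
  [1, 2, 3, 2, 1, 0, 4, 3, 2, 1, 0, 8],
  [1, 2, 3, 2, 1, 0, 4, 3, 2, 1, 8, 4],
  [1, 2, 3, 2, 1, 0, 4, 3, 2, 1, 8, 8],
  [1, 2, 3, 2, 1, 0, 4, 3, 2, 8, 4, 5],
  [1, 2, 3, 2, 1, 0, 4, 3, 2, 5, 4, 9],
  [1, 0, 2, 3, 2, 1, 0, 4, 3, 8, 4, 8],
  [1, 2, 3, 2, 1, 0, 4, 3, 5, 4, 9, 8],
  [1, 2, 3, 2, 1, 0, 4, 3, 8, 4, 5, 5],
  [1, 0, 2, 3, 2, 1, 0, 4, 3, 5, 4, 8],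
  [1, 2, 3, 2, 1, 0, 4, 3, 2, 1, 5, 9],
  [1, 2, 3, 2, 1, 0, 4, 3, 2, 3, 8, 9],
  [1, 2, 3, 2, 1, 4, 3, 2, 1, 0, 3, 5],
  [1, 2, 3, 2, 1, 4, 3, 2, 1, 0, 3, 8],
  [1, 2, 3, 2, 1, 4, 3, 2, 1, 0, 5, 4],
  [1, 2, 3, 2, 1, 4, 3, 2, 1, 0, 5, 5],
  [1, 2, 3, 2, 1, 4, 3, 2, 1, 3, 2, 5],
  [1, 2, 3, 2, 1, 4, 3, 2, 1, 3, 5, 5],
  [1, 2, 3, 2, 1, 4, 3, 2, 1, 3, 2, 8],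
  [1, 2, 3, 2, 1, 4, 3, 2, 1, 3, 8, 8],
  [1, 2, 3, 2, 1, 4, 3, 2, 1, 5, 4, 5],
  [1, 2, 3, 2, 1, 4, 3, 2, 1, 5, 4, 6],
  [1, 2, 3, 2, 1, 4, 3, 2, 1, 8, 9],
  [1, 2, 3, 2, 1, 4, 3, 2, 3, 5, 9],
  [1, 2, 3, 2, 1, 4, 3, 2, 5, 4, 8],
  [1, 2, 3, 2, 1, 4, 3, 2, 5, 4, 5, 4],
  [1, 2, 3, 2, 1, 4, 3, 2, 5, 4, 5, 5],
  [1, 2, 3, 2, 1, 4, 3, 2, 5, 4, 5, 6],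
  [1, 0, 2, 3, 2, 1, 4, 3, 2, 8, 4, 9],
  [1, 2, 3, 2, 1, 4, 3, 2, 8, 4, 9],
  [1, 2, 3, 2, 1, 4, 3, 2, 1, 8, 4, 6],
  [1, 2, 3, 2, 1, 4, 3, 2, 8, 4, 6, 5],
  [1, 2, 3, 2, 1, 4, 3, 8, 4, 8, 9],
  [1, 2, 3, 2, 1, 4, 3, 8, 4, 8, 4],
  [1, 2, 3, 2, 1, 4, 3, 2, 8, 4, 6, 8],
  [1, 0, 2, 3, 2, 1, 4, 3, 5, 4, 6, 8],
  [1, 0, 2, 3, 2, 1, 4, 3, 8, 4, 8, 9],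
  [1, 0, 2, 3, 2, 1, 4, 3, 8, 4, 8, 4],
  [1, 2, 3, 2, 1, 4, 3, 2, 1, 0, 8, 4],
  [1, 2, 3, 2, 1, 4, 3, 2, 1, 0, 8, 8],
  [1, 2, 3, 2, 1, 4, 3, 2, 1, 8, 4, 5],
  [1, 2, 3, 2, 1, 0, 4, 3, 2, 8, 4, 8],
  [1, 2, 3, 2, 1, 4, 3, 2, 8, 4, 5, 5],
  [1, 0, 2, 3, 2, 1, 4, 3, 2, 5, 4, 8],
  [1, 2, 3, 2, 1, 4, 3, 2, 1, 5, 4, 9],
  [1, 0, 2, 3, 2, 1, 4, 3, 2, 8, 4, 8],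
  [1, 2, 3, 2, 1, 4, 3, 2, 5, 4, 9, 8],
  [1, 2, 3, 2, 1, 4, 3, 5, 4, 6, 8],
  [1, 2, 3, 2, 1, 4, 3, 8, 4, 5, 9],
  [1, 2, 3, 2, 1, 4, 3, 2, 1, 0, 5, 9],
  [1, 2, 3, 2, 1, 4, 3, 2, 1, 3, 8, 9],
  [1, 2, 3, 2, 4, 3, 2, 1, 0, 5, 4, 6],
  [1, 2, 3, 2, 4, 3, 2, 1, 0, 8, 9],
  [1, 0, 2, 3, 2, 4, 3, 2, 8, 4, 8, 9],
  [1, 2, 3, 2, 4, 3, 2, 1, 5, 4, 5, 4]]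

/-- words -/
def WL5 : List (List ℕ) := [
  [1, 2, 3, 2, 4, 3, 2, 1, 5, 4, 5, 6],
  [1, 0, 2, 3, 2, 4, 3, 2, 1, 8, 4, 9],
  [1, 2, 3, 2, 4, 3, 2, 1, 8, 4, 9],
  [1, 2, 3, 2, 4, 3, 2, 5, 4, 3, 2, 3],
  [1, 2, 3, 2, 4, 3, 2, 5, 4, 3, 2, 5],
  [1, 2, 3, 2, 4, 3, 2, 5, 4, 3, 2, 6],
  [1, 2, 3, 2, 4, 3, 2, 1, 8, 4, 9, 5],
  [1, 2, 3, 2, 4, 3, 2, 1, 5, 4, 6, 8],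
  [1, 2, 3, 2, 4, 3, 2, 1, 5, 4, 8, 6],
  [1, 2, 3, 2, 4, 3, 2, 5, 4, 5, 4, 3],
  [1, 0, 2, 3, 2, 4, 3, 2, 8, 4, 8, 4],
  [1, 0, 2, 3, 2, 4, 3, 2, 8, 4, 3, 9],
  [1, 2, 3, 2, 4, 3, 2, 8, 4, 3, 9],
  [1, 2, 3, 2, 4, 3, 2, 1, 0, 8, 4, 6],
  [1, 2, 3, 2, 4, 3, 2, 1, 8, 4, 3, 6],
  [1, 2, 3, 2, 4, 3, 2, 1, 8, 4, 6, 5],
  [1, 2, 3, 2, 4, 3, 2, 8, 4, 3, 2, 6],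
  [1, 2, 3, 2, 4, 3, 2, 1, 0, 5, 4, 8],
  [1, 2, 3, 2, 4, 3, 2, 8, 4, 3, 6, 8],
  [1, 2, 3, 2, 4, 3, 2, 8, 4, 8, 9],
  [1, 2, 3, 2, 4, 3, 2, 8, 4, 8, 4],
  [1, 2, 3, 2, 4, 3, 2, 1, 8, 4, 6, 8],
  [1, 0, 2, 3, 2, 4, 3, 2, 5, 4, 6, 8],
  [1, 2, 3, 2, 4, 3, 2, 1, 0, 8, 4, 3],
  [1, 2, 3, 2, 4, 3, 2, 1, 0, 8, 4, 5],
  [1, 2, 3, 2, 4, 3, 2, 1, 8, 4, 3, 2],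
  [1, 2, 3, 2, 4, 3, 2, 1, 8, 4, 3, 5],
  [1, 2, 3, 2, 4, 3, 2, 1, 8, 4, 3, 8],
  [1, 2, 3, 2, 4, 3, 2, 1, 8, 4, 5, 5],
  [1, 0, 2, 3, 2, 4, 3, 2, 1, 5, 4, 8],
  [1, 2, 3, 2, 4, 3, 2, 8, 4, 3, 2, 1],
  [1, 2, 3, 2, 4, 3, 2, 8, 4, 3, 2, 3],
  [1, 2, 3, 2, 4, 3, 2, 8, 4, 3, 2, 5],
  [1, 2, 3, 2, 4, 3, 2, 8, 4, 3, 2, 8],
  [1, 2, 3, 2, 4, 3, 2, 8, 4, 3, 8, 4],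
  [1, 2, 3, 2, 4, 3, 2, 8, 4, 3, 8, 8],
  [1, 2, 3, 2, 4, 3, 2, 5, 4, 6, 8],
  [1, 2, 3, 2, 4, 3, 2, 8, 4, 5, 9],
  [1, 2, 3, 2, 4, 3, 2, 5, 4, 3, 2, 9],
  [1, 0, 2, 3, 2, 4, 3, 2, 1, 0, 8, 9],
  [1, 0, 2, 3, 2, 1, 4, 3, 2, 1, 8, 9],
  [1, 0, 2, 3, 2, 1, 0, 4, 3, 2, 1, 0, 5],
  [1, 0, 2, 3, 2, 1, 0, 4, 3, 2, 1, 5, 4],
  [1, 0, 2, 3, 2, 1, 0, 4, 3, 2, 1, 5, 5],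
  [1, 0, 2, 3, 2, 1, 0, 4, 3, 2, 5, 4, 6],
  [1, 0, 2, 3, 2, 1, 0, 4, 3, 2, 8, 4, 6],
  [1, 2, 3, 2, 1, 0, 4, 3, 5, 4, 8, 8],
  [1, 0, 2, 3, 2, 1, 0, 4, 3, 5, 4, 3, 8],
  [1, 0, 2, 3, 2, 1, 0, 4, 3, 5, 4, 5, 4],
  [1, 2, 3, 2, 1, 0, 4, 3, 8, 4, 8, 6],
  [1, 2, 3, 2, 1, 0, 4, 3, 8, 4, 9, 5],
  [1, 0, 2, 3, 2, 1, 0, 4, 3, 2, 1, 0, 8],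
  [1, 0, 2, 3, 2, 1, 0, 4, 3, 2, 1, 8, 4],
  [1, 0, 2, 3, 2, 1, 0, 4, 3, 2, 1, 8, 8],
  [1, 0, 2, 3, 2, 1, 0, 4, 3, 2, 8, 4, 3],
  [1, 0, 2, 3, 2, 1, 0, 4, 3, 2, 8, 4, 5],
  [1, 0, 2, 3, 2, 1, 0, 4, 3, 2, 5, 4, 9],
  [1, 2, 3, 2, 1, 0, 4, 3, 8, 4, 8],
  [1, 0, 2, 3, 2, 1, 0, 4, 3, 5, 4, 9, 8],
  [1, 2, 3, 2, 1, 0, 4, 3, 5, 4, 5, 9],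
  [1, 2, 3, 2, 1, 0, 4, 3, 5, 4, 8],
  [1, 0, 2, 3, 2, 1, 0, 4, 3, 2, 1, 5, 9],
  [1, 0, 2, 3, 2, 1, 4, 3, 2, 1, 0, 5, 4],
  [1, 0, 2, 3, 2, 1, 4, 3, 2, 1, 0, 5, 5],
  [1, 0, 2, 3, 2, 1, 4, 3, 2, 1, 5, 4, 3],
  [1, 0, 2, 3, 2, 1, 4, 3, 2, 1, 5, 4, 5],
  [1, 0, 2, 3, 2, 1, 4, 3, 2, 1, 5, 4, 6],
  [1, 0, 2, 3, 2, 1, 4, 3, 2, 5, 4, 3, 5],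
  [1, 0, 2, 3, 2, 1, 4, 3, 2, 5, 4, 3, 6],
  [1, 2, 3, 2, 1, 4, 3, 2, 8, 4, 8, 6],
  [1, 2, 3, 2, 1, 4, 3, 2, 8, 4, 9, 5],
  [1, 0, 2, 3, 2, 1, 4, 3, 2, 1, 8, 4, 6],
  [1, 0, 2, 3, 2, 1, 4, 3, 2, 8, 4, 3, 6],
  [1, 2, 3, 2, 1, 4, 3, 2, 5, 4, 8, 8],
  [1, 0, 2, 3, 2, 1, 4, 3, 2, 1, 0, 8, 4],
  [1, 0, 2, 3, 2, 1, 4, 3, 2, 1, 0, 8, 8],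
  [1, 0, 2, 3, 2, 1, 4, 3, 2, 1, 8, 4, 3],
  [1, 0, 2, 3, 2, 1, 4, 3, 2, 1, 8, 4, 5],
  [1, 2, 3, 2, 1, 4, 3, 2, 5, 4, 5, 9],
  [1, 0, 2, 3, 2, 1, 4, 3, 2, 1, 5, 4, 9],
  [1, 0, 2, 3, 2, 1, 4, 3, 2, 5, 4, 3, 9],
  [1, 2, 3, 2, 1, 4, 3, 2, 8, 4, 8],
  [1, 0, 2, 3, 2, 1, 4, 3, 2, 5, 4, 9, 8],
  [1, 2, 3, 2, 1, 4, 3, 5, 4, 8, 6],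
  [1, 0, 2, 3, 2, 1, 4, 3, 2, 1, 0, 5, 9],
  [1, 0, 2, 3, 2, 1, 0, 4, 3, 2, 1, 8, 9],
  [1, 0, 2, 3, 2, 1, 0, 4, 3, 2, 8, 4, 9],
  [1, 2, 3, 2, 4, 3, 2, 1, 8, 4, 8, 6],
  [1, 0, 2, 3, 2, 4, 3, 2, 1, 0, 5, 4, 6],
  [1, 0, 2, 3, 2, 4, 3, 2, 1, 5, 4, 3, 2],
  [1, 0, 2, 3, 2, 4, 3, 2, 1, 5, 4, 3, 5],
  [1, 0, 2, 3, 2, 4, 3, 2, 1, 5, 4, 3, 6],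
  [1, 0, 2, 3, 2, 4, 3, 2, 5, 4, 3, 2, 1],
  [1, 0, 2, 3, 2, 4, 3, 2, 5, 4, 3, 2, 5],
  [1, 0, 2, 3, 2, 4, 3, 2, 5, 4, 3, 2, 6],
  [1, 0, 2, 3, 2, 4, 3, 2, 5, 4, 3, 5, 4],
  [1, 2, 3, 2, 4, 3, 2, 8, 4, 3, 8, 9],
  [1, 0, 2, 3, 2, 4, 3, 2, 5, 4, 3, 6, 5],
  [1, 0, 2, 3, 2, 4, 3, 2, 5, 4, 3, 2, 8],
  [1, 2, 3, 2, 4, 3, 2, 8, 4, 3, 9, 8],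
  [1, 2, 3, 2, 4, 3, 2, 1, 5, 4, 8],
  [1, 2, 3, 2, 4, 3, 2, 1, 5, 4, 5, 9],
  [1, 2, 3, 2, 4, 3, 2, 5, 4, 8, 6]]

/-- words -/
def WL6 : List (List ℕ) := [
  [1, 2, 3, 2, 4, 3, 2, 1, 0, 8, 4, 8],
  [1, 2, 3, 2, 4, 3, 2, 1, 8, 4, 8],
  [1, 2, 3, 2, 1, 0, 4, 3, 2, 1, 0, 5, 4],
  [1, 2, 3, 2, 1, 0, 4, 3, 2, 1, 0, 5, 5],
  [1, 2, 3, 2, 1, 0, 4, 3, 2, 1, 3, 5, 5],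
  [1, 2, 3, 2, 1, 0, 4, 3, 2, 1, 3, 8, 8],
  [1, 2, 3, 2, 1, 0, 4, 3, 2, 1, 5, 4, 5],
  [1, 2, 3, 2, 1, 0, 4, 3, 2, 1, 5, 4, 6],
  [1, 2, 3, 2, 1, 0, 4, 3, 2, 1, 8, 9],
  [1, 2, 3, 2, 1, 0, 4, 3, 2, 3, 5, 9],
  [1, 2, 3, 2, 1, 0, 4, 3, 2, 5, 4, 8],
  [1, 2, 3, 2, 1, 0, 4, 3, 2, 5, 4, 5, 4],
  [1, 2, 3, 2, 1, 0, 4, 3, 2, 5, 4, 5, 5],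
  [1, 2, 3, 2, 1, 0, 4, 3, 2, 5, 4, 5, 6],
  [1, 2, 3, 2, 1, 0, 4, 3, 2, 8, 4, 9],
  [1, 2, 3, 2, 1, 0, 4, 3, 2, 1, 8, 4, 6],
  [1, 2, 3, 2, 1, 0, 4, 3, 2, 8, 4, 6, 5],
  [1, 2, 3, 2, 1, 0, 4, 3, 8, 4, 8, 9],
  [1, 2, 3, 2, 1, 0, 4, 3, 8, 4, 8, 4],
  [1, 2, 3, 2, 1, 0, 4, 3, 2, 8, 4, 6, 8],
  [1, 0, 2, 3, 2, 1, 0, 4, 3, 5, 4, 6, 8],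
  [1, 0, 2, 3, 2, 1, 0, 4, 3, 8, 4, 8, 9],
  [1, 0, 2, 3, 2, 1, 0, 4, 3, 8, 4, 8, 4],
  [1, 2, 3, 2, 1, 0, 4, 3, 2, 1, 0, 8, 4],
  [1, 2, 3, 2, 1, 0, 4, 3, 2, 1, 0, 8, 8],
  [1, 2, 3, 2, 1, 0, 4, 3, 2, 1, 8, 4, 5],
  [1, 0, 2, 3, 2, 1, 0, 4, 3, 2, 5, 4, 8],
  [1, 2, 3, 2, 1, 0, 4, 3, 2, 1, 5, 4, 9],
  [1, 0, 2, 3, 2, 1, 0, 4, 3, 2, 8, 4, 8],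
  [1, 2, 3, 2, 1, 0, 4, 3, 2, 5, 4, 9, 8],
  [1, 2, 3, 2, 1, 0, 4, 3, 5, 4, 6, 8],
  [1, 2, 3, 2, 1, 0, 4, 3, 8, 4, 5, 9],
  [1, 2, 3, 2, 1, 0, 4, 3, 2, 1, 0, 5, 9],
  [1, 2, 3, 2, 1, 0, 4, 3, 2, 1, 3, 8, 9],
  [1, 2, 3, 2, 1, 4, 3, 2, 1, 0, 3, 5, 5],
  [1, 2, 3, 2, 1, 4, 3, 2, 1, 0, 3, 8, 8],
  [1, 2, 3, 2, 1, 4, 3, 2, 1, 0, 5, 4, 6],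
  [1, 2, 3, 2, 1, 4, 3, 2, 1, 0, 8, 9],
  [1, 2, 3, 2, 1, 4, 3, 2, 1, 3, 2, 5, 5],
  [1, 2, 3, 2, 1, 4, 3, 2, 1, 3, 5, 9],
  [1, 2, 3, 2, 1, 4, 3, 2, 1, 3, 2, 8, 8],
  [1, 2, 3, 2, 1, 4, 3, 2, 1, 5, 4, 8],
  [1, 2, 3, 2, 1, 4, 3, 2, 1, 5, 4, 5, 4],
  [1, 2, 3, 2, 1, 4, 3, 2, 1, 5, 4, 5, 6],
  [1, 0, 2, 3, 2, 1, 4, 3, 2, 1, 8, 4, 9],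
  [1, 2, 3, 2, 1, 4, 3, 2, 1, 8, 4, 9],
  [1, 2, 3, 2, 1, 4, 3, 2, 5, 4, 8, 6],
  [1, 2, 3, 2, 1, 4, 3, 2, 5, 4, 5, 4, 3],
  [1, 0, 2, 3, 2, 1, 4, 3, 2, 8, 4, 8, 9],
  [1, 0, 2, 3, 2, 1, 4, 3, 2, 8, 4, 8, 4],
  [1, 2, 3, 2, 1, 4, 3, 2, 5, 4, 6, 8],
  [1, 2, 3, 2, 1, 4, 3, 2, 1, 0, 8, 4, 6],
  [1, 2, 3, 2, 1, 4, 3, 2, 1, 8, 4, 6, 5],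
  [1, 2, 3, 2, 1, 4, 3, 2, 8, 4, 8, 9],
  [1, 2, 3, 2, 1, 4, 3, 2, 8, 4, 8, 4],
  [1, 2, 3, 2, 1, 4, 3, 2, 1, 8, 4, 6, 8],
  [1, 0, 2, 3, 2, 1, 4, 3, 2, 5, 4, 6, 8],
  [1, 2, 3, 2, 1, 4, 3, 2, 1, 0, 8, 4, 5],
  [1, 2, 3, 2, 1, 0, 4, 3, 2, 1, 8, 4, 8],
  [1, 2, 3, 2, 1, 4, 3, 2, 1, 8, 4, 5, 5],
  [1, 0, 2, 3, 2, 1, 4, 3, 2, 1, 5, 4, 8],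
  [1, 2, 3, 2, 1, 0, 4, 3, 2, 8, 4, 8, 4],
  [1, 2, 3, 2, 1, 4, 3, 2, 8, 4, 5, 9],
  [1, 2, 3, 2, 1, 4, 3, 2, 1, 0, 3, 8, 9],
  [1, 2, 3, 2, 1, 4, 3, 2, 1, 3, 2, 8, 9],
  [1, 2, 3, 2, 4, 3, 2, 8, 4, 8, 4, 3],
  [1, 2, 3, 2, 4, 3, 2, 1, 0, 8, 4, 9],
  [1, 2, 3, 2, 4, 3, 2, 1, 8, 4, 3, 9],
  [1, 0, 2, 3, 2, 4, 3, 2, 8, 4, 3, 2, 9],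
  [1, 2, 3, 2, 1, 4, 3, 2, 1, 8, 4, 9, 5],
  [1, 2, 3, 2, 1, 4, 3, 2, 1, 5, 4, 6, 8],
  [1, 2, 3, 2, 1, 4, 3, 2, 1, 5, 4, 8, 6],
  [1, 2, 3, 2, 4, 3, 2, 1, 8, 4, 8, 4],
  [1, 2, 3, 2, 4, 3, 2, 1, 8, 4, 5, 9],
  [1, 2, 3, 2, 4, 3, 2, 5, 4, 5, 4, 3, 2],
  [1, 2, 3, 2, 4, 3, 2, 8, 4, 3, 2, 9],
  [1, 2, 3, 2, 4, 3, 2, 1, 8, 4, 3, 2, 6],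
  [1, 0, 2, 3, 2, 4, 3, 2, 1, 0, 5, 4, 8],
  [1, 2, 3, 2, 4, 3, 2, 1, 8, 4, 8, 9],
  [1, 2, 3, 2, 4, 3, 2, 8, 4, 3, 2, 1, 6],
  [1, 2, 3, 2, 1, 4, 3, 2, 1, 0, 5, 4, 8],
  [1, 2, 3, 2, 4, 3, 2, 8, 4, 3, 2, 6, 8],
  [1, 0, 2, 3, 2, 4, 3, 2, 1, 5, 4, 6, 8],
  [1, 2, 3, 2, 4, 3, 2, 1, 0, 8, 4, 3, 2],
  [1, 2, 3, 2, 4, 3, 2, 1, 0, 8, 4, 5, 5],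
  [1, 2, 3, 2, 4, 3, 2, 1, 8, 4, 3, 2, 1],
  [1, 2, 3, 2, 4, 3, 2, 1, 8, 4, 3, 2, 3],
  [1, 2, 3, 2, 4, 3, 2, 1, 8, 4, 3, 2, 5],
  [1, 2, 3, 2, 4, 3, 2, 1, 8, 4, 3, 2, 8],
  [1, 2, 3, 2, 4, 3, 2, 8, 4, 3, 2, 1, 0],
  [1, 2, 3, 2, 4, 3, 2, 8, 4, 3, 2, 1, 3],
  [1, 2, 3, 2, 4, 3, 2, 8, 4, 3, 2, 1, 5],
  [1, 2, 3, 2, 4, 3, 2, 8, 4, 3, 2, 1, 8],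
  [1, 2, 3, 2, 4, 3, 2, 8, 4, 3, 2, 8, 4],
  [1, 2, 3, 2, 4, 3, 2, 8, 4, 3, 2, 8, 8],
  [1, 2, 3, 2, 4, 3, 2, 1, 8, 4, 3, 8, 9],
  [1, 0, 2, 3, 2, 1, 4, 3, 2, 1, 0, 8, 9],
  [1, 0, 2, 3, 2, 1, 0, 4, 3, 2, 1, 0, 5, 4],
  [1, 0, 2, 3, 2, 1, 0, 4, 3, 2, 1, 0, 5, 5],
  [1, 0, 2, 3, 2, 1, 0, 4, 3, 2, 1, 5, 4, 6],
  [1, 0, 2, 3, 2, 1, 0, 4, 3, 2, 1, 8, 4, 6],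
  [1, 0, 2, 3, 2, 1, 0, 4, 3, 2, 8, 4, 3, 6],
  [1, 2, 3, 2, 1, 0, 4, 3, 2, 5, 4, 8, 8]]

/-- words -/
def WL7 : List (List ℕ) := [
  [1, 0, 2, 3, 2, 1, 0, 4, 3, 2, 1, 0, 8, 4],
  [1, 0, 2, 3, 2, 1, 0, 4, 3, 2, 1, 0, 8, 8],
  [1, 0, 2, 3, 2, 1, 0, 4, 3, 2, 1, 8, 4, 3],
  [1, 0, 2, 3, 2, 1, 0, 4, 3, 2, 1, 8, 4, 5],
  [1, 2, 3, 2, 1, 0, 4, 3, 2, 5, 4, 5, 9],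
  [1, 0, 2, 3, 2, 1, 0, 4, 3, 2, 1, 5, 4, 9],
  [1, 2, 3, 2, 1, 0, 4, 3, 5, 4, 8, 6],
  [1, 0, 2, 3, 2, 1, 0, 4, 3, 2, 1, 0, 5, 9],
  [1, 0, 2, 3, 2, 1, 4, 3, 2, 1, 0, 5, 4, 3],
  [1, 0, 2, 3, 2, 1, 4, 3, 2, 1, 0, 5, 4, 6],
  [1, 0, 2, 3, 2, 1, 4, 3, 2, 1, 5, 4, 3, 5],
  [1, 0, 2, 3, 2, 1, 4, 3, 2, 1, 5, 4, 3, 6],
  [1, 2, 3, 2, 1, 4, 3, 2, 1, 8, 4, 8, 6],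
  [1, 2, 3, 2, 1, 0, 4, 3, 2, 8, 4, 8, 9],
  [1, 2, 3, 2, 1, 4, 3, 2, 1, 5, 4, 5, 9],
  [1, 0, 2, 3, 2, 1, 4, 3, 2, 1, 5, 4, 3, 9],
  [1, 2, 3, 2, 1, 4, 3, 2, 1, 8, 4, 8],
  [1, 2, 3, 2, 1, 0, 4, 3, 2, 5, 4, 6, 8],
  [1, 0, 2, 3, 2, 1, 0, 4, 3, 2, 1, 0, 8, 9],
  [1, 0, 2, 3, 2, 1, 0, 4, 3, 2, 1, 8, 4, 9],
  [1, 0, 2, 3, 2, 4, 3, 2, 1, 5, 4, 3, 2, 1],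
  [1, 0, 2, 3, 2, 4, 3, 2, 1, 5, 4, 3, 2, 3],
  [1, 0, 2, 3, 2, 4, 3, 2, 1, 5, 4, 3, 2, 5],
  [1, 0, 2, 3, 2, 4, 3, 2, 1, 5, 4, 3, 2, 6],
  [1, 2, 3, 2, 4, 3, 2, 1, 0, 8, 4, 5, 9],
  [1, 0, 2, 3, 2, 4, 3, 2, 5, 4, 3, 2, 1, 0],
  [1, 0, 2, 3, 2, 4, 3, 2, 5, 4, 3, 2, 1, 5],
  [1, 0, 2, 3, 2, 4, 3, 2, 5, 4, 3, 2, 1, 6],
  [1, 0, 2, 3, 2, 4, 3, 2, 5, 4, 3, 2, 5, 4],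
  [1, 2, 3, 2, 4, 3, 2, 8, 4, 3, 2, 8, 9],
  [1, 0, 2, 3, 2, 4, 3, 2, 5, 4, 3, 2, 6, 5],
  [1, 0, 2, 3, 2, 4, 3, 2, 5, 4, 3, 2, 1, 8],
  [1, 2, 3, 2, 4, 3, 2, 8, 4, 3, 2, 9, 8],
  [1, 2, 3, 2, 1, 4, 3, 2, 1, 0, 8, 4, 8],
  [1, 2, 3, 2, 1, 0, 4, 3, 2, 1, 0, 5, 4, 6],
  [1, 2, 3, 2, 1, 0, 4, 3, 2, 1, 0, 8, 9],
  [1, 2, 3, 2, 1, 0, 4, 3, 2, 1, 3, 5, 9],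
  [1, 2, 3, 2, 1, 0, 4, 3, 2, 1, 5, 4, 8],
  [1, 2, 3, 2, 1, 0, 4, 3, 2, 1, 5, 4, 5, 4],
  [1, 2, 3, 2, 1, 0, 4, 3, 2, 1, 5, 4, 5, 6],
  [1, 2, 3, 2, 1, 0, 4, 3, 2, 1, 8, 4, 9],
  [1, 2, 3, 2, 1, 0, 4, 3, 2, 5, 4, 8, 6],
  [1, 0, 2, 3, 2, 1, 0, 4, 3, 2, 8, 4, 8, 9],
  [1, 0, 2, 3, 2, 1, 0, 4, 3, 2, 8, 4, 8, 4],
  [1, 2, 3, 2, 1, 0, 4, 3, 2, 1, 0, 8, 4, 6],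
  [1, 2, 3, 2, 1, 0, 4, 3, 2, 1, 8, 4, 6, 5],
  [1, 2, 3, 2, 1, 0, 4, 3, 2, 1, 8, 4, 6, 8],
  [1, 2, 3, 2, 1, 4, 3, 2, 8, 4, 8, 4, 3],
  [1, 2, 3, 2, 1, 0, 4, 3, 2, 1, 0, 8, 4, 5],
  [1, 0, 2, 3, 2, 1, 0, 4, 3, 2, 1, 5, 4, 8],
  [1, 2, 3, 2, 1, 0, 4, 3, 2, 8, 4, 5, 9],
  [1, 0, 2, 3, 2, 1, 0, 4, 3, 2, 1, 8, 4, 8],
  [1, 2, 3, 2, 1, 4, 3, 2, 1, 0, 3, 5, 9],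
  [1, 2, 3, 2, 4, 3, 2, 8, 4, 8, 4, 3, 2],
  [1, 2, 3, 2, 1, 4, 3, 2, 1, 0, 8, 4, 9],
  [1, 2, 3, 2, 1, 4, 3, 2, 1, 3, 2, 5, 9],
  [1, 2, 3, 2, 1, 4, 3, 2, 1, 5, 4, 5, 4, 3],
  [1, 2, 3, 2, 1, 4, 3, 2, 1, 8, 4, 8, 9],
  [1, 2, 3, 2, 1, 4, 3, 2, 1, 8, 4, 8, 4],
  [1, 0, 2, 3, 2, 1, 4, 3, 2, 1, 5, 4, 6, 8],
  [1, 2, 3, 2, 1, 0, 4, 3, 2, 1, 0, 8, 4, 8],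
  [1, 2, 3, 2, 1, 4, 3, 2, 1, 0, 8, 4, 5, 5],
  [1, 0, 2, 3, 2, 1, 4, 3, 2, 1, 0, 5, 4, 8],
  [1, 2, 3, 2, 1, 0, 4, 3, 2, 1, 8, 4, 8, 4],
  [1, 2, 3, 2, 1, 4, 3, 2, 1, 8, 4, 5, 9],
  [1, 2, 3, 2, 4, 3, 2, 1, 8, 4, 3, 2, 9],
  [1, 2, 3, 2, 4, 3, 2, 5, 4, 5, 4, 3, 2, 1],
  [1, 2, 3, 2, 4, 3, 2, 8, 4, 3, 2, 1, 9],
  [1, 2, 3, 2, 4, 3, 2, 1, 8, 4, 3, 2, 1, 6],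
  [1, 2, 3, 2, 4, 3, 2, 1, 8, 4, 3, 2, 3, 6],
  [1, 2, 3, 2, 1, 0, 4, 3, 2, 1, 5, 4, 8, 8],
  [1, 2, 3, 2, 1, 0, 4, 3, 2, 1, 0, 5, 4, 8],
  [1, 2, 3, 2, 4, 3, 2, 8, 4, 3, 2, 1, 6, 8],
  [1, 2, 3, 2, 4, 3, 2, 1, 8, 4, 3, 2, 1, 5],
  [1, 2, 3, 2, 4, 3, 2, 1, 8, 4, 3, 2, 3, 8],
  [1, 2, 3, 2, 4, 3, 2, 8, 4, 3, 2, 1, 8, 8],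
  [1, 2, 3, 2, 4, 3, 2, 1, 8, 4, 3, 2, 8, 9],
  [1, 0, 2, 3, 2, 1, 0, 4, 3, 2, 1, 0, 5, 4, 6],
  [1, 0, 2, 3, 2, 1, 0, 4, 3, 2, 1, 8, 4, 3, 6],
  [1, 2, 3, 2, 1, 0, 4, 3, 2, 1, 5, 4, 5, 9],
  [1, 0, 2, 3, 2, 1, 4, 3, 2, 1, 0, 5, 4, 3, 6],
  [1, 2, 3, 2, 1, 0, 4, 3, 2, 1, 8, 4, 8, 9],
  [1, 2, 3, 2, 1, 0, 4, 3, 2, 1, 5, 4, 6, 8],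
  [1, 2, 3, 2, 4, 3, 2, 8, 4, 8, 4, 3, 2, 1],
  [1, 0, 2, 3, 2, 4, 3, 2, 1, 5, 4, 3, 2, 1, 6],
  [1, 0, 2, 3, 2, 4, 3, 2, 1, 5, 4, 3, 2, 3, 6],
  [1, 2, 3, 2, 1, 4, 3, 2, 1, 0, 8, 4, 5, 9],
  [1, 0, 2, 3, 2, 1, 0, 4, 3, 2, 1, 8, 4, 8, 9],
  [1, 2, 3, 2, 4, 3, 2, 8, 4, 3, 2, 1, 8, 9],
  [1, 0, 2, 3, 2, 4, 3, 2, 5, 4, 3, 2, 1, 6, 5],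
  [1, 2, 3, 2, 4, 3, 2, 8, 4, 3, 2, 1, 9, 8],
  [1, 2, 3, 2, 1, 0, 4, 3, 2, 1, 0, 8, 4, 9],
  [1, 2, 3, 2, 1, 0, 4, 3, 2, 1, 5, 4, 8, 6],
  [1, 2, 3, 2, 4, 3, 2, 8, 4, 3, 2, 1, 0, 9],
  [1, 2, 3, 2, 1, 4, 3, 2, 1, 8, 4, 8, 4, 3],
  [1, 2, 3, 2, 1, 0, 4, 3, 2, 1, 8, 4, 5, 9],
  [1, 2, 3, 2, 4, 3, 2, 1, 8, 4, 3, 2, 1, 9],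
  [1, 2, 3, 2, 4, 3, 2, 1, 8, 4, 3, 2, 3, 9]]

/-- the 819 words -/
def WL : List (List ℕ) := WL0 ++ (WL1 ++ (WL2 ++ (WL3 ++ (WL4 ++ (WL5 ++ (WL6 ++ (WL7)))))))

theorem WL_length : WL.length = 819 := by decide +kernel

end Cfsg.Agent.Lib.ThCW
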