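import Cfsg.Agent.Lib.ThC3
import Cfsg.Agent.Lib.ThCW

/-!
# The centralizer of `a` in `P` inside the Thompson group
-/

set_option autoImplicit false
set_option linter.all false
set_option maxRecDepth 100000
set_option Elab.async false

namespace Cfsg.Agent.Lib.ThC4G

open Cfsg.Spor Cfsg.Agent.Lib.BenesWord Cfsg.Agent.Lib.ThRho Cfsg.Agent.Lib.ThCW

/-- `³D₄(2):3` in the Thompson group -/
def P : Subgroup Th := Subgroup.closure {X 0, X 1, X 2, X 3, X 4, X 5, X 6}
/-- the centralizer of `a` in `P` -/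
def K : Subgroup Th := Subgroup.closure {X 0, X 2, X 3, X 4, X 5, X 6}
/-- `⟨a, c, d, e, s, t, u⟩` -/
def CC : Subgroup Th := Subgroup.closure {X 0, X 2, X 3, X 4, X 5, X 6, X 7}

theorem relP : ThP.RelP (X 0) (X 1) (X 2) (X 3) (X 4) (X 5) (X 6) := ThP.relTh

theorem relC : ThC3.RelC (X 0) (X 2) (X 3) (X 4) (X 5) (X 6) (X 7) := ThC3.relC_XT

theorem a_ne : X 0 ≠ 1 :=
  ne_one (W := Wd.g 0) (by decide) (i := 9) (j := 9) (by norm_num) (by norm_num) (by decide +kernel)

theorem card_K : Nat.card K = 774144 := ThC4.card_K (x := X) relP a_ne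

theorem card_P : Nat.card P = 634023936 := relP.card_eq a_ne

theorem mem_K : ∀ g ∈ P, g * X 0 = X 0 * g → g ∈ K := fun g hg hc => ThC4.mem_K (x := X) relP a_ne hg hc

theorem K_comm : ∀ g ∈ K, g * X 0 = X 0 * g := fun g hg => ThC4.K_comm (x := X) relP a_ne hg

theorem not_conj : ∀ p ∈ P, p⁻¹ * X 0 * p ≠ X 3 := fun p hp => ThC4.not_conj (x := X) relP a_ne hp

/-- translation of letters -/
def tr (c : ℕ) : ℕ := bif Nat.blt c 6 then c else bif Nat.beq c 6 then 8 else bif Nat.beq c 7 then 6 else 9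

theorem WL_eq : WL = ThC4.wl.map (List.map tr) := by decide +kernel

theorem lw_eq (c : ℕ) : (ThC4.lw c).eval X = XX (tr c) := by
  unfold ThC4.lw tr
  by_cases h : c < 6
  · have h1 : Nat.blt c 6 = true := by simpa [Nat.blt_eq] using h
    rw [h1]
    interval_cases c <;> rfl
  · have h1 : Nat.blt c 6 = false := by rw [← Bool.not_eq_true]; simpa [Nat.blt_eq] using h
    rw [h1]
    cases h2 : Nat.beq c 6 with
    | true => rfl
    | false =>
      cases h3 : Nat.beq c 7 with
      | true => rfl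
      | false => rfl

theorem evl_tr (w : List ℕ) : (ThC4.toWd w).eval X = evl (w.map tr) := by
  induction w with
  | nil => rfl
  | cons c w ih =>
    have e1 : evl ((c :: w).map tr) = XX (tr c) * evl (w.map tr) := by
      unfold evl; simp
    rw [e1, ← ih, ← lw_eq]; rfl

theorem atD_mem {α : Type} (d : α) : ∀ (l : List α) (j : ℕ), j < l.length → Dce.atD d l j ∈ l := by
  intro l
  induction l with
  | nil => intro j hj; simp at hj
  | cons a l ih =>
    intro j hj
    cases j with
    | zero => exact List.mem_cons_self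
    | succ j => exact List.mem_cons_of_mem _ (ih j (by simpa using hj))

theorem wl_length : ThC4.wl.length = 819 := by
  have h := (ThC4.chkW_spec ThC4.wl 0 ThC4.c_wl).1
  omega

theorem coset : ∀ g ∈ P, ∃ u ∈ WL, g * (evl u)⁻¹ ∈ K := by
  intro g hg
  obtain ⟨j, hj, k, hk, rfl⟩ := ThC4.coset_K (x := X) relP a_ne hg
  refine ⟨(Dce.atD [] ThC4.wl j).map tr, ?_, ?_⟩
  · rw [WL_eq]
    exact List.mem_map.mpr ⟨_, atD_mem _ _ _ (by rw [wl_length]; exact hj), rfl⟩
  · have e1 : (ThC4.wd j).eval X = evl ((Dce.atD [] ThC4.wl j).map tr) := evl_tr _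
    rw [e1, mul_inv_cancel_right]
    exact hk

theorem index_CC : K.relIndex CC ≠ 0 ∧ K.relIndex CC ≤ 120 := ThC3.index_le relC

theorem card_CC : Finite CC ∧ Nat.card CC ≤ 92897280 := ThC3.card_C7 relC relP a_ne

end Cfsg.Agent.Lib.ThC4G
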