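import Cfsg.Agent.Lib.ThPEnd

/-!
# Coset representatives of the point stabilizer in `³D₄(2):3`
-/

set_option autoImplicit false
set_option linter.all false
set_option maxRecDepth 100000

namespace Cfsg.Agent.Lib.ThC4

open Cfsg.Spor Cfsg.Agent.Lib.BenesWord Cfsg.Agent.Lib.Dce Cfsg.Agent.Lib.ThP ThPT

/-- Schreier words in the base letters `a b c d e s s⁻¹ t t⁻¹ = 0 … 8` -/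
def wl : List (List ℕ) := [
  [],
  [1],
  [1, 0],
  [1, 2],
  [1, 0, 2],
  [1, 2, 3],
  [1, 0, 2, 1],
  [1, 0, 2, 3],
  [1, 2, 3, 2],
  [1, 2, 3, 4],
  [1, 0, 2, 1, 3],
  [1, 0, 2, 3, 2],
  [1, 0, 2, 3, 4],
  [1, 2, 3, 2, 1],
  [1, 2, 3, 2, 4],
  [1, 2, 3, 4, 5],
  [1, 0, 2, 1, 3, 2],
  [1, 0, 2, 1, 3, 4],
  [1, 0, 2, 3, 2, 1],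
  [1, 0, 2, 3, 2, 4],
  [1, 0, 2, 3, 4, 5],
  [1, 2, 3, 2, 1, 0],
  [1, 2, 3, 2, 1, 4],
  [1, 2, 3, 2, 4, 3],
  [1, 2, 3, 2, 4, 5],
  [1, 2, 3, 4, 6],
  [1, 2, 3, 4, 5, 4],
  [1, 2, 3, 4, 5, 5],
  [1, 0, 2, 1, 3, 2, 1],
  [1, 0, 2, 1, 3, 2, 3],
  [1, 0, 2, 1, 3, 2, 4],
  [1, 0, 2, 1, 3, 4, 5],
  [1, 0, 2, 3, 2, 1, 0],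
  [1, 0, 2, 3, 2, 1, 4],
  [1, 0, 2, 3, 2, 4, 3],
  [1, 0, 2, 3, 2, 4, 5],
  [1, 0, 2, 3, 4, 6],
  [1, 0, 2, 3, 4, 5, 4],
  [1, 0, 2, 3, 4, 5, 5],
  [1, 2, 3, 2, 1, 0, 4],
  [1, 2, 3, 2, 1, 4, 3],
  [1, 2, 3, 2, 1, 4, 5],
  [1, 2, 3, 2, 4, 3, 2],
  [1, 2, 3, 2, 4, 3, 5],
  [1, 2, 3, 2, 4, 3, 6],
  [1, 2, 3, 2, 4, 5, 4],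
  [1, 2, 3, 2, 4, 5, 5],
  [1, 2, 3, 2, 4, 6],
  [1, 2, 3, 4, 6, 6],
  [1, 2, 3, 4, 5, 8],
  [1, 0, 2, 1, 3, 2, 1, 0],
  [1, 0, 2, 1, 3, 2, 1, 3],
  [1, 0, 2, 1, 3, 2, 1, 4],
  [1, 0, 2, 1, 3, 2, 4, 5],
  [1, 0, 2, 1, 3, 4, 6],
  [1, 0, 2, 1, 3, 4, 5, 4],
  [1, 0, 2, 1, 3, 4, 5, 5],
  [1, 0, 2, 3, 2, 1, 0, 4],
  [1, 0, 2, 3, 2, 1, 4, 3],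
  [1, 0, 2, 3, 2, 1, 4, 5],
  [1, 0, 2, 3, 2, 4, 3, 2],
  [1, 0, 2, 3, 2, 4, 3, 5],
  [1, 0, 2, 3, 2, 4, 3, 6],
  [1, 0, 2, 3, 2, 4, 5, 4],
  [1, 0, 2, 3, 2, 4, 5, 5],
  [1, 0, 2, 3, 2, 4, 6],
  [1, 0, 2, 3, 4, 6, 6],
  [1, 0, 2, 3, 4, 5, 8],
  [1, 2, 3, 2, 1, 0, 4, 3],
  [1, 2, 3, 2, 1, 0, 4, 5],
  [1, 2, 3, 2, 1, 4, 3, 2],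
  [1, 2, 3, 2, 1, 4, 3, 5],
  [1, 2, 3, 2, 1, 4, 3, 6],
  [1, 2, 3, 2, 1, 4, 5, 4],
  [1, 2, 3, 2, 1, 4, 5, 5],
  [1, 2, 3, 2, 4, 3, 2, 1],
  [1, 2, 3, 2, 4, 3, 2, 5],
  [1, 2, 3, 2, 4, 3, 5, 4],
  [1, 2, 3, 2, 4, 3, 5, 5],
  [1, 2, 3, 2, 4, 3, 2, 6],
  [1, 2, 3, 2, 4, 3, 6, 4],
  [1, 2, 3, 2, 4, 3, 6, 6],
  [1, 2, 3, 2, 4, 3, 5, 8],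
  [1, 2, 3, 2, 4, 5, 8],
  [1, 2, 3, 2, 1, 4, 6],
  [1, 2, 3, 2, 4, 6, 6],
  [1, 0, 2, 1, 3, 2, 1, 0, 3],
  [1, 0, 2, 1, 3, 2, 1, 0, 4],
  [1, 0, 2, 1, 3, 2, 1, 4, 5],
  [1, 0, 2, 1, 3, 2, 4, 6],
  [1, 0, 2, 1, 3, 2, 4, 5, 4],
  [1, 0, 2, 1, 3, 2, 4, 5, 5],
  [1, 0, 2, 1, 3, 4, 6, 6],
  [1, 0, 2, 1, 3, 4, 5, 8],
  [1, 0, 2, 3, 2, 1, 0, 4, 3],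
  [1, 0, 2, 3, 2, 1, 0, 4, 5],
  [1, 0, 2, 3, 2, 1, 4, 3, 2],
  [1, 0, 2, 3, 2, 1, 4, 3, 5],
  [1, 0, 2, 3, 2, 1, 4, 3, 6],
  [1, 0, 2, 3, 2, 1, 4, 5, 4],
  [1, 0, 2, 3, 2, 1, 4, 5, 5],
  [1, 0, 2, 3, 2, 4, 3, 2, 1],
  [1, 0, 2, 3, 2, 4, 3, 2, 5],
  [1, 0, 2, 3, 2, 4, 3, 5, 4],
  [1, 0, 2, 3, 2, 4, 3, 5, 5],
  [1, 0, 2, 3, 2, 4, 3, 2, 6],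
  [1, 0, 2, 3, 2, 4, 3, 6, 4],
  [1, 0, 2, 3, 2, 4, 3, 6, 6],
  [1, 0, 2, 3, 2, 4, 3, 5, 8],
  [1, 0, 2, 3, 2, 4, 5, 8],
  [1, 0, 2, 3, 2, 1, 4, 6],
  [1, 0, 2, 3, 2, 4, 6, 6],
  [1, 2, 3, 2, 1, 0, 4, 3, 2],
  [1, 2, 3, 2, 1, 0, 4, 3, 5],
  [1, 2, 3, 2, 1, 0, 4, 3, 6],
  [1, 2, 3, 2, 1, 0, 4, 5, 4],
  [1, 2, 3, 2, 1, 0, 4, 5, 5],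
  [1, 2, 3, 2, 1, 4, 3, 2, 1],
  [1, 2, 3, 2, 1, 4, 3, 2, 3],
  [1, 2, 3, 2, 1, 4, 3, 2, 5],
  [1, 2, 3, 2, 1, 4, 3, 5, 4],
  [1, 2, 3, 2, 1, 4, 3, 5, 5],
  [1, 2, 3, 2, 1, 4, 3, 2, 6],
  [1, 2, 3, 2, 1, 4, 3, 6, 4],
  [1, 2, 3, 2, 1, 4, 3, 6, 6],
  [1, 2, 3, 2, 1, 4, 3, 5, 8],
  [1, 2, 3, 2, 1, 4, 5, 8],
  [1, 2, 3, 2, 4, 3, 2, 1, 0],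
  [1, 2, 3, 2, 4, 3, 2, 1, 5],
  [1, 2, 3, 2, 4, 3, 2, 5, 4],
  [1, 2, 3, 2, 4, 3, 2, 5, 5],
  [1, 2, 3, 2, 4, 3, 5, 4, 3],
  [1, 2, 3, 2, 4, 3, 5, 4, 5],
  [1, 2, 3, 2, 4, 3, 5, 4, 7],
  [1, 2, 3, 2, 4, 3, 6, 8],
  [1, 2, 3, 2, 4, 3, 2, 1, 6],
  [1, 2, 3, 2, 4, 3, 2, 6, 4],
  [1, 2, 3, 2, 4, 3, 2, 6, 6],
  [1, 2, 3, 2, 4, 3, 5, 4, 8],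
  [1, 2, 3, 2, 4, 3, 6, 4, 5],
  [1, 2, 3, 2, 4, 3, 2, 5, 8],
  [1, 2, 3, 2, 1, 0, 4, 6],
  [1, 2, 3, 2, 1, 4, 6, 6],
  [1, 0, 2, 1, 3, 2, 1, 0, 4, 5],
  [1, 0, 2, 1, 3, 2, 1, 4, 6],
  [1, 0, 2, 1, 3, 2, 1, 4, 5, 4],
  [1, 0, 2, 1, 3, 2, 1, 4, 5, 5],
  [1, 0, 2, 1, 3, 2, 4, 6, 6],
  [1, 0, 2, 1, 3, 2, 4, 5, 8],
  [1, 0, 2, 3, 2, 1, 0, 4, 3, 2],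
  [1, 0, 2, 3, 2, 1, 0, 4, 3, 5],
  [1, 0, 2, 3, 2, 1, 0, 4, 3, 6],
  [1, 0, 2, 3, 2, 1, 0, 4, 5, 4],
  [1, 0, 2, 3, 2, 1, 0, 4, 5, 5],
  [1, 0, 2, 3, 2, 1, 4, 3, 2, 1],
  [1, 0, 2, 3, 2, 1, 4, 3, 2, 5],
  [1, 0, 2, 3, 2, 1, 4, 3, 5, 4],
  [1, 0, 2, 3, 2, 1, 4, 3, 5, 5],
  [1, 0, 2, 3, 2, 1, 4, 3, 2, 6],
  [1, 0, 2, 3, 2, 1, 4, 3, 6, 4],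
  [1, 0, 2, 3, 2, 1, 4, 3, 6, 6],
  [1, 0, 2, 3, 2, 1, 4, 3, 5, 8],
  [1, 0, 2, 3, 2, 1, 4, 5, 8],
  [1, 0, 2, 3, 2, 4, 3, 2, 1, 0],
  [1, 0, 2, 3, 2, 4, 3, 2, 1, 5],
  [1, 0, 2, 3, 2, 4, 3, 2, 5, 4],
  [1, 0, 2, 3, 2, 4, 3, 2, 5, 5],
  [1, 0, 2, 3, 2, 4, 3, 5, 4, 3],
  [1, 0, 2, 3, 2, 4, 3, 5, 4, 5],
  [1, 0, 2, 3, 2, 4, 3, 5, 4, 7],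
  [1, 0, 2, 3, 2, 4, 3, 6, 8],
  [1, 0, 2, 3, 2, 4, 3, 2, 1, 6],
  [1, 0, 2, 3, 2, 4, 3, 2, 6, 4],
  [1, 0, 2, 3, 2, 4, 3, 2, 6, 6],
  [1, 0, 2, 3, 2, 4, 3, 5, 4, 8],
  [1, 0, 2, 3, 2, 4, 3, 6, 4, 5],
  [1, 0, 2, 3, 2, 4, 3, 2, 5, 8],
  [1, 0, 2, 3, 2, 1, 0, 4, 6],
  [1, 0, 2, 3, 2, 1, 4, 6, 6],
  [1, 2, 3, 2, 1, 0, 4, 3, 2, 1],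
  [1, 2, 3, 2, 1, 0, 4, 3, 2, 3],
  [1, 2, 3, 2, 1, 0, 4, 3, 2, 5],
  [1, 2, 3, 2, 1, 0, 4, 3, 5, 4],
  [1, 2, 3, 2, 1, 0, 4, 3, 5, 5],
  [1, 2, 3, 2, 1, 0, 4, 3, 2, 6],
  [1, 2, 3, 2, 1, 0, 4, 3, 6, 4],
  [1, 2, 3, 2, 1, 0, 4, 3, 6, 6],
  [1, 2, 3, 2, 1, 0, 4, 3, 5, 8],
  [1, 2, 3, 2, 1, 0, 4, 5, 8],
  [1, 2, 3, 2, 1, 4, 3, 2, 1, 0],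
  [1, 2, 3, 2, 1, 4, 3, 2, 1, 3],
  [1, 2, 3, 2, 1, 4, 3, 2, 1, 5],
  [1, 2, 3, 2, 1, 4, 3, 2, 3, 5],
  [1, 2, 3, 2, 1, 4, 3, 2, 3, 6],
  [1, 2, 3, 2, 1, 4, 3, 2, 5, 4],
  [1, 2, 3, 2, 1, 4, 3, 2, 5, 5],
  [1, 2, 3, 2, 1, 4, 3, 5, 4, 3],
  [1, 2, 3, 2, 1, 4, 3, 5, 4, 5],
  [1, 2, 3, 2, 1, 4, 3, 5, 4, 7],
  [1, 2, 3, 2, 1, 4, 3, 6, 8],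
  [1, 2, 3, 2, 1, 4, 3, 2, 1, 6],
  [1, 2, 3, 2, 1, 4, 3, 2, 6, 4],
  [1, 2, 3, 2, 1, 4, 3, 2, 6, 6],
  [1, 2, 3, 2, 1, 4, 3, 5, 4, 8],
  [1, 2, 3, 2, 1, 4, 3, 6, 4, 5],
  [1, 2, 3, 2, 1, 4, 3, 2, 5, 8],
  [1, 2, 3, 2, 4, 3, 2, 1, 0, 5],
  [1, 2, 3, 2, 4, 3, 2, 1, 5, 4],
  [1, 2, 3, 2, 4, 3, 2, 1, 5, 5],
  [1, 2, 3, 2, 4, 3, 2, 5, 4, 3],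
  [1, 2, 3, 2, 4, 3, 2, 5, 4, 5],
  [1, 2, 3, 2, 4, 3, 2, 5, 4, 7],
  [1, 2, 3, 2, 4, 3, 2, 6, 8],
  [1, 2, 3, 2, 4, 3, 2, 6, 4, 7],
  [1, 2, 3, 2, 4, 3, 5, 4, 3, 5],
  [1, 2, 3, 2, 4, 3, 6, 4, 8],
  [1, 2, 3, 2, 4, 3, 5, 4, 3, 6],
  [1, 2, 3, 2, 4, 3, 5, 4, 5, 4],
  [1, 2, 3, 2, 4, 3, 5, 4, 5, 5],
  [1, 2, 3, 2, 4, 3, 5, 4, 5, 7],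
  [1, 0, 2, 3, 2, 4, 3, 6, 4, 8],
  [1, 2, 3, 2, 4, 3, 2, 1, 0, 6],
  [1, 2, 3, 2, 4, 3, 2, 1, 6, 4],
  [1, 2, 3, 2, 4, 3, 2, 1, 6, 6],
  [1, 2, 3, 2, 4, 3, 2, 6, 4, 3],
  [1, 2, 3, 2, 4, 3, 2, 6, 4, 5],
  [1, 2, 3, 2, 4, 3, 2, 5, 4, 8],
  [1, 0, 2, 3, 2, 4, 3, 6, 4, 6],
  [1, 2, 3, 2, 4, 3, 5, 4, 8, 6],
  [1, 2, 3, 2, 4, 3, 6, 4, 5, 5],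
  [1, 0, 2, 3, 2, 4, 3, 5, 4, 6],
  [1, 2, 3, 2, 4, 3, 2, 1, 5, 8],
  [1, 0, 2, 3, 2, 4, 3, 2, 6, 8],
  [1, 2, 3, 2, 1, 0, 4, 6, 6],
  [1, 0, 2, 1, 3, 2, 1, 0, 4, 6],
  [1, 0, 2, 1, 3, 2, 1, 0, 4, 5, 4],
  [1, 0, 2, 1, 3, 2, 1, 0, 4, 5, 5],
  [1, 0, 2, 1, 3, 2, 1, 4, 6, 6],
  [1, 0, 2, 1, 3, 2, 1, 4, 5, 8],
  [1, 0, 2, 3, 2, 1, 0, 4, 3, 2, 1],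
  [1, 0, 2, 3, 2, 1, 0, 4, 3, 2, 5],
  [1, 0, 2, 3, 2, 1, 0, 4, 3, 5, 4],
  [1, 0, 2, 3, 2, 1, 0, 4, 3, 5, 5],
  [1, 0, 2, 3, 2, 1, 0, 4, 3, 2, 6],
  [1, 0, 2, 3, 2, 1, 0, 4, 3, 6, 4],
  [1, 0, 2, 3, 2, 1, 0, 4, 3, 6, 6],
  [1, 0, 2, 3, 2, 1, 0, 4, 3, 5, 8],
  [1, 0, 2, 3, 2, 1, 0, 4, 5, 8],
  [1, 0, 2, 3, 2, 1, 4, 3, 2, 1, 0],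
  [1, 0, 2, 3, 2, 1, 4, 3, 2, 1, 5],
  [1, 0, 2, 3, 2, 1, 4, 3, 2, 5, 4],
  [1, 0, 2, 3, 2, 1, 4, 3, 2, 5, 5],
  [1, 0, 2, 3, 2, 1, 4, 3, 5, 4, 3],
  [1, 0, 2, 3, 2, 1, 4, 3, 5, 4, 5],
  [1, 0, 2, 3, 2, 1, 4, 3, 5, 4, 7],
  [1, 0, 2, 3, 2, 1, 4, 3, 6, 8],
  [1, 0, 2, 3, 2, 1, 4, 3, 2, 1, 6],
  [1, 0, 2, 3, 2, 1, 4, 3, 2, 6, 4],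
  [1, 0, 2, 3, 2, 1, 4, 3, 2, 6, 6],
  [1, 0, 2, 3, 2, 1, 4, 3, 5, 4, 8],
  [1, 0, 2, 3, 2, 1, 4, 3, 6, 4, 5],
  [1, 0, 2, 3, 2, 1, 4, 3, 2, 5, 8],
  [1, 0, 2, 3, 2, 4, 3, 2, 1, 0, 5],
  [1, 0, 2, 3, 2, 4, 3, 2, 1, 5, 4],
  [1, 0, 2, 3, 2, 4, 3, 2, 1, 5, 5],
  [1, 0, 2, 3, 2, 4, 3, 2, 5, 4, 3],
  [1, 0, 2, 3, 2, 4, 3, 2, 5, 4, 5],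
  [1, 0, 2, 3, 2, 4, 3, 2, 5, 4, 7],
  [1, 0, 2, 3, 2, 4, 3, 2, 6, 4, 7],
  [1, 2, 3, 2, 4, 3, 5, 4, 6, 6],
  [1, 0, 2, 3, 2, 4, 3, 5, 4, 3, 6],
  [1, 0, 2, 3, 2, 4, 3, 5, 4, 5, 4],
  [1, 2, 3, 2, 4, 3, 6, 4, 6, 7],
  [1, 2, 3, 2, 4, 3, 6, 4, 8, 5],
  [1, 0, 2, 3, 2, 4, 3, 2, 1, 0, 6],
  [1, 0, 2, 3, 2, 4, 3, 2, 1, 6, 4],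
  [1, 0, 2, 3, 2, 4, 3, 2, 1, 6, 6],
  [1, 0, 2, 3, 2, 4, 3, 2, 6, 4, 3],
  [1, 0, 2, 3, 2, 4, 3, 2, 6, 4, 5],
  [1, 0, 2, 3, 2, 4, 3, 2, 5, 4, 8],
  [1, 2, 3, 2, 4, 3, 6, 4, 6],
  [1, 0, 2, 3, 2, 4, 3, 5, 4, 8, 6],
  [1, 2, 3, 2, 4, 3, 5, 4, 5, 8],
  [1, 2, 3, 2, 4, 3, 5, 4, 6],
  [1, 0, 2, 3, 2, 4, 3, 2, 1, 5, 8],
  [1, 0, 2, 3, 2, 1, 0, 4, 6, 6],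
  [1, 2, 3, 2, 1, 0, 4, 3, 2, 1, 0],
  [1, 2, 3, 2, 1, 0, 4, 3, 2, 1, 3],
  [1, 2, 3, 2, 1, 0, 4, 3, 2, 1, 5],
  [1, 2, 3, 2, 1, 0, 4, 3, 2, 3, 5],
  [1, 2, 3, 2, 1, 0, 4, 3, 2, 3, 6],
  [1, 2, 3, 2, 1, 0, 4, 3, 2, 5, 4],
  [1, 2, 3, 2, 1, 0, 4, 3, 2, 5, 5],
  [1, 2, 3, 2, 1, 0, 4, 3, 5, 4, 3],
  [1, 2, 3, 2, 1, 0, 4, 3, 5, 4, 5],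
  [1, 2, 3, 2, 1, 0, 4, 3, 5, 4, 7],
  [1, 2, 3, 2, 1, 0, 4, 3, 6, 8],
  [1, 2, 3, 2, 1, 0, 4, 3, 2, 1, 6],
  [1, 2, 3, 2, 1, 0, 4, 3, 2, 6, 4],
  [1, 2, 3, 2, 1, 0, 4, 3, 2, 6, 6],
  [1, 2, 3, 2, 1, 0, 4, 3, 5, 4, 8],
  [1, 2, 3, 2, 1, 0, 4, 3, 6, 4, 5],
  [1, 2, 3, 2, 1, 0, 4, 3, 2, 5, 8],
  [1, 2, 3, 2, 1, 4, 3, 2, 1, 0, 3],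
  [1, 2, 3, 2, 1, 4, 3, 2, 1, 0, 5],
  [1, 2, 3, 2, 1, 4, 3, 2, 1, 3, 2],
  [1, 2, 3, 2, 1, 4, 3, 2, 1, 3, 5],
  [1, 2, 3, 2, 1, 4, 3, 2, 1, 3, 6],
  [1, 2, 3, 2, 1, 4, 3, 2, 1, 5, 4],
  [1, 2, 3, 2, 1, 4, 3, 2, 1, 5, 5],
  [1, 2, 3, 2, 1, 4, 3, 2, 3, 5, 5],
  [1, 2, 3, 2, 1, 4, 3, 2, 3, 6, 6],
  [1, 2, 3, 2, 1, 4, 3, 2, 5, 4, 5],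
  [1, 2, 3, 2, 1, 4, 3, 2, 5, 4, 7],
  [1, 2, 3, 2, 1, 4, 3, 2, 6, 8],
  [1, 2, 3, 2, 1, 4, 3, 2, 6, 4, 7],
  [1, 2, 3, 2, 1, 4, 3, 5, 4, 3, 5],
  [1, 2, 3, 2, 1, 4, 3, 6, 4, 8],
  [1, 2, 3, 2, 1, 4, 3, 5, 4, 3, 6],
  [1, 2, 3, 2, 1, 4, 3, 5, 4, 5, 4],
  [1, 2, 3, 2, 1, 4, 3, 5, 4, 5, 5],
  [1, 2, 3, 2, 1, 4, 3, 5, 4, 5, 7],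
  [1, 0, 2, 3, 2, 1, 4, 3, 6, 4, 8],
  [1, 2, 3, 2, 1, 4, 3, 2, 1, 0, 6],
  [1, 2, 3, 2, 1, 4, 3, 2, 1, 6, 4],
  [1, 2, 3, 2, 1, 4, 3, 2, 1, 6, 6],
  [1, 2, 3, 2, 1, 4, 3, 2, 6, 4, 5],
  [1, 2, 3, 2, 1, 4, 3, 2, 5, 4, 8],
  [1, 0, 2, 3, 2, 1, 4, 3, 6, 4, 6],
  [1, 2, 3, 2, 1, 4, 3, 5, 4, 8, 6],
  [1, 2, 3, 2, 1, 4, 3, 6, 4, 5, 5],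
  [1, 0, 2, 3, 2, 1, 4, 3, 5, 4, 6],
  [1, 2, 3, 2, 1, 4, 3, 2, 1, 5, 8],
  [1, 2, 3, 2, 1, 4, 3, 2, 3, 6, 8],
  [1, 2, 3, 2, 4, 3, 2, 1, 0, 5, 4],
  [1, 2, 3, 2, 4, 3, 2, 1, 0, 5, 5],
  [1, 2, 3, 2, 4, 3, 2, 1, 5, 4, 3],
  [1, 2, 3, 2, 4, 3, 2, 1, 5, 4, 5],
  [1, 2, 3, 2, 4, 3, 2, 1, 5, 4, 7],
  [1, 2, 3, 2, 4, 3, 2, 1, 6, 8],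
  [1, 2, 3, 2, 4, 3, 2, 5, 4, 3, 2],
  [1, 2, 3, 2, 4, 3, 2, 5, 4, 3, 5],
  [1, 2, 3, 2, 4, 3, 2, 5, 4, 3, 7],
  [1, 2, 3, 2, 4, 3, 2, 5, 4, 5, 4],
  [1, 2, 3, 2, 4, 3, 2, 5, 4, 5, 7],
  [1, 0, 2, 3, 2, 4, 3, 2, 6, 4, 8],
  [1, 2, 3, 2, 4, 3, 2, 6, 4, 8],
  [1, 2, 3, 2, 4, 3, 2, 1, 6, 4, 7],
  [1, 2, 3, 2, 4, 3, 2, 6, 4, 3, 7],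
  [1, 2, 3, 2, 4, 3, 2, 6, 4, 7, 5],
  [1, 2, 3, 2, 4, 3, 6, 4, 6, 8],
  [1, 2, 3, 2, 4, 3, 6, 4, 6, 4],
  [1, 2, 3, 2, 4, 3, 2, 6, 4, 7, 6],
  [1, 0, 2, 3, 2, 4, 3, 5, 4, 7, 6],
  [1, 0, 2, 3, 2, 4, 3, 6, 4, 6, 8],
  [1, 0, 2, 3, 2, 4, 3, 6, 4, 6, 4],
  [1, 2, 3, 2, 4, 3, 2, 1, 0, 6, 4],
  [1, 2, 3, 2, 4, 3, 2, 1, 0, 6, 6],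
  [1, 2, 3, 2, 4, 3, 2, 1, 6, 4, 3],
  [1, 2, 3, 2, 4, 3, 2, 1, 6, 4, 5],
  [1, 2, 3, 2, 4, 3, 2, 6, 4, 3, 2],
  [1, 2, 3, 2, 4, 3, 2, 6, 4, 3, 5],
  [1, 2, 3, 2, 4, 3, 2, 6, 4, 3, 6],
  [1, 2, 3, 2, 4, 3, 2, 6, 4, 5, 5],
  [1, 0, 2, 3, 2, 4, 3, 2, 5, 4, 6],
  [1, 2, 3, 2, 4, 3, 2, 1, 5, 4, 8],
  [1, 2, 3, 2, 4, 3, 2, 5, 4, 3, 8],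
  [1, 0, 2, 3, 2, 4, 3, 2, 6, 4, 6],
  [1, 2, 3, 2, 4, 3, 2, 5, 4, 8, 6],
  [1, 2, 3, 2, 4, 3, 5, 4, 7, 6],
  [1, 2, 3, 2, 4, 3, 6, 4, 5, 8],
  [1, 2, 3, 2, 4, 3, 2, 1, 0, 5, 8],
  [1, 0, 2, 3, 2, 4, 3, 2, 1, 6, 8],
  [1, 0, 2, 1, 3, 2, 1, 0, 4, 6, 6],
  [1, 0, 2, 1, 3, 2, 1, 0, 4, 5, 8],
  [1, 0, 2, 3, 2, 1, 0, 4, 3, 2, 1, 0],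
  [1, 0, 2, 3, 2, 1, 0, 4, 3, 2, 1, 5],
  [1, 0, 2, 3, 2, 1, 0, 4, 3, 2, 5, 4],
  [1, 0, 2, 3, 2, 1, 0, 4, 3, 2, 5, 5],
  [1, 0, 2, 3, 2, 1, 0, 4, 3, 5, 4, 3],
  [1, 0, 2, 3, 2, 1, 0, 4, 3, 5, 4, 5],
  [1, 0, 2, 3, 2, 1, 0, 4, 3, 5, 4, 7],
  [1, 0, 2, 3, 2, 1, 0, 4, 3, 6, 8],
  [1, 0, 2, 3, 2, 1, 0, 4, 3, 2, 1, 6],
  [1, 0, 2, 3, 2, 1, 0, 4, 3, 2, 6, 4],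
  [1, 0, 2, 3, 2, 1, 0, 4, 3, 2, 6, 6],
  [1, 0, 2, 3, 2, 1, 0, 4, 3, 5, 4, 8],
  [1, 0, 2, 3, 2, 1, 0, 4, 3, 6, 4, 5],
  [1, 0, 2, 3, 2, 1, 0, 4, 3, 2, 5, 8],
  [1, 0, 2, 3, 2, 1, 4, 3, 2, 1, 0, 5],
  [1, 0, 2, 3, 2, 1, 4, 3, 2, 1, 5, 4],
  [1, 0, 2, 3, 2, 1, 4, 3, 2, 1, 5, 5],
  [1, 0, 2, 3, 2, 1, 4, 3, 2, 5, 4, 3],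
  [1, 0, 2, 3, 2, 1, 4, 3, 2, 5, 4, 5],
  [1, 0, 2, 3, 2, 1, 4, 3, 2, 5, 4, 7],
  [1, 0, 2, 3, 2, 1, 4, 3, 2, 6, 8],
  [1, 0, 2, 3, 2, 1, 4, 3, 2, 6, 4, 7],
  [1, 2, 3, 2, 1, 4, 3, 5, 4, 6, 6],
  [1, 0, 2, 3, 2, 1, 4, 3, 5, 4, 3, 6],
  [1, 0, 2, 3, 2, 1, 4, 3, 5, 4, 5, 4],
  [1, 2, 3, 2, 1, 4, 3, 6, 4, 6, 7],
  [1, 2, 3, 2, 1, 4, 3, 6, 4, 8, 5],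
  [1, 0, 2, 3, 2, 1, 4, 3, 2, 1, 0, 6],
  [1, 0, 2, 3, 2, 1, 4, 3, 2, 1, 6, 4],
  [1, 0, 2, 3, 2, 1, 4, 3, 2, 1, 6, 6],
  [1, 0, 2, 3, 2, 1, 4, 3, 2, 6, 4, 3],
  [1, 0, 2, 3, 2, 1, 4, 3, 2, 6, 4, 5],
  [1, 0, 2, 3, 2, 1, 4, 3, 2, 5, 4, 8],
  [1, 2, 3, 2, 1, 4, 3, 6, 4, 6],
  [1, 0, 2, 3, 2, 1, 4, 3, 5, 4, 8, 6],
  [1, 2, 3, 2, 1, 4, 3, 5, 4, 5, 8],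
  [1, 2, 3, 2, 1, 4, 3, 5, 4, 6],
  [1, 0, 2, 3, 2, 1, 4, 3, 2, 1, 5, 8],
  [1, 0, 2, 3, 2, 1, 0, 4, 3, 2, 6, 8],
  [1, 0, 2, 3, 2, 4, 3, 2, 1, 0, 5, 4],
  [1, 0, 2, 3, 2, 4, 3, 2, 1, 0, 5, 5],
  [1, 0, 2, 3, 2, 4, 3, 2, 1, 5, 4, 3],
  [1, 0, 2, 3, 2, 4, 3, 2, 1, 5, 4, 5],
  [1, 0, 2, 3, 2, 4, 3, 2, 1, 5, 4, 7],
  [1, 0, 2, 3, 2, 4, 3, 2, 5, 4, 3, 2],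
  [1, 0, 2, 3, 2, 4, 3, 2, 5, 4, 3, 5],
  [1, 0, 2, 3, 2, 4, 3, 2, 5, 4, 3, 7],
  [1, 0, 2, 3, 2, 4, 3, 2, 5, 4, 3, 6],
  [1, 0, 2, 3, 2, 4, 3, 2, 5, 4, 5, 4],
  [1, 2, 3, 2, 4, 3, 2, 6, 4, 6, 7],
  [1, 2, 3, 2, 4, 3, 2, 6, 4, 8, 5],
  [1, 0, 2, 3, 2, 4, 3, 2, 1, 6, 4, 7],
  [1, 0, 2, 3, 2, 4, 3, 2, 6, 4, 3, 7],
  [1, 2, 3, 2, 4, 3, 2, 5, 4, 6, 6],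
  [1, 0, 2, 3, 2, 4, 3, 2, 6, 4, 7, 6],
  [1, 0, 2, 3, 2, 4, 3, 2, 1, 0, 6, 4],
  [1, 0, 2, 3, 2, 4, 3, 2, 1, 0, 6, 6],
  [1, 0, 2, 3, 2, 4, 3, 2, 1, 6, 4, 5],
  [1, 0, 2, 3, 2, 4, 3, 2, 6, 4, 3, 2],
  [1, 0, 2, 3, 2, 4, 3, 2, 6, 4, 3, 6],
  [1, 2, 3, 2, 4, 3, 2, 5, 4, 5, 8],
  [1, 2, 3, 2, 4, 3, 2, 5, 4, 6],
  [1, 0, 2, 3, 2, 4, 3, 2, 1, 5, 4, 8],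
  [1, 0, 2, 3, 2, 4, 3, 2, 5, 4, 3, 8],
  [1, 2, 3, 2, 4, 3, 2, 6, 4, 6],
  [1, 0, 2, 3, 2, 4, 3, 2, 5, 4, 8, 6],
  [1, 2, 3, 2, 4, 3, 5, 4, 6, 7],
  [1, 0, 2, 3, 2, 4, 3, 2, 1, 0, 5, 8],
  [1, 2, 3, 2, 1, 0, 4, 3, 2, 1, 0, 5],
  [1, 2, 3, 2, 1, 0, 4, 3, 2, 1, 3, 5],
  [1, 2, 3, 2, 1, 0, 4, 3, 2, 1, 3, 6],
  [1, 2, 3, 2, 1, 0, 4, 3, 2, 1, 5, 4],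
  [1, 2, 3, 2, 1, 0, 4, 3, 2, 1, 5, 5],
  [1, 2, 3, 2, 1, 0, 4, 3, 2, 3, 5, 5],
  [1, 2, 3, 2, 1, 0, 4, 3, 2, 3, 6, 6],
  [1, 2, 3, 2, 1, 0, 4, 3, 2, 5, 4, 5],
  [1, 2, 3, 2, 1, 0, 4, 3, 2, 5, 4, 7],
  [1, 2, 3, 2, 1, 0, 4, 3, 2, 6, 8],
  [1, 2, 3, 2, 1, 0, 4, 3, 2, 6, 4, 7],
  [1, 2, 3, 2, 1, 0, 4, 3, 5, 4, 3, 5],
  [1, 2, 3, 2, 1, 0, 4, 3, 6, 4, 8],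
  [1, 2, 3, 2, 1, 0, 4, 3, 5, 4, 3, 6],
  [1, 2, 3, 2, 1, 0, 4, 3, 5, 4, 5, 4],
  [1, 2, 3, 2, 1, 0, 4, 3, 5, 4, 5, 5],
  [1, 2, 3, 2, 1, 0, 4, 3, 5, 4, 5, 7],
  [1, 0, 2, 3, 2, 1, 0, 4, 3, 6, 4, 8],
  [1, 2, 3, 2, 1, 0, 4, 3, 2, 1, 0, 6],
  [1, 2, 3, 2, 1, 0, 4, 3, 2, 1, 6, 4],
  [1, 2, 3, 2, 1, 0, 4, 3, 2, 1, 6, 6],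
  [1, 2, 3, 2, 1, 0, 4, 3, 2, 6, 4, 5],
  [1, 2, 3, 2, 1, 0, 4, 3, 2, 5, 4, 8],
  [1, 0, 2, 3, 2, 1, 0, 4, 3, 6, 4, 6],
  [1, 2, 3, 2, 1, 0, 4, 3, 5, 4, 8, 6],
  [1, 2, 3, 2, 1, 0, 4, 3, 6, 4, 5, 5],
  [1, 0, 2, 3, 2, 1, 0, 4, 3, 5, 4, 6],
  [1, 2, 3, 2, 1, 0, 4, 3, 2, 1, 5, 8],
  [1, 2, 3, 2, 1, 0, 4, 3, 2, 3, 6, 8],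
  [1, 2, 3, 2, 1, 4, 3, 2, 1, 0, 3, 5],
  [1, 2, 3, 2, 1, 4, 3, 2, 1, 0, 3, 6],
  [1, 2, 3, 2, 1, 4, 3, 2, 1, 0, 5, 4],
  [1, 2, 3, 2, 1, 4, 3, 2, 1, 0, 5, 5],
  [1, 2, 3, 2, 1, 4, 3, 2, 1, 3, 2, 5],
  [1, 2, 3, 2, 1, 4, 3, 2, 1, 3, 5, 5],
  [1, 2, 3, 2, 1, 4, 3, 2, 1, 3, 2, 6],
  [1, 2, 3, 2, 1, 4, 3, 2, 1, 3, 6, 6],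
  [1, 2, 3, 2, 1, 4, 3, 2, 1, 5, 4, 5],
  [1, 2, 3, 2, 1, 4, 3, 2, 1, 5, 4, 7],
  [1, 2, 3, 2, 1, 4, 3, 2, 1, 6, 8],
  [1, 2, 3, 2, 1, 4, 3, 2, 3, 5, 8],
  [1, 2, 3, 2, 1, 4, 3, 2, 5, 4, 6],
  [1, 2, 3, 2, 1, 4, 3, 2, 5, 4, 5, 4],
  [1, 2, 3, 2, 1, 4, 3, 2, 5, 4, 5, 5],
  [1, 2, 3, 2, 1, 4, 3, 2, 5, 4, 5, 7],
  [1, 0, 2, 3, 2, 1, 4, 3, 2, 6, 4, 8],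
  [1, 2, 3, 2, 1, 4, 3, 2, 6, 4, 8],
  [1, 2, 3, 2, 1, 4, 3, 2, 1, 6, 4, 7],
  [1, 2, 3, 2, 1, 4, 3, 2, 6, 4, 7, 5],
  [1, 2, 3, 2, 1, 4, 3, 6, 4, 6, 8],
  [1, 2, 3, 2, 1, 4, 3, 6, 4, 6, 4],
  [1, 2, 3, 2, 1, 4, 3, 2, 6, 4, 7, 6],
  [1, 0, 2, 3, 2, 1, 4, 3, 5, 4, 7, 6],
  [1, 0, 2, 3, 2, 1, 4, 3, 6, 4, 6, 8],
  [1, 0, 2, 3, 2, 1, 4, 3, 6, 4, 6, 4],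
  [1, 2, 3, 2, 1, 4, 3, 2, 1, 0, 6, 4],
  [1, 2, 3, 2, 1, 4, 3, 2, 1, 0, 6, 6],
  [1, 2, 3, 2, 1, 4, 3, 2, 1, 6, 4, 5],
  [1, 2, 3, 2, 1, 0, 4, 3, 2, 6, 4, 6],
  [1, 2, 3, 2, 1, 4, 3, 2, 6, 4, 5, 5],
  [1, 0, 2, 3, 2, 1, 4, 3, 2, 5, 4, 6],
  [1, 2, 3, 2, 1, 4, 3, 2, 1, 5, 4, 8],
  [1, 0, 2, 3, 2, 1, 4, 3, 2, 6, 4, 6],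
  [1, 2, 3, 2, 1, 4, 3, 2, 5, 4, 8, 6],
  [1, 2, 3, 2, 1, 4, 3, 5, 4, 7, 6],
  [1, 2, 3, 2, 1, 4, 3, 6, 4, 5, 8],
  [1, 2, 3, 2, 1, 4, 3, 2, 1, 0, 5, 8],
  [1, 2, 3, 2, 1, 4, 3, 2, 1, 3, 6, 8],
  [1, 2, 3, 2, 4, 3, 2, 1, 0, 5, 4, 7],
  [1, 2, 3, 2, 4, 3, 2, 1, 0, 6, 8],
  [1, 0, 2, 3, 2, 4, 3, 2, 6, 4, 6, 8],
  [1, 2, 3, 2, 4, 3, 2, 1, 5, 4, 5, 4],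
  [1, 2, 3, 2, 4, 3, 2, 1, 5, 4, 5, 7],
  [1, 0, 2, 3, 2, 4, 3, 2, 1, 6, 4, 8],
  [1, 2, 3, 2, 4, 3, 2, 1, 6, 4, 8],
  [1, 2, 3, 2, 4, 3, 2, 5, 4, 3, 2, 3],
  [1, 2, 3, 2, 4, 3, 2, 5, 4, 3, 2, 5],
  [1, 2, 3, 2, 4, 3, 2, 5, 4, 3, 2, 7],
  [1, 2, 3, 2, 4, 3, 2, 1, 6, 4, 8, 5],
  [1, 2, 3, 2, 4, 3, 2, 1, 5, 4, 7, 6],
  [1, 2, 3, 2, 4, 3, 2, 1, 5, 4, 6, 7],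
  [1, 2, 3, 2, 4, 3, 2, 5, 4, 5, 4, 3],
  [1, 0, 2, 3, 2, 4, 3, 2, 6, 4, 6, 4],
  [1, 0, 2, 3, 2, 4, 3, 2, 6, 4, 3, 8],
  [1, 2, 3, 2, 4, 3, 2, 6, 4, 3, 8],
  [1, 2, 3, 2, 4, 3, 2, 1, 0, 6, 4, 7],
  [1, 2, 3, 2, 4, 3, 2, 1, 6, 4, 3, 7],
  [1, 2, 3, 2, 4, 3, 2, 1, 6, 4, 7, 5],
  [1, 2, 3, 2, 4, 3, 2, 6, 4, 3, 2, 7],
  [1, 2, 3, 2, 4, 3, 2, 1, 0, 5, 4, 6],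
  [1, 2, 3, 2, 4, 3, 2, 6, 4, 3, 7, 6],
  [1, 2, 3, 2, 4, 3, 2, 6, 4, 6, 8],
  [1, 2, 3, 2, 4, 3, 2, 6, 4, 6, 4],
  [1, 2, 3, 2, 4, 3, 2, 1, 6, 4, 7, 6],
  [1, 0, 2, 3, 2, 4, 3, 2, 5, 4, 7, 6],
  [1, 2, 3, 2, 4, 3, 2, 1, 0, 6, 4, 3],
  [1, 2, 3, 2, 4, 3, 2, 1, 0, 6, 4, 5],
  [1, 2, 3, 2, 4, 3, 2, 1, 6, 4, 3, 2],
  [1, 2, 3, 2, 4, 3, 2, 1, 6, 4, 3, 5],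
  [1, 2, 3, 2, 4, 3, 2, 1, 6, 4, 3, 6],
  [1, 2, 3, 2, 4, 3, 2, 1, 6, 4, 5, 5],
  [1, 0, 2, 3, 2, 4, 3, 2, 1, 5, 4, 6],
  [1, 2, 3, 2, 4, 3, 2, 6, 4, 3, 2, 1],
  [1, 2, 3, 2, 4, 3, 2, 6, 4, 3, 2, 3],
  [1, 2, 3, 2, 4, 3, 2, 6, 4, 3, 2, 5],
  [1, 2, 3, 2, 4, 3, 2, 6, 4, 3, 2, 6],
  [1, 2, 3, 2, 4, 3, 2, 6, 4, 3, 6, 4],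
  [1, 2, 3, 2, 4, 3, 2, 6, 4, 3, 6, 6],
  [1, 2, 3, 2, 4, 3, 2, 5, 4, 7, 6],
  [1, 2, 3, 2, 4, 3, 2, 6, 4, 5, 8],
  [1, 2, 3, 2, 4, 3, 2, 5, 4, 3, 2, 8],
  [1, 0, 2, 3, 2, 4, 3, 2, 1, 0, 6, 8],
  [1, 0, 2, 3, 2, 1, 4, 3, 2, 1, 6, 8],
  [1, 0, 2, 3, 2, 1, 0, 4, 3, 2, 1, 0, 5],
  [1, 0, 2, 3, 2, 1, 0, 4, 3, 2, 1, 5, 4],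
  [1, 0, 2, 3, 2, 1, 0, 4, 3, 2, 1, 5, 5],
  [1, 0, 2, 3, 2, 1, 0, 4, 3, 2, 5, 4, 7],
  [1, 0, 2, 3, 2, 1, 0, 4, 3, 2, 6, 4, 7],
  [1, 2, 3, 2, 1, 0, 4, 3, 5, 4, 6, 6],
  [1, 0, 2, 3, 2, 1, 0, 4, 3, 5, 4, 3, 6],
  [1, 0, 2, 3, 2, 1, 0, 4, 3, 5, 4, 5, 4],
  [1, 2, 3, 2, 1, 0, 4, 3, 6, 4, 6, 7],
  [1, 2, 3, 2, 1, 0, 4, 3, 6, 4, 8, 5],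
  [1, 0, 2, 3, 2, 1, 0, 4, 3, 2, 1, 0, 6],
  [1, 0, 2, 3, 2, 1, 0, 4, 3, 2, 1, 6, 4],
  [1, 0, 2, 3, 2, 1, 0, 4, 3, 2, 1, 6, 6],
  [1, 0, 2, 3, 2, 1, 0, 4, 3, 2, 6, 4, 3],
  [1, 0, 2, 3, 2, 1, 0, 4, 3, 2, 6, 4, 5],
  [1, 0, 2, 3, 2, 1, 0, 4, 3, 2, 5, 4, 8],
  [1, 2, 3, 2, 1, 0, 4, 3, 6, 4, 6],
  [1, 0, 2, 3, 2, 1, 0, 4, 3, 5, 4, 8, 6],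
  [1, 2, 3, 2, 1, 0, 4, 3, 5, 4, 5, 8],
  [1, 2, 3, 2, 1, 0, 4, 3, 5, 4, 6],
  [1, 0, 2, 3, 2, 1, 0, 4, 3, 2, 1, 5, 8],
  [1, 0, 2, 3, 2, 1, 4, 3, 2, 1, 0, 5, 4],
  [1, 0, 2, 3, 2, 1, 4, 3, 2, 1, 0, 5, 5],
  [1, 0, 2, 3, 2, 1, 4, 3, 2, 1, 5, 4, 3],
  [1, 0, 2, 3, 2, 1, 4, 3, 2, 1, 5, 4, 5],
  [1, 0, 2, 3, 2, 1, 4, 3, 2, 1, 5, 4, 7],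
  [1, 0, 2, 3, 2, 1, 4, 3, 2, 5, 4, 3, 5],
  [1, 0, 2, 3, 2, 1, 4, 3, 2, 5, 4, 3, 7],
  [1, 2, 3, 2, 1, 4, 3, 2, 6, 4, 6, 7],
  [1, 2, 3, 2, 1, 4, 3, 2, 6, 4, 8, 5],
  [1, 0, 2, 3, 2, 1, 4, 3, 2, 1, 6, 4, 7],
  [1, 0, 2, 3, 2, 1, 4, 3, 2, 6, 4, 3, 7],
  [1, 2, 3, 2, 1, 4, 3, 2, 5, 4, 6, 6],
  [1, 0, 2, 3, 2, 1, 4, 3, 2, 1, 0, 6, 4],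
  [1, 0, 2, 3, 2, 1, 4, 3, 2, 1, 0, 6, 6],
  [1, 0, 2, 3, 2, 1, 4, 3, 2, 1, 6, 4, 3],
  [1, 0, 2, 3, 2, 1, 4, 3, 2, 1, 6, 4, 5],
  [1, 2, 3, 2, 1, 4, 3, 2, 5, 4, 5, 8],
  [1, 0, 2, 3, 2, 1, 4, 3, 2, 1, 5, 4, 8],
  [1, 0, 2, 3, 2, 1, 4, 3, 2, 5, 4, 3, 8],
  [1, 2, 3, 2, 1, 4, 3, 2, 6, 4, 6],
  [1, 0, 2, 3, 2, 1, 4, 3, 2, 5, 4, 8, 6],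
  [1, 2, 3, 2, 1, 4, 3, 5, 4, 6, 7],
  [1, 0, 2, 3, 2, 1, 4, 3, 2, 1, 0, 5, 8],
  [1, 0, 2, 3, 2, 1, 0, 4, 3, 2, 1, 6, 8],
  [1, 0, 2, 3, 2, 1, 0, 4, 3, 2, 6, 4, 8],
  [1, 2, 3, 2, 4, 3, 2, 1, 6, 4, 6, 7],
  [1, 0, 2, 3, 2, 4, 3, 2, 1, 0, 5, 4, 7],
  [1, 0, 2, 3, 2, 4, 3, 2, 1, 5, 4, 3, 2],
  [1, 0, 2, 3, 2, 4, 3, 2, 1, 5, 4, 3, 5],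
  [1, 0, 2, 3, 2, 4, 3, 2, 1, 5, 4, 3, 7],
  [1, 0, 2, 3, 2, 4, 3, 2, 5, 4, 3, 2, 1],
  [1, 0, 2, 3, 2, 4, 3, 2, 5, 4, 3, 2, 5],
  [1, 0, 2, 3, 2, 4, 3, 2, 5, 4, 3, 2, 7],
  [1, 0, 2, 3, 2, 4, 3, 2, 5, 4, 3, 5, 4],
  [1, 2, 3, 2, 4, 3, 2, 6, 4, 3, 6, 8],
  [1, 0, 2, 3, 2, 4, 3, 2, 5, 4, 3, 7, 5],
  [1, 0, 2, 3, 2, 4, 3, 2, 5, 4, 3, 2, 6],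
  [1, 2, 3, 2, 4, 3, 2, 6, 4, 3, 8, 6],
  [1, 2, 3, 2, 4, 3, 2, 1, 5, 4, 6],
  [1, 2, 3, 2, 4, 3, 2, 1, 5, 4, 5, 8],
  [1, 2, 3, 2, 4, 3, 2, 5, 4, 6, 7],
  [1, 2, 3, 2, 4, 3, 2, 1, 0, 6, 4, 6],
  [1, 2, 3, 2, 4, 3, 2, 1, 6, 4, 6],
  [1, 2, 3, 2, 1, 0, 4, 3, 2, 1, 0, 5, 4],
  [1, 2, 3, 2, 1, 0, 4, 3, 2, 1, 0, 5, 5],
  [1, 2, 3, 2, 1, 0, 4, 3, 2, 1, 3, 5, 5],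
  [1, 2, 3, 2, 1, 0, 4, 3, 2, 1, 3, 6, 6],
  [1, 2, 3, 2, 1, 0, 4, 3, 2, 1, 5, 4, 5],
  [1, 2, 3, 2, 1, 0, 4, 3, 2, 1, 5, 4, 7],
  [1, 2, 3, 2, 1, 0, 4, 3, 2, 1, 6, 8],
  [1, 2, 3, 2, 1, 0, 4, 3, 2, 3, 5, 8],
  [1, 2, 3, 2, 1, 0, 4, 3, 2, 5, 4, 6],
  [1, 2, 3, 2, 1, 0, 4, 3, 2, 5, 4, 5, 4],
  [1, 2, 3, 2, 1, 0, 4, 3, 2, 5, 4, 5, 5],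
  [1, 2, 3, 2, 1, 0, 4, 3, 2, 5, 4, 5, 7],
  [1, 2, 3, 2, 1, 0, 4, 3, 2, 6, 4, 8],
  [1, 2, 3, 2, 1, 0, 4, 3, 2, 1, 6, 4, 7],
  [1, 2, 3, 2, 1, 0, 4, 3, 2, 6, 4, 7, 5],
  [1, 2, 3, 2, 1, 0, 4, 3, 6, 4, 6, 8],
  [1, 2, 3, 2, 1, 0, 4, 3, 6, 4, 6, 4],
  [1, 2, 3, 2, 1, 0, 4, 3, 2, 6, 4, 7, 6],
  [1, 0, 2, 3, 2, 1, 0, 4, 3, 5, 4, 7, 6],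
  [1, 0, 2, 3, 2, 1, 0, 4, 3, 6, 4, 6, 8],
  [1, 0, 2, 3, 2, 1, 0, 4, 3, 6, 4, 6, 4],
  [1, 2, 3, 2, 1, 0, 4, 3, 2, 1, 0, 6, 4],
  [1, 2, 3, 2, 1, 0, 4, 3, 2, 1, 0, 6, 6],
  [1, 2, 3, 2, 1, 0, 4, 3, 2, 1, 6, 4, 5],
  [1, 0, 2, 3, 2, 1, 0, 4, 3, 2, 5, 4, 6],
  [1, 2, 3, 2, 1, 0, 4, 3, 2, 1, 5, 4, 8],
  [1, 0, 2, 3, 2, 1, 0, 4, 3, 2, 6, 4, 6],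
  [1, 2, 3, 2, 1, 0, 4, 3, 2, 5, 4, 8, 6],
  [1, 2, 3, 2, 1, 0, 4, 3, 5, 4, 7, 6],
  [1, 2, 3, 2, 1, 0, 4, 3, 6, 4, 5, 8],
  [1, 2, 3, 2, 1, 0, 4, 3, 2, 1, 0, 5, 8],
  [1, 2, 3, 2, 1, 0, 4, 3, 2, 1, 3, 6, 8],
  [1, 2, 3, 2, 1, 4, 3, 2, 1, 0, 3, 5, 5],
  [1, 2, 3, 2, 1, 4, 3, 2, 1, 0, 3, 6, 6],
  [1, 2, 3, 2, 1, 4, 3, 2, 1, 0, 5, 4, 7],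
  [1, 2, 3, 2, 1, 4, 3, 2, 1, 0, 6, 8],
  [1, 2, 3, 2, 1, 4, 3, 2, 1, 3, 2, 5, 5],
  [1, 2, 3, 2, 1, 4, 3, 2, 1, 3, 5, 8],
  [1, 2, 3, 2, 1, 4, 3, 2, 1, 3, 2, 6, 6],
  [1, 2, 3, 2, 1, 4, 3, 2, 1, 5, 4, 6],
  [1, 2, 3, 2, 1, 4, 3, 2, 1, 5, 4, 5, 4],
  [1, 2, 3, 2, 1, 4, 3, 2, 1, 5, 4, 5, 7],
  [1, 0, 2, 3, 2, 1, 4, 3, 2, 1, 6, 4, 8],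
  [1, 2, 3, 2, 1, 4, 3, 2, 1, 6, 4, 8],
  [1, 2, 3, 2, 1, 4, 3, 2, 5, 4, 6, 7],
  [1, 2, 3, 2, 1, 4, 3, 2, 5, 4, 5, 4, 3],
  [1, 0, 2, 3, 2, 1, 4, 3, 2, 6, 4, 6, 8],
  [1, 0, 2, 3, 2, 1, 4, 3, 2, 6, 4, 6, 4],
  [1, 2, 3, 2, 1, 4, 3, 2, 5, 4, 7, 6],
  [1, 2, 3, 2, 1, 4, 3, 2, 1, 0, 6, 4, 7],
  [1, 2, 3, 2, 1, 4, 3, 2, 1, 6, 4, 7, 5],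
  [1, 2, 3, 2, 1, 4, 3, 2, 6, 4, 6, 8],
  [1, 2, 3, 2, 1, 4, 3, 2, 6, 4, 6, 4],
  [1, 2, 3, 2, 1, 4, 3, 2, 1, 6, 4, 7, 6],
  [1, 0, 2, 3, 2, 1, 4, 3, 2, 5, 4, 7, 6],
  [1, 2, 3, 2, 1, 4, 3, 2, 1, 0, 6, 4, 5],
  [1, 2, 3, 2, 1, 0, 4, 3, 2, 1, 6, 4, 6],
  [1, 2, 3, 2, 1, 4, 3, 2, 1, 6, 4, 5, 5],
  [1, 0, 2, 3, 2, 1, 4, 3, 2, 1, 5, 4, 6],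
  [1, 2, 3, 2, 1, 0, 4, 3, 2, 6, 4, 6, 4],
  [1, 2, 3, 2, 1, 4, 3, 2, 6, 4, 5, 8],
  [1, 2, 3, 2, 1, 4, 3, 2, 1, 0, 3, 6, 8],
  [1, 2, 3, 2, 1, 4, 3, 2, 1, 3, 2, 6, 8],
  [1, 2, 3, 2, 4, 3, 2, 6, 4, 6, 4, 3],
  [1, 2, 3, 2, 4, 3, 2, 1, 0, 6, 4, 8],
  [1, 2, 3, 2, 4, 3, 2, 1, 6, 4, 3, 8],
  [1, 0, 2, 3, 2, 4, 3, 2, 6, 4, 3, 2, 8],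
  [1, 2, 3, 2, 1, 4, 3, 2, 1, 6, 4, 8, 5],
  [1, 2, 3, 2, 1, 4, 3, 2, 1, 5, 4, 7, 6],
  [1, 2, 3, 2, 1, 4, 3, 2, 1, 5, 4, 6, 7],
  [1, 2, 3, 2, 4, 3, 2, 1, 6, 4, 6, 4],
  [1, 2, 3, 2, 4, 3, 2, 1, 6, 4, 5, 8],
  [1, 2, 3, 2, 4, 3, 2, 5, 4, 5, 4, 3, 2],
  [1, 2, 3, 2, 4, 3, 2, 6, 4, 3, 2, 8],
  [1, 2, 3, 2, 4, 3, 2, 1, 6, 4, 3, 2, 7],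
  [1, 0, 2, 3, 2, 4, 3, 2, 1, 0, 5, 4, 6],
  [1, 2, 3, 2, 4, 3, 2, 1, 6, 4, 6, 8],
  [1, 2, 3, 2, 4, 3, 2, 6, 4, 3, 2, 1, 7],
  [1, 2, 3, 2, 1, 4, 3, 2, 1, 0, 5, 4, 6],
  [1, 2, 3, 2, 4, 3, 2, 6, 4, 3, 2, 7, 6],
  [1, 0, 2, 3, 2, 4, 3, 2, 1, 5, 4, 7, 6],
  [1, 2, 3, 2, 4, 3, 2, 1, 0, 6, 4, 3, 2],
  [1, 2, 3, 2, 4, 3, 2, 1, 0, 6, 4, 5, 5],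
  [1, 2, 3, 2, 4, 3, 2, 1, 6, 4, 3, 2, 1],
  [1, 2, 3, 2, 4, 3, 2, 1, 6, 4, 3, 2, 3],
  [1, 2, 3, 2, 4, 3, 2, 1, 6, 4, 3, 2, 5],
  [1, 2, 3, 2, 4, 3, 2, 1, 6, 4, 3, 2, 6],
  [1, 2, 3, 2, 4, 3, 2, 6, 4, 3, 2, 1, 0],
  [1, 2, 3, 2, 4, 3, 2, 6, 4, 3, 2, 1, 3],
  [1, 2, 3, 2, 4, 3, 2, 6, 4, 3, 2, 1, 5],
  [1, 2, 3, 2, 4, 3, 2, 6, 4, 3, 2, 1, 6],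
  [1, 2, 3, 2, 4, 3, 2, 6, 4, 3, 2, 6, 4],
  [1, 2, 3, 2, 4, 3, 2, 6, 4, 3, 2, 6, 6],
  [1, 2, 3, 2, 4, 3, 2, 1, 6, 4, 3, 6, 8],
  [1, 0, 2, 3, 2, 1, 4, 3, 2, 1, 0, 6, 8],
  [1, 0, 2, 3, 2, 1, 0, 4, 3, 2, 1, 0, 5, 4],
  [1, 0, 2, 3, 2, 1, 0, 4, 3, 2, 1, 0, 5, 5],
  [1, 0, 2, 3, 2, 1, 0, 4, 3, 2, 1, 5, 4, 7],
  [1, 0, 2, 3, 2, 1, 0, 4, 3, 2, 1, 6, 4, 7],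
  [1, 0, 2, 3, 2, 1, 0, 4, 3, 2, 6, 4, 3, 7],
  [1, 2, 3, 2, 1, 0, 4, 3, 2, 5, 4, 6, 6],
  [1, 0, 2, 3, 2, 1, 0, 4, 3, 2, 1, 0, 6, 4],
  [1, 0, 2, 3, 2, 1, 0, 4, 3, 2, 1, 0, 6, 6],
  [1, 0, 2, 3, 2, 1, 0, 4, 3, 2, 1, 6, 4, 3],
  [1, 0, 2, 3, 2, 1, 0, 4, 3, 2, 1, 6, 4, 5],
  [1, 2, 3, 2, 1, 0, 4, 3, 2, 5, 4, 5, 8],
  [1, 0, 2, 3, 2, 1, 0, 4, 3, 2, 1, 5, 4, 8],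
  [1, 2, 3, 2, 1, 0, 4, 3, 5, 4, 6, 7],
  [1, 0, 2, 3, 2, 1, 0, 4, 3, 2, 1, 0, 5, 8],
  [1, 0, 2, 3, 2, 1, 4, 3, 2, 1, 0, 5, 4, 3],
  [1, 0, 2, 3, 2, 1, 4, 3, 2, 1, 0, 5, 4, 7],
  [1, 0, 2, 3, 2, 1, 4, 3, 2, 1, 5, 4, 3, 5],
  [1, 0, 2, 3, 2, 1, 4, 3, 2, 1, 5, 4, 3, 7],
  [1, 2, 3, 2, 1, 4, 3, 2, 1, 6, 4, 6, 7],
  [1, 2, 3, 2, 1, 0, 4, 3, 2, 6, 4, 6, 8],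
  [1, 2, 3, 2, 1, 4, 3, 2, 1, 5, 4, 5, 8],
  [1, 0, 2, 3, 2, 1, 4, 3, 2, 1, 5, 4, 3, 8],
  [1, 2, 3, 2, 1, 4, 3, 2, 1, 6, 4, 6],
  [1, 2, 3, 2, 1, 0, 4, 3, 2, 5, 4, 7, 6],
  [1, 0, 2, 3, 2, 1, 0, 4, 3, 2, 1, 0, 6, 8],
  [1, 0, 2, 3, 2, 1, 0, 4, 3, 2, 1, 6, 4, 8],
  [1, 0, 2, 3, 2, 4, 3, 2, 1, 5, 4, 3, 2, 1],
  [1, 0, 2, 3, 2, 4, 3, 2, 1, 5, 4, 3, 2, 3],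
  [1, 0, 2, 3, 2, 4, 3, 2, 1, 5, 4, 3, 2, 5],
  [1, 0, 2, 3, 2, 4, 3, 2, 1, 5, 4, 3, 2, 7],
  [1, 2, 3, 2, 4, 3, 2, 1, 0, 6, 4, 5, 8],
  [1, 0, 2, 3, 2, 4, 3, 2, 5, 4, 3, 2, 1, 0],
  [1, 0, 2, 3, 2, 4, 3, 2, 5, 4, 3, 2, 1, 5],
  [1, 0, 2, 3, 2, 4, 3, 2, 5, 4, 3, 2, 1, 7],
  [1, 0, 2, 3, 2, 4, 3, 2, 5, 4, 3, 2, 5, 4],
  [1, 2, 3, 2, 4, 3, 2, 6, 4, 3, 2, 6, 8],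
  [1, 0, 2, 3, 2, 4, 3, 2, 5, 4, 3, 2, 7, 5],
  [1, 0, 2, 3, 2, 4, 3, 2, 5, 4, 3, 2, 1, 6],
  [1, 2, 3, 2, 4, 3, 2, 6, 4, 3, 2, 8, 6],
  [1, 2, 3, 2, 1, 4, 3, 2, 1, 0, 6, 4, 6],
  [1, 2, 3, 2, 1, 0, 4, 3, 2, 1, 0, 5, 4, 7],
  [1, 2, 3, 2, 1, 0, 4, 3, 2, 1, 0, 6, 8],
  [1, 2, 3, 2, 1, 0, 4, 3, 2, 1, 3, 5, 8],
  [1, 2, 3, 2, 1, 0, 4, 3, 2, 1, 5, 4, 6],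
  [1, 2, 3, 2, 1, 0, 4, 3, 2, 1, 5, 4, 5, 4],
  [1, 2, 3, 2, 1, 0, 4, 3, 2, 1, 5, 4, 5, 7],
  [1, 2, 3, 2, 1, 0, 4, 3, 2, 1, 6, 4, 8],
  [1, 2, 3, 2, 1, 0, 4, 3, 2, 5, 4, 6, 7],
  [1, 0, 2, 3, 2, 1, 0, 4, 3, 2, 6, 4, 6, 8],
  [1, 0, 2, 3, 2, 1, 0, 4, 3, 2, 6, 4, 6, 4],
  [1, 2, 3, 2, 1, 0, 4, 3, 2, 1, 0, 6, 4, 7],
  [1, 2, 3, 2, 1, 0, 4, 3, 2, 1, 6, 4, 7, 5],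
  [1, 2, 3, 2, 1, 0, 4, 3, 2, 1, 6, 4, 7, 6],
  [1, 2, 3, 2, 1, 4, 3, 2, 6, 4, 6, 4, 3],
  [1, 2, 3, 2, 1, 0, 4, 3, 2, 1, 0, 6, 4, 5],
  [1, 0, 2, 3, 2, 1, 0, 4, 3, 2, 1, 5, 4, 6],
  [1, 2, 3, 2, 1, 0, 4, 3, 2, 6, 4, 5, 8],
  [1, 0, 2, 3, 2, 1, 0, 4, 3, 2, 1, 6, 4, 6],
  [1, 2, 3, 2, 1, 4, 3, 2, 1, 0, 3, 5, 8],
  [1, 2, 3, 2, 4, 3, 2, 6, 4, 6, 4, 3, 2],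
  [1, 2, 3, 2, 1, 4, 3, 2, 1, 0, 6, 4, 8],
  [1, 2, 3, 2, 1, 4, 3, 2, 1, 3, 2, 5, 8],
  [1, 2, 3, 2, 1, 4, 3, 2, 1, 5, 4, 5, 4, 3],
  [1, 2, 3, 2, 1, 4, 3, 2, 1, 6, 4, 6, 8],
  [1, 2, 3, 2, 1, 4, 3, 2, 1, 6, 4, 6, 4],
  [1, 0, 2, 3, 2, 1, 4, 3, 2, 1, 5, 4, 7, 6],
  [1, 2, 3, 2, 1, 0, 4, 3, 2, 1, 0, 6, 4, 6],
  [1, 2, 3, 2, 1, 4, 3, 2, 1, 0, 6, 4, 5, 5],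
  [1, 0, 2, 3, 2, 1, 4, 3, 2, 1, 0, 5, 4, 6],
  [1, 2, 3, 2, 1, 0, 4, 3, 2, 1, 6, 4, 6, 4],
  [1, 2, 3, 2, 1, 4, 3, 2, 1, 6, 4, 5, 8],
  [1, 2, 3, 2, 4, 3, 2, 1, 6, 4, 3, 2, 8],
  [1, 2, 3, 2, 4, 3, 2, 5, 4, 5, 4, 3, 2, 1],
  [1, 2, 3, 2, 4, 3, 2, 6, 4, 3, 2, 1, 8],
  [1, 2, 3, 2, 4, 3, 2, 1, 6, 4, 3, 2, 1, 7],
  [1, 2, 3, 2, 4, 3, 2, 1, 6, 4, 3, 2, 3, 7],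
  [1, 2, 3, 2, 1, 0, 4, 3, 2, 1, 5, 4, 6, 6],
  [1, 2, 3, 2, 1, 0, 4, 3, 2, 1, 0, 5, 4, 6],
  [1, 2, 3, 2, 4, 3, 2, 6, 4, 3, 2, 1, 7, 6],
  [1, 2, 3, 2, 4, 3, 2, 1, 6, 4, 3, 2, 1, 5],
  [1, 2, 3, 2, 4, 3, 2, 1, 6, 4, 3, 2, 3, 6],
  [1, 2, 3, 2, 4, 3, 2, 6, 4, 3, 2, 1, 6, 6],
  [1, 2, 3, 2, 4, 3, 2, 1, 6, 4, 3, 2, 6, 8],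
  [1, 0, 2, 3, 2, 1, 0, 4, 3, 2, 1, 0, 5, 4, 7],
  [1, 0, 2, 3, 2, 1, 0, 4, 3, 2, 1, 6, 4, 3, 7],
  [1, 2, 3, 2, 1, 0, 4, 3, 2, 1, 5, 4, 5, 8],
  [1, 0, 2, 3, 2, 1, 4, 3, 2, 1, 0, 5, 4, 3, 7],
  [1, 2, 3, 2, 1, 0, 4, 3, 2, 1, 6, 4, 6, 8],
  [1, 2, 3, 2, 1, 0, 4, 3, 2, 1, 5, 4, 7, 6],
  [1, 2, 3, 2, 4, 3, 2, 6, 4, 6, 4, 3, 2, 1],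
  [1, 0, 2, 3, 2, 4, 3, 2, 1, 5, 4, 3, 2, 1, 7],
  [1, 0, 2, 3, 2, 4, 3, 2, 1, 5, 4, 3, 2, 3, 7],
  [1, 2, 3, 2, 1, 4, 3, 2, 1, 0, 6, 4, 5, 8],
  [1, 0, 2, 3, 2, 1, 0, 4, 3, 2, 1, 6, 4, 6, 8],
  [1, 2, 3, 2, 4, 3, 2, 6, 4, 3, 2, 1, 6, 8],
  [1, 0, 2, 3, 2, 4, 3, 2, 5, 4, 3, 2, 1, 7, 5],
  [1, 2, 3, 2, 4, 3, 2, 6, 4, 3, 2, 1, 8, 6],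
  [1, 2, 3, 2, 1, 0, 4, 3, 2, 1, 0, 6, 4, 8],
  [1, 2, 3, 2, 1, 0, 4, 3, 2, 1, 5, 4, 6, 7],
  [1, 2, 3, 2, 4, 3, 2, 6, 4, 3, 2, 1, 0, 8],
  [1, 2, 3, 2, 1, 4, 3, 2, 1, 6, 4, 6, 4, 3],
  [1, 2, 3, 2, 1, 0, 4, 3, 2, 1, 6, 4, 5, 8],
  [1, 2, 3, 2, 4, 3, 2, 1, 6, 4, 3, 2, 1, 8],
  [1, 2, 3, 2, 4, 3, 2, 1, 6, 4, 3, 2, 3, 8]]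

/-- the inverse word -/
def invL (w : List ℕ) : List ℕ := (w.map iv).reverse

/-- check of the words -/
def chkW : List (List ℕ) → ℕ → Bool
  | [], j => Nat.beq j 819
  | w :: l, j => (Dce.lets 9 w && Nat.beq (actw tab (invL w) 0) j) && chkW l (j + 1)

theorem c_wl : chkW wl 0 = true := by decide +kernel

end Cfsg.Agent.Lib.ThC4
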