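import Cfsg.Agent.Lib.ThDRun
import Cfsg.Agent.Lib.DceFin

/-!
# Thompson group: the relators of the double coset enumeration
-/

set_option autoImplicit false
set_option linter.all false
set_option maxRecDepth 100000

namespace Cfsg.Agent.Lib.ThDRun

open Cfsg.Agent.Lib.Dce Cfsg.Agent.Lib.DceBig Cfsg.Agent.Lib.ThDT Cfsg.Agent.Lib.ThP Cfsg.Agent.Lib.ThDE

/-- the relators with `u` of the Thompson group -/
structure RelU {G : Type*} [Group G] (a b c d e s t u : G) : Prop where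
  uu : (u ^ 2) * ((a * c)⁻¹) = 1
  ua : u⁻¹ * a⁻¹ * u * a = 1
  uc : u⁻¹ * c⁻¹ * u * c = 1
  ue : u⁻¹ * e⁻¹ * u * e = 1
  de : (d * e * (u⁻¹ * d * u)) ^ 2 = 1
  f1 : (u⁻¹ * (b⁻¹ * (a * c) * b)⁻¹ * u * (b⁻¹ * (a * c) * b)) * (e⁻¹) = 1
  f2 : ((d⁻¹ * u * d)⁻¹ * (b⁻¹ * (a * c) * b)⁻¹ * (d⁻¹ * u * d) * (b⁻¹ * (a * c) * b)) *
    ((u * e * (b⁻¹ * (a * c) * b) * (d⁻¹ * u * d) * e * c)⁻¹) = 1
  tu : (u⁻¹ * t * u) * ((t⁻¹)⁻¹) = 1
  es : e⁻¹ * ((s ^ 2)⁻¹ * u * (s ^ 2))⁻¹ * e * ((s ^ 2)⁻¹ * u * (s ^ 2)) = 1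
  us : (a * c) * (((u * s) ^ 3)⁻¹) = 1
  us4 : (a * c) * (((u⁻¹ * s⁻¹ * u * s) ^ 4)⁻¹) = 1
  du : ((d * ((s ^ 2)⁻¹ * u * (s ^ 2))) ^ 4) * ((a * c * (d⁻¹ * c * d) * ((d * e * (s⁻¹))⁻¹ * c * (d * e * (s⁻¹))) *
    ((d * e * (s ^ 2))⁻¹ * c * (d * e * (s ^ 2))))⁻¹) = 1

section
variable {G : Type*} [Group G] {a b c d e s t u : G}

/-- values of the words -/
theorem ev9 {ψ : PP →* G} (h0 : ψ (xs 0) = a) (h1 : ψ (xs 1) = b) (h2 : ψ (xs 2) = c) (h3 : ψ (xs 3) = d) (h4 : ψ (xs 4) = e)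
    (h5 : ψ (xs 5) = s) (h7 : ψ (xs 7) = t) : ψ (xs 6) = s⁻¹ ∧ ψ (xs 8) = t⁻¹ := by
  constructor
  · rw [← h5, ← map_inv, ← hiv 5 (by norm_num)]; rfl
  · rw [← h7, ← map_inv, ← hiv 7 (by norm_num)]; rfl

/-- equality of words in `³D₄(2):3` -/
theorem eqw {v w : List ℕ} (h : eqP tab 54 ThPT.base v w = true) : ev xs v = ev xs w :=
  eqP_sound (m := 819) acts.1 acts.2 hbase hfaith h

/-- natural form of the relators -/
def nat : List (List Tok) := [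
  [.t, .h [5, 0, 2], .t, .h [5, 0, 2], .t, .h [5]],
  [.t, .h [3, 0, 2], .t, .h [3, 4], .t, .h [3, 0, 2], .t, .h [3, 4]],
  [.t, .h [3, 1, 2, 0, 1, 4], .t, .h [3, 1, 0, 2, 1, 2, 4, 3], .t, .h [3, 1, 2, 0, 1, 3, 0, 2], .t, .h [3]],
  [.t, .h [5, 0, 2], .t, .h [6], .t, .h [5, 0, 2], .t, .h [6], .t, .h [5, 0, 2], .t, .h [6], .t, .h [5, 0, 2], .t, .h [0, 2, 6]],
  [.t, .h [5, 5, 3, 6, 6, 0, 2], .t, .h [5, 5, 3, 6, 6, 0, 2], .t, .h [5, 5, 3, 6, 6, 0, 2], .t,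
    .h [4, 3, 2, 3, 4, 5, 5, 5, 4, 3, 2, 3, 4, 6, 3, 2, 3, 2, 0, 3, 6, 6, 0, 2]],
  [.t, .h [], .t, .h [0, 2]],
  [.t, .T],
  [.T, .t]]

/-- comparison of token lists -/
def cmpT : List Tok → List Tok → Bool
  | [], [] => true
  | .h v :: l, .h w :: l' => eqP tab 54 ThPT.base v w && cmpT l l'
  | .t :: l, .t :: l' => cmpT l l'
  | .T :: l, .T :: l' => cmpT l l'
  | _, _ => false

theorem cmpT_sound {G : Type*} [Group G] (ψ : PP →* G) (t : G) : ∀ l l' : List Tok, cmpT l l' = true → seqG xs ψ t l = seqG xs ψ t l'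
  | [], [], _ => rfl
  | .h v :: l, .h w :: l', h => by
    simp only [cmpT, Bool.and_eq_true] at h
    simp only [seqG, tokG, eqw h.1, cmpT_sound ψ t l l' h.2]
  | .t :: l, .t :: l', h => by
    simp only [cmpT] at h
    simp only [seqG, tokG, cmpT_sound ψ t l l' h]
  | .T :: l, .T :: l', h => by
    simp only [cmpT] at h
    simp only [seqG, tokG, cmpT_sound ψ t l l' h]
  | [], .h _ :: _, h => by simp [cmpT] at h
  | [], .t :: _, h => by simp [cmpT] at h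
  | [], .T :: _, h => by simp [cmpT] at h
  | .h _ :: _, [], h => by simp [cmpT] at h
  | .t :: _, [], h => by simp [cmpT] at h
  | .T :: _, [], h => by simp [cmpT] at h
  | .h _ :: _, .t :: _, h => by simp [cmpT] at h
  | .h _ :: _, .T :: _, h => by simp [cmpT] at h
  | .t :: _, .h _ :: _, h => by simp [cmpT] at h
  | .t :: _, .T :: _, h => by simp [cmpT] at h
  | .T :: _, .h _ :: _, h => by simp [cmpT] at h
  | .T :: _, .t :: _, h => by simp [cmpT] at h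

/-- comparison of lists of token lists -/
def cmpL : List (List Tok) → List (List Tok) → Bool
  | [], [] => true
  | v :: l, w :: l' => cmpT v w && cmpL l l'
  | _, _ => false

theorem cmpL_sound {G : Type*} [Group G] (ψ : PP →* G) (t : G) {l l' : List (List Tok)} (h : cmpL l l' = true)
    (h' : ∀ r ∈ l', seqG xs ψ t r = 1) : ∀ r ∈ l, seqG xs ψ t r = 1 := by
  induction l generalizing l' with
  | nil => simp
  | cons v l ih =>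
    cases l' with
    | nil => simp [cmpL] at h
    | cons w l' =>
      simp only [cmpL, Bool.and_eq_true] at h
      rw [List.forall_mem_cons] at h' ⊢
      exact ⟨(cmpT_sound ψ t v w h.1).trans h'.1, ih h.2 h'.2⟩

theorem c_nat : cmpL rels nat = true := by decide +kernel

theorem natG (h : RelU a b c d e s t u) (hP : RelP a b c d e s t) {ψ : PP →* G} (h0 : ψ (xs 0) = a) (h1 : ψ (xs 1) = b) (h2 : ψ (xs 2) = c) (h3 : ψ (xs 3) = d)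
    (h4 : ψ (xs 4) = e) (h5 : ψ (xs 5) = s) (h7 : ψ (xs 7) = t) : ∀ r ∈ nat, seqG xs ψ u⁻¹ r = 1 := by
  obtain ⟨h6, h8⟩ := ev9 (a := a) (b := b) (c := c) (d := d) (e := e) h0 h1 h2 h3 h4 h5 h7
  have hz : a * c = u * u := by
    have := mul_inv_eq_one.mp h.uu
    rw [← this, pow_two]
  have ia := hP.toRelL.ia
  have ib := hP.toRelL.ib
  have ic := hP.toRelL.ic
  have id := hP.toRelL.id
  have ie := hP.toRelL.ie
  have hca : c * a = (u * u)⁻¹ := by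
    rw [← hz, mul_inv_rev, ia, ic]
  simp only [nat, List.forall_mem_cons]
  refine ⟨?_, ?_, ?_, ?_, ?_, ?_, ?_, ?_, fun _ h => absurd h List.not_mem_nil⟩
  · simp only [seqG, tokG, ev_cons, ev_nil, map_mul, map_one, h0, h1, h2, h3, h4, h5, h6, mul_one, one_mul, hz]
    have k := h.us
    rw [hz] at k
    have k1 : s * u⁻¹ * (s * (u * u)) * u⁻¹ * (s * (u * u)) * u⁻¹ = ((s * u * s * u)⁻¹ * u⁻¹) * ((u * u) * ((u * s) ^ 3)⁻¹)⁻¹ * ((s * u * s * u)⁻¹ * u⁻¹)⁻¹ := by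
      simp only [pow_succ, pow_zero, one_mul]; group
    rw [k1, k]; group
  · simp only [seqG, tokG, ev_cons, ev_nil, map_mul, map_one, h0, h1, h2, h3, h4, h5, h6, mul_one, one_mul, hz]
    have k1 : d * e * u⁻¹ * (d * (u * u)) * u⁻¹ * (d * e) * u⁻¹ * (d * (u * u)) * u⁻¹ = (d * e * (u⁻¹ * d * u)) ^ 2 := by
      simp only [pow_succ, pow_zero, one_mul]; group
    rw [k1, h.de]
  · simp only [seqG, tokG, ev_cons, ev_nil, map_mul, map_one, h0, h1, h2, h3, h4, h5, h6, mul_one, one_mul]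
    have k := h.f2
    simp only [mul_inv_rev, inv_inv, ia, ib, ic, id, ie] at k
    rw [← k]
    have hac : u⁻¹ * (a * c) = u := by rw [hz]; group
    have hac2 : ∀ x : G, a * (c * (u⁻¹ * x)) = u * x := by intro x; rw [← mul_assoc, ← mul_assoc, hz]; group
    simp only [mul_assoc, hac2]
  · simp only [seqG, tokG, ev_cons, ev_nil, map_mul, map_one, h0, h1, h2, h3, h4, h5, h6, mul_one, one_mul]
    have k := h.us4
    rw [← mul_assoc a c, hz]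
    rw [hz] at k
    rw [← k]
    simp only [pow_succ, pow_zero, one_mul]; group
  · simp only [seqG, tokG, ev_cons, ev_nil, map_mul, map_one, h0, h1, h2, h3, h4, h5, h6, mul_one, one_mul]
    have k := h.du
    have e1 : (e * (d * (c * (d * (e * (s * (s * (s * (e * (d * (c * (d * (e * (s⁻¹ * (d * (c * (d * (c * (a * (d * (s⁻¹ * (s⁻¹ * ((a * c)))))))))))))))))))))))) * u⁻¹ * (s * (s * (d * (s⁻¹ * (s⁻¹ * ((a * c))))))) * u⁻¹ * (s * (s * (d * (s⁻¹ * (s⁻¹ * ((a * c))))))) * u⁻¹ * (s * (s * (d * (s⁻¹ * (s⁻¹ * ((a * c))))))) * u⁻¹ =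
        (e⁻¹ * (d⁻¹ * (c⁻¹ * (d * (e * (s * (s * (s * (e⁻¹ * (d⁻¹ * (c⁻¹ * (d * (e * (s⁻¹ * (d⁻¹ * (c⁻¹ * (d * (c⁻¹ * (a⁻¹ * (d * (s⁻¹ * (s⁻¹ * ((u * u)))))))))))))))))))))))) * u⁻¹ * (s * (s * (d * (s⁻¹ * (s⁻¹ * ((u * u))))))) * u⁻¹ * (s * (s * (d * (s⁻¹ * (s⁻¹ * ((u * u))))))) * u⁻¹ * (s * (s * (d * (s⁻¹ * (s⁻¹ * ((u * u))))))) * u⁻¹ := by
      simp only [ia, ic, id, ie, hz]
    have e2 : (e⁻¹ * (d⁻¹ * (c⁻¹ * (d * (e * (s * (s * (s * (e⁻¹ * (d⁻¹ * (c⁻¹ * (d * (e * (s⁻¹ * (d⁻¹ * (c⁻¹ * (d * (c⁻¹ * (a⁻¹ * (d * (s⁻¹ * (s⁻¹ * ((u * u)))))))))))))))))))))))) * u⁻¹ * (s * (s * (d * (s⁻¹ * (s⁻¹ * ((u * u))))))) * u⁻¹ * (s * (s * (d * (s⁻¹ * (s⁻¹ * ((u * u))))))) * u⁻¹ * (s * (s * (d * (s⁻¹ * (s⁻¹ * ((u * u))))))) * u⁻¹ =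
        (s * s * (a * c * (d⁻¹ * c * d) * ((d * e * (s⁻¹))⁻¹ * c * (d * e * (s⁻¹))) * ((d * e * (s ^ 2))⁻¹ * c * (d * e * (s ^ 2))))⁻¹) * (((d * ((s ^ 2)⁻¹ * u * (s ^ 2))) ^ 4) * ((a * c * (d⁻¹ * c * d) * ((d * e * (s⁻¹))⁻¹ * c * (d * e * (s⁻¹))) * ((d * e * (s ^ 2))⁻¹ * c * (d * e * (s ^ 2))))⁻¹)) * (s * s * (a * c * (d⁻¹ * c * d) * ((d * e * (s⁻¹))⁻¹ * c * (d * e * (s⁻¹))) * ((d * e * (s ^ 2))⁻¹ * c * (d * e * (s ^ 2))))⁻¹)⁻¹ := by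
      simp only [pow_succ, pow_zero, one_mul, mul_inv_rev, inv_inv, mul_assoc, inv_mul_cancel_left, mul_inv_cancel_left,
        inv_mul_cancel, mul_inv_cancel, mul_one]
    refine (Eq.trans ?_ (e1.trans e2)).trans ?_
    · rfl
    · rw [k]; group
  · simp only [seqG, tokG, ev_cons, ev_nil, map_mul, map_one, h0, h1, h2, h3, h4, h5, h6, mul_one, one_mul, hz]
    group
  · simp [seqG, tokG]
  · simp [seqG, tokG]

theorem relsG (h : RelU a b c d e s t u) (hP : RelP a b c d e s t) {ψ : PP →* G} (h0 : ψ (xs 0) = a) (h1 : ψ (xs 1) = b) (h2 : ψ (xs 2) = c) (h3 : ψ (xs 3) = d)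
    (h4 : ψ (xs 4) = e) (h5 : ψ (xs 5) = s) (h7 : ψ (xs 7) = t) : ∀ r ∈ rels, seqG xs ψ u⁻¹ r = 1 :=
  cmpL_sound ψ _ c_nat (natG h hP h0 h1 h2 h3 h4 h5 h7)

end

end Cfsg.Agent.Lib.ThDRun
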