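import Cfsg.Agent.Lib.ThPUp
import Cfsg.Agent.Lib.ThPT

/-!
# `³D₄(2):3` as a permutation group on 819 points
-/

set_option autoImplicit false
set_option linter.all false
set_option maxRecDepth 100000

namespace Cfsg.Agent.Lib.ThP

open Cfsg.Spor Cfsg.Agent.Lib.BenesWord Cfsg.Agent.Lib.CosetGroup Cfsg.Agent.Lib.CoxBridge Cfsg.Agent.Lib.CosetMain
open Cfsg.Agent.Lib.CosetChain Cfsg.Agent.Lib.Dce

/-- translation of the letters `a b c d e s t` to base letters -/
def mu (c : ℕ) : List ℕ := bif Nat.blt c 6 then [c] else bif Nat.beq c 6 then [7] else []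

theorem mu_lets : ∀ c, Dce.lets 9 (mu c) = true := by
  intro c
  unfold mu
  by_cases h : c < 6
  · interval_cases c <;> rfl
  · have h1 : Nat.blt c 6 = false := by rw [← Bool.not_eq_true]; simpa [Nat.blt_eq] using h
    rw [h1]
    cases Nat.beq c 6 <;> rfl

section generic
variable {tab iv : ℕ → ℕ}

/-- the relations hold in the permutation group -/
theorem relPG (c_all : allI tab iv 819 9 9 = true) (hrel : relT tab iv 819 mu relW = true) :
    RelP (xb tab iv 819 9 0) (xb tab iv 819 9 1) (xb tab iv 819 9 2) (xb tab iv 819 9 3) (xb tab iv 819 9 4)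
      (xb tab iv 819 9 5) (xb tab iv 819 9 7) := by
  have h := relP_of_words (relT_sound (μ := mu) (l := relW) c_all mu_lets hrel)
  have e0 : ev (xb tab iv 819 9) (mu 0) = xb tab iv 819 9 0 := by show ev (xb tab iv 819 9) [0] = _; simp [ev]
  have e1 : ev (xb tab iv 819 9) (mu 1) = xb tab iv 819 9 1 := by show ev (xb tab iv 819 9) [1] = _; simp [ev]
  have e2 : ev (xb tab iv 819 9) (mu 2) = xb tab iv 819 9 2 := by show ev (xb tab iv 819 9) [2] = _; simp [ev]
  have e3 : ev (xb tab iv 819 9) (mu 3) = xb tab iv 819 9 3 := by show ev (xb tab iv 819 9) [3] = _; simp [ev]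
  have e4 : ev (xb tab iv 819 9) (mu 4) = xb tab iv 819 9 4 := by show ev (xb tab iv 819 9) [4] = _; simp [ev]
  have e5 : ev (xb tab iv 819 9) (mu 5) = xb tab iv 819 9 5 := by show ev (xb tab iv 819 9) [5] = _; simp [ev]
  have e6 : ev (xb tab iv 819 9) (mu 6) = xb tab iv 819 9 7 := by show ev (xb tab iv 819 9) [7] = _; simp [ev]
  rw [e0, e1, e2, e3, e4, e5, e6] at h
  exact h

/-- the permutation group is the presented group -/
theorem pg_main (c_all : allI tab iv 819 9 9 = true) (hiv : iv 5 = 6 ∧ iv 7 = 8) (hrel : relT tab iv 819 mu relW = true)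
    {Ws : List (List ℕ)} {st : List Stage} (hch : chainH tab 9 819 Ws [] st = some 634023936) :
    Finite (PG tab iv 819 9) ∧ Nat.card (PG tab iv 819 9) = 634023936 ∧
    (∀ g : PG tab iv 819 9, (∀ b ∈ chainB [] st, (PG tab iv 819 9).subtype g b = b) → g = 1) ∧
    ∃ e : GP ≃* PG tab iv 819 9, e (gp .a) = xb tab iv 819 9 0 ∧ e (gp .b) = xb tab iv 819 9 1 ∧
      e (gp .c) = xb tab iv 819 9 2 ∧ e (gp .d) = xb tab iv 819 9 3 ∧ e (gp .e) = xb tab iv 819 9 4 ∧
      e (gp .s) = xb tab iv 819 9 5 ∧ e (gp .t) = xb tab iv 819 9 7 := by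
  obtain ⟨f, f0, f1, f2, f3, f4, f5, f6⟩ := homGP (relPG c_all hrel)
  have hon : Function.Surjective f := by
    apply onto_of c_all
    intro c hc
    interval_cases c
    · exact ⟨_, f0⟩
    · exact ⟨_, f1⟩
    · exact ⟨_, f2⟩
    · exact ⟨_, f3⟩
    · exact ⟨_, f4⟩
    · exact ⟨_, f5⟩
    · refine ⟨(gp .s)⁻¹, ?_⟩
      rw [map_inv, f5, ← xb_iv c_all (by norm_num), hiv.1]
    · exact ⟨_, f6⟩
    · refine ⟨(gp .t)⁻¹, ?_⟩
      rw [map_inv, f6, ← xb_iv c_all (by norm_num), hiv.2]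
  obtain ⟨hfin, hle⟩ := card_GP_le
  have hfP : Finite (PG tab iv 819 9) := Finite.of_surjective _ hon
  have hact : ∀ c < 9, ∀ i < 819, (PG tab iv 819 9).subtype (xb tab iv 819 9 c) i = look (tab c) i :=
    fun c hc i hi => xb_act c_all hc hi
  have hlt : ∀ c < 9, ∀ i < 819, look (tab c) i < 819 := fun c hc i hi => base_lt c_all hc hi
  have hlow := chain_ge hact hlt _ hch
  obtain ⟨hb, hc1, hc2⟩ := bij_of_card f hon hle hlow
  exact ⟨hfP, hc2, (chain_faith hact hlt _ hch (le_of_eq hc2)).2, MulEquiv.ofBijective f hb, f0, f1, f2, f3, f4, f5, f6⟩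

end generic

open ThPT

/-- the permutation group on 819 points -/
abbrev PP := PG tab iv 819 9

theorem c_rel : relT tab iv 819 mu relW = true := by decide +kernel

theorem pp_main : Finite PP ∧ Nat.card PP = 634023936 ∧ (∀ g : PP, (∀ b ∈ base, PP.subtype g b = b) → g = 1) ∧
    ∃ e : GP ≃* PP, e (gp .a) = xb tab iv 819 9 0 ∧ e (gp .b) = xb tab iv 819 9 1 ∧
      e (gp .c) = xb tab iv 819 9 2 ∧ e (gp .d) = xb tab iv 819 9 3 ∧ e (gp .e) = xb tab iv 819 9 4 ∧
      e (gp .s) = xb tab iv 819 9 5 ∧ e (gp .t) = xb tab iv 819 9 7 := by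
  obtain ⟨h1, h2, h3, h4⟩ := pg_main c_all ⟨rfl, rfl⟩ c_rel c_stP
  refine ⟨h1, h2, fun g hg => h3 g (fun b hb => hg b ?_), h4⟩
  revert hb
  revert b
  decide

instance GP_finite : Finite GP := card_GP_le.1

/-- the order of `³D₄(2):3` -/
theorem card_GP : Nat.card GP = 634023936 := by
  obtain ⟨h1, h2, h3, e, h4⟩ := pp_main
  rw [Nat.card_congr e.toEquiv, h2]

/-- homomorphism back from the permutation group -/
theorem psi {G : Type*} [Group G] {a b c d e s t : G} (h : RelP a b c d e s t) {tab iv : ℕ → ℕ}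
    (c_all : allI tab iv 819 9 9 = true) (hiv : iv 5 = 6 ∧ iv 7 = 8) (hrel : relT tab iv 819 mu relW = true)
    {Ws : List (List ℕ)} {st : List Stage} (hch : chainH tab 9 819 Ws [] st = some 634023936) :
    ∃ ψ : PG tab iv 819 9 →* G, ψ (xb tab iv 819 9 0) = a ∧ ψ (xb tab iv 819 9 1) = b ∧ ψ (xb tab iv 819 9 2) = c ∧
      ψ (xb tab iv 819 9 3) = d ∧ ψ (xb tab iv 819 9 4) = e ∧ ψ (xb tab iv 819 9 5) = s ∧ ψ (xb tab iv 819 9 7) = t ∧
      ψ.range = Subgroup.closure {a, b, c, d, e, s, t} := by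
  obtain ⟨_, _, _, E, e0, e1, e2, e3, e4, e5, e6⟩ := pg_main c_all hiv hrel hch
  obtain ⟨f, f0, f1, f2, f3, f4, f5, f6⟩ := homGP h
  have k0 : (f.comp E.symm.toMonoidHom) (xb tab iv 819 9 0) = a := by
    show f (E.symm _) = _
    rw [← e0, MulEquiv.symm_apply_apply, f0]
  have k1 : (f.comp E.symm.toMonoidHom) (xb tab iv 819 9 1) = b := by
    show f (E.symm _) = _
    rw [← e1, MulEquiv.symm_apply_apply, f1]
  have k2 : (f.comp E.symm.toMonoidHom) (xb tab iv 819 9 2) = c := by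
    show f (E.symm _) = _
    rw [← e2, MulEquiv.symm_apply_apply, f2]
  have k3 : (f.comp E.symm.toMonoidHom) (xb tab iv 819 9 3) = d := by
    show f (E.symm _) = _
    rw [← e3, MulEquiv.symm_apply_apply, f3]
  have k4 : (f.comp E.symm.toMonoidHom) (xb tab iv 819 9 4) = e := by
    show f (E.symm _) = _
    rw [← e4, MulEquiv.symm_apply_apply, f4]
  have k5 : (f.comp E.symm.toMonoidHom) (xb tab iv 819 9 5) = s := by
    show f (E.symm _) = _
    rw [← e5, MulEquiv.symm_apply_apply, f5]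
  have k6 : (f.comp E.symm.toMonoidHom) (xb tab iv 819 9 7) = t := by
    show f (E.symm _) = _
    rw [← e6, MulEquiv.symm_apply_apply, f6]
  refine ⟨f.comp E.symm.toMonoidHom, k0, k1, k2, k3, k4, k5, k6, ?_⟩
  apply le_antisymm
  · rw [MonoidHom.range_eq_map, Subgroup.map_le_iff_le_comap]
    have : (Subgroup.closure {a, b, c, d, e, s, t}).comap (f.comp E.symm.toMonoidHom) = ⊤ := by
      apply PG_top c_all
      have m : ∀ {x : G}, x ∈ ({a, b, c, d, e, s, t} : Set G) → x ∈ Subgroup.closure ({a, b, c, d, e, s, t} : Set G) :=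
        fun hx => Subgroup.subset_closure hx
      intro i hi
      rw [Subgroup.mem_comap]
      interval_cases i
      · rw [k0]; exact m (by simp)
      · rw [k1]; exact m (by simp)
      · rw [k2]; exact m (by simp)
      · rw [k3]; exact m (by simp)
      · rw [k4]; exact m (by simp)
      · rw [k5]; exact m (by simp)
      · rw [← hiv.1, xb_iv c_all (by norm_num), map_inv, k5]; exact Subgroup.inv_mem _ (m (by simp))
      · rw [k6]; exact m (by simp)
      · rw [← hiv.2, xb_iv c_all (by norm_num), map_inv, k6]; exact Subgroup.inv_mem _ (m (by simp))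
    rw [this]
  · rw [Subgroup.closure_le]
    rintro x (rfl | rfl | rfl | rfl | rfl | rfl | rfl)
    · exact ⟨_, k0⟩
    · exact ⟨_, k1⟩
    · exact ⟨_, k2⟩
    · exact ⟨_, k3⟩
    · exact ⟨_, k4⟩
    · exact ⟨_, k5⟩
    · exact ⟨_, k6⟩

end Cfsg.Agent.Lib.ThP
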