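import Cfsg.Agent.Lib.ThDR0
import Cfsg.Agent.Lib.ThDR1
import Cfsg.Agent.Lib.ThDR2
import Cfsg.Agent.Lib.ThDR3
import Cfsg.Agent.Lib.ThDR4
import Cfsg.Agent.Lib.ThDR5
import Cfsg.Agent.Lib.ThDR6
import Cfsg.Agent.Lib.ThDR7
import Cfsg.Agent.Lib.ThDR8
import Cfsg.Agent.Lib.ThDR9
import Cfsg.Agent.Lib.ThDR10
import Cfsg.Agent.Lib.ThP

/-!
# Thompson group: all deductions of the double coset enumeration
-/

set_option autoImplicit false
set_option linter.all false
set_option maxRecDepth 100000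

namespace Cfsg.Agent.Lib.ThDRun

open Cfsg.Agent.Lib.Dce Cfsg.Agent.Lib.DceBig Cfsg.Agent.Lib.ThDT Cfsg.Agent.Lib.ThP Cfsg.Agent.Lib.ThDE

/-- letters of `³D₄(2):3` -/
noncomputable def xs : ℕ → PP := ext (xb ThPT.tab ThPT.iv 819 9) 9 wd

theorem acts : (∀ c < 54, ∀ i < 819, PP.subtype (xs c) i = look (tab c) i) ∧ ∀ c < 54, ∀ i < 819, look (tab c) i < 819 := by
  apply ext_act (fun c hc i hi => ?_) (fun c hc i hi => ?_) c_mac c_len
  · rw [c_tab c hc]; exact xb_act ThPT.c_all hc hi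
  · rw [c_tab c hc]; exact base_lt ThPT.c_all hc hi

theorem hbase : ∀ b ∈ ThPT.base, b < 819 := by decide

theorem hfaith : ∀ g : PP, (∀ b ∈ ThPT.base, PP.subtype g b = b) → g = 1 := pp_main.2.2.1

theorem xs_lt {c : ℕ} (hc : c < 9) : xs c = xb ThPT.tab ThPT.iv 819 9 c := ext_lt hc

theorem hiv : ∀ c < 9, xs (ThPT.iv c) = (xs c)⁻¹ := by
  intro c hc
  rw [xs_lt hc, xs_lt (allI_spec ThPT.c_all c hc).2.1, xb_iv ThPT.c_all hc]

theorem hn0 : ∀ r ∈ rels, r.all (tokL 9) = true := by decide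

/-- all edges and stabilizing letters -/
theorem run_all {Y : Type*} {A : PP →* Equiv.Perm Y} {T : Equiv.Perm Y} {c : ℕ → Y}
    (hph : ∀ p ∈ ph, T * A (xs p.1) = A (xs p.2) * T) (hphI : ∀ p ∈ phI, T⁻¹ * A (xs p.1) = A (xs p.2) * T⁻¹)
    (hrels : ∀ r ∈ rels, seqP xs A T r = 1) (h : DceBig.Inv xs A T c get 10 ThDS.s0) : DceBig.Inv xs A T c get 4280 ThDS.s43 := by
  have h := runE_sound acts.1 acts.2 hbase hfaith hph hphI hrels hiv hn0 h ThDR0.r0
  have h := runE_sound acts.1 acts.2 hbase hfaith hph hphI hrels hiv hn0 h ThDR0.r1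
  have h := runE_sound acts.1 acts.2 hbase hfaith hph hphI hrels hiv hn0 h ThDR0.r2
  have h := runE_sound acts.1 acts.2 hbase hfaith hph hphI hrels hiv hn0 h ThDR0.r3
  have h := runE_sound acts.1 acts.2 hbase hfaith hph hphI hrels hiv hn0 h ThDR1.r4
  have h := runE_sound acts.1 acts.2 hbase hfaith hph hphI hrels hiv hn0 h ThDR1.r5
  have h := runE_sound acts.1 acts.2 hbase hfaith hph hphI hrels hiv hn0 h ThDR1.r6
  have h := runE_sound acts.1 acts.2 hbase hfaith hph hphI hrels hiv hn0 h ThDR1.r7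
  have h := runE_sound acts.1 acts.2 hbase hfaith hph hphI hrels hiv hn0 h ThDR2.r8
  have h := runE_sound acts.1 acts.2 hbase hfaith hph hphI hrels hiv hn0 h ThDR2.r9
  have h := runE_sound acts.1 acts.2 hbase hfaith hph hphI hrels hiv hn0 h ThDR2.r10
  have h := runE_sound acts.1 acts.2 hbase hfaith hph hphI hrels hiv hn0 h ThDR2.r11
  have h := runE_sound acts.1 acts.2 hbase hfaith hph hphI hrels hiv hn0 h ThDR3.r12
  have h := runE_sound acts.1 acts.2 hbase hfaith hph hphI hrels hiv hn0 h ThDR3.r13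
  have h := runE_sound acts.1 acts.2 hbase hfaith hph hphI hrels hiv hn0 h ThDR3.r14
  have h := runE_sound acts.1 acts.2 hbase hfaith hph hphI hrels hiv hn0 h ThDR3.r15
  have h := runE_sound acts.1 acts.2 hbase hfaith hph hphI hrels hiv hn0 h ThDR4.r16
  have h := runE_sound acts.1 acts.2 hbase hfaith hph hphI hrels hiv hn0 h ThDR4.r17
  have h := runE_sound acts.1 acts.2 hbase hfaith hph hphI hrels hiv hn0 h ThDR4.r18
  have h := runE_sound acts.1 acts.2 hbase hfaith hph hphI hrels hiv hn0 h ThDR4.r19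
  have h := runE_sound acts.1 acts.2 hbase hfaith hph hphI hrels hiv hn0 h ThDR5.r20
  have h := runE_sound acts.1 acts.2 hbase hfaith hph hphI hrels hiv hn0 h ThDR5.r21
  have h := runE_sound acts.1 acts.2 hbase hfaith hph hphI hrels hiv hn0 h ThDR5.r22
  have h := runE_sound acts.1 acts.2 hbase hfaith hph hphI hrels hiv hn0 h ThDR5.r23
  have h := runE_sound acts.1 acts.2 hbase hfaith hph hphI hrels hiv hn0 h ThDR6.r24
  have h := runE_sound acts.1 acts.2 hbase hfaith hph hphI hrels hiv hn0 h ThDR6.r25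
  have h := runE_sound acts.1 acts.2 hbase hfaith hph hphI hrels hiv hn0 h ThDR6.r26
  have h := runE_sound acts.1 acts.2 hbase hfaith hph hphI hrels hiv hn0 h ThDR6.r27
  have h := runE_sound acts.1 acts.2 hbase hfaith hph hphI hrels hiv hn0 h ThDR7.r28
  have h := runE_sound acts.1 acts.2 hbase hfaith hph hphI hrels hiv hn0 h ThDR7.r29
  have h := runE_sound acts.1 acts.2 hbase hfaith hph hphI hrels hiv hn0 h ThDR7.r30
  have h := runE_sound acts.1 acts.2 hbase hfaith hph hphI hrels hiv hn0 h ThDR7.r31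
  have h := runE_sound acts.1 acts.2 hbase hfaith hph hphI hrels hiv hn0 h ThDR8.r32
  have h := runE_sound acts.1 acts.2 hbase hfaith hph hphI hrels hiv hn0 h ThDR8.r33
  have h := runE_sound acts.1 acts.2 hbase hfaith hph hphI hrels hiv hn0 h ThDR8.r34
  have h := runE_sound acts.1 acts.2 hbase hfaith hph hphI hrels hiv hn0 h ThDR8.r35
  have h := runE_sound acts.1 acts.2 hbase hfaith hph hphI hrels hiv hn0 h ThDR9.r36
  have h := runE_sound acts.1 acts.2 hbase hfaith hph hphI hrels hiv hn0 h ThDR9.r37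
  have h := runE_sound acts.1 acts.2 hbase hfaith hph hphI hrels hiv hn0 h ThDR9.r38
  have h := runE_sound acts.1 acts.2 hbase hfaith hph hphI hrels hiv hn0 h ThDR9.r39
  have h := runE_sound acts.1 acts.2 hbase hfaith hph hphI hrels hiv hn0 h ThDR10.r40
  have h := runE_sound acts.1 acts.2 hbase hfaith hph hphI hrels hiv hn0 h ThDR10.r41
  have h := runE_sound acts.1 acts.2 hbase hfaith hph hphI hrels hiv hn0 h ThDR10.r42
  have h := runE_sound acts.1 acts.2 hbase hfaith hph hphI hrels hiv hn0 h ThDR10.r43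
  exact h

end Cfsg.Agent.Lib.ThDRun
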