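import Cfsg.Agent.Lib.ThDT
import Cfsg.Agent.Lib.ThDE

/-!
# Thompson group: states of the double coset enumeration
-/

set_option autoImplicit false
set_option linter.all false
set_option maxRecDepth 100000
set_option maxHeartbeats 0

namespace Cfsg.Agent.Lib.ThDS

def s0 : List (ℕ × ℕ) := [(0, 0), (0, 1), (0, 2), (0, 3), (0, 4), (0, 5), (0, 6), (0, 7), (0, 8)]
def s1 : List (ℕ × ℕ) := [(5, 34), (5, 31), (5, 13), (4, 33), (4, 32), (4, 31), (4, 30), (4, 29), (3, 28), (3, 27), (3, 26), (3, 25), (3, 24), (3, 23), (3, 13), (3, 22), (3, 21), (2, 20), (2, 19), (2, 18), (2, 17), (2, 16), (2, 15), (2, 8), (2, 7), (2, 14), (2, 12), (1, 13), (1, 10), (1, 12), (1, 7), (1, 8), (1, 4), (1, 2), (1, 0), (0, 0), (0, 1), (0, 2), (0, 3), (0, 4), (0, 5), (0, 6), (0, 7), (0, 8)]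
def s2 : List (ℕ × ℕ) := [(6, 13), (6, 37), (6, 36), (5, 35), (5, 34), (5, 31), (5, 13), (4, 33), (4, 32), (4, 31), (4, 30), (4, 29), (3, 28), (3, 27), (3, 26), (3, 25), (3, 24), (3, 23), (3, 13), (3, 22), (3, 21), (2, 20), (2, 19), (2, 18), (2, 17), (2, 16), (2, 15), (2, 8), (2, 7), (2, 14), (2, 12), (1, 13), (1, 10), (1, 12), (1, 7), (1, 8), (1, 4), (1, 2), (1, 0), (0, 0), (0, 1), (0, 2), (0, 3), (0, 4), (0, 5), (0, 6), (0, 7), (0, 8)]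
def s9 : List (ℕ × ℕ) := [(4, 39), (4, 38), (6, 13), (6, 37), (6, 36), (5, 35), (5, 34), (5, 31), (5, 13), (4, 33), (4, 32), (4, 31), (4, 30), (4, 29), (3, 28), (3, 27), (3, 26), (3, 25), (3, 24), (3, 23), (3, 13), (3, 22), (3, 21), (2, 20), (2, 19), (2, 18), (2, 17), (2, 16), (2, 15), (2, 8), (2, 7), (2, 14), (2, 12), (1, 13), (1, 10), (1, 12), (1, 7), (1, 8), (1, 4), (1, 2), (1, 0), (0, 0), (0, 1), (0, 2), (0, 3), (0, 4), (0, 5), (0, 6), (0, 7), (0, 8)]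
def s31 : List (ℕ × ℕ) := [(7, 41), (7, 40), (4, 39), (4, 38), (6, 13), (6, 37), (6, 36), (5, 35), (5, 34), (5, 31), (5, 13), (4, 33), (4, 32), (4, 31), (4, 30), (4, 29), (3, 28), (3, 27), (3, 26), (3, 25), (3, 24), (3, 23), (3, 13), (3, 22), (3, 21), (2, 20), (2, 19), (2, 18), (2, 17), (2, 16), (2, 15), (2, 8), (2, 7), (2, 14), (2, 12), (1, 13), (1, 10), (1, 12), (1, 7), (1, 8), (1, 4), (1, 2), (1, 0), (0, 0), (0, 1), (0, 2), (0, 3), (0, 4), (0, 5), (0, 6), (0, 7), (0, 8)]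
def s33 : List (ℕ × ℕ) := [(7, 43), (7, 42), (7, 41), (7, 40), (4, 39), (4, 38), (6, 13), (6, 37), (6, 36), (5, 35), (5, 34), (5, 31), (5, 13), (4, 33), (4, 32), (4, 31), (4, 30), (4, 29), (3, 28), (3, 27), (3, 26), (3, 25), (3, 24), (3, 23), (3, 13), (3, 22), (3, 21), (2, 20), (2, 19), (2, 18), (2, 17), (2, 16), (2, 15), (2, 8), (2, 7), (2, 14), (2, 12), (1, 13), (1, 10), (1, 12), (1, 7), (1, 8), (1, 4), (1, 2), (1, 0), (0, 0), (0, 1), (0, 2), (0, 3), (0, 4), (0, 5), (0, 6), (0, 7), (0, 8)]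
def s34 : List (ℕ × ℕ) := [(8, 13), (7, 43), (7, 42), (7, 41), (7, 40), (4, 39), (4, 38), (6, 13), (6, 37), (6, 36), (5, 35), (5, 34), (5, 31), (5, 13), (4, 33), (4, 32), (4, 31), (4, 30), (4, 29), (3, 28), (3, 27), (3, 26), (3, 25), (3, 24), (3, 23), (3, 13), (3, 22), (3, 21), (2, 20), (2, 19), (2, 18), (2, 17), (2, 16), (2, 15), (2, 8), (2, 7), (2, 14), (2, 12), (1, 13), (1, 10), (1, 12), (1, 7), (1, 8), (1, 4), (1, 2), (1, 0), (0, 0), (0, 1), (0, 2), (0, 3), (0, 4), (0, 5), (0, 6), (0, 7), (0, 8)]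
def s38 : List (ℕ × ℕ) := [(8, 45), (8, 44), (8, 13), (7, 43), (7, 42), (7, 41), (7, 40), (4, 39), (4, 38), (6, 13), (6, 37), (6, 36), (5, 35), (5, 34), (5, 31), (5, 13), (4, 33), (4, 32), (4, 31), (4, 30), (4, 29), (3, 28), (3, 27), (3, 26), (3, 25), (3, 24), (3, 23), (3, 13), (3, 22), (3, 21), (2, 20), (2, 19), (2, 18), (2, 17), (2, 16), (2, 15), (2, 8), (2, 7), (2, 14), (2, 12), (1, 13), (1, 10), (1, 12), (1, 7), (1, 8), (1, 4), (1, 2), (1, 0), (0, 0), (0, 1), (0, 2), (0, 3), (0, 4), (0, 5), (0, 6), (0, 7), (0, 8)]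
def s39 : List (ℕ × ℕ) := [(10, 51), (10, 50), (9, 49), (9, 48), (9, 47), (9, 46), (8, 45), (8, 44), (8, 13), (7, 43), (7, 42), (7, 41), (7, 40), (4, 39), (4, 38), (6, 13), (6, 37), (6, 36), (5, 35), (5, 34), (5, 31), (5, 13), (4, 33), (4, 32), (4, 31), (4, 30), (4, 29), (3, 28), (3, 27), (3, 26), (3, 25), (3, 24), (3, 23), (3, 13), (3, 22), (3, 21), (2, 20), (2, 19), (2, 18), (2, 17), (2, 16), (2, 15), (2, 8), (2, 7), (2, 14), (2, 12), (1, 13), (1, 10), (1, 12), (1, 7), (1, 8), (1, 4), (1, 2), (1, 0), (0, 0), (0, 1), (0, 2), (0, 3), (0, 4), (0, 5), (0, 6), (0, 7), (0, 8)]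
def s43 : List (ℕ × ℕ) := [(10, 53), (10, 52), (10, 51), (10, 50), (9, 49), (9, 48), (9, 47), (9, 46), (8, 45), (8, 44), (8, 13), (7, 43), (7, 42), (7, 41), (7, 40), (4, 39), (4, 38), (6, 13), (6, 37), (6, 36), (5, 35), (5, 34), (5, 31), (5, 13), (4, 33), (4, 32), (4, 31), (4, 30), (4, 29), (3, 28), (3, 27), (3, 26), (3, 25), (3, 24), (3, 23), (3, 13), (3, 22), (3, 21), (2, 20), (2, 19), (2, 18), (2, 17), (2, 16), (2, 15), (2, 8), (2, 7), (2, 14), (2, 12), (1, 13), (1, 10), (1, 12), (1, 7), (1, 8), (1, 4), (1, 2), (1, 0), (0, 0), (0, 1), (0, 2), (0, 3), (0, 4), (0, 5), (0, 6), (0, 7), (0, 8)]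

end Cfsg.Agent.Lib.ThDS
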