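import Cfsg.Agent.Lib.ThDRel

/-!
# Thompson group: the presented group satisfies the relators
-/

set_option autoImplicit false
set_option linter.all false
set_option maxRecDepth 100000

namespace Cfsg.Agent.Lib.ThDRun

open Cfsg.Spor Cfsg.Agent.Lib.Dce Cfsg.Agent.Lib.DceBig Cfsg.Agent.Lib.ThDT Cfsg.Agent.Lib.ThP Cfsg.Agent.Lib.ThDE

theorem ext_one {i : ℕ} {w : FreeGroup Th.Gen} (h : Th.extra[i]? = some w) :
    PresentedGroup.mk (coxRelators Th.edges ∪ {r | r ∈ Th.extra}) w = 1 :=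
  PresentedGroup.one_of_mem (Or.inr (List.mem_of_getElem? h))

theorem relUTh : RelU (PresentedGroup.of Th.Gen.a : Th) (PresentedGroup.of Th.Gen.b) (PresentedGroup.of Th.Gen.c)
    (PresentedGroup.of Th.Gen.d) (PresentedGroup.of Th.Gen.e) (PresentedGroup.of Th.Gen.s) (PresentedGroup.of Th.Gen.t)
    (PresentedGroup.of Th.Gen.u) where
  uu := ext_one (i := 27) rfl
  ua := ext_one (i := 28) rfl
  uc := ext_one (i := 29) rfl
  ue := ext_one (i := 30) rfl
  de := ext_one (i := 31) rfl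
  f1 := ext_one (i := 32) rfl
  f2 := ext_one (i := 33) rfl
  tu := ext_one (i := 34) rfl
  es := ext_one (i := 35) rfl
  us := ext_one (i := 36) rfl
  us4 := ext_one (i := 37) rfl
  du := ext_one (i := 38) rfl

theorem relPTh : RelP (PresentedGroup.of Th.Gen.a : Th) (PresentedGroup.of Th.Gen.b) (PresentedGroup.of Th.Gen.c)
    (PresentedGroup.of Th.Gen.d) (PresentedGroup.of Th.Gen.e) (PresentedGroup.of Th.Gen.s) (PresentedGroup.of Th.Gen.t) := relTh

/-- the map from the permutation group onto the subgroup -/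
theorem exists_psi {G : Type*} [Group G] {a b c d e s t : G} (h : RelP a b c d e s t) : ∃ ψ : PP →* G, ψ (xs 0) = a ∧
    ψ (xs 1) = b ∧ ψ (xs 2) = c ∧ ψ (xs 3) = d ∧ ψ (xs 4) = e ∧ ψ (xs 5) = s ∧ ψ (xs 7) = t ∧
    ψ.range = Subgroup.closure {a, b, c, d, e, s, t} := by
  obtain ⟨ψ, p0, p1, p2, p3, p4, p5, p7, pr⟩ := psi h ThPT.c_all ⟨rfl, rfl⟩ c_rel ThPT.c_stP
  refine ⟨ψ, ?_, ?_, ?_, ?_, ?_, ?_, ?_, pr⟩
  · rw [xs_lt (by norm_num)]; exact p0
  · rw [xs_lt (by norm_num)]; exact p1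
  · rw [xs_lt (by norm_num)]; exact p2
  · rw [xs_lt (by norm_num)]; exact p3
  · rw [xs_lt (by norm_num)]; exact p4
  · rw [xs_lt (by norm_num)]; exact p5
  · rw [xs_lt (by norm_num)]; exact p7

/-- all generators generate -/
theorem gen_top (K : Subgroup Th) (h : ∀ x, (PresentedGroup.of x : Th) ∈ K) : K = ⊤ := by
  rw [eq_top_iff, ← PresentedGroup.closure_range_of, Subgroup.closure_le]
  rintro _ ⟨a, rfl⟩
  exact h a

end Cfsg.Agent.Lib.ThDRun
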