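import Cfsg.Agent.Lib.ThTwX
import Cfsg.Agent.Lib.ThTwY1
import Cfsg.Agent.Lib.ThTwY2
import Cfsg.Agent.Lib.ThC3

/-!
# The twist relations: conjugation by `u` in the Thompson group
-/

set_option autoImplicit false
set_option linter.all false
set_option maxRecDepth 100000

namespace Cfsg.Agent.Lib.ThTw

open Cfsg.Spor Cfsg.Agent.Lib.BenesWord Cfsg.Agent.Lib.ThP Cfsg.Agent.Lib.ThC3 Cfsg.Agent.Lib.H10Enum

/-- all relations of the Thompson group -/
structure RelTh {G : Type*} [Group G] (a b c d e s t u : G) : Prop where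
  p : RelP a b c d e s t
  x : RelX a b c d e u
  y : RelC a c d e s t u

section
variable {G : Type*} [Group G] {a b c d e s t u : G}

/-- the relation word -/
def zz (e s u : G) : G := u⁻¹ * s * e * s⁻¹ * u * s⁻¹ * e * s * e

/-- letters -/
def letY (a c e s u : G) (n : ℕ) : G :=
  match n with
  | 0 => 1
  | 1 => a
  | 2 => c
  | 3 => e
  | 4 => s
  | 5 => u
  | 6 => zz e s u
  | _ => 1

theorem words_ThTwY1 (h : RelC a c d e s t u) (hac : (a * c) ^ 2 = 1) : ∀ w ∈ ThTwY1.R, wval (letY a c e s u) w = 1 := by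
  have ia : a⁻¹ = a := inv_of_sq h.a2
  have ic : c⁻¹ = c := inv_of_sq h.c2
  have ie : e⁻¹ = e := inv_of_sq h.e2
  have ha2 : a * a = 1 := by rw [← pow_two]; exact h.a2
  have hc2 : c * c = 1 := by rw [← pow_two]; exact h.c2
  have he2 : e * e = 1 := by rw [← pow_two]; exact h.e2
  have ca : ∀ x : G, a * (a * x) = x := fun x => by rw [← mul_assoc, ha2, one_mul]
  have cc : ∀ x : G, c * (c * x) = x := fun x => by rw [← mul_assoc, hc2, one_mul]
  have ce' : ∀ x : G, e * (e * x) = x := fun x => by rw [← mul_assoc, he2, one_mul]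
  have v2 : val (letY a c e s u) 2 = a := rfl
  have v3 : val (letY a c e s u) 3 = a⁻¹ := rfl
  have v4 : val (letY a c e s u) 4 = c := rfl
  have v5 : val (letY a c e s u) 5 = c⁻¹ := rfl
  have v6 : val (letY a c e s u) 6 = e := rfl
  have v7 : val (letY a c e s u) 7 = e⁻¹ := rfl
  have v8 : val (letY a c e s u) 8 = s := rfl
  have v9 : val (letY a c e s u) 9 = s⁻¹ := rfl
  have v10 : val (letY a c e s u) 10 = u := rfl
  have v11 : val (letY a c e s u) 11 = u⁻¹ := rfl
  have v12 : val (letY a c e s u) 12 = zz e s u := rfl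
  have v13 : val (letY a c e s u) 13 = (zz e s u)⁻¹ := rfl
  simp only [ThTwY1.R, List.forall_mem_cons, wval_cons, wval_nil, v2, v3, v4, v5, v6, v7, v8, v9, v10, v11, v12, v13]
  refine ⟨?_, ?_, ?_, ?_, ?_, ?_, ?_, ?_, ?_, ?_, ?_, ?_, ?_, ?_, ?_, ?_, ?_, ?_, ?_, ?_, ?_, ?_, ?_, ?_, by simp⟩
  · simpa only [pow_succ, pow_zero, one_mul, mul_one, mul_assoc, mul_inv_rev, inv_inv, ia, ic, ie, inv_mul_cancel_left, mul_inv_cancel_left, ha2, hc2, he2, ca, cc, ce', mul_inv_cancel, inv_mul_cancel] using h.ae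
  · simpa only [pow_succ, pow_zero, one_mul, mul_one, mul_assoc, mul_inv_rev, inv_inv, ia, ic, ie, inv_mul_cancel_left, mul_inv_cancel_left, ha2, hc2, he2, ca, cc, ce', mul_inv_cancel, inv_mul_cancel] using h.ce
  · simpa only [pow_succ, pow_zero, one_mul, mul_one, mul_assoc, mul_inv_rev, inv_inv, ia, ic, ie, inv_mul_cancel_left, mul_inv_cancel_left, ha2, hc2, he2, ca, cc, ce', mul_inv_cancel, inv_mul_cancel] using h.s7
  · simpa only [pow_succ, pow_zero, one_mul, mul_one, mul_assoc, mul_inv_rev, inv_inv, ia, ic, ie, inv_mul_cancel_left, mul_inv_cancel_left, ha2, hc2, he2, ca, cc, ce', mul_inv_cancel, inv_mul_cancel] using h.sa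
  · simpa only [pow_succ, pow_zero, one_mul, mul_one, mul_assoc, mul_inv_rev, inv_inv, ia, ic, ie, inv_mul_cancel_left, mul_inv_cancel_left, ha2, hc2, he2, ca, cc, ce', mul_inv_cancel, inv_mul_cancel] using h.sc
  · simpa only [pow_succ, pow_zero, one_mul, mul_one, mul_assoc, mul_inv_rev, inv_inv, ia, ic, ie, inv_mul_cancel_left, mul_inv_cancel_left, ha2, hc2, he2, ca, cc, ce', mul_inv_cancel, inv_mul_cancel] using h.es
  · simpa only [pow_succ, pow_zero, one_mul, mul_one, mul_assoc, mul_inv_rev, inv_inv, ia, ic, ie, inv_mul_cancel_left, mul_inv_cancel_left, ha2, hc2, he2, ca, cc, ce', mul_inv_cancel, inv_mul_cancel] using h.u2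
  · simpa only [pow_succ, pow_zero, one_mul, mul_one, mul_assoc, mul_inv_rev, inv_inv, ia, ic, ie, inv_mul_cancel_left, mul_inv_cancel_left, ha2, hc2, he2, ca, cc, ce', mul_inv_cancel, inv_mul_cancel] using h.ua
  · simpa only [pow_succ, pow_zero, one_mul, mul_one, mul_assoc, mul_inv_rev, inv_inv, ia, ic, ie, inv_mul_cancel_left, mul_inv_cancel_left, ha2, hc2, he2, ca, cc, ce', mul_inv_cancel, inv_mul_cancel] using h.uc
  · simpa only [pow_succ, pow_zero, one_mul, mul_one, mul_assoc, mul_inv_rev, inv_inv, ia, ic, ie, inv_mul_cancel_left, mul_inv_cancel_left, ha2, hc2, he2, ca, cc, ce', mul_inv_cancel, inv_mul_cancel] using h.ue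
  · simpa only [pow_succ, pow_zero, one_mul, mul_one, mul_assoc, mul_inv_rev, inv_inv, ia, ic, ie, inv_mul_cancel_left, mul_inv_cancel_left, ha2, hc2, he2, ca, cc, ce', mul_inv_cancel, inv_mul_cancel] using h.r61
  · simpa only [pow_succ, pow_zero, one_mul, mul_one, mul_assoc, mul_inv_rev, inv_inv, ia, ic, ie, inv_mul_cancel_left, mul_inv_cancel_left, ha2, hc2, he2, ca, cc, ce', mul_inv_cancel, inv_mul_cancel] using h.r62
  · simpa only [pow_succ, pow_zero, one_mul, mul_one, mul_assoc, mul_inv_rev, inv_inv, ia, ic, ie, inv_mul_cancel_left, mul_inv_cancel_left, ha2, hc2, he2, ca, cc, ce', mul_inv_cancel, inv_mul_cancel] using h.r63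
  · simpa only [pow_succ, pow_zero, one_mul, mul_one, mul_assoc, mul_inv_rev, inv_inv, ia, ic, ie, inv_mul_cancel_left, mul_inv_cancel_left, ha2, hc2, he2, ca, cc, ce', mul_inv_cancel, inv_mul_cancel] using hac
  · simpa only [mul_one] using ha2
  · simpa only [mul_one] using hc2
  · simpa only [mul_one] using he2
  · unfold zz; group
  · simp only [mul_one, mul_inv_cancel]
  · simp only [mul_one, mul_inv_cancel]
  · simp only [mul_one, mul_inv_cancel]
  · simp only [mul_one, mul_inv_cancel]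
  · simp only [mul_one, mul_inv_cancel]
  · simp only [mul_one, mul_inv_cancel]

theorem words_ThTwY2 (h : RelC a c d e s t u) (hac : (a * c) ^ 2 = 1) : ∀ w ∈ ThTwY2.R, wval (letY a c e s u) w = 1 := by
  have ia : a⁻¹ = a := inv_of_sq h.a2
  have ic : c⁻¹ = c := inv_of_sq h.c2
  have ie : e⁻¹ = e := inv_of_sq h.e2
  have ha2 : a * a = 1 := by rw [← pow_two]; exact h.a2
  have hc2 : c * c = 1 := by rw [← pow_two]; exact h.c2
  have he2 : e * e = 1 := by rw [← pow_two]; exact h.e2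
  have ca : ∀ x : G, a * (a * x) = x := fun x => by rw [← mul_assoc, ha2, one_mul]
  have cc : ∀ x : G, c * (c * x) = x := fun x => by rw [← mul_assoc, hc2, one_mul]
  have ce' : ∀ x : G, e * (e * x) = x := fun x => by rw [← mul_assoc, he2, one_mul]
  have v2 : val (letY a c e s u) 2 = a := rfl
  have v3 : val (letY a c e s u) 3 = a⁻¹ := rfl
  have v4 : val (letY a c e s u) 4 = c := rfl
  have v5 : val (letY a c e s u) 5 = c⁻¹ := rfl
  have v6 : val (letY a c e s u) 6 = e := rfl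
  have v7 : val (letY a c e s u) 7 = e⁻¹ := rfl
  have v8 : val (letY a c e s u) 8 = s := rfl
  have v9 : val (letY a c e s u) 9 = s⁻¹ := rfl
  have v10 : val (letY a c e s u) 10 = u := rfl
  have v11 : val (letY a c e s u) 11 = u⁻¹ := rfl
  have v12 : val (letY a c e s u) 12 = zz e s u := rfl
  have v13 : val (letY a c e s u) 13 = (zz e s u)⁻¹ := rfl
  simp only [ThTwY2.R, List.forall_mem_cons, wval_cons, wval_nil, v2, v3, v4, v5, v6, v7, v8, v9, v10, v11, v12, v13]
  refine ⟨?_, ?_, ?_, ?_, ?_, ?_, ?_, ?_, ?_, ?_, ?_, ?_, ?_, ?_, ?_, ?_, ?_, ?_, ?_, ?_, ?_, ?_, ?_, ?_, by simp⟩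
  · simpa only [pow_succ, pow_zero, one_mul, mul_one, mul_assoc, mul_inv_rev, inv_inv, ia, ic, ie, inv_mul_cancel_left, mul_inv_cancel_left, ha2, hc2, he2, ca, cc, ce', mul_inv_cancel, inv_mul_cancel] using h.ae
  · simpa only [pow_succ, pow_zero, one_mul, mul_one, mul_assoc, mul_inv_rev, inv_inv, ia, ic, ie, inv_mul_cancel_left, mul_inv_cancel_left, ha2, hc2, he2, ca, cc, ce', mul_inv_cancel, inv_mul_cancel] using h.ce
  · simpa only [pow_succ, pow_zero, one_mul, mul_one, mul_assoc, mul_inv_rev, inv_inv, ia, ic, ie, inv_mul_cancel_left, mul_inv_cancel_left, ha2, hc2, he2, ca, cc, ce', mul_inv_cancel, inv_mul_cancel] using h.s7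
  · simpa only [pow_succ, pow_zero, one_mul, mul_one, mul_assoc, mul_inv_rev, inv_inv, ia, ic, ie, inv_mul_cancel_left, mul_inv_cancel_left, ha2, hc2, he2, ca, cc, ce', mul_inv_cancel, inv_mul_cancel] using h.sa
  · simpa only [pow_succ, pow_zero, one_mul, mul_one, mul_assoc, mul_inv_rev, inv_inv, ia, ic, ie, inv_mul_cancel_left, mul_inv_cancel_left, ha2, hc2, he2, ca, cc, ce', mul_inv_cancel, inv_mul_cancel] using h.sc
  · simpa only [pow_succ, pow_zero, one_mul, mul_one, mul_assoc, mul_inv_rev, inv_inv, ia, ic, ie, inv_mul_cancel_left, mul_inv_cancel_left, ha2, hc2, he2, ca, cc, ce', mul_inv_cancel, inv_mul_cancel] using h.es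
  · simpa only [pow_succ, pow_zero, one_mul, mul_one, mul_assoc, mul_inv_rev, inv_inv, ia, ic, ie, inv_mul_cancel_left, mul_inv_cancel_left, ha2, hc2, he2, ca, cc, ce', mul_inv_cancel, inv_mul_cancel] using h.u2
  · simpa only [pow_succ, pow_zero, one_mul, mul_one, mul_assoc, mul_inv_rev, inv_inv, ia, ic, ie, inv_mul_cancel_left, mul_inv_cancel_left, ha2, hc2, he2, ca, cc, ce', mul_inv_cancel, inv_mul_cancel] using h.ua
  · simpa only [pow_succ, pow_zero, one_mul, mul_one, mul_assoc, mul_inv_rev, inv_inv, ia, ic, ie, inv_mul_cancel_left, mul_inv_cancel_left, ha2, hc2, he2, ca, cc, ce', mul_inv_cancel, inv_mul_cancel] using h.uc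
  · simpa only [pow_succ, pow_zero, one_mul, mul_one, mul_assoc, mul_inv_rev, inv_inv, ia, ic, ie, inv_mul_cancel_left, mul_inv_cancel_left, ha2, hc2, he2, ca, cc, ce', mul_inv_cancel, inv_mul_cancel] using h.ue
  · simpa only [pow_succ, pow_zero, one_mul, mul_one, mul_assoc, mul_inv_rev, inv_inv, ia, ic, ie, inv_mul_cancel_left, mul_inv_cancel_left, ha2, hc2, he2, ca, cc, ce', mul_inv_cancel, inv_mul_cancel] using h.r61
  · simpa only [pow_succ, pow_zero, one_mul, mul_one, mul_assoc, mul_inv_rev, inv_inv, ia, ic, ie, inv_mul_cancel_left, mul_inv_cancel_left, ha2, hc2, he2, ca, cc, ce', mul_inv_cancel, inv_mul_cancel] using h.r62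
  · simpa only [pow_succ, pow_zero, one_mul, mul_one, mul_assoc, mul_inv_rev, inv_inv, ia, ic, ie, inv_mul_cancel_left, mul_inv_cancel_left, ha2, hc2, he2, ca, cc, ce', mul_inv_cancel, inv_mul_cancel] using h.r63
  · simpa only [pow_succ, pow_zero, one_mul, mul_one, mul_assoc, mul_inv_rev, inv_inv, ia, ic, ie, inv_mul_cancel_left, mul_inv_cancel_left, ha2, hc2, he2, ca, cc, ce', mul_inv_cancel, inv_mul_cancel] using hac
  · simpa only [mul_one] using ha2
  · simpa only [mul_one] using hc2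
  · simpa only [mul_one] using he2
  · unfold zz; group
  · simp only [mul_one, mul_inv_cancel]
  · simp only [mul_one, mul_inv_cancel]
  · simp only [mul_one, mul_inv_cancel]
  · simp only [mul_one, mul_inv_cancel]
  · simp only [mul_one, mul_inv_cancel]
  · simp only [mul_one, mul_inv_cancel]

theorem smul_base {S : Set G} {x : G} (hx : x ∈ Subgroup.closure S) :
    x • ((1 : G) : G ⧸ Subgroup.closure S) = ((1 : G) : G ⧸ Subgroup.closure S) := by
  show ((x * 1 : G) : G ⧸ Subgroup.closure S) = _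
  rw [mul_one, QuotientGroup.eq, mul_one]
  exact Subgroup.inv_mem _ hx

theorem mem_of_smul {H : Subgroup G} {x : G} (hx : ((1 : G) : G ⧸ H) = x • ((1 : G) : G ⧸ H)) : x ∈ H := by
  have h1 : ((1 : G) : G ⧸ H) = ((x * 1 : G) : G ⧸ H) := hx
  rw [QuotientGroup.eq, inv_one, one_mul, mul_one] at h1
  exact h1

theorem testBit14 {x : ℕ → G} (h0 : (x 0)⁻¹ = x 0) (h1 : (x 1)⁻¹ = x 1) (h2 : (x 2)⁻¹ = x 2) (h3 : (x 3)⁻¹ = x 3) :
    ∀ i, (14 : ℕ).testBit i = true → (x i)⁻¹ = x i := by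
  intro i hi
  have hlt : i < 4 := by
    by_contra hc
    rw [Nat.testBit_lt_two_pow] at hi
    · simp at hi
    · exact lt_of_lt_of_le (by norm_num : (14 : ℕ) < 2 ^ 4) (Nat.pow_le_pow_right (by norm_num) (by omega))
  interval_cases i
  · exact h0
  · exact h1
  · exact h2
  · exact h3

theorem f_src : fsrc 201326592 = 0 := by decide +kernel
theorem f_dst : fdst 201326592 = 0 := by decide +kernel
theorem f_let : flet 201326592 = 12 := by decide +kernel

theorem zz_mem_s (h : RelC a c d e s t u) (hac : (a * c) ^ 2 = 1) : zz e s u ∈ Subgroup.closure ({s} : Set G) := by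
  have hiv := testBit14 (x := letY a c e s u) inv_one (inv_of_sq h.a2) (inv_of_sq h.c2) (inv_of_sq h.e2)
  have hsub : ∀ i ∈ [4], letY a c e s u i • ((1 : G) : G ⧸ Subgroup.closure ({s} : Set G)) = ((1 : G) : G ⧸ Subgroup.closure ({s} : Set G)) := by
    intro i hi
    rw [List.mem_singleton] at hi
    subst hi
    exact smul_base (x := s) (Subgroup.subset_closure (by simp))
  have hg := sound (p := ((1 : G) : G ⧸ Subgroup.closure ({s} : Set G))) (x := letY a c e s u) rfl hiv (words_ThTwY1 h hac) hsub ThTwY1.ok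
  have h1 := hg 146 (by norm_num)
  unfold Good at h1
  rw [ThTwY1.tgt6, f_src, f_dst, f_let, pts_zero] at h1
  exact mem_of_smul h1

theorem zz_mem_2 (h : RelC a c d e s t u) (hac : (a * c) ^ 2 = 1) : zz e s u ∈ Subgroup.closure ({a, c, e} : Set G) := by
  have hiv := testBit14 (x := letY a c e s u) inv_one (inv_of_sq h.a2) (inv_of_sq h.c2) (inv_of_sq h.e2)
  have hsub : ∀ i ∈ [1, 2, 3], letY a c e s u i • ((1 : G) : G ⧸ Subgroup.closure ({a, c, e} : Set G)) = ((1 : G) : G ⧸ Subgroup.closure ({a, c, e} : Set G)) := by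
    intro i hi
    simp only [List.mem_cons, List.not_mem_nil, or_false] at hi
    rcases hi with rfl | rfl | rfl
    · exact smul_base (x := a) (Subgroup.subset_closure (by simp))
    · exact smul_base (x := c) (Subgroup.subset_closure (by simp))
    · exact smul_base (x := e) (Subgroup.subset_closure (by simp))
  have hg := sound (p := ((1 : G) : G ⧸ Subgroup.closure ({a, c, e} : Set G))) (x := letY a c e s u) rfl hiv (words_ThTwY2 h hac) hsub ThTwY2.ok
  have h1 := hg 196 (by norm_num)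
  unfold Good at h1
  rw [ThTwY2.tgt6, f_src, f_dst, f_let, pts_zero] at h1
  exact mem_of_smul h1

theorem comm_of_sq {x y : G} (hx : x⁻¹ = x) (hy : y⁻¹ = y) (h : (x * y) ^ 2 = 1) : Commute x y := by
  rw [pow_two] at h
  have h2 : x * y = (x * y)⁻¹ := eq_inv_of_mul_eq_one_left h
  rw [mul_inv_rev, hx, hy] at h2
  exact h2

theorem sq_of_mem (h : RelC a c d e s t u) (hac : (a * c) ^ 2 = 1) {x : G} (hx : x ∈ Subgroup.closure ({a, c, e} : Set G)) :
    x ^ 2 = 1 := by
  have ia : a⁻¹ = a := inv_of_sq h.a2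
  have ic : c⁻¹ = c := inv_of_sq h.c2
  have ie : e⁻¹ = e := inv_of_sq h.e2
  have k1 : Commute a c := comm_of_sq ia ic hac
  have k2 : Commute a e := comm_of_sq ia ie h.ae
  have k3 : Commute c e := comm_of_sq ic ie h.ce
  have hA : ∀ x ∈ Subgroup.closure ({a, c, e} : Set G), ∀ y ∈ ({a, c, e} : Set G), Commute x y := by
    intro x hx y hy
    induction hx using Subgroup.closure_induction with
    | mem x hx =>
      rcases hx with rfl | rfl | rfl <;> rcases hy with rfl | rfl | rfl <;>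
        first | exact Commute.refl _ | assumption | (apply Commute.symm; assumption)
    | one => exact Commute.one_left _
    | mul x y _ _ hx hy => exact hx.mul_left hy
    | inv x _ hx => exact hx.inv_left
  have hB : ∀ x ∈ Subgroup.closure ({a, c, e} : Set G), ∀ y ∈ Subgroup.closure ({a, c, e} : Set G), Commute x y := by
    intro x hx y hy
    induction hy using Subgroup.closure_induction with
    | mem y hy => exact hA x hx y hy
    | one => exact Commute.one_right _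
    | mul y z _ _ hy hz => exact hy.mul_right hz
    | inv y _ hy => exact hy.inv_right
  induction hx using Subgroup.closure_induction with
  | mem x hx =>
    rcases hx with rfl | rfl | rfl
    · exact h.a2
    · exact h.c2
    · exact h.e2
  | one => simp
  | mul x y hx' hy' hx hy => rw [(hB x hx' y hy').mul_pow, hx, hy, one_mul]
  | inv x _ hx => rw [inv_pow, hx, inv_one]

theorem zz_one (h : RelC a c d e s t u) (hac : (a * c) ^ 2 = 1) : zz e s u = 1 := by
  have h1 := sq_of_mem h hac (zz_mem_2 h hac)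
  have h2 : (zz e s u) ^ 7 = 1 := by
    have h3 := zz_mem_s h hac
    rw [Subgroup.mem_closure_singleton] at h3
    obtain ⟨n, hn⟩ := h3
    rw [← hn, ← zpow_natCast, ← zpow_mul, mul_comm, zpow_mul, zpow_natCast, h.s7, one_zpow]
  calc zz e s u = (zz e s u) ^ 7 * ((zz e s u) ^ 2)⁻¹ * ((zz e s u) ^ 2)⁻¹ * ((zz e s u) ^ 2)⁻¹ := by group
    _ = 1 := by rw [h1, h2]; group

/-- conjugation by `u` -/
theorem RelTh.tw (h : RelTh a b c d e s t u) :
    u⁻¹ * a * u = a ∧ u⁻¹ * c * u = c ∧ u⁻¹ * e * u = e ∧ u⁻¹ * t * u = t⁻¹ ∧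
    u⁻¹ * (b⁻¹ * (a * c) * b) * u = (b⁻¹ * (a * c) * b) * e ∧
    u⁻¹ * (s ^ 2 * e * (s ^ 2)⁻¹) * u = s ^ 2 * e * (s ^ 2)⁻¹ ∧
    u⁻¹ * (d * c * d) * u = b * a * c * b * d * c * d * e * d * c * b * a * d * c * b * d * c * d ∧
    u⁻¹ * (s * e * s⁻¹) * u = e * s⁻¹ * e * s := by
  have hy := h.y
  have hac : (a * c) ^ 2 = 1 := h.p.toRelL.ac2
  have ia : a⁻¹ = a := inv_of_sq hy.a2
  have ib : b⁻¹ = b := inv_of_sq h.p.b2
  have ic : c⁻¹ = c := inv_of_sq hy.c2
  have ie : e⁻¹ = e := inv_of_sq hy.e2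
  have key : ∀ x : G, x⁻¹ = x → u⁻¹ * x⁻¹ * u * x = 1 → u⁻¹ * x * u = x := by
    intro x hx h1
    rw [hx] at h1
    have h2 := eq_inv_of_mul_eq_one_left h1
    rw [h2, hx]
  refine ⟨key a ia hy.ua, key c ic hy.uc, key e ie hy.ue, ?_, ?_, ?_, h.x.tw, ?_⟩
  · have h1 := hy.tu
    rw [mul_inv_eq_one] at h1
    exact h1
  · -- `z = (ac)^b`
    have hz : (b⁻¹ * (a * c) * b)⁻¹ = b⁻¹ * (a * c) * b := by
      have h1 : (a * c)⁻¹ = a * c := inv_of_sq hac
      have : (b⁻¹ * (a * c) * b)⁻¹ = b⁻¹ * (a * c)⁻¹ * b := by group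
      rw [this, h1]
    have h5 := h.x.r5
    rw [hz, mul_inv_eq_one] at h5
    have h6 : u⁻¹ * (b⁻¹ * (a * c) * b) * u = e * (b⁻¹ * (a * c) * b)⁻¹ := eq_mul_inv_of_mul_eq h5
    rw [h6, hz]
    have k1 : Commute e a := (comm_of_sq ia ie hy.ae).symm
    have k2 : Commute e c := (comm_of_sq ic ie hy.ce).symm
    have k3 : Commute e b := (comm_of_sq ib ie h.p.be).symm
    exact ((k3.inv_right.mul_right (k1.mul_right k2)).mul_right k3).eq
  · have h1 := hy.r61
    have h2 : ((s ^ 2)⁻¹ * u * s ^ 2)⁻¹ * e * ((s ^ 2)⁻¹ * u * s ^ 2) = e := by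
      have h3 : e⁻¹ * (((s ^ 2)⁻¹ * u * s ^ 2)⁻¹ * e * ((s ^ 2)⁻¹ * u * s ^ 2)) = 1 := by
        rw [← h1]; simp only [mul_assoc]
      exact (inv_mul_eq_one.mp h3).symm
    have h4 : s ^ 2 * (((s ^ 2)⁻¹ * u * s ^ 2)⁻¹ * e * ((s ^ 2)⁻¹ * u * s ^ 2)) * (s ^ 2)⁻¹ = s ^ 2 * e * (s ^ 2)⁻¹ := by rw [h2]
    calc u⁻¹ * (s ^ 2 * e * (s ^ 2)⁻¹) * u =
        s ^ 2 * (((s ^ 2)⁻¹ * u * s ^ 2)⁻¹ * e * ((s ^ 2)⁻¹ * u * s ^ 2)) * (s ^ 2)⁻¹ := by group
      _ = _ := h4
  · have h1 := zz_one hy hac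
    unfold zz at h1
    have h2 : u⁻¹ * (s * e * s⁻¹) * u * (e * s⁻¹ * e * s)⁻¹ = 1 := by
      rw [← h1]
      simp only [mul_inv_rev, ie, inv_inv, mul_assoc]
    exact mul_inv_eq_one.mp h2

end

/-- the relators with `b` of group (4) -/
def relBW : List Wd := [
  Wd.mul (Wd.mul (Wd.mul (Wd.mul (Wd.inv (Wd.g 7)) (Wd.inv zW)) (Wd.g 7)) zW) (Wd.inv (Wd.g 4)),
  Wd.mul (Wd.mul (Wd.mul (Wd.mul (Wd.inv (Wd.mul (Wd.mul (Wd.inv (Wd.g 3)) (Wd.g 7)) (Wd.g 3))) (Wd.inv zW))
    (Wd.mul (Wd.mul (Wd.inv (Wd.g 3)) (Wd.g 7)) (Wd.g 3))) zW)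
    (Wd.inv (Wd.mul (Wd.mul (Wd.mul (Wd.mul (Wd.mul (Wd.g 7) (Wd.g 4)) zW) (Wd.mul (Wd.mul (Wd.inv (Wd.g 3)) (Wd.g 7)) (Wd.g 3))) (Wd.g 4)) (Wd.g 2)))]

theorem relsB_XT : ∀ W ∈ relBW, W.eval XT = 1 := by
  intro W hW
  have h2 : W.eval (pk8 Th.a Th.b Th.c Th.d Th.e Th.s Th.t Th.u) ∈ Th.extra := by
    revert W
    simp only [relBW, List.forall_mem_cons, Th.extra]
    refine ⟨?_, ?_, by simp⟩
    · exact List.mem_of_getElem? (i := 32) rfl
    · exact List.mem_of_getElem? (i := 33) rfl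
  have h3 : (PresentedGroup.mk (coxRelators Th.edges ∪ {r | r ∈ Th.extra})
      (W.eval (pk8 Th.a Th.b Th.c Th.d Th.e Th.s Th.t Th.u))) = 1 := PresentedGroup.one_of_mem (Or.inr h2)
  rw [← h3]
  clear h2 h3 hW
  induction W with
  | one => rfl
  | g c =>
    show pk8 _ _ _ _ _ _ _ _ c = PresentedGroup.mk _ (pk8 _ _ _ _ _ _ _ _ c)
    unfold pk8
    split <;> rfl
  | inv u ih => simp only [Wd.eval]; rw [ih]; rfl
  | mul u v ihu ihv => simp only [Wd.eval]; rw [ihu, ihv]; rfl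
  | pow u m ih => simp only [Wd.eval]; rw [ih]; rfl

/-- the relations hold in the Thompson group -/
theorem relTh_XT : RelTh (XT 0) (XT 1) (XT 2) (XT 3) (XT 4) (XT 5) (XT 6) (XT 7) := by
  have h := relsB_XT
  simp only [relBW, zW, List.forall_mem_cons, Wd.eval] at h
  obtain ⟨h1, h2, _⟩ := h
  have k := relP_XT
  have l := relC_XT
  exact ⟨k, ⟨k.a2, k.b2, k.c2, k.d2, k.e2, k.ab, k.ae, k.bc, k.bd, k.be, k.acd, k.ce, k.de, k.bcde, l.u2, l.ua, l.uc, l.ue,
    l.r4, h1, h2⟩, l⟩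

end Cfsg.Agent.Lib.ThTw
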