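import Cfsg.Agent.Lib.ThDTh
import Cfsg.Agent.Lib.ThTw

/-!
# Thompson group: twisting relations in terms of letters
-/

set_option autoImplicit false
set_option linter.all false
set_option maxRecDepth 100000

namespace Cfsg.Agent.Lib.ThDRun

open Cfsg.Spor Cfsg.Agent.Lib.Dce Cfsg.Agent.Lib.DceBig Cfsg.Agent.Lib.ThDT Cfsg.Agent.Lib.ThP Cfsg.Agent.Lib.ThDE

section
variable {G : Type*} [Group G] {a b c d e s t u : G}

/-- the twisting relations as equations -/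
structure Tw (a b c d e s t u : G) : Prop where
  ha : u⁻¹ * a * u = a
  hc : u⁻¹ * c * u = c
  he : u⁻¹ * e * u = e
  ht : u⁻¹ * t * u = t⁻¹
  hf : u⁻¹ * (b⁻¹ * (a * c) * b) * u = (b⁻¹ * (a * c) * b) * e
  hs : u⁻¹ * (s ^ 2 * e * (s ^ 2)⁻¹) * u = s ^ 2 * e * (s ^ 2)⁻¹
  hd : u⁻¹ * (d * c * d) * u = b * a * c * b * d * c * d * e * d * c * b * a * d * c * b * d * c * d

theorem swap {x y u : G} (h : u⁻¹ * x * u = y) : u⁻¹ * x = y * u⁻¹ := by rw [← h]; group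

theorem w9 : xs 9 = ev xs [3, 2, 3] := by
  have := eqw (v := [9]) (w := [3, 2, 3]) (by decide +kernel)
  rwa [ev_cons, ev_nil, mul_one] at this
theorem w10 : xs 10 = ev xs [5, 5, 4, 6, 6] := by
  have := eqw (v := [10]) (w := [5, 5, 4, 6, 6]) (by decide +kernel)
  rwa [ev_cons, ev_nil, mul_one] at this
theorem w11 : xs 11 = ev xs [1, 0, 2, 1] := by
  have := eqw (v := [11]) (w := [1, 0, 2, 1]) (by decide +kernel)
  rwa [ev_cons, ev_nil, mul_one] at this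
theorem w12 : xs 12 = ev xs [1, 0, 2, 1, 3, 2, 3, 4, 3, 2, 1, 0, 3, 2, 1, 3, 2, 3] := by
  have := eqw (v := [12]) (w := [1, 0, 2, 1, 3, 2, 3, 4, 3, 2, 1, 0, 3, 2, 1, 3, 2, 3]) (by decide +kernel)
  rwa [ev_cons, ev_nil, mul_one] at this
theorem w13 : xs 13 = ev xs [1, 0, 2, 1, 4] := by
  have := eqw (v := [13]) (w := [1, 0, 2, 1, 4]) (by decide +kernel)
  rwa [ev_cons, ev_nil, mul_one] at this

theorem phG (h : Tw a b c d e s t u) (hP : RelP a b c d e s t) {ψ : PP →* G} (h0 : ψ (xs 0) = a) (h1 : ψ (xs 1) = b) (h2 : ψ (xs 2) = c)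
    (h3 : ψ (xs 3) = d) (h4 : ψ (xs 4) = e) (h5 : ψ (xs 5) = s) (h7 : ψ (xs 7) = t) :
    ∀ p ∈ ph, u⁻¹ * ψ (xs p.1) = ψ (xs p.2) * u⁻¹ := by
  obtain ⟨h6, h8⟩ := ev9 (a := a) (b := b) (c := c) (d := d) (e := e) h0 h1 h2 h3 h4 h5 h7
  have ib := hP.toRelL.ib
  simp only [ph, List.forall_mem_cons]
  refine ⟨?_, ?_, ?_, ?_, ?_, ?_, ?_, ?_, fun _ h => absurd h List.not_mem_nil⟩
  · rw [h0]; exact swap h.ha
  · rw [h2]; exact swap h.hc
  · rw [h4]; exact swap h.he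
  · rw [h7, h8]; exact swap h.ht
  · rw [w9, w12]
    simp only [ev_cons, ev_nil, map_mul, map_one, h0, h1, h2, h3, h4, h5, h6, mul_one]
    have := swap h.hd
    simp only [mul_assoc] at this ⊢
    exact this
  · rw [w10]
    simp only [ev_cons, ev_nil, map_mul, map_one, h0, h1, h2, h3, h4, h5, h6, mul_one]
    have := swap h.hs
    simp only [pow_two, mul_inv_rev, mul_assoc] at this ⊢
    exact this
  · rw [w11, w13]
    simp only [ev_cons, ev_nil, map_mul, map_one, h0, h1, h2, h3, h4, h5, h6, mul_one]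
    have := swap h.hf
    simp only [ib, mul_assoc] at this ⊢
    exact this
  · rw [h7, h8]
    apply swap
    have := congrArg (·⁻¹) h.ht
    simp only [mul_inv_rev, inv_inv] at this
    rw [mul_assoc]; exact this

theorem c_phI : ∀ p ∈ phI, (p.2, p.1) ∈ ph := by decide

theorem twTh : Tw (PresentedGroup.of Th.Gen.a : Th) (PresentedGroup.of Th.Gen.b) (PresentedGroup.of Th.Gen.c)
    (PresentedGroup.of Th.Gen.d) (PresentedGroup.of Th.Gen.e) (PresentedGroup.of Th.Gen.s) (PresentedGroup.of Th.Gen.t)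
    (PresentedGroup.of Th.Gen.u) := by
  obtain ⟨h1, h2, h3, h4, h5, h6, h7, h8⟩ := ThTw.relTh_XT.tw
  exact ⟨h1, h2, h3, h4, h5, h6, h7⟩

end

end Cfsg.Agent.Lib.ThDRun
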