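import Cfsg.Agent.Lib.ThC4G
import Cfsg.Prelude.Def_Exceptional
import Cfsg.Prelude.Def_Sporadic

/-!
# The Thompson group as a matrix group (helper2)
-/

set_option autoImplicit false
set_option linter.all false
set_option Elab.async false

namespace Cfsg.Agent.Lib.ThGL

open Cfsg.Spor Cfsg.Agent.Lib.ThRho Cfsg.Agent.Lib.ThC4G

/-- `³D₄(2)` in the Thompson group -/
noncomputable def L : Subgroup Th := ThP.Lsub (X 0) (X 1) (X 2) (X 3) (X 4) (X 5)

theorem L_le : L ≤ P := ThP.RelP.L_le _ _ _ _ _ _ _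

theorem L_is : Cfsg.Is3D4 L := by
  refine ⟨relP.simple_L a_ne, 2, Nat.prime_two.isPrimePow, ?_⟩
  have h : Nat.card L = 211341312 := relP.card_L a_ne
  rw [h]; norm_num

theorem rho_a : rho (X 0) ≠ 1 :=
  rho_ne (W := BenesWord.Wd.g 0) (by decide) (i := 9) (j := 9) (by norm_num) (by norm_num) (by decide +kernel)

theorem rho_inj (h1 : IsSimpleGroup Th) : Function.Injective rho := by
  rw [← MonoidHom.ker_eq_bot_iff]
  rcases h1.eq_bot_or_eq_top_of_normal rho.ker inferInstance with h | h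
  · exact h
  · exfalso
    apply rho_a
    have : X 0 ∈ rho.ker := by rw [h]; trivial
    exact this

theorem is3D4_equiv {G K : Type*} [Group G] [Group K] (e : G ≃* K) (h : Cfsg.Is3D4 G) : Cfsg.Is3D4 K := by
  obtain ⟨h1, q, hq, hc⟩ := h
  haveI := h1
  haveI : Nontrivial K := e.symm.toEquiv.nontrivial
  exact ⟨IsSimpleGroup.isSimpleGroup_of_surjective e.toMonoidHom e.surjective, q, hq, by rw [← Nat.card_congr e.toEquiv, hc]⟩

theorem transport {G K : Type*} [Group G] [Group K] (e : G ≃* K) (h1 : Cfsg.IsTh G) (P L : Subgroup G) (hLP : L ≤ P)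
    {n : ℕ} (h2 : P.index = n) (hL : Cfsg.Is3D4 L) :
    Cfsg.IsTh K ∧ ∃ K' : Subgroup K, K'.index = n ∧ ∃ L' : Subgroup K, L' ≤ K' ∧ Cfsg.Is3D4 L' := by
  haveI := h1.1
  haveI : Nontrivial K := e.symm.toEquiv.nontrivial
  refine ⟨⟨IsSimpleGroup.isSimpleGroup_of_surjective e.toMonoidHom e.surjective, ?_⟩, P.map (e : G →* K), ?_,
    L.map (e : G →* K), Subgroup.map_mono hLP, ?_⟩
  · rw [← Nat.card_congr e.toEquiv]; exact h1.2
  · rw [Subgroup.index_map_equiv P e]; exact h2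
  · exact is3D4_equiv (L.equivMapOfInjective (e : G →* K) e.injective) hL

/-- the matrix group -/
theorem matrix_real (h1 : Cfsg.IsTh Th) (h2 : P.index = 143127000) :
    ∃ H : Subgroup (Matrix.GeneralLinearGroup (Fin 248) (ZMod 3)), Cfsg.IsTh H ∧ ∃ K : Subgroup H, K.index = 143127000 ∧
      ∃ L : Subgroup H, L ≤ K ∧ Cfsg.Is3D4 L :=
  ⟨rho.range, transport (MonoidHom.ofInjective (rho_inj h1.1)) h1 P L L_le h2 L_is⟩

/-- the subgroup `P` in the form of S1706 -/
theorem P_eq : (Subgroup.closure ({Th.a, Th.b, Th.c, Th.d, Th.e, Th.s, Th.t} : Set (FreeGroup Th.Gen))).map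
    (PresentedGroup.mk (coxRelators Th.edges ∪ {r | r ∈ Th.extra})) = P := by
  rw [MonoidHom.map_closure]
  show _ = Subgroup.closure _
  congr 1
  simp only [Set.image_insert_eq, Set.image_singleton]
  rfl

end Cfsg.Agent.Lib.ThGL
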