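import Cfsg.Agent.Lib.ThTab

/-!
The representation of degree 248 of the presented Thompson group Th over the field with three elements as a
homomorphism, with an evaluator for words (helper30).

Letters: `0 = a, 1 = b, 2 = c, 3 = d, 4 = e, 5 = s, 6 = t, 7 = u`; words are `BenesWord.Wd` with letters `< 8`.
`rho : Th →* GM`, `X c : Th` the generators, `ev W` the packed matrix of the word `W`.
-/

set_option autoImplicit false
set_option linter.all false
set_option maxRecDepth 100000
set_option Elab.async false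

namespace Cfsg.Agent.Lib.ThRho

open Cfsg.Spor Cfsg.Agent.Lib.H58SM Cfsg.Agent.Lib.BenesWord Cfsg.Agent.Lib.MatF3 Cfsg.Agent.Lib.CosetGroup
open Cfsg.Agent.Lib.CoxBridge Cfsg.Agent.Lib.ThTab

/-- the matrix group -/
abbrev GM : Type := (Matrix (Fin 248) (Fin 248) (ZMod 3))ˣ

/-- the matrix of a packed number -/
def MT (A : ℕ) : Matrix (Fin 248) (Fin 248) (ZMod 3) := Mt 248 S A

/-- validity -/
def OkT (A : ℕ) : Prop := Ok 248 S A

theorem rel_0 : E0.all (fun W => Nat.beq (ev W) one) = true := by decide +kernel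

theorem rel_1 : E1.all (fun W => Nat.beq (ev W) one) = true := by decide +kernel

theorem rel_2 : E2.all (fun W => Nat.beq (ev W) one) = true := by decide +kernel

theorem rel_3 : E3.all (fun W => Nat.beq (ev W) one) = true := by decide +kernel

theorem rel_4 : E4.all (fun W => Nat.beq (ev W) one) = true := by decide +kernel

theorem rel_5 : E5.all (fun W => Nat.beq (ev W) one) = true := by decide +kernel

theorem rel_ok : extraW.all (fun W => Nat.beq (ev W) one) = true := by
  unfold extraW
  simp only [List.all_append, rel_0, rel_1, rel_2, rel_3, rel_4, rel_5, Bool.and_self, Bool.and_true]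

theorem iv_lt : ∀ c < 11, iv c < 11 := by
  intro c _
  by_cases h : c < 11
  · revert c; decide
  · omega

theorem iv_ge (c : ℕ) (h : 11 ≤ c) : iv c = c := by
  have h5 : Nat.ble 5 c = true := Nat.ble_eq_true_of_le (by omega)
  have h7 : Nat.ble c 7 = false := by
    cases h : Nat.ble c 7 with
    | false => rfl
    | true => have := Nat.le_of_ble_eq_true h; omega
  have h10 : Nat.ble c 10 = false := by
    cases h : Nat.ble c 10 with
    | false => rfl
    | true => have := Nat.le_of_ble_eq_true h; omega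
  unfold iv
  rw [h5, h7, h10]
  rfl

theorem iv_iv (c : ℕ) : iv (iv c) = c := by
  by_cases h : c < 11
  · revert c; decide
  · rw [iv_ge c (by omega), iv_ge c (by omega)]

theorem okT (c : ℕ) (hc : c < 11) : OkT (TB c) := ok_of good (alln_iff.1 ok_all c hc)

theorem mul_spec {A M : ℕ} (hA : OkT A) (hM : OkT M) : OkT (mulT A M) ∧ MT (mulT A M) = MT A * MT M :=
  mulF_spec good hA hM

theorem one_eq : MT one = 1 := (one_spec good one_hi).2
theorem one_ok : OkT one := (one_spec good one_hi).1

theorem inv_mul (c : ℕ) (hc : c < 11) : Mt 248 S (TB c) * Mt 248 S (TB (iv c)) = 1 := by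
  have h := Nat.eq_of_beq_eq_true (alln_iff.1 inv_ok0 c hc)
  have h1 := (mul_spec (okT c hc) (okT _ (iv_lt c hc))).2
  rw [h, one_eq] at h1
  exact h1.symm

theorem exists_units : ∃ x : ℕ → GM, (∀ c < 11, (x c : Matrix (Fin 248) (Fin 248) (ZMod 3)) = Mt 248 S (TB c)) ∧
    (∀ c, 11 ≤ c → x c = 1) ∧ ∀ c, x (iv c) = (x c)⁻¹ :=
  MatF3.exists_units (N := 248) (S := S) (TB := TB) (k := 11) (iv := iv) iv_lt (fun c hc => by rw [iv_ge c hc]; exact hc) iv_iv inv_mul

/-- the generators as units: `0 = a`, ..., `7 = u`, `8 = s⁻¹`, `9 = t⁻¹`, `10 = u⁻¹` -/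
noncomputable def x : ℕ → GM := exists_units.choose

theorem x_val : ∀ c < 11, (x c : Matrix (Fin 248) (Fin 248) (ZMod 3)) = Mt 248 S (TB c) := exists_units.choose_spec.1
theorem x_iv : ∀ c, x (iv c) = (x c)⁻¹ := exists_units.choose_spec.2.2

theorem ev_spec {W : Wd} (h : lets 8 W = true) : OkT (ev W) ∧ MT (ev W) = ((W.eval x : GM) : Matrix (Fin 248) (Fin 248) (ZMod 3)) :=
  evW_spec good one_hi (TB := TB) (iv := iv) (k := 11) (k' := 8) x_val okT (by norm_num) (fun c hc => iv_lt c (by omega)) x_iv h false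

/-- the value of a word in the units -/
theorem eval_val {W : Wd} (h : lets 8 W = true) : ((W.eval x : GM) : Matrix (Fin 248) (Fin 248) (ZMod 3)) = MT (ev W) :=
  (ev_spec h).2.symm

theorem eval_one {W : Wd} (h : lets 8 W = true) (h1 : Nat.beq (ev W) one = true) : W.eval x = 1 := by
  apply Units.ext
  rw [eval_val h, Nat.eq_of_beq_eq_true h1, one_eq]
  rfl

theorem rel_lets : extraW.all (lets 8) = true := by decide +kernel

theorem exists_rho : ∃ ρ : Th →* GM, ∀ c, c < 8 → ρ (PresentedGroup.of (gen c)) = x c := by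
  refine C.hom x ?_ ?_ ?_
  · intro i hi
    exact absurd hi (Nat.not_lt_zero i)
  · intro W hW
    exact absurd hW List.not_mem_nil
  · intro W hW
    exact eval_one (List.all_eq_true.1 rel_lets W hW) (List.all_eq_true.1 rel_ok W hW)

/-- the representation -/
noncomputable def rho : Th →* GM := exists_rho.choose

theorem rho_of (c : ℕ) (hc : c < 8) : rho (PresentedGroup.of (gen c)) = x c := exists_rho.choose_spec c hc

/-- the generators of the presented group -/
noncomputable def X (c : ℕ) : Th := PresentedGroup.of (gen c)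

theorem rho_eval {W : Wd} (h : lets 8 W = true) : rho (W.eval X) = W.eval x := by
  rw [Wd.map_eval]
  exact CoxBridge.eval_congr (n := 8) (fun c hc => rho_of c hc) W h

/-- images of words -/
theorem rho_val {W : Wd} (h : lets 8 W = true) : ((rho (W.eval X) : GM) : Matrix (Fin 248) (Fin 248) (ZMod 3)) = MT (ev W) := by
  rw [rho_eval h, eval_val h]

theorem rho_ok {W : Wd} (h : lets 8 W = true) : OkT (ev W) := (ev_spec h).1

theorem rho_one {W : Wd} (h : lets 8 W = true) (h1 : Nat.beq (ev W) one = true) : rho (W.eval X) = 1 := by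
  rw [rho_eval h, eval_one h h1]

/-- two words with the same image -/
theorem rho_eq {V W : Wd} (hV : lets 8 V = true) (hW : lets 8 W = true) (h1 : Nat.beq (ev V) (ev W) = true) :
    rho (V.eval X) = rho (W.eval X) := by
  apply Units.ext
  rw [rho_val hV, rho_val hW, Nat.eq_of_beq_eq_true h1]

/-- entries of valid packed matrices -/
theorem ent_spec {A i j : ℕ} (hi : i < 248) (hj : j < 248) (hA : OkT A) : MT A ⟨i, hi⟩ ⟨j, hj⟩ = ((ent 248 S A i j : ℕ) : ZMod 3) := by
  have h := hA i hi j hj
  show e3 (A.testBit (248 * i + j)) (A.testBit (S + (248 * i + j))) =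
    ((cond (A.testBit (248 * i + j)) 1 (cond (A.testBit (S + (248 * i + j))) 2 0) : ℕ) : ZMod 3)
  revert h
  cases A.testBit (248 * i + j) <;> cases A.testBit (S + (248 * i + j)) <;> decide

/-- different entries give different matrices -/
theorem MT_ne {A B : ℕ} (hA : OkT A) (hB : OkT B) {i j : ℕ} (hi : i < 248) (hj : j < 248)
    (h : Nat.beq (ent 248 S A i j) (ent 248 S B i j) = false) : MT A ≠ MT B := by
  intro h1
  have h2 := congrFun (congrFun h1 ⟨i, hi⟩) ⟨j, hj⟩
  rw [ent_spec hi hj hA, ent_spec hi hj hB] at h2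
  have h3 : ∀ (a b c d : Bool), ((cond a 1 (cond b 2 0) : ℕ) : ZMod 3) = ((cond c 1 (cond d 2 0) : ℕ) : ZMod 3) →
      Nat.beq (cond a 1 (cond b 2 0)) (cond c 1 (cond d 2 0)) = true := by decide
  have h4 := h3 _ _ _ _ h2
  unfold ent at h
  rw [h4] at h
  exact Bool.noConfusion h

/-- a word with a nontrivial image -/
theorem rho_ne {W : Wd} (h : lets 8 W = true) {i j : ℕ} (hi : i < 248) (hj : j < 248)
    (h1 : Nat.beq (ent 248 S (ev W) i j) (ent 248 S one i j) = false) : rho (W.eval X) ≠ 1 := by
  intro h2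
  have h3 := rho_val h
  rw [h2, Units.val_one, ← one_eq] at h3
  exact MT_ne (rho_ok h) one_ok hi hj h1 h3.symm

theorem ne_one {W : Wd} (h : lets 8 W = true) {i j : ℕ} (hi : i < 248) (hj : j < 248)
    (h1 : Nat.beq (ent 248 S (ev W) i j) (ent 248 S one i j) = false) : W.eval X ≠ 1 :=
  fun h2 => rho_ne h hi hj h1 (by rw [h2, map_one])

/-- two words with different images -/
theorem rho_ne' {V W : Wd} (hV : lets 8 V = true) (hW : lets 8 W = true) {i j : ℕ} (hi : i < 248) (hj : j < 248)
    (h1 : Nat.beq (ent 248 S (ev V) i j) (ent 248 S (ev W) i j) = false) : rho (V.eval X) ≠ rho (W.eval X) := by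
  intro h2
  have h3 := rho_val hV
  rw [h2, rho_val hW] at h3
  exact MT_ne (rho_ok hV) (rho_ok hW) hi hj h1 h3.symm

/-- an order computed from words -/
theorem order_eq {W : Wd} (h : lets 8 W = true) {p : ℕ} (hp : p.Prime) (h1 : Nat.beq (ev (Wd.pow W p)) one = true)
    {i j : ℕ} (hi : i < 248) (hj : j < 248)
    (h2 : Nat.beq (ent 248 S (ev W) i j) (ent 248 S one i j) = false) : orderOf (rho (W.eval X)) = p := by
  haveI : Fact p.Prime := ⟨hp⟩
  apply orderOf_eq_prime
  · have h3 := rho_one (W := Wd.pow W p) h h1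
    rw [← map_pow]
    exact h3
  · exact rho_ne h hi hj h2

end Cfsg.Agent.Lib.ThRho
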