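import Cfsg.Agent.Lib.ThGlue
import Cfsg.Agent.Lib.ThRho

/-!
# The Thompson group: `a ≠ 1` from the representation of degree 248
-/

set_option autoImplicit false
set_option linter.all false
set_option maxRecDepth 100000

namespace Cfsg.Agent.Lib.ThGlue

open Cfsg.Spor Cfsg.Agent.Lib.BenesWord Cfsg.Agent.Lib.CosetGroup Cfsg.Agent.Lib.MatF3 Cfsg.Agent.Lib.ThTab
open Cfsg.Agent.Lib.H58SM Cfsg.Agent.Lib.CoxBridge

theorem rho_a : ThRho.rho (g .a) ≠ 1 := by
  have h := ThRho.rho_ne (W := Wd.g 0) (by decide +kernel) (i := 9) (j := 0) (by norm_num) (by norm_num)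
    (by decide +kernel)
  exact h

theorem a_ne_one : g .a ≠ 1 := fun h => rho_a (by rw [h, map_one])

/-- the index from the divisibility of the order of the matrix group -/
theorem index_P (hne : P.index ≠ 0) (hle : P.index ≤ 143127000)
    (hd : 2 ^ 15 * 3 ^ 10 * 5 ^ 3 * 19 * 31 ∣ Nat.card ThRho.rho.range) : P.index = 143127000 :=
  index_of_dvd_range a_ne_one hne hle ThRho.rho hd

end Cfsg.Agent.Lib.ThGlue
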