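import Mathlib

/-!
An elementary abelian subgroup of order 32 on which a group acts as GL(5,2): divisibility of the order (helper90).
-/

set_option autoImplicit false
set_option maxHeartbeats 400000

namespace Cfsg.Agent.Lib.ThLowB

open Matrix

section

variable {R : Type*} [Group R]

theorem pow_val (a : R) (h : a * a = 1) : ∀ u v : ZMod 2, a ^ (u + v).val = a ^ u.val * a ^ v.val := by
  have hc : ∀ c : ZMod 2, c = 0 ∨ c = 1 := by decide
  intro u v
  rcases hc u with rfl | rfl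
  · rw [zero_add, ZMod.val_zero, pow_zero, one_mul]
  · rcases hc v with rfl | rfl
    · rw [add_zero, ZMod.val_zero, pow_zero, mul_one]
    · rw [show ((1 : ZMod 2) + 1).val = 0 from rfl, show (1 : ZMod 2).val = 1 from rfl, pow_zero, pow_one, h]

/-- the homomorphism from the group of order two given by an element with square one -/
def hom2 (a : R) (h : a * a = 1) : Multiplicative (ZMod 2) →* R where
  toFun z := a ^ (Multiplicative.toAdd z).val
  map_one' := by
    show a ^ (0 : ZMod 2).val = 1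
    rw [ZMod.val_zero, pow_zero]
  map_mul' x y := pow_val a h _ _

theorem hom2_one (a : R) (h : a * a = 1) : hom2 a h (Multiplicative.ofAdd 1) = a := by
  show a ^ (1 : ZMod 2).val = a
  rw [show (1 : ZMod 2).val = 1 from rfl, pow_one]

theorem hom2_comm {a b : R} (ha : a * a = 1) (hb : b * b = 1) (h : a * b = b * a) (x y : Multiplicative (ZMod 2)) :
    Commute (hom2 a ha x) (hom2 b hb y) := by
  have e : Commute a b := h
  exact e.pow_pow _ _

variable {f : Fin 5 → R} (hf2 : ∀ i, f i * f i = 1) (hfc : ∀ i j, f i * f j = f j * f i)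

/-- the homomorphism from vectors -/
noncomputable def F : (Fin 5 → Multiplicative (ZMod 2)) →* R :=
  MonoidHom.noncommPiCoprod (fun i => hom2 (f i) (hf2 i)) (fun i j _ x y => hom2_comm (hf2 i) (hf2 j) (hfc i j) x y)

theorem F_single (i : Fin 5) : F hf2 hfc (Pi.mulSingle i (Multiplicative.ofAdd 1)) = f i := by
  have h := MonoidHom.noncommPiCoprod_mulSingle (ϕ := fun i => hom2 (f i) (hf2 i))
    (hcomm := fun i j _ x y => hom2_comm (hf2 i) (hf2 j) (hfc i j) x y) i (Multiplicative.ofAdd 1)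
  exact h.trans (hom2_one _ _)

/-- vectors as elements of the multiplicative group -/
def mv (v : Fin 5 → ZMod 2) : Fin 5 → Multiplicative (ZMod 2) := fun i => Multiplicative.ofAdd (v i)

/-- the map from vectors -/
noncomputable def Fv (v : Fin 5 → ZMod 2) : R := F hf2 hfc (mv v)

theorem Fv_add (v w : Fin 5 → ZMod 2) : Fv hf2 hfc (v + w) = Fv hf2 hfc v * Fv hf2 hfc w := by
  unfold Fv
  rw [← map_mul]
  rfl

theorem Fv_zero : Fv hf2 hfc 0 = 1 := map_one (F hf2 hfc)

theorem Fv_single (i : Fin 5) : Fv hf2 hfc (Pi.single i 1) = f i := by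
  have h : mv (Pi.single i 1) = Pi.mulSingle i (Multiplicative.ofAdd 1) := by
    funext j
    unfold mv
    by_cases h : j = i
    · subst h; rw [Pi.single_eq_same, Pi.mulSingle_eq_same]
    · rw [Pi.single_eq_of_ne h, Pi.mulSingle_eq_of_ne h]; rfl
  unfold Fv
  rw [h]
  exact F_single hf2 hfc i

theorem ind_add {P : (Fin 5 → ZMod 2) → Prop} (h0 : P 0) (hadd : ∀ v w, P v → P w → P (v + w))
    (hs : ∀ i, P (Pi.single i 1)) (v : Fin 5 → ZMod 2) : P v := by
  have h1 : ∀ i (c : ZMod 2), P (Pi.single i c) := by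
    intro i c
    fin_cases c
    · have : (Pi.single i ((⟨0, by decide⟩ : Fin 2) : ZMod 2) : Fin 5 → ZMod 2) = 0 := Pi.single_zero i
      exact this ▸ h0
    · exact hs i
  have h2 : v = ∑ i, Pi.single i (v i) := (Finset.univ_sum_single v).symm
  rw [h2]
  apply Finset.sum_induction _ P hadd h0
  intro i _
  exact h1 i _

/-- an element of the group inducing a matrix -/
def Q (M : Matrix (Fin 5) (Fin 5) (ZMod 2)) : Prop := ∃ g : R, ∀ v, g⁻¹ * Fv hf2 hfc v * g = Fv hf2 hfc (v ᵥ* M)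

theorem Q_one : Q hf2 hfc 1 := ⟨1, fun v => by rw [vecMul_one]; group⟩

theorem Q_mul {M M' : Matrix (Fin 5) (Fin 5) (ZMod 2)} (h : Q hf2 hfc M) (h' : Q hf2 hfc M') : Q hf2 hfc (M * M') := by
  obtain ⟨g, hg⟩ := h
  obtain ⟨g', hg'⟩ := h'
  refine ⟨g * g', fun v => ?_⟩
  rw [← vecMul_vecMul, ← hg', ← hg]
  group

theorem Q_of (M : Matrix (Fin 5) (Fin 5) (ZMod 2)) (g : R)
    (h : ∀ i, g⁻¹ * f i * g = Fv hf2 hfc (Pi.single i 1 ᵥ* M)) : Q hf2 hfc M := by
  refine ⟨g, fun v => ?_⟩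
  induction v using ind_add with
  | h0 => rw [zero_vecMul, Fv_zero]; group
  | hadd v w hv hw =>
    rw [add_vecMul, Fv_add, Fv_add, ← hv, ← hw]
    group
  | hs i => rw [Fv_single, h]

theorem Q_trans {i j : Fin 5} (hij : i ≠ j) (g : R) (h1 : g⁻¹ * f i * g = f i * f j) (h2 : ∀ k, k ≠ i → g⁻¹ * f k * g = f k) :
    Q hf2 hfc (transvection i j 1) := by
  apply Q_of hf2 hfc _ g
  intro k
  by_cases hk : k = i
  · subst hk
    rw [h1, ← Fv_single hf2 hfc k, ← Fv_single hf2 hfc j, ← Fv_add]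
    congr 1
    clear h1 h2
    revert hij
    revert j k
    decide
  · rw [h2 k hk, ← Fv_single hf2 hfc k]
    congr 1
    revert hk hij
    clear h1 h2
    revert i j k
    decide

theorem comm_trans : ∀ i j k : Fin 5, i ≠ j → j ≠ k → i ≠ k →
    transvection i j (1 : ZMod 2) * transvection j k 1 * (transvection i j 1 * transvection j k 1) = transvection i k 1 := by
  decide

theorem Q_all (h : ∀ i, Q hf2 hfc (transvection i (i + 1) 1)) : ∀ i j : Fin 5, i ≠ j → Q hf2 hfc (transvection i j 1) := by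
  have key : ∀ i j k : Fin 5, i ≠ j → j ≠ k → i ≠ k → Q hf2 hfc (transvection i j 1) → Q hf2 hfc (transvection j k 1) →
      Q hf2 hfc (transvection i k 1) := by
    intro i j k h1 h2 h3 q1 q2
    rw [← comm_trans i j k h1 h2 h3]
    exact Q_mul hf2 hfc (Q_mul hf2 hfc q1 q2) (Q_mul hf2 hfc q1 q2)
  have k2 : ∀ i : Fin 5, Q hf2 hfc (transvection i (i + 2) 1) := by
    intro i
    have h1 : i ≠ i + 1 := by revert i; decide
    have h2 : i + 1 ≠ i + 2 := by revert i; decide
    have h3 : i ≠ i + 2 := by revert i; decide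
    have h4 : i + 1 + 1 = i + 2 := by revert i; decide
    exact key i (i + 1) (i + 2) h1 h2 h3 (h i) (h4 ▸ h (i + 1))
  have k3 : ∀ i : Fin 5, Q hf2 hfc (transvection i (i + 3) 1) := by
    intro i
    have h1 : i ≠ i + 2 := by revert i; decide
    have h2 : i + 2 ≠ i + 3 := by revert i; decide
    have h3 : i ≠ i + 3 := by revert i; decide
    have h4 : i + 2 + 1 = i + 3 := by revert i; decide
    exact key i (i + 2) (i + 3) h1 h2 h3 (k2 i) (h4 ▸ h (i + 2))
  have k4 : ∀ i : Fin 5, Q hf2 hfc (transvection i (i + 4) 1) := by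
    intro i
    have h1 : i ≠ i + 3 := by revert i; decide
    have h2 : i + 3 ≠ i + 4 := by revert i; decide
    have h3 : i ≠ i + 4 := by revert i; decide
    have h4 : i + 3 + 1 = i + 4 := by revert i; decide
    exact key i (i + 3) (i + 4) h1 h2 h3 (k3 i) (h4 ▸ h (i + 3))
  intro i j hij
  have h5 : ∀ i j : Fin 5, i ≠ j → j = i + 1 ∨ j = i + 2 ∨ j = i + 3 ∨ j = i + 4 := by decide
  rcases h5 i j hij with rfl | rfl | rfl | rfl
  · exact h i
  · exact k2 i
  · exact k3 i
  · exact k4 i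

theorem Q_GL (h : ∀ i, Q hf2 hfc (transvection i (i + 1) 1)) (A : GL (Fin 5) (ZMod 2)) : Q hf2 hfc (A : Matrix (Fin 5) (Fin 5) (ZMod 2)) := by
  obtain ⟨L, L', D, hM⟩ := Matrix.Pivot.exists_list_transvec_mul_diagonal_mul_list_transvec (A : Matrix (Fin 5) (Fin 5) (ZMod 2))
  have hL : ∀ L : List (TransvectionStruct (Fin 5) (ZMod 2)), Q hf2 hfc ((L.map TransvectionStruct.toMatrix).prod) := by
    intro L
    induction L with
    | nil => exact Q_one hf2 hfc
    | cons t L ih =>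
      rw [List.map_cons, List.prod_cons]
      apply Q_mul hf2 hfc _ ih
      show Q hf2 hfc (transvection t.i t.j t.c)
      have hc : ∀ c : ZMod 2, c = 0 ∨ c = 1 := by decide
      rcases hc t.c with h1 | h1
      · rw [h1, transvection_zero]; exact Q_one hf2 hfc
      · rw [h1]; exact Q_all hf2 hfc h _ _ t.hij
  have hdet : (A : Matrix (Fin 5) (Fin 5) (ZMod 2)).det ≠ 0 := by
    have := (Matrix.isUnit_iff_isUnit_det _).1 A.isUnit
    exact this.ne_zero
  have hD : diagonal D = 1 := by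
    rw [hM, det_mul, det_mul, det_diagonal] at hdet
    have h1 : ∏ i, D i ≠ 0 := fun h0 => hdet (by rw [h0, mul_zero, zero_mul])
    have h2 : ∀ i, D i ≠ 0 := fun i h0 => h1 (Finset.prod_eq_zero (Finset.mem_univ i) h0)
    have hc : ∀ c : ZMod 2, c ≠ 0 → c = 1 := by decide
    rw [show D = fun _ => 1 from funext fun i => hc _ (h2 i)]
    exact diagonal_one
  rw [hM, hD, mul_one]
  exact Q_mul hf2 hfc (hL L) (hL L')

end

theorem inj_of {R : Type*} [Group R] {f : Fin 5 → R} (hf2 : ∀ i, f i * f i = 1) (hfc : ∀ i j, f i * f j = f j * f i)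
    (hQ : ∀ i, Q hf2 hfc (transvection i (i + 1) 1)) (h3 : ∃ i, f i ≠ 1) (v : Fin 5 → ZMod 2)
    (hv : Fv hf2 hfc v = 1) : v = 0 := by
  by_contra hne
  have hinv : ∀ w, Fv hf2 hfc w = 1 → ∀ i, Fv hf2 hfc (w ᵥ* transvection i (i + 1) 1) = 1 := by
    intro w hw i
    obtain ⟨g, hg⟩ := hQ i
    rw [← hg w, hw]
    group
  have hstep : ∀ w, Fv hf2 hfc w = 1 → ∀ i, w i = 1 → f (i + 1) = 1 := by
    intro w hw i hi
    have h1 := hinv w hw i
    have h2 : w ᵥ* transvection i (i + 1) 1 = w + Pi.single (i + 1) 1 := by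
      clear h1 hw
      revert hi
      revert w i
      decide
    rw [h2, Fv_add, hw, one_mul, Fv_single] at h1
    exact h1
  have h4 : ∃ i, v i = 1 := by
    by_contra hno
    push Not at hno
    apply hne
    funext i
    have hc : ∀ c : ZMod 2, c ≠ 1 → c = 0 := by decide
    exact hc _ (hno i)
  obtain ⟨i, hi⟩ := h4
  have h5 : ∀ j, f j = 1 → f (j + 1) = 1 := by
    intro j hj
    exact hstep (Pi.single j 1) (by rw [Fv_single, hj]) j (by simp)
  have e1 := hstep v hv i hi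
  have e2 := h5 _ e1
  have e3 := h5 _ e2
  have e4 := h5 _ e3
  have e5 := h5 _ e4
  obtain ⟨j, hj⟩ := h3
  apply hj
  have h6 : ∀ i j : Fin 5, j = i + 1 ∨ j = i + 1 + 1 ∨ j = i + 1 + 1 + 1 ∨ j = i + 1 + 1 + 1 + 1 ∨ j = i + 1 + 1 + 1 + 1 + 1 := by decide
  rcases h6 i j with h | h | h | h | h <;> rw [h] <;> assumption

/-- the divisibility -/
theorem dvd_card {R : Type*} [Group R] [Finite R] (f g : Fin 5 → R) (hf2 : ∀ i, f i * f i = 1)
    (hfc : ∀ i j, f i * f j = f j * f i) (h1 : ∃ i, f i ≠ 1) (hg : ∀ i, (g i)⁻¹ * f i * g i = f i * f (i + 1))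
    (hg' : ∀ i k, k ≠ i → (g i)⁻¹ * f k * g i = f k) : 319979520 ∣ Nat.card R := by
  have hQ : ∀ i, Q hf2 hfc (transvection i (i + 1) 1) := fun i =>
    Q_trans hf2 hfc (by revert i; decide) (g i) (hg i) (hg' i)
  have hinj : ∀ v w, Fv hf2 hfc v = Fv hf2 hfc w → v = w := by
    intro v w hvw
    have h2 : Fv hf2 hfc (v + w) = 1 := by
      rw [Fv_add, hvw, ← Fv_add]
      have : w + w = 0 := by
        funext i
        exact CharTwo.add_self_eq_zero _
      rw [this, Fv_zero]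
    have h3 := inj_of hf2 hfc hQ h1 _ h2
    have h4 : ∀ a b : ZMod 2, a + b = 0 → a = b := by decide
    funext i
    exact h4 _ _ (congrFun h3 i)
  let Γ : Subgroup (R × GL (Fin 5) (ZMod 2)) :=
    { carrier := {q | ∀ v, q.1⁻¹ * Fv hf2 hfc v * q.1 = Fv hf2 hfc (v ᵥ* (q.2 : Matrix (Fin 5) (Fin 5) (ZMod 2)))}
      one_mem' := by
        intro v
        show (1 : R)⁻¹ * Fv hf2 hfc v * 1 = Fv hf2 hfc (v ᵥ* (1 : Matrix (Fin 5) (Fin 5) (ZMod 2)))
        rw [vecMul_one]; group
      mul_mem' := by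
        rintro ⟨a, A⟩ ⟨b, B⟩ ha hb v
        show (a * b)⁻¹ * Fv hf2 hfc v * (a * b) = Fv hf2 hfc (v ᵥ* ((A : Matrix (Fin 5) (Fin 5) (ZMod 2)) * B))
        have h2 : a⁻¹ * Fv hf2 hfc v * a = Fv hf2 hfc (v ᵥ* (A : Matrix (Fin 5) (Fin 5) (ZMod 2))) := ha v
        have h3 : ∀ w, b⁻¹ * Fv hf2 hfc w * b = Fv hf2 hfc (w ᵥ* (B : Matrix (Fin 5) (Fin 5) (ZMod 2))) := hb
        rw [← vecMul_vecMul, ← h3, ← h2]
        group
      inv_mem' := by
        rintro ⟨a, A⟩ ha v
        show (a⁻¹)⁻¹ * Fv hf2 hfc v * a⁻¹ = Fv hf2 hfc (v ᵥ* ((A⁻¹ : GL (Fin 5) (ZMod 2)) : Matrix (Fin 5) (Fin 5) (ZMod 2)))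
        have h3 : ∀ w, a⁻¹ * Fv hf2 hfc w * a = Fv hf2 hfc (w ᵥ* (A : Matrix (Fin 5) (Fin 5) (ZMod 2))) := ha
        have h4 := h3 (v ᵥ* ((A⁻¹ : GL (Fin 5) (ZMod 2)) : Matrix (Fin 5) (Fin 5) (ZMod 2)))
        rw [vecMul_vecMul, ← Units.val_mul, inv_mul_cancel, Units.val_one, vecMul_one] at h4
        rw [← h4]
        group }
  have hΓ : ∀ q : R × GL (Fin 5) (ZMod 2), q ∈ Γ ↔ ∀ v, q.1⁻¹ * Fv hf2 hfc v * q.1 = Fv hf2 hfc (v ᵥ* (q.2 : Matrix (Fin 5) (Fin 5) (ZMod 2))) :=
    fun q => Iff.rfl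
  -- first projection is injective
  have hi1 : Function.Injective ((MonoidHom.fst R (GL (Fin 5) (ZMod 2))).comp Γ.subtype) := by
    rintro ⟨⟨a, A⟩, hA⟩ ⟨⟨b, B⟩, hB⟩ hab
    have hab' : a = b := hab
    subst hab'
    have h2 : A = B := by
      apply Units.ext
      ext i j
      have h3 := (hΓ _).1 hA (Pi.single i 1)
      have h4 := (hΓ _).1 hB (Pi.single i 1)
      have h5 := hinj _ _ (h3.symm.trans h4)
      have h6 := congrFun h5 j
      simpa [Matrix.single_one_vecMul] using h6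
    subst h2
    rfl
  have hd1 : Nat.card Γ ∣ Nat.card R := Subgroup.card_dvd_of_injective _ hi1
  -- second projection
  let π : Γ →* GL (Fin 5) (ZMod 2) := (MonoidHom.snd R (GL (Fin 5) (ZMod 2))).comp Γ.subtype
  have hsurj : Function.Surjective π := by
    intro A
    obtain ⟨a, ha⟩ := Q_GL hf2 hfc hQ A
    exact ⟨⟨(a, A), ha⟩, rfl⟩
  have hcard : Nat.card Γ = Nat.card π.ker * Nat.card (GL (Fin 5) (ZMod 2)) := by
    have h2 := Subgroup.card_mul_index π.ker
    rw [Subgroup.index_ker, MonoidHom.range_eq_top.2 hsurj, Nat.card_congr Subgroup.topEquiv.toEquiv] at h2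
    exact h2.symm
  have hker : 32 ∣ Nat.card π.ker := by
    have hm : ∀ v : Fin 5 → Multiplicative (ZMod 2), ((F hf2 hfc v, 1) : R × GL (Fin 5) (ZMod 2)) ∈ Γ := by
      intro v w
      show (F hf2 hfc v)⁻¹ * F hf2 hfc (mv w) * F hf2 hfc v = Fv hf2 hfc (w ᵥ* (1 : Matrix (Fin 5) (Fin 5) (ZMod 2)))
      rw [vecMul_one, mul_assoc, ← map_mul, mul_comm (mv w) v, map_mul, inv_mul_cancel_left]
      rfl
    let ψ : (Fin 5 → Multiplicative (ZMod 2)) →* π.ker :=
      { toFun := fun v => ⟨⟨(F hf2 hfc v, 1), hm v⟩, rfl⟩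
        map_one' := by
          apply Subtype.ext
          apply Subtype.ext
          show (F hf2 hfc 1, (1 : GL (Fin 5) (ZMod 2))) = 1
          rw [map_one]; rfl
        map_mul' := by
          intro v w
          apply Subtype.ext
          apply Subtype.ext
          show (F hf2 hfc (v * w), (1 : GL (Fin 5) (ZMod 2))) = (F hf2 hfc v * F hf2 hfc w, 1 * 1)
          rw [map_mul, one_mul] }
    have hψ : Function.Injective ψ := by
      intro v w hvw
      have h2 : F hf2 hfc v = F hf2 hfc w := congrArg (fun z : π.ker => (z : Γ).1.1) hvw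
      have h3 := hinj (fun i => Multiplicative.toAdd (v i)) (fun i => Multiplicative.toAdd (w i)) h2
      funext i
      exact congrFun h3 i
    have h2 := Subgroup.card_dvd_of_injective ψ hψ
    have h3 : Nat.card (Fin 5 → Multiplicative (ZMod 2)) = 32 := by
      rw [Nat.card_pi]
      simp [Nat.card_zmod]
    rwa [h3] at h2
  have hGL : Nat.card (GL (Fin 5) (ZMod 2)) = 9999360 := by
    rw [Matrix.card_GL_field]
    simp [Fin.prod_univ_succ, ZMod.card]
  have h6 : 319979520 ∣ Nat.card Γ := by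
    rw [hcard, hGL]
    have : 319979520 = 32 * 9999360 := by norm_num
    rw [this]
    exact Nat.mul_dvd_mul_right hker _
  exact h6.trans hd1

end Cfsg.Agent.Lib.ThLowB
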