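import Cfsg.Agent.Lib.ThLowA
import Cfsg.Agent.Lib.ThLowB
import Cfsg.Agent.Lib.ThLowD
import Cfsg.Agent.Lib.ThLowE

/-!
The order of the image of the Thompson group in degree 248 over the field with three elements is divisible by
`2 ^ 15 * 3 ^ 10 * 5 ^ 3 * 19 * 31` (helper90).
-/

set_option autoImplicit false
set_option linter.all false
set_option maxHeartbeats 400000
set_option maxRecDepth 100000

namespace Cfsg.Agent.Lib.ThLow

open Matrix
open Cfsg.Agent.Lib.H58SM Cfsg.Agent.Lib.BenesWord Cfsg.Agent.Lib.MatF3 Cfsg.Agent.Lib.CoxBridge Cfsg.Agent.Lib.ThTab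
open Cfsg.Agent.Lib.ThRho Cfsg.Agent.Lib.ThLowA Cfsg.Agent.Lib.ThLowB Cfsg.Agent.Lib.ThLowD Cfsg.Agent.Lib.ThLowE

/-- packed form of a unit -/
structure Lit (A : ℕ) (g : GM) : Prop where
  ok : OkT A
  val : MT A = (g : Matrix (Fin 248) (Fin 248) (ZMod 3))

theorem Lit.mul {A B : ℕ} {g h : GM} (a : Lit A g) (b : Lit B h) : Lit (mulT A B) (g * h) :=
  ⟨(mul_spec a.ok b.ok).1, by rw [(mul_spec a.ok b.ok).2, a.val, b.val]; rfl⟩

theorem Lit.eq {A B : ℕ} {g h : GM} (a : Lit A g) (b : Lit B h) (e : Nat.beq A B = true) : g = h := by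
  apply Units.ext
  rw [← a.val, ← b.val, Nat.eq_of_beq_eq_true e]

theorem lit_one : Lit one 1 := ⟨one_ok, one_eq⟩

theorem Lit.ne {A B : ℕ} {g h : GM} (a : Lit A g) (b : Lit B h) {i j : ℕ} (hi : i < 248) (hj : j < 248)
    (e : Nat.beq (ent 248 S A i j) (ent 248 S B i j) = false) : g ≠ h := by
  rintro rfl
  exact MT_ne a.ok b.ok hi hj e (a.val.trans b.val.symm)

theorem lit_ev {W : Wd} (h : lets 8 W = true) {L : ℕ} (e : Nat.beq (ev W) L = true) : Lit L (rho (W.eval X)) := by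
  have h1 := Nat.eq_of_beq_eq_true e
  subst h1
  exact ⟨rho_ok h, (rho_val h).symm⟩

instance : Finite GM := inferInstance

/-- the image -/
noncomputable abbrev Rg : Subgroup GM := rho.range

/-- an element of the image -/
noncomputable def el (W : Wd) : Rg := ⟨rho (W.eval X), ⟨_, rfl⟩⟩

/-! ### five -/

theorem LXX : Lit lX (rho (wX.eval X)) := lit_ev (by decide) eX
theorem LSS : Lit lS (rho (wS.eval X)) := lit_ev (by decide) eS
theorem LZZ : Lit lZ (rho (wZ.eval X)) := lit_ev (by decide) eZ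
theorem LYY : Lit lY (rho (wY.eval X)) := lit_ev (by decide) eY

theorem el_pow (W : Wd) (n : ℕ) (h : rho ((Wd.pow W n).eval X) = 1) : el W ^ n = 1 := by
  apply Subtype.ext
  have h1 : rho (W.eval X ^ n) = 1 := h
  show (rho (W.eval X)) ^ n = 1
  rw [← map_pow]
  exact h1

theorem el_conj (V W : Wd) (n : ℕ) (h : el W ^ n = 1) : el (Wd.mul (Wd.mul (Wd.inv V) W) V) ^ n = 1 := by
  have h2 : el (Wd.mul (Wd.mul (Wd.inv V) W) V) = (el V)⁻¹ * el W * ((el V)⁻¹)⁻¹ := by
    apply Subtype.ext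
    show rho ((V.eval X)⁻¹ * W.eval X * V.eval X) = (rho (V.eval X))⁻¹ * rho (W.eval X) * ((rho (V.eval X))⁻¹)⁻¹
    rw [inv_inv, map_mul, map_mul, map_inv]
  rw [h2, conj_pow, h, mul_one, mul_inv_cancel]

theorem el_extra {a b c : ℕ} {A B C : Wd} (ha : Lit a (rho (A.eval X))) (hb : Lit b (rho (B.eval X))) (hc : Lit c (rho (C.eval X)))
    (h1 : el A ^ 5 = 1) (h2 : el B ^ 5 = 1) (h3 : Nat.beq (mulT a b) (mulT (mulT b a) c) = true)
    (h4 : Nat.beq (mulT c a) (mulT a c) = true) (h5 : Nat.beq (mulT c b) (mulT b c) = true) {i j : ℕ} (hi : i < 248) (hj : j < 248)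
    (h6 : Nat.beq (ent 248 S c i j) (ent 248 S one i j) = false) : 5 ^ 3 ∣ Nat.card Rg := by
  haveI : Fact (Nat.Prime 5) := ⟨by norm_num⟩
  refine extra (x := el A) (y := el B) (c := el C) h1 h2 ?_ ?_ ?_ ?_
  · apply Subtype.ext
    exact Lit.eq (ha.mul hb) ((hb.mul ha).mul hc) h3
  · apply Subtype.ext
    exact Lit.eq (hc.mul ha) (ha.mul hc) h4
  · apply Subtype.ext
    exact Lit.eq (hc.mul hb) (hb.mul hc) h5
  · intro h
    have h1 : rho (C.eval X) = 1 := congrArg Subtype.val h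
    exact Lit.ne hc lit_one hi hj h6 h1

theorem hx5 : el wX ^ 5 = 1 := el_pow wX 5 (rho_one (by decide) x5)

theorem dvd5 : 5 ^ 3 ∣ Nat.card Rg :=
  el_extra LXX LZZ LYY hx5 (el_conj wS wX 5 hx5) xz yx yz (by norm_num) (by norm_num) y_ne

/-! ### two -/

/-- the words -/
def WF : Fin 5 → Wd := ![wf0, wf1, wf2, wf3, wf4]
/-- the words -/
def WG : Fin 5 → Wd := ![wg0, wg1, wg2, wg3, wg4]

theorem litF : ∀ i : Fin 5, Lit (LF i) (rho ((WF i).eval X)) := by
  intro i
  fin_cases i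
  · exact lit_ev (by decide) ef0
  · exact lit_ev (by decide) ef1
  · exact lit_ev (by decide) ef2
  · exact lit_ev (by decide) ef3
  · exact lit_ev (by decide) ef4

theorem litG : ∀ i : Fin 5, Lit (LG i) (rho ((WG i).eval X)) := by
  intro i
  fin_cases i
  · exact lit_ev (by decide) eg0
  · exact lit_ev (by decide) eg1
  · exact lit_ev (by decide) eg2
  · exact lit_ev (by decide) eg3
  · exact lit_ev (by decide) eg4

theorem trs : ∀ i : Fin 5, Nat.beq (mulT (LF i) (LG i)) (mulT (LG i) (mulT (LF i) (LF (i + 1 : Fin 5)))) = true := by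
  intro i
  fin_cases i
  · exact tr_ok0
  · exact tr_ok1
  · exact tr_ok2
  · exact tr_ok3
  · exact tr_ok4

theorem cond_of {m n : ℕ} {b : Bool} (h : cond (Nat.beq m n) true b = true) (hmn : m ≠ n) : b = true := by
  have h1 : Nat.beq m n = false := by
    cases h2 : Nat.beq m n with
    | false => rfl
    | true => exact absurd (Nat.eq_of_beq_eq_true h2) hmn
  rw [h1] at h
  exact h

theorem fxs : ∀ i k : Fin 5, k ≠ i → Nat.beq (mulT (LF k) (LG i)) (mulT (LG i) (LF k)) = true := by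
  intro i k hk
  have hk' : (k : ℕ) ≠ i := fun h => hk (Fin.ext h)
  revert hk'
  clear hk
  fin_cases i
  · exact cond_of (alln_iff.1 fx_ok0 k k.2)
  · exact cond_of (alln_iff.1 fx_ok1 k k.2)
  · exact cond_of (alln_iff.1 fx_ok2 k k.2)
  · exact cond_of (alln_iff.1 fx_ok3 k k.2)
  · exact cond_of (alln_iff.1 fx_ok4 k k.2)

theorem dvd2' : 319979520 ∣ Nat.card Rg := by
  refine dvd_card (R := Rg) (fun i => el (WF i)) (fun i => el (WG i)) ?_ ?_ ?_ ?_ ?_
  · intro i
    apply Subtype.ext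
    exact Lit.eq ((litF i).mul (litF i)) lit_one (alln_iff.1 sq_ok i i.2)
  · intro i j
    apply Subtype.ext
    exact Lit.eq ((litF i).mul (litF j)) ((litF j).mul (litF i)) (alln_iff.1 (alln_iff.1 comm_ok i i.2) j j.2)
  · refine ⟨3, fun h => ?_⟩
    have h1 : rho (wf3.eval X) = 1 := congrArg Subtype.val h
    exact Lit.ne (lit_ev (W := wf3) (by decide) ef3) lit_one (by norm_num) (by norm_num) f3_ne h1
  · intro i
    apply Subtype.ext
    have h1 : rho ((WF i).eval X) * rho ((WG i).eval X) =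
        rho ((WG i).eval X) * (rho ((WF i).eval X) * rho ((WF (i + 1)).eval X)) :=
      Lit.eq ((litF i).mul (litG i)) ((litG i).mul ((litF i).mul (litF (i + 1)))) (trs i)
    show (rho ((WG i).eval X))⁻¹ * rho ((WF i).eval X) * rho ((WG i).eval X) = rho ((WF i).eval X) * rho ((WF (i + 1)).eval X)
    rw [mul_assoc, h1, inv_mul_cancel_left]
  · intro i k hk
    apply Subtype.ext
    have h1 : rho ((WF k).eval X) * rho ((WG i).eval X) = rho ((WG i).eval X) * rho ((WF k).eval X) :=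
      Lit.eq ((litF k).mul (litG i)) ((litG i).mul (litF k)) (fxs i k hk)
    show (rho ((WG i).eval X))⁻¹ * rho ((WF k).eval X) * rho ((WG i).eval X) = rho ((WF k).eval X)
    rw [mul_assoc, h1, inv_mul_cancel_left]

/-! ### three -/

theorem hBB : MT lB * MT lBI = 1 := by
  have h := (mul_spec (ok_of good b_ok : OkT lB) (ok_of good bi_ok)).2
  rw [Nat.eq_of_beq_eq_true b_inv, one_eq] at h
  exact h.symm

/-- the basis -/
def Bu : GM := ⟨MT lB, MT lBI, hBB, mul_eq_one_comm.1 hBB⟩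

theorem litB : Lit lB Bu := ⟨ok_of good b_ok, rfl⟩

/-- the words -/
def WU : ℕ → Wd
  | 0 => w0
  | 1 => w1
  | 2 => w2
  | _ => w3

/-- the conjugated generators -/
noncomputable def z (k : ℕ) : GM := Bu * rho ((WU k).eval X) * Bu⁻¹

theorem lit_z {A : ℕ} {W : Wd} (hW : lets 8 W = true) (hA : OkT A) (h : Nat.beq (mulT lB (ev W)) (mulT A lB) = true) :
    Lit A (Bu * rho (W.eval X) * Bu⁻¹) := by
  refine ⟨hA, ?_⟩
  have h1 := (litB.mul (⟨rho_ok hW, (rho_val hW).symm⟩ : Lit (ev W) (rho (W.eval X)))).val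
  rw [Nat.eq_of_beq_eq_true h, (mul_spec hA litB.ok).2, litB.val] at h1
  have h2 : MT A = MT A * (Bu : Matrix (Fin 248) (Fin 248) (ZMod 3)) * ((Bu⁻¹ : GM) : Matrix (Fin 248) (Fin 248) (ZMod 3)) := by
    rw [mul_assoc, ← Units.val_mul, mul_inv_cancel, Units.val_one, mul_one]
  rw [h2, h1]
  rfl

theorem okU (c : ℕ) (hc : c < 8) : OkT (UB c) := ok_of good (alln_iff.1 u_ok c hc)

theorem litz : ∀ k < 4, Lit (UB k) (z k) := by
  intro k hk
  interval_cases k
  · exact lit_z (W := w0) (by decide) (okU 0 (by norm_num)) c0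
  · exact lit_z (W := w1) (by decide) (okU 1 (by norm_num)) c1
  · exact lit_z (W := w2) (by decide) (okU 2 (by norm_num)) c2
  · exact lit_z (W := w3) (by decide) (okU 3 (by norm_num)) c3

/-- letters with inverses -/
noncomputable def y (k : ℕ) : GM := if k < 4 then z k else (z (k - 4))⁻¹

theorem lity : ∀ k < 8, Lit (UB k) (y k) := by
  intro k hk
  unfold y
  split_ifs with h
  · exact litz k h
  · refine ⟨okU k hk, ?_⟩
    obtain ⟨m, rfl⟩ : ∃ m, k = m + 4 := ⟨k - 4, by omega⟩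
    have h1 := Nat.eq_of_beq_eq_true (alln_iff.1 u_inv m (by omega))
    have h2 := (mul_spec (okU m (by omega)) (okU (m + 4) hk)).2
    have h3 : mulT (UB m) (UB (m + 4)) = one := h1
    rw [h3, one_eq, (litz m (by omega)).val] at h2
    rw [Nat.add_sub_cancel]
    calc MT (UB (m + 4)) = ((z m)⁻¹ : GM).val * ((z m : GM).val * MT (UB (m + 4))) := by
          rw [← mul_assoc, ← Units.val_mul, inv_mul_cancel, Units.val_one, one_mul]
      _ = ((z m)⁻¹ : GM).val := by rw [← h2, mul_one]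

theorem lit_pl (l : List ℕ) (h : ∀ k ∈ l, k < 8) : Lit (pl l) ((l.map y).prod) := by
  induction l with
  | nil => exact lit_one
  | cons k l ih =>
    rw [List.map_cons, List.prod_cons]
    exact (lity k (h k List.mem_cons_self)).mul (ih fun m hm => h m (List.mem_cons_of_mem _ hm))

theorem ut_of {A : ℕ} (hA : OkT A) (h : utB A = true) : UT (MT A) := by
  intro i j hij
  have h1 := alln_iff.1 h i i.2
  have hp : Nat.shiftRight (gt (Nat.land A mS) 248 msk i) i = 1 ∧
      Nat.shiftRight (gt (Nat.shiftRight A S) 248 msk i) i = 0 := by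
    cases h2 : Nat.beq (Nat.shiftRight (gt (Nat.land A mS) 248 msk i) i) 1 with
    | false =>
      have h3 : cond (Nat.beq (Nat.shiftRight (gt (Nat.land A mS) 248 msk i) i) 1)
        (Nat.beq (Nat.shiftRight (gt (Nat.shiftRight A S) 248 msk i) i) 0) false = true := h1
      rw [h2] at h3
      exact Bool.noConfusion h3
    | true =>
      have h3 : cond (Nat.beq (Nat.shiftRight (gt (Nat.land A mS) 248 msk i) i) 1)
        (Nat.beq (Nat.shiftRight (gt (Nat.shiftRight A S) 248 msk i) i) 0) false = true := h1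
      rw [h2] at h3
      exact ⟨Nat.eq_of_beq_eq_true h2, Nat.eq_of_beq_eq_true h3⟩
  have hb1 : A.testBit (248 * i + j) = decide (i = j) := by
    rw [← tb_lo good.hmS A (lt_S good.hS i.2 j.2), MatF2.bit_eq good.g2.hm _ _ j.2]
    have h4 : (Nat.shiftRight (gt (Nat.land A mS) 248 msk i) i).testBit (j - i) = (gt (Nat.land A mS) 248 msk i).testBit j := by
      show ((gt (Nat.land A mS) 248 msk i) >>> (i : ℕ)).testBit (j - i) = _
      rw [Nat.testBit_shiftRight]
      congr 1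
      have : (i : ℕ) ≤ j := hij
      omega
    rw [← h4, hp.1, MatF2.tb1]
    apply decide_eq_decide.2
    have : (i : ℕ) ≤ j := hij
    constructor
    · intro h5; apply Fin.ext; omega
    · rintro rfl; omega
  have hb2 : A.testBit (S + (248 * i + j)) = false := by
    rw [← tb_hi, MatF2.bit_eq good.g2.hm _ _ j.2]
    have h4 : (Nat.shiftRight (gt (Nat.shiftRight A S) 248 msk i) i).testBit (j - i) = (gt (Nat.shiftRight A S) 248 msk i).testBit j := by
      show ((gt (Nat.shiftRight A S) 248 msk i) >>> (i : ℕ)).testBit (j - i) = _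
      rw [Nat.testBit_shiftRight]
      congr 1
      have : (i : ℕ) ≤ j := hij
      omega
    rw [← h4, hp.2, Nat.zero_testBit]
  show e3 (A.testBit (248 * i + j)) (A.testBit (S + (248 * i + j))) = _
  rw [hb1, hb2]
  by_cases h5 : i = j
  · rw [decide_eq_true h5, if_pos h5]; decide
  · rw [decide_eq_false h5, if_neg h5]; decide

theorem rows_of {A B j : ℕ} (h : rowsB A B j = true) {i c : ℕ} (hi : i < j) (hj : j ≤ 248) (hc : c < 248) :
    e3 (A.testBit (248 * i + c)) (A.testBit (S + (248 * i + c))) = e3 (B.testBit (248 * i + c)) (B.testBit (S + (248 * i + c))) := by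
  unfold rowsB at h
  have hlt : 248 * i + c < 248 * j := by omega
  have key : ∀ a b : ℕ, Nat.land a (Nat.sub (Nat.pow 2 (Nat.mul 248 j)) 1) = Nat.land b (Nat.sub (Nat.pow 2 (Nat.mul 248 j)) 1) →
      a.testBit (248 * i + c) = b.testBit (248 * i + c) := by
    intro a b hab
    have h1 := congrArg (fun n : ℕ => n.testBit (248 * i + c)) hab
    have h2 : ∀ a : ℕ, (Nat.land a (Nat.sub (Nat.pow 2 (Nat.mul 248 j)) 1)).testBit (248 * i + c) = a.testBit (248 * i + c) := by
      intro a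
      show (a &&& (2 ^ (248 * j) - 1)).testBit (248 * i + c) = _
      rw [Nat.testBit_and, Nat.testBit_two_pow_sub_one, decide_eq_true hlt, Bool.and_true]
    simp only [h2] at h1
    exact h1
  cases h2 : Nat.beq (Nat.land A (Nat.sub (Nat.pow 2 (Nat.mul 248 j)) 1)) (Nat.land B (Nat.sub (Nat.pow 2 (Nat.mul 248 j)) 1)) with
  | false => rw [h2] at h; exact Bool.noConfusion h
  | true =>
    rw [h2] at h
    have h3 : Nat.beq (Nat.land (Nat.shiftRight A S) (Nat.sub (Nat.pow 2 (Nat.mul 248 j)) 1)) (Nat.land (Nat.shiftRight B S) (Nat.sub (Nat.pow 2 (Nat.mul 248 j)) 1)) = true := h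
    have k1 := key _ _ (Nat.eq_of_beq_eq_true h2)
    have k2 := key _ _ (Nat.eq_of_beq_eq_true h3)
    rw [tb_hi, tb_hi] at k2
    rw [k1, k2]

theorem ent_ne {A B : ℕ} (hA : OkT A) (hB : OkT B) {i j : ℕ} (hi : i < 248) (hj : j < 248)
    (h : Nat.beq (ent 248 S A i j) (ent 248 S B i j) = false) : MT A ⟨i, hi⟩ ⟨j, hj⟩ ≠ MT B ⟨i, hi⟩ ⟨j, hj⟩ := by
  intro h2
  rw [ent_spec hi hj hA, ent_spec hi hj hB] at h2
  have h3 : ∀ (a b c d : Bool), ((cond a 1 (cond b 2 0) : ℕ) : ZMod 3) = ((cond c 1 (cond d 2 0) : ℕ) : ZMod 3) →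
      Nat.beq (cond a 1 (cond b 2 0)) (cond c 1 (cond d 2 0)) = true := by decide
  have h4 := h3 _ _ _ _ h2
  unfold ent at h
  rw [h4] at h
  exact Bool.noConfusion h

/-- the vectors -/
def vv (i : ℕ) : Fin 248 → ZMod 3 := fun c => e3 (lV.testBit (248 * i + c)) (lV.testBit (S + (248 * i + c)))

/-- stabilizers of vectors -/
def St (i : ℕ) : Subgroup GM where
  carrier := {g | vv i ᵥ* (g : Matrix (Fin 248) (Fin 248) (ZMod 3)) = vv i}
  one_mem' := by
    show vv i ᵥ* (1 : Matrix (Fin 248) (Fin 248) (ZMod 3)) = vv i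
    rw [vecMul_one]
  mul_mem' := by
    intro a b ha hb
    show vv i ᵥ* ((a : Matrix (Fin 248) (Fin 248) (ZMod 3)) * (b : Matrix (Fin 248) (Fin 248) (ZMod 3))) = vv i
    have ha' : vv i ᵥ* (a : Matrix (Fin 248) (Fin 248) (ZMod 3)) = vv i := ha
    have hb' : vv i ᵥ* (b : Matrix (Fin 248) (Fin 248) (ZMod 3)) = vv i := hb
    rw [← vecMul_vecMul, ha', hb']
  inv_mem' := by
    intro a ha
    have ha' : vv i ᵥ* (a : Matrix (Fin 248) (Fin 248) (ZMod 3)) = vv i := ha
    show vv i ᵥ* ((a⁻¹ : GM) : Matrix (Fin 248) (Fin 248) (ZMod 3)) = vv i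
    calc vv i ᵥ* ((a⁻¹ : GM) : Matrix (Fin 248) (Fin 248) (ZMod 3))
        = (vv i ᵥ* (a : Matrix (Fin 248) (Fin 248) (ZMod 3))) ᵥ* ((a⁻¹ : GM) : Matrix (Fin 248) (Fin 248) (ZMod 3)) := by rw [ha']
      _ = vv i := by rw [vecMul_vecMul, ← Units.val_mul, mul_inv_cancel, Units.val_one, vecMul_one]

theorem row_eq (A : ℕ) (g : GM) (hA : OkT A) (a : MT A = (g : Matrix (Fin 248) (Fin 248) (ZMod 3))) (i : ℕ) (hi : i < 248) (c : Fin 248) :
    MT (mulT lV A) ⟨i, hi⟩ c = (vv i ᵥ* (g : Matrix (Fin 248) (Fin 248) (ZMod 3))) c := by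
  rw [(mul_spec (ok_of good v_ok : OkT lV) hA).2, a]
  rfl

theorem mem_St {l : List ℕ} (hl : ∀ k ∈ l, k < 8) {j : ℕ} (hj : j ≤ 248) (h : rowsB (mulT lV (pl l)) lV j = true) {i : ℕ}
    (hi : i < j) : (l.map y).prod ∈ St i := by
  show vv i ᵥ* (((l.map y).prod : GM) : Matrix (Fin 248) (Fin 248) (ZMod 3)) = vv i
  funext c
  rw [← row_eq (pl l) _ (lit_pl l hl).ok (lit_pl l hl).val i (by omega) c]
  exact rows_of h hi hj c.2

theorem not_mem_St {l : List ℕ} (hl : ∀ k ∈ l, k < 8) {j d : ℕ} (hj : j < 248) (hd : d < 248)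
    (h : Nat.beq (ent 248 S (mulT lV (pl l)) j d) (ent 248 S lV j d) = false) : (l.map y).prod ∉ St j := by
  intro hm
  have hm' : vv j ᵥ* (((l.map y).prod : GM) : Matrix (Fin 248) (Fin 248) (ZMod 3)) = vv j := hm
  have h1 := congrFun hm' ⟨d, hd⟩
  rw [← row_eq (pl l) _ (lit_pl l hl).ok (lit_pl l hl).val j hj ⟨d, hd⟩] at h1
  exact ent_ne (mul_spec (ok_of good v_ok : OkT lV) (lit_pl l hl).ok).1 (ok_of good v_ok) hj hd h h1

/-- the ten lists -/
def wl (j : ℕ) : List ℕ := WW.getD j []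

theorem wl_lt : ∀ j < 10, ∀ k ∈ wl j, k < 8 := by decide

theorem mems : ∀ i < 10, ∀ j < 10, i < j → ((wl j).map y).prod ∈ St i := by
  intro i _ j hj hij
  have h := wl_lt j hj
  interval_cases j
  · exact mem_St h (by norm_num) r0 hij
  · exact mem_St h (by norm_num) r1 hij
  · exact mem_St h (by norm_num) r2 hij
  · exact mem_St h (by norm_num) r3 hij
  · exact mem_St h (by norm_num) r4 hij
  · exact mem_St h (by norm_num) r5 hij
  · exact mem_St h (by norm_num) r6 hij
  · exact mem_St h (by norm_num) r7 hij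
  · exact mem_St h (by norm_num) r8 hij
  · exact mem_St h (by norm_num) r9 hij

theorem nmems : ∀ j < 10, ((wl j).map y).prod ∉ St j := by
  intro j hj
  have h := wl_lt j hj
  interval_cases j
  · exact not_mem_St h (by norm_num) (by norm_num) d0
  · exact not_mem_St h (by norm_num) (by norm_num) d1
  · exact not_mem_St h (by norm_num) (by norm_num) d2
  · exact not_mem_St h (by norm_num) (by norm_num) d3
  · exact not_mem_St h (by norm_num) (by norm_num) d4
  · exact not_mem_St h (by norm_num) (by norm_num) d5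
  · exact not_mem_St h (by norm_num) (by norm_num) d6
  · exact not_mem_St h (by norm_num) (by norm_num) d7
  · exact not_mem_St h (by norm_num) (by norm_num) d8
  · exact not_mem_St h (by norm_num) (by norm_num) d9

/-- the Sylow 3-subgroup -/
def H3 : Subgroup GM := Subgroup.closure (z '' {k | k < 4})

theorem z_mem {k : ℕ} (hk : k < 4) : z k ∈ H3 := Subgroup.subset_closure ⟨k, hk, rfl⟩

theorem y_mem {k : ℕ} (hk : k < 8) : y k ∈ H3 := by
  unfold y
  split_ifs with h
  · exact z_mem h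
  · exact inv_mem (z_mem (by omega))

theorem H3_p : IsPGroup 3 H3 := by
  haveI : Fact (Nat.Prime 3) := ⟨Nat.prime_three⟩
  apply isPGroup_closure (k := 6) (by norm_num)
  rintro g ⟨k, hk, rfl⟩
  rw [← (litz k hk).val]
  exact ut_of (okU k (by have : k < 4 := hk; omega)) (alln_iff.1 ut_ok k hk)

theorem H3_le : H3 ≤ Rg.map (MulAut.conj Bu).toMonoidHom := by
  unfold H3
  rw [Subgroup.closure_le]
  rintro g ⟨k, _, rfl⟩
  exact ⟨rho ((WU k).eval X), ⟨_, rfl⟩, rfl⟩

theorem dvd3 : 3 ^ 10 ∣ Nat.card Rg := by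
  haveI : Fact (Nat.Prime 3) := ⟨Nat.prime_three⟩
  have h1 := chain (p := 3) 10 H3 H3_p (fun j => ((wl j).map y).prod) St (by
    intro j hj
    apply Subgroup.list_prod_mem
    intro g hg
    obtain ⟨k, hk, rfl⟩ := List.mem_map.1 hg
    exact y_mem (wl_lt j hj k hk)) mems nmems
  have h2 : Nat.card H3 ∣ Nat.card (Rg.map (MulAut.conj Bu).toMonoidHom) := Subgroup.card_dvd_of_le H3_le
  have h3 : Nat.card (Rg.map (MulAut.conj Bu).toMonoidHom) = Nat.card Rg := by
    apply Subgroup.card_map_of_injective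
    exact (MulAut.conj Bu).injective
  rw [h3] at h2
  exact h1.trans h2

/-! ### nineteen and thirty-one -/

theorem order19 : orderOf (rho (w19.eval X)) = 19 :=
  order_eq (by decide) (by norm_num) o19 (by norm_num) (by norm_num) n19

theorem order31 : orderOf (rho (w31.eval X)) = 31 :=
  order_eq (by decide) (by norm_num) o31 (by norm_num) (by norm_num) n31

theorem dvd19 : 19 ∣ Nat.card Rg := by
  have h := orderOf_dvd_natCard (el w19)
  have h2 : orderOf (el w19) = 19 := by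
    rw [← order19]
    exact (Subgroup.orderOf_coe _).symm
  rwa [h2] at h

theorem dvd31 : 31 ∣ Nat.card Rg := by
  have h := orderOf_dvd_natCard (el w31)
  have h2 : orderOf (el w31) = 31 := by
    rw [← order31]
    exact (Subgroup.orderOf_coe _).symm
  rwa [h2] at h

theorem dvd2 : 2 ^ 15 ∣ Nat.card Rg := dvd_trans (by norm_num) dvd2'

/-- the lower bound -/
theorem dvd_range : 2 ^ 15 * 3 ^ 10 * 5 ^ 3 * 19 * 31 ∣ Nat.card rho.range := by
  have h1 : 2 ^ 15 * 3 ^ 10 ∣ Nat.card Rg := Nat.Coprime.mul_dvd_of_dvd_of_dvd (by norm_num) dvd2 dvd3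
  have h2 : 2 ^ 15 * 3 ^ 10 * 5 ^ 3 ∣ Nat.card Rg := Nat.Coprime.mul_dvd_of_dvd_of_dvd (by norm_num) h1 dvd5
  have h3 : 2 ^ 15 * 3 ^ 10 * 5 ^ 3 * 19 ∣ Nat.card Rg := Nat.Coprime.mul_dvd_of_dvd_of_dvd (by norm_num) h2 dvd19
  exact Nat.Coprime.mul_dvd_of_dvd_of_dvd (by norm_num) h3 dvd31

/-- the same for the presented group -/
theorem dvd_Th : 2 ^ 15 * 3 ^ 10 * 5 ^ 3 * 19 * 31 ∣ Nat.card Cfsg.Spor.Th :=
  dvd_range.trans (Subgroup.card_range_dvd rho)

end Cfsg.Agent.Lib.ThLow
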