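import Cfsg.Agent.Lib.ThXMain
import Cfsg.Agent.Lib.ThDTw
import Cfsg.Agent.Lib.ThGlueA
import Cfsg.Agent.Lib.ThLow
import Cfsg.Agent.Lib.ThGL

/-!
# The Thompson group: final assembly (order, index, simplicity)
-/

set_option autoImplicit false
set_option linter.all false
set_option maxHeartbeats 400000

namespace Cfsg.Agent.Lib.ThFin

open Cfsg.Spor Cfsg.Agent.Lib.ThP Cfsg.Agent.Lib.ThDRun Cfsg.Agent.Lib.Dce Cfsg.Agent.Lib.ThGlue

/-- coverage data for the cosets of `³D₄(2):3` -/
theorem data : ∃ ψ : PP →* Th, ψ.range = P ∧ Finite (Th ⧸ P) ∧ Nat.card (Th ⧸ P) ≤ 143127000 ∧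
    ∃ c : ℕ → Th ⧸ P, c 0 = ((1 : Th) : Th ⧸ P) ∧ (∀ y, ∃ p i, i < 11 ∧ y = ψ p • c i) ∧
      ∀ i < 11, ∀ p ∈ Sg xs ThDS.s43 i, ψ p • c i = c i := by
  obtain ⟨ψ, h0, h1, h2, h3, h4, h5, h7, hr⟩ := exists_psi relPTh
  have hr' : ψ.range = P := hr
  obtain ⟨hf, hcard, c, hc0, -, hcov, hfix⟩ := ThXMain.upper ψ (PresentedGroup.of Th.Gen.u : Th)⁻¹ P
    (phG twTh relPTh h0 h1 h2 h3 h4 h5 h7)
    (relsG relUTh relPTh h0 h1 h2 h3 h4 h5 h7)
    (by
      intro K hK ht
      apply gen_top
      have e0 := hK (xs 0)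
      have e1 := hK (xs 1)
      have e2 := hK (xs 2)
      have e3 := hK (xs 3)
      have e4 := hK (xs 4)
      have e5 := hK (xs 5)
      have e7 := hK (xs 7)
      rw [h0] at e0
      rw [h1] at e1
      rw [h2] at e2
      rw [h3] at e3
      rw [h4] at e4
      rw [h5] at e5
      rw [h7] at e7
      have eu := K.inv_mem ht
      rw [inv_inv] at eu
      intro x
      cases x
      · exact e0
      · exact e1
      · exact e2
      · exact e3
      · exact e4
      · exact e5
      · exact e7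
      · exact eu)
    (by
      intro s _
      rw [← hr']
      exact ⟨xs s, rfl⟩)
  exact ⟨ψ, hr', hf, hcard, c, hc0, hcov, hfix⟩

theorem index_ne : P.index ≠ 0 := by
  obtain ⟨_, _, hf, _⟩ := data
  exact Subgroup.index_ne_zero_of_finite

theorem index_le : P.index ≤ 143127000 := by
  obtain ⟨_, _, _, h, _⟩ := data
  exact h

/-- the index of `³D₄(2):3` -/
theorem index_P : P.index = 143127000 :=
  index_of_dvd_range a_ne_one index_ne index_le ThRho.rho ThLow.dvd_range

theorem finite : Finite Th := finite_Th a_ne_one index_ne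

theorem card : Nat.card Th = 90745943887872000 := card_Th a_ne_one index_P

/-- representatives of the suborbits -/
theorem exists_c : ∃ c : Fin 11 → Th ⧸ P, c 0 = ((1 : Th) : Th ⧸ P) ∧ (∀ y : Th ⧸ P, ∃ i, ∃ p ∈ P, y = p • c i) ∧
    ∀ i, Nat.card (MulAction.orbit P (c i)) ≤ ThSimple.n i := by
  obtain ⟨ψ, hr, hf, -, c, hc0, hcov, hfix⟩ := data
  refine ⟨fun i => c i, hc0, ?_, ?_⟩
  · intro y
    obtain ⟨p, i, hi, h⟩ := hcov y
    exact ⟨⟨i, hi⟩, ψ p, by rw [← hr]; exact ⟨p, rfl⟩, h⟩
  · intro i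
    let f : PP →* P := ψ.codRestrict P (fun p => by rw [← hr]; exact ⟨p, rfl⟩)
    have hfs : Function.Surjective f := by
      rintro ⟨x, hx⟩
      rw [← hr] at hx
      obtain ⟨p, rfl⟩ := hx
      exact ⟨p, rfl⟩
    have h1 : Nat.card (MulAction.orbit P (c i)) = (MulAction.stabilizer P (c i)).index := by
      rw [MulAction.index_stabilizer, Nat.card_coe_set_eq]
    have h2 : ((MulAction.stabilizer P (c i)).comap f).index = (MulAction.stabilizer P (c i)).index :=
      Subgroup.index_comap_of_surjective _ hfs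
    have h3 : Sg xs ThDS.s43 i ≤ (MulAction.stabilizer P (c i)).comap f := by
      intro p hp
      exact hfix i i.2 p hp
    have := ThXMain.fin_PP
    have h4 : (Sg xs ThDS.s43 i).index ≠ 0 := Subgroup.index_ne_zero_of_finite
    have h5 := Nat.le_of_dvd (Nat.pos_of_ne_zero h4) (Subgroup.index_dvd_of_le h3)
    have h6 : ∀ i : Fin 11, ThXMain.nn i = ThSimple.n i := by decide +kernel
    show Nat.card (MulAction.orbit P (c i)) ≤ _
    rw [h1, ← h2, ← h6]
    exact h5.trans (ThXMain.idx i i.2)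

/-- **the Thompson group is simple of order 90745943887872000** -/
theorem isTh : Cfsg.IsTh Th := by
  obtain ⟨c, h0, h1, h2⟩ := exists_c
  exact ThGlue.isTh a_ne_one index_P c h0 h1 h2

theorem simple : IsSimpleGroup Th := isTh.1

/-- the matrix representation is faithful -/
theorem rho_inj : Function.Injective ThRho.rho := by
  rw [← MonoidHom.ker_eq_bot_iff]
  rcases simple.eq_bot_or_eq_top_of_normal ThRho.rho.ker inferInstance with h | h
  · exact h
  · exfalso
    apply rho_a
    have : g .a ∈ ThRho.rho.ker := by rw [h]; exact Subgroup.mem_top _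
    exact this

/-- the same for the other name of `P` -/
theorem index_P4 : ThC4G.P.index = 143127000 := by
  rw [← ThGL.P_eq]
  exact index_closure index_P

end Cfsg.Agent.Lib.ThFin
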