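import Cfsg.Agent.Lib.ThPEnd
import Cfsg.Agent.Lib.ThSimple
import Cfsg.Prelude.Def_Sporadic
import Cfsg.Prelude.Def_Exceptional

/-!
# The Thompson group: gluing `³D₄(2):3`, the suborbits and the order
-/

set_option autoImplicit false
set_option linter.all false
set_option maxHeartbeats 400000

namespace Cfsg.Agent.Lib.ThGlue

open Cfsg.Spor Cfsg.Agent.Lib.ThP

/-- generators of the Thompson group -/
def g (x : Th.Gen) : Th := PresentedGroup.of x

/-- the subgroup `³D₄(2):3` -/
def P : Subgroup Th := Subgroup.closure {g .a, g .b, g .c, g .d, g .e, g .s, g .t}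

/-- the subgroup `³D₄(2)` -/
def L : Subgroup Th := Lsub (g .a) (g .b) (g .c) (g .d) (g .e) (g .s)

theorem rel : RelP (g .a) (g .b) (g .c) (g .d) (g .e) (g .s) (g .t) := relTh

theorem L_le : L ≤ P := RelP.L_le (g .a) (g .b) (g .c) (g .d) (g .e) (g .s) (g .t)

theorem card_P (ha : g .a ≠ 1) : Nat.card P = 634023936 := rel.card_eq ha

theorem card_L (ha : g .a ≠ 1) : Nat.card L = 211341312 := rel.card_L ha

theorem simple_L (ha : g .a ≠ 1) : IsSimpleGroup L := rel.simple_L ha

theorem L_ne_bot (ha : g .a ≠ 1) : L ≠ ⊥ := by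
  intro h
  have h1 := card_L ha
  rw [h, Subgroup.card_bot] at h1
  norm_num at h1

theorem is3D4_L (ha : g .a ≠ 1) : Cfsg.Is3D4 L :=
  ⟨simple_L ha, 2, Nat.prime_two.isPrimePow, by rw [card_L ha]; norm_num⟩

theorem hP (ha : g .a ≠ 1) : ∀ M : Subgroup Th, M ≤ P → (∀ p ∈ P, ∀ m ∈ M, p * m * p⁻¹ ∈ M) → M = ⊥ ∨ L ≤ M := by
  intro M hM hinv
  obtain ⟨f, hf, hr, hL, -⟩ := rel.iso ha
  have hr' : f.range = P := hr
  have hL' : LP.map f = L := hL
  have hn : (M.comap f).Normal := by
    constructor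
    intro n hn x
    rw [Subgroup.mem_comap] at hn ⊢
    rw [map_mul, map_mul, map_inv]
    exact hinv _ (by rw [← hr']; exact ⟨x, rfl⟩) _ hn
  rcases normal_GP (M.comap f) with h | h
  · left
    rw [Subgroup.eq_bot_iff_forall]
    intro m hm
    have h1 : m ∈ f.range := by rw [hr']; exact hM hm
    obtain ⟨y, rfl⟩ := h1
    have h2 : y ∈ M.comap f := hm
    rw [h, Subgroup.mem_bot] at h2
    rw [h2, map_one]
  · right
    rw [← hL', Subgroup.map_le_iff_le_comap]
    exact h

theorem one_of_extra {w : FreeGroup Th.Gen} (h : w ∈ Th.extra) :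
    (PresentedGroup.mk (coxRelators Th.edges ∪ {r | r ∈ Th.extra}) w) = 1 :=
  PresentedGroup.one_of_mem (Or.inr h)

/-- `u² = ac` -/
theorem rel_u2 : (g .u) ^ 2 * (g .a * g .c)⁻¹ = 1 :=
  one_of_extra (w := (Th.u ^ 2) * ((Th.a * Th.c)⁻¹)) (List.mem_of_getElem? (i := 27) rfl)

/-- `t^u = t⁻¹` -/
theorem rel_tu : ((g .u)⁻¹ * g .t * g .u) * ((g .t)⁻¹)⁻¹ = 1 :=
  one_of_extra (w := (Th.u⁻¹ * Th.t * Th.u) * ((Th.t⁻¹)⁻¹)) (List.mem_of_getElem? (i := 34) rfl)

/-- `(us)³ = ac` -/
theorem rel_us : (g .a * g .c) * (((g .u * g .s) ^ 3)⁻¹) = 1 :=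
  one_of_extra (w := (Th.a * Th.c) * (((Th.u * Th.s) ^ 3)⁻¹)) (List.mem_of_getElem? (i := 36) rfl)

theorem mem_L {x : Th.Gen} (h : x ≠ .t) (h' : x ≠ .u) : g x ∈ L := by
  apply Subgroup.subset_closure
  cases x <;> simp at h h' ⊢

/-- a normal subgroup containing `³D₄(2)` is everything -/
theorem hgen : ∀ N : Subgroup Th, N.Normal → L ≤ N → N = ⊤ := by
  intro N hN hL
  set π := QuotientGroup.mk' N with hπ
  have hk : ∀ x : Th, π x = 1 ↔ x ∈ N := by
    intro x
    rw [← MonoidHom.mem_ker, hπ, QuotientGroup.ker_mk']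
  have h1 : ∀ x : Th.Gen, x ≠ .t → x ≠ .u → π (g x) = 1 := fun x h h' => (hk _).2 (hL (mem_L h h'))
  have ha := h1 .a (by decide) (by decide)
  have hc := h1 .c (by decide) (by decide)
  have hs := h1 .s (by decide) (by decide)
  have hu2 : π (g .u) ^ 2 = 1 := by
    have := congrArg π rel_u2
    rw [map_mul, map_pow, map_inv, map_mul, ha, hc, map_one] at this
    simpa using this
  have hu3 : π (g .u) ^ 3 = 1 := by
    have := congrArg π rel_us
    rw [map_mul, map_inv, map_pow, map_mul, map_mul, ha, hc, hs, map_one] at this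
    simpa using this
  have hu : π (g .u) = 1 := by
    have h2 : π (g .u) ^ 3 = π (g .u) ^ 2 * π (g .u) := pow_succ _ _
    rw [hu3, hu2, one_mul] at h2
    exact h2.symm
  have ht2 : π (g .t) ^ 2 = 1 := by
    have := congrArg π rel_tu
    rw [map_mul, map_mul, map_mul, map_inv, map_inv, map_inv, hu, map_one] at this
    simpa [pow_two] using this
  have ht3 : π (g .t) ^ 3 = 1 := by
    rw [← map_pow, rel.t3, map_one]
  have ht : π (g .t) = 1 := by
    have h2 : π (g .t) ^ 3 = π (g .t) ^ 2 * π (g .t) := pow_succ _ _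
    rw [ht3, ht2, one_mul] at h2
    exact h2.symm
  rw [eq_top_iff, ← PresentedGroup.closure_range_of, Subgroup.closure_le]
  rintro _ ⟨x, rfl⟩
  show g x ∈ N
  rw [← hk]
  by_cases h : x = .t
  · rw [h]; exact ht
  by_cases h' : x = .u
  · rw [h']; exact hu
  exact h1 x h h'

/-- the subgroup of S1706 -/
theorem closure_eq :
    ((Subgroup.closure ({Th.a, Th.b, Th.c, Th.d, Th.e, Th.s, Th.t} : Set (FreeGroup Th.Gen))).map
      (PresentedGroup.mk (coxRelators Th.edges ∪ {r | r ∈ Th.extra}))) = P := by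
  rw [MonoidHom.map_closure]
  show _ = Subgroup.closure _
  congr 1
  simp only [Set.image_insert_eq, Set.image_singleton]
  rfl

/-- finiteness -/
theorem finite_Th (ha : g .a ≠ 1) (hne : P.index ≠ 0) : Finite Th := by
  have h1 := P.index_mul_card
  rw [card_P ha] at h1
  have h2 : Nat.card Th ≠ 0 := by
    rw [← h1]
    exact mul_ne_zero hne (by norm_num)
  exact Nat.finite_of_card_ne_zero h2

/-- the order of the Thompson group -/
theorem card_Th (ha : g .a ≠ 1) (hidx : P.index = 143127000) : Nat.card Th = 90745943887872000 := by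
  rw [← P.index_mul_card, card_P ha, hidx]

/-- arithmetic: index from divisibility of the index -/
theorem index_of_dvd (hne : P.index ≠ 0) (hle : P.index ≤ 143127000)
    (hd : 2 ^ 3 * 3 ^ 5 * 5 ^ 3 * 19 * 31 ∣ P.index) : P.index = 143127000 := by
  have h1 : 143127000 ∣ P.index := by
    have e : (143127000 : ℕ) = 2 ^ 3 * 3 ^ 5 * 5 ^ 3 * 19 * 31 := by norm_num
    rw [e]; exact hd
  exact le_antisymm hle (Nat.le_of_dvd (Nat.pos_of_ne_zero hne) h1)

/-- arithmetic: index from divisibility of the order -/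
theorem index_of_dvd_card (ha : g .a ≠ 1) (hne : P.index ≠ 0) (hle : P.index ≤ 143127000)
    (hd : 2 ^ 15 * 3 ^ 10 * 5 ^ 3 * 19 * 31 ∣ Nat.card Th) : P.index = 143127000 := by
  rw [← P.index_mul_card, card_P ha] at hd
  generalize P.index = I at hd hne hle ⊢
  obtain ⟨k, hk⟩ := hd
  have h1 : I * 637 = 143127000 * k := by
    apply Nat.eq_of_mul_eq_mul_right (by norm_num : 0 < 995328)
    linarith
  have h2 : 143127000 ∣ I * 637 := ⟨k, h1⟩
  have h3 : Nat.Coprime 143127000 637 := by norm_num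
  have h4 : 143127000 ∣ I := h3.dvd_of_dvd_mul_right h2
  exact le_antisymm hle (Nat.le_of_dvd (Nat.pos_of_ne_zero hne) h4)

/-- divisibility of the order of a homomorphic image is enough -/
theorem index_of_dvd_range (ha : g .a ≠ 1) (hne : P.index ≠ 0) (hle : P.index ≤ 143127000)
    {H : Type*} [Group H] (ρ : Th →* H) (hd : 2 ^ 15 * 3 ^ 10 * 5 ^ 3 * 19 * 31 ∣ Nat.card ρ.range) :
    P.index = 143127000 := by
  have := finite_Th ha hne
  exact index_of_dvd_card ha hne hle (hd.trans (Subgroup.card_range_dvd ρ))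

/-- **final assembly** -/
theorem isTh (ha : g .a ≠ 1) (hidx : P.index = 143127000) (c : Fin 11 → Th ⧸ P) (hc0 : c 0 = ((1 : Th) : Th ⧸ P))
    (hcov : ∀ y : Th ⧸ P, ∃ i, ∃ p ∈ P, y = p • c i)
    (hle : ∀ i, Nat.card (MulAction.orbit P (c i)) ≤ ThSimple.n i) : Cfsg.IsTh Th := by
  have := finite_Th ha (by rw [hidx]; norm_num)
  exact ⟨ThSimple.simple_of_suborbits P L L_le (L_ne_bot ha) (hP ha) hgen hidx c hc0 hcov hle, card_Th ha hidx⟩

/-- S1706 -/
theorem index_closure (hidx : P.index = 143127000) :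
    (((Subgroup.closure ({Th.a, Th.b, Th.c, Th.d, Th.e, Th.s, Th.t} : Set (FreeGroup Th.Gen))).map
      (PresentedGroup.mk (coxRelators Th.edges ∪ {r | r ∈ Th.extra})))).index = 143127000 := by
  rw [closure_eq, hidx]

/-- S0464 from a homomorphism into a group `H` -/
theorem exists_image {H : Type*} [Group H] (ha : g .a ≠ 1) (hidx : P.index = 143127000) (hTh : Cfsg.IsTh Th)
    (ρ : Th →* H) (hρ : ρ (g .a) ≠ 1) :
    ∃ X : Subgroup H, Cfsg.IsTh X ∧ ∃ K : Subgroup X, K.index = 143127000 ∧ ∃ M : Subgroup X, M ≤ K ∧ Cfsg.Is3D4 M := by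
  have hs : IsSimpleGroup Th := hTh.1
  have hinj : Function.Injective ρ := by
    rw [← MonoidHom.ker_eq_bot_iff]
    rcases hs.eq_bot_or_eq_top_of_normal ρ.ker inferInstance with h | h
    · exact h
    · exfalso
      apply hρ
      have : g .a ∈ ρ.ker := by rw [h]; exact Subgroup.mem_top _
      exact this
  let E : Th ≃* ρ.range := MonoidHom.ofInjective hinj
  have hnt : Nontrivial ρ.range := E.symm.toEquiv.nontrivial
  refine ⟨ρ.range, ⟨IsSimpleGroup.isSimpleGroup_of_surjective E.toMonoidHom E.surjective, ?_⟩,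
    P.map E.toMonoidHom, ?_, L.map E.toMonoidHom, Subgroup.map_mono L_le, ?_, 2, Nat.prime_two.isPrimePow, ?_⟩
  · rw [← Nat.card_congr E.toEquiv, hTh.2]
  · rw [← hidx]
    exact Subgroup.index_map_of_bijective (f := E.toMonoidHom) E.bijective P
  · have e := L.equivMapOfInjective E.toMonoidHom E.injective
    have := simple_L ha
    have hnt' : Nontrivial (L.map E.toMonoidHom) := e.symm.toEquiv.nontrivial
    exact IsSimpleGroup.isSimpleGroup_of_surjective e.toMonoidHom e.surjective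
  · have e := L.equivMapOfInjective E.toMonoidHom E.injective
    rw [← Nat.card_congr e.toEquiv, card_L ha]
    norm_num

end Cfsg.Agent.Lib.ThGlue
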