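import Mathlib

/-!
Abelian 2-groups with automorphism group transitive on involutions are homocyclic (helper59).
-/

set_option autoImplicit false

namespace Cfsg.Agent.Lib.ThInv5

open Subgroup

theorem homocyclic_of_transitive {A : Type*} [CommGroup A] [Finite A] (hA : IsPGroup 2 A)
    (htr : ∀ x y : A, x ≠ 1 → x ^ 2 = 1 → y ≠ 1 → y ^ 2 = 1 → ∃ φ : A ≃* A, φ x = y) :
    ∃ m r : ℕ, Nonempty (A ≃* (Fin r → Multiplicative (ZMod (2 ^ m)))) := by
  classical
  obtain ⟨ι, hι, n, hn1, ⟨e⟩⟩ := CommGroup.equiv_prod_multiplicative_zmod_of_finite A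
  obtain ⟨k, hk⟩ := IsPGroup.iff_card.1 hA
  have hcard : Nat.card A = ∏ i, n i := by
    rw [Nat.card_congr e.toEquiv, Nat.card_pi]
    apply Finset.prod_congr rfl
    intro i _
    change Nat.card (ZMod (n i)) = n i
    exact Nat.card_zmod (n i)
  have hpow : ∀ i, ∃ m, n i = 2 ^ (m + 1) := by
    intro i
    have h1 : n i ∣ 2 ^ k := by
      rw [← hk, hcard]
      exact Finset.dvd_prod_of_mem n (Finset.mem_univ i)
    obtain ⟨j, -, hj⟩ := (Nat.dvd_prime_pow Nat.prime_two).1 h1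
    rcases j with _ | j
    · have := hn1 i
      rw [hj, pow_zero] at this
      omega
    · exact ⟨j, hj⟩
  choose m hm using hpow
  obtain rfl : n = fun i => 2 ^ (m i + 1) := funext hm
  -- all m equal
  have hle : ∀ i j, m j ≤ m i := by
    intro i j
    by_contra hij
    push Not at hij
    let w : ∀ i, ((i : ι) → Multiplicative (ZMod (2 ^ (m i + 1)))) := fun i =>
      Pi.mulSingle i (Multiplicative.ofAdd ((2 ^ m i : ℕ) : ZMod (2 ^ (m i + 1))))
    have hw1 : ∀ i, w i i ≠ 1 := by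
      intro i h
      have h1 : w i i = Multiplicative.ofAdd ((2 ^ m i : ℕ) : ZMod (2 ^ (m i + 1))) :=
        Pi.mulSingle_eq_same i _
      rw [h1, ofAdd_eq_one, ZMod.natCast_eq_zero_iff] at h
      have := Nat.le_of_dvd (pow_pos two_pos _) h
      rw [pow_succ] at this
      have h2 : 0 < 2 ^ m i := pow_pos two_pos _
      omega
    have hw2 : ∀ i, w i ^ 2 = 1 := by
      intro i
      have h1 : w i ^ 2 = Pi.mulSingle i
          ((Multiplicative.ofAdd ((2 ^ m i : ℕ) : ZMod (2 ^ (m i + 1)))) ^ 2) :=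
        (Pi.mulSingle_pow i _ 2).symm
      rw [h1, ← ofAdd_nsmul, nsmul_eq_mul, ← Nat.cast_mul, ← pow_succ', ZMod.natCast_self,
        ofAdd_zero, Pi.mulSingle_one]
    have hwne : ∀ i, w i ≠ 1 := fun i h => hw1 i (by rw [h]; rfl)
    obtain ⟨φ, hφ⟩ := htr (e.symm (w j)) (e.symm (w i))
      (fun h => hwne j (by simpa using h)) (by rw [← map_pow, hw2, map_one])
      (fun h => hwne i (by simpa using h)) (by rw [← map_pow, hw2, map_one])
    let u : ((i : ι) → Multiplicative (ZMod (2 ^ (m i + 1)))) :=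
      Pi.mulSingle j (Multiplicative.ofAdd (1 : ZMod (2 ^ (m j + 1))))
    have hu : u ^ 2 ^ m j = w j := by
      have h1 : u ^ 2 ^ m j = Pi.mulSingle j
          ((Multiplicative.ofAdd (1 : ZMod (2 ^ (m j + 1)))) ^ 2 ^ m j) :=
        (Pi.mulSingle_pow j _ (2 ^ m j)).symm
      rw [h1, ← ofAdd_nsmul, nsmul_eq_mul, mul_one]
    have h2 : w i = (e (φ (e.symm u))) ^ 2 ^ m j := by
      rw [← map_pow, ← map_pow, ← map_pow, hu, hφ, MulEquiv.apply_symm_apply]
    apply hw1 i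
    rw [h2, Pi.pow_apply]
    have h3 : ∀ z : Multiplicative (ZMod (2 ^ (m i + 1))), z ^ 2 ^ (m i + 1) = 1 := by
      intro z
      have : z ^ 2 ^ (m i + 1) = Multiplicative.ofAdd ((2 ^ (m i + 1) : ℕ) • z.toAdd) := rfl
      rw [this, nsmul_eq_mul, ZMod.natCast_self, zero_mul, ofAdd_zero]
    obtain ⟨d, hd⟩ := Nat.exists_eq_add_of_lt hij
    have h4 : ∀ z : Multiplicative (ZMod (2 ^ (m i + 1))), z ^ 2 ^ m j = 1 := by
      intro z
      have h5 : 2 ^ m j = 2 ^ (m i + 1) * 2 ^ d := by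
        rw [← pow_add]; congr 1; omega
      calc z ^ 2 ^ m j = z ^ (2 ^ (m i + 1) * 2 ^ d) := by rw [h5]
        _ = (z ^ 2 ^ (m i + 1)) ^ 2 ^ d := pow_mul _ _ _
        _ = 1 := by rw [h3, one_pow]
    exact h4 _
  rcases isEmpty_or_nonempty ι with hE | ⟨⟨i₀⟩⟩
  · refine ⟨0, 0, ⟨e.trans ?_⟩⟩
    have : Unique ((i : ι) → Multiplicative (ZMod (2 ^ (m i + 1)))) := Pi.uniqueOfIsEmpty _
    have : Unique (Fin 0 → Multiplicative (ZMod (2 ^ 0))) := Pi.uniqueOfIsEmpty _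
    exact MulEquiv.ofUnique
  · obtain ⟨c, hc⟩ : ∃ c, m = fun _ => c :=
      ⟨m i₀, funext fun i => le_antisymm (hle i₀ i) (hle i i₀)⟩
    subst hc
    exact ⟨c + 1, Fintype.card ι,
      ⟨e.trans (MulEquiv.arrowCongr (Fintype.equivFin ι) (MulEquiv.refl _))⟩⟩

end Cfsg.Agent.Lib.ThInv5
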