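import Mathlib

/-!
General lemmas for lower bounds of group orders (helper90): chains of stabilizers in p-groups, unitriangular
matrices, extraspecial pairs.
-/

set_option autoImplicit false
set_option maxHeartbeats 400000

namespace Cfsg.Agent.Lib.ThLowA

/-- a chain of stabilizers in a p-group -/
theorem chain {G : Type*} [Group G] [Finite G] {p : ℕ} [hp : Fact p.Prime] :
    ∀ (n : ℕ) (H : Subgroup G) (_ : IsPGroup p H) (g : ℕ → G) (St : ℕ → Subgroup G), (∀ i < n, g i ∈ H) →
      (∀ i < n, ∀ j < n, i < j → g j ∈ St i) → (∀ i < n, g i ∉ St i) → p ^ n ∣ Nat.card H := by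
  intro n
  induction n with
  | zero => intro H _ g St _ _ _; rw [pow_zero]; exact one_dvd _
  | succ n ih =>
    intro H hH g St hg hS hn
    have hK : IsPGroup p (H ⊓ St 0 : Subgroup G) := hH.to_le inf_le_left
    have h1 := ih (H ⊓ St 0) hK (fun i => g (i + 1)) (fun i => St (i + 1))
      (fun i hi => ⟨hg _ (by omega), hS 0 (by omega) _ (by omega) (by omega)⟩)
      (fun i hi j hj hij => hS _ (by omega) _ (by omega) (by omega)) (fun i hi => hn _ (by omega))
    have h2 : (H ⊓ St 0 : Subgroup G).relIndex H * Nat.card (H ⊓ St 0 : Subgroup G) = Nat.card H := by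
      have := Subgroup.relIndex_mul_relIndex ⊥ (H ⊓ St 0) H bot_le inf_le_left
      rw [Subgroup.relIndex_bot_left, Subgroup.relIndex_bot_left] at this
      rw [mul_comm, this]
    have h3 : (H ⊓ St 0 : Subgroup G).relIndex H ≠ 1 := by
      intro h
      rw [Subgroup.relIndex_eq_one] at h
      exact hn 0 (by omega) (h (hg 0 (by omega))).2
    obtain ⟨k, hk⟩ := IsPGroup.iff_card.1 hH
    have h4 : (H ⊓ St 0 : Subgroup G).relIndex H ∣ p ^ k := by
      rw [← hk, ← h2]; exact Dvd.intro _ rfl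
    obtain ⟨m, _, hm⟩ := (Nat.dvd_prime_pow hp.out).1 h4
    have hm0 : m ≠ 0 := by
      rintro rfl
      exact h3 (by rw [hm, pow_zero])
    have h5 : p ∣ (H ⊓ St 0 : Subgroup G).relIndex H := by
      rw [hm]; exact dvd_pow_self p hm0
    rw [← h2, pow_succ, mul_comm]
    exact mul_dvd_mul h5 h1

section UT

variable {N p : ℕ}

/-- lower unitriangular -/
def UT (M : Matrix (Fin N) (Fin N) (ZMod p)) : Prop := ∀ i j, i ≤ j → M i j = if i = j then 1 else 0

theorem UT.one : UT (1 : Matrix (Fin N) (Fin N) (ZMod p)) := by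
  intro i j _
  rw [Matrix.one_apply]

theorem UT.mul {M M' : Matrix (Fin N) (Fin N) (ZMod p)} (h : UT M) (h' : UT M') : UT (M * M') := by
  intro i j hij
  rw [Matrix.mul_apply, Finset.sum_eq_single i]
  · rw [h i i le_rfl, if_pos rfl, one_mul, h' i j hij]
  · intro k _ hk
    rcases lt_or_gt_of_ne hk with h1 | h1
    · rw [h' k j (by omega), if_neg (by omega), mul_zero]
    · rw [h i k h1.le, if_neg (by omega), zero_mul]
  · intro h1; exact absurd (Finset.mem_univ _) h1

theorem nil_pow {D : Matrix (Fin N) (Fin N) (ZMod p)} (h : ∀ i j, i ≤ j → D i j = 0) (k : ℕ) :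
    ∀ i j : Fin N, (i : ℕ) < j + k → (D ^ k) i j = 0 := by
  induction k with
  | zero =>
    intro i j hij
    rw [pow_zero, Matrix.one_apply, if_neg]
    rintro rfl
    omega
  | succ k ih =>
    intro i j hij
    rw [pow_succ, Matrix.mul_apply]
    apply Finset.sum_eq_zero
    intro l _
    by_cases h1 : l ≤ j
    · rw [h l j h1, mul_zero]
    · rw [ih i l (by omega), zero_mul]

theorem UT.pow_eq_one [hp : Fact p.Prime] {M : Matrix (Fin N) (Fin N) (ZMod p)} (h : UT M) {k : ℕ} (hk : N ≤ p ^ k) :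
    M ^ p ^ k = 1 := by
  rcases Nat.eq_zero_or_pos N with rfl | hN
  · exact Subsingleton.elim _ _
  haveI : NeZero N := ⟨by omega⟩
  haveI : CharP (Matrix (Fin N) (Fin N) (ZMod p)) p := Matrix.charP p
  have h1 : (M - 1) ^ p ^ k = 0 := by
    ext i j
    rw [nil_pow (D := M - 1) _ _ i j (by omega)]
    · rfl
    · intro i j hij
      rw [Matrix.sub_apply, h i j hij, Matrix.one_apply, sub_self]
  have h2 := sub_pow_char_pow_of_commute (x := M) (y := 1) (p := p) (n := k) (Commute.one_right M)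
  rw [h1, one_pow] at h2
  exact (sub_eq_zero.1 h2.symm)

theorem isPGroup_closure [hp : Fact p.Prime] {k : ℕ} (hk : N ≤ p ^ k) {s : Set (Matrix (Fin N) (Fin N) (ZMod p))ˣ}
    (hs : ∀ g ∈ s, UT (g : Matrix (Fin N) (Fin N) (ZMod p))) : IsPGroup p (Subgroup.closure s) := by
  intro g
  refine ⟨k, ?_⟩
  apply Subtype.ext
  apply Units.ext
  rw [SubmonoidClass.coe_pow, Units.val_pow_eq_pow_val]
  have h1 : (g : (Matrix (Fin N) (Fin N) (ZMod p))ˣ) ∈ Submonoid.closure s := by
    rw [← Subgroup.closure_toSubmonoid_of_finite]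
    exact g.2
  have h2 : UT (((g : (Matrix (Fin N) (Fin N) (ZMod p))ˣ)) : Matrix (Fin N) (Fin N) (ZMod p)) := by
    have h3 : ∀ z : (Matrix (Fin N) (Fin N) (ZMod p))ˣ, z ∈ Submonoid.closure s → UT (z : Matrix (Fin N) (Fin N) (ZMod p)) := by
      intro z hz
      induction hz using Submonoid.closure_induction with
      | mem x hx => exact hs x hx
      | one => exact UT.one
      | mul x y _ _ hx hy => exact hx.mul hy
    exact h3 _ h1
  exact h2.pow_eq_one hk

end UT

/-- two elements of order p with a central commutator -/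
theorem extra {G : Type*} [Group G] [Finite G] {p : ℕ} [hp : Fact p.Prime] {x y c : G} (hx : x ^ p = 1) (hy : y ^ p = 1)
    (hc : x * y = y * x * c) (hcx : c * x = x * c) (hcy : c * y = y * c) (h1 : c ≠ 1) : p ^ 3 ∣ Nat.card G := by
  have hcomm : ∀ n : ℕ, x * y ^ n = y ^ n * x * c ^ n := by
    intro n
    induction n with
    | zero => simp
    | succ n ih =>
      have e : Commute c y := hcy
      calc x * y ^ (n + 1) = (x * y ^ n) * y := by rw [pow_succ, mul_assoc]
        _ = y ^ n * x * (c ^ n * y) := by rw [ih, mul_assoc]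
        _ = y ^ n * (x * y) * c ^ n := by rw [(e.pow_left n).eq]; group
        _ = y ^ (n + 1) * x * (c * c ^ n) := by rw [hc, pow_succ]; group
        _ = y ^ (n + 1) * x * c ^ (n + 1) := by rw [← pow_succ']
  have hcp : c ^ p = 1 := by
    have h2 := hcomm p
    rw [hy, mul_one, one_mul] at h2
    exact (mul_eq_left.1 h2.symm)
  have hpz : ∀ z : G, z ^ p = 1 → IsPGroup p (Subgroup.zpowers z) := by
    intro z hz
    rw [IsPGroup.iff_card]
    have h2 : Nat.card (Subgroup.zpowers z) ∣ p := by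
      rw [Nat.card_zpowers]; exact orderOf_dvd_of_pow_eq_one hz
    rcases (Nat.dvd_prime hp.out).1 h2 with h3 | h3
    · exact ⟨0, by rw [h3, pow_zero]⟩
    · exact ⟨1, by rw [h3, pow_one]⟩
  -- the subgroup generated by y and c
  have hn1 : Subgroup.zpowers y ≤ Subgroup.normalizer (Subgroup.zpowers c : Set G) := by
    rw [Subgroup.zpowers_le]
    apply Subgroup.mem_normalizer_iff.2
    intro h
    constructor
    · rintro ⟨n, rfl⟩
      refine ⟨n, ?_⟩
      have e : Commute c y := hcy
      show c ^ n = y * c ^ n * y⁻¹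
      rw [← (e.zpow_left n).eq, mul_inv_cancel_right]
    · rintro ⟨n, hn⟩
      refine ⟨n, ?_⟩
      have e : Commute c y := hcy
      have hn' : c ^ n = y * h * y⁻¹ := hn
      show c ^ n = h
      have : h = y⁻¹ * c ^ n * y := by rw [hn']; group
      rw [this, mul_assoc, (e.zpow_left n).eq, inv_mul_cancel_left]
  have hP2 : IsPGroup p (Subgroup.zpowers y ⊔ Subgroup.zpowers c : Subgroup G) :=
    IsPGroup.to_sup_of_normal_right' (hpz y hy) (hpz c hcp) hn1
  have hyP : y ∈ (Subgroup.zpowers y ⊔ Subgroup.zpowers c : Subgroup G) :=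
    (le_sup_left : Subgroup.zpowers y ≤ _) (Subgroup.mem_zpowers y)
  have hcP : c ∈ (Subgroup.zpowers y ⊔ Subgroup.zpowers c : Subgroup G) :=
    (le_sup_right : Subgroup.zpowers c ≤ _) (Subgroup.mem_zpowers c)
  have hmap : ∀ z ∈ (Subgroup.zpowers y ⊔ Subgroup.zpowers c : Subgroup G),
      x * z * x⁻¹ ∈ (Subgroup.zpowers y ⊔ Subgroup.zpowers c : Subgroup G) := by
    intro z hz
    have h2 : (Subgroup.zpowers y ⊔ Subgroup.zpowers c : Subgroup G) ≤
        (Subgroup.zpowers y ⊔ Subgroup.zpowers c : Subgroup G).comap (MulAut.conj x).toMonoidHom := by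
      rw [sup_le_iff, Subgroup.zpowers_le, Subgroup.zpowers_le]
      constructor
      · show x * y * x⁻¹ ∈ (Subgroup.zpowers y ⊔ Subgroup.zpowers c : Subgroup G)
        have : x * y * x⁻¹ = y * c := by
          rw [hc, mul_assoc, mul_assoc, ← mul_assoc x c, ← hcx]; group
        rw [this]
        exact mul_mem hyP hcP
      · show x * c * x⁻¹ ∈ (Subgroup.zpowers y ⊔ Subgroup.zpowers c : Subgroup G)
        rw [← hcx, mul_inv_cancel_right]
        exact hcP
    exact h2 hz
  have hn2 : Subgroup.zpowers x ≤ Subgroup.normalizer ((Subgroup.zpowers y ⊔ Subgroup.zpowers c : Subgroup G) : Set G) := by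
    rw [Subgroup.zpowers_le]
    exact Subgroup.mem_normalizer_fintype hmap
  have hP3 : IsPGroup p (Subgroup.zpowers x ⊔ (Subgroup.zpowers y ⊔ Subgroup.zpowers c) : Subgroup G) :=
    IsPGroup.to_sup_of_normal_right' (hpz x hx) hP2 hn2
  have hxK : x ∈ (Subgroup.zpowers x ⊔ (Subgroup.zpowers y ⊔ Subgroup.zpowers c) : Subgroup G) :=
    (le_sup_left : Subgroup.zpowers x ≤ _) (Subgroup.mem_zpowers x)
  have hyK : y ∈ (Subgroup.zpowers x ⊔ (Subgroup.zpowers y ⊔ Subgroup.zpowers c) : Subgroup G) :=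
    (le_sup_right : _ ≤ (Subgroup.zpowers x ⊔ (Subgroup.zpowers y ⊔ Subgroup.zpowers c) : Subgroup G)) hyP
  obtain ⟨k, hk⟩ := IsPGroup.iff_card.1 hP3
  have hnc : ¬ ∀ a b : (Subgroup.zpowers x ⊔ (Subgroup.zpowers y ⊔ Subgroup.zpowers c) : Subgroup G), a * b = b * a := by
    intro h
    have h2 := congrArg Subtype.val (h ⟨x, hxK⟩ ⟨y, hyK⟩)
    have h3 : x * y = y * x := h2
    rw [hc] at h3
    exact h1 (mul_eq_left.1 h3)
  have hk3 : 3 ≤ k := by
    by_contra hlt
    have : k = 0 ∨ k = 1 ∨ k = 2 := by omega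
    rcases this with rfl | rfl | rfl
    · apply hnc
      rw [pow_zero] at hk
      haveI := (Nat.card_eq_one_iff_unique.1 hk).1
      intro a b
      exact Subsingleton.elim _ _
    · apply hnc
      rw [pow_one] at hk
      haveI := isCyclic_of_prime_card hk
      intro a b
      letI := IsCyclic.commGroup (α := (Subgroup.zpowers x ⊔ (Subgroup.zpowers y ⊔ Subgroup.zpowers c) : Subgroup G))
      exact mul_comm a b
    · apply hnc
      intro a b
      exact IsPGroup.commutative_of_card_eq_prime_sq hk a b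
  refine dvd_trans (pow_dvd_pow p hk3) ?_
  rw [← hk]
  exact Subgroup.card_subgroup_dvd_card _

end Cfsg.Agent.Lib.ThLowA
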