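import Cfsg.Agent.Lib.H10Enum

set_option autoImplicit false
set_option maxRecDepth 100000
set_option linter.style.longLine false

/-! Certificate data (coset enumeration) for a step of M(Th) = 1. -/

namespace Cfsg.Agent.Lib.ThMcS

open Cfsg.Agent.Lib.H10Enum

/-- the facts -/
def T : ℕ := 0x320000000000000100002003000060090001100d060110130200d013060120100c00c012040090110c0080100a0070070000400a0000600e0a00f00f0c00f0061000a00e0400600d0600800c0c00500b320040071000400632002003100020000e0020020e0000000c0000000a0000000600000004000000020000000c01300c0201200b0c011008040100070e00f0060a00e0060c00d0050200c0050400b0040a00a0040c009003040080030d0070030c006002040050020d004002110030011100200032001000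

/-- the relators -/
def R : List (List ℕ) := [[2, 2], [4, 4], [6, 6], [8, 8], [10, 10], [2, 4, 2, 4, 2, 4], [2, 10, 2, 10], [4, 6, 4, 6, 4, 6], [4, 8, 4, 8], [4, 10, 4, 10], [2, 9, 7, 9, 7, 9, 7, 9, 7], [6, 10, 6, 10], [8, 10, 8, 10, 8, 10], [4, 6, 8, 10, 4, 6, 8, 10, 4, 6, 8, 10, 4, 6, 8, 10, 4, 6, 8, 10, 4, 6, 8, 10, 4, 6, 8, 10, 4, 6, 8, 10], [12, 12, 12, 12, 12, 12, 12], [13, 3, 12, 2], [13, 5, 12, 4], [13, 7, 12, 6], [12, 8, 12, 8], [11, 13, 10, 13, 13, 11, 12, 12, 12], [14, 14, 14], [15, 3, 14, 2], [15, 5, 14, 4], [15, 7, 14, 6], [15, 9, 14, 8], [15, 11, 14, 10], [15, 12, 14, 13, 13], [16, 16, 7, 3], [17, 3, 16, 2], [17, 7, 16, 6], [17, 11, 16, 10], [8, 10, 17, 8, 16, 8, 10, 17, 8, 16], [17, 5, 7, 3, 4, 16, 5, 2, 6, 4, 11, 51], [9, 17, 8, 5, 7, 3, 4, 9, 16, 8, 5, 2, 6, 4, 7, 11, 9, 17, 8, 5, 7, 3, 4, 11, 17, 53], [17, 14, 16, 14], [11, 13, 13, 17,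 12, 12, 10, 13, 13, 16, 12, 12], [2, 6, 13, 17, 13, 17, 13, 17], [2, 6, 13, 17, 12, 16, 13, 17, 12, 16, 13, 17, 12, 16, 13, 17, 12, 16], [8, 13, 13, 16, 12, 12, 8, 13, 13, 16, 12, 12, 8, 13, 13, 16, 12, 12, 8, 13, 13, 16, 11, 9, 7, 8, 10, 12, 12, 12, 11, 9, 7, 8, 10, 13, 9, 7, 8, 7, 3], [50, 50], [52, 52], [51, 3, 50, 2], [51, 5, 50, 4], [51, 7, 50, 6], [51, 9, 50, 8], [51, 11, 50, 10], [51, 13, 50, 12], [51, 15, 50, 14], [51, 17, 50, 16], [51, 53, 50, 52], [53, 3, 52, 2], [53, 5, 52, 4], [53, 7, 52, 6], [53, 9, 52, 8], [53, 11, 52, 10], [53, 13, 52, 12], [53, 15, 52, 14], [53, 17, 52, 16], [53, 51, 52, 50], [2, 3], [4, 5], [6, 7], [8, 9], [10, 11], [12, 13], [14, 15], [16, 17], [50, 51], [52, 53]]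

/-- rules -/
def rs0 : List Rule := [
  ⟨15, 1, 0, 1, [0x18003e00250029]⟩,
  ⟨15, 1, 1, 1, [0x1a00190027002b]⟩,
  ⟨16, 0, 0, 1, [0xc000b001b0020, 0x12001100230028]⟩,
  ⟨16, 1, 0, 1, [0xa00090017001e, 0x10000f00210027]⟩,
  ⟨17, 0, 0, 1, [0x2200400027002c]⟩,
  ⟨17, 2, 0, 1, [0x5500410050002a]⟩,
  ⟨25, 1, 0, 0, [0x1f0048001e001d0024]⟩,
  ⟨26, 4, 0, 1, [0x1e000c0035000d0022]⟩,
  ⟨27, 0, 1, 1, [0x4002c0028001a]⟩,
  ⟨30, 1, 0, 1, [0x14003a001d0021]⟩,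
  ⟨32, 3, 0, 1, [0x1000060002002f002a002c0028002b0005000b0019001f]⟩,
  ⟨32, 10, 1, 0, [0x5a00590043003b0017002500560020004e003d003a0042002d]⟩,
  ⟨34, 3, 1, 1, [0x4003300050019]⟩,
  ⟨35, 0, 1, 1, [0x46000c003600310031002f003000300037000d00470023]⟩,
  ⟨36, 6, 0, 1, [0x800040031002c00280037000d001c]⟩,
  ⟨45, 1, 1, 1, [0x3d004c0014003c0026]⟩,
  ⟨46, 2, 1, 1, [0x80038000f001d]⟩,
  ⟨48, 2, 1, 1, [0x400030007001b]⟩,
  ⟨60, 1, 0, 0, [0x42005d0053002e]⟩,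
  ⟨64, 0, 0, 0, [0xd005e0012002f]⟩,
  ⟨66, 1, 0, 0, [0x3a004a00450025, 0x5006000060030]⟩,
  ⟨67, 0, 0, 1, [0x6200020031]⟩]

/-- all rules -/
def rs : List Rule := rs0

theorem ok : check T 100663358 13 19 50 [1, 2, 3, 4, 5, 6, 7] [19, 20, 21, 22, 23, 24] R rs = true := by decide +kernel

/-- the target fact 49: letter 25 -/
theorem tgt25 : fct T 49 = 838860800 := by decide +kernel

end Cfsg.Agent.Lib.ThMcS
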