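import Cfsg.Agent.Lib.ThMd

/-! Lifting the relators of `Th` through central extensions of odd exponent. -/

set_option autoImplicit false
set_option linter.all false
set_option maxRecDepth 20000

namespace Cfsg.Agent.Lib.ThMe

open Subgroup Cfsg.Agent.Lib.H10Enum Cfsg.Agent.Lib.SchurSylow Cfsg.Agent.Lib.ThMa Cfsg.Agent.Lib.ThMb
open Cfsg.Agent.Lib.ThMc Cfsg.Agent.Lib.ThMw Cfsg.Agent.Lib.ThMd
open Cfsg.Spor Cfsg

/-- the index of the relator whose value is a central letter -/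
def ix : ℕ → ℕ
  | 9 => 13
  | 10 => 31
  | 11 => 33
  | 12 => 36
  | 13 => 37
  | _ => 38

/-- the letters -/
def XO {Γ : Type*} [Group Γ] (x : ℕ → Γ) (n : ℕ) : Γ :=
  if n < 9 then x n else if n < 15 then wval x (rl (ix n)) else
    if n = 15 then wval x (rl 36) * wval x (rl 36) else if n = 16 then wval x (rl 37) * wval x (rl 37) else
    if n = 17 then wval x (rl 38) * wval x (rl 38) else x 3 * x 4

theorem XO_small {Γ : Type*} [Group Γ] (x : ℕ → Γ) (n : ℕ) (h : n < 9) : XO x n = x n := if_pos h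

theorem XO_z {Γ : Type*} [Group Γ] (x : ℕ → Γ) : ∀ n ∈ [9, 10, 11, 12, 13, 14], XO x n = wval x (rl (ix n)) := by
  intro n hn
  simp only [List.mem_cons, List.not_mem_nil, or_false] at hn
  unfold XO
  rw [if_neg (by omega), if_pos (by omega)]

theorem zfree_pow {Γ : Type*} [Group Γ] {Z : Subgroup Γ} {p n : ℕ} (hp : ∀ z ∈ Z, z ^ p = 1) (hn : Nat.Coprime n p)
    {y z : Γ} (hy : y ^ n = 1) (hz : z ∈ Z) (h : z ∈ zpowers y) : z = 1 := by
  apply one_of_cop hp hn hz
  obtain ⟨k, rfl⟩ := mem_zpowers_iff.1 h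
  rw [← zpow_natCast, zpow_comm, zpow_natCast, hy, one_zpow]

set_option maxHeartbeats 4000000 in
theorem odd_relators {Γ : Type} [Group Γ] {σ : Γ →* Th} (hs : Function.Surjective σ) (hZ : σ.ker ≤ center Γ) {p : ℕ}
    (hp : ∀ z ∈ σ.ker, z ^ p = 1) (h2 : Nat.Coprime 2 p) (hp1 : 1 < p) (HP : HypP) (hA : gx 1 ≠ 1) :
    ∃ a b c d e s t u : Γ, (∀ n, n < 9 → σ (xx a b c d e s t u n) = gx n) ∧
      ∀ w ∈ relW, wval (xx a b c d e s t u) w = 1 := by
  obtain ⟨a, b, c, d, e, s, t, u, hl, ha, hb, hc, hd, he, hsd, hut, huu⟩ := odd_lifts hs hZ hp h2 hp1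
  refine ⟨a, b, c, d, e, s, t, u, hl, ?_⟩
  have ha2 : a ^ 2 = 1 := by rw [pow_two, ha]
  have hb2 : b ^ 2 = 1 := by rw [pow_two, hb]
  have hc2 : c ^ 2 = 1 := by rw [pow_two, hc]
  have hd2 : d ^ 2 = 1 := by rw [pow_two, hd]
  have he2 : e ^ 2 = 1 := by rw [pow_two, he]
  have hai : a⁻¹ = a := inv_eq_of_mul_eq_one_left ha
  have hbi : b⁻¹ = b := inv_eq_of_mul_eq_one_left hb
  have hci : c⁻¹ = c := inv_eq_of_mul_eq_one_left hc
  have hdi : d⁻¹ = d := inv_eq_of_mul_eq_one_left hd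
  have hei : e⁻¹ = e := inv_eq_of_mul_eq_one_left he
  have Z0 := relZ hl 0 (by norm_num)
  rw [w0] at Z0
  have Z1 := relZ hl 1 (by norm_num)
  rw [w1] at Z1
  have Z2 := relZ hl 2 (by norm_num)
  rw [w2] at Z2
  have Z3 := relZ hl 3 (by norm_num)
  rw [w3] at Z3
  have Z4 := relZ hl 4 (by norm_num)
  rw [w4] at Z4
  have Z5 := relZ hl 5 (by norm_num)
  rw [w5] at Z5
  have Z6 := relZ hl 6 (by norm_num)
  rw [w6] at Z6
  have Z7 := relZ hl 7 (by norm_num)
  rw [w7] at Z7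
  have Z8 := relZ hl 8 (by norm_num)
  rw [w8] at Z8
  have Z9 := relZ hl 9 (by norm_num)
  rw [w9] at Z9
  have Z10 := relZ hl 10 (by norm_num)
  rw [w10] at Z10
  have Z11 := relZ hl 11 (by norm_num)
  rw [w11] at Z11
  have Z12 := relZ hl 12 (by norm_num)
  rw [w12] at Z12
  have Z13 := relZ hl 13 (by norm_num)
  rw [w13] at Z13
  have Z14 := relZ hl 14 (by norm_num)
  rw [w14] at Z14
  have Z15 := relZ hl 15 (by norm_num)
  rw [w15] at Z15
  have Z16 := relZ hl 16 (by norm_num)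
  rw [w16] at Z16
  have Z17 := relZ hl 17 (by norm_num)
  rw [w17] at Z17
  have Z18 := relZ hl 18 (by norm_num)
  rw [w18] at Z18
  have Z19 := relZ hl 19 (by norm_num)
  rw [w19] at Z19
  have Z20 := relZ hl 20 (by norm_num)
  rw [w20] at Z20
  have Z21 := relZ hl 21 (by norm_num)
  rw [w21] at Z21
  have Z22 := relZ hl 22 (by norm_num)
  rw [w22] at Z22
  have Z23 := relZ hl 23 (by norm_num)
  rw [w23] at Z23
  have Z24 := relZ hl 24 (by norm_num)
  rw [w24] at Z24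
  have Z25 := relZ hl 25 (by norm_num)
  rw [w25] at Z25
  have Z26 := relZ hl 26 (by norm_num)
  rw [w26] at Z26
  have Z27 := relZ hl 27 (by norm_num)
  rw [w27] at Z27
  have Z28 := relZ hl 28 (by norm_num)
  rw [w28] at Z28
  have Z29 := relZ hl 29 (by norm_num)
  rw [w29] at Z29
  have Z30 := relZ hl 30 (by norm_num)
  rw [w30] at Z30
  have Z31 := relZ hl 31 (by norm_num)
  rw [w31] at Z31
  have Z32 := relZ hl 32 (by norm_num)
  rw [w32] at Z32
  have Z33 := relZ hl 33 (by norm_num)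
  rw [w33] at Z33
  have Z34 := relZ hl 34 (by norm_num)
  rw [w34] at Z34
  have Z35 := relZ hl 35 (by norm_num)
  rw [w35] at Z35
  have Z36 := relZ hl 36 (by norm_num)
  rw [w36] at Z36
  have Z37 := relZ hl 37 (by norm_num)
  rw [w37] at Z37
  have Z38 := relZ hl 38 (by norm_num)
  rw [w38] at Z38
  have E5 : a * b * a * b * a * b = 1 := by
    have h : (a * b) ^ 3 = a * b * a * b * a * b := by simp only [pow_succ, pow_zero, one_mul, mul_assoc]
    rw [← h] at Z5 ⊢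
    exact dih hZ hp h2 ha hb Z5
  have E6 : a * e * a * e = 1 := by
    have h : (a * e) ^ 2 = a * e * a * e := by simp only [pow_succ, pow_zero, one_mul, mul_assoc]
    rw [← h] at Z6 ⊢
    exact dih hZ hp h2 ha he Z6
  have E7 : b * c * b * c * b * c = 1 := by
    have h : (b * c) ^ 3 = b * c * b * c * b * c := by simp only [pow_succ, pow_zero, one_mul, mul_assoc]
    rw [← h] at Z7 ⊢
    exact dih hZ hp h2 hb hc Z7
  have E8 : b * d * b * d = 1 := by
    have h : (b * d) ^ 2 = b * d * b * d := by simp only [pow_succ, pow_zero, one_mul, mul_assoc]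
    rw [← h] at Z8 ⊢
    exact dih hZ hp h2 hb hd Z8
  have E9 : b * e * b * e = 1 := by
    have h : (b * e) ^ 2 = b * e * b * e := by simp only [pow_succ, pow_zero, one_mul, mul_assoc]
    rw [← h] at Z9 ⊢
    exact dih hZ hp h2 hb he Z9
  have E11 : c * e * c * e = 1 := by
    have h : (c * e) ^ 2 = c * e * c * e := by simp only [pow_succ, pow_zero, one_mul, mul_assoc]
    rw [← h] at Z11 ⊢
    exact dih hZ hp h2 hc he Z11
  have E12 : d * e * d * e * d * e = 1 := by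
    have h : (d * e) ^ 3 = d * e * d * e * d * e := by simp only [pow_succ, pow_zero, one_mul, mul_assoc]
    rw [← h] at Z12 ⊢
    exact dih hZ hp h2 hd he Z12
  have h8 : Nat.Coprime 8 p := Nat.Coprime.pow_left 3 h2
  -- relator 10
  have cd8 : (c * d) ^ 8 = 1 := by
    apply dih hZ hp h2 hc hd
    have h1 : (c * d) ^ 8 = (a * d⁻¹ * c⁻¹ * d⁻¹ * c⁻¹ * d⁻¹ * c⁻¹ * d⁻¹ * c⁻¹)⁻¹ ^ 2 := by
      set ζ := a * d⁻¹ * c⁻¹ * d⁻¹ * c⁻¹ * d⁻¹ * c⁻¹ * d⁻¹ * c⁻¹ with hζ
      have h3 : (c * d) ^ 4 = a * ζ⁻¹ := by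
        have h4 : ζ = a * ((c * d) ^ 4)⁻¹ := by rw [hζ]; simp only [pow_succ, pow_zero, one_mul, mul_inv_rev, mul_assoc]
        have h5 : ζ * (c * d) ^ 4 = a := by rw [h4]; group
        rw [← h5, ← cc hZ Z10]; group
      have h6 : (c * d) ^ 8 = ((c * d) ^ 4) ^ 2 := by rw [← pow_mul]
      rw [h6, h3, cpow hZ (σ.ker.inv_mem Z10), ha2, one_mul]
    rw [h1]
    exact σ.ker.pow_mem (σ.ker.inv_mem Z10) 2
  have E10 : a * d⁻¹ * c⁻¹ * d⁻¹ * c⁻¹ * d⁻¹ * c⁻¹ * d⁻¹ * c⁻¹ = 1 := by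
    set ζ := a * d⁻¹ * c⁻¹ * d⁻¹ * c⁻¹ * d⁻¹ * c⁻¹ * d⁻¹ * c⁻¹ with hζ
    have h4 : ζ = a * ((c * d) ^ 4)⁻¹ := by rw [hζ]; simp only [pow_succ, pow_zero, one_mul, mul_inv_rev, mul_assoc]
    have h5 : a = (c * d) ^ 4 * ζ := by rw [cc hZ Z10, h4]; group
    apply one_of_cop hp h2 Z10
    have h6 : a ^ 2 = ((c * d) ^ 4) ^ 2 * ζ ^ 2 := by
      nth_rewrite 1 [h5]
      exact cpow hZ Z10 _ 2
    rw [ha2, ← pow_mul, cd8, one_mul] at h6
    exact h6.symm
  set x : ℕ → Γ := xx a b c d e s t u with hx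
  have hsm : ∀ i, wval (XO x) (rl i) = wval x (rl i) := fun i => wval_small (XO_small x) i
  have hX0 : XO x 0 = 1 := rfl
  have hcenX : ∀ n ∈ [9, 10, 11, 12, 13, 14], XO x n ∈ σ.ker := by
    intro n hn
    rw [XO_z x n hn]
    apply relZ hl
    unfold ix
    split <;> norm_num
  have hivX : ∀ n ∈ [1, 2, 3, 4, 5], (XO x n)⁻¹ = XO x n := by
    intro n hn
    simp only [List.mem_cons, List.not_mem_nil, or_false] at hn
    rcases hn with rfl | rfl | rfl | rfl | rfl
    · exact hai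
    · exact hbi
    · exact hci
    · exact hdi
    · exact hei
  have K1 : ∀ i ∈ [0, 1, 2, 3, 4, 5, 6, 7, 8, 9, 10, 11, 12], wval x (rl i) = 1 := by
    intro i hi
    simp only [List.mem_cons, List.not_mem_nil, or_false] at hi
    rcases hi with rfl | rfl | rfl | rfl | rfl | rfl | rfl | rfl | rfl | rfl | rfl | rfl | rfl
    · rw [w0]; exact ha
    · rw [w1]; exact hb
    · rw [w2]; exact hc
    · rw [w3]; exact hd
    · rw [w4]; exact he
    · rw [w5]; exact E5
    · rw [w6]; exact E6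
    · rw [w7]; exact E7
    · rw [w8]; exact E8
    · rw [w9]; exact E9
    · rw [w10]; exact E10
    · rw [w11]; exact E11
    · rw [w12]; exact E12
  -- relator 13
  have E13 : wval x (rl 13) = 1 := by
    have h1 : XO x 9 ∈ zpowers (c * d) := by
      refine cert_mem (zpowers (c * d)) [(0, 0), (1, 0), (2, 0), (3, 0), (4, 0), (5, 0), (6, 0), (7, 0), (8, 0), (9, 0),
        (10, 0), (11, 0), (12, 0), (13, 9)] [[6, 8, 37]] [9] hX0 (fun c hc => hivX c (bits_iv (iv := 62) (by decide) hc))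
        (hF_of hsm [0, 1, 2, 3, 4, 5, 6, 7, 8, 9, 10, 11, 12] [9, 10, 11, 12, 13, 14] ix hX0 K1 (XO_z x) (by decide))
        ?_ ?_ (by decide +kernel) ?_ ThMcA.ok (k := 807) (c := 9) (by norm_num) ThMcA.tgt9 (by norm_num)
      · intro w hw
        simp only [List.mem_cons, List.not_mem_nil, or_false] at hw
        subst hw
        show wval (XO x) [6, 8, 37] = 1
        simp only [wval_cons, wval_nil]
        show c * (d * ((c * d)⁻¹ * 1)) = 1
        group
      · intro z hz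
        apply hZ
        apply hcenX
        simp only [List.mem_cons, List.not_mem_nil, or_false] at hz
        subst hz
        decide
      · intro k hk
        simp only [List.mem_cons, List.not_mem_nil, or_false] at hk
        subst hk
        show c * d ∈ zpowers (c * d)
        exact mem_zpowers _
    exact zfree_pow hp h8 cd8 (hcenX 9 (by decide)) h1
  -- the letter s
  have dsd : d * s * d = s⁻¹ := by
    apply eq_inv_of_mul_eq_one_right
    rw [← hsd]; group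
  have E14 : s * s * s * s * s * s * s = 1 := by
    have h7 : s ^ 7 = s * s * s * s * s * s * s := by simp only [pow_succ, pow_zero, one_mul, mul_assoc]
    rw [← h7] at Z14 ⊢
    apply one_of_inv hp h2 Z14
    have h1 : d * s ^ 7 * d⁻¹ = s ^ 7 := by rw [cc hZ Z14 d]; group
    have h3 : d * s ^ 7 * d⁻¹ = (s ^ 7)⁻¹ := by
      rw [← conj_pow, ← inv_pow, hdi, dsd]
    exact h1.symm.trans h3
  have E15 := comm1 hZ hp h2 ha2 Z15
  have E16 := comm1 hZ hp h2 hb2 Z16
  have E17 := comm1 hZ hp h2 hc2 Z17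
  have E19 : e⁻¹ * s⁻¹ * e * s⁻¹ * s⁻¹ * e⁻¹ * s * s * s = 1 := by
    set ζ := e⁻¹ * s⁻¹ * e * s⁻¹ * s⁻¹ * e⁻¹ * s * s * s with hζ
    have h1 : e * (s⁻¹ * e * s) = (s⁻¹ * s⁻¹ * s⁻¹ * e * s * s * s) * ζ := by
      rw [cc hZ Z19, hζ]
      nth_rewrite 1 [← hei]
      group
    have h3 : (e * (s⁻¹ * e * s)) ^ 2 = ζ ^ 2 := by
      rw [h1, cpow hZ Z19]
      have : (s⁻¹ * s⁻¹ * s⁻¹ * e * s * s * s) ^ 2 = 1 := by
        rw [pow_two]
        calc (s⁻¹ * s⁻¹ * s⁻¹ * e * s * s * s) * (s⁻¹ * s⁻¹ * s⁻¹ * e * s * s * s)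
            = s⁻¹ * s⁻¹ * s⁻¹ * (e * e) * s * s * s := by group
          _ = 1 := by rw [he]; group
      rw [this, one_mul]
    have h4 : (s⁻¹ * e * s) * (s⁻¹ * e * s) = 1 := by
      calc (s⁻¹ * e * s) * (s⁻¹ * e * s) = s⁻¹ * (e * e) * s := by group
        _ = 1 := by rw [he]; group
    have h5 : (e * (s⁻¹ * e * s)) ^ 2 = 1 := dih hZ hp h2 he h4 (by rw [h3]; exact σ.ker.pow_mem Z19 2)
    exact one_of_cop hp h2 Z19 (h3.symm.trans h5)
  have utu : u⁻¹ * t * u = t⁻¹ := eq_inv_of_mul_eq_one_left hut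
  have E20 : t * t * t = 1 := by
    have h7 : t ^ 3 = t * t * t := by simp only [pow_succ, pow_zero, one_mul, mul_assoc]
    rw [← h7] at Z20 ⊢
    apply one_of_inv hp h2 Z20
    have h1 : u⁻¹ * t ^ 3 * u⁻¹⁻¹ = t ^ 3 := by rw [cc hZ Z20 u⁻¹]; group
    have h3 : u⁻¹ * t ^ 3 * u⁻¹⁻¹ = (t ^ 3)⁻¹ := by
      rw [← conj_pow, ← inv_pow, inv_inv, utu]
    exact h1.symm.trans h3
  have E21 := comm1 hZ hp h2 ha2 Z21
  have E22 := comm1 hZ hp h2 hb2 Z22
  have E23 := comm1 hZ hp h2 hc2 Z23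
  have E24 := comm1 hZ hp h2 hd2 Z24
  have E25 := comm1 hZ hp h2 he2 Z25
  have htd : t⁻¹ * d * t = d := by
    have : t⁻¹ * d⁻¹ * t = d⁻¹ := by
      calc t⁻¹ * d⁻¹ * t = (t⁻¹ * d⁻¹ * t * d) * d⁻¹ := by group
        _ = d⁻¹ := by rw [E24, one_mul]
    rwa [hdi] at this
  have E26 : t⁻¹ * s * t * s⁻¹ * s⁻¹ = 1 := by
    set ζ := t⁻¹ * s * t * s⁻¹ * s⁻¹ with hζ
    have h1 : t⁻¹ * s * t = ζ * (s * s) := by rw [hζ]; group
    have h3 : d * (t⁻¹ * s * t) * d = (t⁻¹ * s * t)⁻¹ := by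
      calc d * (t⁻¹ * s * t) * d = (t⁻¹ * d * t) * (t⁻¹ * s * t) * (t⁻¹ * d * t) := by rw [htd]
        _ = t⁻¹ * (d * s * d) * t := by group
        _ = (t⁻¹ * s * t)⁻¹ := by rw [dsd]; group
    have h4 : d * (ζ * (s * s)) * d = ζ * (s⁻¹ * s⁻¹) := by
      calc d * (ζ * (s * s)) * d = (d * ζ) * s * (d * d) * s * d := by rw [hd]; group
        _ = (ζ * d) * s * (d * d) * s * d := by rw [cc hZ Z26 d]
        _ = ζ * ((d * s * d) * (d * s * d)) := by group
        _ = ζ * (s⁻¹ * s⁻¹) := by rw [dsd]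
    rw [h1, h4, mul_inv_rev, mul_inv_rev] at h3
    apply one_of_inv hp h2 Z26
    have h5 : ζ * (s⁻¹ * s⁻¹) = ζ⁻¹ * (s⁻¹ * s⁻¹) := by rw [h3]; exact cc hZ (σ.ker.inv_mem Z26) _
    exact mul_right_cancel h5
  have K2 : ∀ i ∈ [0, 1, 2, 3, 4, 5, 6, 7, 8, 9, 10, 11, 12, 13, 14, 15, 16, 17, 18, 19, 20, 21, 22, 23, 24, 25, 26],
      wval x (rl i) = 1 := by
    intro i hi
    simp only [List.mem_cons, List.not_mem_nil, or_false] at hi
    by_cases h : i < 13
    · apply K1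
      simp only [List.mem_cons, List.not_mem_nil, or_false]
      omega
    · have hi' : i = 13 ∨ i = 14 ∨ i = 15 ∨ i = 16 ∨ i = 17 ∨ i = 18 ∨ i = 19 ∨ i = 20 ∨ i = 21 ∨ i = 22 ∨ i = 23 ∨ i = 24 ∨
        i = 25 ∨ i = 26 := by omega
      rcases hi' with rfl | rfl | rfl | rfl | rfl | rfl | rfl | rfl | rfl | rfl | rfl | rfl | rfl | rfl
      · exact E13
      · rw [w14]; exact E14
      · rw [w15]; exact E15
      · rw [w16]; exact E16
      · rw [w17]; exact E17
      · rw [w18]; exact hsd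
      · rw [w19]; exact E19
      · rw [w20]; exact E20
      · rw [w21]; exact E21
      · rw [w22]; exact E22
      · rw [w23]; exact E23
      · rw [w24]; exact E24
      · rw [w25]; exact E25
      · rw [w26]; exact E26
  have ha1 : x 1 ≠ 1 := by
    intro h
    apply hA
    rw [← hl 1 (by norm_num), h, map_one]
  have zf := HP Γ x (fun i hi => K2 i (by simp only [List.mem_cons, List.not_mem_nil, or_false]; omega)) ha1
  -- group (4)
  have E28 := comm1 hZ hp h2 ha2 Z28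
  have E29 := comm1 hZ hp h2 hc2 Z29
  have E30 := comm1 hZ hp h2 he2 Z30
  have E35 : e⁻¹ * s⁻¹ * s⁻¹ * u⁻¹ * s * s * e * s⁻¹ * s⁻¹ * u * s * s = 1 := by
    have h1 : e⁻¹ * s⁻¹ * s⁻¹ * u⁻¹ * s * s * e * s⁻¹ * s⁻¹ * u * s * s =
      e⁻¹ * (s⁻¹ * s⁻¹ * u * s * s)⁻¹ * e * (s⁻¹ * s⁻¹ * u * s * s) := by
        simp only [mul_inv_rev, inv_inv, mul_assoc]
    rw [h1] at Z35 ⊢
    exact comm2 hZ hp h2 he2 Z35
  have hac : a * c = c * a := by
    have h1 : u * u = a * c := by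
      calc u * u = (u * u * c⁻¹ * a⁻¹) * (a * c) := by group
        _ = a * c := by rw [huu, one_mul]
    have h3 : u⁻¹ * a * u = a := by
      have : u⁻¹ * a⁻¹ * u = a⁻¹ := by
        calc u⁻¹ * a⁻¹ * u = (u⁻¹ * a⁻¹ * u * a) * a⁻¹ := by group
          _ = a⁻¹ := by rw [E28, one_mul]
      rwa [hai] at this
    have h4 : a * u = u * a := by
      calc a * u = u * (u⁻¹ * a * u) := by group
        _ = u * a := by rw [h3]
    have h5 : a * (a * c) = a * (c * a) := by
      calc a * (a * c) = (a * u) * u := by rw [← h1]; group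
        _ = (u * a) * u := by rw [h4]
        _ = u * (a * u) := by group
        _ = u * (u * a) := by rw [h4]
        _ = (u * u) * a := by group
        _ = a * (c * a) := by rw [h1]; group
    exact mul_left_cancel h5
  have hacac : (a * c) * (a * c) = 1 := by
    calc (a * c) * (a * c) = a * (c * a) * c := by group
      _ = a * (a * c) * c := by rw [hac]
      _ = (a * a) * (c * c) := by group
      _ = 1 := by rw [ha, hc, one_mul]
  have E32 : u⁻¹ * b⁻¹ * c⁻¹ * a⁻¹ * b * u * b⁻¹ * a * c * b * e⁻¹ = 1 := by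
    set ζ := u⁻¹ * b⁻¹ * c⁻¹ * a⁻¹ * b * u * b⁻¹ * a * c * b * e⁻¹ with hζ
    set f := b⁻¹ * (a * c) * b with hf
    have hff : f * f = 1 := by
      calc f * f = b⁻¹ * ((a * c) * (a * c)) * b := by rw [hf]; group
        _ = 1 := by rw [hacac]; group
    have hfi : f⁻¹ = f := inv_eq_of_mul_eq_one_left hff
    have h1 : ζ = u⁻¹ * f⁻¹ * u * f * e⁻¹ := by rw [hζ, hf]; group
    have hg : (u⁻¹ * f * u) * (u⁻¹ * f * u) = 1 := by
      calc (u⁻¹ * f * u) * (u⁻¹ * f * u) = u⁻¹ * (f * f) * u := by group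
        _ = 1 := by rw [hff]; group
    have h3 : (u⁻¹ * f * u) * f = e * ζ := by
      rw [cc hZ Z32, h1, hfi]; group
    have h4 : ((u⁻¹ * f * u) * f) ^ 2 = ζ ^ 2 := by rw [h3, cpow hZ Z32, he2, one_mul]
    have h5 := dih hZ hp h2 hg hff (m := 2) (by rw [h4]; exact σ.ker.pow_mem Z32 2)
    exact one_of_cop hp h2 Z32 (h4.symm.trans h5)
  have K3 : ∀ i ∈ [0, 1, 2, 3, 4, 5, 6, 7, 8, 9, 10, 11, 12, 13, 14, 15, 16, 17, 18, 19, 20, 21, 22, 23, 24, 25, 26, 27, 28,
      29, 30, 32, 34, 35], wval x (rl i) = 1 := by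
    intro i hi
    simp only [List.mem_cons, List.not_mem_nil, or_false] at hi
    by_cases h : i < 27
    · apply K2
      simp only [List.mem_cons, List.not_mem_nil, or_false]
      omega
    · have hi' : i = 27 ∨ i = 28 ∨ i = 29 ∨ i = 30 ∨ i = 32 ∨ i = 34 ∨ i = 35 := by omega
      rcases hi' with rfl | rfl | rfl | rfl | rfl | rfl | rfl
      · rw [w27]; exact huu
      · rw [w28]; exact E28
      · rw [w29]; exact E29
      · rw [w30]; exact E30
      · rw [w32]; exact E32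
      · rw [w34]; exact hut
      · rw [w35]; exact E35
  -- certificate B
  let H : Subgroup Γ := closure {g : Γ | ∃ n, 0 < n ∧ n < 8 ∧ g = x n}
  have hxH : ∀ n, 0 < n → n < 8 → XO x n ∈ H := fun n h1 h3 => subset_closure ⟨n, h1, h3, XO_small x n (by omega)⟩
  have hB : ∀ k c : ℕ, k < 600 → fct ThMcB.T k = 33554432 * c → c < 128 → XO x c ∈ H := by
    intro k c hk hv hc
    refine cert_mem H [(0, 0), (1, 0), (2, 0), (3, 0), (4, 0), (5, 0), (6, 0), (7, 0), (8, 0), (9, 0),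
        (10, 0), (11, 0), (12, 0), (13, 0), (27, 0), (28, 0), (29, 0), (30, 0), (31, 10), (32, 0), (33, 11)]
        [] [10, 11] hX0 (fun c hc => hivX c (bits_iv (iv := 62) (by decide) hc))
        (hF_of hsm [0, 1, 2, 3, 4, 5, 6, 7, 8, 9, 10, 11, 12, 13, 14, 15, 16, 17, 18, 19, 20, 21, 22, 23, 24, 25, 26, 27,
          28, 29, 30, 32, 34, 35] [9, 10, 11, 12, 13, 14] ix hX0 K3 (XO_z x) (by decide))
        (by simp) ?_ (by decide +kernel) ?_ ThMcB.ok hk hv hc
    · intro z hz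
      apply hZ
      apply hcenX
      simp only [List.mem_cons, List.not_mem_nil, or_false] at hz
      rcases hz with rfl | rfl <;> decide
    · intro k hk
      simp only [List.mem_cons, List.not_mem_nil, or_false] at hk
      apply hxH <;> omega
  have E31 : wval x (rl 31) = 1 :=
    zf _ (hB 598 10 (by norm_num) ThMcB.tgt10 (by norm_num)) (hZ (hcenX 10 (by decide)))
  have E33 : wval x (rl 33) = 1 :=
    zf _ (hB 599 11 (by norm_num) ThMcB.tgt11 (by norm_num)) (hZ (hcenX 11 (by decide)))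
  -- certificate C
  have K4 : ∀ i ∈ [0, 1, 2, 3, 4, 5, 6, 7, 8, 9, 10, 11, 12, 13, 14, 15, 16, 17, 18, 19, 20, 21, 22, 23, 24, 25, 26, 27, 28,
      29, 30, 31, 32, 33, 34, 35], wval x (rl i) = 1 := by
    intro i hi
    simp only [List.mem_cons, List.not_mem_nil, or_false] at hi
    by_cases h : i = 31
    · subst h; exact E31
    by_cases h' : i = 33
    · subst h'; exact E33
    apply K3
    simp only [List.mem_cons, List.not_mem_nil, or_false]
    omega
  have hC : ∀ k c : ℕ, k < 1567 → fct ThMcC.T k = 33554432 * c → c < 128 → XO x c ∈ H := by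
    intro k c hk hv hc
    refine cert_mem H [(0, 0), (2, 0), (3, 0), (4, 0), (6, 0), (10, 0), (11, 0), (12, 0), (14, 0), (15, 0), (17, 0), (18, 0),
        (19, 0), (20, 0), (21, 0), (23, 0), (24, 0), (25, 0), (26, 0), (27, 0), (28, 0), (29, 0), (30, 0), (31, 0), (34, 0),
        (35, 0), (36, 12), (37, 13), (38, 14)]
        [[24, 24, 31], [26, 26, 33], [28, 28, 35]] [12, 13, 14] hX0
        (fun c hc => hivX c (by
          have := bits_iv (iv := 58) (L := [1, 3, 4, 5]) (by decide) hc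
          simp only [List.mem_cons, List.not_mem_nil, or_false] at this ⊢
          omega))
        (hF_of hsm [0, 1, 2, 3, 4, 5, 6, 7, 8, 9, 10, 11, 12, 13, 14, 15, 16, 17, 18, 19, 20, 21, 22, 23, 24, 25, 26, 27,
          28, 29, 30, 31, 32, 33, 34, 35] [9, 10, 11, 12, 13, 14] ix hX0 K4 (XO_z x) (by decide))
        ?_ ?_ (by decide +kernel) ?_ ThMcC.ok hk hv hc
    · intro w hw
      simp only [List.mem_cons, List.not_mem_nil, or_false] at hw
      rcases hw with rfl | rfl | rfl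
      · show XO x 12 * (XO x 12 * ((XO x 12 * XO x 12)⁻¹ * 1)) = 1
        group
      · show XO x 13 * (XO x 13 * ((XO x 13 * XO x 13)⁻¹ * 1)) = 1
        group
      · show XO x 14 * (XO x 14 * ((XO x 14 * XO x 14)⁻¹ * 1)) = 1
        group
    · intro z hz
      apply hZ
      apply hcenX
      simp only [List.mem_cons, List.not_mem_nil, or_false] at hz
      rcases hz with rfl | rfl | rfl <;> decide
    · intro k hk
      simp only [List.mem_cons, List.not_mem_nil, or_false] at hk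
      apply hxH <;> omega
  have sq : ∀ z ∈ σ.ker, z * z ∈ H → z = 1 := by
    intro z hz h
    apply one_of_cop hp h2 hz
    rw [pow_two]
    exact zf _ h (hZ (σ.ker.mul_mem hz hz))
  have E36 : wval x (rl 36) = 1 := sq _ (hcenX 12 (by decide)) (hC 1564 15 (by norm_num) ThMcC.tgt15 (by norm_num))
  have E37 : wval x (rl 37) = 1 := sq _ (hcenX 13 (by decide)) (hC 1565 16 (by norm_num) ThMcC.tgt16 (by norm_num))
  have E38 : wval x (rl 38) = 1 := sq _ (hcenX 14 (by decide)) (hC 1566 17 (by norm_num) ThMcC.tgt17 (by norm_num))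
  have all : ∀ i, i < 39 → wval x (rl i) = 1 := by
    intro i hi
    by_cases h36 : i = 36
    · rw [h36]; exact E36
    by_cases h37 : i = 37
    · rw [h37]; exact E37
    by_cases h38 : i = 38
    · rw [h38]; exact E38
    apply K4
    simp only [List.mem_cons, List.not_mem_nil, or_false]
    omega
  intro w hw
  have : ∀ w ∈ relW, ∃ i, i < 39 ∧ rl i = w := by decide
  obtain ⟨i, hi, rfl⟩ := this w hw
  exact all i hi

end Cfsg.Agent.Lib.ThMe
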