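import Cfsg.Agent.Lib.ThMe
import Cfsg.Agent.Lib.ThMcW
import Cfsg.Agent.Lib.ThMcP
import Cfsg.Agent.Lib.ThMcQ
import Cfsg.Agent.Lib.ThMcR
import Cfsg.Agent.Lib.ThMcS
import Cfsg.Agent.Lib.ThMcV

/-! Lifting the relators of `Th` through central extensions of exponent two. -/

set_option autoImplicit false
set_option linter.all false
set_option maxRecDepth 20000

namespace Cfsg.Agent.Lib.ThMg

open Subgroup Cfsg.Agent.Lib.H10Enum Cfsg.Agent.Lib.SchurSylow Cfsg.Agent.Lib.ThMa Cfsg.Agent.Lib.ThMb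
open Cfsg.Agent.Lib.ThMc Cfsg.Agent.Lib.ThMw Cfsg.Agent.Lib.ThMd Cfsg.Agent.Lib.ThMe
open Cfsg.Spor Cfsg

theorem ord_conj {Γ : Type*} [Group Γ] {x g : Γ} {n : ℕ} (h : x ^ n = 1) : (g⁻¹ * x * g) ^ n = 1 := by
  have := conj_pow (i := n) (a := g⁻¹) (b := x)
  rw [inv_inv] at this
  rw [this, h]; group

/-- lifts with normalized relators, case `p = 2` -/
theorem two_lifts {Γ : Type} [Group Γ] {σ : Γ →* Th} (hs : Function.Surjective σ) (hZ : σ.ker ≤ center Γ)
    (hp : ∀ z ∈ σ.ker, z ^ 2 = 1) : ∃ a b c d e s t u : Γ, (∀ n, n < 9 → σ (xx a b c d e s t u n) = gx n) ∧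
      s ^ 7 = 1 ∧ t ^ 3 = 1 ∧ a = (c * d) ^ 4 ∧ (a * b) ^ 3 = 1 ∧ (b * c) ^ 3 = 1 ∧ (d * e) ^ 3 = 1 ∧
      e⁻¹ * s⁻¹ * e * s⁻¹ * s⁻¹ * e⁻¹ * s * s * s = 1 ∧ a * c * s⁻¹ * u⁻¹ * s⁻¹ * u⁻¹ * s⁻¹ * u⁻¹ = 1 := by
  have r5 := rth 5 (by norm_num)
  have r7 := rth 7 (by norm_num)
  have r10 := rth 10 (by norm_num)
  have r12 := rth 12 (by norm_num)
  have r14 := rth 14 (by norm_num)
  have r19 := rth 19 (by norm_num)
  have r20 := rth 20 (by norm_num)
  have r36 := rth 36 (by norm_num)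
  rw [w5] at r5
  rw [w7] at r7
  rw [w10] at r10
  rw [w12] at r12
  rw [w14] at r14
  rw [w19] at r19
  rw [w20] at r20
  rw [w36] at r36
  obtain ⟨s, hs7, hs77⟩ := pick hs hZ hp (n := 7) (by norm_num) (by norm_num) (y := gx 6)
    (by rw [← r14]; simp only [pow_succ, pow_zero, one_mul, mul_assoc])
  obtain ⟨t, ht3, ht33⟩ := pick hs hZ hp (n := 3) (by norm_num) (by norm_num) (y := gx 7)
    (by rw [← r20]; simp only [pow_succ, pow_zero, one_mul, mul_assoc])
  obtain ⟨b0, hb0⟩ := hs (gx 2)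
  obtain ⟨c0, hc0⟩ := hs (gx 3)
  obtain ⟨d0, hd0⟩ := hs (gx 4)
  obtain ⟨e0, he0⟩ := hs (gx 5)
  obtain ⟨u0, hu0⟩ := hs (gx 8)
  have hA : σ ((c0 * d0) ^ 4) = gx 1 := by
    rw [map_pow, map_mul, hc0, hd0]
    have : gx 1 * ((gx 3 * gx 4) ^ 4)⁻¹ = 1 := by
      rw [← r10]; simp only [pow_succ, pow_zero, one_mul, mul_inv_rev, mul_assoc]
    exact (mul_inv_eq_one.1 this).symm
  have z4 : ∀ z ∈ σ.ker, z ^ 4 = 1 := fun z hz => by
    rw [show 4 = 2 * 2 from rfl, pow_mul, hp z hz, one_pow]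
  have z6 : ∀ z ∈ σ.ker, z ^ 6 = 1 := fun z hz => by
    rw [show 6 = 2 * 3 from rfl, pow_mul, hp z hz, one_pow]
  set a := (c0 * d0) ^ 4 with ha
  have hz1 : (a * b0) ^ 3 ∈ σ.ker := by
    rw [MonoidHom.mem_ker, map_pow, map_mul, hA, hb0, ← r5]
    simp only [pow_succ, pow_zero, one_mul, mul_assoc]
  set z1 := (a * b0) ^ 3 with hz1d
  have hz2 : ((b0 * z1) * c0) ^ 3 ∈ σ.ker := by
    rw [MonoidHom.mem_ker, map_pow, map_mul, map_mul, hb0, MonoidHom.mem_ker.1 hz1, mul_one, hc0, ← r7]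
    simp only [pow_succ, pow_zero, one_mul, mul_assoc]
  set z2 := ((b0 * z1) * c0) ^ 3 with hz2d
  have hz3 : (d0 * e0) ^ 3 ∈ σ.ker := by
    rw [MonoidHom.mem_ker, map_pow, map_mul, hd0, he0, ← r12]
    simp only [pow_succ, pow_zero, one_mul, mul_assoc]
  set z3 := (d0 * e0) ^ 3 with hz3d
  set e1 := e0 * z3 with he1
  have hse1 : σ e1 = gx 5 := by rw [he1, map_mul, he0, MonoidHom.mem_ker.1 hz3, mul_one]
  have hz4 : e1⁻¹ * s⁻¹ * e1 * s⁻¹ * s⁻¹ * e1⁻¹ * s * s * s ∈ σ.ker := by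
    rw [MonoidHom.mem_ker]; simp only [map_mul, map_inv]; rw [hse1, hs7, r19]
  set z4' := e1⁻¹ * s⁻¹ * e1 * s⁻¹ * s⁻¹ * e1⁻¹ * s * s * s with hz4d
  set c := c0 * z2 with hc
  have hsc : σ c = gx 3 := by rw [hc, map_mul, hc0, MonoidHom.mem_ker.1 hz2, mul_one]
  have hz5 : a * c * s⁻¹ * u0⁻¹ * s⁻¹ * u0⁻¹ * s⁻¹ * u0⁻¹ ∈ σ.ker := by
    rw [MonoidHom.mem_ker]; simp only [map_mul, map_inv]; rw [hA, hsc, hs7, hu0, r36]
  set z5 := a * c * s⁻¹ * u0⁻¹ * s⁻¹ * u0⁻¹ * s⁻¹ * u0⁻¹ with hz5d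
  have k1 := fun g => cc hZ hz1 g
  have k2 := fun g => cc hZ hz2 g
  have k3 := fun g => cc hZ hz3 g
  have k4 := fun g => cc hZ hz4 g
  have k5 := fun g => cc hZ hz5 g
  refine ⟨a, b0 * z1, c, d0 * z4', e1 * z4', s, t, u0 * z5, ?_, hs77, ht33, ?_, ?_, ?_, ?_, ?_, ?_⟩
  · intro n hn
    have q1 := MonoidHom.mem_ker.1 hz1
    have q4 := MonoidHom.mem_ker.1 hz4
    have q5 := MonoidHom.mem_ker.1 hz5
    interval_cases n
    · show σ 1 = 1; exact map_one σ
    · exact hA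
    · show σ (b0 * z1) = _; rw [map_mul, q1, mul_one, hb0]
    · exact hsc
    · show σ (d0 * z4') = _; rw [map_mul, q4, mul_one, hd0]
    · show σ (e1 * z4') = _; rw [map_mul, q4, mul_one, hse1]
    · exact hs7
    · exact ht3
    · show σ (u0 * z5) = _; rw [map_mul, q5, mul_one, hu0]
  · have h1 : c * (d0 * z4') = (c0 * d0) * (z2 * z4') := by
      rw [hc]
      calc c0 * z2 * (d0 * z4') = c0 * (z2 * d0) * z4' := by group
        _ = c0 * (d0 * z2) * z4' := by rw [k2 d0]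
        _ = c0 * d0 * (z2 * z4') := by group
    rw [h1, cpow hZ (σ.ker.mul_mem hz2 hz4), z4 _ (σ.ker.mul_mem hz2 hz4), mul_one]
  · rw [← mul_assoc, cpow hZ hz1, ← hz1d, ← pow_succ']
    exact z4 _ hz1
  · have h1 : b0 * z1 * c = (b0 * z1 * c0) * z2 := by rw [hc]; group
    rw [h1, cpow hZ hz2, ← hz2d, ← pow_succ']
    exact z4 _ hz2
  · have h1 : d0 * z4' * (e1 * z4') = (d0 * e0) * (z3 * (z4' * z4')) := by
      calc d0 * z4' * (e1 * z4') = d0 * (z4' * e1) * z4' := by group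
        _ = d0 * (e1 * z4') * z4' := by rw [k4 e1]
        _ = (d0 * e0) * (z3 * (z4' * z4')) := by rw [he1]; group
    have h4 : z4' * z4' = 1 := by rw [← pow_two]; exact hp _ hz4
    rw [h1, h4, mul_one, cpow hZ hz3, ← hz3d, ← pow_succ']
    exact z4 _ hz3
  · have h44 : z4' * z4' = 1 := by rw [← pow_two]; exact hp _ hz4
    have h4 : z4'⁻¹ = z4' := inv_eq_of_mul_eq_one_left h44
    calc (e1 * z4')⁻¹ * s⁻¹ * (e1 * z4') * s⁻¹ * s⁻¹ * (e1 * z4')⁻¹ * s * s * s
        = z4'⁻¹ * (e1⁻¹ * s⁻¹ * e1) * (z4' * (s⁻¹ * s⁻¹)) * z4'⁻¹ * (e1⁻¹ * s * s * s) := by group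
      _ = z4' * (e1⁻¹ * s⁻¹ * e1) * (z4' * (s⁻¹ * s⁻¹)) * z4' * (e1⁻¹ * s * s * s) := by rw [h4]
      _ = z4' * (e1⁻¹ * s⁻¹ * e1) * ((s⁻¹ * s⁻¹) * z4') * z4' * (e1⁻¹ * s * s * s) := by rw [k4 (s⁻¹ * s⁻¹)]
      _ = z4' * (e1⁻¹ * s⁻¹ * e1) * (s⁻¹ * s⁻¹) * (z4' * z4') * (e1⁻¹ * s * s * s) := by group
      _ = z4' * (e1⁻¹ * s⁻¹ * e1) * (s⁻¹ * s⁻¹) * (e1⁻¹ * s * s * s) := by
          rw [h44, mul_one]
      _ = z4' * (e1⁻¹ * s⁻¹ * e1 * s⁻¹ * s⁻¹ * e1⁻¹ * s * s * s) := by group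
      _ = 1 := by rw [← hz4d, h44]
  · have h55 : z5 * z5 = 1 := by rw [← pow_two]; exact hp _ hz5
    have h5 : z5⁻¹ = z5 := inv_eq_of_mul_eq_one_left h55
    calc a * c * s⁻¹ * (u0 * z5)⁻¹ * s⁻¹ * (u0 * z5)⁻¹ * s⁻¹ * (u0 * z5)⁻¹
        = (a * c * s⁻¹) * z5⁻¹ * (u0⁻¹ * s⁻¹) * z5⁻¹ * (u0⁻¹ * s⁻¹) * z5⁻¹ * u0⁻¹ := by group
      _ = (a * c * s⁻¹) * z5 * (u0⁻¹ * s⁻¹) * z5 * (u0⁻¹ * s⁻¹) * z5 * u0⁻¹ := by rw [h5]
      _ = (z5 * (a * c * s⁻¹)) * (u0⁻¹ * s⁻¹) * z5 * (u0⁻¹ * s⁻¹) * (z5 * u0⁻¹) := by rw [← k5 (a * c * s⁻¹)]; group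
      _ = (z5 * (a * c * s⁻¹)) * (u0⁻¹ * s⁻¹) * z5 * (u0⁻¹ * s⁻¹) * (u0⁻¹ * z5) := by rw [k5 u0⁻¹]
      _ = (z5 * (a * c * s⁻¹)) * (u0⁻¹ * s⁻¹) * (z5 * (u0⁻¹ * s⁻¹ * u0⁻¹)) * z5 := by group
      _ = (z5 * (a * c * s⁻¹)) * (u0⁻¹ * s⁻¹) * ((u0⁻¹ * s⁻¹ * u0⁻¹) * z5) * z5 := by rw [k5 (u0⁻¹ * s⁻¹ * u0⁻¹)]
      _ = z5 * (a * c * s⁻¹ * u0⁻¹ * s⁻¹ * u0⁻¹ * s⁻¹ * u0⁻¹) * (z5 * z5) := by group
      _ = 1 := by rw [← hz5d, h55, mul_one]

/-- the index of the relator whose value is a central letter -/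
def iy : ℕ → ℕ
  | 9 => 3
  | 10 => 0
  | 11 => 1
  | 12 => 2
  | 13 => 6
  | 14 => 8
  | 15 => 9
  | 16 => 11
  | 17 => 13
  | 18 => 0
  | 19 => 4
  | 20 => 27
  | 21 => 28
  | 22 => 29
  | 23 => 30
  | 24 => 31
  | 25 => 32
  | 26 => 33
  | 27 => 35
  | 28 => 37
  | _ => 38

/-- the central letters -/
def cl : List ℕ := [9, 10, 11, 12, 13, 14, 15, 16, 17, 19, 20, 21, 22, 23, 24, 25, 26, 27, 28, 29]

/-- the letters -/
def XT {Γ : Type*} [Group Γ] (x : ℕ → Γ) (n : ℕ) : Γ :=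
  if n < 9 then x n else if n = 18 then x 2 * x 3 else wval x (rl (iy n))

theorem XT_small {Γ : Type*} [Group Γ] (x : ℕ → Γ) (n : ℕ) (h : n < 9) : XT x n = x n := if_pos h

theorem XT_z {Γ : Type*} [Group Γ] (x : ℕ → Γ) : ∀ n ∈ cl, XT x n = wval x (rl (iy n)) := by
  intro n hn
  simp only [cl, List.mem_cons, List.not_mem_nil, or_false] at hn
  unfold XT
  rw [if_neg (by omega), if_neg (by omega)]

/-- squares of central letters -/
theorem sqw {Γ : Type*} [Group Γ] {X : ℕ → Γ} {L : List ℕ} (h : ∀ n ∈ L, X n * X n = 1) :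
    ∀ w ∈ L.map (fun n => [2 * n, 2 * n]), wval X w = 1 := by
  intro w hw
  obtain ⟨n, hn, rfl⟩ := List.mem_map.1 hw
  rw [wval_cons, wval_cons, wval_nil, val_even, mul_one]
  exact h n hn

set_option maxHeartbeats 4000000 in
theorem two_relators {Γ : Type} [Group Γ] {σ : Γ →* Th} (hs : Function.Surjective σ) (hZ : σ.ker ≤ center Γ)
    (hp : ∀ z ∈ σ.ker, z ^ 2 = 1) (HP : HypP) (hA : gx 1 ≠ 1) :
    ∃ a b c d e s t u : Γ, (∀ n, n < 9 → σ (xx a b c d e s t u n) = gx n) ∧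
      ∀ w ∈ relW, wval (xx a b c d e s t u) w = 1 := by
  obtain ⟨a, b, c, d, e, s, t, u, hl, hs7, ht3, hacd, hab3, hbc3, hde3, hes, hus⟩ := two_lifts hs hZ hp
  refine ⟨a, b, c, d, e, s, t, u, hl, ?_⟩
  have Z0 := relZ hl 0 (by norm_num)
  rw [w0] at Z0
  have Z1 := relZ hl 1 (by norm_num)
  rw [w1] at Z1
  have Z2 := relZ hl 2 (by norm_num)
  rw [w2] at Z2
  have Z3 := relZ hl 3 (by norm_num)
  rw [w3] at Z3
  have Z4 := relZ hl 4 (by norm_num)
  rw [w4] at Z4
  have Z5 := relZ hl 5 (by norm_num)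
  rw [w5] at Z5
  have Z6 := relZ hl 6 (by norm_num)
  rw [w6] at Z6
  have Z7 := relZ hl 7 (by norm_num)
  rw [w7] at Z7
  have Z8 := relZ hl 8 (by norm_num)
  rw [w8] at Z8
  have Z9 := relZ hl 9 (by norm_num)
  rw [w9] at Z9
  have Z10 := relZ hl 10 (by norm_num)
  rw [w10] at Z10
  have Z11 := relZ hl 11 (by norm_num)
  rw [w11] at Z11
  have Z12 := relZ hl 12 (by norm_num)
  rw [w12] at Z12
  have Z13 := relZ hl 13 (by norm_num)
  rw [w13] at Z13
  have Z14 := relZ hl 14 (by norm_num)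
  rw [w14] at Z14
  have Z15 := relZ hl 15 (by norm_num)
  rw [w15] at Z15
  have Z16 := relZ hl 16 (by norm_num)
  rw [w16] at Z16
  have Z17 := relZ hl 17 (by norm_num)
  rw [w17] at Z17
  have Z18 := relZ hl 18 (by norm_num)
  rw [w18] at Z18
  have Z19 := relZ hl 19 (by norm_num)
  rw [w19] at Z19
  have Z20 := relZ hl 20 (by norm_num)
  rw [w20] at Z20
  have Z21 := relZ hl 21 (by norm_num)
  rw [w21] at Z21
  have Z22 := relZ hl 22 (by norm_num)
  rw [w22] at Z22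
  have Z23 := relZ hl 23 (by norm_num)
  rw [w23] at Z23
  have Z24 := relZ hl 24 (by norm_num)
  rw [w24] at Z24
  have Z25 := relZ hl 25 (by norm_num)
  rw [w25] at Z25
  have Z26 := relZ hl 26 (by norm_num)
  rw [w26] at Z26
  have Z27 := relZ hl 27 (by norm_num)
  rw [w27] at Z27
  have Z28 := relZ hl 28 (by norm_num)
  rw [w28] at Z28
  have Z29 := relZ hl 29 (by norm_num)
  rw [w29] at Z29
  have Z30 := relZ hl 30 (by norm_num)
  rw [w30] at Z30
  have Z31 := relZ hl 31 (by norm_num)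
  rw [w31] at Z31
  have Z32 := relZ hl 32 (by norm_num)
  rw [w32] at Z32
  have Z33 := relZ hl 33 (by norm_num)
  rw [w33] at Z33
  have Z34 := relZ hl 34 (by norm_num)
  rw [w34] at Z34
  have Z35 := relZ hl 35 (by norm_num)
  rw [w35] at Z35
  have Z36 := relZ hl 36 (by norm_num)
  rw [w36] at Z36
  have Z37 := relZ hl 37 (by norm_num)
  rw [w37] at Z37
  have Z38 := relZ hl 38 (by norm_num)
  rw [w38] at Z38
  set x : ℕ → Γ := xx a b c d e s t u with hx
  have hsm : ∀ i, wval (XT x) (rl i) = wval x (rl i) := fun i => wval_small (XT_small x) i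
  have hX0 : XT x 0 = 1 := rfl
  have hcenX : ∀ n ∈ cl, XT x n ∈ σ.ker := by
    intro n hn
    rw [XT_z x n hn]
    apply relZ hl
    unfold iy
    split <;> norm_num
  have hsqX : ∀ n ∈ cl, XT x n * XT x n = 1 := by
    intro n hn
    rw [← pow_two]
    exact hp _ (hcenX n hn)
  have hivc : ∀ n ∈ cl, (XT x n)⁻¹ = XT x n := fun n hn => inv_eq_of_mul_eq_one_left (hsqX n hn)
  have E14 : wval x (rl 14) = 1 := by
    rw [w14, ← hs7]; simp only [pow_succ, pow_zero, one_mul, mul_assoc]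
  have E19 : wval x (rl 19) = 1 := by rw [w19]; exact hes
  -- certificate W
  have E4 : wval x (rl 4) = 1 := by
    have h1 : XT x 19 ∈ zpowers s := by
      refine cert_mem (zpowers s) [(14, 0), (19, 0), (4, 19)] ([19].map (fun n => [2 * n, 2 * n])) [19] hX0
        (fun c hc => hivc c (by
          have := bits_iv (iv := 524288) (L := [19]) (by decide) hc
          simp only [cl, List.mem_cons, List.not_mem_nil, or_false] at this ⊢
          omega))
        (hF_of hsm [14, 19] cl iy hX0 ?_ (XT_z x) (by decide))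
        (sqw fun n hn => hsqX n (by
          simp only [cl, List.mem_cons, List.not_mem_nil, or_false] at hn ⊢
          omega)) ?_ (by decide +kernel) ?_ ThMcW.ok (k := 27) (c := 19) (by norm_num) ThMcW.tgt19 (by norm_num)
      · intro i hi
        simp only [List.mem_cons, List.not_mem_nil, or_false] at hi
        rcases hi with rfl | rfl
        · exact E14
        · exact E19
      · intro z hz
        apply hZ
        apply hcenX
        simp only [cl, List.mem_cons, List.not_mem_nil, or_false] at hz ⊢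
        omega
      · intro k hk
        simp only [List.mem_cons, List.not_mem_nil, or_false] at hk
        subst hk
        show s ∈ zpowers s
        exact mem_zpowers _
    exact zfree_pow (n := 7) hp (by norm_num) hs7 (hcenX 19 (by decide)) h1
  have E5 : wval x (rl 5) = 1 := by
    rw [w5, ← hab3]; simp only [pow_succ, pow_zero, one_mul, mul_assoc]
  have E7 : wval x (rl 7) = 1 := by
    rw [w7, ← hbc3]; simp only [pow_succ, pow_zero, one_mul, mul_assoc]
  have E12 : wval x (rl 12) = 1 := by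
    rw [w12, ← hde3]; simp only [pow_succ, pow_zero, one_mul, mul_assoc]
  have E10 : wval x (rl 10) = 1 := by
    rw [w10]
    have : a * ((c * d) ^ 4)⁻¹ = 1 := by rw [← hacd, mul_inv_cancel]
    rw [← this]; simp only [pow_succ, pow_zero, one_mul, mul_inv_rev, mul_assoc]
  have E36 : wval x (rl 36) = 1 := by rw [w36]; exact hus
  have hei : e⁻¹ = e := inv_eq_of_mul_eq_one_left (by rw [w4] at E4; exact E4)
  -- certificate P
  have hPP : ∀ k n : ℕ, k < 4496 → fct ThMcP.T k = 33554432 * n → n < 128 → n ∈ cl → XT x n = 1 := by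
    intro k n hk hv hn hnc
    have h1 : XT x n ∈ zpowers (b * c) := by
      refine cert_mem (zpowers (b * c)) [(0, 10), (1, 11), (2, 12), (3, 9), (4, 0), (5, 0), (6, 13), (7, 0), (8, 14),
        (9, 15), (10, 0), (11, 16), (12, 0), (13, 17)]
        ([4, 6, 37] :: ([9, 10, 11, 12, 13, 14, 15, 16, 17].map (fun n => [2 * n, 2 * n])))
        [9, 10, 11, 12, 13, 14, 15, 16, 17] hX0
        (fun c hc => ?_)
        (hF_of hsm [4, 5, 7, 10, 12] cl iy hX0 ?_ (XT_z x) (by decide))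
        ?_ ?_ (by decide +kernel) ?_ ThMcP.ok hk hv hn
      · have := bits_iv (iv := 261664) (L := [5, 9, 10, 11, 12, 13, 14, 15, 16, 17]) (by decide) hc
        rcases List.mem_cons.1 this with rfl | this
        · exact hei
        · apply hivc
          simp only [cl, List.mem_cons, List.not_mem_nil, or_false] at this ⊢
          omega
      · intro i hi
        simp only [List.mem_cons, List.not_mem_nil, or_false] at hi
        rcases hi with rfl | rfl | rfl | rfl | rfl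
        · exact E4
        · exact E5
        · exact E7
        · exact E10
        · exact E12
      · intro w hw
        rcases List.mem_cons.1 hw with rfl | hw
        · show b * (c * ((b * c)⁻¹ * 1)) = 1
          group
        · exact sqw (fun n hn => hsqX n (by
            simp only [cl, List.mem_cons, List.not_mem_nil, or_false] at hn ⊢
            omega)) w hw
      · intro z hz
        apply hZ
        apply hcenX
        simp only [cl, List.mem_cons, List.not_mem_nil, or_false] at hz ⊢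
        omega
      · intro k hk
        simp only [List.mem_cons, List.not_mem_nil, or_false] at hk
        subst hk
        show b * c ∈ zpowers (b * c)
        exact mem_zpowers _
    exact zfree_pow (n := 3) hp (by norm_num) hbc3 (hcenX n hnc) h1
  have E3 : wval x (rl 3) = 1 := hPP 4487 9 (by norm_num) ThMcP.tgt9 (by norm_num) (by decide)
  have E0 : wval x (rl 0) = 1 := hPP 4488 10 (by norm_num) ThMcP.tgt10 (by norm_num) (by decide)
  have E1 : wval x (rl 1) = 1 := hPP 4489 11 (by norm_num) ThMcP.tgt11 (by norm_num) (by decide)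
  have E2 : wval x (rl 2) = 1 := hPP 4490 12 (by norm_num) ThMcP.tgt12 (by norm_num) (by decide)
  have E6 : wval x (rl 6) = 1 := hPP 4491 13 (by norm_num) ThMcP.tgt13 (by norm_num) (by decide)
  have E8 : wval x (rl 8) = 1 := hPP 4492 14 (by norm_num) ThMcP.tgt14 (by norm_num) (by decide)
  have E9 : wval x (rl 9) = 1 := hPP 4493 15 (by norm_num) ThMcP.tgt15 (by norm_num) (by decide)
  have E11 : wval x (rl 11) = 1 := hPP 4494 16 (by norm_num) ThMcP.tgt16 (by norm_num) (by decide)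
  have E13 : wval x (rl 13) = 1 := hPP 4495 17 (by norm_num) ThMcP.tgt17 (by norm_num) (by decide)
  have ha : a * a = 1 := by rw [w0] at E0; exact E0
  have hb : b * b = 1 := by rw [w1] at E1; exact E1
  have hc : c * c = 1 := by rw [w2] at E2; exact E2
  have hd : d * d = 1 := by rw [w3] at E3; exact E3
  have hai : a⁻¹ = a := inv_eq_of_mul_eq_one_left ha
  have hbi : b⁻¹ = b := inv_eq_of_mul_eq_one_left hb
  have hci : c⁻¹ = c := inv_eq_of_mul_eq_one_left hc
  have hdi : d⁻¹ = d := inv_eq_of_mul_eq_one_left hd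
  have hivX : ∀ n ∈ [1, 2, 3, 4, 5], (XT x n)⁻¹ = XT x n := by
    intro n hn
    simp only [List.mem_cons, List.not_mem_nil, or_false] at hn
    rcases hn with rfl | rfl | rfl | rfl | rfl
    · exact hai
    · exact hbi
    · exact hci
    · exact hdi
    · exact hei
  have E15 := comm2 (n := 7) hZ hp (by norm_num) hs7 Z15
  have E16 := comm2 (n := 7) hZ hp (by norm_num) hs7 Z16
  have E17 := comm2 (n := 7) hZ hp (by norm_num) hs7 Z17
  have E18 : s * d * s * d = 1 := by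
    apply ord_uniq (n := 7) hZ hp (by norm_num) (x := s⁻¹) Z18 (by rw [inv_pow, hs7, inv_one])
    have h1 : s⁻¹ * (s * d * s * d) = d⁻¹ * s * d := by rw [hdi]; group
    rw [h1]
    exact ord_conj hs7
  have E20 : wval x (rl 20) = 1 := by
    rw [w20, ← ht3]; simp only [pow_succ, pow_zero, one_mul, mul_assoc]
  have E21 := comm2 (n := 3) hZ hp (by norm_num) ht3 Z21
  have E22 := comm2 (n := 3) hZ hp (by norm_num) ht3 Z22
  have E23 := comm2 (n := 3) hZ hp (by norm_num) ht3 Z23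
  have E24 := comm2 (n := 3) hZ hp (by norm_num) ht3 Z24
  have E25 := comm2 (n := 3) hZ hp (by norm_num) ht3 Z25
  have E26 : t⁻¹ * s * t * s⁻¹ * s⁻¹ = 1 := by
    apply ord_uniq (n := 7) hZ hp (by norm_num) (x := s * s) Z26
    · rw [← pow_two, ← pow_mul, mul_comm, pow_mul, hs7, one_pow]
    have h1 : s * s * (t⁻¹ * s * t * s⁻¹ * s⁻¹) = t⁻¹ * s * t := by
      rw [cc hZ Z26]; group
    rw [h1]
    exact ord_conj hs7
  have E34 : u⁻¹ * t * u * t = 1 := by
    apply ord_uniq (n := 3) hZ hp (by norm_num) (x := t⁻¹) Z34 (by rw [inv_pow, ht3, inv_one])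
    have h1 : t⁻¹ * (u⁻¹ * t * u * t) = u⁻¹ * t * u := by rw [cc hZ Z34]; group
    rw [h1]
    exact ord_conj ht3
  have K2 : ∀ i ∈ [0, 1, 2, 3, 4, 5, 6, 7, 8, 9, 10, 11, 12, 13, 14, 15, 16, 17, 18, 19, 20, 21, 22, 23, 24, 25, 26],
      wval x (rl i) = 1 := by
    intro i hi
    simp only [List.mem_cons, List.not_mem_nil, or_false] at hi
    rcases hi with rfl | rfl | rfl | rfl | rfl | rfl | rfl | rfl | rfl | rfl | rfl | rfl | rfl | rfl | rfl | rfl | rfl |
      rfl | rfl | rfl | rfl | rfl | rfl | rfl | rfl | rfl | rfl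
    · exact E0
    · exact E1
    · exact E2
    · exact E3
    · exact E4
    · exact E5
    · exact E6
    · exact E7
    · exact E8
    · exact E9
    · exact E10
    · exact E11
    · exact E12
    · exact E13
    · exact E14
    · rw [w15]; exact E15
    · rw [w16]; exact E16
    · rw [w17]; exact E17
    · rw [w18]; exact E18
    · exact E19
    · exact E20
    · rw [w21]; exact E21
    · rw [w22]; exact E22
    · rw [w23]; exact E23
    · rw [w24]; exact E24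
    · rw [w25]; exact E25
    · rw [w26]; exact E26
  have ha1 : x 1 ≠ 1 := by
    intro h
    apply hA
    rw [← hl 1 (by norm_num), h, map_one]
  have zf := HP Γ x (fun i hi => K2 i (by simp only [List.mem_cons, List.not_mem_nil, or_false]; omega)) ha1
  let H : Subgroup Γ := closure {g : Γ | ∃ n, 0 < n ∧ n < 8 ∧ g = x n}
  have hxH : ∀ n, 0 < n → n < 8 → XT x n ∈ H := fun n h1 h3 => subset_closure ⟨n, h1, h3, XT_small x n (by omega)⟩
  have ivg : ∀ (iv : ℕ) (L : List ℕ), (L.foldr (fun k acc => 2 ^ k ||| acc) 0) = iv → (∀ n ∈ L, n ∈ [1, 2, 3, 4, 5] ∨ n ∈ cl) →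
      ∀ c, iv.testBit c = true → (XT x c)⁻¹ = XT x c := by
    intro iv L h1 h3 c hc
    rcases h3 c (bits_iv h1 hc) with h4 | h4
    · exact hivX c h4
    · exact hivc c h4
  have cen' : ∀ L : List ℕ, (∀ n ∈ L, n ∈ cl) → ∀ z ∈ L, XT x z ∈ center Γ := fun L h z hz => hZ (hcenX z (h z hz))
  have sub' : ∀ L : List ℕ, (∀ n ∈ L, 0 < n ∧ n < 8) → ∀ z ∈ L, XT x z ∈ H := fun L h z hz => hxH z (h z hz).1 (h z hz).2
  have sq' : ∀ L : List ℕ, (∀ n ∈ L, n ∈ cl) → ∀ w ∈ L.map (fun n => [2 * n, 2 * n]), wval (XT x) w = 1 :=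
    fun L h => sqw fun n hn => hsqX n (h n hn)
  -- certificate Q
  have hQ : ∀ k n : ℕ, k < 392 → fct ThMcQ.T k = 33554432 * n → n < 128 → n ∈ cl → XT x n = 1 := by
    intro k n hk hv hn hnc
    refine zf _ ?_ (hZ (hcenX n hnc))
    exact cert_mem H [(0, 0), (1, 0), (2, 0), (3, 0), (4, 0), (5, 0), (6, 0), (7, 0), (8, 0), (9, 0),
        (10, 0), (11, 0), (12, 0), (13, 0), (27, 20), (28, 21), (29, 22), (30, 23), (31, 24), (32, 25), (33, 26)]
      ([20, 21, 22, 23, 24, 25, 26].map (fun n => [2 * n, 2 * n])) [20, 21, 22, 23, 24, 25, 26] hX0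
      (ivg 133169214 [1, 2, 3, 4, 5, 20, 21, 22, 23, 24, 25, 26] (by decide) (by decide))
      (hF_of hsm _ cl iy hX0 K2 (XT_z x) (by decide)) (sq' _ (by decide)) (cen' _ (by decide)) (by decide +kernel)
      (sub' _ (by decide)) ThMcQ.ok hk hv hn
  have E28 : wval x (rl 28) = 1 := hQ 388 21 (by norm_num) ThMcQ.tgt21 (by norm_num) (by decide)
  have E29 : wval x (rl 29) = 1 := hQ 389 22 (by norm_num) ThMcQ.tgt22 (by norm_num) (by decide)
  have E30 : wval x (rl 30) = 1 := hQ 390 23 (by norm_num) ThMcQ.tgt23 (by norm_num) (by decide)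
  have E31 : wval x (rl 31) = 1 := hQ 391 24 (by norm_num) ThMcQ.tgt24 (by norm_num) (by decide)
  have K3 : ∀ i ∈ [0, 1, 2, 3, 4, 5, 6, 7, 8, 9, 10, 11, 12, 13, 14, 15, 16, 17, 18, 19, 20, 21, 22, 23, 24, 25, 26,
      28, 29, 30, 31, 34, 36], wval x (rl i) = 1 := by
    intro i hi
    simp only [List.mem_cons, List.not_mem_nil, or_false] at hi
    by_cases h : i < 27
    · apply K2
      simp only [List.mem_cons, List.not_mem_nil, or_false]
      omega
    · have hi' : i = 28 ∨ i = 29 ∨ i = 30 ∨ i = 31 ∨ i = 34 ∨ i = 36 := by omega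
      rcases hi' with rfl | rfl | rfl | rfl | rfl | rfl
      · exact E28
      · exact E29
      · exact E30
      · exact E31
      · rw [w34]; exact E34
      · exact E36
  -- certificate R
  have hR : ∀ k n : ℕ, k < 815 → fct ThMcR.T k = 33554432 * n → n < 128 → n ∈ cl → XT x n = 1 := by
    intro k n hk hv hn hnc
    refine zf _ ?_ (hZ (hcenX n hnc))
    exact cert_mem H [(0, 0), (2, 0), (3, 0), (4, 0), (6, 0), (10, 0), (11, 0), (12, 0), (14, 0), (15, 0), (17, 0), (18, 0),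
        (19, 0), (20, 0), (21, 0), (23, 0), (24, 0), (25, 0), (26, 0), (27, 20), (28, 0), (29, 0), (30, 0), (31, 0), (34, 0),
        (35, 27), (36, 0), (37, 28), (38, 29)]
      ([20, 27, 28, 29].map (fun n => [2 * n, 2 * n])) [20, 27, 28, 29] hX0
      (ivg 940572730 [1, 3, 4, 5, 20, 27, 28, 29] (by decide) (by decide))
      (hF_of hsm _ cl iy hX0 K3 (XT_z x) (by decide)) (sq' _ (by decide)) (cen' _ (by decide)) (by decide +kernel)
      (sub' _ (by decide)) ThMcR.ok hk hv hn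
  have E27 : wval x (rl 27) = 1 := hR 811 20 (by norm_num) ThMcR.tgt20 (by norm_num) (by decide)
  have E35 : wval x (rl 35) = 1 := hR 812 27 (by norm_num) ThMcR.tgt27 (by norm_num) (by decide)
  have E37 : wval x (rl 37) = 1 := hR 813 28 (by norm_num) ThMcR.tgt28 (by norm_num) (by decide)
  have E38 : wval x (rl 38) = 1 := hR 814 29 (by norm_num) ThMcR.tgt29 (by norm_num) (by decide)
  have K4 : ∀ i ∈ [0, 1, 2, 3, 4, 5, 6, 7, 8, 9, 10, 11, 12, 13, 14, 15, 16, 17, 18, 19, 20, 21, 22, 23, 24, 25, 26, 27,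
      28, 29, 30, 31, 34, 35, 36, 37, 38], wval x (rl i) = 1 := by
    intro i hi
    simp only [List.mem_cons, List.not_mem_nil, or_false] at hi
    by_cases h : i = 27 ∨ i = 35 ∨ i = 37 ∨ i = 38
    · rcases h with rfl | rfl | rfl | rfl
      · exact E27
      · exact E35
      · exact E37
      · exact E38
    · apply K3
      simp only [List.mem_cons, List.not_mem_nil, or_false]
      omega
  -- certificate S
  have E32 : wval x (rl 32) = 1 := by
    refine zf _ ?_ (hZ (hcenX 25 (by decide)))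
    exact cert_mem H [(0, 0), (1, 0), (2, 0), (3, 0), (4, 0), (5, 0), (6, 0), (7, 0), (8, 0), (9, 0),
        (10, 0), (11, 0), (12, 0), (13, 0), (14, 0), (15, 0), (16, 0), (17, 0), (18, 0),
        (19, 0), (20, 0), (21, 0), (22, 0), (23, 0), (24, 0), (25, 0), (26, 0), (27, 0), (28, 0), (29, 0), (30, 0), (31, 0),
        (32, 25), (33, 26), (34, 0), (35, 0), (36, 0), (37, 0), (38, 0)]
      ([25, 26].map (fun n => [2 * n, 2 * n])) [25, 26] hX0
      (ivg 100663358 [1, 2, 3, 4, 5, 25, 26] (by decide) (by decide))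
      (hF_of hsm _ cl iy hX0 K4 (XT_z x) (by decide)) (sq' _ (by decide)) (cen' _ (by decide)) (by decide +kernel)
      (sub' _ (by decide)) ThMcS.ok (k := 49) (c := 25) (by norm_num) ThMcS.tgt25 (by norm_num)
  have K5 : ∀ i ∈ [0, 1, 2, 3, 4, 5, 6, 7, 8, 9, 10, 11, 12, 13, 14, 15, 16, 17, 18, 19, 20, 21, 22, 23, 24, 25, 26, 27,
      28, 29, 30, 31, 32, 34, 35, 36, 37, 38], wval x (rl i) = 1 := by
    intro i hi
    simp only [List.mem_cons, List.not_mem_nil, or_false] at hi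
    by_cases h : i = 32
    · rw [h]; exact E32
    · apply K4
      simp only [List.mem_cons, List.not_mem_nil, or_false]
      omega
  -- certificate V
  have E33 : wval x (rl 33) = 1 := by
    refine zf _ ?_ (hZ (hcenX 26 (by decide)))
    exact cert_mem H [(0, 0), (1, 0), (2, 0), (3, 0), (4, 0), (5, 0), (6, 0), (7, 0), (8, 0), (9, 0),
        (10, 0), (11, 0), (12, 0), (13, 0), (27, 0), (28, 0), (29, 0), (30, 0), (31, 0), (32, 0), (33, 26)]
      ([26].map (fun n => [2 * n, 2 * n])) [26] hX0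
      (ivg 67108926 [1, 2, 3, 4, 5, 26] (by decide) (by decide))
      (hF_of hsm _ cl iy hX0 K5 (XT_z x) (by decide)) (sq' _ (by decide)) (cen' _ (by decide)) (by decide +kernel)
      (sub' _ (by decide)) ThMcV.ok (k := 284) (c := 26) (by norm_num) ThMcV.tgt26 (by norm_num)
  have all : ∀ i, i < 39 → wval x (rl i) = 1 := by
    intro i hi
    by_cases h33 : i = 33
    · rw [h33]; exact E33
    apply K5
    simp only [List.mem_cons, List.not_mem_nil, or_false]
    omega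
  intro w hw
  have : ∀ w ∈ relW, ∃ i, i < 39 ∧ rl i = w := by decide
  obtain ⟨i, hi, rfl⟩ := this w hw
  exact all i hi

end Cfsg.Agent.Lib.ThMg
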