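import Cfsg.Agent.Lib.ThPSim

/-!
# `³D₄(2)` in `³D₄(2):3`: simplicity, index, centralizer, embeddings
-/

set_option autoImplicit false
set_option linter.all false
set_option maxRecDepth 100000

namespace Cfsg.Agent.Lib.ThP

open Cfsg.Spor Cfsg.Agent.Lib.BenesWord Cfsg.Agent.Lib.CosetGroup Cfsg.Agent.Lib.CoxBridge Cfsg.Agent.Lib.CosetMain
open Cfsg.Agent.Lib.CosetChain Cfsg.Agent.Lib.Dce ThPT

/-- an element of the permutation group commuting with `LL` is trivial -/
theorem centr_PP {g : PP} (hg : ∀ x ∈ LL, x * g = g * x) : g = 1 := by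
  have hcomm : ∀ (x : LL) (i : ℕ), φL x (PP.subtype g i) = PP.subtype g (φL x i) := by
    intro x i
    have h1 : PP.subtype ((x : PP) * g) = PP.subtype (g * (x : PP)) := by rw [hg _ x.2]
    rw [map_mul, map_mul] at h1
    exact congrArg (fun p : Equiv.Perm ℕ => p i) h1
  have hlt : PP.subtype g 0 < 819 := PG_lt c_all g (by norm_num)
  -- the image of `0` is fixed by the stabilizer of `0`
  have hfix : ∀ h ∈ HL, h • (⟨PP.subtype g 0, hlt⟩ : Fin 819) = ⟨PP.subtype g 0, hlt⟩ := by
    intro h hh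
    apply Fin.ext
    show φL h (PP.subtype g 0) = PP.subtype g 0
    rw [hcomm, HL_fix h hh]
  have h0 : PP.subtype g 0 = 0 := by
    have s0 := sub_of (by norm_num) d_og0
    have s1 := sub_of (by norm_num) d_og1
    have s2 := sub_of (by norm_num) d_og2
    have key : ∀ (F : Set (Fin 819)), 1 < F.ncard → (∀ x ∈ F, ∀ y ∈ F, ∃ g ∈ HL, g • x = y) →
        (⟨PP.subtype g 0, hlt⟩ : Fin 819) ∉ F := by
      intro F hF ht hmem
      obtain ⟨x, hx, y, hy, hxy⟩ := (Set.one_lt_ncard (Set.toFinite _)).mp hF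
      apply hxy
      obtain ⟨k, hk, e1⟩ := ht _ hmem _ hx
      obtain ⟨k', hk', e2⟩ := ht _ hmem _ hy
      rw [hfix k hk] at e1
      rw [hfix k' hk'] at e2
      rw [← e1, ← e2]
    rcases cover (⟨PP.subtype g 0, hlt⟩ : Fin 819) with h | h | h | h
    · exact congrArg Fin.val h
    · exact absurd h (key _ (by rw [s0.1]; norm_num) s0.2)
    · exact absurd h (key _ (by rw [s1.1]; norm_num) s1.2)
    · exact absurd h (key _ (by rw [s2.1]; norm_num) s2.2)
  apply PP_faith
  intro i hi
  obtain ⟨x, hx⟩ := exists_zero ⟨i, hi⟩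
  have hx' : φL x 0 = i := congrArg Fin.val hx
  rw [← hx', ← hcomm, h0]

/-- the isomorphism with the permutation group -/
theorem iso_PP : ∃ e : GP ≃* PP, LP.map e.toMonoidHom = LL ∧ e (gp .a) = X 0 ∧ e (gp .b) = X 1 ∧ e (gp .c) = X 2 ∧
    e (gp .d) = X 3 ∧ e (gp .e) = X 4 ∧ e (gp .s) = X 5 ∧ e (gp .t) = X 7 := by
  obtain ⟨_, _, _, e, e0, e1, e2, e3, e4, e5, e6⟩ := pp_main
  refine ⟨e, ?_, e0, e1, e2, e3, e4, e5, e6⟩
  show (Subgroup.closure _).map _ = Subgroup.closure _
  rw [MonoidHom.map_closure]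
  congr 1
  simp only [Set.image_insert_eq, Set.image_singleton]
  show ({e (gp .a), e (gp .b), e (gp .c), e (gp .d), e (gp .e), e (gp .s)} : Set PP) = _
  rw [e0, e1, e2, e3, e4, e5]

/-- `LP` is the permutation group `LL` -/
theorem iso_LL : Nonempty (LP ≃* LL) := by
  obtain ⟨e, h, _⟩ := iso_PP
  have h1 : LP.map (e : GP →* PP) = LL := h
  exact ⟨(e.subgroupMap LP).trans (MulEquiv.subgroupCongr h1)⟩

instance LP_simple : IsSimpleGroup LP := by
  obtain ⟨e⟩ := iso_LL
  have : Nontrivial LP := e.toEquiv.nontrivial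
  exact IsSimpleGroup.isSimpleGroup_of_surjective e.symm.toMonoidHom e.symm.surjective

/-- the order of `³D₄(2)` -/
theorem card_LP : Nat.card LP = 211341312 := by
  obtain ⟨e⟩ := iso_LL
  rw [Nat.card_congr e.toEquiv, card_LL]

/-- the index of `³D₄(2)` -/
theorem index_LP : LP.index = 3 := by
  have h1 := LP.index_mul_card
  rw [card_LP, card_GP] at h1
  exact Nat.eq_of_mul_eq_mul_right (by norm_num : 0 < 211341312) (h1.trans (by norm_num))

/-- the centralizer of `³D₄(2)` is trivial -/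
theorem centr_LP : ∀ g : GP, (∀ x ∈ LP, x * g = g * x) → g = 1 := by
  intro g hg
  obtain ⟨e, h, _⟩ := iso_PP
  have h1 : e g = 1 := by
    apply centr_PP
    intro x hx
    rw [← h] at hx
    obtain ⟨y, hy, rfl⟩ := hx
    show e y * e g = e g * e y
    rw [← map_mul, ← map_mul, hg y hy]
  exact (map_eq_one_iff e e.injective).mp h1

/-- a normal subgroup is trivial or contains `³D₄(2)` -/
theorem normal_GP (N : Subgroup GP) [hN : N.Normal] : N = ⊥ ∨ LP ≤ N := by
  have h1 : (N.subgroupOf LP).Normal := inferInstance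
  rcases LP_simple.eq_bot_or_eq_top_of_normal _ h1 with h | h
  · left
    rw [Subgroup.subgroupOf_eq_bot] at h
    rw [Subgroup.eq_bot_iff_forall]
    intro n hn
    apply centr_LP
    intro x hx
    have h2 : Commute x n := by
      have hd : Disjoint LP N := h.symm
      exact Subgroup.commute_of_normal_of_disjoint LP N LP_normal hN hd x n hx hn
    exact h2
  · right
    rw [Subgroup.subgroupOf_eq_top] at h
    exact h

/-- a homomorphism not killing `a` is injective -/
theorem hom_inj {G : Type*} [Group G] (f : GP →* G) (h : f (gp .a) ≠ 1) : Function.Injective f := by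
  rw [← MonoidHom.ker_eq_bot_iff]
  rcases normal_GP f.ker with h1 | h1
  · exact h1
  · exact absurd (h1 (LP_mem (x := .a) (by decide))) h

section
variable {G : Type*} [Group G] {a b c d e s t : G}

/-- the subgroup generated by elements satisfying the relations with `a ≠ 1` -/
theorem RelP.iso (h : RelP a b c d e s t) (ha : a ≠ 1) :
    ∃ f : GP →* G, Function.Injective f ∧ f.range = Subgroup.closure {a, b, c, d, e, s, t} ∧
      LP.map f = Lsub a b c d e s ∧ f (gp .a) = a ∧ f (gp .b) = b ∧ f (gp .c) = c ∧ f (gp .d) = d ∧ f (gp .e) = e ∧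
      f (gp .s) = s ∧ f (gp .t) = t := by
  obtain ⟨f, f0, f1, f2, f3, f4, f5, f6⟩ := homGP h
  refine ⟨f, hom_inj f (by rw [f0]; exact ha), ?_, ?_, f0, f1, f2, f3, f4, f5, f6⟩
  · have h1 : (⊤ : Subgroup GP) = Subgroup.closure {gp .a, gp .b, gp .c, gp .d, gp .e, gp .s, gp .t} := by
      symm
      apply closure_GP
      intro x
      apply Subgroup.subset_closure
      cases x <;> simp
    rw [MonoidHom.range_eq_map, h1, MonoidHom.map_closure]
    congr 1
    simp only [Set.image_insert_eq, Set.image_singleton]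
    rw [f0, f1, f2, f3, f4, f5, f6]
  · show (Subgroup.closure _).map _ = Subgroup.closure _
    rw [MonoidHom.map_closure]
    congr 1
    simp only [Set.image_insert_eq, Set.image_singleton]
    rw [f0, f1, f2, f3, f4, f5]

/-- the order of the subgroup -/
theorem RelP.card_eq (h : RelP a b c d e s t) (ha : a ≠ 1) :
    Nat.card (Subgroup.closure {a, b, c, d, e, s, t}) = 634023936 := by
  obtain ⟨f, hf, h1, _⟩ := h.iso ha
  rw [← h1, ← Nat.card_congr (MonoidHom.ofInjective hf).toEquiv, card_GP]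

/-- the order of `³D₄(2)` in a group -/
theorem RelP.card_L (h : RelP a b c d e s t) (ha : a ≠ 1) : Nat.card (Lsub a b c d e s) = 211341312 := by
  obtain ⟨f, hf, _, h1, _⟩ := h.iso ha
  rw [← h1, ← Nat.card_congr (LP.equivMapOfInjective f hf).toEquiv, card_LP]

/-- simplicity of `³D₄(2)` in a group -/
theorem RelP.simple_L (h : RelP a b c d e s t) (ha : a ≠ 1) : IsSimpleGroup (Lsub a b c d e s) := by
  obtain ⟨f, hf, _, h1, _⟩ := h.iso ha
  let E := (LP.equivMapOfInjective f hf).trans (MulEquiv.subgroupCongr h1)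
  have : Nontrivial (Lsub a b c d e s) := E.symm.toEquiv.nontrivial
  exact IsSimpleGroup.isSimpleGroup_of_surjective E.toMonoidHom E.surjective

/-- the normal subgroup -/
theorem RelP.L_le (a b c d e s t : G) : Lsub a b c d e s ≤ Subgroup.closure {a, b, c, d, e, s, t} := by
  apply Subgroup.closure_mono
  rintro x (rfl | rfl | rfl | rfl | rfl | rfl) <;> simp

/-- the centralizer in the subgroup is trivial -/
theorem RelP.centr (h : RelP a b c d e s t) (ha : a ≠ 1) {g : G} (hg : g ∈ Subgroup.closure {a, b, c, d, e, s, t})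
    (hc : ∀ x ∈ Lsub a b c d e s, x * g = g * x) : g = 1 := by
  obtain ⟨f, hf, h1, h2, _⟩ := h.iso ha
  rw [← h1] at hg
  obtain ⟨y, rfl⟩ := hg
  have : y = 1 := by
    apply centr_LP
    intro x hx
    apply hf
    rw [map_mul, map_mul]
    apply hc
    rw [← h2]
    exact ⟨x, hx, rfl⟩
  rw [this, map_one]

/-- elements of the subgroup: `l * t ^ k` -/
theorem RelP.mem_cases (h : RelP a b c d e s t) {g : G} (hg : g ∈ Subgroup.closure {a, b, c, d, e, s, t}) :
    ∃ l ∈ Lsub a b c d e s, ∃ k < 3, g = l * t ^ k := by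
  have ht : ∀ x ∈ Lsub a b c d e s, ∀ k : ℕ, t ^ k * x * (t ^ k)⁻¹ ∈ Lsub a b c d e s := by
    intro x hx k
    induction k with
    | zero => simpa using hx
    | succ k ih =>
      have := (h.t_conj _ ih).1
      have e1 : t * (t ^ k * x * (t ^ k)⁻¹) * t⁻¹ = t ^ (k + 1) * x * (t ^ (k + 1))⁻¹ := by rw [pow_succ']; group
      rwa [e1] at this
  let K : Subgroup G := 
    { carrier := {g | ∃ l ∈ Lsub a b c d e s, ∃ k : ℕ, g = l * t ^ k}
      mul_mem' := by
        rintro _ _ ⟨l, hl, k, rfl⟩ ⟨l', hl', k', rfl⟩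
        refine ⟨l * (t ^ k * l' * (t ^ k)⁻¹), Subgroup.mul_mem _ hl (ht _ hl' k), k + k', ?_⟩
        rw [pow_add]; group
      one_mem' := ⟨1, Subgroup.one_mem _, 0, by simp⟩
      inv_mem' := by
        rintro _ ⟨l, hl, k, rfl⟩
        have h3 : (t ^ k)⁻¹ = t ^ (2 * k) := by
          rw [inv_eq_iff_mul_eq_one, ← pow_add, show k + 2 * k = 3 * k by ring, pow_mul, h.t3, one_pow]
        refine ⟨t ^ (2 * k) * l⁻¹ * (t ^ (2 * k))⁻¹, ht _ (Subgroup.inv_mem _ hl) _, 2 * k, ?_⟩
        rw [mul_inv_rev, h3]; group }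
  have hK : g ∈ K := by
    revert hg
    suffices Subgroup.closure {a, b, c, d, e, s, t} ≤ K from fun hg => this hg
    rw [Subgroup.closure_le]
    have m : ∀ {x : G}, x ∈ ({a, b, c, d, e, s} : Set G) → x ∈ K := fun hx =>
      ⟨_, Subgroup.subset_closure hx, 0, by simp⟩
    rintro x (rfl | rfl | rfl | rfl | rfl | rfl | rfl)
    · exact m (by simp)
    · exact m (by simp)
    · exact m (by simp)
    · exact m (by simp)
    · exact m (by simp)
    · exact m (by simp)
    · exact ⟨1, Subgroup.one_mem _, 1, by simp⟩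
  obtain ⟨l, hl, k, rfl⟩ := hK
  refine ⟨l, hl, k % 3, Nat.mod_lt _ (by norm_num), ?_⟩
  congr 1
  conv_lhs => rw [← Nat.div_add_mod k 3, pow_add, pow_mul, h.t3, one_pow, one_mul]

end

end Cfsg.Agent.Lib.ThP
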