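import Cfsg.Agent.Lib.CosetGroup
import Cfsg.Prelude.Def_Spor_Th

/-!
# The group `³D₄(2):3` presented by the relator groups (1), (2), (3) of the Thompson group
-/

set_option autoImplicit false
set_option linter.all false

namespace Cfsg.Agent.Lib.ThP

open Cfsg.Spor Cfsg.Agent.Lib.BenesWord Cfsg.Agent.Lib.CosetGroup Cfsg.Agent.Lib.CoxBridge Cfsg.Agent.Lib.CosetMain

/-- the seven generators -/
inductive Gen7
  | a
  | b
  | c
  | d
  | e
  | s
  | t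
  deriving DecidableEq

/-- letter of a generator -/
def idx (x : Gen7) : ℕ :=
  match x with
  | .a => 0
  | .b => 1
  | .c => 2
  | .d => 3
  | .e => 4
  | .s => 5
  | .t => 6

/-- generator of a letter -/
def gen (x : ℕ) : Gen7 :=
  match x with
  | 0 => .a
  | 1 => .b
  | 2 => .c
  | 3 => .d
  | 4 => .e
  | 5 => .s
  | _ => .t

/-- relators as words in the letters `a b c d e s t = 0 … 6` -/
def relW : List Wd := [
  Wd.pow (Wd.g 0) 2,
  Wd.pow (Wd.g 1) 2,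
  Wd.pow (Wd.g 2) 2,
  Wd.pow (Wd.g 3) 2,
  Wd.pow (Wd.g 4) 2,
  Wd.pow (Wd.mul (Wd.g 0) (Wd.g 1)) 3,
  Wd.pow (Wd.mul (Wd.g 0) (Wd.g 4)) 2,
  Wd.pow (Wd.mul (Wd.g 1) (Wd.g 2)) 3,
  Wd.pow (Wd.mul (Wd.g 1) (Wd.g 3)) 2,
  Wd.pow (Wd.mul (Wd.g 1) (Wd.g 4)) 2,
  Wd.mul (Wd.g 0) (Wd.inv (Wd.pow (Wd.mul (Wd.g 2) (Wd.g 3)) 4)),
  Wd.pow (Wd.mul (Wd.g 2) (Wd.g 4)) 2,
  Wd.pow (Wd.mul (Wd.g 3) (Wd.g 4)) 3,
  Wd.pow (Wd.mul (Wd.mul (Wd.mul (Wd.g 1) (Wd.g 2)) (Wd.g 3)) (Wd.g 4)) 8,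
  Wd.pow (Wd.g 5) 7,
  Wd.mul (Wd.mul (Wd.mul (Wd.inv (Wd.g 5)) (Wd.inv (Wd.g 0))) (Wd.g 5)) (Wd.g 0),
  Wd.mul (Wd.mul (Wd.mul (Wd.inv (Wd.g 5)) (Wd.inv (Wd.g 1))) (Wd.g 5)) (Wd.g 1),
  Wd.mul (Wd.mul (Wd.mul (Wd.inv (Wd.g 5)) (Wd.inv (Wd.g 2))) (Wd.g 5)) (Wd.g 2),
  Wd.pow (Wd.mul (Wd.g 5) (Wd.g 3)) 2,
  Wd.mul (Wd.mul (Wd.mul (Wd.mul (Wd.inv (Wd.g 4)) (Wd.inv (Wd.g 5))) (Wd.g 4)) (Wd.g 5))
    (Wd.inv (Wd.mul (Wd.mul (Wd.inv (Wd.pow (Wd.g 5) 3)) (Wd.g 4)) (Wd.pow (Wd.g 5) 3))),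
  Wd.pow (Wd.g 6) 3,
  Wd.mul (Wd.mul (Wd.mul (Wd.inv (Wd.g 6)) (Wd.inv (Wd.g 0))) (Wd.g 6)) (Wd.g 0),
  Wd.mul (Wd.mul (Wd.mul (Wd.inv (Wd.g 6)) (Wd.inv (Wd.g 1))) (Wd.g 6)) (Wd.g 1),
  Wd.mul (Wd.mul (Wd.mul (Wd.inv (Wd.g 6)) (Wd.inv (Wd.g 2))) (Wd.g 6)) (Wd.g 2),
  Wd.mul (Wd.mul (Wd.mul (Wd.inv (Wd.g 6)) (Wd.inv (Wd.g 3))) (Wd.g 6)) (Wd.g 3),
  Wd.mul (Wd.mul (Wd.mul (Wd.inv (Wd.g 6)) (Wd.inv (Wd.g 4))) (Wd.g 6)) (Wd.g 4),
  Wd.mul (Wd.mul (Wd.mul (Wd.inv (Wd.g 6)) (Wd.g 5)) (Wd.g 6)) (Wd.inv (Wd.pow (Wd.g 5) 2))]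

/-- relators in the free group -/
def extra7 : List (FreeGroup Gen7) := relW.map (fun W => W.eval (fun c => FreeGroup.of (gen c)))

/-- the presentation data -/
def C : CoxData Gen7 [] extra7 where
  gen := gen
  idx := idx
  nn := 0
  ng := 7
  extraW := relW
  hgi := by intro a; cases a <;> rfl
  hlt := by intro a; cases a <;> decide
  hidx := by intro i hi; interval_cases i <;> rfl
  hnode := by intro a ha; simp [coxNodes] at ha
  hnode' := by intro i hi; omega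
  hnn := by decide
  hextra := rfl
  hlets := by decide

/-- the group `³D₄(2):3` -/
abbrev GP : Type := CoxPresented Gen7 [] extra7

/-- the relations (1) + (2) -/
structure RelL {G : Type*} [Group G] (a b c d e s : G) : Prop where
  a2 : a ^ 2 = 1
  b2 : b ^ 2 = 1
  c2 : c ^ 2 = 1
  d2 : d ^ 2 = 1
  e2 : e ^ 2 = 1
  ab : (a * b) ^ 3 = 1
  ae : (a * e) ^ 2 = 1
  bc : (b * c) ^ 3 = 1
  bd : (b * d) ^ 2 = 1
  be : (b * e) ^ 2 = 1
  acd : a * ((c * d) ^ 4)⁻¹ = 1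
  ce : (c * e) ^ 2 = 1
  de : (d * e) ^ 3 = 1
  bcde : (b * c * d * e) ^ 8 = 1
  s7 : s ^ 7 = 1
  sa : s⁻¹ * a⁻¹ * s * a = 1
  sb : s⁻¹ * b⁻¹ * s * b = 1
  sc : s⁻¹ * c⁻¹ * s * c = 1
  sd : (s * d) ^ 2 = 1
  es : (e⁻¹ * s⁻¹ * e * s) * ((s ^ 3)⁻¹ * e * (s ^ 3))⁻¹ = 1

/-- the relations (1) + (2) + (3) -/
structure RelP {G : Type*} [Group G] (a b c d e s t : G) : Prop extends RelL a b c d e s where
  t3 : t ^ 3 = 1
  ta : t⁻¹ * a⁻¹ * t * a = 1
  tb : t⁻¹ * b⁻¹ * t * b = 1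
  tc : t⁻¹ * c⁻¹ * t * c = 1
  td : t⁻¹ * d⁻¹ * t * d = 1
  te : t⁻¹ * e⁻¹ * t * e = 1
  ts : (t⁻¹ * s * t) * (s ^ 2)⁻¹ = 1

/-- the generators of the presented group -/
def gp (x : Gen7) : GP := PresentedGroup.of x

theorem relP_of_words {G : Type*} [Group G] {x : ℕ → G} (h : ∀ W ∈ relW, W.eval x = 1) :
    RelP (x 0) (x 1) (x 2) (x 3) (x 4) (x 5) (x 6) := by
  simp only [relW, List.forall_mem_cons, Wd.eval] at h
  obtain ⟨h1, h2, h3, h4, h5, h6, h7, h8, h9, h10, h11, h12, h13, h14, h15, h16, h17, h18, h19, h20, h21, h22, h23,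
    h24, h25, h26, h27, _⟩ := h
  exact ⟨⟨h1, h2, h3, h4, h5, h6, h7, h8, h9, h10, h11, h12, h13, h14, h15, h16, h17, h18, h19, h20⟩,
    h21, h22, h23, h24, h25, h26, h27⟩

theorem words_of_relP {G : Type*} [Group G] {x : ℕ → G} (h : RelP (x 0) (x 1) (x 2) (x 3) (x 4) (x 5) (x 6)) :
    ∀ W ∈ relW, W.eval x = 1 := by
  simp only [relW, List.forall_mem_cons, Wd.eval]
  exact ⟨h.a2, h.b2, h.c2, h.d2, h.e2, h.ab, h.ae, h.bc, h.bd, h.be, h.acd, h.ce, h.de, h.bcde, h.s7, h.sa, h.sb, h.sc,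
    h.sd, h.es, h.t3, h.ta, h.tb, h.tc, h.td, h.te, h.ts, by simp⟩

theorem relGP : RelP (gp .a) (gp .b) (gp .c) (gp .d) (gp .e) (gp .s) (gp .t) := by
  have h := (C.rel_x []).2.1
  have h2 := relP_of_words (x := C.x []) h
  exact h2

/-- the images of the letters -/
def pk {α : Type*} (a b c d e s t : α) (n : ℕ) : α :=
  match n with
  | 0 => a
  | 1 => b
  | 2 => c
  | 3 => d
  | 4 => e
  | 5 => s
  | _ => t

/-- homomorphisms out of the presented group -/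
theorem homGP {G : Type*} [Group G] {a b c d e s t : G} (h : RelP a b c d e s t) :
    ∃ f : GP →* G, f (gp .a) = a ∧ f (gp .b) = b ∧ f (gp .c) = c ∧ f (gp .d) = d ∧ f (gp .e) = e ∧ f (gp .s) = s ∧
      f (gp .t) = t := by
  obtain ⟨f, hf⟩ := C.hom (pk a b c d e s t) (fun i hi => absurd hi (by simp [C]))
    (by intro W hW; simp [coxWds, C] at hW) (words_of_relP (x := pk a b c d e s t) h)
  exact ⟨f, hf 0 (by decide), hf 1 (by decide), hf 2 (by decide), hf 3 (by decide), hf 4 (by decide), hf 5 (by decide),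
    hf 6 (by decide)⟩

/-- the generators generate -/
theorem closure_GP (K : Subgroup GP) (h : ∀ x, gp x ∈ K) : K = ⊤ := by
  rw [eq_top_iff, ← PresentedGroup.closure_range_of, Subgroup.closure_le]
  rintro _ ⟨x, rfl⟩
  exact h x

/-- equality of homomorphisms -/
theorem hom_ext {G : Type*} [Group G] {f g : GP →* G} (h : ∀ x, f (gp x) = g (gp x)) : f = g := by
  refine PresentedGroup.ext ?_
  intro x
  exact h x

/-- the relations hold in the Thompson group -/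
theorem relTh : RelP (PresentedGroup.of Th.Gen.a : Th) (PresentedGroup.of Th.Gen.b) (PresentedGroup.of Th.Gen.c)
    (PresentedGroup.of Th.Gen.d) (PresentedGroup.of Th.Gen.e) (PresentedGroup.of Th.Gen.s) (PresentedGroup.of Th.Gen.t) := by
  have h1 : ∀ W ∈ relW, W.eval (pk (PresentedGroup.of Th.Gen.a : Th) (PresentedGroup.of Th.Gen.b) (PresentedGroup.of Th.Gen.c)
    (PresentedGroup.of Th.Gen.d) (PresentedGroup.of Th.Gen.e) (PresentedGroup.of Th.Gen.s) (PresentedGroup.of Th.Gen.t)) = 1 := by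
    intro W hW
    have h2 : W.eval (pk Th.a Th.b Th.c Th.d Th.e Th.s Th.t) ∈ Th.extra := by
      revert W
      simp only [relW, List.forall_mem_cons, Th.extra]
      refine ⟨?_, ?_, ?_, ?_, ?_, ?_, ?_, ?_, ?_, ?_, ?_, ?_, ?_, ?_, ?_, ?_, ?_, ?_, ?_, ?_, ?_, ?_, ?_, ?_, ?_, ?_, ?_, by simp⟩
      · exact List.mem_of_getElem? (i := 0) rfl
      · exact List.mem_of_getElem? (i := 1) rfl
      · exact List.mem_of_getElem? (i := 2) rfl
      · exact List.mem_of_getElem? (i := 3) rfl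
      · exact List.mem_of_getElem? (i := 4) rfl
      · exact List.mem_of_getElem? (i := 5) rfl
      · exact List.mem_of_getElem? (i := 6) rfl
      · exact List.mem_of_getElem? (i := 7) rfl
      · exact List.mem_of_getElem? (i := 8) rfl
      · exact List.mem_of_getElem? (i := 9) rfl
      · exact List.mem_of_getElem? (i := 10) rfl
      · exact List.mem_of_getElem? (i := 11) rfl
      · exact List.mem_of_getElem? (i := 12) rfl
      · exact List.mem_of_getElem? (i := 13) rfl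
      · exact List.mem_of_getElem? (i := 14) rfl
      · exact List.mem_of_getElem? (i := 15) rfl
      · exact List.mem_of_getElem? (i := 16) rfl
      · exact List.mem_of_getElem? (i := 17) rfl
      · exact List.mem_of_getElem? (i := 18) rfl
      · exact List.mem_of_getElem? (i := 19) rfl
      · exact List.mem_of_getElem? (i := 20) rfl
      · exact List.mem_of_getElem? (i := 21) rfl
      · exact List.mem_of_getElem? (i := 22) rfl
      · exact List.mem_of_getElem? (i := 23) rfl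
      · exact List.mem_of_getElem? (i := 24) rfl
      · exact List.mem_of_getElem? (i := 25) rfl
      · exact List.mem_of_getElem? (i := 26) rfl
    have h3 : (PresentedGroup.mk (coxRelators Th.edges ∪ {r | r ∈ Th.extra})
        (W.eval (pk Th.a Th.b Th.c Th.d Th.e Th.s Th.t))) = 1 := PresentedGroup.one_of_mem (Or.inr h2)
    rw [← h3]
    clear h2 h3 hW
    induction W with
    | one => rfl
    | g c =>
      show pk _ _ _ _ _ _ _ c = PresentedGroup.mk _ (pk _ _ _ _ _ _ _ c)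
      unfold pk
      split <;> rfl
    | inv u ih => simp only [Wd.eval]; rw [ih]; rfl
    | mul u v ihu ihv => simp only [Wd.eval]; rw [ihu, ihv]; rfl
    | pow u m ih => simp only [Wd.eval]; rw [ih]; rfl
  exact relP_of_words h1

end Cfsg.Agent.Lib.ThP
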