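import Cfsg.Agent.Lib.ThP

/-!
# `³D₄(2)` is simple
-/

set_option autoImplicit false
set_option linter.all false
set_option maxRecDepth 100000

namespace Cfsg.Agent.Lib.ThP

open Cfsg.Spor Cfsg.Agent.Lib.BenesWord Cfsg.Agent.Lib.CosetGroup Cfsg.Agent.Lib.CoxBridge Cfsg.Agent.Lib.CosetMain
open Cfsg.Agent.Lib.CosetChain Cfsg.Agent.Lib.Dce

/-- a normal subgroup is transitive: subdegrees 1, 512, 18, 288 -/
theorem trans_of_suborbits {G X : Type*} [Group G] [MulAction G X] [Finite X] [MulAction.IsPretransitive G X]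
    [FaithfulSMul G X] (x0 : X) (hX : Nat.card X = 819) (H : Subgroup G) (hH : ∀ h ∈ H, h • x0 = x0)
    (F0 F1 F2 : Set X) (c0 : F0.ncard = 512) (c1 : F1.ncard = 18) (c2 : F2.ncard = 288)
    (n0 : x0 ∉ F0) (n1 : x0 ∉ F1) (n2 : x0 ∉ F2) (hd : Disjoint F0 F2)
    (hcov : ∀ x, x = x0 ∨ x ∈ F0 ∨ x ∈ F1 ∨ x ∈ F2)
    (t0 : ∀ x ∈ F0, ∀ y ∈ F0, ∃ h ∈ H, h • x = y) (t1 : ∀ x ∈ F1, ∀ y ∈ F1, ∃ h ∈ H, h • x = y)
    (t2 : ∀ x ∈ F2, ∀ y ∈ F2, ∃ h ∈ H, h • x = y) (N : Subgroup G) [hN : N.Normal] (hne : N ≠ ⊥) :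
    ∀ x, ∃ n ∈ N, n • x0 = x := by
  classical
  have hB : MulAction.IsBlock G (MulAction.orbit N x0) := MulAction.IsBlock.orbit_of_normal x0
  set B : Set X := MulAction.orbit N x0 with hBdef
  have hx0B : x0 ∈ B := MulAction.mem_orbit_self _
  have hdvd : B.ncard ∣ 819 := by rw [← hX]; exact hB.ncard_dvd_card ⟨x0, hx0B⟩
  have memB : ∀ x, x ∈ B ↔ ∃ n ∈ N, n • x0 = x := by
    intro x
    constructor
    · rintro ⟨⟨n, hn⟩, rfl⟩; exact ⟨n, hn, rfl⟩
    · rintro ⟨n, hn, rfl⟩; exact ⟨⟨n, hn⟩, rfl⟩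
  have key : ∀ F : Set X, (∀ x ∈ F, ∀ y ∈ F, ∃ h ∈ H, h • x = y) → (F ∩ B).Nonempty → F ⊆ B := by
    rintro F hF ⟨x, hx, hxB⟩ y hy
    obtain ⟨h, hh, rfl⟩ := hF x hx y hy
    obtain ⟨n, hn, rfl⟩ := (memB x).mp hxB
    refine (memB _).mpr ⟨h * n * h⁻¹, hN.conj_mem n hn h, ?_⟩
    rw [mul_smul, mul_smul, hH _ (H.inv_mem hh)]
  -- a point of `B` other than `x0`
  obtain ⟨y, hyB, hy0⟩ : ∃ y ∈ B, y ≠ x0 := by
    obtain ⟨n, hn, hn1⟩ : ∃ n : G, n ∈ N ∧ n ≠ 1 := by
      by_contra hcon
      push Not at hcon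
      exact hne ((Subgroup.eq_bot_iff_forall N).mpr hcon)
    obtain ⟨x, hx⟩ : ∃ x : X, n • x ≠ x := by
      by_contra hcon
      push Not at hcon
      exact hn1 (FaithfulSMul.eq_of_smul_eq_smul (fun x => by rw [hcon x, one_smul]))
    obtain ⟨g, rfl⟩ := MulAction.exists_smul_eq G x0 x
    refine ⟨(g⁻¹ * n * g) • x0, (memB _).mpr ⟨g⁻¹ * n * g, ?_, rfl⟩, ?_⟩
    · have := hN.conj_mem n hn g⁻¹
      rwa [inv_inv] at this
    · intro h
      apply hx
      rw [mul_smul, mul_smul] at h
      exact inv_smul_eq_iff.mp h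
  have hfin : ∀ S : Set X, S.Finite := fun S => Set.toFinite S
  have huniv : (Set.univ : Set X).ncard = 819 := by rw [Set.ncard_univ, hX]
  have hins : ∀ F : Set X, x0 ∉ F → F ⊆ B → F.ncard + 1 ≤ B.ncard := by
    intro F h1 h2
    rw [← Set.ncard_insert_of_notMem h1 (hfin F)]
    exact Set.ncard_le_ncard (Set.insert_subset hx0B h2) (hfin B)
  have hle : B.ncard ≤ 819 := by rw [← huniv]; exact Set.ncard_le_ncard (Set.subset_univ _) (hfin _)
  have hcard : B.ncard = 819 := by
    have hmem : B.ncard ∈ Nat.divisors 819 := Nat.mem_divisors.mpr ⟨hdvd, by norm_num⟩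
    have hdiv : Nat.divisors 819 = {1, 3, 7, 9, 13, 21, 39, 63, 91, 117, 273, 819} := by decide +kernel
    rw [hdiv] at hmem
    simp only [Finset.mem_insert, Finset.mem_singleton] at hmem
    by_cases b0 : (F0 ∩ B).Nonempty
    · have := hins F0 n0 (key F0 t0 b0)
      omega
    · have h0 : B ⊆ Set.univ \ F0 := fun x hx => ⟨trivial, fun hf => b0 ⟨x, hf, hx⟩⟩
      have h0' : B.ncard ≤ 819 - 512 := by
        rw [← huniv, ← c0, ← Set.ncard_diff (Set.subset_univ _) (hfin _)]
        exact Set.ncard_le_ncard h0 (hfin _)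
      by_cases b2 : (F2 ∩ B).Nonempty
      · have := hins F2 n2 (key F2 t2 b2)
        omega
      · have h2 : B ⊆ Set.univ \ (F0 ∪ F2) := fun x hx => ⟨trivial, fun hf => by
          rcases hf with hf | hf
          · exact b0 ⟨x, hf, hx⟩
          · exact b2 ⟨x, hf, hx⟩⟩
        have h2' : B.ncard ≤ 819 - (512 + 288) := by
          rw [← huniv, ← c0, ← c2, ← Set.ncard_union_eq hd (hfin _) (hfin _), ← Set.ncard_diff (Set.subset_univ _) (hfin _)]
          exact Set.ncard_le_ncard h2 (hfin _)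
        have b1 : (F1 ∩ B).Nonempty := by
          rcases hcov y with h | h | h | h
          · exact absurd h hy0
          · exact absurd ⟨y, h, hyB⟩ b0
          · exact ⟨y, h, hyB⟩
          · exact absurd ⟨y, h, hyB⟩ b2
        have := hins F1 n1 (key F1 t1 b1)
        omega
  have hBu : B = Set.univ := by
    apply Set.eq_of_subset_of_ncard_le (Set.subset_univ _)
    rw [hcard, huniv]
  intro x
  rw [← memB, hBu]; trivial

section
variable {G : Type*} [Group G] {a b c d e s : G}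

/-- if `a` is trivial then everything is -/
theorem RelL.all_one (h : RelL a b c d e s) (ha : a = 1) : b = 1 ∧ c = 1 ∧ d = 1 ∧ e = 1 ∧ s = 1 := by
  have h1 := h.ab
  rw [ha, one_mul] at h1
  have hb : b = 1 := by
    have h2 := h.b2
    calc b = b ^ 3 * (b ^ 2)⁻¹ := by group
      _ = 1 := by rw [h1, h2]; group
  have h3 := h.bc
  rw [hb, one_mul] at h3
  have hc : c = 1 := by
    calc c = c ^ 3 * (c ^ 2)⁻¹ := by group
      _ = 1 := by rw [h3, h.c2]; group
  have h4 := h.bcde
  rw [hb, hc, one_mul, one_mul] at h4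
  have hde : d * e = 1 := by
    calc d * e = ((d * e) ^ 3) ^ 3 * ((d * e) ^ 8)⁻¹ := by group
      _ = 1 := by rw [h.de, h4]; group
  have hed : e = d := by
    have := eq_inv_of_mul_eq_one_right hde
    rw [this, h.id]
  have h5 := h.es
  have hsd := h.dsd
  have h6 : e⁻¹ * s⁻¹ * e * s = s ^ 2 := by
    rw [h.ie, hed]
    have : d * s⁻¹ * d = s := by
      rw [← hsd]
      have h7 : d * (d * s * d) * d = (d * d) * s * (d * d) := by group
      rw [h7, h.dd]; group
    rw [this, pow_two]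
  rw [h6] at h5
  have h7 : s ^ 2 = (s ^ 3)⁻¹ * e * s ^ 3 := mul_inv_eq_one.mp h5
  have h8 : (s ^ 2) ^ 2 = 1 := by
    rw [h7]
    have : ((s ^ 3)⁻¹ * e * s ^ 3) ^ 2 = (s ^ 3)⁻¹ * e ^ 2 * s ^ 3 := by
      rw [pow_two, pow_two]; group
    rw [this, h.e2]; group
  have hs : s = 1 := by
    calc s = ((s ^ 2) ^ 2) ^ 2 * (s ^ 7)⁻¹ := by group
      _ = 1 := by rw [h8, h.s7]; group
  have he : e = 1 := by
    rw [hs] at h7
    simpa using h7.symm
  exact ⟨hb, hc, by rw [← hed, he], he, hs⟩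

/-- if `a` commutes with `b` then everything is trivial -/
theorem RelL.one_of_comm (h : RelL a b c d e s) (hab : Commute a b) : a = 1 := by
  have h1 : a = b := by
    have h2 := h.ab
    rw [hab.mul_pow, pow_succ, h.a2, one_mul, pow_succ, h.b2, one_mul] at h2
    rw [← h.ib]
    exact eq_inv_of_mul_eq_one_left h2
  have h3 : a = c := by
    have h4 := h.bc
    rw [← h1, pow_succ, h.ac2, one_mul] at h4
    rw [← h.ic]
    exact eq_inv_of_mul_eq_one_left h4
  have hd : Commute a d := by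
    have := h.dac
    have h5 : d * a = a * d := by
      rw [mul_inv_eq_iff_eq_mul] at this; exact this
    exact h5.symm
  have h6 := h.a_eq
  rw [← h3, hd.mul_pow] at h6
  rw [h6, show (4 : ℕ) = 2 * 2 by norm_num, pow_mul, pow_mul, h.a2, h.d2]; simp

/-- images of the relations -/
theorem RelL.map {K : Type*} [Group K] (h : RelL a b c d e s) (f : G →* K) : RelL (f a) (f b) (f c) (f d) (f e) (f s) := by
  have m : ∀ x : G, x = 1 → f x = 1 := fun x hx => by rw [hx, map_one]
  exact ⟨by simpa using m _ h.a2, by simpa using m _ h.b2, by simpa using m _ h.c2, by simpa using m _ h.d2,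
    by simpa using m _ h.e2, by simpa using m _ h.ab, by simpa using m _ h.ae, by simpa using m _ h.bc,
    by simpa using m _ h.bd, by simpa using m _ h.be, by simpa only [map_mul, map_inv, map_pow] using m _ h.acd,
    by simpa using m _ h.ce, by simpa using m _ h.de, by simpa using m _ h.bcde, by simpa using m _ h.s7,
    by simpa only [map_mul, map_inv, map_pow] using m _ h.sa, by simpa only [map_mul, map_inv, map_pow] using m _ h.sb,
    by simpa only [map_mul, map_inv, map_pow] using m _ h.sc, by simpa using m _ h.sd,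
    by simpa only [map_mul, map_inv, map_pow] using m _ h.es⟩

/-- `a` commutes with `⟨a, c, d, e, s⟩` -/
theorem RelL.comm_a (h : RelL a b c d e s) : ∀ x ∈ Subgroup.closure ({a, c, d, e, s} : Set G), Commute x a := by
  intro x hx
  have hae : Commute a e := by
    have h1 := h.ae
    rw [pow_two] at h1
    have h2 : a * e = (a * e)⁻¹ := eq_inv_of_mul_eq_one_left h1
    rw [mul_inv_rev, h.ia, h.ie] at h2
    exact h2
  have hac : Commute a c := by
    have h1 := h.ac2
    rw [pow_two] at h1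
    have h2 : a * c = (a * c)⁻¹ := eq_inv_of_mul_eq_one_left h1
    rw [mul_inv_rev, h.ia, h.ic] at h2
    exact h2
  have had : Commute d a := by
    have := h.dac
    rw [mul_inv_eq_iff_eq_mul] at this; exact this
  have has : Commute s a := by
    have := h.sas
    rw [mul_assoc, inv_mul_eq_iff_eq_mul] at this; exact this.symm
  induction hx using Subgroup.closure_induction with
  | mem x hx =>
    rcases hx with rfl | rfl | rfl | rfl | rfl
    · exact Commute.refl _
    · exact hac.symm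
    · exact had
    · exact hae.symm
    · exact has
  | one => exact Commute.one_left _
  | mul x y _ _ hx hy => exact hx.mul_left hy
  | inv x _ hx => exact hx.inv_left

end

open ThPT

/-- letters in the permutation group -/
noncomputable abbrev X (c : ℕ) : PP := xb tab iv 819 9 c

/-- `³D₄(2)` as a permutation group -/
noncomputable def LL : Subgroup PP := Lsub (X 0) (X 1) (X 2) (X 3) (X 4) (X 5)

theorem LL_mem {c : ℕ} (h : c < 7) : X c ∈ LL := by
  have m : ∀ {x : PP}, x ∈ ({X 0, X 1, X 2, X 3, X 4, X 5} : Set PP) → x ∈ LL := fun hx => Subgroup.subset_closure hx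
  interval_cases c
  · exact m (by simp)
  · exact m (by simp)
  · exact m (by simp)
  · exact m (by simp)
  · exact m (by simp)
  · exact m (by simp)
  · have : X 6 = (X 5)⁻¹ := by
      show xb tab iv 819 9 (iv 5) = _
      exact xb_iv c_all (by norm_num)
    rw [this]; exact Subgroup.inv_mem _ (m (by simp))

/-- letters in `LL` -/
noncomputable def xl (c : ℕ) : LL := if h : c < 7 then ⟨X c, LL_mem h⟩ else 1

theorem xl_val {c : ℕ} (h : c < 7) : ((xl c : LL) : PP) = X c := by unfold xl; rw [dif_pos h]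

/-- the action on points -/
noncomputable def φL : LL →* Equiv.Perm ℕ := PP.subtype.comp LL.subtype

theorem actL : ∀ c < 7, ∀ i < 819, φL (xl c) i = look (tab c) i := by
  intro c hc i hi
  show PP.subtype ((xl c : LL) : PP) i = _
  rw [xl_val hc]
  exact xb_act c_all (by omega) hi

theorem ltL : ∀ c < 7, ∀ i < 819, look (tab c) i < 819 := fun c hc i hi => base_lt c_all (by omega) hi

/-- the relations in the permutation group -/
theorem relPP : RelP (X 0) (X 1) (X 2) (X 3) (X 4) (X 5) (X 7) := relPG c_all c_rel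

/-- the relations in `LL` -/
theorem relLL : RelL (xl 0) (xl 1) (xl 2) (xl 3) (xl 4) (xl 5) := by
  have h := relPP.toRelL
  have e0 := xl_val (c := 0) (by norm_num)
  have e1 := xl_val (c := 1) (by norm_num)
  have e2 := xl_val (c := 2) (by norm_num)
  have e3 := xl_val (c := 3) (by norm_num)
  have e4 := xl_val (c := 4) (by norm_num)
  have e5 := xl_val (c := 5) (by norm_num)
  rw [← e0, ← e1, ← e2, ← e3, ← e4, ← e5] at h
  have m : ∀ x : LL, (x : PP) = 1 → x = 1 := fun x hx => Subtype.ext hx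
  exact ⟨m _ h.a2, m _ h.b2, m _ h.c2, m _ h.d2, m _ h.e2, m _ h.ab, m _ h.ae, m _ h.bc, m _ h.bd, m _ h.be, m _ h.acd,
    m _ h.ce, m _ h.de, m _ h.bcde, m _ h.s7, m _ h.sa, m _ h.sb, m _ h.sc, m _ h.sd, m _ h.es⟩

/-- the letters generate `LL` -/
theorem closure_LL (K : Subgroup LL) (h : ∀ c < 6, xl c ∈ K) : K = ⊤ := by
  have h1 : K.map LL.subtype = LL := by
    apply le_antisymm (Subgroup.map_subtype_le K)
    show Subgroup.closure _ ≤ _
    rw [Subgroup.closure_le]
    have h2 : ∀ c < 6, X c ∈ K.map LL.subtype := fun c hc => ⟨xl c, h c hc, xl_val (by omega)⟩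
    rintro x (rfl | rfl | rfl | rfl | rfl | rfl)
    · exact h2 0 (by norm_num)
    · exact h2 1 (by norm_num)
    · exact h2 2 (by norm_num)
    · exact h2 3 (by norm_num)
    · exact h2 4 (by norm_num)
    · exact h2 5 (by norm_num)
  rw [eq_top_iff]
  intro x _
  have h3 : (x : PP) ∈ K.map LL.subtype := by rw [h1]; exact x.2
  obtain ⟨y, hy, hxy⟩ := h3
  rwa [← show y = x from Subtype.ext hxy]

instance PP_finite : Finite PP := pp_main.1

/-- orbit data for transitivity -/
def ogL : List (List ℕ × List ℕ) := match stL with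
  | [] => []
  | s :: _ => s.g

/-- words of the point stabilizer with the numbering of `WsL` -/
def WsLH : List (List ℕ) := [[0], [], [2], [3], [4], [5], [6], [4, 3], [3, 4]]

theorem c_tr : growH tab 7 WsL [] ogL (2 ^ 0) 1 = some (2 ^ 819 - 1, 819) := by decide +kernel
theorem c_chL : chainH tab 7 819 WsL [] stL = some 211341312 := by decide +kernel
theorem c_chH : chainH tab 7 819 WsLH [] stL.tail = some 258048 := by decide +kernel
theorem d_og0 : growH tab 7 WsH [] og0 (2 ^ 1) 1 = some (om0, 512) := by decide +kernel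
theorem d_og1 : growH tab 7 WsH [] og1 (2 ^ 6) 1 = some (om1, 18) := by decide +kernel
theorem d_og2 : growH tab 7 WsH [] og2 (2 ^ 13) 1 = some (om2, 288) := by decide +kernel
theorem d_n0 : Nat.testBit om0 0 = false := by decide +kernel
theorem d_n1 : Nat.testBit om1 0 = false := by decide +kernel
theorem d_n2 : Nat.testBit om2 0 = false := by decide +kernel
theorem d_dj : Nat.land om0 om2 = 0 := by decide +kernel

/-- the point stabilizer -/
noncomputable def HL : Subgroup LL := Subgroup.closure {xl 0, xl 2, xl 3, xl 4, xl 5}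

theorem HL_mem {c : ℕ} (h : c < 7) (h1 : c ≠ 1) : xl c ∈ HL := by
  have m : ∀ {x : LL}, x ∈ ({xl 0, xl 2, xl 3, xl 4, xl 5} : Set LL) → x ∈ HL := fun hx => Subgroup.subset_closure hx
  interval_cases c
  · exact m (by simp)
  · exact absurd rfl h1
  · exact m (by simp)
  · exact m (by simp)
  · exact m (by simp)
  · exact m (by simp)
  · have : xl 6 = (xl 5)⁻¹ := by
      apply Subtype.ext
      show ((xl 6 : LL) : PP) = ((xl 5 : LL) : PP)⁻¹
      rw [xl_val (by norm_num), xl_val (by norm_num)]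
      show xb tab iv 819 9 (iv 5) = _
      exact xb_iv c_all (by norm_num)
    rw [this]; exact Subgroup.inv_mem _ (m (by simp))

theorem c_fix0 : (look (tab 0) 0 = 0 ∧ look (tab 2) 0 = 0) ∧ (look (tab 3) 0 = 0 ∧ look (tab 4) 0 = 0) ∧ look (tab 5) 0 = 0 := by
  decide +kernel

theorem HL_fix : ∀ g ∈ HL, φL g 0 = 0 := by
  intro g hg
  induction hg using Subgroup.closure_induction with
  | mem x hx =>
    rcases hx with rfl | rfl | rfl | rfl | rfl
    · rw [actL 0 (by norm_num) 0 (by norm_num)]; exact c_fix0.1.1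
    · rw [actL 2 (by norm_num) 0 (by norm_num)]; exact c_fix0.1.2
    · rw [actL 3 (by norm_num) 0 (by norm_num)]; exact c_fix0.2.1.1
    · rw [actL 4 (by norm_num) 0 (by norm_num)]; exact c_fix0.2.1.2
    · rw [actL 5 (by norm_num) 0 (by norm_num)]; exact c_fix0.2.2
  | one => simp
  | mul x y _ _ hx hy => rw [map_mul, Equiv.Perm.mul_apply, hy, hx]
  | inv x _ hx => rw [map_inv, Equiv.Perm.inv_eq_iff_eq, hx]

theorem LL_card_le : Nat.card LL ≤ 211341312 := (relPP.toRelL.card_Lsub).2

/-- the order of `³D₄(2)` -/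
theorem card_LL : Nat.card LL = 211341312 :=
  le_antisymm LL_card_le (chain_ge actL ltL _ c_chL)

theorem HL_words : ∀ w ∈ WsLH, ev xl w ∈ HL := by
  intro w hw
  simp only [WsLH, List.mem_cons, List.not_mem_nil, or_false] at hw
  rcases hw with rfl | rfl | rfl | rfl | rfl | rfl | rfl | rfl | rfl
  · simpa [ev] using HL_mem (c := 0) (by norm_num) (by norm_num)
  · simpa [ev] using HL.one_mem
  · simpa [ev] using HL_mem (c := 2) (by norm_num) (by norm_num)
  · simpa [ev] using HL_mem (c := 3) (by norm_num) (by norm_num)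
  · simpa [ev] using HL_mem (c := 4) (by norm_num) (by norm_num)
  · simpa [ev] using HL_mem (c := 5) (by norm_num) (by norm_num)
  · simpa [ev] using HL_mem (c := 6) (by norm_num) (by norm_num)
  · simpa [ev] using HL.mul_mem (HL_mem (c := 4) (by norm_num) (by norm_num)) (HL_mem (c := 3) (by norm_num) (by norm_num))
  · simpa [ev] using HL.mul_mem (HL_mem (c := 3) (by norm_num) (by norm_num)) (HL_mem (c := 4) (by norm_num) (by norm_num))

theorem HL_words' : ∀ w ∈ WsH, ev xl w ∈ HL := by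
  intro w hw
  simp only [WsH, List.mem_cons, List.not_mem_nil, or_false] at hw
  rcases hw with rfl | rfl | rfl | rfl | rfl | rfl
  · simpa [ev] using HL_mem (c := 0) (by norm_num) (by norm_num)
  · simpa [ev] using HL_mem (c := 2) (by norm_num) (by norm_num)
  · simpa [ev] using HL_mem (c := 3) (by norm_num) (by norm_num)
  · simpa [ev] using HL_mem (c := 4) (by norm_num) (by norm_num)
  · simpa [ev] using HL_mem (c := 5) (by norm_num) (by norm_num)
  · simpa [ev] using HL_mem (c := 6) (by norm_num) (by norm_num)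

/-- the stabilizer of the point `0` -/
theorem stab_HL : (∀ g : LL, φL g 0 = 0 → g ∈ HL) ∧ Nat.card HL = 258048 :=
  stab_of (xs := xl) (φ := φL) (tab := tab) (L := 7) (m := 819) actL ltL (N := 211341312) (b := 258048) (pt := 0)
    LL_card_le (by norm_num) (B := HL) c_tr (chainH_card actL ltL HL_words _ c_chH) HL_fix (by norm_num) (by norm_num)

/-- orbits -/
theorem orb_of {K : Subgroup LL} {Ws : List (List ℕ)} (hK : ∀ w ∈ Ws, ev xl w ∈ K) {og : List (List ℕ × List ℕ)} {pt M n : ℕ}
    (hpt : pt < 819) (h : growH tab 7 Ws [] og (2 ^ pt) 1 = some (M, n)) :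
    ∃ F : Finset ℕ, F.card = n ∧ (∀ q, M.testBit q = true ↔ q ∈ F) ∧ ∀ q ∈ F, q < 819 ∧ ∃ g ∈ K, φL g pt = q :=
  growH_sound actL ltL (K := K) hK (prev := []) (by simp)
    (Q := fun q => ∃ g ∈ K, φL g pt = q) (by
      rintro g hg q ⟨g', hg', rfl⟩
      exact ⟨g * g', K.mul_mem hg.1 hg', by rw [map_mul]; rfl⟩) og (F := {pt}) (by simp) (by
      intro q; simp [Nat.testBit_two_pow, eq_comm]) (by
      intro q hq
      rw [Finset.mem_singleton] at hq; subst hq
      exact ⟨hpt, 1, K.one_mem, by simp⟩) h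

/-- `LL` acts on `Fin 819` -/
noncomputable instance actLL : MulAction LL (Fin 819) where
  smul g i := ⟨φL g i, PG_lt c_all (g : PP) i.2⟩
  one_smul i := by apply Fin.ext; show φL 1 (i : ℕ) = i; simp
  mul_smul g h i := by
    apply Fin.ext
    show φL (g * h) (i : ℕ) = φL g (φL h i)
    rw [map_mul]; rfl

theorem smul_val (g : LL) (i : Fin 819) : ((g • i : Fin 819) : ℕ) = φL g i := rfl

theorem exists_zero (i : Fin 819) : ∃ g : LL, g • (0 : Fin 819) = i := by
  obtain ⟨F, h1, h2, h3⟩ := orb_of (K := ⊤) (Ws := WsL) (fun w _ => trivial) (by norm_num) c_tr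
  have h4 : (i : ℕ) ∈ F := by
    rw [← h2, Nat.testBit_two_pow_sub_one]
    simp [i.2]
  obtain ⟨_, g, _, hg⟩ := h3 _ h4
  exact ⟨g, Fin.ext hg⟩

instance transL : MulAction.IsPretransitive LL (Fin 819) := by
  refine ⟨fun x y => ?_⟩
  obtain ⟨g, rfl⟩ := exists_zero x
  obtain ⟨h, rfl⟩ := exists_zero y
  exact ⟨h * g⁻¹, by rw [mul_smul, inv_smul_smul]⟩

/-- a permutation fixing all points is trivial -/
theorem PP_faith {g : PP} (h : ∀ i < 819, PP.subtype g i = i) : g = 1 := by
  apply PG_ext c_all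
  intro i hi
  rw [h i hi]; simp

instance faithL : FaithfulSMul LL (Fin 819) := by
  refine ⟨fun {g h} hgh => ?_⟩
  apply Subtype.ext
  apply PG_ext c_all
  intro i hi
  exact congrArg Fin.val (hgh ⟨i, hi⟩)

/-- suborbits as sets in `Fin 819` -/
theorem sub_of {og : List (List ℕ × List ℕ)} {pt M n : ℕ} (hpt : pt < 819)
    (h : growH tab 7 WsH [] og (2 ^ pt) 1 = some (M, n)) :
    ({i : Fin 819 | M.testBit i = true} : Set (Fin 819)).ncard = n ∧
    ∀ x ∈ {i : Fin 819 | M.testBit i = true}, ∀ y ∈ {i : Fin 819 | M.testBit i = true}, ∃ g ∈ HL, g • x = y := by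
  obtain ⟨F, h1, h2, h3⟩ := orb_of (K := HL) HL_words' hpt h
  constructor
  · rw [← h1, ← Set.ncard_coe_finset]
    have : (F : Set ℕ) = Fin.val '' {i : Fin 819 | M.testBit i = true} := by
      ext q
      rw [Finset.mem_coe]
      constructor
      · intro hq
        exact ⟨⟨q, (h3 q hq).1⟩, (h2 q).mpr hq, rfl⟩
      · rintro ⟨i, hi, rfl⟩
        exact (h2 _).mp hi
    rw [this, Set.ncard_image_of_injective _ Fin.val_injective]
  · intro x hx y hy
    obtain ⟨_, g, hg, e1⟩ := h3 _ ((h2 _).mp hx)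
    obtain ⟨_, g', hg', e2⟩ := h3 _ ((h2 _).mp hy)
    refine ⟨g' * g⁻¹, HL.mul_mem hg' (HL.inv_mem hg), ?_⟩
    apply Fin.ext
    have e3 : (φL g)⁻¹ (x : ℕ) = pt := by rw [Equiv.Perm.inv_eq_iff_eq, e1]
    rw [smul_val, map_mul, map_inv, Equiv.Perm.mul_apply, e3, e2]

theorem HL_fix' : ∀ h ∈ HL, h • (0 : Fin 819) = 0 := fun h hh => Fin.ext (HL_fix h hh)

theorem cover (x : Fin 819) : x = 0 ∨ x ∈ {i : Fin 819 | om0.testBit i = true} ∨ x ∈ {i : Fin 819 | om1.testBit i = true} ∨
    x ∈ {i : Fin 819 | om2.testBit i = true} := by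
  have h1 : (Nat.lor (Nat.lor om0 om1) (Nat.lor om2 1)).testBit x = true := by
    rw [c_cover, Nat.testBit_two_pow_sub_one]; simp [x.2]
  change ((om0 ||| om1) ||| (om2 ||| 1)).testBit x = true at h1
  simp only [Nat.testBit_or, Bool.or_eq_true] at h1
  rcases h1 with (h1 | h1) | (h1 | h1)
  · exact Or.inr (Or.inl h1)
  · exact Or.inr (Or.inr (Or.inl h1))
  · exact Or.inr (Or.inr (Or.inr h1))
  · left
    apply Fin.ext
    rw [show (1 : ℕ) = 2 ^ 0 by norm_num, Nat.testBit_two_pow] at h1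
    exact (of_decide_eq_true h1).symm

theorem normal_trans (N : Subgroup LL) [hN : N.Normal] (hne : N ≠ ⊥) : ∀ x : Fin 819, ∃ n ∈ N, n • (0 : Fin 819) = x := by
  have s0 := sub_of (by norm_num) d_og0
  have s1 := sub_of (by norm_num) d_og1
  have s2 := sub_of (by norm_num) d_og2
  refine trans_of_suborbits (0 : Fin 819) (by simp) HL HL_fix' _ _ _ s0.1 s1.1 s2.1 ?_ ?_ ?_ ?_ cover s0.2 s1.2 s2.2 N hne
  · show ¬ (om0.testBit 0 = true)
    rw [d_n0]; decide
  · show ¬ (om1.testBit 0 = true)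
    rw [d_n1]; decide
  · show ¬ (om2.testBit 0 = true)
    rw [d_n2]; decide
  · rw [Set.disjoint_left]
    intro x hx hx'
    have h1 : (om0 &&& om2).testBit x = true := by rw [Nat.testBit_and, hx, hx']; rfl
    have h2 : (om0 &&& om2) = 0 := d_dj
    rw [h2] at h1; simp at h1

theorem xl_ne : xl 0 ≠ 1 := by
  intro h
  have h1 := relLL.all_one h
  have h2 : ∀ K : Subgroup LL, K = ⊤ := by
    intro K
    apply closure_LL
    intro c hc
    interval_cases c
    · rw [h]; exact K.one_mem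
    · rw [h1.1]; exact K.one_mem
    · rw [h1.2.1]; exact K.one_mem
    · rw [h1.2.2.1]; exact K.one_mem
    · rw [h1.2.2.2.1]; exact K.one_mem
    · rw [h1.2.2.2.2]; exact K.one_mem
  have h3 := h2 ⊥
  have h4 : Nat.card (⊥ : Subgroup LL) = Nat.card (⊤ : Subgroup LL) := by rw [h3]
  rw [Subgroup.card_bot, Subgroup.card_top, card_LL] at h4
  omega

instance LL_nontrivial : Nontrivial LL := ⟨⟨xl 0, 1, xl_ne⟩⟩

/-- `³D₄(2)` is simple -/
instance LL_simple : IsSimpleGroup LL := by
  refine ⟨fun N hN => ?_⟩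
  by_cases hne : N = ⊥
  · exact Or.inl hne
  right
  have htr := normal_trans N hne
  -- the image of `a` commutes with the image of `b`
  have hab : Commute (QuotientGroup.mk' N (xl 0)) (QuotientGroup.mk' N (xl 1)) := by
    obtain ⟨n, hn, hnb⟩ := htr (xl 1 • 0)
    have h1 : (n⁻¹ * xl 1) ∈ HL := by
      apply stab_HL.1
      have : (n⁻¹ * xl 1) • (0 : Fin 819) = 0 := by rw [mul_smul, ← hnb, inv_smul_smul]
      exact congrArg Fin.val this
    have h2 : Commute (n⁻¹ * xl 1) (xl 0) := relLL.comm_a _ h1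
    have h3 : QuotientGroup.mk' N (n⁻¹ * xl 1) = QuotientGroup.mk' N (xl 1) := by
      rw [map_mul, map_inv, show QuotientGroup.mk' N n = 1 from (QuotientGroup.eq_one_iff n).mpr hn, inv_one, one_mul]
    rw [← h3]
    exact (h2.map (QuotientGroup.mk' N)).symm
  have h4 := relLL.map (QuotientGroup.mk' N)
  have h5 := h4.one_of_comm hab
  have h6 := h4.all_one h5
  apply closure_LL
  intro c hc
  rw [← QuotientGroup.eq_one_iff]
  interval_cases c
  · exact h5
  · exact h6.1
  · exact h6.2.1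
  · exact h6.2.2.1
  · exact h6.2.2.2.1
  · exact h6.2.2.2.2

end Cfsg.Agent.Lib.ThP
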