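import Cfsg.Agent.Lib.ThPGrp
import Cfsg.Agent.Lib.ThPLA
import Cfsg.Agent.Lib.ThPLB
import Cfsg.Agent.Lib.ThPLC
import Cfsg.Agent.Lib.ThPLD
import Cfsg.Agent.Lib.ThPLE
import Cfsg.Agent.Lib.DceAux

/-!
# Upper bounds for `³D₄(2)` and `³D₄(2):3`
-/

set_option autoImplicit false
set_option linter.all false

namespace Cfsg.Agent.Lib.ThP

open Cfsg.Spor Cfsg.Agent.Lib.BenesWord Cfsg.Agent.Lib.CosetGroup Cfsg.Agent.Lib.CoxBridge Cfsg.Agent.Lib.CosetMain
open Cfsg.Agent.Lib.CosetChain Cfsg.Agent.Lib.Dce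

section
variable {G : Type*} [Group G] {a b c d e s t : G}

/-- letters of the certificates -/
def xL (a b c d e s : G) (n : ℕ) : G :=
  match n with
  | 0 => a
  | 1 => b
  | 2 => c
  | 3 => d
  | 4 => e
  | 5 => s * d
  | _ => 1

theorem inv_of_sq {x : G} (h : x ^ 2 = 1) : x⁻¹ = x := by
  rw [inv_eq_iff_mul_eq_one, ← pow_two]; exact h

namespace RelL
variable (h : RelL a b c d e s)
include h

theorem ia : a⁻¹ = a := inv_of_sq h.a2
theorem ib : b⁻¹ = b := inv_of_sq h.b2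
theorem ic : c⁻¹ = c := inv_of_sq h.c2
theorem id : d⁻¹ = d := inv_of_sq h.d2
theorem ie : e⁻¹ = e := inv_of_sq h.e2

theorem a_eq : a = (c * d) ^ 4 := mul_inv_eq_one.mp h.acd

theorem cac : c * a * c⁻¹ = a := by
  have h1 : c * (c * d) ^ 4 * c⁻¹ = (c * (c * d) * c⁻¹) ^ 4 := (conj_pow).symm
  have h2 : c * (c * d) * c⁻¹ = (c * d)⁻¹ := by
    rw [mul_inv_rev, h.id, h.ic]
    have : c * c = 1 := by rw [← pow_two]; exact h.c2
    rw [← mul_assoc, this, one_mul]
  nth_rewrite 1 [h.a_eq]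
  rw [h1, h2, inv_pow, ← h.a_eq, h.ia]

theorem ac2 : (a * c) ^ 2 = 1 := by
  have h1 := h.cac
  rw [h.ic] at h1
  rw [pow_two, show a * c * (a * c) = a * (c * a * c) by group, h1, ← pow_two]
  exact h.a2

theorem dac : d * a * d⁻¹ = a := by
  have h1 : d * (c * d) ^ 4 * d⁻¹ = (d * (c * d) * d⁻¹) ^ 4 := (conj_pow).symm
  have h2 : d * (c * d) * d⁻¹ = (c * d)⁻¹ := by
    rw [mul_inv_rev, h.ic, h.id]
    have : d * d = 1 := by rw [← pow_two]; exact h.d2
    rw [mul_assoc, mul_assoc, this, mul_one]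
  nth_rewrite 1 [h.a_eq]
  rw [h1, h2, inv_pow, ← h.a_eq, h.ia]

theorem dsd : d * s * d = s⁻¹ := by
  have h1 := h.sd
  rw [eq_inv_iff_mul_eq_one]
  have h2 : s * (d * s * d) = 1 := by
    rw [← h1, pow_two]; group
  exact mul_eq_one_comm.mp h2

theorem sas : s⁻¹ * a * s = a := by
  have h1 := h.sa
  rw [h.ia] at h1
  have h2 := eq_inv_of_mul_eq_one_left h1
  rw [h2, h.ia]

theorem sbs : s⁻¹ * b * s = b := by
  have h1 := h.sb
  rw [h.ib] at h1
  have h2 := eq_inv_of_mul_eq_one_left h1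
  rw [h2, h.ib]

theorem scs : s⁻¹ * c * s = c := by
  have h1 := h.sc
  rw [h.ic] at h1
  have h2 := eq_inv_of_mul_eq_one_left h1
  rw [h2, h.ic]

theorem dd : d * d = 1 := by rw [← pow_two]; exact h.d2
theorem dsd' : d * (s * d) = s⁻¹ := by rw [← mul_assoc]; exact h.dsd
theorem sdd : s * d * d = s := by rw [mul_assoc, h.dd, mul_one]

theorem dfx {x : G} : d * (s * d) * x * (s * d) * d * x = s⁻¹ * x * s * x := by
  rw [h.dsd', mul_assoc (s⁻¹ * x) (s * d) d, h.sdd]

theorem words : ∀ W ∈ ThPRel.rels, W.eval (xL a b c d e s) = 1 := by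
  simp only [ThPRel.rels, List.forall_mem_cons, Wd.eval]
  have hf : xL a b c d e s 5 = s * d := rfl
  refine ⟨h.ab, h.ae, h.bc, h.bd, h.be, h.acd, h.ce, h.de, h.bcde, ?_, ?_, ?_, ?_, ?_, h.ac2, by simp⟩
  · show (s * d * d) ^ 7 = 1
    rw [h.sdd]; exact h.s7
  · show d * (s * d) * a * (s * d) * d * a = 1
    rw [h.dfx, h.sas, ← pow_two]; exact h.a2
  · show d * (s * d) * b * (s * d) * d * b = 1
    rw [h.dfx, h.sbs, ← pow_two]; exact h.b2
  · show d * (s * d) * c * (s * d) * d * c = 1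
    rw [h.dfx, h.scs, ← pow_two]; exact h.c2
  · show e * d * (s * d) * e * d * (s * d) * d * (s * d) * e * (s * d) * d * (s * d) * d * (s * d) * d = 1
    have h1 : e * d * (s * d) * e * d * (s * d) * d * (s * d) * e * (s * d) * d * (s * d) * d * (s * d) * d =
        e * (d * (s * d)) * e * (d * (s * d)) * (d * (s * d)) * e * (s * d * d) * (s * d * d) * (s * d * d) := by
      simp only [mul_assoc]
    rw [h1, h.dsd', h.sdd]
    have h2 := h.es
    rw [h.ie] at h2
    have h3 : (s ^ 3)⁻¹ * e * s ^ 3 = ((s ^ 3)⁻¹ * e * s ^ 3)⁻¹ := by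
      have : ((s ^ 3)⁻¹ * e * s ^ 3)⁻¹ = (s ^ 3)⁻¹ * e⁻¹ * s ^ 3 := by group
      rw [this, h.ie]
    rw [← h3] at h2
    rw [← h2, pow_three']
    simp only [mul_inv_rev, mul_assoc, mul_inv_cancel_left]

/-- order bound for `³D₄(2)` -/
theorem card_le : Finite (LG (xL a b c d e s) [0, 1, 2, 3, 4, 5]) ∧
    Nat.card (LG (xL a b c d e s) [0, 1, 2, 3, 4, 5]) ≤ 211341312 := by
  have hw := h.words
  have hi : ∀ c' ∈ [0, 1, 2, 3, 4, 5], xL a b c d e s c' * xL a b c d e s c' = 1 := by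
    intro c' hc
    simp only [List.mem_cons, List.not_mem_nil, or_false] at hc
    rcases hc with rfl | rfl | rfl | rfl | rfl | rfl
    · rw [← pow_two]; exact h.a2
    · rw [← pow_two]; exact h.b2
    · rw [← pow_two]; exact h.c2
    · rw [← pow_two]; exact h.d2
    · rw [← pow_two]; exact h.e2
    · rw [← pow_two]; exact h.sd
  have h0 : Finite (LG (xL a b c d e s) []) ∧ Nat.card (LG (xL a b c d e s) []) = 1 := by
    rw [LG_nil]; exact ⟨inferInstance, Nat.card_unique⟩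
  have h1 := ThPLA.step hw (fun c' hc => hi c' (by revert hc; simp [ThPLA.sub]; try omega)) h0.1
  have h2 := ThPLB.step hw (fun c' hc => hi c' (by revert hc; simp [ThPLB.sub]; try omega)) h1.1
  have h3 := ThPLC.step hw (fun c' hc => hi c' (by revert hc; simp [ThPLC.sub]; try omega)) h2.1
  have h4 := ThPLD.step hw (fun c' hc => hi c' (by revert hc; simp [ThPLD.sub]; try omega)) h3.1
  have h5 := ThPLE.step hw (fun c' hc => hi c' (by revert hc; simp [ThPLE.sub]; try omega)) h4.1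
  refine ⟨h5.1, ?_⟩
  have e1 := h1.2
  have e2 := h2.2
  have e3 := h3.2
  have e4 := h4.2
  have e5 := h5.2
  rw [h0.2] at e1
  omega

end RelL

/-- the subgroup `⟨a, b, c, d, e, s⟩` -/
def Lsub (a b c d e s : G) : Subgroup G := Subgroup.closure {a, b, c, d, e, s}

theorem Lsub_eq (a b c d e s : G) : LG (xL a b c d e s) [0, 1, 2, 3, 4, 5] = Lsub a b c d e s := by
  have m : ∀ {x : G}, x ∈ ({a, b, c, d, e, s} : Set G) → x ∈ Lsub a b c d e s := fun hx => Subgroup.subset_closure hx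
  apply le_antisymm
  · unfold LG
    rw [Subgroup.closure_le]
    rintro _ ⟨W, hW, rfl⟩
    simp only [List.map_cons, List.map_nil, List.mem_cons, List.not_mem_nil, or_false] at hW
    rcases hW with rfl | rfl | rfl | rfl | rfl | rfl
    · exact m (x := a) (by simp)
    · exact m (x := b) (by simp)
    · exact m (x := c) (by simp)
    · exact m (x := d) (by simp)
    · exact m (x := e) (by simp)
    · exact Subgroup.mul_mem _ (m (x := s) (by simp)) (m (x := d) (by simp))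
  · unfold Lsub
    rw [Subgroup.closure_le]
    have h0 : a ∈ LG (xL a b c d e s) [0, 1, 2, 3, 4, 5] := mem_LG (c := 0) (by simp)
    have h1 : b ∈ LG (xL a b c d e s) [0, 1, 2, 3, 4, 5] := mem_LG (c := 1) (by simp)
    have h2 : c ∈ LG (xL a b c d e s) [0, 1, 2, 3, 4, 5] := mem_LG (c := 2) (by simp)
    have h3 : d ∈ LG (xL a b c d e s) [0, 1, 2, 3, 4, 5] := mem_LG (c := 3) (by simp)
    have h4 : e ∈ LG (xL a b c d e s) [0, 1, 2, 3, 4, 5] := mem_LG (c := 4) (by simp)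
    have h5 : s * d ∈ LG (xL a b c d e s) [0, 1, 2, 3, 4, 5] := mem_LG (c := 5) (by simp)
    have h6 : s ∈ LG (xL a b c d e s) [0, 1, 2, 3, 4, 5] := by
      have := Subgroup.mul_mem _ h5 (Subgroup.inv_mem _ h3)
      simpa using this
    rintro x (rfl | rfl | rfl | rfl | rfl | rfl)
    · exact h0
    · exact h1
    · exact h2
    · exact h3
    · exact h4
    · exact h6

/-- order bound for `³D₄(2)` -/
theorem RelL.card_Lsub (h : RelL a b c d e s) : Finite (Lsub a b c d e s) ∧ Nat.card (Lsub a b c d e s) ≤ 211341312 := by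
  have := h.card_le
  rwa [Lsub_eq] at this

namespace RelP
variable (h : RelP a b c d e s t)
include h

theorem tx {x : G} (hx : x⁻¹ = x) (h1 : t⁻¹ * x⁻¹ * t * x = 1) : t⁻¹ * x * t = x ∧ t * x * t⁻¹ = x := by
  rw [hx] at h1
  have h2 := eq_inv_of_mul_eq_one_left h1
  rw [hx] at h2
  refine ⟨h2, ?_⟩
  nth_rewrite 1 [← h2]; group

theorem tat : t⁻¹ * a * t = a ∧ t * a * t⁻¹ = a := h.tx h.ia h.ta
theorem tbt : t⁻¹ * b * t = b ∧ t * b * t⁻¹ = b := h.tx h.ib h.tb
theorem tct : t⁻¹ * c * t = c ∧ t * c * t⁻¹ = c := h.tx h.ic h.tc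
theorem tdt : t⁻¹ * d * t = d ∧ t * d * t⁻¹ = d := h.tx h.id h.td
theorem tet : t⁻¹ * e * t = e ∧ t * e * t⁻¹ = e := h.tx h.ie h.te

theorem tst : t⁻¹ * s * t = s ^ 2 := mul_inv_eq_one.mp h.ts

theorem tst' : t * s * t⁻¹ = s ^ 4 := by
  have h1 : (t * s * t⁻¹) ^ 2 = s := by
    rw [conj_pow, ← h.tst]; group
  have h2 : (t * s * t⁻¹) ^ 7 = 1 := by rw [conj_pow, h.s7]; group
  have h3 : (t * s * t⁻¹) ^ 8 = s ^ 4 := by
    rw [show (8 : ℕ) = 2 * 4 by norm_num, pow_mul, h1]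
  rw [← h3, show (8 : ℕ) = 7 + 1 by norm_num, pow_add, h2, one_mul, pow_one]

/-- `t` normalizes `L` -/
theorem t_conj : ∀ x ∈ Lsub a b c d e s, t * x * t⁻¹ ∈ Lsub a b c d e s ∧ t⁻¹ * x * t ∈ Lsub a b c d e s := by
  have m : ∀ {x : G}, x ∈ ({a, b, c, d, e, s} : Set G) → x ∈ Lsub a b c d e s := fun hx => Subgroup.subset_closure hx
  intro x hx
  induction hx using Subgroup.closure_induction with
  | mem x hx =>
    rcases hx with rfl | rfl | rfl | rfl | rfl | rfl
    · rw [h.tat.1, h.tat.2]; exact ⟨m (by simp), m (by simp)⟩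
    · rw [h.tbt.1, h.tbt.2]; exact ⟨m (by simp), m (by simp)⟩
    · rw [h.tct.1, h.tct.2]; exact ⟨m (by simp), m (by simp)⟩
    · rw [h.tdt.1, h.tdt.2]; exact ⟨m (by simp), m (by simp)⟩
    · rw [h.tet.1, h.tet.2]; exact ⟨m (by simp), m (by simp)⟩
    · rw [h.tst, h.tst']; exact ⟨Subgroup.pow_mem _ (m (by simp)) _, Subgroup.pow_mem _ (m (by simp)) _⟩
  | one => simp only [mul_one, mul_inv_cancel, inv_mul_cancel]; exact ⟨Subgroup.one_mem _, Subgroup.one_mem _⟩
  | mul x y _ _ hx hy =>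
    refine ⟨?_, ?_⟩
    · have : t * (x * y) * t⁻¹ = (t * x * t⁻¹) * (t * y * t⁻¹) := by group
      rw [this]; exact Subgroup.mul_mem _ hx.1 hy.1
    · have : t⁻¹ * (x * y) * t = (t⁻¹ * x * t) * (t⁻¹ * y * t) := by group
      rw [this]; exact Subgroup.mul_mem _ hx.2 hy.2
  | inv x _ hx =>
    refine ⟨?_, ?_⟩
    · have : t * x⁻¹ * t⁻¹ = (t * x * t⁻¹)⁻¹ := by group
      rw [this]; exact Subgroup.inv_mem _ hx.1
    · have : t⁻¹ * x⁻¹ * t = (t⁻¹ * x * t)⁻¹ := by group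
      rw [this]; exact Subgroup.inv_mem _ hx.2

end RelP

end

/-- `³D₄(2)` in the presented group -/
def LP : Subgroup GP := Lsub (gp .a) (gp .b) (gp .c) (gp .d) (gp .e) (gp .s)

theorem LP_mem {x : Gen7} (hx : x ≠ .t) : gp x ∈ LP := by
  apply Subgroup.subset_closure
  cases x <;> simp at hx ⊢

instance LP_normal : LP.Normal := by
  have key : (Subgroup.normalizer (LP : Set GP)) = ⊤ := by
    apply closure_GP
    intro x
    by_cases hx : x = .t
    · subst hx
      rw [Subgroup.mem_normalizer_iff]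
      intro y
      have h1 := relGP.t_conj
      constructor
      · intro hy; exact (h1 y hy).1
      · intro hy
        have := (h1 _ hy).2
        have e1 : (gp Gen7.t)⁻¹ * (gp Gen7.t * y * (gp Gen7.t)⁻¹) * gp Gen7.t = y := by group
        rw [e1] at this
        exact this
    · exact Subgroup.le_normalizer (LP_mem hx)
  exact Subgroup.normalizer_eq_top_iff.mp key

theorem quot_le : Finite (GP ⧸ LP) ∧ Nat.card (GP ⧸ LP) ≤ 3 := by
  have ht3 : ((gp .t : GP) : GP ⧸ LP) ^ 3 = 1 := by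
    rw [← QuotientGroup.mk_pow, relGP.t3]; rfl
  have h1 := zp_bound (n := 3) (by norm_num) ht3
  have h2 : Subgroup.zpowers ((gp .t : GP) : GP ⧸ LP) = ⊤ := by
    have h3 : (Subgroup.zpowers ((gp .t : GP) : GP ⧸ LP)).comap (QuotientGroup.mk' LP) = ⊤ := by
      apply closure_GP
      intro x
      rw [Subgroup.mem_comap]
      by_cases hx : x = .t
      · subst hx; exact Subgroup.mem_zpowers _
      · have : QuotientGroup.mk' LP (gp x) = 1 := (QuotientGroup.eq_one_iff _).mpr (LP_mem hx)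
        rw [this]; exact Subgroup.one_mem _
    rw [eq_top_iff]
    intro y _
    obtain ⟨x, rfl⟩ := QuotientGroup.mk'_surjective LP y
    have : x ∈ (Subgroup.zpowers ((gp .t : GP) : GP ⧸ LP)).comap (QuotientGroup.mk' LP) := by rw [h3]; trivial
    exact this
  rw [h2] at h1
  obtain ⟨h4, h5⟩ := h1
  exact ⟨Finite.of_equiv _ Subgroup.topEquiv.toEquiv, by rwa [Nat.card_congr Subgroup.topEquiv.toEquiv] at h5⟩

/-- order bound for `³D₄(2):3` -/
theorem card_GP_le : Finite GP ∧ Nat.card GP ≤ 634023936 :=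
  bound_of_quot quot_le relGP.toRelL.card_Lsub (by norm_num)

/-- the subgroup generated by elements satisfying the relations -/
theorem RelP.card_le {G : Type*} [Group G] {a b c d e s t : G} (h : RelP a b c d e s t) :
    Finite (Subgroup.closure {a, b, c, d, e, s, t}) ∧ Nat.card (Subgroup.closure {a, b, c, d, e, s, t}) ≤ 634023936 := by
  obtain ⟨f, h0, h1, h2, h3, h4, h5, h6⟩ := homGP h
  refine le_bound ?_ (range_bound f card_GP_le)
  rw [Subgroup.closure_le]
  rintro x (rfl | rfl | rfl | rfl | rfl | rfl | rfl)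
  · exact ⟨_, h0⟩
  · exact ⟨_, h1⟩
  · exact ⟨_, h2⟩
  · exact ⟨_, h3⟩
  · exact ⟨_, h4⟩
  · exact ⟨_, h5⟩
  · exact ⟨_, h6⟩

end Cfsg.Agent.Lib.ThP
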