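import Cfsg.Agent.Lib.ThXRel
import Cfsg.Agent.Lib.CosetChain

set_option autoImplicit false
set_option linter.all false
set_option maxRecDepth 100000

namespace Cfsg.Agent.Lib.ThXLC
open Cfsg.Spor Cfsg.Agent.Lib.BenesPerm Cfsg.Agent.Lib.BenesAct Cfsg.Agent.Lib.BenesWord
open Cfsg.Agent.Lib.BenesPlane Cfsg.Agent.Lib.CosetClosure Cfsg.Agent.Lib.CosetFacts
open Cfsg.Agent.Lib.CosetMain Cfsg.Agent.Lib.CoxBridge Cfsg.Agent.Lib.CosetGroup Cfsg.Agent.Lib.CosetInst Cfsg.Agent.Lib.CosetInj
open Cfsg.Agent.Lib.BenesPack Cfsg.Agent.Lib.CosetPack Cfsg.Agent.Lib.CosetChain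
open Cfsg.Agent.Lib.ThXRel (rels)

noncomputable def n0 : Net := Net.nil
noncomputable def m1_0 : Nat := (nat_lit 0x4)
noncomputable def n1 : Net := (Net.cons (nat_lit 1) m1_0 Net.nil)
noncomputable def m2_0 : Nat := (nat_lit 0x4)
noncomputable def m2_1 : Nat := (nat_lit 0x12)
noncomputable def m2_2 : Nat := (nat_lit 0x4)
noncomputable def m2_3 : Nat := (nat_lit 0x10)
noncomputable def m2_4 : Nat := (nat_lit 0x4)
noncomputable def n2 : Net := (Net.cons (nat_lit 1) m2_0 (Net.cons (nat_lit 2) m2_1 (Net.cons (nat_lit 4) m2_2 (Net.cons (nat_lit 2) m2_3 (Net.cons (nat_lit 1) m2_4 Net.nil)))))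
noncomputable def m3_0 : Nat := (nat_lit 0x11)
noncomputable def n3 : Net := (Net.cons (nat_lit 1) m3_0 Net.nil)
noncomputable def nets : List Net := [n0, n1, n2, n3]

noncomputable def r0_0 : Nat := (nat_lit 0x1e)
noncomputable def r0_1 : Nat := (nat_lit 0x1c)
noncomputable def r0_2 : Nat := (nat_lit 0x20)
noncomputable def r0 : List Nat := (List.cons r0_0 (List.cons r0_1 (List.cons r0_2 List.nil)))
noncomputable def r1_0 : Nat := (nat_lit 0x22)
noncomputable def r1_1 : Nat := (nat_lit 0x30)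
noncomputable def r1_2 : Nat := (nat_lit 0x0)
noncomputable def r1 : List Nat := (List.cons r1_0 (List.cons r1_1 (List.cons r1_2 List.nil)))
noncomputable def r2_0 : Nat := (nat_lit 0x20)
noncomputable def r2_1 : Nat := (nat_lit 0x20)
noncomputable def r2_2 : Nat := (nat_lit 0x0)
noncomputable def r2 : List Nat := (List.cons r2_0 (List.cons r2_1 (List.cons r2_2 List.nil)))
noncomputable def r3_0 : Nat := (nat_lit 0x4)
noncomputable def r3_1 : Nat := (nat_lit 0x8)
noncomputable def r3_2 : Nat := (nat_lit 0x0)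
noncomputable def r3 : List Nat := (List.cons r3_0 (List.cons r3_1 (List.cons r3_2 List.nil)))
noncomputable def R : List (List Nat) := (List.cons r0 (List.cons r1 (List.cons r2 (List.cons r3 List.nil))))
noncomputable def d3 : Nat := (nat_lit 0x22)
noncomputable def d2 : Nat := (nat_lit 0x14)
noncomputable def d1 : Nat := (nat_lit 0x8)
noncomputable def D : Net := (Net.cons (nat_lit 1) d1 (Net.cons (nat_lit 2) d2 (Net.cons (nat_lit 3) d3 Net.nil)))
noncomputable def Tp0 : Nat := (nat_lit 0x20000000000000001000000000000000000000000000)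
noncomputable def T : Tr := (Tr.leaf Tp0)
noncomputable def DTp0 : Nat := (nat_lit 0x0)
noncomputable def DT : Tr := (Tr.leaf DTp0)
noncomputable def scr : Scr := Scr.nil
noncomputable def E : Ex := (Ex.cons (nat_lit 0) (nat_lit 0) (nat_lit 0) (Ex.cons (nat_lit 1) (nat_lit 0) (nat_lit 1) (Ex.cons (nat_lit 2) (nat_lit 0) (nat_lit 2) Ex.nil)))
noncomputable def nd : Nat := (nat_lit 0)
noncomputable def g : Nat := (nat_lit 3)

/-- letters of the group -/
def sub : List ℕ := [0, 2, 3, 4]
/-- letters of the subgroup -/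
def sub' : List ℕ := [0, 2, 3]

/-- relators in the local letters -/
def lrels : List Wd := [(Wd.pow (Wd.mul (Wd.g 0) (Wd.g 3)) 2),
  (Wd.mul (Wd.g 0) (Wd.inv (Wd.pow (Wd.mul (Wd.g 1) (Wd.g 2)) 4))),
  (Wd.pow (Wd.mul (Wd.g 1) (Wd.g 3)) 2),
  (Wd.pow (Wd.mul (Wd.g 2) (Wd.g 3)) 3),
  (Wd.pow (Wd.mul (Wd.g 0) (Wd.g 1)) 2)]

/-- periods -/
def pers : List ℕ := [2, 9, 2, 2, 2]

theorem c_relok : relOK rels lrels sub = true := by decide
theorem c_nets : netsCheck (2 ^ 3) nets = true := by decide +kernel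
theorem c_iv : ivK nets 3 ivI 4 = true := by decide +kernel
theorem c_full : fullInvK nets 6 4 = true := by decide +kernel
theorem c_len : lenK R 3 4 = true := by decide +kernel
theorem c_sym : symK nets ivI R 4 = true := by decide +kernel
theorem c_disj : disjK D 1 = true := by decide +kernel
theorem c_tree : treeK nets 3 D = true := by decide +kernel
theorem c_treelet : netLetK 4 D = true := by decide +kernel
theorem c_dtab : dtabK (2 ^ 3) nd DT = true := by decide +kernel
theorem c_given : ∀ j, j < 3 → eSrc (T.get j) = 0 ∧ eDst (T.get j) = 0 ∧ eLet (T.get j) < sub.length ∧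
  nthK 0 sub (eLet (T.get j)) ∈ sub' := by decide +kernel
theorem c_facts : factsK nets ivI R 4 6 (2 ^ 3) nd T DT ((lpats 4 lrels).map (fun W => (W.flat ivI).reverse)) 3 scr = true := by decide +kernel
theorem c_ex : exK nets R 4 T (3 + scr.len) E = true := by decide +kernel
theorem c_simdlet : simdLetK ivI 4 (lrels.zip pers) = true := by decide +kernel
theorem c_cover : force (2 ^ 3) (fun N => relsMDK nets ivI R N 2 3 ((lrels.zip pers).map (splitW ivI)) (exM E D) (fun ms => coverK nets ivI 6 ms 4)) = true := by decide +kernel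
theorem c_rels : relsD nets 3 2 ivI lrels = true := by decide +kernel

/-- the step of the chain -/
theorem step {G : Type*} [Group G] {x : ℕ → G} (hrels : ∀ W ∈ rels, W.eval x = 1) (hinv : ∀ c ∈ sub, x c * x c = 1)
    (hfin : Finite (LG x [0, 2, 3])) : Finite (LG x [0, 2, 3, 4]) ∧ Nat.card (LG x [0, 2, 3, 4]) ≤ 6 * Nat.card (LG x [0, 2, 3]) :=
  CosetChain.step hrels sub sub' pers c_relok hinv (by decide) (j := 2) (jk := 2) (P := 3) (D := D) (R := R)
    (scr := scr) (E := E) (T := T) (DT := DT) (nd := nd) (g := 3) (k := 3) (n := 6) rfl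
    c_nets (by norm_num) (by norm_num) (by norm_num) c_iv c_full c_len c_sym c_disj c_tree c_treelet c_dtab c_given
    (by decide) c_facts c_ex c_rels c_simdlet c_cover hfin

end Cfsg.Agent.Lib.ThXLC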