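import Cfsg.Agent.Lib.ThXRel
import Cfsg.Agent.Lib.CosetChain

set_option autoImplicit false
set_option linter.all false
set_option maxRecDepth 100000

namespace Cfsg.Agent.Lib.ThXLD
open Cfsg.Spor Cfsg.Agent.Lib.BenesPerm Cfsg.Agent.Lib.BenesAct Cfsg.Agent.Lib.BenesWord
open Cfsg.Agent.Lib.BenesPlane Cfsg.Agent.Lib.CosetClosure Cfsg.Agent.Lib.CosetFacts
open Cfsg.Agent.Lib.CosetMain Cfsg.Agent.Lib.CoxBridge Cfsg.Agent.Lib.CosetGroup Cfsg.Agent.Lib.CosetInst Cfsg.Agent.Lib.CosetInj
open Cfsg.Agent.Lib.BenesPack Cfsg.Agent.Lib.CosetPack Cfsg.Agent.Lib.CosetChain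
open Cfsg.Agent.Lib.ThXRel (rels)

noncomputable def m0_0 : Nat := (nat_lit 0x5444444414000151555000000445404)
noncomputable def m0_1 : Nat := (nat_lit 0x12033222222301120010030021210132)
noncomputable def m0_2 : Nat := (nat_lit 0x4060606000d030c030a000001090204)
noncomputable def m0_3 : Nat := (nat_lit 0x1b005d00500000001d004300bb0000)
noncomputable def m0_4 : Nat := (nat_lit 0x50f00000f66f00007cb000009000)
noncomputable def m0_5 : Nat := (nat_lit 0xc2dacada0000000040900000)
noncomputable def m0_6 : Nat := (nat_lit 0x824a409000000000)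
noncomputable def m0_7 : Nat := (nat_lit 0x824a40900000000000000000)
noncomputable def m0_8 : Nat := (nat_lit 0x40d00000c24a0000409000000000)
noncomputable def m0_9 : Nat := (nat_lit 0x10005800500000001c004000900000)
noncomputable def m0_10 : Nat := (nat_lit 0x60606000d030c030a000001090000)
noncomputable def m0_11 : Nat := (nat_lit 0x12033202222101120010030021210010)
noncomputable def m0_12 : Nat := (nat_lit 0x5044044400000011545000000445404)
noncomputable def n0 : Net := (Net.cons (nat_lit 1) m0_0 (Net.cons (nat_lit 2) m0_1 (Net.cons (nat_lit 4) m0_2 (Net.cons (nat_lit 8) m0_3 (Net.cons (nat_lit 16) m0_4 (Net.cons (nat_lit 32) m0_5 (Net.cons (nat_lit 64) m0_6 (Net.cons (nat_lit 32) m0_7 (Net.cons (nat_lit 16) m0_8 (Net.cons (nat_lit 8) m0_9 (Net.cons (nat_lit 4) m0_10 (Net.cons (nat_lit 2) m0_11 (Net.cons (nat_lit 1) m0_12 Net.nil)))))))))))))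
noncomputable def m1_0 : Nat := (nat_lit 0x5115155005411041511010115415401)
noncomputable def m1_1 : Nat := (nat_lit 0x13311301302020013102010303012110)
noncomputable def m1_2 : Nat := (nat_lit 0x60d040d0a0b050c0500030c0d0a0d00)
noncomputable def m1_3 : Nat := (nat_lit 0x22008200c000e40065004700ff0080)
noncomputable def m1_4 : Nat := (nat_lit 0x67bd0000baeb0000e4fc00003c00)
noncomputable def m1_5 : Nat := (nat_lit 0x5db6d8360000000040b40000)
noncomputable def m1_6 : Nat := (nat_lit 0x1802403400000000)
noncomputable def m1_7 : Nat := (nat_lit 0x180240340000000000000000)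
noncomputable def m1_8 : Nat := (nat_lit 0x45b400001822000040b400000000)
noncomputable def m1_9 : Nat := (nat_lit 0x22000200c8006400640044003c0000)
noncomputable def m1_10 : Nat := (nat_lit 0x90c0d020305040500030c0e050800)
noncomputable def m1_11 : Nat := (nat_lit 0x10311301002023013102010303021000)
noncomputable def m1_12 : Nat := (nat_lit 0x10111155504414001111011000151400)
noncomputable def n1 : Net := (Net.cons (nat_lit 1) m1_0 (Net.cons (nat_lit 2) m1_1 (Net.cons (nat_lit 4) m1_2 (Net.cons (nat_lit 8) m1_3 (Net.cons (nat_lit 16) m1_4 (Net.cons (nat_lit 32) m1_5 (Net.cons (nat_lit 64) m1_6 (Net.cons (nat_lit 32) m1_7 (Net.cons (nat_lit 16) m1_8 (Net.cons (nat_lit 8) m1_9 (Net.cons (nat_lit 4) m1_10 (Net.cons (nat_lit 2) m1_11 (Net.cons (nat_lit 1) m1_12 Net.nil)))))))))))))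
noncomputable def m2_0 : Nat := (nat_lit 0x1410514504040145104554500500540)
noncomputable def m2_1 : Nat := (nat_lit 0x112111202211131300231031210112)
noncomputable def m2_2 : Nat := (nat_lit 0x60a090f0f00050a050f0d0e02020f04)
noncomputable def m2_3 : Nat := (nat_lit 0xfb00bb005c00ae0085007e00150030)
noncomputable def m2_4 : Nat := (nat_lit 0x9a800000627a00009b6900000100)
noncomputable def m2_5 : Nat := (nat_lit 0x7c8608030000000088010000)
noncomputable def m2_6 : Nat := (nat_lit 0x6402080100000000)
noncomputable def m2_7 : Nat := (nat_lit 0x640208010000000000000000)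
noncomputable def m2_8 : Nat := (nat_lit 0x1880000064030000880100000000)
noncomputable def m2_9 : Nat := (nat_lit 0x82009a003c000c0032000800010000)
noncomputable def m2_10 : Nat := (nat_lit 0x60a090b0d00060806090a0800000300)
noncomputable def m2_11 : Nat := (nat_lit 0x112011212311020311220031210110)
noncomputable def m2_12 : Nat := (nat_lit 0x1410514510040045104554500500540)
noncomputable def n2 : Net := (Net.cons (nat_lit 1) m2_0 (Net.cons (nat_lit 2) m2_1 (Net.cons (nat_lit 4) m2_2 (Net.cons (nat_lit 8) m2_3 (Net.cons (nat_lit 16) m2_4 (Net.cons (nat_lit 32) m2_5 (Net.cons (nat_lit 64) m2_6 (Net.cons (nat_lit 32) m2_7 (Net.cons (nat_lit 16) m2_8 (Net.cons (nat_lit 8) m2_9 (Net.cons (nat_lit 4) m2_10 (Net.cons (nat_lit 2) m2_11 (Net.cons (nat_lit 1) m2_12 Net.nil)))))))))))))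
noncomputable def m3_0 : Nat := (nat_lit 0x1441544114110440000414514104440)
noncomputable def m3_1 : Nat := (nat_lit 0x12313110201002031020001023110330)
noncomputable def m3_2 : Nat := (nat_lit 0x4080906050d0e010f060f0202000208)
noncomputable def m3_3 : Nat := (nat_lit 0xde004500d0005100d8005d00fb0020)
noncomputable def m3_4 : Nat := (nat_lit 0xf0f20000fb2d0000f4f30000c200)
noncomputable def m3_5 : Nat := (nat_lit 0x2fd61ece0000000014e20000)
noncomputable def m3_6 : Nat := (nat_lit 0xb0410c200000000)
noncomputable def m3_7 : Nat := (nat_lit 0xb0410c20000000000000000)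
noncomputable def m3_8 : Nat := (nat_lit 0x20d200000a04000014e200000000)
noncomputable def m3_9 : Nat := (nat_lit 0xd400e4005100d80061001600c20000)
noncomputable def m3_10 : Nat := (nat_lit 0x2030e050e06020c050d0100000200)
noncomputable def m3_11 : Nat := (nat_lit 0x10131332023220213203030003210220)
noncomputable def m3_12 : Nat := (nat_lit 0x1041144114110440100550444400440)
noncomputable def n3 : Net := (Net.cons (nat_lit 1) m3_0 (Net.cons (nat_lit 2) m3_1 (Net.cons (nat_lit 4) m3_2 (Net.cons (nat_lit 8) m3_3 (Net.cons (nat_lit 16) m3_4 (Net.cons (nat_lit 32) m3_5 (Net.cons (nat_lit 64) m3_6 (Net.cons (nat_lit 32) m3_7 (Net.cons (nat_lit 16) m3_8 (Net.cons (nat_lit 8) m3_9 (Net.cons (nat_lit 4) m3_10 (Net.cons (nat_lit 2) m3_11 (Net.cons (nat_lit 1) m3_12 Net.nil)))))))))))))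
noncomputable def m4_0 : Nat := (nat_lit 0x15100104504400555155100505140040)
noncomputable def m4_1 : Nat := (nat_lit 0x20311102023331223002000002111000)
noncomputable def m4_2 : Nat := (nat_lit 0xc010d0d07080902090408070f030b00)
noncomputable def m4_3 : Nat := (nat_lit 0x4300f7005500a5006e00e1007f0060)
noncomputable def m4_4 : Nat := (nat_lit 0x49ab0000af6000009f9f00008e00)
noncomputable def m4_5 : Nat := (nat_lit 0x48afb19e00000000019e0000)
noncomputable def m4_6 : Nat := (nat_lit 0x19e00000000)
noncomputable def m4_7 : Nat := (nat_lit 0x19e0000000000000000)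
noncomputable def m4_8 : Nat := (nat_lit 0x48ab000001000000019e00000000)
noncomputable def m4_9 : Nat := (nat_lit 0x1005b0065000c0086000900860000)
noncomputable def m4_10 : Nat := (nat_lit 0x40105050f00010a010c000e060a0200)
noncomputable def m4_11 : Nat := (nat_lit 0x20111002023331223002000002111000)
noncomputable def m4_12 : Nat := (nat_lit 0x15100104504400555155100505140040)
noncomputable def n4 : Net := (Net.cons (nat_lit 1) m4_0 (Net.cons (nat_lit 2) m4_1 (Net.cons (nat_lit 4) m4_2 (Net.cons (nat_lit 8) m4_3 (Net.cons (nat_lit 16) m4_4 (Net.cons (nat_lit 32) m4_5 (Net.cons (nat_lit 64) m4_6 (Net.cons (nat_lit 32) m4_7 (Net.cons (nat_lit 16) m4_8 (Net.cons (nat_lit 8) m4_9 (Net.cons (nat_lit 4) m4_10 (Net.cons (nat_lit 2) m4_11 (Net.cons (nat_lit 1) m4_12 Net.nil)))))))))))))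
noncomputable def nets : List Net := [n0, n1, n2, n3, n4]

noncomputable def r0_0 : Nat := (nat_lit 0x21c731a5a08810140828cd9f351109b8)
noncomputable def r0_1 : Nat := (nat_lit 0x4303eb023289084adabf1e8682009e0)
noncomputable def r0_2 : Nat := (nat_lit 0x22cc1ca4000c9484adabf5ed69a5d600)
noncomputable def r0_3 : Nat := (nat_lit 0x3fff2f55a7e201700200000000000000)
noncomputable def r0 : List Nat := (List.cons r0_0 (List.cons r0_1 (List.cons r0_2 (List.cons r0_3 List.nil))))
noncomputable def r1_0 : Nat := (nat_lit 0x140c469cc1ab941583e040139594468c)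
noncomputable def r1_1 : Nat := (nat_lit 0x96b4ca94349002103c17cac28211220)
noncomputable def r1_2 : Nat := (nat_lit 0x92ac4886109000101c10c9092080000)
noncomputable def r1_3 : Nat := (nat_lit 0x1d959243209020480000000000000000)
noncomputable def r1 : List Nat := (List.cons r1_0 (List.cons r1_1 (List.cons r1_2 (List.cons r1_3 List.nil))))
noncomputable def r2_0 : Nat := (nat_lit 0x840f0422040c6225094120297857200)
noncomputable def r2_1 : Nat := (nat_lit 0x2000106122c052265034020286c22040)
noncomputable def r2_2 : Nat := (nat_lit 0x8409a637041fc2f00e01c1510180000)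
noncomputable def r2_3 : Nat := (nat_lit 0x28406b080a9800000000000000000000)
noncomputable def r2 : List Nat := (List.cons r2_0 (List.cons r2_1 (List.cons r2_2 (List.cons r2_3 List.nil))))
noncomputable def r3_0 : Nat := (nat_lit 0x3440e8811604208010000040420b2206)
noncomputable def r3_1 : Nat := (nat_lit 0x8a1001c0800201004820000022b04)
noncomputable def r3_2 : Nat := (nat_lit 0x220021000c0c00a01004824042091000)
noncomputable def r3_3 : Nat := (nat_lit 0x374ae8a1164020010040000000000000)
noncomputable def r3 : List Nat := (List.cons r3_0 (List.cons r3_1 (List.cons r3_2 (List.cons r3_3 List.nil))))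
noncomputable def r4_0 : Nat := (nat_lit 0x1e29260899911a48330e630808200012)
noncomputable def r4_1 : Nat := (nat_lit 0x2057640bc011b897c5980800820001c)
noncomputable def r4_2 : Nat := (nat_lit 0x3592904241813009605f03e060000040)
noncomputable def r4_3 : Nat := (nat_lit 0x3fbf57cca19640020000000000000000)
noncomputable def r4 : List Nat := (List.cons r4_0 (List.cons r4_1 (List.cons r4_2 (List.cons r4_3 List.nil))))
noncomputable def R : List (List Nat) := (List.cons r0 (List.cons r1 (List.cons r2 (List.cons r3 (List.cons r4 List.nil)))))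
noncomputable def d4 : Nat := (nat_lit 0x400821024800200080181615155200)
noncomputable def d3 : Nat := (nat_lit 0x8951254a0a29454832164a928a004a0)
noncomputable def d2 : Nat := (nat_lit 0x172a0480050401802c0a814040008918)
noncomputable def d1 : Nat := (nat_lit 0x2000210018004a025014020000422042)
noncomputable def d0 : Nat := (nat_lit 0xc00a401120090040000082080004)
noncomputable def D : Net := (Net.cons (nat_lit 0) d0 (Net.cons (nat_lit 1) d1 (Net.cons (nat_lit 2) d2 (Net.cons (nat_lit 3) d3 (Net.cons (nat_lit 4) d4 Net.nil)))))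
noncomputable def Tp0 : Nat := (nat_lit 0x400000000000000030000000000000002000000000000000000000000000)
noncomputable def T : Tr := (Tr.leaf Tp0)
noncomputable def DTp0 : Nat := (nat_lit 0x0)
noncomputable def DT : Tr := (Tr.leaf DTp0)
noncomputable def scr : Scr := Scr.nil
noncomputable def E : Ex := (Ex.cons (nat_lit 0) (nat_lit 0) (nat_lit 0) (Ex.cons (nat_lit 2) (nat_lit 0) (nat_lit 1) (Ex.cons (nat_lit 3) (nat_lit 0) (nat_lit 2) (Ex.cons (nat_lit 4) (nat_lit 0) (nat_lit 3) Ex.nil))))
noncomputable def nd : Nat := (nat_lit 0)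
noncomputable def g : Nat := (nat_lit 4)

/-- letters of the group -/
def sub : List ℕ := [0, 1, 2, 3, 4]
/-- letters of the subgroup -/
def sub' : List ℕ := [0, 2, 3, 4]

/-- relators in the local letters -/
def lrels : List Wd := [(Wd.pow (Wd.mul (Wd.g 0) (Wd.g 1)) 3),
  (Wd.pow (Wd.mul (Wd.g 0) (Wd.g 4)) 2),
  (Wd.pow (Wd.mul (Wd.g 1) (Wd.g 2)) 3),
  (Wd.pow (Wd.mul (Wd.g 1) (Wd.g 3)) 2),
  (Wd.pow (Wd.mul (Wd.g 1) (Wd.g 4)) 2),
  (Wd.mul (Wd.g 0) (Wd.inv (Wd.pow (Wd.mul (Wd.g 2) (Wd.g 3)) 4))),
  (Wd.pow (Wd.mul (Wd.g 2) (Wd.g 4)) 2),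
  (Wd.pow (Wd.mul (Wd.g 3) (Wd.g 4)) 3),
  (Wd.pow (Wd.mul (Wd.mul (Wd.mul (Wd.g 1) (Wd.g 2)) (Wd.g 3)) (Wd.g 4)) 8),
  (Wd.pow (Wd.mul (Wd.g 0) (Wd.g 2)) 2)]

/-- periods -/
def pers : List ℕ := [2, 2, 2, 2, 2, 9, 2, 2, 4, 2]

theorem c_relok : relOK rels lrels sub = true := by decide
theorem c_nets : netsCheck (2 ^ 7) nets = true := by decide +kernel
theorem c_iv : ivK nets 7 ivI 5 = true := by decide +kernel
theorem c_full : fullInvK nets 126 5 = true := by decide +kernel
theorem c_len : lenK R 4 5 = true := by decide +kernel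
theorem c_sym : symK nets ivI R 5 = true := by decide +kernel
theorem c_disj : disjK D 1 = true := by decide +kernel
theorem c_tree : treeK nets 7 D = true := by decide +kernel
theorem c_treelet : netLetK 5 D = true := by decide +kernel
theorem c_dtab : dtabK (2 ^ 7) nd DT = true := by decide +kernel
theorem c_given : ∀ j, j < 4 → eSrc (T.get j) = 0 ∧ eDst (T.get j) = 0 ∧ eLet (T.get j) < sub.length ∧
  nthK 0 sub (eLet (T.get j)) ∈ sub' := by decide +kernel
theorem c_facts : factsK nets ivI R 5 126 (2 ^ 7) nd T DT ((lpats 5 lrels).map (fun W => (W.flat ivI).reverse)) 4 scr = true := by decide +kernel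
theorem c_ex : exK nets R 5 T (4 + scr.len) E = true := by decide +kernel
theorem c_simdlet : simdLetK ivI 5 (lrels.zip pers) = true := by decide +kernel
theorem c_cover : force (2 ^ 7) (fun N => relsMDK nets ivI R N 2 4 ((lrels.zip pers).map (splitW ivI)) (exM E D) (fun ms => coverK nets ivI 126 ms 5)) = true := by decide +kernel
theorem c_rels : relsD nets 7 3 ivI lrels = true := by decide +kernel

/-- the step of the chain -/
theorem step {G : Type*} [Group G] {x : ℕ → G} (hrels : ∀ W ∈ rels, W.eval x = 1) (hinv : ∀ c ∈ sub, x c * x c = 1)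
    (hfin : Finite (LG x [0, 2, 3, 4])) : Finite (LG x [0, 1, 2, 3, 4]) ∧ Nat.card (LG x [0, 1, 2, 3, 4]) ≤ 126 * Nat.card (LG x [0, 2, 3, 4]) :=
  CosetChain.step hrels sub sub' pers c_relok hinv (by decide) (j := 2) (jk := 3) (P := 4) (D := D) (R := R)
    (scr := scr) (E := E) (T := T) (DT := DT) (nd := nd) (g := 4) (k := 7) (n := 126) rfl
    c_nets (by norm_num) (by norm_num) (by norm_num) c_iv c_full c_len c_sym c_disj c_tree c_treelet c_dtab c_given
    (by decide) c_facts c_ex c_rels c_simdlet c_cover hfin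

end Cfsg.Agent.Lib.ThXLD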