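import Cfsg.Agent.Lib.ThTwE
import Cfsg.Agent.Lib.ThTwT
import Cfsg.Agent.Lib.ThXLA
import Cfsg.Agent.Lib.ThXLB
import Cfsg.Agent.Lib.ThXLC
import Cfsg.Agent.Lib.ThXLD
import Cfsg.Agent.Lib.ThPUp

/-!
# The group `G₂(3):2` with generators `a b c d e u`: `(dcd)^u` as a word
-/

set_option autoImplicit false
set_option linter.all false
set_option maxRecDepth 100000

namespace Cfsg.Agent.Lib.ThTw

open Cfsg.Spor Cfsg.Agent.Lib.BenesWord Cfsg.Agent.Lib.CosetGroup Cfsg.Agent.Lib.CoxBridge Cfsg.Agent.Lib.CosetMain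
open Cfsg.Agent.Lib.CosetChain Cfsg.Agent.Lib.Dce Cfsg.Agent.Lib.ThP

/-- the relations (1) + (4) -/
structure RelX {G : Type*} [Group G] (a b c d e u : G) : Prop where
  a2 : a ^ 2 = 1
  b2 : b ^ 2 = 1
  c2 : c ^ 2 = 1
  d2 : d ^ 2 = 1
  e2 : e ^ 2 = 1
  ab : (a * b) ^ 3 = 1
  ae : (a * e) ^ 2 = 1
  bc : (b * c) ^ 3 = 1
  bd : (b * d) ^ 2 = 1
  be : (b * e) ^ 2 = 1
  acd : a * ((c * d) ^ 4)⁻¹ = 1
  ce : (c * e) ^ 2 = 1
  de : (d * e) ^ 3 = 1
  bcde : (b * c * d * e) ^ 8 = 1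
  u2 : (u ^ 2) * (a * c)⁻¹ = 1
  ua : u⁻¹ * a⁻¹ * u * a = 1
  uc : u⁻¹ * c⁻¹ * u * c = 1
  ue : u⁻¹ * e⁻¹ * u * e = 1
  r4 : (d * e * (u⁻¹ * d * u)) ^ 2 = 1
  r5 : (u⁻¹ * (b⁻¹ * (a * c) * b)⁻¹ * u * (b⁻¹ * (a * c) * b)) * e⁻¹ = 1
  r6 : ((d⁻¹ * u * d)⁻¹ * (b⁻¹ * (a * c) * b)⁻¹ * (d⁻¹ * u * d) * (b⁻¹ * (a * c) * b)) *
    (u * e * (b⁻¹ * (a * c) * b) * (d⁻¹ * u * d) * e * c)⁻¹ = 1

/-- the six generators -/
inductive Gen6
  | a
  | b
  | c
  | d
  | e
  | u
  deriving DecidableEq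

/-- letter of a generator -/
def idx (x : Gen6) : ℕ :=
  match x with
  | .a => 0
  | .b => 1
  | .c => 2
  | .d => 3
  | .e => 4
  | .u => 5

/-- generator of a letter -/
def gen (x : ℕ) : Gen6 :=
  match x with
  | 0 => .a
  | 1 => .b
  | 2 => .c
  | 3 => .d
  | 4 => .e
  | _ => .u

/-- the involution `(a c)^b` -/
def zW : Wd := Wd.mul (Wd.mul (Wd.inv (Wd.g 1)) (Wd.mul (Wd.g 0) (Wd.g 2))) (Wd.g 1)
/-- `u ^ d` -/
def udW : Wd := Wd.mul (Wd.mul (Wd.inv (Wd.g 3)) (Wd.g 5)) (Wd.g 3)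

/-- relators as words in the letters `a b c d e u = 0 … 5` -/
def relW : List Wd := [
  Wd.pow (Wd.g 0) 2,
  Wd.pow (Wd.g 1) 2,
  Wd.pow (Wd.g 2) 2,
  Wd.pow (Wd.g 3) 2,
  Wd.pow (Wd.g 4) 2,
  Wd.pow (Wd.mul (Wd.g 0) (Wd.g 1)) 3,
  Wd.pow (Wd.mul (Wd.g 0) (Wd.g 4)) 2,
  Wd.pow (Wd.mul (Wd.g 1) (Wd.g 2)) 3,
  Wd.pow (Wd.mul (Wd.g 1) (Wd.g 3)) 2,
  Wd.pow (Wd.mul (Wd.g 1) (Wd.g 4)) 2,
  Wd.mul (Wd.g 0) (Wd.inv (Wd.pow (Wd.mul (Wd.g 2) (Wd.g 3)) 4)),
  Wd.pow (Wd.mul (Wd.g 2) (Wd.g 4)) 2,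
  Wd.pow (Wd.mul (Wd.g 3) (Wd.g 4)) 3,
  Wd.pow (Wd.mul (Wd.mul (Wd.mul (Wd.g 1) (Wd.g 2)) (Wd.g 3)) (Wd.g 4)) 8,
  Wd.mul (Wd.pow (Wd.g 5) 2) (Wd.inv (Wd.mul (Wd.g 0) (Wd.g 2))),
  Wd.mul (Wd.mul (Wd.mul (Wd.inv (Wd.g 5)) (Wd.inv (Wd.g 0))) (Wd.g 5)) (Wd.g 0),
  Wd.mul (Wd.mul (Wd.mul (Wd.inv (Wd.g 5)) (Wd.inv (Wd.g 2))) (Wd.g 5)) (Wd.g 2),
  Wd.mul (Wd.mul (Wd.mul (Wd.inv (Wd.g 5)) (Wd.inv (Wd.g 4))) (Wd.g 5)) (Wd.g 4),
  Wd.pow (Wd.mul (Wd.mul (Wd.g 3) (Wd.g 4)) (Wd.mul (Wd.mul (Wd.inv (Wd.g 5)) (Wd.g 3)) (Wd.g 5))) 2,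
  Wd.mul (Wd.mul (Wd.mul (Wd.mul (Wd.inv (Wd.g 5)) (Wd.inv zW)) (Wd.g 5)) zW) (Wd.inv (Wd.g 4)),
  Wd.mul (Wd.mul (Wd.mul (Wd.mul (Wd.inv udW) (Wd.inv zW)) udW) zW)
    (Wd.inv (Wd.mul (Wd.mul (Wd.mul (Wd.mul (Wd.mul (Wd.g 5) (Wd.g 4)) zW) udW) (Wd.g 4)) (Wd.g 2)))]

/-- relators in the free group -/
def extra6 : List (FreeGroup Gen6) := relW.map (fun W => W.eval (fun c => FreeGroup.of (gen c)))

/-- the presentation data -/
def C : CoxData Gen6 [] extra6 where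
  gen := gen
  idx := idx
  nn := 0
  ng := 6
  extraW := relW
  hgi := by intro a; cases a <;> rfl
  hlt := by intro a; cases a <;> decide
  hidx := by intro i hi; interval_cases i <;> rfl
  hnode := by intro a ha; simp [coxNodes] at ha
  hnode' := by intro i hi; omega
  hnn := by decide
  hextra := rfl
  hlets := by decide

/-- the presented group -/
abbrev GX : Type := CoxPresented Gen6 [] extra6
/-- its generators -/
def gx (x : Gen6) : GX := PresentedGroup.of x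

theorem relX_of_words {G : Type*} [Group G] {x : ℕ → G} (h : ∀ W ∈ relW, W.eval x = 1) :
    RelX (x 0) (x 1) (x 2) (x 3) (x 4) (x 5) := by
  simp only [relW, zW, udW, List.forall_mem_cons, Wd.eval] at h
  obtain ⟨h1, h2, h3, h4, h5, h6, h7, h8, h9, h10, h11, h12, h13, h14, h15, h16, h17, h18, h19, h20, h21, _⟩ := h
  exact ⟨h1, h2, h3, h4, h5, h6, h7, h8, h9, h10, h11, h12, h13, h14, h15, h16, h17, h18, h19, h20, h21⟩

theorem words_of_relX {G : Type*} [Group G] {x : ℕ → G} (h : RelX (x 0) (x 1) (x 2) (x 3) (x 4) (x 5)) :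
    ∀ W ∈ relW, W.eval x = 1 := by
  simp only [relW, zW, udW, List.forall_mem_cons, Wd.eval]
  exact ⟨h.a2, h.b2, h.c2, h.d2, h.e2, h.ab, h.ae, h.bc, h.bd, h.be, h.acd, h.ce, h.de, h.bcde, h.u2, h.ua, h.uc, h.ue,
    h.r4, h.r5, h.r6, by simp⟩

theorem relGX : RelX (gx .a) (gx .b) (gx .c) (gx .d) (gx .e) (gx .u) := relX_of_words (x := C.x []) (C.rel_x []).2.1

/-- the images of the letters -/
def pk6 {α : Type*} (a b c d e u : α) (n : ℕ) : α :=
  match n with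
  | 0 => a
  | 1 => b
  | 2 => c
  | 3 => d
  | 4 => e
  | _ => u

/-- homomorphisms out of the presented group -/
theorem homGX {G : Type*} [Group G] {a b c d e u : G} (h : RelX a b c d e u) :
    ∃ f : GX →* G, f (gx .a) = a ∧ f (gx .b) = b ∧ f (gx .c) = c ∧ f (gx .d) = d ∧ f (gx .e) = e ∧ f (gx .u) = u := by
  obtain ⟨f, hf⟩ := C.hom (pk6 a b c d e u) (fun i hi => absurd hi (by simp [C]))
    (by intro W hW; simp [coxWds, C] at hW) (words_of_relX (x := pk6 a b c d e u) h)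
  exact ⟨f, hf 0 (by decide), hf 1 (by decide), hf 2 (by decide), hf 3 (by decide), hf 4 (by decide), hf 5 (by decide)⟩

/-- the generators generate -/
theorem closure_GX (K : Subgroup GX) (h : ∀ x, gx x ∈ K) : K = ⊤ := by
  rw [eq_top_iff, ← PresentedGroup.closure_range_of, Subgroup.closure_le]
  rintro _ ⟨x, rfl⟩
  exact h x

section
variable {G : Type*} [Group G] {a b c d e u : G}

open Cfsg.Agent.Lib.H10Enum in
/-- the letters of the enumeration -/
def let6 (a b c d e u : G) (n : ℕ) : G :=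
  match n with
  | 0 => 1
  | 1 => a
  | 2 => b
  | 3 => c
  | 4 => d
  | 5 => e
  | 6 => u
  | _ => 1

open Cfsg.Agent.Lib.H10Enum in
theorem RelX.words (h : RelX a b c d e u) : ∀ w ∈ ThTwE.R, wval (let6 a b c d e u) w = 1 := by
  have ia : a⁻¹ = a := inv_of_sq h.a2
  have ib : b⁻¹ = b := inv_of_sq h.b2
  have ic : c⁻¹ = c := inv_of_sq h.c2
  have id' : d⁻¹ = d := inv_of_sq h.d2
  have ie : e⁻¹ = e := inv_of_sq h.e2
  have ha2 : a * a = 1 := by rw [← pow_two]; exact h.a2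
  have hb2 : b * b = 1 := by rw [← pow_two]; exact h.b2
  have hc2 : c * c = 1 := by rw [← pow_two]; exact h.c2
  have hd2 : d * d = 1 := by rw [← pow_two]; exact h.d2
  have he2 : e * e = 1 := by rw [← pow_two]; exact h.e2
  have ca : ∀ x : G, a * (a * x) = x := fun x => by rw [← mul_assoc, ha2, one_mul]
  have cb : ∀ x : G, b * (b * x) = x := fun x => by rw [← mul_assoc, hb2, one_mul]
  have cc : ∀ x : G, c * (c * x) = x := fun x => by rw [← mul_assoc, hc2, one_mul]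
  have cdd : ∀ x : G, d * (d * x) = x := fun x => by rw [← mul_assoc, hd2, one_mul]
  have ce' : ∀ x : G, e * (e * x) = x := fun x => by rw [← mul_assoc, he2, one_mul]
  have v2 : val (let6 a b c d e u) 2 = a := rfl
  have v3 : val (let6 a b c d e u) 3 = a⁻¹ := rfl
  have v4 : val (let6 a b c d e u) 4 = b := rfl
  have v5 : val (let6 a b c d e u) 5 = b⁻¹ := rfl
  have v6 : val (let6 a b c d e u) 6 = c := rfl
  have v7 : val (let6 a b c d e u) 7 = c⁻¹ := rfl
  have v8 : val (let6 a b c d e u) 8 = d := rfl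
  have v9 : val (let6 a b c d e u) 9 = d⁻¹ := rfl
  have v10 : val (let6 a b c d e u) 10 = e := rfl
  have v11 : val (let6 a b c d e u) 11 = e⁻¹ := rfl
  have v12 : val (let6 a b c d e u) 12 = u := rfl
  have v13 : val (let6 a b c d e u) 13 = u⁻¹ := rfl
  simp only [ThTwE.R, List.forall_mem_cons, wval_cons, wval_nil, v2, v3, v4, v5, v6, v7, v8, v9, v10, v11, v12, v13]
  refine ⟨?_, ?_, ?_, ?_, ?_, ?_, ?_, ?_, ?_, ?_, ?_, ?_, ?_, ?_, ?_, ?_, ?_, ?_, ?_, ?_, ?_, ?_, ?_, ?_, ?_, ?_, ?_, by simp⟩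
  · simpa only [pow_succ, pow_zero, one_mul, mul_one, mul_assoc, mul_inv_rev, inv_inv, ia, ib, ic, id', ie, inv_mul_cancel_left, mul_inv_cancel_left, ha2, hb2, hc2, hd2, he2, ca, cb, cc, cdd, ce', mul_inv_cancel, inv_mul_cancel] using h.ab
  · simpa only [pow_succ, pow_zero, one_mul, mul_one, mul_assoc, mul_inv_rev, inv_inv, ia, ib, ic, id', ie, inv_mul_cancel_left, mul_inv_cancel_left, ha2, hb2, hc2, hd2, he2, ca, cb, cc, cdd, ce', mul_inv_cancel, inv_mul_cancel] using h.ae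
  · simpa only [pow_succ, pow_zero, one_mul, mul_one, mul_assoc, mul_inv_rev, inv_inv, ia, ib, ic, id', ie, inv_mul_cancel_left, mul_inv_cancel_left, ha2, hb2, hc2, hd2, he2, ca, cb, cc, cdd, ce', mul_inv_cancel, inv_mul_cancel] using h.bc
  · simpa only [pow_succ, pow_zero, one_mul, mul_one, mul_assoc, mul_inv_rev, inv_inv, ia, ib, ic, id', ie, inv_mul_cancel_left, mul_inv_cancel_left, ha2, hb2, hc2, hd2, he2, ca, cb, cc, cdd, ce', mul_inv_cancel, inv_mul_cancel] using h.bd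
  · simpa only [pow_succ, pow_zero, one_mul, mul_one, mul_assoc, mul_inv_rev, inv_inv, ia, ib, ic, id', ie, inv_mul_cancel_left, mul_inv_cancel_left, ha2, hb2, hc2, hd2, he2, ca, cb, cc, cdd, ce', mul_inv_cancel, inv_mul_cancel] using h.be
  · simpa only [pow_succ, pow_zero, one_mul, mul_one, mul_assoc, mul_inv_rev, inv_inv, ia, ib, ic, id', ie, inv_mul_cancel_left, mul_inv_cancel_left, ha2, hb2, hc2, hd2, he2, ca, cb, cc, cdd, ce', mul_inv_cancel, inv_mul_cancel] using h.acd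
  · simpa only [pow_succ, pow_zero, one_mul, mul_one, mul_assoc, mul_inv_rev, inv_inv, ia, ib, ic, id', ie, inv_mul_cancel_left, mul_inv_cancel_left, ha2, hb2, hc2, hd2, he2, ca, cb, cc, cdd, ce', mul_inv_cancel, inv_mul_cancel] using h.ce
  · simpa only [pow_succ, pow_zero, one_mul, mul_one, mul_assoc, mul_inv_rev, inv_inv, ia, ib, ic, id', ie, inv_mul_cancel_left, mul_inv_cancel_left, ha2, hb2, hc2, hd2, he2, ca, cb, cc, cdd, ce', mul_inv_cancel, inv_mul_cancel] using h.de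
  · simpa only [pow_succ, pow_zero, one_mul, mul_one, mul_assoc, mul_inv_rev, inv_inv, ia, ib, ic, id', ie, inv_mul_cancel_left, mul_inv_cancel_left, ha2, hb2, hc2, hd2, he2, ca, cb, cc, cdd, ce', mul_inv_cancel, inv_mul_cancel] using h.bcde
  · simpa only [pow_succ, pow_zero, one_mul, mul_one, mul_assoc, mul_inv_rev, inv_inv, ia, ib, ic, id', ie, inv_mul_cancel_left, mul_inv_cancel_left, ha2, hb2, hc2, hd2, he2, ca, cb, cc, cdd, ce', mul_inv_cancel, inv_mul_cancel] using h.u2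
  · simpa only [pow_succ, pow_zero, one_mul, mul_one, mul_assoc, mul_inv_rev, inv_inv, ia, ib, ic, id', ie, inv_mul_cancel_left, mul_inv_cancel_left, ha2, hb2, hc2, hd2, he2, ca, cb, cc, cdd, ce', mul_inv_cancel, inv_mul_cancel] using h.ua
  · simpa only [pow_succ, pow_zero, one_mul, mul_one, mul_assoc, mul_inv_rev, inv_inv, ia, ib, ic, id', ie, inv_mul_cancel_left, mul_inv_cancel_left, ha2, hb2, hc2, hd2, he2, ca, cb, cc, cdd, ce', mul_inv_cancel, inv_mul_cancel] using h.uc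
  · simpa only [pow_succ, pow_zero, one_mul, mul_one, mul_assoc, mul_inv_rev, inv_inv, ia, ib, ic, id', ie, inv_mul_cancel_left, mul_inv_cancel_left, ha2, hb2, hc2, hd2, he2, ca, cb, cc, cdd, ce', mul_inv_cancel, inv_mul_cancel] using h.ue
  · simpa only [pow_succ, pow_zero, one_mul, mul_one, mul_assoc, mul_inv_rev, inv_inv, ia, ib, ic, id', ie, inv_mul_cancel_left, mul_inv_cancel_left, ha2, hb2, hc2, hd2, he2, ca, cb, cc, cdd, ce', mul_inv_cancel, inv_mul_cancel] using h.r4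
  · simpa only [pow_succ, pow_zero, one_mul, mul_one, mul_assoc, mul_inv_rev, inv_inv, ia, ib, ic, id', ie, inv_mul_cancel_left, mul_inv_cancel_left, ha2, hb2, hc2, hd2, he2, ca, cb, cc, cdd, ce', mul_inv_cancel, inv_mul_cancel] using h.r5
  · simpa only [pow_succ, pow_zero, one_mul, mul_one, mul_assoc, mul_inv_rev, inv_inv, ia, ib, ic, id', ie, inv_mul_cancel_left, mul_inv_cancel_left, ha2, hb2, hc2, hd2, he2, ca, cb, cc, cdd, ce', mul_inv_cancel, inv_mul_cancel] using h.r6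
  · simpa only [mul_one] using ha2
  · simpa only [mul_one] using hb2
  · simpa only [mul_one] using hc2
  · simpa only [mul_one] using hd2
  · simpa only [mul_one] using he2
  · simp only [mul_one, mul_inv_cancel]
  · simp only [mul_one, mul_inv_cancel]
  · simp only [mul_one, mul_inv_cancel]
  · simp only [mul_one, mul_inv_cancel]
  · simp only [mul_one, mul_inv_cancel]
  · simp only [mul_one, mul_inv_cancel]

/-- the subgroup `⟨a, b, c, d, e⟩` -/
def H5 (a b c d e : G) : Subgroup G := Subgroup.closure {a, b, c, d, e}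

open Cfsg.Agent.Lib.H10Enum in
theorem top_index (h : RelX a b c d e u) (hgen : Subgroup.closure {a, b, c, d, e, u} = (⊤ : Subgroup G)) :
    Finite (G ⧸ H5 a b c d e) ∧ Nat.card (G ⧸ H5 a b c d e) ≤ 702 := by
  set p : G ⧸ H5 a b c d e := ((1 : G) : G ⧸ H5 a b c d e) with hp
  have hiv : ∀ i, (62 : ℕ).testBit i = true → (let6 a b c d e u i)⁻¹ = let6 a b c d e u i := by
    intro i hi
    have hlt : i < 6 := by
      by_contra hc
      rw [Nat.testBit_lt_two_pow] at hi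
      · simp at hi
      · exact lt_of_lt_of_le (by norm_num : (62 : ℕ) < 2 ^ 6) (Nat.pow_le_pow_right (by norm_num) (by omega))
    interval_cases i
    · exact inv_one
    · exact inv_of_sq h.a2
    · exact inv_of_sq h.b2
    · exact inv_of_sq h.c2
    · exact inv_of_sq h.d2
    · exact inv_of_sq h.e2
  have m : ∀ {x : G}, x ∈ ({a, b, c, d, e} : Set G) → x • p = p := by
    intro x hx
    rw [hp]
    show ((x * 1 : G) : G ⧸ H5 a b c d e) = _
    rw [mul_one, QuotientGroup.eq, mul_one]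
    exact Subgroup.inv_mem _ (Subgroup.subset_closure hx)
  have hsub : ∀ i ∈ [1, 2, 3, 4, 5], let6 a b c d e u i • p = p := by
    intro i hi
    simp only [List.mem_cons, List.not_mem_nil, or_false] at hi
    rcases hi with rfl | rfl | rfl | rfl | rfl
    · exact m (x := a) (by simp)
    · exact m (x := b) (by simp)
    · exact m (x := c) (by simp)
    · exact m (x := d) (by simp)
    · exact m (x := e) (by simp)
  have hg := sound (p := p) (x := let6 a b c d e u) rfl hiv h.words hsub ThTwE.ok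
  refine card_le_of_closed (f := pts ThTwE.T (let6 a b c d e u) p) (n := 702) (by norm_num) {a, b, c, d, e, u} hgen ?_
  rintro x (rfl | rfl | rfl | rfl | rfl | rfl)
  · exact chkC_sound hiv hg 702 ThTwE.cl1
  · exact chkC_sound hiv hg 702 ThTwE.cl2
  · exact chkC_sound hiv hg 702 ThTwE.cl3
  · exact chkC_sound hiv hg 702 ThTwE.cl4
  · exact chkC_sound hiv hg 702 ThTwE.cl5
  · exact chkC_sound hiv hg 702 ThTwE.cl6

theorem RelX.ac2 (h : RelX a b c d e u) : (a * c) ^ 2 = 1 := by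
  have ic : c⁻¹ = c := inv_of_sq h.c2
  have id : d⁻¹ = d := inv_of_sq h.d2
  have ia : a⁻¹ = a := inv_of_sq h.a2
  have ha : a = (c * d) ^ 4 := mul_inv_eq_one.mp h.acd
  have h2 : c * (c * d) * c⁻¹ = (c * d)⁻¹ := by
    rw [mul_inv_rev, id, ic]
    have : c * c = 1 := by rw [← pow_two]; exact h.c2
    rw [← mul_assoc, this, one_mul]
  have h1 : c * a * c⁻¹ = a := by
    have h3 : c * (c * d) ^ 4 * c⁻¹ = (c * (c * d) * c⁻¹) ^ 4 := (conj_pow).symm
    nth_rewrite 1 [ha]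
    rw [h3, h2, inv_pow, ← ha, ia]
  rw [ic] at h1
  rw [pow_two, show a * c * (a * c) = a * (c * a * c) by group, h1, ← pow_two]
  exact h.a2

/-- order of `⟨a, …, e⟩` -/
theorem card_H5 (h : RelX a b c d e u) : Finite (H5 a b c d e) ∧ Nat.card (H5 a b c d e) ≤ 12096 := by
  have hw : ∀ W ∈ ThXRel.rels, W.eval (xL a b c d e 1) = 1 := by
    simp only [ThXRel.rels, List.forall_mem_cons, Wd.eval]
    exact ⟨h.ab, h.ae, h.bc, h.bd, h.be, h.acd, h.ce, h.de, h.bcde, h.ac2, by simp⟩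
  have hi : ∀ c' ∈ [0, 1, 2, 3, 4], xL a b c d e 1 c' * xL a b c d e 1 c' = 1 := by
    intro c' hc
    simp only [List.mem_cons, List.not_mem_nil, or_false] at hc
    rcases hc with rfl | rfl | rfl | rfl | rfl
    · rw [← pow_two]; exact h.a2
    · rw [← pow_two]; exact h.b2
    · rw [← pow_two]; exact h.c2
    · rw [← pow_two]; exact h.d2
    · rw [← pow_two]; exact h.e2
  have h0 : Finite (LG (xL a b c d e 1) []) ∧ Nat.card (LG (xL a b c d e 1) []) = 1 := by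
    rw [LG_nil]; exact ⟨inferInstance, Nat.card_unique⟩
  have h1 := ThXLA.step hw (fun c' hc => hi c' (by revert hc; simp [ThXLA.sub]; try omega)) h0.1
  have h2 := ThXLB.step hw (fun c' hc => hi c' (by revert hc; simp [ThXLB.sub]; try omega)) h1.1
  have h3 := ThXLC.step hw (fun c' hc => hi c' (by revert hc; simp [ThXLC.sub]; try omega)) h2.1
  have h4 := ThXLD.step hw (fun c' hc => hi c' (by revert hc; simp [ThXLD.sub]; try omega)) h3.1
  have hle : H5 a b c d e ≤ LG (xL a b c d e 1) [0, 1, 2, 3, 4] := by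
    unfold H5
    rw [Subgroup.closure_le]
    rintro x (rfl | rfl | rfl | rfl | rfl)
    · exact mem_LG (c := 0) (by simp)
    · exact mem_LG (c := 1) (by simp)
    · exact mem_LG (c := 2) (by simp)
    · exact mem_LG (c := 3) (by simp)
    · exact mem_LG (c := 4) (by simp)
  refine le_bound hle ⟨h4.1, ?_⟩
  have e1 := h1.2
  have e2 := h2.2
  have e3 := h3.2
  have e4 := h4.2
  rw [h0.2] at e1
  omega

end

theorem card_GX_le : Finite GX ∧ Nat.card GX ≤ 8491392 := by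
  refine bound_of_quot (top_index relGX ?_) (card_H5 relGX) (by norm_num)
  apply closure_GX
  intro x
  apply Subgroup.subset_closure
  cases x <;> simp

open ThTwT

/-- the permutation group on 702 points -/
abbrev PX := PG tab iv 702 7

/-- translation of letters -/
def mu (c : ℕ) : List ℕ := bif Nat.blt c 7 then [c] else []

theorem mu_lets : ∀ c, Dce.lets 7 (mu c) = true := by
  intro c
  unfold mu
  by_cases h : c < 7
  · interval_cases c <;> rfl
  · have h1 : Nat.blt c 7 = false := by rw [← Bool.not_eq_true]; simpa [Nat.blt_eq] using h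
    rw [h1]; rfl

theorem c_rel : relT tab iv 702 mu relW = true := by decide +kernel

theorem relPX : RelX (xb tab iv 702 7 0) (xb tab iv 702 7 1) (xb tab iv 702 7 2) (xb tab iv 702 7 3) (xb tab iv 702 7 4)
    (xb tab iv 702 7 5) := by
  have h := relX_of_words (relT_sound (μ := mu) (l := relW) c_all mu_lets c_rel)
  have e0 : ev (xb tab iv 702 7) (mu 0) = xb tab iv 702 7 0 := by show ev (xb tab iv 702 7) [0] = _; simp [ev]
  have e1 : ev (xb tab iv 702 7) (mu 1) = xb tab iv 702 7 1 := by show ev (xb tab iv 702 7) [1] = _; simp [ev]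
  have e2 : ev (xb tab iv 702 7) (mu 2) = xb tab iv 702 7 2 := by show ev (xb tab iv 702 7) [2] = _; simp [ev]
  have e3 : ev (xb tab iv 702 7) (mu 3) = xb tab iv 702 7 3 := by show ev (xb tab iv 702 7) [3] = _; simp [ev]
  have e4 : ev (xb tab iv 702 7) (mu 4) = xb tab iv 702 7 4 := by show ev (xb tab iv 702 7) [4] = _; simp [ev]
  have e5 : ev (xb tab iv 702 7) (mu 5) = xb tab iv 702 7 5 := by show ev (xb tab iv 702 7) [5] = _; simp [ev]
  rw [e0, e1, e2, e3, e4, e5] at h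
  exact h

/-- an injective homomorphism to the permutation group -/
theorem exists_inj : ∃ f : GX →* PX, Function.Injective f ∧ f (gx .a) = xb tab iv 702 7 0 ∧ f (gx .b) = xb tab iv 702 7 1 ∧
    f (gx .c) = xb tab iv 702 7 2 ∧ f (gx .d) = xb tab iv 702 7 3 ∧ f (gx .e) = xb tab iv 702 7 4 ∧
    f (gx .u) = xb tab iv 702 7 5 := by
  obtain ⟨f, f0, f1, f2, f3, f4, f5⟩ := homGX relPX
  have hon : Function.Surjective f := by
    apply onto_of c_all
    intro c hc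
    interval_cases c
    · exact ⟨_, f0⟩
    · exact ⟨_, f1⟩
    · exact ⟨_, f2⟩
    · exact ⟨_, f3⟩
    · exact ⟨_, f4⟩
    · exact ⟨_, f5⟩
    · refine ⟨(gx .u)⁻¹, ?_⟩
      rw [map_inv, f5, ← xb_iv c_all (by norm_num)]; rfl
  obtain ⟨hfin, hle⟩ := card_GX_le
  have hfP : Finite PX := Finite.of_surjective _ hon
  have hact : ∀ c < 7, ∀ i < 702, PX.subtype (xb tab iv 702 7 c) i = look (tab c) i :=
    fun c hc i hi => xb_act c_all hc hi
  have hlt : ∀ c < 7, ∀ i < 702, look (tab c) i < 702 := fun c hc i hi => base_lt c_all hc hi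
  obtain ⟨hb, hc1, hc2⟩ := bij_of_card f hon hle (chain_ge hact hlt _ c_st)
  exact ⟨f, hb.1, f0, f1, f2, f3, f4, f5⟩

theorem c_tw : Dce.lets 7 [6, 3, 2, 3, 5, 3, 2, 3, 1, 2, 3, 0, 1, 2, 3, 4, 3, 2, 3, 1, 2, 0, 1] = true ∧
    trivT tab [6, 3, 2, 3, 5, 3, 2, 3, 1, 2, 3, 0, 1, 2, 3, 4, 3, 2, 3, 1, 2, 0, 1] 702 = true := by decide +kernel

/-- the hard twist relation -/
theorem RelX.tw {G : Type*} [Group G] {a b c d e u : G} (h : RelX a b c d e u) :
    u⁻¹ * (d * c * d) * u = b * a * c * b * d * c * d * e * d * c * b * a * d * c * b * d * c * d := by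
  obtain ⟨f, hf, f0, f1, f2, f3, f4, f5⟩ := exists_inj
  have h1 := triv_sound c_all c_tw.1 c_tw.2
  have e6 : xb tab iv 702 7 6 = (xb tab iv 702 7 5)⁻¹ := by
    rw [← xb_iv c_all (by norm_num)]; rfl
  simp only [ev_cons, ev_nil, mul_one, e6] at h1
  rw [← f0, ← f1, ← f2, ← f3, ← f4, ← f5] at h1
  simp only [← map_mul, ← map_inv] at h1
  have h2 := hf (h1.trans (map_one f).symm)
  obtain ⟨g, g0, g1, g2, g3, g4, g5⟩ := homGX h
  have h3 := congrArg g h2
  simp only [map_mul, map_inv, map_one, g0, g1, g2, g3, g4, g5] at h3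
  have ia : a⁻¹ = a := inv_of_sq h.a2
  have ib : b⁻¹ = b := inv_of_sq h.b2
  have ic : c⁻¹ = c := inv_of_sq h.c2
  have id' : d⁻¹ = d := inv_of_sq h.d2
  have ie : e⁻¹ = e := inv_of_sq h.e2
  rw [← mul_inv_eq_one]
  simp only [mul_inv_rev, ia, ib, ic, id', ie, mul_assoc]
  exact h3

end Cfsg.Agent.Lib.ThTw
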