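import Cfsg.Agent.Lib.DceBig
import Cfsg.Agent.Lib.DceAux

/-!
# Double coset enumeration: coverage with evaluated lookups in large tables
-/

set_option autoImplicit false
set_option linter.all false

namespace Cfsg.Agent.Lib.ThX

open Cfsg.Agent.Lib.Dce Cfsg.Agent.Lib.BenesWord

/-- continue with an evaluated number -/
noncomputable def frc {α : Type} (x : ℕ) (f : ℕ → α) : α := Nat.rec (motive := fun _ => α) (f 0) (fun n _ => f n) (Nat.add x 1)

theorem frc_eq {α : Type} (x : ℕ) (f : ℕ → α) : frc x f = f x := rfl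

/-- case distinction -/
noncomputable def bi {α : Type} (b : Bool) (x y : α) : α := Bool.rec (motive := fun _ => α) y x b

theorem bi_true {α : Type} (x y : α) : bi true x y = x := rfl
theorem bi_false {α : Type} (x y : α) : bi false x y = y := rfl

theorem bi_and {b c : Bool} : bi b c false = (b && c) := by cases b <;> rfl

/-- number from blocks -/
def toN : List ℕ → ℕ
  | [] => 0
  | c :: l => 2 ^ 2048 * toN l + c % 2 ^ 2048

/-- tables from blocks -/
def tabN (tl : ℕ → List ℕ) (c : ℕ) : ℕ := toN (tl c)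

/-- table lookup in two steps -/
noncomputable def look2 (T : List ℕ) (i : ℕ) : ℕ :=
  frc (Nat.div i 128) (fun j => Nat.mod (Nat.shiftRight (nth T j) (Nat.mul 16 (Nat.mod i 128))) 65536)

set_option exponentiation.threshold 3000 in
theorem toN_testBit (l : List ℕ) (i j : ℕ) (hj : j < 16) :
    (toN l).testBit (16 * i + j) = (nth l (i / 128)).testBit (16 * (i % 128) + j) := by
  induction l generalizing i with
  | nil => simp [toN, nth]
  | cons c l ih =>
    rw [toN, Nat.testBit_two_pow_mul_add _ (Nat.mod_lt _ (by positivity))]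
    by_cases hi : i < 128
    · have h1 : 16 * i + j < 2048 := by omega
      have h2 : i / 128 = 0 := by omega
      have h3 : i % 128 = i := by omega
      rw [if_pos h1, h2, h3, Nat.testBit_mod_two_pow]
      show (decide (16 * i + j < 2048) && c.testBit (16 * i + j)) = c.testBit (16 * i + j)
      simp [h1]
    · have h1 : ¬ 16 * i + j < 2048 := by omega
      obtain ⟨i', rfl⟩ := Nat.exists_eq_add_of_le (not_lt.mp hi)
      have h2 : (128 + i') / 128 = i' / 128 + 1 := by omega
      have h3 : (128 + i') % 128 = i' % 128 := by omega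
      rw [if_neg h1, h2, h3, show 16 * (128 + i') + j - 2048 = 16 * i' + j by omega, ih]
      rfl

theorem look2_eq (T : List ℕ) (i : ℕ) : look2 T i = look (toN T) i := by
  show (nth T (i / 128) >>> (16 * (i % 128))) % 65536 = (toN T >>> (16 * i)) % 65536
  apply Nat.eq_of_testBit_eq
  intro j
  rw [show (65536 : ℕ) = 2 ^ 16 by norm_num, Nat.testBit_mod_two_pow, Nat.testBit_mod_two_pow, Nat.testBit_shiftRight,
    Nat.testBit_shiftRight]
  by_cases hj : j < 16
  · rw [toN_testBit T i j hj]
  · simp [hj]

/-- action of a word on a point -/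
noncomputable def awc {α : Type} (tl : ℕ → List ℕ) (w : List ℕ) : ℕ → (ℕ → α) → α :=
  List.rec (motive := fun _ => ℕ → (ℕ → α) → α) (fun i k => k i) (fun c _ ih i k => ih i (fun j => frc (look2 (tl c) j) k)) w

theorem awc_eq {α : Type} (tl : ℕ → List ℕ) (w : List ℕ) (i : ℕ) (k : ℕ → α) : awc tl w i k = k (actw (tabN tl) w i) := by
  induction w generalizing k with
  | nil => rfl
  | cons c w ih =>
    show awc tl w i (fun j => frc (look2 (tl c) j) k) = _
    rw [ih, frc_eq, look2_eq]; rfl

/-- test of a bit -/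
def tb (M q : ℕ) : Bool := Nat.beq (Nat.mod (Nat.shiftRight M q) 2) 1

theorem tb_eq (M q : ℕ) : tb M q = M.testBit q := by
  rw [Nat.testBit_eq_decide_div_mod_eq, ← Nat.shiftRight_eq_div_pow]
  show Nat.beq ((M >>> q) % 2) 1 = _
  rw [Bool.eq_iff_iff, Nat.beq_eq, decide_eq_true_iff]

/-- add a bit -/
def sb (M q : ℕ) : ℕ := Nat.lor M (Nat.pow 2 q)

theorem testBit_sb (M q j : ℕ) : (sb M q).testBit j = true ↔ M.testBit j = true ∨ q = j := testBit_setb M q j

/-- all numbers below `2 ^ k` from a start -/
noncomputable def allP (p : ℕ → Bool) (k : ℕ) : ℕ → Bool :=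
  Nat.rec (motive := fun _ => ℕ → Bool) (fun i => p i) (fun k ih i => bi (ih i) (frc (Nat.add i (Nat.pow 2 k)) ih) false) k

theorem allP_spec {p : ℕ → Bool} {k i : ℕ} (h : allP p k i = true) : ∀ j, i ≤ j → j < i + 2 ^ k → p j = true := by
  induction k generalizing i with
  | zero =>
    intro j h1 h2
    have : j = i := by simp at h2; omega
    subst this; exact h
  | succ k ih =>
    have h' : bi (allP p k i) (frc (Nat.add i (Nat.pow 2 k)) (allP p k)) false = true := h
    rw [bi_and, Bool.and_eq_true, frc_eq] at h'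
    intro j h1 h2
    by_cases h3 : j < i + 2 ^ k
    · exact ih h'.1 j h1 h3
    · refine ih h'.2 j (not_lt.mp h3) ?_
      show j < i + 2 ^ k + 2 ^ k
      rw [pow_succ] at h2; omega

/-- inverse check at a point -/
noncomputable def chk1 (A B : List ℕ) (m n : ℕ) : Bool :=
  bi (Nat.ble m n) true (frc (look2 A n) (fun j => bi (Nat.blt j m) (Nat.beq (look2 B j) n) false))

theorem chk1_spec {A B : List ℕ} {m n : ℕ} (hn : n < m) (h : chk1 A B m n = true) :
    look (toN A) n < m ∧ look (toN B) (look (toN A) n) = n := by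
  unfold chk1 at h
  have : Nat.ble m n = false := by
    rw [← Bool.not_eq_true, Nat.ble_eq]; omega
  rw [this, bi_false, frc_eq, bi_and, look2_eq, look2_eq, Bool.and_eq_true, Nat.blt_eq, Nat.beq_eq] at h
  exact h

theorem chkI_of {A B m n : ℕ} (h : ∀ i < n, look A i < m ∧ look B (look A i) = i) : chkI A B m n = true := by
  induction n with
  | zero => rfl
  | succ n ih =>
    simp only [chkI, Bool.and_eq_true, Nat.blt_eq, Nat.beq_eq]
    exact ⟨h n (by omega), ih (fun i hi => h i (by omega))⟩

/-- check of the letters -/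
noncomputable def allIF (tl : ℕ → List ℕ) (iv : ℕ → ℕ) (m n0 k : ℕ) (n : ℕ) : Bool :=
  Nat.rec (motive := fun _ => Bool) true (fun c ih => bi (allP (chk1 (tl c) (tl (iv c)) m) k 0)
    (bi (Nat.blt (iv c) n0) (bi (Nat.beq (iv (iv c)) c) ih false) false) false) n

theorem allIF_spec {tl : ℕ → List ℕ} {iv : ℕ → ℕ} {m n0 k n : ℕ} (hk : m ≤ 2 ^ k) (h : allIF tl iv m n0 k n = true) :
    allI (tabN tl) iv m n0 n = true := by
  induction n with
  | zero => rfl
  | succ c ih =>
    have h' : bi (allP (chk1 (tl c) (tl (iv c)) m) k 0)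
      (bi (Nat.blt (iv c) n0) (bi (Nat.beq (iv (iv c)) c) (allIF tl iv m n0 k c) false) false) false = true := h
    rw [bi_and, bi_and, bi_and, Bool.and_eq_true, Bool.and_eq_true, Bool.and_eq_true] at h'
    obtain ⟨h1, h2, h3, h4⟩ := h'
    simp only [allI, Bool.and_eq_true]
    refine ⟨chkI_of fun i hi => ?_, h2, h3, ih h4⟩
    exact chk1_spec hi (allP_spec h1 i (Nat.zero_le _) (by omega))

/-- a word acts trivially -/
noncomputable def triv1 (tl : ℕ → List ℕ) (m : ℕ) (w : List ℕ) (n : ℕ) : Bool :=
  bi (Nat.ble m n) true (awc tl w n (fun j => Nat.beq j n))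

theorem trivT_of {tab : ℕ → ℕ} {w : List ℕ} {n : ℕ} (h : ∀ i < n, actw tab w i = i) : trivT tab w n = true := by
  induction n with
  | zero => rfl
  | succ n ih =>
    simp only [trivT, Bool.and_eq_true, Nat.beq_eq]
    exact ⟨h n (by omega), ih (fun i hi => h i (by omega))⟩

theorem triv1_spec {tl : ℕ → List ℕ} {m k : ℕ} {w : List ℕ} (hk : m ≤ 2 ^ k) (h : allP (triv1 tl m w) k 0 = true) :
    trivT (tabN tl) w m = true := by
  apply trivT_of
  intro i hi
  have h1 := allP_spec h i (Nat.zero_le _) (by omega)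
  unfold triv1 at h1
  have : Nat.ble m i = false := by
    rw [← Bool.not_eq_true, Nat.ble_eq]; omega
  rw [this, bi_false, awc_eq, Nat.beq_eq] at h1
  exact h1

/-- list of words acting trivially -/
noncomputable def trivL (tl : ℕ → List ℕ) (m k : ℕ) (l : List (List ℕ)) : Bool :=
  List.rec (motive := fun _ => Bool) true (fun w _ ih => bi (allP (triv1 tl m w) k 0) ih false) l

theorem trivL_spec {tl : ℕ → List ℕ} {m k : ℕ} (hk : m ≤ 2 ^ k) {l : List (List ℕ)} (h : trivL tl m k l = true) :
    ∀ w ∈ l, trivT (tabN tl) w m = true := by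
  induction l with
  | nil => intro w hw; simp at hw
  | cons a l ih =>
    have h' : bi (allP (triv1 tl m a) k 0) (trivL tl m k l) false = true := h
    rw [bi_and, Bool.and_eq_true] at h'
    intro w hw
    rcases List.mem_cons.mp hw with rfl | hw
    · exact triv1_spec hk h'.1
    · exact ih h'.2 w hw

theorem relT_of {tl : ℕ → List ℕ} {iv : ℕ → ℕ} {m k : ℕ} (hk : m ≤ 2 ^ k) {μ : ℕ → List ℕ} {l : List Wd} {ws : List (List ℕ)}
    (he : l.map (fw μ iv) = ws) (h : ∀ w ∈ ws, trivT (tabN tl) w m = true) : relT (tabN tl) iv m μ l = true := by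
  unfold relT
  rw [List.all_eq_true]
  intro W hW
  apply h
  rw [← he]
  exact List.mem_map_of_mem hW

/-- growing a set of points with a word -/
noncomputable def gW (tl : ℕ → List ℕ) (w : List ℕ) (qs : List ℕ) : ℕ → ℕ :=
  List.rec (motive := fun _ => ℕ → ℕ) (fun M => M) (fun q _ ih M => bi (tb M q) (awc tl w q (fun j => ih (sb M j))) 0) qs

theorem gW_sound {tl : ℕ → List ℕ} {w : List ℕ} {Q : ℕ → Prop} (hQ : ∀ q, Q q → Q (actw (tabN tl) w q)) (qs : List ℕ) {M : ℕ}
    (hM : ∀ q, M.testBit q = true → Q q) : ∀ q, (gW tl w qs M).testBit q = true → Q q := by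
  induction qs generalizing M with
  | nil => exact hM
  | cons a l ih =>
    have e : gW tl w (a :: l) M = bi (tb M a) (awc tl w a (fun j => gW tl w l (sb M j))) 0 := rfl
    rw [e, awc_eq]
    cases h : tb M a with
    | false => intro q hq; rw [bi_false] at hq; simp at hq
    | true =>
      rw [bi_true]
      apply ih
      intro q hq
      rw [testBit_sb] at hq
      rcases hq with hq | rfl
      · exact hM q hq
      · rw [tb_eq] at h
        exact hQ a (hM a h)

/-- words in the base letters -/
noncomputable def expw (n0 : ℕ) (wd : List (List ℕ)) (w : List ℕ) : List ℕ :=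
  List.rec (motive := fun _ => List ℕ) [] (fun c _ ih => bi (Nat.blt c n0) (c :: ih) (atD [] wd (Nat.sub c n0) ++ ih)) w

theorem ev_expw {P : Type*} [Group P] {xb : ℕ → P} {n0 : ℕ} {wd : List (List ℕ)} (w : List ℕ) :
    ev xb (expw n0 wd w) = ev (ext xb n0 wd) w := by
  induction w with
  | nil => rfl
  | cons c w ih =>
    have e : expw n0 wd (c :: w) = bi (Nat.blt c n0) (c :: expw n0 wd w) (atD [] wd (Nat.sub c n0) ++ expw n0 wd w) := rfl
    rw [e, ev_cons, ← ih]
    cases h : Nat.blt c n0 with
    | false =>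
      have h1 : ¬ c < n0 := by
        intro h2
        have : Nat.blt c n0 = true := by rwa [Nat.blt_eq]
        rw [h] at this; simp at this
      rw [bi_false, ev_append]
      unfold ext
      rw [if_neg h1]; rfl
    | true =>
      rw [Nat.blt_eq] at h
      rw [bi_true, ev_cons]
      unfold ext
      rw [if_pos h]

theorem lets_expw {n0 : ℕ} {wd : List (List ℕ)} (hwd : ∀ w ∈ wd, lets n0 w = true) (w : List ℕ) : lets n0 (expw n0 wd w) = true := by
  induction w with
  | nil => rfl
  | cons c w ih =>
    have e : expw n0 wd (c :: w) = bi (Nat.blt c n0) (c :: expw n0 wd w) (atD [] wd (Nat.sub c n0) ++ expw n0 wd w) := rfl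
    rw [e]
    cases h : Nat.blt c n0 with
    | false =>
      rw [bi_false, lets_append, ih, Bool.and_true]
      by_cases h2 : Nat.sub c n0 < wd.length
      · exact hwd _ (atD_mem h2)
      · have : atD ([] : List ℕ) wd (Nat.sub c n0) = [] := by
          have key : ∀ (l : List (List ℕ)) (n : ℕ), l.length ≤ n → atD ([] : List ℕ) l n = [] := by
            intro l
            induction l with
            | nil => intro n _; rfl
            | cons a l ih =>
              intro n hn
              cases n with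
              | zero => simp at hn
              | succ n => exact ih n (by simpa using hn)
          exact key _ _ (not_lt.mp h2)
        rw [this]; rfl
    | true =>
      rw [bi_true]
      show (Nat.blt c n0 && lets n0 (expw n0 wd w)) = true
      rw [h, ih]; rfl

/-- growth data: word in stabilizing letters, word in base letters, points -/
structure Gr where
  g : List ℕ
  w : List ℕ
  p : List ℕ

/-- growing a set of points -/
noncomputable def gG (tl : ℕ → List ℕ) (n0 : ℕ) (wd : List (List ℕ)) (S : List (ℕ × ℕ)) (i : ℕ) (l : List Gr) : ℕ → ℕ :=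
  List.rec (motive := fun _ => ℕ → ℕ) (fun M => M) (fun a _ ih M =>
    bi (allS S i a.g) (bi (eqL (expw n0 wd a.g) a.w) (frc (gW tl a.w a.p M) ih) 0) 0) l

/-- roots -/
noncomputable def rt (tl : ℕ → List ℕ) (n0 : ℕ) (wd : List (List ℕ)) (m : ℕ) (get : ℕ → Option Edge) (n i pt : ℕ) (l : List (ℕ × ℕ)) :
    ℕ → ℕ :=
  List.rec (motive := fun _ => ℕ → ℕ) (fun M => M) (fun p _ ih M =>
    Option.rec (motive := fun _ => ℕ) 0 (fun E => bi (Nat.beq E.i i) (bi (Nat.blt p.2 m)
      (awc tl (expw n0 wd E.h) p.2 (fun r => bi (Nat.beq r pt) (frc (sb M p.2) ih) 0)) 0) 0) (DceBig.gt get n p.1)) l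

section sound
variable {P : Type*} [Group P] {xb : ℕ → P} {φ : P →* Equiv.Perm ℕ} {tl : ℕ → List ℕ} {n0 m : ℕ} {wd : List (List ℕ)}

/-- a point of `0 .. m-1` is reached from an edge -/
def Good2 (xs : ℕ → P) (φ : P →* Equiv.Perm ℕ) (get : ℕ → Option Edge) (n : ℕ) (S : List (ℕ × ℕ)) (pt i q : ℕ) : Prop :=
  ∃ f < n, ∃ E, get f = some E ∧ E.i = i ∧ ∃ q0, φ (ev xs E.h) q0 = pt ∧ ∃ g ∈ Sg xs S i, φ g q0 = q

variable (hact : ∀ c < n0, ∀ i < m, φ (xb c) i = look (tabN tl c) i) (hlt : ∀ c < n0, ∀ i < m, look (tabN tl c) i < m)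
  (hwd : ∀ w ∈ wd, lets n0 w = true)
include hact hlt hwd

theorem act_exp (w : List ℕ) {q : ℕ} (hq : q < m) :
    φ (ev (ext xb n0 wd) w) q = actw (tabN tl) (expw n0 wd w) q ∧ actw (tabN tl) (expw n0 wd w) q < m := by
  rw [← ev_expw]
  exact actw_eq hact hlt _ (lets_expw hwd w) q hq

theorem rt_sound {get : ℕ → Option Edge} {n i pt : ℕ} {S : List (ℕ × ℕ)} (l : List (ℕ × ℕ)) {M : ℕ}
    (hM : ∀ q, M.testBit q = true → q < m ∧ Good2 (ext xb n0 wd) φ get n S pt i q) :
    ∀ q, (rt tl n0 wd m get n i pt l M).testBit q = true → q < m ∧ Good2 (ext xb n0 wd) φ get n S pt i q := by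
  induction l generalizing M with
  | nil => exact hM
  | cons a l ih =>
    have e : rt tl n0 wd m get n i pt (a :: l) M = Option.rec (motive := fun _ => ℕ) 0 (fun E => bi (Nat.beq E.i i) (bi (Nat.blt a.2 m)
      (awc tl (expw n0 wd E.h) a.2 (fun r => bi (Nat.beq r pt) (frc (sb M a.2) (rt tl n0 wd m get n i pt l)) 0)) 0) 0)
      (DceBig.gt get n a.1) := rfl
    rw [e]
    cases hg : DceBig.gt get n a.1 with
    | none => intro q hq; simp at hq
    | some E =>
      obtain ⟨h1, h2⟩ := DceBig.gt_some hg
      show ∀ q, (bi (Nat.beq E.i i) (bi (Nat.blt a.2 m)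
        (awc tl (expw n0 wd E.h) a.2 (fun r => bi (Nat.beq r pt) (frc (sb M a.2) (rt tl n0 wd m get n i pt l)) 0)) 0) 0).testBit q
          = true → _
      rw [awc_eq, frc_eq]
      cases h3 : Nat.beq E.i i with
      | false => intro q hq; rw [bi_false] at hq; simp at hq
      | true =>
        rw [bi_true]
        cases h4 : Nat.blt a.2 m with
        | false => intro q hq; rw [bi_false] at hq; simp at hq
        | true =>
          rw [bi_true]
          cases h5 : Nat.beq (actw (tabN tl) (expw n0 wd E.h) a.2) pt with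
          | false => intro q hq; rw [bi_false] at hq; simp at hq
          | true =>
            rw [bi_true]
            rw [Nat.beq_eq] at h3 h5
            rw [Nat.blt_eq] at h4
            apply ih
            intro q hq
            rw [testBit_sb] at hq
            rcases hq with hq | rfl
            · exact hM q hq
            · refine ⟨h4, a.1, h1, E, h2, h3, a.2, ?_, 1, Subgroup.one_mem _, by simp⟩
              rw [(act_exp hact hlt hwd E.h h4).1, h5]

theorem gG_sound {get : ℕ → Option Edge} {n i pt : ℕ} {S : List (ℕ × ℕ)} (l : List Gr) {M : ℕ}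
    (hM : ∀ q, M.testBit q = true → q < m ∧ Good2 (ext xb n0 wd) φ get n S pt i q) :
    ∀ q, (gG tl n0 wd S i l M).testBit q = true → q < m ∧ Good2 (ext xb n0 wd) φ get n S pt i q := by
  induction l generalizing M with
  | nil => exact hM
  | cons a l ih =>
    have e : gG tl n0 wd S i (a :: l) M = bi (allS S i a.g) (bi (eqL (expw n0 wd a.g) a.w)
      (frc (gW tl a.w a.p M) (gG tl n0 wd S i l)) 0) 0 := rfl
    rw [e, frc_eq]
    cases h1 : allS S i a.g with
    | false => intro q hq; rw [bi_false] at hq; simp at hq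
    | true =>
      rw [bi_true]
      cases h2 : eqL (expw n0 wd a.g) a.w with
      | false => intro q hq; rw [bi_false] at hq; simp at hq
      | true =>
        rw [bi_true]
        apply ih
        apply gW_sound _ _ hM
        rintro q ⟨hq, f, hf, E, k2, k3, q0, k4, g', k5, k6⟩
        have h3 := act_exp hact hlt hwd a.g hq
        rw [eqL_sound h2] at h3
        refine ⟨h3.2, f, hf, E, k2, k3, q0, k4, ev (ext xb n0 wd) a.g * g', Subgroup.mul_mem _ (allS_mem h1) k5, ?_⟩
        rw [map_mul, Equiv.Perm.mul_apply, k6, h3.1]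

/-- the check -/
theorem cov_sound {get : ℕ → Option Edge} {n i pt : ℕ} {S : List (ℕ × ℕ)} {r : List (ℕ × ℕ)} {l : List Gr}
    (h : Nat.beq (gG tl n0 wd S i l (rt tl n0 wd m get n i pt r 0)) (Nat.sub (Nat.pow 2 m) 1) = true) :
    ∀ q < m, Good2 (ext xb n0 wd) φ get n S pt i q := by
  rw [Nat.beq_eq] at h
  intro q hq
  have h1 := rt_sound (get := get) (n := n) (i := i) (pt := pt) (S := S) hact hlt hwd r (M := 0) (by intro q hq; simp at hq)
  refine (gG_sound hact hlt hwd l h1 q ?_).2
  rw [h]
  show (2 ^ m - 1).testBit q = true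
  rw [Nat.testBit_two_pow_sub_one]
  exact decide_eq_true hq

end sound

end Cfsg.Agent.Lib.ThX
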