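import Cfsg.Agent.Lib.ThXSp

set_option autoImplicit false
set_option linter.all false
set_option maxRecDepth 100000

namespace Cfsg.Agent.Lib.ThXR1
open Cfsg.Agent.Lib.Dce Cfsg.Agent.Lib.ThX Cfsg.Agent.Lib.ThXT

def ws : List (List ℕ) := [
  [1, 2, 3, 4, 1, 2, 3, 4, 1, 2, 3, 4, 1, 2, 3, 4, 1, 2, 3, 4, 1, 2, 3, 4, 1, 2, 3, 4, 1, 2, 3, 4]]

abbrev w0 : List ℕ := [1, 2, 3, 4, 1, 2, 3, 4, 1, 2, 3, 4, 1, 2, 3, 4, 1, 2, 3, 4, 1, 2, 3, 4, 1, 2, 3, 4, 1, 2, 3, 4]
theorem a0_0 : allP (triv1 tl 17199 w0) 11 0 = true := by decide +kernel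
theorem a0_1 : allP (triv1 tl 17199 w0) 11 2048 = true := by decide +kernel
theorem a0_2 : allP (triv1 tl 17199 w0) 11 4096 = true := by decide +kernel
theorem a0_3 : allP (triv1 tl 17199 w0) 11 6144 = true := by decide +kernel
theorem a0_4 : allP (triv1 tl 17199 w0) 11 8192 = true := by decide +kernel
theorem a0_5 : allP (triv1 tl 17199 w0) 11 10240 = true := by decide +kernel
theorem a0_6 : allP (triv1 tl 17199 w0) 11 12288 = true := by decide +kernel
theorem a0_7 : allP (triv1 tl 17199 w0) 11 14336 = true := by decide +kernel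
theorem b0 : allP (triv1 tl 17199 w0) 10 16384 = true := by decide +kernel
theorem c0 : allP (triv1 tl 17199 w0) 15 0 = true := allP_join 16384 rfl (allP_join 8192 rfl (allP_join 4096 rfl (allP_join 2048 rfl a0_0 a0_1) (allP_join 6144 rfl a0_2 a0_3)) (allP_join 12288 rfl (allP_join 10240 rfl a0_4 a0_5) (allP_join 14336 rfl a0_6 a0_7))) (allP_tail b0)
theorem c_ws : trivL tl 17199 15 ws = true :=
  trivL_cons c0 (rfl)

end Cfsg.Agent.Lib.ThXR1
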