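import Cfsg.Agent.Lib.ThXSp

set_option autoImplicit false
set_option linter.all false
set_option maxRecDepth 100000

namespace Cfsg.Agent.Lib.ThXR3
open Cfsg.Agent.Lib.Dce Cfsg.Agent.Lib.ThX Cfsg.Agent.Lib.ThXT

def ws : List (List ℕ) := [
  [7, 7, 7],
  [8, 0, 7, 0],
  [8, 1, 7, 1],
  [8, 2, 7, 2],
  [8, 3, 7, 3],
  [8, 4, 7, 4],
  [8, 5, 7, 6, 6]]

abbrev w0 : List ℕ := [7, 7, 7]
theorem a0_0 : allP (triv1 tl 17199 w0) 14 0 = true := by decide +kernel
theorem b0 : allP (triv1 tl 17199 w0) 10 16384 = true := by decide +kernel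
theorem c0 : allP (triv1 tl 17199 w0) 15 0 = true := allP_join 16384 rfl a0_0 (allP_tail b0)
abbrev w1 : List ℕ := [8, 0, 7, 0]
theorem a1_0 : allP (triv1 tl 17199 w1) 14 0 = true := by decide +kernel
theorem b1 : allP (triv1 tl 17199 w1) 10 16384 = true := by decide +kernel
theorem c1 : allP (triv1 tl 17199 w1) 15 0 = true := allP_join 16384 rfl a1_0 (allP_tail b1)
abbrev w2 : List ℕ := [8, 1, 7, 1]
theorem a2_0 : allP (triv1 tl 17199 w2) 14 0 = true := by decide +kernel
theorem b2 : allP (triv1 tl 17199 w2) 10 16384 = true := by decide +kernel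
theorem c2 : allP (triv1 tl 17199 w2) 15 0 = true := allP_join 16384 rfl a2_0 (allP_tail b2)
abbrev w3 : List ℕ := [8, 2, 7, 2]
theorem a3_0 : allP (triv1 tl 17199 w3) 14 0 = true := by decide +kernel
theorem b3 : allP (triv1 tl 17199 w3) 10 16384 = true := by decide +kernel
theorem c3 : allP (triv1 tl 17199 w3) 15 0 = true := allP_join 16384 rfl a3_0 (allP_tail b3)
abbrev w4 : List ℕ := [8, 3, 7, 3]
theorem a4_0 : allP (triv1 tl 17199 w4) 14 0 = true := by decide +kernel
theorem b4 : allP (triv1 tl 17199 w4) 10 16384 = true := by decide +kernel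
theorem c4 : allP (triv1 tl 17199 w4) 15 0 = true := allP_join 16384 rfl a4_0 (allP_tail b4)
abbrev w5 : List ℕ := [8, 4, 7, 4]
theorem a5_0 : allP (triv1 tl 17199 w5) 14 0 = true := by decide +kernel
theorem b5 : allP (triv1 tl 17199 w5) 10 16384 = true := by decide +kernel
theorem c5 : allP (triv1 tl 17199 w5) 15 0 = true := allP_join 16384 rfl a5_0 (allP_tail b5)
abbrev w6 : List ℕ := [8, 5, 7, 6, 6]
theorem a6_0 : allP (triv1 tl 17199 w6) 13 0 = true := by decide +kernel
theorem a6_1 : allP (triv1 tl 17199 w6) 13 8192 = true := by decide +kernel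
theorem b6 : allP (triv1 tl 17199 w6) 10 16384 = true := by decide +kernel
theorem c6 : allP (triv1 tl 17199 w6) 15 0 = true := allP_join 16384 rfl (allP_join 8192 rfl a6_0 a6_1) (allP_tail b6)
theorem c_ws : trivL tl 17199 15 ws = true :=
  trivL_cons c0 (trivL_cons c1 (trivL_cons c2 (trivL_cons c3 (trivL_cons c4 (trivL_cons c5 (trivL_cons c6 (rfl)))))))

end Cfsg.Agent.Lib.ThXR3
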