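import Cfsg.Agent.Lib.ThXR0
import Cfsg.Agent.Lib.ThXR1
import Cfsg.Agent.Lib.ThXR2
import Cfsg.Agent.Lib.ThXR3
import Cfsg.Agent.Lib.ThXU0
import Cfsg.Agent.Lib.ThXU1
import Cfsg.Agent.Lib.ThXU2
import Cfsg.Agent.Lib.ThXU3
import Cfsg.Agent.Lib.ThXU4
import Cfsg.Agent.Lib.ThXU5
import Cfsg.Agent.Lib.ThXU6
import Cfsg.Agent.Lib.ThXU7
import Cfsg.Agent.Lib.ThXU8
import Cfsg.Agent.Lib.ThXU9
import Cfsg.Agent.Lib.ThXU10
import Cfsg.Agent.Lib.ThXC
import Cfsg.Agent.Lib.ThDRun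
import Cfsg.Agent.Lib.DceFin

/-!
# Thompson group: the upper bound for the index of `³D₄(2):3`
-/

set_option autoImplicit false
set_option linter.all false
set_option maxRecDepth 100000

namespace Cfsg.Agent.Lib.ThXMain

open Cfsg.Agent.Lib.Dce Cfsg.Agent.Lib.ThX Cfsg.Agent.Lib.ThP Cfsg.Agent.Lib.ThDRun Cfsg.Agent.Lib.BenesWord
open Cfsg.Agent.Lib.CosetGroup Cfsg.Agent.Lib.CoxBridge Cfsg.Agent.Lib.CosetMain

/-- the tables on 17199 points -/
abbrev tq : ℕ → ℕ := tabN ThXT.tl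

theorem q_all : allI tq ThXT.iv 17199 9 9 = true := allIF_spec (k := 15) (by norm_num) ThXT.c_all

theorem q_ws : relW.map (fw mu ThXT.iv) = ThXR0.ws ++ (ThXR1.ws ++ (ThXR2.ws ++ ThXR3.ws)) := by decide +kernel

theorem q_rel : relT tq ThXT.iv 17199 mu relW = true := by
  refine relT_of (k := 15) (by norm_num) q_ws ?_
  intro w hw
  simp only [List.mem_append] at hw
  rcases hw with h | h | h | h
  · exact trivL_spec (by norm_num) ThXR0.c_ws w h
  · exact trivL_spec (by norm_num) ThXR1.c_ws w h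
  · exact trivL_spec (by norm_num) ThXR2.c_ws w h
  · exact trivL_spec (by norm_num) ThXR3.c_ws w h

/-- the permutation group on 17199 points -/
abbrev QQ := PG tq ThXT.iv 17199 9

local notation "xq" => xb tq ThXT.iv 17199 9
local notation "xp" => xb ThPT.tab ThPT.iv 819 9

theorem relQ : RelP (xq 0) (xq 1) (xq 2) (xq 3) (xq 4) (xq 5) (xq 7) := by
  have h := relP_of_words (relT_sound (μ := mu) (l := relW) q_all mu_lets q_rel)
  have e0 : ev (xb tq ThXT.iv 17199 9) (mu 0) = xb tq ThXT.iv 17199 9 0 := by show ev (xb tq ThXT.iv 17199 9) [0] = _; simp [ev]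
  have e1 : ev (xb tq ThXT.iv 17199 9) (mu 1) = xb tq ThXT.iv 17199 9 1 := by show ev (xb tq ThXT.iv 17199 9) [1] = _; simp [ev]
  have e2 : ev (xb tq ThXT.iv 17199 9) (mu 2) = xb tq ThXT.iv 17199 9 2 := by show ev (xb tq ThXT.iv 17199 9) [2] = _; simp [ev]
  have e3 : ev (xb tq ThXT.iv 17199 9) (mu 3) = xb tq ThXT.iv 17199 9 3 := by show ev (xb tq ThXT.iv 17199 9) [3] = _; simp [ev]
  have e4 : ev (xb tq ThXT.iv 17199 9) (mu 4) = xb tq ThXT.iv 17199 9 4 := by show ev (xb tq ThXT.iv 17199 9) [4] = _; simp [ev]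
  have e5 : ev (xb tq ThXT.iv 17199 9) (mu 5) = xb tq ThXT.iv 17199 9 5 := by show ev (xb tq ThXT.iv 17199 9) [5] = _; simp [ev]
  have e6 : ev (xb tq ThXT.iv 17199 9) (mu 6) = xb tq ThXT.iv 17199 9 7 := by show ev (xb tq ThXT.iv 17199 9) [7] = _; simp [ev]
  rw [e0, e1, e2, e3, e4, e5, e6] at h
  exact h

theorem phi_exists : ∃ f : PP →* QQ, ∀ c < 9, f (xp c) = xq c := by
  obtain ⟨f, f0, f1, f2, f3, f4, f5, f6⟩ := homGP relQ
  obtain ⟨_, _, _, e, e0, e1, e2, e3, e4, e5, e6⟩ := pp_main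
  have k5 : (f.comp e.symm.toMonoidHom) (xp 5) = xq 5 := by
    show f (e.symm _) = _
    rw [← e5, MulEquiv.symm_apply_apply, f5]
  have k7 : (f.comp e.symm.toMonoidHom) (xp 7) = xq 7 := by
    show f (e.symm _) = _
    rw [← e6, MulEquiv.symm_apply_apply, f6]
  refine ⟨f.comp e.symm.toMonoidHom, ?_⟩
  intro c hc
  interval_cases c
  · show f (e.symm _) = _
    rw [← e0, MulEquiv.symm_apply_apply, f0]
  · show f (e.symm _) = _
    rw [← e1, MulEquiv.symm_apply_apply, f1]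
  · show f (e.symm _) = _
    rw [← e2, MulEquiv.symm_apply_apply, f2]
  · show f (e.symm _) = _
    rw [← e3, MulEquiv.symm_apply_apply, f3]
  · show f (e.symm _) = _
    rw [← e4, MulEquiv.symm_apply_apply, f4]
  · exact k5
  · have h1 : xp 6 = (xp 5)⁻¹ := xb_iv ThPT.c_all (c := 5) (by norm_num)
    have h2 : xq 6 = (xq 5)⁻¹ := xb_iv q_all (c := 5) (by norm_num)
    rw [h1, h2, map_inv, k5]
  · exact k7
  · have h1 : xp 8 = (xp 7)⁻¹ := xb_iv ThPT.c_all (c := 7) (by norm_num)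
    have h2 : xq 8 = (xq 7)⁻¹ := xb_iv q_all (c := 7) (by norm_num)
    rw [h1, h2, map_inv, k7]

/-- the action on 17199 points -/
noncomputable def phi : PP →* Equiv.Perm ℕ := QQ.subtype.comp phi_exists.choose

theorem phi_act : ∀ c < 9, ∀ i < 17199, phi (xp c) i = look (tq c) i := by
  intro c hc i hi
  show QQ.subtype (phi_exists.choose (xp c)) i = _
  rw [phi_exists.choose_spec c hc]
  exact xb_act q_all hc hi

theorem phi_base : ∀ c < 9, ∀ i < 17199, look (tq c) i < 17199 := fun c hc i hi => base_lt q_all hc hi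

theorem phi_lt (g : PP) (i : ℕ) (hi : i < 17199) : phi g i < 17199 := PG_lt q_all (phi_exists.choose g) hi

theorem wd_lets : ∀ w ∈ ThDT.wd, lets 9 w = true := by decide +kernel

/-- coverage -/
theorem cov : ∀ i < 11, ∀ q < 17199, Good2 xs phi ThDE.get 4280 ThDS.s43 0 i q := by
  intro i hi
  have h : ∀ {i : ℕ} {r : List (ℕ × ℕ)} {l : List Gr},
      Nat.beq (gG ThXT.tl 9 ThDT.wd ThDS.s43 i l (rt ThXT.tl 9 ThDT.wd 17199 ThDE.get 4280 i 0 r 0)) (Nat.sub (Nat.pow 2 17199) 1) = true →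
      ∀ q < 17199, Good2 xs phi ThDE.get 4280 ThDS.s43 0 i q := fun h => cov_sound phi_act phi_base wd_lets h
  interval_cases i
  · exact h ThXU0.c_cov
  · exact h ThXU1.c_cov
  · exact h ThXU2.c_cov
  · exact h ThXU3.c_cov
  · exact h ThXU4.c_cov
  · exact h ThXU5.c_cov
  · exact h ThXU6.c_cov
  · exact h ThXU7.c_cov
  · exact h ThXU8.c_cov
  · exact h ThXU9.c_cov
  · exact h ThXU10.c_cov

instance fin_PP : Finite PP := pp_main.1

theorem card_PP : Nat.card PP = 634023936 := pp_main.2.1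

theorem c_fix : (ThDT.ph.all fun p => awc ThXT.tl (expw 9 ThDT.wd [p.1]) 0 (fun j => Nat.beq j 0)) = true := by decide +kernel

theorem ev1 (s : ℕ) : ev xs [s] = xs s := by simp [ev]

theorem fix0 : Bs xs ThDT.ph ≤ fixL phi ⊤ [0] := by
  rw [Bs, Subgroup.closure_le]
  rintro _ ⟨p, hp, rfl⟩
  show xs p.1 ∈ fixL phi ⊤ [0]
  refine ⟨Subgroup.mem_top _, ?_⟩
  intro b hb
  rw [List.mem_singleton] at hb
  subst hb
  have h1 := List.all_eq_true.mp c_fix p hp
  rw [awc_eq, Nat.beq_eq] at h1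
  have h2 := act_exp (φ := phi) phi_act phi_base wd_lets [p.1] (q := 0) (by norm_num)
  rw [h1] at h2
  rw [← ev1]
  exact h2.1

theorem trans0 : ∀ q < 17199, ∃ g : PP, phi g 0 = q := by
  intro q hq
  obtain ⟨f, _, E, _, _, q0, h1, g, _, h2⟩ := cov 0 (by norm_num) q hq
  refine ⟨g * (ev xs E.h)⁻¹, ?_⟩
  rw [map_mul, Equiv.Perm.mul_apply, map_inv]
  have : (phi (ev xs E.h))⁻¹ 0 = q0 := by rw [Equiv.Perm.inv_eq_iff_eq, h1]
  rw [this, h2]

theorem card_B : 36864 ≤ Nat.card (Bs xs ThDT.ph) := by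
  refine chainH_card acts.1 acts.2 (K := Bs xs ThDT.ph) (Ws := ThDT.ph.map (fun p => [p.1])) ?_ _ ThXC.c_bb
  intro w hw
  obtain ⟨p, hp, rfl⟩ := List.mem_map.mp hw
  rw [ev1]
  exact Subgroup.subset_closure ⟨p, hp, rfl⟩

/-- the stabilizer of the point `0` -/
theorem stab_B : ∀ g : PP, phi g 0 = 0 → g ∈ Bs xs ThDT.ph := by
  have h3 := card_step (φ := phi) (⊤ : Subgroup PP) 0 (Finset.range 17199) (by
    intro q hq
    obtain ⟨g, hg⟩ := trans0 q (Finset.mem_range.mp hq)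
    exact ⟨g, Subgroup.mem_top _, hg⟩)
  have e : Nat.card (⊤ : Subgroup PP) = 634023936 := by rw [Nat.card_congr Subgroup.topEquiv.toEquiv, card_PP]
  rw [Finset.card_range, e] at h3
  have h4 : Nat.card (fixL phi ⊤ [0]) ≤ Nat.card (Bs xs ThDT.ph) := by
    refine le_trans ?_ card_B
    omega
  have h5 := Subgroup.eq_of_le_of_card_ge fix0 h4
  intro g hg
  rw [h5]
  refine ⟨Subgroup.mem_top _, ?_⟩
  intro b hb
  rw [List.mem_singleton] at hb
  subst hb
  exact hg

/-- numbers of points -/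
def nn (i : ℕ) : ℕ := nth [1, 17199, 45864, 2201472, 1304576, 11741184, 105670656, 5031936, 8128512, 179712, 8805888] i

theorem top0 : Sg xs ThDS.s43 0 = ⊤ := by
  apply PG_top ThPT.c_all
  intro c hc
  rw [← xs_lt hc]
  apply Subgroup.subset_closure
  refine ⟨c, ?_, rfl⟩
  apply memP_mem
  interval_cases c <;> decide +kernel

theorem idx : ∀ i < 11, (Sg xs ThDS.s43 i).index ≤ nn i := by
  have key : ∀ {i : ℕ} {g : List ℕ} {l : List Stage} {r n : ℕ}, allIn ThDS.s43 i g = true →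
      chainH ThDT.tab 54 819 (g.map (fun s => [s])) [] l = some r → 0 < r → n * r = 634023936 → (Sg xs ThDS.s43 i).index ≤ n := by
    intro i g l r n h1 h2 h3 h4
    exact index_le card_PP (chainH_card acts.1 acts.2 (allIn_spec h1) l h2) h3 h4
  intro i hi
  interval_cases i
  · rw [top0, Subgroup.index_top]; decide +kernel
  · exact key ThXC.c_g1 ThXC.c_ch1 (by norm_num) (by decide +kernel)
  · exact key ThXC.c_g2 ThXC.c_ch2 (by norm_num) (by decide +kernel)
  · exact key ThXC.c_g3 ThXC.c_ch3 (by norm_num) (by decide +kernel)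
  · exact key ThXC.c_g4 ThXC.c_ch4 (by norm_num) (by decide +kernel)
  · exact key ThXC.c_g5 ThXC.c_ch5 (by norm_num) (by decide +kernel)
  · exact key ThXC.c_g6 ThXC.c_ch6 (by norm_num) (by decide +kernel)
  · exact key ThXC.c_g7 ThXC.c_ch7 (by norm_num) (by decide +kernel)
  · exact key ThXC.c_g8 ThXC.c_ch8 (by norm_num) (by decide +kernel)
  · exact key ThXC.c_g9 ThXC.c_ch9 (by norm_num) (by decide +kernel)
  · exact key ThXC.c_g10 ThXC.c_ch10 (by norm_num) (by decide +kernel)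

/-- all edges have a small target -/
noncomputable def jk1 (n : ℕ) : Bool :=
  bi (Nat.ble 4280 n) true (Option.rec (motive := fun _ => Bool) true (fun E => Nat.blt E.j 11) (ThDE.get n))

theorem c_j : allP jk1 13 0 = true := by decide +kernel

theorem j_lt {f : ℕ} (hf : f < 4280) {E : Edge} (hE : ThDE.get f = some E) : E.j < 11 := by
  have h := allP_spec c_j f (Nat.zero_le _) (by omega)
  unfold jk1 at h
  have h1 : Nat.ble 4280 f = false := by
    rw [← Bool.not_eq_true, Nat.ble_eq]; omega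
  rw [h1, bi_false, hE] at h
  have h2 : Nat.blt E.j 11 = true := h
  rwa [Nat.blt_eq] at h2

/-- the list of edges -/
noncomputable def st : St := ⟨(List.range 4280).filterMap ThDE.get, ThDS.s43⟩

theorem mem_st {E : Edge} : E ∈ st.edges ↔ ∃ f < 4280, ThDE.get f = some E := by
  show E ∈ (List.range 4280).filterMap ThDE.get ↔ _
  simp only [List.mem_filterMap, List.mem_range]

theorem c_ds : defOk 0 ThDT.ds = true := by decide +kernel

/-- comparison of edges -/
def eqE (a b : Edge) : Bool := (Nat.beq a.i b.i && (eqL a.h b.h && (Nat.beq a.j b.j && eqL a.a b.a)))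

theorem eqE_sound {a b : Edge} (h : eqE a b = true) : a = b := by
  have : eqEs [a] [b] = true := by simp only [eqEs, Bool.and_true]; exact h
  have := eqEs_sound this
  simpa using this

/-- the first edges are the definitions -/
def firstOk : ℕ → List Edge → Bool
  | _, [] => true
  | n, E :: l => (match ThDE.get n with
    | none => false
    | some E' => eqE E' E) && firstOk (n + 1) l

theorem firstOk_spec {n : ℕ} {l : List Edge} (h : firstOk n l = true) :
    ∀ f, n ≤ f → f < n + l.length → ∀ E, ThDE.get f = some E → E ∈ l := by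
  induction l generalizing n with
  | nil => intro f h1 h2; simp at h2; omega
  | cons a l ih =>
    simp only [firstOk, Bool.and_eq_true] at h
    intro f h1 h2 E hE
    rcases Nat.eq_or_lt_of_le h1 with rfl | h1
    · have h3 := h.1
      rw [hE] at h3
      simp only at h3
      rw [eqE_sound h3]; simp
    · exact List.mem_cons_of_mem _ (ih h.2 f h1 (by simp only [List.length_cons] at h2; omega) E hE)

theorem c_first : firstOk 0 (defEdges 0 ThDT.ds) = true := by decide +kernel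
theorem c_len : (defEdges 0 ThDT.ds).length = 10 := by decide +kernel

section upper
variable {G : Type*} [Group G]

theorem upper (ψ : PP →* G) (t : G) (K0 : Subgroup G)
    (hph : ∀ p ∈ ThDT.ph, t * ψ (xs p.1) = ψ (xs p.2) * t)
    (hrels : ∀ r ∈ ThDT.rels, seqG xs ψ t r = 1)
    (hgen : ∀ K : Subgroup G, (∀ p, ψ p ∈ K) → t ∈ K → K = ⊤)
    (hK0 : ∀ s < 9, ψ (xs s) ∈ K0) :
    Finite (G ⧸ K0) ∧ Nat.card (G ⧸ K0) ≤ 143127000 ∧ ∃ c : ℕ → G ⧸ K0, c 0 = ((1 : G) : G ⧸ K0) ∧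
      DceBig.Inv xs ((MulAction.toPermHom G (G ⧸ K0)).comp ψ) (MulAction.toPermHom G (G ⧸ K0) t) c ThDE.get 4280 ThDS.s43 ∧
      (∀ y, ∃ p i, i < 11 ∧ y = ψ p • c i) ∧ ∀ i < 11, ∀ p ∈ Sg xs ThDS.s43 i, ψ p • c i = c i := by
  have hds' := defOk_spec c_ds
  obtain ⟨c, hc0, hc⟩ := exists_c xs ((MulAction.toPermHom G (G ⧸ K0)).comp ψ) (MulAction.toPermHom G (G ⧸ K0) t)
    ((1 : G) : G ⧸ K0) ThDT.ds (fun n h => by have := hds' n h; omega)
  have hI : ∀ p ∈ ThDT.phI, (p.2, p.1) ∈ ThDT.ph := by decide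
  have hph' : ∀ p ∈ ThDT.ph, MulAction.toPermHom G (G ⧸ K0) t * ((MulAction.toPermHom G (G ⧸ K0)).comp ψ) (xs p.1) =
      ((MulAction.toPermHom G (G ⧸ K0)).comp ψ) (xs p.2) * MulAction.toPermHom G (G ⧸ K0) t := by
    intro p hp
    simp only [MonoidHom.comp_apply, ← map_mul, hph p hp]
  have hphI' : ∀ p ∈ ThDT.phI, (MulAction.toPermHom G (G ⧸ K0) t)⁻¹ * ((MulAction.toPermHom G (G ⧸ K0)).comp ψ) (xs p.1) =
      ((MulAction.toPermHom G (G ⧸ K0)).comp ψ) (xs p.2) * (MulAction.toPermHom G (G ⧸ K0) t)⁻¹ := by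
    intro p hp
    have := hph' _ (hI p hp)
    simp only at this
    rw [inv_mul_eq_iff_eq_mul, ← mul_assoc, this, mul_inv_cancel_right]
  have hinv0 : DceBig.Inv xs ((MulAction.toPermHom G (G ⧸ K0)).comp ψ) (MulAction.toPermHom G (G ⧸ K0) t) c ThDE.get 10 ThDS.s0 := by
    constructor
    · intro f hf E hE
      refine defEdges_spec 0 ThDT.ds (fun j hj' => by rw [zero_add]; exact hc j hj') E ?_
      refine firstOk_spec c_first f (Nat.zero_le _) ?_ E hE
      rw [c_len]; omega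
    · intro p hp
      have hp0 : p.1 = 0 ∧ p.2 < 9 := by
        revert p
        decide
      rw [hp0.1, hc0]
      show ψ (xs p.2) • ((1 : G) : G ⧸ K0) = ((1 : G) : G ⧸ K0)
      rw [MulAction.Quotient.smul_coe, smul_eq_mul, mul_one]
      exact QuotientGroup.eq.mpr (by simpa using hK0 _ hp0.2)
  have hst := run_all hph' hphI' (fun r hr => by rw [seqP_seqG, hrels r hr, map_one]) hinv0
  have hst2 : Dce.Inv xs ((MulAction.toPermHom G (G ⧸ K0)).comp ψ) (MulAction.toPermHom G (G ⧸ K0) t) c st := by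
    refine ⟨?_, hst.2⟩
    intro E hE
    obtain ⟨f, hf, hE⟩ := mem_st.mp hE
    exact hst.1 f hf E hE
  have hs := surj (k := 11) (φ := phi) (m := 17199) (pt := 0) hst2 hph' phi_lt (by norm_num) (by
    intro i hi q hq
    obtain ⟨f, hf, E, hE, h⟩ := cov i hi q hq
    exact ⟨E, mem_st.mpr ⟨f, hf, hE⟩, h⟩) stab_B (fun E hE => by
      obtain ⟨f, hf, hE⟩ := mem_st.mp hE
      exact j_lt hf hE) (by norm_num) (by
    intro S h0 hP hT hTi y
    obtain ⟨g, rfl⟩ := QuotientGroup.mk_surjective y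
    let K : Subgroup G :=
      { carrier := {g | (∀ y ∈ S, g • y ∈ S) ∧ ∀ y ∈ S, g⁻¹ • y ∈ S}
        one_mem' := by simp
        mul_mem' := by
          rintro a b ⟨ha, ha'⟩ ⟨hb, hb'⟩
          exact ⟨fun y hy => by rw [mul_smul]; exact ha _ (hb _ hy), fun y hy => by rw [mul_inv_rev, mul_smul]; exact hb' _ (ha' _ hy)⟩
        inv_mem' := by
          rintro a ⟨ha, ha'⟩
          exact ⟨ha', fun y hy => by rw [inv_inv]; exact ha y hy⟩ }
    have hK : K = ⊤ := hgen K (fun p => ⟨fun y hy => hP p y hy, fun y hy => by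
      rw [← map_inv]; exact hP p⁻¹ y hy⟩) ⟨fun y hy => hT y hy, fun y hy => by
      have := hTi y hy
      rwa [← map_inv] at this⟩
    have hg : g ∈ K := by rw [hK]; trivial
    have := hg.1 (c 0) h0
    rw [hc0] at this
    have h3 : g • ((1 : G) : G ⧸ K0) = (g : G ⧸ K0) := by
      rw [MulAction.Quotient.smul_coe, smul_eq_mul, mul_one]
    rwa [h3] at this)
  obtain ⟨h1, h2⟩ := card_le (k := 11) (st := st) hst.2 hs
  refine ⟨h1, le_trans h2 ?_, c, hc0, hst, hs, ?_⟩
  · have h3 : ∑ i : Fin 11, (Sg xs st.stab i).index ≤ ∑ i : Fin 11, nn i := Finset.sum_le_sum fun i _ => idx i i.2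
    refine le_trans h3 (le_of_eq ?_)
    decide +kernel
  · intro i hi p hp
    exact Sg_fix (A := (MulAction.toPermHom G (G ⧸ K0)).comp ψ) (st := st) hst.2 hp

end upper

end Cfsg.Agent.Lib.ThXMain
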