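import Cfsg.Agent.Lib.ThXSp

set_option autoImplicit false
set_option linter.all false
set_option maxRecDepth 100000

namespace Cfsg.Agent.Lib.ThXR0
open Cfsg.Agent.Lib.Dce Cfsg.Agent.Lib.ThX Cfsg.Agent.Lib.ThXT

def ws : List (List ℕ) := [
  [0, 0],
  [1, 1],
  [2, 2],
  [3, 3],
  [4, 4],
  [0, 1, 0, 1, 0, 1],
  [0, 4, 0, 4],
  [1, 2, 1, 2, 1, 2],
  [1, 3, 1, 3],
  [1, 4, 1, 4],
  [0, 3, 2, 3, 2, 3, 2, 3, 2],
  [2, 4, 2, 4],
  [3, 4, 3, 4, 3, 4]]

abbrev w0 : List ℕ := [0, 0]
theorem a0_0 : allP (triv1 tl 17199 w0) 14 0 = true := by decide +kernel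
theorem b0 : allP (triv1 tl 17199 w0) 10 16384 = true := by decide +kernel
theorem c0 : allP (triv1 tl 17199 w0) 15 0 = true := allP_join 16384 rfl a0_0 (allP_tail b0)
abbrev w1 : List ℕ := [1, 1]
theorem a1_0 : allP (triv1 tl 17199 w1) 14 0 = true := by decide +kernel
theorem b1 : allP (triv1 tl 17199 w1) 10 16384 = true := by decide +kernel
theorem c1 : allP (triv1 tl 17199 w1) 15 0 = true := allP_join 16384 rfl a1_0 (allP_tail b1)
abbrev w2 : List ℕ := [2, 2]
theorem a2_0 : allP (triv1 tl 17199 w2) 14 0 = true := by decide +kernel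
theorem b2 : allP (triv1 tl 17199 w2) 10 16384 = true := by decide +kernel
theorem c2 : allP (triv1 tl 17199 w2) 15 0 = true := allP_join 16384 rfl a2_0 (allP_tail b2)
abbrev w3 : List ℕ := [3, 3]
theorem a3_0 : allP (triv1 tl 17199 w3) 14 0 = true := by decide +kernel
theorem b3 : allP (triv1 tl 17199 w3) 10 16384 = true := by decide +kernel
theorem c3 : allP (triv1 tl 17199 w3) 15 0 = true := allP_join 16384 rfl a3_0 (allP_tail b3)
abbrev w4 : List ℕ := [4, 4]
theorem a4_0 : allP (triv1 tl 17199 w4) 14 0 = true := by decide +kernel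
theorem b4 : allP (triv1 tl 17199 w4) 10 16384 = true := by decide +kernel
theorem c4 : allP (triv1 tl 17199 w4) 15 0 = true := allP_join 16384 rfl a4_0 (allP_tail b4)
abbrev w5 : List ℕ := [0, 1, 0, 1, 0, 1]
theorem a5_0 : allP (triv1 tl 17199 w5) 13 0 = true := by decide +kernel
theorem a5_1 : allP (triv1 tl 17199 w5) 13 8192 = true := by decide +kernel
theorem b5 : allP (triv1 tl 17199 w5) 10 16384 = true := by decide +kernel
theorem c5 : allP (triv1 tl 17199 w5) 15 0 = true := allP_join 16384 rfl (allP_join 8192 rfl a5_0 a5_1) (allP_tail b5)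
abbrev w6 : List ℕ := [0, 4, 0, 4]
theorem a6_0 : allP (triv1 tl 17199 w6) 14 0 = true := by decide +kernel
theorem b6 : allP (triv1 tl 17199 w6) 10 16384 = true := by decide +kernel
theorem c6 : allP (triv1 tl 17199 w6) 15 0 = true := allP_join 16384 rfl a6_0 (allP_tail b6)
abbrev w7 : List ℕ := [1, 2, 1, 2, 1, 2]
theorem a7_0 : allP (triv1 tl 17199 w7) 13 0 = true := by decide +kernel
theorem a7_1 : allP (triv1 tl 17199 w7) 13 8192 = true := by decide +kernel
theorem b7 : allP (triv1 tl 17199 w7) 10 16384 = true := by decide +kernel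
theorem c7 : allP (triv1 tl 17199 w7) 15 0 = true := allP_join 16384 rfl (allP_join 8192 rfl a7_0 a7_1) (allP_tail b7)
abbrev w8 : List ℕ := [1, 3, 1, 3]
theorem a8_0 : allP (triv1 tl 17199 w8) 14 0 = true := by decide +kernel
theorem b8 : allP (triv1 tl 17199 w8) 10 16384 = true := by decide +kernel
theorem c8 : allP (triv1 tl 17199 w8) 15 0 = true := allP_join 16384 rfl a8_0 (allP_tail b8)
abbrev w9 : List ℕ := [1, 4, 1, 4]
theorem a9_0 : allP (triv1 tl 17199 w9) 14 0 = true := by decide +kernel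
theorem b9 : allP (triv1 tl 17199 w9) 10 16384 = true := by decide +kernel
theorem c9 : allP (triv1 tl 17199 w9) 15 0 = true := allP_join 16384 rfl a9_0 (allP_tail b9)
abbrev w10 : List ℕ := [0, 3, 2, 3, 2, 3, 2, 3, 2]
theorem a10_0 : allP (triv1 tl 17199 w10) 12 0 = true := by decide +kernel
theorem a10_1 : allP (triv1 tl 17199 w10) 12 4096 = true := by decide +kernel
theorem a10_2 : allP (triv1 tl 17199 w10) 12 8192 = true := by decide +kernel
theorem a10_3 : allP (triv1 tl 17199 w10) 12 12288 = true := by decide +kernel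
theorem b10 : allP (triv1 tl 17199 w10) 10 16384 = true := by decide +kernel
theorem c10 : allP (triv1 tl 17199 w10) 15 0 = true := allP_join 16384 rfl (allP_join 8192 rfl (allP_join 4096 rfl a10_0 a10_1) (allP_join 12288 rfl a10_2 a10_3)) (allP_tail b10)
abbrev w11 : List ℕ := [2, 4, 2, 4]
theorem a11_0 : allP (triv1 tl 17199 w11) 14 0 = true := by decide +kernel
theorem b11 : allP (triv1 tl 17199 w11) 10 16384 = true := by decide +kernel
theorem c11 : allP (triv1 tl 17199 w11) 15 0 = true := allP_join 16384 rfl a11_0 (allP_tail b11)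
abbrev w12 : List ℕ := [3, 4, 3, 4, 3, 4]
theorem a12_0 : allP (triv1 tl 17199 w12) 13 0 = true := by decide +kernel
theorem a12_1 : allP (triv1 tl 17199 w12) 13 8192 = true := by decide +kernel
theorem b12 : allP (triv1 tl 17199 w12) 10 16384 = true := by decide +kernel
theorem c12 : allP (triv1 tl 17199 w12) 15 0 = true := allP_join 16384 rfl (allP_join 8192 rfl a12_0 a12_1) (allP_tail b12)
theorem c_ws : trivL tl 17199 15 ws = true :=
  trivL_cons c0 (trivL_cons c1 (trivL_cons c2 (trivL_cons c3 (trivL_cons c4 (trivL_cons c5 (trivL_cons c6 (trivL_cons c7 (trivL_cons c8 (trivL_cons c9 (trivL_cons c10 (trivL_cons c11 (trivL_cons c12 (rfl)))))))))))))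

end Cfsg.Agent.Lib.ThXR0
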