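import Cfsg.Agent.Lib.CosetGroup

/-!
# The group `U₃(3):2` with generators `a b c d e`, relators as words
-/

set_option autoImplicit false
set_option linter.all false

namespace Cfsg.Agent.Lib.ThXRel

open Cfsg.Agent.Lib.BenesWord

/-- all relators -/
def rels : List Wd := [
  (Wd.pow (Wd.mul (Wd.g 0) (Wd.g 1)) 3),
  (Wd.pow (Wd.mul (Wd.g 0) (Wd.g 4)) 2),
  (Wd.pow (Wd.mul (Wd.g 1) (Wd.g 2)) 3),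
  (Wd.pow (Wd.mul (Wd.g 1) (Wd.g 3)) 2),
  (Wd.pow (Wd.mul (Wd.g 1) (Wd.g 4)) 2),
  (Wd.mul (Wd.g 0) (Wd.inv (Wd.pow (Wd.mul (Wd.g 2) (Wd.g 3)) 4))),
  (Wd.pow (Wd.mul (Wd.g 2) (Wd.g 4)) 2),
  (Wd.pow (Wd.mul (Wd.g 3) (Wd.g 4)) 3),
  (Wd.pow (Wd.mul (Wd.mul (Wd.mul (Wd.g 1) (Wd.g 2)) (Wd.g 3)) (Wd.g 4)) 8),
  (Wd.pow (Wd.mul (Wd.g 0) (Wd.g 2)) 2)]

end Cfsg.Agent.Lib.ThXRel
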