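import Cfsg.Agent.Lib.ThXT

/-!
# Splitting the large checks
-/

set_option autoImplicit false
set_option linter.all false

namespace Cfsg.Agent.Lib.ThX

open Cfsg.Agent.Lib.Dce

theorem gG_append {tl : ℕ → List ℕ} {n0 : ℕ} {wd : List (List ℕ)} {S : List (ℕ × ℕ)} {i : ℕ} (a b : List Gr) (M : ℕ)
    (h : gG tl n0 wd S i b (gG tl n0 wd S i a M) ≠ 0 ∨ True) :
    gG tl n0 wd S i b 0 = 0 → gG tl n0 wd S i (a ++ b) M = gG tl n0 wd S i b (gG tl n0 wd S i a M) := by
  intro hb
  clear h
  induction a generalizing M with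
  | nil => rfl
  | cons x a ih =>
    have e : ∀ (l : List Gr) (M : ℕ), gG tl n0 wd S i (x :: l) M = bi (allS S i x.g) (bi (eqL (expw n0 wd x.g) x.w)
      (frc (gW tl x.w x.p M) (gG tl n0 wd S i l)) 0) 0 := fun _ _ => rfl
    rw [List.cons_append, e, e, frc_eq, frc_eq]
    cases allS S i x.g with
    | false => rw [bi_false, bi_false, hb]
    | true =>
      rw [bi_true, bi_true]
      cases eqL (expw n0 wd x.g) x.w with
      | false => rw [bi_false, bi_false, hb]
      | true => rw [bi_true, bi_true]; exact ih _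

theorem gW_zero {tl : ℕ → List ℕ} {w : List ℕ} (qs : List ℕ) : gW tl w qs 0 = 0 := by
  cases qs with
  | nil => rfl
  | cons a l =>
    have e : gW tl w (a :: l) 0 = bi (tb 0 a) (awc tl w a (fun j => gW tl w l (sb 0 j))) 0 := rfl
    rw [e, tb_eq, Nat.zero_testBit]; rfl

theorem gG_zero {tl : ℕ → List ℕ} {n0 : ℕ} {wd : List (List ℕ)} {S : List (ℕ × ℕ)} {i : ℕ} (b : List Gr) :
    gG tl n0 wd S i b 0 = 0 := by
  induction b with
  | nil => rfl
  | cons x b ih =>
    have e : gG tl n0 wd S i (x :: b) 0 = bi (allS S i x.g) (bi (eqL (expw n0 wd x.g) x.w)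
      (frc (gW tl x.w x.p 0) (gG tl n0 wd S i b)) 0) 0 := rfl
    rw [e, frc_eq, gW_zero, ih]
    cases allS S i x.g <;> cases eqL (expw n0 wd x.g) x.w <;> rfl

/-- composition of two checks -/
theorem gG_step {tl : ℕ → List ℕ} {n0 : ℕ} {wd : List (List ℕ)} {S : List (ℕ × ℕ)} {i : ℕ} {a b : List Gr} {M M' X : ℕ}
    (h : Nat.beq (gG tl n0 wd S i a M) M' = true) (h' : Nat.beq (gG tl n0 wd S i b M') X = true) :
    Nat.beq (gG tl n0 wd S i (a ++ b) M) X = true := by
  rw [gG_append a b M (Or.inr trivial) (gG_zero b), Nat.eq_of_beq_eq_true h]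
  exact h'

theorem gG_root {tl : ℕ → List ℕ} {n0 : ℕ} {wd : List (List ℕ)} {S : List (ℕ × ℕ)} {i : ℕ} {a : List Gr} {R M X : ℕ}
    (h : Nat.beq R M = true) (h' : Nat.beq (gG tl n0 wd S i a M) X = true) :
    Nat.beq (gG tl n0 wd S i a R) X = true := by
  rw [Nat.eq_of_beq_eq_true h]
  exact h'

theorem allP_join {p : ℕ → Bool} {k i : ℕ} (j : ℕ) (hj : i + 2 ^ k = j) (h1 : allP p k i = true) (h2 : allP p k j = true) :
    allP p (k + 1) i = true := by
  have e : allP p (k + 1) i = bi (allP p k i) (frc (Nat.add i (Nat.pow 2 k)) (allP p k)) false := rfl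
  rw [e, frc_eq, h1]
  have : Nat.add i (Nat.pow 2 k) = j := hj
  rw [this, h2]; rfl

theorem allP_of {p : ℕ → Bool} {k i : ℕ} (h : ∀ j, i ≤ j → p j = true) : allP p k i = true := by
  induction k generalizing i with
  | zero => exact h i le_rfl
  | succ k ih =>
    exact allP_join _ rfl (ih h) (ih fun j hj => h j (le_trans (Nat.le_add_right _ _) hj))

theorem allP_ge {tl : ℕ → List ℕ} {m : ℕ} {w : List ℕ} {k i : ℕ} (h : m ≤ i) : allP (triv1 tl m w) k i = true := by
  apply allP_of
  intro j hj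
  unfold triv1
  have : Nat.ble m j = true := by rw [Nat.ble_eq]; omega
  rw [this]; rfl

theorem allP_tail {tl : ℕ → List ℕ} {w : List ℕ} (h : allP (triv1 tl 17199 w) 10 16384 = true) :
    allP (triv1 tl 17199 w) 14 16384 = true :=
  allP_join 24576 (by norm_num) (allP_join 20480 (by norm_num) (allP_join 18432 (by norm_num) (allP_join 17408 (by norm_num) h
    (allP_ge (by norm_num))) (allP_ge (by norm_num))) (allP_ge (by norm_num))) (allP_ge (by norm_num))

theorem trivL_cons {tl : ℕ → List ℕ} {m k : ℕ} {w : List ℕ} {l : List (List ℕ)} (h : allP (triv1 tl m w) k 0 = true)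
    (h' : trivL tl m k l = true) : trivL tl m k (w :: l) = true := by
  have e : trivL tl m k (w :: l) = bi (allP (triv1 tl m w) k 0) (trivL tl m k l) false := rfl
  rw [e, h, h']; rfl

end Cfsg.Agent.Lib.ThX
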