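import Cfsg.Agent.Lib.PStableQuot
import Cfsg.Agent.Lib.ClsStab
import Cfsg.Agent.Lib.StableClosure

/-! Thompson factorization `G = C_G(V) N_G(J_e(S))`, `V` the normal closure of a subgroup of `Z(S)`, for `p`-stable
groups with `C_G(O_p(G)) ≤ O_p(G)`. -/

set_option autoImplicit false
set_option linter.unusedSectionVars false

namespace Cfsg.Agent.Lib.ThompsonFact

open Subgroup Cfsg.Agent.Lib.ThompsonJ Cfsg.Agent.Lib.RelSylow Cfsg.Agent.Lib.ZJThm
  Cfsg.Agent.Lib.PStab Cfsg.Agent.Lib.FactorizeQuot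
open scoped commutatorElement

universe u

variable {G : Type u} [Group G] {p : ℕ}

/-- `Dcore` of a larger normal subgroup which is a `p`-group modulo the smaller. -/
theorem Dcore_le_of_pow {C C' : Subgroup G} [C.Normal] [C'.Normal]
    (h : ∀ x ∈ C', ∃ k : ℕ, x ^ p ^ k ∈ C) : Dcore p C' ≤ Dcore p C := by
  apply le_Dcore_of_isPGroup (Dcore_normal C')
  rintro ⟨_, x, hx, rfl⟩
  obtain ⟨k, hk⟩ := exists_pow_mem_of_mem_Dcore hx
  obtain ⟨j, hj⟩ := h _ hk
  refine ⟨k + j, ?_⟩
  apply Subtype.ext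
  show (QuotientGroup.mk' C x) ^ p ^ (k + j) = 1
  rw [← map_pow]
  apply (QuotientGroup.eq_one_iff _).2
  rw [pow_add, pow_mul]
  exact hj

variable [Finite G] [hp : Fact p.Prime]

/-- replacement, first part: some member of `maxIn` is normalized by `U`. -/
theorem exists_normalized {P : Subgroup G → Prop} (hF : Fam p P) {S U : Subgroup G} (hS : IsPGroup p S)
    (hp2 : p ≠ 2) (hUS : U ≤ S) (hSU : S ≤ normalizer (U : Set G)) (hUU : ∀ A ∈ maxIn P S, ⁅U, U⁆ ≤ A) :
    ∃ A ∈ maxIn P S, U ≤ normalizer (A : Set G) := by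
  obtain ⟨A, hA, hmax⟩ := Set.exists_max_image (maxIn P S) (fun A => Nat.card (A ⊓ U : Subgroup G))
    (Set.toFinite _) (hF.nonempty S)
  refine ⟨A, hA, ?_⟩
  by_contra hnot
  obtain ⟨A', h1, h2, h3, h4⟩ := hF.step_rel hS hUS hSU (fun h => absurd h hp2) hA (hUU A hA) hnot
  have h5 := hmax A' h1
  have h6 : Nat.card (A ⊓ U : Subgroup G) < Nat.card (A' ⊓ U : Subgroup G) := by
    refine lt_of_le_of_ne (Subgroup.card_le_of_le h3.le) ?_
    intro h8
    exact h3.ne (Subgroup.eq_of_le_of_card_ge h3.le h8.ge)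
  exact absurd h5 (not_le.2 h6)

/-- replacement, second part. -/
theorem all_le {P : Subgroup G → Prop} (hF : Fam p P) {S U L : Subgroup G} (hS : IsPGroup p S)
    (hp2 : p ≠ 2) (hUS : U ≤ S) (hSU : S ≤ normalizer (U : Set G)) (hUU : ∀ A ∈ maxIn P S, ⁅U, U⁆ ≤ A)
    (h1 : ∀ A ∈ maxIn P S, U ≤ normalizer (A : Set G) → A ≤ L) (h2 : ∀ A ∈ maxIn P S, A ≤ L → U ≤ A) :
    ∀ A ∈ maxIn P S, A ≤ L := by
  by_contra hcon
  push Not at hcon
  obtain ⟨A, ⟨hA, hAL⟩, hmax⟩ := Set.exists_max_image {A : Subgroup G | A ∈ maxIn P S ∧ ¬ A ≤ L}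
    (fun A => Nat.card (A ⊓ U : Subgroup G)) (Set.toFinite _) hcon
  have hnot : ¬ U ≤ normalizer (A : Set G) := fun h => hAL (h1 A hA h)
  obtain ⟨A', h3, h4, h5, h6⟩ := hF.step_rel hS hUS hSU (fun h => absurd h hp2) hA (hUU A hA) hnot
  have h7 : A' ≤ L := by
    by_contra h7
    have h8 := hmax A' ⟨h3, h7⟩
    have h9 : Nat.card (A ⊓ U : Subgroup G) < Nat.card (A' ⊓ U : Subgroup G) := by
      refine lt_of_le_of_ne (Subgroup.card_le_of_le h5.le) ?_
      intro h8
      exact h5.ne (Subgroup.eq_of_le_of_card_ge h5.le h8.ge)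
    exact absurd h8 (not_le.2 h9)
  exact h6.ne (inf_eq_right.2 (h2 A' h3 h7))

/-- `U` normalizes `A`, `A` abelian: `A` acts quadratically on `U`. -/
theorem quad_of_normalizes {U A : Subgroup G} (hA : IsMulCommutative A) (h : U ≤ normalizer (A : Set G)) :
    ⁅⁅U, A⁆, A⁆ = ⊥ := by
  have h1 : ⁅U, A⁆ ≤ A := le_normalizer_iff_commutator_le_right.1 h
  have h2 := hA
  rw [← commutator_self_eq_bot_iff] at h2
  rw [eq_bot_iff, ← h2]
  exact commutator_mono h1 le_rfl

/-- a `p'`-element centralizing `Ω₁(V)`, `V` an abelian `p`-group normalized by it, centralizes `V`. -/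
theorem centralizes_of_omega {V : Subgroup G} (hVp : IsPGroup p V) (hVc : IsMulCommutative V) {y : G}
    (hyV : y ∈ normalizer (V : Set G)) (hy : (orderOf y).Coprime p)
    (h : ∀ v ∈ V, v ^ p = 1 → y * v * y⁻¹ = v) : ∀ v ∈ V, y * v * y⁻¹ = v := by
  have hcomm : ∀ a ∈ V, ∀ b ∈ V, a * b = b * a := fun a ha b hb =>
    congrArg Subtype.val (hVc.is_comm.comm (⟨a, ha⟩ : V) ⟨b, hb⟩)
  have key : ∀ (n : ℕ), ∀ v ∈ V, v ^ p ^ n = 1 → y * v * y⁻¹ = v := by
    intro n
    induction n with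
    | zero =>
      intro v _ hv1
      rw [pow_zero, pow_one] at hv1
      rw [hv1]; group
    | succ n ih =>
      intro v hv hv1
      have hw := ih (v ^ p) (pow_mem hv p) (by rw [← pow_mul, ← pow_succ']; exact hv1)
      have hyv : y * v * y⁻¹ ∈ V := (mem_normalizer_iff.1 hyV v).1 hv
      have hc : (y * v * y⁻¹ * v⁻¹) ^ p = 1 := by
        have h1 : Commute (y * v * y⁻¹) v⁻¹ := hcomm _ hyv _ (inv_mem hv)
        rw [h1.mul_pow, conj_pow, hw, inv_pow, mul_inv_cancel]
      have hcV : y * v * y⁻¹ * v⁻¹ ∈ V := mul_mem hyv (inv_mem hv)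
      exact ClsStab.coprime_centralize hy (j := 1) (by rw [pow_one]; exact hc) (h _ hcV hc)
  intro v hv
  obtain ⟨n, hn⟩ := hVp ⟨v, hv⟩
  exact key n v hv (congrArg Subtype.val hn)

theorem mem_centralizer_iff_conj {V : Subgroup G} {x : G} :
    x ∈ centralizer (V : Set G) ↔ ∀ v ∈ V, x * v * x⁻¹ = v := by
  rw [mem_centralizer_iff]
  constructor
  · intro h v hv
    rw [← h v hv, mul_assoc, mul_inv_cancel, mul_one]
  · intro h v hv
    calc v * x = x * v * x⁻¹ * x := by rw [h v hv]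
      _ = x * v := by group

/-- Thompson factorization. -/
theorem factor (hp2 : p ≠ 2) (hc : centralizer (Cfsg.pCore p G : Set G) ≤ Cfsg.pCore p G)
    (hst : ∀ (V : Subgroup G) [V.Normal], IsPGroup p V → Cfsg.IsPStableOn p V) {S : Subgroup G} (hS : IsSyl p S ⊤)
    {Z : Subgroup G} (hZc : Z ≤ centralizer (S : Set G)) :
    J (Cfsg.IsElementaryAbelian p) S ≤ centralizer (normalClosure (Z : Set G) : Set G) ∧
    ∀ g : G, ∃ c ∈ centralizer (normalClosure (Z : Set G) : Set G),
      ∃ n ∈ normalizer (J (Cfsg.IsElementaryAbelian p) S : Set G), g = c * n := by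
  set V := normalClosure (Z : Set G) with hV
  have hVn : V.Normal := normalClosure_normal
  set O := Cfsg.pCore p G with hO
  have hOS : O ≤ S := by
    obtain ⟨Q, hQ⟩ := hS.toSylow
    rw [← hQ]
    exact isPGroup_pCore.le_sylow_of_normal Q
  have hZO : Z ≤ O ⊓ centralizer (O : Set G) := by
    have h1 : Z ≤ centralizer (O : Set G) := hZc.trans (centralizer_le hOS)
    exact le_inf (h1.trans hc) h1
  have hVO : V ≤ O ⊓ centralizer (O : Set G) := normalClosure_le_normal hZO
  have hVc : IsMulCommutative V := by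
    rw [← le_centralizer_iff_isMulCommutative]
    exact (hVO.trans inf_le_right).trans (centralizer_le (hVO.trans inf_le_left))
  have hVp : IsPGroup p V := isPGroup_pCore.to_le (hVO.trans inf_le_left)
  have hZV : Z ≤ V := subset_normalClosure
  set C := centralizer (V : Set G) with hC
  have hCn : C.Normal := inferInstance
  -- `O_p(G/C) = 1`
  have hDC : Dcore p C ≤ C := by
    have h1 : Dcore p C ≤ centralizer (Z : Set G) := by
      rw [Dcore_eq_sup C hS]
      refine sup_le (centralizer_le hZV) ?_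
      refine inf_le_left.trans ?_
      rw [le_centralizer_iff]; exact hZc
    have h2 : V ≤ centralizer (Dcore p C : Set G) := by
      apply normalClosure_le_normal
      rw [SetLike.coe_subset_coe, le_centralizer_iff]
      exact h1
    exact le_centralizer_iff.1 h2
  -- `U = Ω₁(V)`
  set U := Cfsg.omegaOne p V with hU
  have hUn : U.Normal := StableClosure.omegaOne_normal hVn
  have hUV : U ≤ V := omegaOne_le V
  have hUe : Cfsg.IsElementaryAbelian p U := elemAb_omegaOne hVc
  have hUp : IsPGroup p U := hVp.to_le hUV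
  have hUS : U ≤ S := (hUV.trans (hVO.trans inf_le_left)).trans hOS
  have hSU : S ≤ normalizer (U : Set G) := by rw [Subgroup.normalizer_eq_top]; exact le_top
  have hDU : Dcore p (centralizer (U : Set G)) ≤ C := by
    refine (Dcore_le_of_pow (C := C) ?_).trans hDC
    intro x hx
    refine ⟨(orderOf x).factorization p, ?_⟩
    rw [hC, mem_centralizer_iff_conj]
    apply centralizes_of_omega hVp hVc (by rw [Subgroup.normalizer_eq_top]; exact mem_top _)
      (PStabPair.coprime_orderOf_pow x)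
    intro v hv hvp
    exact mem_centralizer_iff_conj.1 (pow_mem hx _) v (mem_omegaOne hv hvp)
  have hUU : ∀ A ∈ maxIn (Cfsg.IsElementaryAbelian p) S, ⁅U, U⁆ ≤ A := by
    intro A _
    have h1 : ⁅U, U⁆ = ⊥ := by
      have := hUe.1
      rwa [← commutator_self_eq_bot_iff] at this
    rw [h1]; exact bot_le
  have hall : ∀ A ∈ maxIn (Cfsg.IsElementaryAbelian p) S, A ≤ C := by
    apply all_le (fam_elem hp2) hS.2.1 hp2 hUS hSU hUU
    · intro A hA hUA a ha
      apply hDU
      have h3 := hst U hUp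
      rw [isPStableOn_iff] at h3
      apply h3
      rw [eq_bot_iff, ← quad_of_normalizes hA.2.1.1 hUA]
      exact commutator_zpowers_quad_le ha
    · intro A hA hAC u hu
      apply mem_of_centralizes_elem hA (hUS hu) (hUe.2 u hu)
      exact (le_centralizer_iff.1 hAC) (hUV hu)
  have hJC : J (Cfsg.IsElementaryAbelian p) S ≤ C := sSup_le hall
  refine ⟨hJC, ?_⟩
  have hSC : IsSyl p (S ⊓ C) C := hS.inf le_top (by rw [Subgroup.normalizer_eq_top])
  have hJeq : J (Cfsg.IsElementaryAbelian p) (S ⊓ C) = J (Cfsg.IsElementaryAbelian p) S :=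
    J_eq_of_J_le (maxElem_nonempty p S) inf_le_left (le_inf J_le hJC)
  intro g
  obtain ⟨c, hc', n, hn, rfl⟩ := hSC.frattini (H := ⊤) (by rw [Subgroup.normalizer_eq_top]) (mem_top g)
  refine ⟨c, hc', n, ?_, rfl⟩
  have := normalizer_le_normalizer_J_elem (p := p) (S ⊓ C) hn
  rwa [hJeq] at this

end Cfsg.Agent.Lib.ThompsonFact
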