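import Mathlib
import Cfsg.Agent.Lib.Burnside
import Cfsg.Agent.Lib.MinNormal

/-!
Three prime divisors (Burnside `p^a q^b`) and consequences for minimal normal subgroups.
-/

namespace Cfsg.Agent.Lib.ThreePrimes

open Cfsg.Agent.Lib.MinNormal

theorem exists_three_primes {T : Type*} [Group T] [Finite T] (h : ¬ Group.IsSolvable T) :
    ∃ p q r : ℕ, p.Prime ∧ q.Prime ∧ r.Prime ∧ p ∣ Nat.card T ∧ q ∣ Nat.card T ∧ r ∣ Nat.card T ∧
      p ≠ q ∧ p ≠ r ∧ q ≠ r := by
  have hn0 : Nat.card T ≠ 0 := Nat.card_pos.ne'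
  by_contra hcon
  have hS : (Nat.card T).primeFactors.card ≤ 2 := by
    by_contra h2
    push Not at h2
    obtain ⟨a, ha, b, hb, c, hc, hab, hac, hbc⟩ := Finset.two_lt_card.mp h2
    exact hcon ⟨a, b, c, Nat.prime_of_mem_primeFactors ha, Nat.prime_of_mem_primeFactors hb,
      Nat.prime_of_mem_primeFactors hc, Nat.dvd_of_mem_primeFactors ha, Nat.dvd_of_mem_primeFactors hb,
      Nat.dvd_of_mem_primeFactors hc, hab, hac, hbc⟩
  obtain ⟨p, q, hp, hq, hsub⟩ : ∃ p q : ℕ, p.Prime ∧ q.Prime ∧ (Nat.card T).primeFactors ⊆ {p, q} := by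
    interval_cases hc : (Nat.card T).primeFactors.card
    · rw [Finset.card_eq_zero] at hc
      exact ⟨2, 2, Nat.prime_two, Nat.prime_two, by rw [hc]; exact Finset.empty_subset _⟩
    · obtain ⟨a, ha⟩ := Finset.card_eq_one.mp hc
      have hap : a.Prime := Nat.prime_of_mem_primeFactors (by rw [ha]; exact Finset.mem_singleton_self a)
      exact ⟨a, a, hap, hap, by rw [ha]; simp⟩
    · obtain ⟨a, b, _, hab⟩ := Finset.card_eq_two.mp hc
      exact ⟨a, b, Nat.prime_of_mem_primeFactors (by rw [hab]; simp),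
        Nat.prime_of_mem_primeFactors (by rw [hab]; simp), by rw [hab]⟩
  have hprod : Nat.card T = ∏ x ∈ ({p, q} : Finset ℕ), x ^ (Nat.card T).factorization x := by
    conv_lhs => rw [← Nat.prod_factorization_pow_eq_self hn0]
    exact Finsupp.prod_of_support_subset _ (by rw [Nat.support_factorization]; exact hsub) _ (fun i _ => pow_zero i)
  apply h
  by_cases hpq : p = q
  · subst hpq
    rw [Finset.pair_eq_singleton, Finset.prod_singleton] at hprod
    exact Cfsg.Agent.Lib.Burnside.isSolvable_of_card_eq _ p p ((Nat.card T).factorization p) 0 hp hp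
      (by rw [pow_zero, mul_one]; exact hprod) rfl
  · rw [Finset.prod_pair hpq] at hprod
    exact Cfsg.Agent.Lib.Burnside.isSolvable_of_card_eq _ p q _ _ hp hq hprod rfl

open scoped commutatorElement in
theorem not_solvable {G : Type*} [Group G] {N T : Subgroup G} (h : MinBy N T)
    (hna : ¬ ∀ x ∈ T, ∀ y ∈ T, x * y = y * x) : ¬ Group.IsSolvable T := by
  intro hs
  have hnt : Nontrivial T := by
    rw [Subgroup.nontrivial_iff_ne_bot]; exact h.ne_bot
  have h1 : commutator T < ⊤ := Group.IsSolvable.commutator_lt_top_of_nontrivial T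
  have hle : ⁅T, T⁆ ≤ T := Subgroup.commutator_le_self T
  have hinv : InvBy N ⁅T, T⁆ := by
    intro n hn t ht
    have h2 : ⁅T, T⁆.map (MulAut.conj n).toMonoidHom ≤ ⁅T, T⁆ := by
      rw [Subgroup.map_commutator]
      apply Subgroup.commutator_mono
      · rintro _ ⟨s, hs, rfl⟩
        exact h.inv n hn s hs
      · rintro _ ⟨s, hs, rfl⟩
        exact h.inv n hn s hs
    exact h2 ⟨t, ht, rfl⟩
  rcases h.min _ hinv hle with h2 | h2
  · apply hna
    intro x hx y hy
    have h3 : ⁅x, y⁆ ∈ ⁅T, T⁆ := Subgroup.commutator_mem_commutator hx hy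
    rw [h2, Subgroup.mem_bot, commutatorElement_eq_one_iff_mul_comm] at h3
    exact h3
  · apply h1.ne
    rw [eq_top_iff]
    rintro ⟨x, hx⟩ _
    rw [← h2, ← Subgroup.map_subtype_commutator] at hx
    obtain ⟨y, hy, hyx⟩ := hx
    have : y = ⟨x, by rw [← hyx]; exact y.2⟩ := Subtype.ext hyx
    rw [← this]
    exact hy

theorem exists_three_primes_minBy {G : Type*} [Group G] [Finite G] {N T : Subgroup G} (h : MinBy N T)
    (hna : ¬ ∀ x ∈ T, ∀ y ∈ T, x * y = y * x) :
    ∃ x ∈ T, ∃ y ∈ T, ∃ z ∈ T, (orderOf x).Prime ∧ (orderOf y).Prime ∧ (orderOf z).Prime ∧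
      orderOf x ≠ orderOf y ∧ orderOf x ≠ orderOf z ∧ orderOf y ≠ orderOf z := by
  obtain ⟨p, q, r, hp, hq, hr, hpd, hqd, hrd, hpq, hpr, hqr⟩ := exists_three_primes (not_solvable h hna)
  have := Fact.mk hp
  have := Fact.mk hq
  have := Fact.mk hr
  obtain ⟨x, hx⟩ := exists_prime_orderOf_dvd_card' p hpd
  obtain ⟨y, hy⟩ := exists_prime_orderOf_dvd_card' q hqd
  obtain ⟨z, hz⟩ := exists_prime_orderOf_dvd_card' r hrd
  refine ⟨x, x.2, y, y.2, z, z.2, ?_⟩
  rw [Subgroup.orderOf_coe, Subgroup.orderOf_coe, Subgroup.orderOf_coe, hx, hy, hz]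
  exact ⟨hp, hq, hr, hpq, hpr, hqr⟩

end Cfsg.Agent.Lib.ThreePrimes
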