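import Mathlib

/-!
# Transitive linear groups: the field generated by an abelian normal subgroup
-/

set_option autoImplicit false

namespace Cfsg.Agent.Lib.TransLin

open Subgroup

universe u v

variable {V : Type u} [AddCommGroup V] [Finite V] {G : Type v} [Group G] [Finite G]
  [DistribMulAction G V]

/-- the endomorphism given by a group element -/
abbrev te (g : G) : AddMonoid.End V := DistribMulAction.toAddMonoidEnd G V g

omit [Finite V] [Finite G] in
theorem te_apply (g : G) (v : V) : (te g : AddMonoid.End V) v = g • v := rfl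

omit [Finite V] in
theorem mul_ap (f g : AddMonoid.End V) (v : V) : (f * g) v = f (g v) := rfl

omit [Finite V] [Finite G] in
theorem te_mul (g h : G) : (te (g * h) : AddMonoid.End V) = te g * te h :=
  map_mul (DistribMulAction.toAddMonoidEnd G V) g h

omit [Finite V] [Finite G] in
theorem te_inv_mul (g : G) : (te g⁻¹ : AddMonoid.End V) * te g = 1 := by
  rw [← te_mul, inv_mul_cancel]; exact map_one (DistribMulAction.toAddMonoidEnd G V)

omit [Finite V] [Finite G] in
theorem te_mul_inv (g : G) : (te g : AddMonoid.End V) * te g⁻¹ = 1 := by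
  rw [← te_mul, mul_inv_cancel]; exact map_one (DistribMulAction.toAddMonoidEnd G V)

omit [Finite G] in
/-- A commutative ring of endomorphisms normalized by a transitive group is a domain acting
semiregularly. -/
theorem injective_of_transitive (htr : ∀ v w : V, v ≠ 0 → w ≠ 0 → ∃ g : G, g • v = w)
    (R : Subring (AddMonoid.End V)) (hcomm : ∀ r ∈ R, ∀ s ∈ R, r * s = s * r)
    (hnorm : ∀ g : G, ∀ r ∈ R, te g * r * te g⁻¹ ∈ R) :
    ∀ r ∈ R, ∀ v : V, v ≠ 0 → r v = 0 → r = 0 := by
  classical
  haveI : Finite (AddMonoid.End V) := Finite.of_injective (fun f : AddMonoid.End V => (f : V → V)) (fun f g h => by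
    ext v; exact congrFun h v)
  -- annihilators and orbits
  let A : V → Set (AddMonoid.End V) := fun v => {r | r ∈ R ∧ r v = 0}
  have hAcard : ∀ v w : V, v ≠ 0 → w ≠ 0 → (A v).ncard = (A w).ncard := by
    have key : ∀ v w : V, v ≠ 0 → w ≠ 0 → (A v).ncard ≤ (A w).ncard := by
      intro v w hv hw
      obtain ⟨g, hg⟩ := htr v w hv hw
      refine Set.ncard_le_ncard_of_injOn (fun r => te g * r * te g⁻¹) ?_ ?_ (Set.toFinite _)
      · rintro r ⟨hr, hrv⟩
        refine ⟨hnorm g r hr, ?_⟩
        rw [mul_ap, mul_ap, te_apply g⁻¹, ← hg, inv_smul_smul, hrv, map_zero]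
      · intro r _ s _ h
        have h1 : te g⁻¹ * (te g * r * te g⁻¹) * te g = te g⁻¹ * (te g * s * te g⁻¹) * te g := by
          simp only at h
          rw [h]
        have h2 : ∀ t : AddMonoid.End V, te g⁻¹ * (te g * t * te g⁻¹) * te g = t := by
          intro t
          have : te g⁻¹ * (te g * t * te g⁻¹) * te g = (te g⁻¹ * te g) * t * (te g⁻¹ * te g) := by
            noncomm_ring
          rw [this, te_inv_mul, one_mul, mul_one]
        rw [h2, h2] at h1
        exact h1
    intro v w hv hw
    exact le_antisymm (key v w hv hw) (key w v hw hv)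
  have hAeq : ∀ v w : V, v ≠ 0 → w ≠ 0 → A v ⊆ A w → A v = A w := by
    intro v w hv hw h
    exact Set.eq_of_subset_of_ncard_le h (hAcard w v hw hv).le (Set.toFinite _)
  let O : V → AddSubgroup V := fun v => 
    { carrier := {w | ∃ r ∈ R, r v = w}
      zero_mem' := ⟨0, R.zero_mem, rfl⟩
      add_mem' := by
        rintro _ _ ⟨r, hr, rfl⟩ ⟨s, hs, rfl⟩
        exact ⟨r + s, R.add_mem hr hs, rfl⟩
      neg_mem' := by
        rintro _ ⟨r, hr, rfl⟩
        exact ⟨-r, R.neg_mem hr, rfl⟩ }
  have hself : ∀ v, v ∈ O v := fun v => ⟨1, R.one_mem, rfl⟩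
  -- the annihilator of an element of `R v` contains that of `v`
  have hAO : ∀ v w : V, v ≠ 0 → w ≠ 0 → w ∈ O v → A v = A w := by
    intro v w hv hw hwv
    apply hAeq v w hv hw
    obtain ⟨s, hs, rfl⟩ := hwv
    rintro r ⟨hr, hrv⟩
    refine ⟨hr, ?_⟩
    have := hcomm r hr s hs
    rw [← mul_ap, this, mul_ap, hrv, map_zero]
  have hOcard : ∀ v w : V, v ≠ 0 → w ≠ 0 → Nat.card (O v) ≤ Nat.card (O w) := by
    intro v w hv hw
    obtain ⟨g, hg⟩ := htr v w hv hw
    have h1 : ∀ x : O v, g • (x : V) ∈ O w := by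
      rintro ⟨_, r, hr, rfl⟩
      refine ⟨te g * r * te g⁻¹, hnorm g r hr, ?_⟩
      rw [mul_ap, mul_ap, te_apply g⁻¹, ← hg, inv_smul_smul]
      rfl
    exact Nat.card_le_card_of_injective (fun x : O v => (⟨g • (x : V), h1 x⟩ : O w)) (fun x y h => by
      have := congrArg Subtype.val h
      simp only at this
      exact Subtype.ext ((smul_left_cancel_iff g).1 this))
  have hOeq : ∀ v w : V, v ≠ 0 → w ≠ 0 → w ∈ O v → O w = O v := by
    intro v w hv hw hwv
    have hle : O w ≤ O v := by
      obtain ⟨s, hs, rfl⟩ := hwv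
      rintro _ ⟨r, hr, rfl⟩
      exact ⟨r * s, R.mul_mem hr hs, rfl⟩
    exact AddSubgroup.eq_of_le_of_card_ge hle (hOcard v w hv hw)
  have hall : ∀ v w : V, v ≠ 0 → w ≠ 0 → A v = A w := by
    intro v w hv hw
    by_contra hne
    have hw' : w ∉ O v := fun h => hne (hAO v w hv hw h)
    have hdisj : ∀ u : V, u ∈ O v → u ∈ O w → u = 0 := by
      intro u hu1 hu2
      by_contra hu
      have h1 := hOeq v u hv hu hu1
      have h2 := hOeq w u hw hu hu2
      apply hw'
      rw [← h1, h2]
      exact hself w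
    have hvw : v + w ≠ 0 := by
      intro h
      have h1 : w = -v := by rw [eq_neg_iff_add_eq_zero, add_comm]; exact h
      apply hw'
      rw [h1]
      exact (O v).neg_mem (hself v)
    have h1 : ∀ r ∈ A (v + w), r v = 0 ∧ r w = 0 := by
      rintro r ⟨hr, hrv⟩
      rw [map_add] at hrv
      have h2 : r v = -(r w) := by rw [eq_neg_iff_add_eq_zero]; exact hrv
      have h3 : r v = 0 := hdisj _ ⟨r, hr, rfl⟩ (by rw [h2]; exact (O w).neg_mem ⟨r, hr, rfl⟩)
      refine ⟨h3, ?_⟩
      rw [h3, zero_add] at hrv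
      exact hrv
    have h2 : A (v + w) = A v := hAeq _ _ hvw hv (fun r hr => ⟨hr.1, (h1 r hr).1⟩)
    have h3 : A (v + w) = A w := hAeq _ _ hvw hw (fun r hr => ⟨hr.1, (h1 r hr).2⟩)
    exact hne (h2.symm.trans h3)
  intro r hr v hv hrv
  ext w
  by_cases hw : w = 0
  · rw [hw, map_zero, map_zero]
  · have h1 : r ∈ A w := by rw [← hall v w hv hw]; exact ⟨hr, hrv⟩
    exact h1.2

/-- The field generated by an abelian normal subgroup of a transitive linear group. -/
theorem exists_field [Nontrivial V] (htr : ∀ v w : V, v ≠ 0 → w ≠ 0 → ∃ g : G, g • v = w)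
    (N : Subgroup G) (hN : N.Normal) (hNc : ∀ a ∈ N, ∀ b ∈ N, a * b = b * a) :
    ∃ (K : Type u) (_ : Field K) (_ : Finite K) (_ : Module K V),
      (∀ n ∈ N, ∃ k : K, ∀ v : V, n • v = k • v) ∧
      (∀ g : G, ∃ σ : K ≃+* K, ∀ (k : K) (v : V), g • k • v = σ k • g • v) ∧
      (∀ g : G, (∀ n ∈ N, n * g = g * n) → ∀ (k : K) (v : V), g • k • v = k • g • v) := by
  classical
  haveI : Finite (AddMonoid.End V) := Finite.of_injective (fun f : AddMonoid.End V => (f : V → V)) (fun f g h => by
    ext v; exact congrFun h v)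
  set R : Subring (AddMonoid.End V) := Subring.closure {r | ∃ n ∈ N, r = te n} with hR
  have hcomm0 : ∀ x ∈ {r : AddMonoid.End V | ∃ n ∈ N, r = te n}, ∀ y ∈ {r : AddMonoid.End V | ∃ n ∈ N, r = te n},
      x * y = y * x := by
    rintro _ ⟨a, ha, rfl⟩ _ ⟨b, hb, rfl⟩
    rw [← te_mul, ← te_mul, hNc a ha b hb]
  letI cr : CommRing R := Subring.closureCommRingOfComm hcomm0
  have hcomm : ∀ r ∈ R, ∀ s ∈ R, r * s = s * r := by
    intro r hr s hs
    have := mul_comm (⟨r, hr⟩ : R) ⟨s, hs⟩
    exact congrArg Subtype.val this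
  have hnorm : ∀ g : G, ∀ r ∈ R, te g * r * te g⁻¹ ∈ R := by
    intro g r hr
    induction hr using Subring.closure_induction with
    | mem x hx =>
      obtain ⟨n, hn, rfl⟩ := hx
      rw [← te_mul, ← te_mul]
      exact Subring.subset_closure ⟨_, hN.conj_mem n hn g, rfl⟩
    | zero => rw [mul_zero, zero_mul]; exact R.zero_mem
    | one => rw [mul_one, te_mul_inv]; exact R.one_mem
    | add x y _ _ hx hy => rw [mul_add, add_mul]; exact R.add_mem hx hy
    | neg x _ hx => rw [mul_neg, neg_mul]; exact R.neg_mem hx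
    | mul x y _ _ hx hy =>
      have : te g * (x * y) * te g⁻¹ = (te g * x * te g⁻¹) * (te g * y * te g⁻¹) := by
        have : (te g * x * te g⁻¹) * (te g * y * te g⁻¹) = te g * x * (te g⁻¹ * te g) * y * te g⁻¹ := by
          noncomm_ring
        rw [this, te_inv_mul, mul_one]; noncomm_ring
      rw [this]; exact R.mul_mem hx hy
  have hinj := injective_of_transitive htr R hcomm hnorm
  haveI : Nontrivial R := by
    obtain ⟨v, hv⟩ := exists_ne (0 : V)
    refine ⟨0, 1, fun h => hv ?_⟩
    have h1 := congrArg Subtype.val h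
    have h2 := DFunLike.congr_fun h1 v
    exact h2.symm
  haveI : NoZeroDivisors R := by
    refine ⟨fun {a b} hab => ?_⟩
    by_contra hcon
    push Not at hcon
    obtain ⟨ha, hb⟩ := hcon
    have hb' : (b : AddMonoid.End V) ≠ 0 := fun h => hb (Subtype.ext h)
    obtain ⟨v, hv⟩ : ∃ v : V, (b : AddMonoid.End V) v ≠ 0 := by
      by_contra h
      push Not at h
      apply hb'
      ext v
      exact h v
    apply ha
    apply Subtype.ext
    refine hinj a a.2 _ hv ?_
    have h1 := congrArg Subtype.val hab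
    exact DFunLike.congr_fun h1 v
  haveI : IsDomain R := NoZeroDivisors.to_isDomain R
  letI : Fintype R := Fintype.ofFinite R
  letI fR : Field R := Fintype.fieldOfDomain R
  have hcongr : ∀ g : G, ∀ r : R, te g * (r : AddMonoid.End V) * te g⁻¹ ∈ R := fun g r => hnorm g r r.2
  refine ⟨R, fR, inferInstance, Module.compHom V R.subtype, ?_, ?_, ?_⟩
  · intro n hn
    exact ⟨⟨te n, Subring.subset_closure ⟨n, hn, rfl⟩⟩, fun v => rfl⟩
  · intro g
    refine ⟨{ toFun := fun r => ⟨te g * (r : AddMonoid.End V) * te g⁻¹, hcongr g r⟩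
              invFun := fun r => ⟨te g⁻¹ * (r : AddMonoid.End V) * te g⁻¹⁻¹, hcongr g⁻¹ r⟩
              left_inv := ?_
              right_inv := ?_
              map_mul' := ?_
              map_add' := ?_ }, ?_⟩
    · intro r
      apply Subtype.ext
      have : te g⁻¹ * (te g * (r : AddMonoid.End V) * te g⁻¹) * te g = (te g⁻¹ * te g) * (r : AddMonoid.End V) * (te g⁻¹ * te g) := by
        noncomm_ring
      simp only [inv_inv]
      rw [this, te_inv_mul, one_mul, mul_one]
    · intro r
      apply Subtype.ext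
      have : te g * (te g⁻¹ * (r : AddMonoid.End V) * te g) * te g⁻¹ = (te g * te g⁻¹) * (r : AddMonoid.End V) * (te g * te g⁻¹) := by
        noncomm_ring
      simp only [inv_inv]
      rw [this, te_mul_inv, one_mul, mul_one]
    · intro r s
      apply Subtype.ext
      have h1 : (te g * (r : AddMonoid.End V) * te g⁻¹) * (te g * (s : AddMonoid.End V) * te g⁻¹) = te g * (r : AddMonoid.End V) * (te g⁻¹ * te g) * (s : AddMonoid.End V) * te g⁻¹ := by
        noncomm_ring
      have h2 : te g * (((r * s : R) : AddMonoid.End V)) * te g⁻¹ = (te g * (r : AddMonoid.End V) * te g⁻¹) * (te g * (s : AddMonoid.End V) * te g⁻¹) := by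
        rw [h1, te_inv_mul, mul_one]
        change te g * ((r : AddMonoid.End V) * (s : AddMonoid.End V)) * te g⁻¹ = _
        noncomm_ring
      exact h2
    · intro r s
      apply Subtype.ext
      change te g * ((r : AddMonoid.End V) + (s : AddMonoid.End V)) * te g⁻¹ = te g * (r : AddMonoid.End V) * te g⁻¹ + te g * (s : AddMonoid.End V) * te g⁻¹
      noncomm_ring
    · intro r v
      change g • (r : AddMonoid.End V) v = (te g * (r : AddMonoid.End V) * te g⁻¹ : AddMonoid.End V) (g • v)
      rw [mul_ap, mul_ap, te_apply g⁻¹, inv_smul_smul]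
      rfl
  · intro g hg k v
    have key : ∀ r ∈ R, r * te g = te g * r := by
      intro r hr
      induction hr using Subring.closure_induction with
      | mem x hx =>
        obtain ⟨n, hn, rfl⟩ := hx
        rw [← te_mul, ← te_mul, hg n hn]
      | zero => rw [mul_zero, zero_mul]
      | one => rw [mul_one, one_mul]
      | add x y _ _ hx hy => rw [mul_add, add_mul, hx, hy]
      | neg x _ hx => rw [mul_neg, neg_mul, hx]
      | mul x y _ _ hx hy => rw [mul_assoc, hy, ← mul_assoc, hx, mul_assoc]
    have h1 := DFunLike.congr_fun (key k k.2) v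
    exact h1.symm

/-- If the field acts regularly the group is semilinear of dimension one. -/
theorem gammaL_of [Nontrivial V] {K : Type*} [Field K] [Finite K] [Module K V]
    (hcard : Nat.card K = Nat.card V)
    (hs : ∀ g : G, ∃ σ : K ≃+* K, ∀ (k : K) (v : V), g • k • v = σ k • g • v) :
    ∃ (F : Type) (_ : Field F) (_ : Fintype F) (e : V ≃+ F),
      ∀ g : G, ∃ (a : F) (σ : F ≃+* F), ∀ v : V, e (g • v) = a * σ (e v) := by
  classical
  obtain ⟨v0, hv0⟩ := exists_ne (0 : V)
  let f : K →+ V := { toFun := fun k => k • v0, map_zero' := zero_smul K v0, map_add' := fun a b => add_smul a b v0 }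
  have hf : Function.Injective f := by
    intro a b hab
    exact smul_left_injective K hv0 hab
  have hfb : Function.Bijective f := (Nat.bijective_iff_injective_and_card f).2 ⟨hf, hcard⟩
  let e0 : K ≃+ V := AddEquiv.ofBijective f hfb
  have he0 : ∀ k, e0 k = k • v0 := fun k => rfl
  let ε : Shrink.{0} K ≃+* K := (equivShrink.{0} K).symm.ringEquiv
  refine ⟨Shrink.{0} K, inferInstance, Fintype.ofFinite _, e0.symm.trans ε.symm.toAddEquiv, ?_⟩
  intro g
  obtain ⟨σ, hσ⟩ := hs g
  refine ⟨ε.symm (e0.symm (g • v0)), ε.trans (σ.trans ε.symm), ?_⟩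
  intro v
  obtain ⟨k, rfl⟩ := e0.surjective v
  have h1 : g • e0 k = e0 (e0.symm (g • v0) * σ k) := by
    rw [he0, he0, hσ, mul_comm, mul_smul, ← he0 (e0.symm (g • v0)), e0.apply_symm_apply]
  have h2 : ∀ x : V, (e0.symm.trans ε.symm.toAddEquiv) x = ε.symm (e0.symm x) := fun x => rfl
  rw [h2, h2, h1, e0.symm_apply_apply, e0.symm_apply_apply, map_mul]
  congr 1
  simp

/-- Automorphisms of small prime order of a finite field are trivial. -/
theorem ringEquiv_trivial {K : Type*} [Field K] [Finite K] {q d : ℕ} [Fact q.Prime]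
    (hcard : Nat.card K = q ^ d) (σ : K ≃+* K) {r : ℕ} (hr : r.Prime) (hdr : d < r)
    (hσ : ∀ k, σ^[r] k = k) : ∀ k, σ k = k := by
  classical
  haveI : Fintype K := Fintype.ofFinite K
  haveI : CharP K q := by
    rw [Nat.card_eq_fintype_card] at hcard
    exact charP_of_card_eq_prime_pow hcard
  letI : Algebra (ZMod q) K := ZMod.algebra K q
  have hfin : Module.finrank (ZMod q) K = d := by
    have h1 := Module.natCard_eq_pow_finrank (K := ZMod q) (V := K)
    rw [Nat.card_eq_fintype_card (α := ZMod q), ZMod.card, hcard] at h1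
    exact (Nat.pow_right_injective (Nat.Prime.two_le Fact.out) h1).symm
  let τ : K ≃ₐ[ZMod q] K := AlgEquiv.ofRingEquiv (f := σ) (fun r => by
    have : (σ : K →+* K).comp (algebraMap (ZMod q) K) = algebraMap (ZMod q) K := Subsingleton.elim _ _
    exact RingHom.congr_fun this r)
  have hτ : ∀ k, τ k = σ k := fun k => rfl
  have hpow : ∀ (j : ℕ) (k : K), (τ ^ j) k = σ^[j] k := by
    intro j
    induction j with
    | zero => intro k; rfl
    | succ j ih =>
      intro k
      rw [pow_succ', AlgEquiv.mul_apply, ih, hτ, Function.iterate_succ_apply']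
  have h1 : τ ^ r = 1 := by
    ext k
    rw [hpow, hσ]; rfl
  haveI : Finite (K ≃ₐ[ZMod q] K) := inferInstance
  have h2 : Nat.card (K ≃ₐ[ZMod q] K) ≤ d := by
    rw [← hfin, Nat.card_eq_fintype_card]
    exact AlgEquiv.card_le
  have h3 : orderOf τ ≤ d := (Nat.le_of_dvd Nat.card_pos (orderOf_dvd_natCard τ)).trans h2
  have h4 : orderOf τ = 1 := by
    rcases (Nat.dvd_prime hr).1 (orderOf_dvd_of_pow_eq_one h1) with h | h
    · exact h
    · omega
  intro k
  rw [← hτ, orderOf_eq_one_iff.1 h4]; rfl

/-- Elements of large prime order act linearly. -/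
theorem linear_of_prime [Nontrivial V] {K : Type*} [Field K] [Finite K] [Module K V] {q d : ℕ} [Fact q.Prime]
    (hcard : Nat.card K = q ^ d) {g : G} {r : ℕ} (hr : r.Prime) (hdr : d < r) (hg : g ^ r = 1)
    (hs : ∃ σ : K ≃+* K, ∀ (k : K) (v : V), g • k • v = σ k • g • v) :
    ∀ (k : K) (v : V), g • k • v = k • g • v := by
  obtain ⟨σ, hσ⟩ := hs
  have h1 : ∀ (j : ℕ) (k : K) (v : V), g ^ j • k • v = (σ^[j] k) • g ^ j • v := by
    intro j
    induction j with
    | zero => intro k v; simp
    | succ j ih =>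
      intro k v
      rw [pow_succ', mul_smul, ih, hσ, Function.iterate_succ_apply', mul_smul]
  have h2 := ringEquiv_trivial hcard σ hr hdr (fun k => by
    obtain ⟨v, hv⟩ := exists_ne (0 : V)
    have := h1 r k v
    rw [hg, one_smul, one_smul] at this
    exact (smul_left_injective K hv this).symm)
  intro k v
  rw [hσ, h2]

/-- Independence of eigenvectors for distinct characters. -/
theorem linearIndependent_of_eigen {K : Type*} [Field K] {M : Type*} [AddCommGroup M] [Module K M]
    {ι : Type*} (c : ι → M) (hc : ∀ i, c i ≠ 0)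
    (h : ∀ i j, i ≠ j → ∃ (T : M →ₗ[K] M) (l : ι → K), (∀ k, T (c k) = l k • c k) ∧ l i ≠ l j) :
    LinearIndependent K c := by
  classical
  rw [linearIndependent_iff']
  intro s
  induction s using Finset.induction_on with
  | empty => intro g _ i hi; simp at hi
  | insert a s ha ih =>
    intro g hg
    have key : ∀ b ∈ s, g b = 0 := by
      intro b hb
      have hab : a ≠ b := fun h => ha (h ▸ hb)
      obtain ⟨T, l, hT, hl⟩ := h a b hab
      have h1 : ∑ i ∈ s, (g i * (l i - l a)) • c i = 0 := by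
        have h2 : T (∑ i ∈ insert a s, g i • c i) - l a • (∑ i ∈ insert a s, g i • c i) = 0 := by
          rw [hg, map_zero, smul_zero, sub_zero]
        rw [map_sum, Finset.smul_sum, ← Finset.sum_sub_distrib, Finset.sum_insert ha] at h2
        have h3 : T (g a • c a) - l a • g a • c a = 0 := by
          rw [map_smul, hT, smul_smul, smul_smul, mul_comm, sub_self]
        rw [h3, zero_add] at h2
        rw [← h2]
        refine Finset.sum_congr rfl fun i _ => ?_
        rw [map_smul, hT, smul_smul, smul_smul, ← sub_smul]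
        congr 1; ring
      have h4 := ih (fun i => g i * (l i - l a)) h1 b hb
      rcases mul_eq_zero.1 h4 with h5 | h5
      · exact h5
      · exact absurd (sub_eq_zero.1 h5).symm hl
    intro i hi
    rcases Finset.mem_insert.1 hi with rfl | hi
    · rw [Finset.sum_insert ha, Finset.sum_eq_zero (fun j hj => by rw [key j hj, zero_smul]), add_zero] at hg
      rcases smul_eq_zero.1 hg with h1 | h1
      · exact h1
      · exact absurd h1 (hc i)
    · exact key i hi

/-- Representatives of the cosets of the centre are linearly independent. -/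
theorem exists_independent [Nontrivial V] [FaithfulSMul G V] {K : Type*} [Field K] [Module K V]
    (C Z : Subgroup G) (hZ : ∀ z ∈ Z, ∃ k : K, ∀ v : V, z • v = k • v)
    (hcomm : ∀ x ∈ C, ∀ y ∈ C, x * y * x⁻¹ * y⁻¹ ∈ Z)
    (hcen : ∀ x ∈ C, (∀ y ∈ C, x * y = y * x) → x ∈ Z)
    (hlin : ∀ x ∈ C, ∀ (k : K) (v : V), x • k • v = k • x • v) :
    ∃ c : (C ⧸ Z.subgroupOf C) → (V →ₗ[K] V), LinearIndependent K c ∧
      ∀ i, ∃ x : C, ∀ v, c i v = (x : G) • v := by
  classical
  obtain ⟨v0, hv0⟩ := exists_ne (0 : V)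
  let L : C → (V →ₗ[K] V) := fun x =>
    { toFun := fun v => (x : G) • v
      map_add' := fun v w => smul_add _ v w
      map_smul' := fun k v => hlin x x.2 k v }
  have hL : ∀ (x : C) (v : V), L x v = (x : G) • v := fun x v => rfl
  let ι := C ⧸ Z.subgroupOf C
  let c : ι → (V →ₗ[K] V) := fun i => L i.out
  refine ⟨c, ?_, fun i => ⟨i.out, fun v => rfl⟩⟩
  apply linearIndependent_of_eigen
  · intro i h0
    have h1 : L i.out (((i.out : C) : G)⁻¹ • v0) = 0 := by
      change c i _ = 0
      rw [h0]; rfl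
    rw [hL, smul_inv_smul] at h1
    exact hv0 h1
  · intro i j hij
    -- an element not commuting with `c_i⁻¹ c_j`
    have hnZ : ((i.out : C) : G)⁻¹ * (j.out : C) ∉ Z := by
      intro h
      apply hij
      have h1 : (QuotientGroup.mk (i.out) : ι) = QuotientGroup.mk (j.out) := by
        rw [QuotientGroup.eq, Subgroup.mem_subgroupOf]
        exact h
      rwa [QuotientGroup.out_eq', QuotientGroup.out_eq'] at h1
    obtain ⟨g, hgC, hg⟩ : ∃ g ∈ C, (((i.out : C) : G)⁻¹ * (j.out : C)) * g ≠ g * (((i.out : C) : G)⁻¹ * (j.out : C)) := by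
      by_contra hcon
      push Not at hcon
      exact hnZ (hcen _ (C.mul_mem (C.inv_mem i.out.2) j.out.2) hcon)
    have hz : ∀ k : ι, ∃ l : K, ∀ v : V, (g * (k.out : C) * g⁻¹ * ((k.out : C) : G)⁻¹) • v = l • v := fun k =>
      hZ _ (hcomm g hgC _ k.out.2)
    choose l hl using hz
    refine ⟨{ toFun := fun A => L ⟨g, hgC⟩ ∘ₗ A ∘ₗ L ⟨g⁻¹, C.inv_mem hgC⟩
              map_add' := fun A B => by
                ext v
                simp only [LinearMap.comp_apply, LinearMap.add_apply, map_add]
              map_smul' := fun k A => by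
                ext v
                simp only [LinearMap.comp_apply, LinearMap.smul_apply, map_smul, RingHom.id_apply] }, l, ?_, ?_⟩
    · intro k
      ext v
      change g • ((k.out : C) : G) • (g⁻¹ • v) = l k • (((k.out : C) : G) • v)
      rw [← hl k]
      simp only [← mul_smul]
      congr 1
      group
    · intro hlij
      apply hg
      have h1 : g * (i.out : C) * g⁻¹ * ((i.out : C) : G)⁻¹ = g * (j.out : C) * g⁻¹ * ((j.out : C) : G)⁻¹ := by
        apply FaithfulSMul.eq_of_smul_eq_smul (α := V)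
        intro v
        rw [hl, hl, hlij]
      set a : G := ((i.out : C) : G) with ha
      set b : G := ((j.out : C) : G) with hb
      set z := g * a * g⁻¹ * a⁻¹ with hz
      have h3 : g * a * g⁻¹ = z * a := by rw [hz]; group
      have h4 : g * b * g⁻¹ = z * b := by rw [h1]; group
      have h5 : g * (a⁻¹ * b) * g⁻¹ = a⁻¹ * b := by
        calc g * (a⁻¹ * b) * g⁻¹ = (g * a * g⁻¹)⁻¹ * (g * b * g⁻¹) := by group
          _ = (z * a)⁻¹ * (z * b) := by rw [h3, h4]
          _ = a⁻¹ * b := by group
      calc a⁻¹ * b * g = g * (a⁻¹ * b) * g⁻¹ * g := by rw [h5]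
        _ = g * (a⁻¹ * b) := by group

/-- A linear group of class two with scalar centre has order at most `n^2 |Z|`. -/
theorem index_le_finrank_sq [Nontrivial V] [FaithfulSMul G V] {K : Type*} [Field K] [Finite K] [Module K V]
    (C Z : Subgroup G) (hZ : ∀ z ∈ Z, ∃ k : K, ∀ v : V, z • v = k • v)
    (hcomm : ∀ x ∈ C, ∀ y ∈ C, x * y * x⁻¹ * y⁻¹ ∈ Z)
    (hcen : ∀ x ∈ C, (∀ y ∈ C, x * y = y * x) → x ∈ Z)
    (hlin : ∀ x ∈ C, ∀ (k : K) (v : V), x • k • v = k • x • v) :
    Z.relIndex C ≤ Module.finrank K V ^ 2 := by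
  classical
  haveI : Fintype V := Fintype.ofFinite V
  haveI : Module.Finite K V := Module.Finite.of_finite
  obtain ⟨c, hli, -⟩ := exists_independent (K := K) C Z hZ hcomm hcen hlin
  haveI : Finite (C ⧸ Z.subgroupOf C) := inferInstance
  haveI : Fintype (C ⧸ Z.subgroupOf C) := Fintype.ofFinite _
  have h1 := hli.fintype_card_le_finrank
  rw [Module.finrank_linearMap, ← Nat.card_eq_fintype_card, ← sq] at h1
  exact h1

/-- In the extreme case the centralizer consists of scalars. -/
theorem scalar_of_centralizes [Nontrivial V] [FaithfulSMul G V] {K : Type*} [Field K] [Finite K] [Module K V]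
    (C Z : Subgroup G) (hZ : ∀ z ∈ Z, ∃ k : K, ∀ v : V, z • v = k • v)
    (hcomm : ∀ x ∈ C, ∀ y ∈ C, x * y * x⁻¹ * y⁻¹ ∈ Z)
    (hcen : ∀ x ∈ C, (∀ y ∈ C, x * y = y * x) → x ∈ Z)
    (hlin : ∀ x ∈ C, ∀ (k : K) (v : V), x • k • v = k • x • v)
    (hidx : Z.relIndex C = Module.finrank K V ^ 2) {g : G} (hg : ∀ (k : K) (v : V), g • k • v = k • g • v)
    (hgC : ∀ x ∈ C, g * x = x * g) : ∃ k : K, ∀ v : V, g • v = k • v := by
  classical
  haveI : Fintype V := Fintype.ofFinite V
  haveI : Module.Finite K V := Module.Finite.of_finite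
  obtain ⟨c, hli, hc⟩ := exists_independent (K := K) C Z hZ hcomm hcen hlin
  haveI : Finite (C ⧸ Z.subgroupOf C) := inferInstance
  haveI : Fintype (C ⧸ Z.subgroupOf C) := Fintype.ofFinite _
  have hspan : Submodule.span K (Set.range c) = ⊤ := by
    apply hli.span_eq_top_of_card_eq_finrank'
    rw [Module.finrank_linearMap, ← Nat.card_eq_fintype_card, ← sq]
    exact hidx
  let f : V →ₗ[K] V :=
    { toFun := fun v => g • v
      map_add' := fun v w => smul_add _ v w
      map_smul' := fun k v => hg k v }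
  have hf : ∀ A : V →ₗ[K] V, f ∘ₗ A = A ∘ₗ f := by
    intro A
    have hA : A ∈ Submodule.span K (Set.range c) := by rw [hspan]; trivial
    induction hA using Submodule.span_induction with
    | mem x hx =>
      obtain ⟨i, rfl⟩ := hx
      obtain ⟨x, hx⟩ := hc i
      ext v
      change g • c i v = c i (g • v)
      rw [hx, hx, ← mul_smul, ← mul_smul, hgC x x.2]
    | zero => rw [LinearMap.comp_zero, LinearMap.zero_comp]
    | add x y _ _ hx hy => rw [LinearMap.comp_add, LinearMap.add_comp, hx, hy]
    | smul k x _ hx => rw [LinearMap.comp_smul, LinearMap.smul_comp, hx]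
  have hcen' : (f : Module.End K V) ∈ Set.center (Module.End K V) := by
    rw [Semigroup.mem_center_iff]
    intro A
    exact (hf A).symm
  obtain ⟨k, hk, hfk⟩ := Module.End.mem_center_iff.1 hcen'
  refine ⟨k, fun v => ?_⟩
  have := LinearMap.congr_fun hfk v
  exact this

/-- Groups of scalars. -/
theorem card_dvd_of_scalar [Nontrivial V] [FaithfulSMul G V] {K : Type*} [Field K] [Finite K] [Module K V]
    (H : Subgroup G) (hH : ∀ x ∈ H, ∃ k : K, ∀ v : V, x • v = k • v) :
    Nat.card H ∣ Nat.card K - 1 ∧ IsCyclic H := by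
  classical
  obtain ⟨v0, hv0⟩ := exists_ne (0 : V)
  choose κ hκ using hH
  have hinjK : ∀ a b : K, (∀ v : V, a • v = b • v) → a = b := fun a b hab =>
    smul_left_injective K hv0 (hab v0)
  let f : H →* K :=
    { toFun := fun x => κ x x.2
      map_one' := hinjK _ _ (fun v => by rw [← hκ, one_smul]; exact one_smul G v)
      map_mul' := fun x y => hinjK _ _ (fun v => by
        rw [← hκ, mul_smul, ← hκ, ← hκ, ← mul_smul]; rfl) }
  have hf : Function.Injective f := by
    intro x y hxy
    apply Subtype.ext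
    apply FaithfulSMul.eq_of_smul_eq_smul (α := V)
    intro v
    rw [hκ x x.2, hκ y y.2]
    exact congrArg (· • v) hxy
  let f' : H →* Kˣ := f.toHomUnits
  have hf' : Function.Injective f' := by
    intro x y hxy
    apply hf
    have := congrArg (fun u : Kˣ => (u : K)) hxy
    simpa [f'] using this
  refine ⟨?_, isCyclic_of_subgroup_isDomain f hf⟩
  rw [← Nat.card_units]
  exact Subgroup.card_dvd_of_injective f' hf'

end Cfsg.Agent.Lib.TransLin
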