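import Cfsg.Agent.Lib.AltForm
import Cfsg.Agent.Lib.FrobGroup

/-!
# Groups of class two with cyclic centre: the commutator form
-/

set_option autoImplicit false

namespace Cfsg.Agent.Lib.TransLin

open Subgroup

universe u v

section Form

variable {W : Type u} [AddCommGroup W] [Finite W] {s : ℕ} [hs : Fact s.Prime]

omit [Finite W] in
theorem exists_bilin [Module (ZMod s) W] (β : W → W → ZMod s)
    (h1 : ∀ u v w, β (u + v) w = β u w + β v w) (h2 : ∀ u v w, β u (v + w) = β u v + β u w) :
    ∃ B : W →ₗ[ZMod s] W →ₗ[ZMod s] ZMod s, ∀ u w, B u w = β u w := by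
  let B1 : W → (W →ₗ[ZMod s] ZMod s) := fun u =>
    AddMonoidHom.toZModLinearMap s (AddMonoidHom.mk' (β u) (fun v w => h2 u v w))
  have hB1 : ∀ u w : W, B1 u w = β u w := fun _ _ => rfl
  exact ⟨AddMonoidHom.toZModLinearMap s (AddMonoidHom.mk' B1 (fun u v => by
      apply LinearMap.ext
      intro w
      rw [LinearMap.add_apply, hB1, hB1, hB1]
      exact h1 u v w)), fun _ _ => rfl⟩

theorem card_eq_pow_even' [Module (ZMod s) W] (β : W → W → ZMod s)
    (h1 : ∀ u v w, β (u + v) w = β u w + β v w) (h2 : ∀ u v w, β u (v + w) = β u v + β u w)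
    (halt : ∀ w, β w w = 0) (hnd : ∀ u, (∀ w, β u w = 0) → u = 0) :
    ∃ m : ℕ, Nat.card W = s ^ (2 * m) := by
  classical
  obtain ⟨B, hB⟩ := exists_bilin β h1 h2
  haveI : Module.Finite (ZMod s) W := Module.Finite.of_finite
  obtain ⟨k, hk⟩ := AltForm.even_finrank B (fun v => by rw [hB]; exact halt v) (fun v hv => hnd v (fun w => by
    rw [← hB]; exact hv w))
  refine ⟨k, ?_⟩
  rw [Module.natCard_eq_pow_finrank (K := ZMod s) (V := W), hk, Nat.card_eq_fintype_card, ZMod.card, two_mul]

/-- A nondegenerate alternating form forces the order to be an even power. -/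
theorem card_eq_pow_even (hexp : ∀ w : W, s • w = 0) (β : W → W → ZMod s)
    (h1 : ∀ u v w, β (u + v) w = β u w + β v w) (h2 : ∀ u v w, β u (v + w) = β u v + β u w)
    (halt : ∀ w, β w w = 0) (hnd : ∀ u, (∀ w, β u w = 0) → u = 0) :
    ∃ m : ℕ, Nat.card W = s ^ (2 * m) :=
  @card_eq_pow_even' W _ _ s hs (AddCommGroup.zmodModule hexp) β h1 h2 halt hnd

/-- Isometries of prime order. -/
theorem isometry_prime (hexp : ∀ w : W, s • w = 0) (β : W → W → ZMod s)
    (h1 : ∀ u v w, β (u + v) w = β u w + β v w) (h2 : ∀ u v w, β u (v + w) = β u v + β u w)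
    (halt : ∀ w, β w w = 0) (hnd : ∀ u, (∀ w, β u w = 0) → u = 0)
    (y : W ≃+ W) (hy : ∀ u w, β (y u) (y w) = β u w) {r : ℕ} [hr : Fact r.Prime] (hrs : r ≠ s)
    (hyr : ∀ w, y^[r] w = w) {m : ℕ} (hm : Nat.card W = s ^ (2 * m)) :
    ∃ i : ℕ, i ≤ m ∧ Nat.card {w : W // y w = w} = s ^ (2 * i) ∧ r ∣ s ^ (2 * (m - i)) - 1 := by
  classical
  let F : AddSubgroup W :=
    { carrier := {w | y w = w}
      zero_mem' := map_zero y
      add_mem' := fun {a b} ha hb => by
        change y (a + b) = a + b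
        rw [map_add]; rw [show y a = a from ha, show y b = b from hb]
      neg_mem' := fun {a} ha => by
        change y (-a) = -a
        rw [map_neg]; rw [show y a = a from ha] }
  have hF : ∀ w, w ∈ F ↔ y w = w := fun w => Iff.rfl
  -- the form on the fixed points is nondegenerate
  have hadd0 : ∀ u, β u 0 = 0 := by
    intro u
    have := h2 u 0 0
    rw [add_zero] at this
    exact left_eq_add.1 this
  have hsum : ∀ (u : W) (t : Finset ℕ) (f : ℕ → W), β u (∑ i ∈ t, f i) = ∑ i ∈ t, β u (f i) := by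
    intro u t f
    induction t using Finset.induction_on with
    | empty => simp [hadd0]
    | insert a t ha ih => rw [Finset.sum_insert ha, Finset.sum_insert ha, h2, ih]
  have hiter : ∀ (j : ℕ) (u w : W), y u = u → β u (y^[j] w) = β u w := by
    intro j
    induction j with
    | zero => intro u w _; rfl
    | succ j ih =>
      intro u w hu
      rw [Function.iterate_succ_apply']
      conv_lhs => rw [← hu]
      rw [hy, ih u w hu]
  have hFnd : ∀ u : F, (∀ w : F, β u w = 0) → u = 0 := by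
    intro u hu
    apply Subtype.ext
    apply hnd
    intro w
    -- the norm of `w`
    set nw := ∑ j ∈ Finset.range r, y^[j] w with hnw
    have hnF : nw ∈ F := by
      rw [hF, hnw, map_sum]
      have e1 : ∑ j ∈ Finset.range r, y (y^[j] w) = ∑ j ∈ Finset.range r, y^[j + 1] w :=
        Finset.sum_congr rfl fun j _ => (Function.iterate_succ_apply' _ _ _).symm
      rw [e1]
      have e2 := Finset.sum_range_succ' (fun j => y^[j] w) r
      rw [Finset.sum_range_succ] at e2
      rw [hyr] at e2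
      simp only [Function.iterate_zero, id_eq] at e2
      exact (add_right_cancel e2).symm
    have h3 := hu ⟨nw, hnF⟩
    simp only at h3
    rw [hnw, hsum, Finset.sum_congr rfl (fun j _ => hiter j u w u.2), Finset.sum_const, Finset.card_range,
      nsmul_eq_mul] at h3
    rcases mul_eq_zero.1 h3 with h4 | h4
    · exfalso
      rw [ZMod.natCast_eq_zero_iff] at h4
      exact hrs ((Nat.prime_dvd_prime_iff_eq hs.out hr.out).1 h4).symm
    · exact h4
  obtain ⟨i, hi⟩ := card_eq_pow_even (W := F) (s := s) (fun w => Subtype.ext (hexp w))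
    (fun u w => β u w) (fun u v w => h1 _ _ _) (fun u v w => h2 _ _ _) (fun w => halt _) hFnd
  have hile : i ≤ m := by
    have h3 : Nat.card F ∣ Nat.card W := AddSubgroup.card_addSubgroup_dvd_card F
    rw [hi, hm] at h3
    have := (Nat.pow_dvd_pow_iff_le_right hs.out.one_lt).1 h3
    omega
  refine ⟨i, hile, hi, ?_⟩
  -- counting
  haveI : Fintype W := Fintype.ofFinite W
  have h3 : Fintype.card W ≡ Fintype.card (Function.fixedPoints (y : W → W)) [MOD r] := by
    have := Equiv.Perm.card_fixedPoints_modEq (α := W) (f := (y : W → W)) (p := r) (n := 1) (by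
      rw [pow_one]
      have h4 : ∀ (j : ℕ) (w : W), ((show Function.End W from (y : W → W)) ^ j) w = y^[j] w := by
        intro j
        induction j with
        | zero => intro w; rfl
        | succ j ih => intro w; rw [pow_succ']; change y _ = _; rw [ih, Function.iterate_succ_apply']
      funext w
      rw [h4, hyr]; rfl)
    exact this
  have h5 : Fintype.card (Function.fixedPoints (y : W → W)) = s ^ (2 * i) := by
    rw [← hi, Nat.card_eq_fintype_card]
    exact Fintype.card_congr (Equiv.refl _)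
  rw [h5, ← Nat.card_eq_fintype_card, hm] at h3
  have h6 : r ∣ s ^ (2 * m) - s ^ (2 * i) := (Nat.modEq_iff_dvd' (Nat.pow_le_pow_right hs.out.pos (by omega))).1 h3.symm
  have h7 : s ^ (2 * m) - s ^ (2 * i) = s ^ (2 * i) * (s ^ (2 * (m - i)) - 1) := by
    rw [Nat.mul_sub, mul_one, ← pow_add]
    congr 2
    omega
  rw [h7] at h6
  rcases (Nat.Prime.dvd_mul hr.out).1 h6 with h8 | h8
  · exact absurd ((Nat.prime_dvd_prime_iff_eq hr.out hs.out).1 (hr.out.dvd_of_dvd_pow h8)) hrs
  · exact h8

end Form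

/-- The commutator form of a group of class two with cyclic centre. -/
theorem exists_form {C : Type u} [Group C] [Finite C] {s : ℕ} [hs : Fact s.Prime]
    (hpow : ∀ x : C, x ^ s ∈ center C) (hcomm : ∀ x y : C, x * y * x⁻¹ * y⁻¹ ∈ center C)
    (hcyc : IsCyclic (center C)) :
    ∃ (W : Type u) (_ : AddCommGroup W) (_ : Finite W) (π : C → W) (β : W → W → ZMod s),
      Function.Surjective π ∧ (∀ x y, π (x * y) = π x + π y) ∧ (∀ x, π x = 0 ↔ x ∈ center C) ∧
      (Nat.card C = Nat.card W * Nat.card (center C)) ∧ (∀ w : W, s • w = 0) ∧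
      (∀ u v w, β (u + v) w = β u w + β v w) ∧ (∀ u v w, β u (v + w) = β u v + β u w) ∧
      (∀ w, β w w = 0) ∧ (∀ u, (∀ w, β u w = 0) → u = 0) ∧
      (∀ α : MulAut C, (∀ z ∈ center C, α z = z) → ∃ y : W ≃+ W, (∀ x, y (π x) = π (α x)) ∧
        ∀ u w, β (y u) (y w) = β u w) := by
  classical
  haveI hcm : IsMulCommutative (C ⧸ center C) := ⟨⟨by
    intro a b
    obtain ⟨x, rfl⟩ := QuotientGroup.mk_surjective a
    obtain ⟨y, rfl⟩ := QuotientGroup.mk_surjective b
    rw [← QuotientGroup.mk_mul, ← QuotientGroup.mk_mul, QuotientGroup.eq]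
    have := hcomm y⁻¹ x⁻¹
    have e : (x * y)⁻¹ * (y * x) = y⁻¹ * x⁻¹ * y⁻¹⁻¹ * x⁻¹⁻¹ := by group
    rw [e]; exact this⟩⟩
  letI : CommGroup (C ⧸ center C) := { (inferInstance : Group (C ⧸ center C)) with mul_comm := hcm.is_comm.comm }
  -- the commutator
  let c : C → C → C := fun x y => x * y * x⁻¹ * y⁻¹
  have hcz : ∀ x y, c x y ∈ center C := hcomm
  have hcl : ∀ x y w, c (x * y) w = c x w * c y w := by
    intro x y w
    have h1 := mem_center_iff.1 (hcz y w)
    calc c (x * y) w = x * (c y w) * w * x⁻¹ * w⁻¹ := by simp only [c]; group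
      _ = (c y w) * x * w * x⁻¹ * w⁻¹ := by rw [h1 x]
      _ = c y w * c x w := by simp only [c]; group
      _ = c x w * c y w := (h1 (c x w)).symm
  have hcinv : ∀ x y, c y x = (c x y)⁻¹ := by intro x y; simp only [c]; group
  have hcr : ∀ w x y, c w (x * y) = c w x * c w y := by
    intro w x y
    rw [hcinv (x * y) w, hcl, mul_inv_rev, ← hcinv, ← hcinv]
    exact mem_center_iff.1 (hcz w x) _
  have hc1 : ∀ x z, z ∈ center C → c x z = 1 := by
    intro x z hz
    simp only [c]
    rw [mem_center_iff.1 hz x]; group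
  have hc1' : ∀ x z, z ∈ center C → c z x = 1 := by
    intro x z hz
    rw [hcinv x z, hc1 x z hz, inv_one]
  have hcpow : ∀ (x w : C) (n : ℕ), c (x ^ n) w = c x w ^ n := by
    intro x w n
    induction n with
    | zero => simp [c]
    | succ n ih => rw [pow_succ, hcl, ih, pow_succ]
  have hcs : ∀ x y, c x y ^ s = 1 := by
    intro x y
    rw [← hcpow]; exact hc1' _ _ (hpow x)
  -- the logarithm
  obtain ⟨ζ, hζ⟩ : ∃ ζ : C, ∀ z ∈ center C, z ^ s = 1 → ∃ k : ℕ, ζ ^ k = z := by
    by_cases hex : ∃ z ∈ center C, z ^ s = 1 ∧ z ≠ 1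
    · obtain ⟨ζ, hζ1, hζ2, hζ3⟩ := hex
      refine ⟨ζ, ?_⟩
      intro z hz hzs
      have hord : orderOf ζ = s := orderOf_eq_prime hζ2 hζ3
      -- the cyclic group
      haveI : Fintype (center C) := Fintype.ofFinite _
      have h1 := IsCyclic.card_pow_eq_one_le (α := center C) hs.out.pos
      let ζ' : center C := ⟨ζ, hζ1⟩
      have hord' : orderOf ζ' = s := by rw [← hord]; exact (Subgroup.orderOf_mk ζ hζ1)
      haveI : Fintype (zpowers ζ') := Fintype.ofFinite _
      have h2 : (Finset.univ.filter (fun a : center C => a ∈ zpowers ζ')) ⊆ Finset.univ.filter (fun a : center C => a ^ s = 1) := by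
        intro a ha
        rw [Finset.mem_filter] at ha ⊢
        refine ⟨ha.1, ?_⟩
        obtain ⟨k, rfl⟩ := mem_zpowers_iff.1 ha.2
        rw [← zpow_natCast, ← zpow_mul, mul_comm, zpow_mul, zpow_natCast, ← hord', pow_orderOf_eq_one, one_zpow]
      have h3 : (Finset.univ.filter (fun a : center C => a ∈ zpowers ζ')).card = s := by
        rw [← hord', ← Nat.card_zpowers, Nat.card_eq_fintype_card, Fintype.card_subtype]
      have h4 := Finset.eq_of_subset_of_card_le h2 (by rw [h3]; exact h1)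
      have h5 : (⟨z, hz⟩ : center C) ∈ Finset.univ.filter (fun a : center C => a ^ s = 1) := by
        rw [Finset.mem_filter]
        exact ⟨Finset.mem_univ _, Subtype.ext hzs⟩
      rw [← h4, Finset.mem_filter] at h5
      obtain ⟨k, hk⟩ := (mem_powers_iff_mem_zpowers).2 h5.2
      exact ⟨k, congrArg Subtype.val hk⟩
    · push Not at hex
      exact ⟨1, fun z hz hzs => ⟨0, by rw [hex z hz hzs, pow_zero]⟩⟩
  have hζs : ∃ ζ : C, ζ ^ s = 1 ∧ (∀ z ∈ center C, z ^ s = 1 → ∃ k : ℕ, ζ ^ k = z) := by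
    by_cases hex : ∃ z ∈ center C, z ^ s = 1 ∧ z ≠ 1
    · obtain ⟨z, hz1, hz2, hz3⟩ := hex
      obtain ⟨k, hk⟩ := hζ z hz1 hz2
      -- `z` itself generates
      refine ⟨z, hz2, ?_⟩
      intro w hw hws
      have hord : orderOf z = s := orderOf_eq_prime hz2 hz3
      haveI : Fintype (center C) := Fintype.ofFinite _
      have h1 := IsCyclic.card_pow_eq_one_le (α := center C) hs.out.pos
      let ζ' : center C := ⟨z, hz1⟩
      have hord' : orderOf ζ' = s := by rw [← hord]; exact (Subgroup.orderOf_mk z hz1)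
      haveI : Fintype (zpowers ζ') := Fintype.ofFinite _
      have h2 : (Finset.univ.filter (fun a : center C => a ∈ zpowers ζ')) ⊆ Finset.univ.filter (fun a : center C => a ^ s = 1) := by
        intro a ha
        rw [Finset.mem_filter] at ha ⊢
        refine ⟨ha.1, ?_⟩
        obtain ⟨k, rfl⟩ := mem_zpowers_iff.1 ha.2
        rw [← zpow_natCast, ← zpow_mul, mul_comm, zpow_mul, zpow_natCast, ← hord', pow_orderOf_eq_one, one_zpow]
      have h3 : (Finset.univ.filter (fun a : center C => a ∈ zpowers ζ')).card = s := by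
        rw [← hord', ← Nat.card_zpowers, Nat.card_eq_fintype_card, Fintype.card_subtype]
      have h4 := Finset.eq_of_subset_of_card_le h2 (by rw [h3]; exact h1)
      have h5 : (⟨w, hw⟩ : center C) ∈ Finset.univ.filter (fun a : center C => a ^ s = 1) := by
        rw [Finset.mem_filter]
        exact ⟨Finset.mem_univ _, Subtype.ext hws⟩
      rw [← h4, Finset.mem_filter] at h5
      obtain ⟨k, hk⟩ := (mem_powers_iff_mem_zpowers).2 h5.2
      exact ⟨k, congrArg Subtype.val hk⟩
    · push Not at hex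
      exact ⟨1, one_pow _, fun z hz hzs => ⟨0, by rw [hex z hz hzs, pow_zero]⟩⟩
  clear hζ ζ
  obtain ⟨ζ, hζ1, hζ⟩ := hζs
  by_cases hζ0 : ζ = 1
  · -- the group is abelian
    have hab : ∀ x : C, x ∈ center C := by
      intro x
      rw [mem_center_iff]
      intro y
      obtain ⟨k, hk⟩ := hζ _ (hcz y x) (hcs y x)
      rw [hζ0, one_pow] at hk
      have : y * x * y⁻¹ * x⁻¹ = 1 := hk.symm
      have h2 : y * x = x * y := by
        rw [mul_inv_eq_one, mul_inv_eq_iff_eq_mul] at this
        exact this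
      exact h2
    refine ⟨PUnit, inferInstance, inferInstance, fun _ => PUnit.unit, fun _ _ => 0, ?_, fun _ _ => rfl, ?_, ?_,
      fun _ => rfl, fun _ _ _ => by simp, fun _ _ _ => by simp, fun _ => rfl, fun _ _ => rfl, ?_⟩
    · intro x; exact ⟨1, rfl⟩
    · intro x; exact ⟨fun _ => hab x, fun _ => rfl⟩
    · have h0 : Nat.card PUnit.{u + 1} = 1 := Nat.card_unique
      rw [h0, one_mul]
      have : center C = ⊤ := by rw [eq_top_iff]; intro x _; exact hab x
      rw [this]
      exact (Nat.card_congr (Equiv.Set.univ C)).symm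
    · intro α _
      exact ⟨AddEquiv.refl _, fun _ => rfl, fun _ _ => rfl⟩
  have hord : orderOf ζ = s := orderOf_eq_prime hζ1 hζ0
  have hlog : ∀ x y, ∃ k : ZMod s, ζ ^ k.val = c x y := by
    intro x y
    obtain ⟨k, hk⟩ := hζ _ (hcz x y) (hcs x y)
    refine ⟨(k : ZMod s), ?_⟩
    have h1 := pow_mod_orderOf ζ k
    rw [hord] at h1
    rw [ZMod.val_natCast, ← hk, h1]
  choose lg hlg using hlog
  have hinj : ∀ a b : ZMod s, ζ ^ a.val = ζ ^ b.val → a = b := by
    intro a b hab
    have h1 := pow_inj_mod.1 hab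
    rw [hord] at h1
    apply ZMod.val_injective
    rw [Nat.mod_eq_of_lt (ZMod.val_lt a), Nat.mod_eq_of_lt (ZMod.val_lt b)] at h1
    exact h1
  have hζadd : ∀ a b : ZMod s, ζ ^ (a + b).val = ζ ^ a.val * ζ ^ b.val := by
    intro a b
    have h1 := pow_mod_orderOf ζ (a.val + b.val)
    rw [hord] at h1
    rw [← pow_add, ZMod.val_add, h1]
  have hlg1 : ∀ x y w, lg (x * y) w = lg x w + lg y w := by
    intro x y w
    apply hinj
    rw [hζadd, hlg, hlg, hlg, hcl]
  have hlg2 : ∀ w x y, lg w (x * y) = lg w x + lg w y := by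
    intro w x y
    apply hinj
    rw [hζadd, hlg, hlg, hlg, hcr]
  have hlg0 : ∀ x y, lg x y = 0 ↔ c x y = 1 := by
    intro x y
    constructor
    · intro h
      rw [← hlg, h, ZMod.val_zero, pow_zero]
    · intro h
      apply hinj
      rw [hlg, h, ZMod.val_zero, pow_zero]
  have hlgz1 : ∀ x z w, z ∈ center C → lg (x * z) w = lg x w := by
    intro x z w hz
    rw [hlg1, (hlg0 z w).2 (hc1' w z hz), add_zero]
  have hlgz2 : ∀ x z w, z ∈ center C → lg w (x * z) = lg w x := by
    intro x z w hz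
    rw [hlg2, (hlg0 w z).2 (hc1 w z hz), add_zero]
  let W := Additive (C ⧸ center C)
  let π : C → W := fun x => Additive.ofMul (QuotientGroup.mk x)
  let β : W → W → ZMod s := fun u w => lg (Quotient.out (Additive.toMul u)) (Quotient.out (Additive.toMul w))
  have hπs : Function.Surjective π := by
    intro w
    obtain ⟨x, hx⟩ := QuotientGroup.mk_surjective (Additive.toMul w)
    exact ⟨x, hx⟩
  have hβ : ∀ x y, β (π x) (π y) = lg x y := by
    intro x y
    obtain ⟨z1, hz1⟩ := QuotientGroup.mk_out_eq_mul (center C) x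
    obtain ⟨z2, hz2⟩ := QuotientGroup.mk_out_eq_mul (center C) y
    change lg (Quotient.out (QuotientGroup.mk x : C ⧸ center C)) (Quotient.out (QuotientGroup.mk y : C ⧸ center C)) = lg x y
    rw [hz1, hz2, hlgz1 _ _ _ z1.2, hlgz2 _ _ _ z2.2]
  have hπm : ∀ x y, π (x * y) = π x + π y := fun x y => rfl
  have hπ0 : ∀ x, π x = 0 ↔ x ∈ center C := by
    intro x
    exact QuotientGroup.eq_one_iff x
  refine ⟨W, inferInstance, inferInstance, π, β, hπs, hπm, hπ0, ?_, ?_, ?_, ?_, ?_, ?_, ?_⟩
  · exact Subgroup.card_eq_card_quotient_mul_card_subgroup (center C)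
  · intro w
    obtain ⟨x, rfl⟩ := hπs w
    have : s • π x = π (x ^ s) := rfl
    rw [this, hπ0]
    exact hpow x
  · intro u v w
    obtain ⟨x, rfl⟩ := hπs u
    obtain ⟨y, rfl⟩ := hπs v
    obtain ⟨z, rfl⟩ := hπs w
    rw [← hπm, hβ, hβ, hβ, hlg1]
  · intro u v w
    obtain ⟨x, rfl⟩ := hπs u
    obtain ⟨y, rfl⟩ := hπs v
    obtain ⟨z, rfl⟩ := hπs w
    rw [← hπm, hβ, hβ, hβ, hlg2]
  · intro w
    obtain ⟨x, rfl⟩ := hπs w
    rw [hβ, hlg0]
    simp only [c]; group
  · intro u hu
    obtain ⟨x, rfl⟩ := hπs u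
    rw [hπ0, mem_center_iff]
    intro y
    have h1 := hu (π y)
    rw [hβ, hlg0] at h1
    have : x * y * x⁻¹ * y⁻¹ = 1 := h1
    rw [mul_inv_eq_one, mul_inv_eq_iff_eq_mul] at this
    exact this.symm
  · intro α hα
    have hmem : ∀ x, α x ∈ center C ↔ x ∈ center C := by
      intro x
      constructor
      · intro h
        have h1 := hα _ h
        have h2 : α x = x := α.injective h1
        rwa [h2] at h
      · intro h
        rw [hα x h]; exact h
    let e0 : (C ⧸ center C) ≃* (C ⧸ center C) := QuotientGroup.congr (center C) (center C) α (by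
      ext x
      constructor
      · rintro ⟨y, hy, rfl⟩
        exact (hmem y).2 hy
      · intro hx
        exact ⟨x, hx, hα x hx⟩)
    let y : W ≃+ W := MulEquiv.toAdditive e0
    have hy : ∀ x, y (π x) = π (α x) := fun x => rfl
    refine ⟨y, hy, ?_⟩
    intro u w
    obtain ⟨x, rfl⟩ := hπs u
    obtain ⟨z, rfl⟩ := hπs w
    rw [hy, hy, hβ, hβ]
    apply hinj
    rw [hlg, hlg]
    have h1 : c (α x) (α z) = α (c x z) := by simp only [c, map_mul, map_inv]
    rw [h1, hα _ (hcz x z)]

end Cfsg.Agent.Lib.TransLin
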