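import Cfsg.Agent.Lib.TransLin1
import Cfsg.Agent.Lib.TransLin2
import Cfsg.Agent.Lib.Critical
import Cfsg.Agent.Lib.Fitting

/-!
# Transitive linear groups: critical subgroups
-/

set_option autoImplicit false

namespace Cfsg.Agent.Lib.TransLin

open Subgroup

universe u v

theorem exists_C {G : Type v} [Group G] [Finite G] {s : ℕ} [hs : Fact s.Prime] (P : Subgroup G) (hPn : P.Normal)
    (hP : IsPGroup s P) :
    ∃ C : Subgroup G, C.Normal ∧ C ≤ P ∧ P ⊓ centralizer (C : Set G) ≤ C ∧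
      (∀ x ∈ C, x ^ s ∈ centralizer (C : Set G)) ∧
      (∀ x ∈ C, ∀ y ∈ C, x * y * x⁻¹ * y⁻¹ ∈ centralizer (C : Set G)) ∧
      ∀ y : G, (orderOf y).Coprime s → y ∈ centralizer (C : Set G) → y ∈ centralizer (P : Set G) := by
  obtain ⟨H, hHc, -, hH1, hH2, hH3⟩ := Critical.exists_critical hP
  haveI := hHc
  haveI := hPn
  have hHn : H.Normal := Subgroup.normal_of_characteristic H
  have hcenH : ∀ (x : P), x ∈ centralizer (H : Set P) → (x : G) ∈ centralizer ((H.map P.subtype : Subgroup G) : Set G) := by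
    intro x hx
    rw [mem_centralizer_iff] at hx ⊢
    rintro _ ⟨y, hy, rfl⟩
    exact congrArg Subtype.val (hx y hy)
  refine ⟨H.map P.subtype, inferInstance, ?_, ?_, ?_, ?_, ?_⟩
  · rintro _ ⟨y, -, rfl⟩
    exact y.2
  · rintro x ⟨hxP, hx⟩
    have h1 : (⟨x, hxP⟩ : P) ∈ centralizer (H : Set P) := by
      rw [mem_centralizer_iff]
      intro y hy
      apply Subtype.ext
      exact mem_centralizer_iff.1 hx y ⟨y, hy, rfl⟩
    exact ⟨⟨x, hxP⟩, hH2 h1, rfl⟩
  · rintro _ ⟨x, hx, rfl⟩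
    exact hcenH _ (hH3 x hx)
  · rintro _ ⟨x, hx, rfl⟩ _ ⟨y, hy, rfl⟩
    have h1 : x * y * x⁻¹ * y⁻¹ ∈ H ⊓ centralizer (H : Set P) := hH1 (commutator_mem_commutator hx (mem_top y))
    exact hcenH _ h1.2
  · intro y hy hyC
    have h1 : MulAut.conjNormal (H := P) y = 1 := by
      refine Critical.eq_one_of_self_centralizing hP H hHn hH2 _ ?_ ?_
      · exact Nat.Coprime.coprime_dvd_left (orderOf_map_dvd _ y) hy
      · intro x hx
        apply Subtype.ext
        rw [MulAut.conjNormal_apply]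
        have := mem_centralizer_iff.1 hyC x ⟨x, hx, rfl⟩
        rw [← this, mul_inv_cancel_right]
    rw [mem_centralizer_iff]
    intro x hx
    have h2 : MulAut.conjNormal (H := P) y ⟨x, hx⟩ = ⟨x, hx⟩ := by rw [h1]; rfl
    have h3 := congrArg Subtype.val h2
    rw [MulAut.conjNormal_apply] at h3
    exact (mul_inv_eq_iff_eq_mul.1 h3).symm

variable {V : Type u} [AddCommGroup V] [Finite V] {G : Type v} [Group G] [Finite G]
  [DistribMulAction G V]

/-- The critical data of a normal `s`-subgroup of a transitive linear group. -/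
theorem critical_data [Nontrivial V] [FaithfulSMul G V]
    (htr : ∀ v w : V, v ≠ 0 → w ≠ 0 → ∃ g : G, g • v = w) {q n : ℕ} [hq : Fact q.Prime]
    (hV : Nat.card V = q ^ n) {s : ℕ} [hs : Fact s.Prime] (P : Subgroup G) (hPn : P.Normal)
    (hP : IsPGroup s P) :
    ∃ (C : Subgroup G) (K : Type u) (_ : Field K) (_ : Finite K) (_ : Module K V) (d m : ℕ),
      C.Normal ∧ C ≤ P ∧ P ⊓ centralizer (C : Set G) ≤ C ∧
      (∀ g : G, ∃ σ : K ≃+* K, ∀ (k : K) (v : V), g • k • v = σ k • g • v) ∧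
      (∀ z ∈ C ⊓ centralizer (C : Set G), ∃ k : K, ∀ v : V, z • v = k • v) ∧
      (∀ g : G, (∀ z ∈ C ⊓ centralizer (C : Set G), z * g = g * z) → ∀ (k : K) (v : V), g • k • v = k • g • v) ∧
      Nat.card K = q ^ d ∧ d * Module.finrank K V = n ∧
      (C ⊓ centralizer (C : Set G)).relIndex C = s ^ (2 * m) ∧ s ^ m ≤ Module.finrank K V ∧
      (∀ y : G, (orderOf y).Coprime s → y ∈ centralizer (C : Set G) → y ∈ centralizer (P : Set G)) ∧
      (∀ (y : G) (r : ℕ), r.Prime → r ≠ s → orderOf y = r → (∀ (k : K) (v : V), y • k • v = k • y • v) →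
        y ∉ centralizer (C : Set G) → ∃ i < m, r ∣ s ^ (2 * (m - i)) - 1 ∧
          (i = 0 → ∀ c ∈ C, y * c = c * y → c ∈ centralizer (C : Set G))) ∧
      (∀ x ∈ C, x ^ s ∈ centralizer (C : Set G)) ∧
      (∀ x ∈ C, ∀ y ∈ C, x * y * x⁻¹ * y⁻¹ ∈ centralizer (C : Set G)) := by
  classical
  obtain ⟨C, hCn, hCP, hPC, hpow, hcomm, hcop⟩ := exists_C P hPn hP
  haveI := hCn
  set Z : Subgroup G := C ⊓ centralizer (C : Set G) with hZ
  have hZn : Z.Normal := inferInstance
  have hZc : ∀ a ∈ Z, ∀ b ∈ C, a * b = b * a := by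
    intro a ha b hb
    exact (mem_centralizer_iff.1 ha.2 b hb).symm
  obtain ⟨K, fK, finK, mK, h1, h2, h3⟩ := exists_field htr Z hZn (fun a ha b hb => hZc a ha b hb.1)
  have hCs : IsPGroup s C := hP.to_le hCP
  -- degrees
  have hKV : Nat.card V = Nat.card K ^ Module.finrank K V := by
    haveI : Module.Finite K V := Module.Finite.of_finite
    exact Module.natCard_eq_pow_finrank
  have hfr : Module.finrank K V ≠ 0 := by
    intro h
    rw [h, pow_zero] at hKV
    have := Finite.one_lt_card_iff_nontrivial.2 ‹Nontrivial V›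
    omega
  obtain ⟨d, hd⟩ : ∃ d, Nat.card K = q ^ d := by
    have h4 : Nat.card K ∣ q ^ n := by
      rw [← hV, hKV]; exact dvd_pow_self _ hfr
    obtain ⟨d, -, hd⟩ := (Nat.dvd_prime_pow hq.out).1 h4
    exact ⟨d, hd⟩
  have hdn : d * Module.finrank K V = n := by
    rw [hV, hd, ← pow_mul] at hKV
    exact (Nat.pow_right_injective hq.out.two_le hKV).symm
  have hlin : ∀ x ∈ C, ∀ (k : K) (v : V), x • k • v = k • x • v := by
    intro x hx
    exact h3 x (fun z hz => hZc z hz x hx)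
  -- centre of `C`
  have hcenC : ∀ x : C, x ∈ center C ↔ (x : G) ∈ Z := by
    intro x
    rw [mem_center_iff]
    constructor
    · intro h
      refine ⟨x.2, mem_centralizer_iff.2 ?_⟩
      intro y hy
      exact congrArg Subtype.val (h ⟨y, hy⟩)
    · intro h y
      apply Subtype.ext
      exact (hZc x h y y.2).symm
  have hcyc : IsCyclic (center C) := by
    have hk : ∀ z : center C, ∃ k : K, ∀ v : V, ((z : C) : G) • v = k • v := fun z =>
      h1 _ ((hcenC z).1 z.2)
    choose κ hκ using hk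
    obtain ⟨v0, hv0⟩ := exists_ne (0 : V)
    have hinjK : ∀ a b : K, (∀ v : V, a • v = b • v) → a = b := fun a b hab =>
      smul_left_injective K hv0 (hab v0)
    let f : center C →* K :=
      { toFun := κ
        map_one' := hinjK _ _ (fun v => by rw [← hκ, one_smul]; exact one_smul G v)
        map_mul' := fun x y => hinjK _ _ (fun v => by
          rw [← hκ, mul_smul, ← hκ, ← hκ, ← mul_smul]; rfl) }
    apply isCyclic_of_subgroup_isDomain f
    intro x y hxy
    apply Subtype.ext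
    apply Subtype.ext
    apply FaithfulSMul.eq_of_smul_eq_smul (α := V)
    intro v
    rw [hκ x, hκ y]
    exact congrArg (· • v) hxy
  obtain ⟨W, aW, fW, π, β, hπs, hπm, hπ0, hcard, hexp, hb1, hb2, halt, hnd, haut⟩ :=
    exists_form (C := C) (s := s) (fun x => by
      rw [hcenC]
      exact ⟨C.pow_mem x.2 s, hpow x x.2⟩) (fun x y => by
      rw [hcenC]
      exact ⟨C.mul_mem (C.mul_mem (C.mul_mem x.2 y.2) (C.inv_mem x.2)) (C.inv_mem y.2), hcomm x x.2 y y.2⟩) hcyc
  obtain ⟨m, hm⟩ := card_eq_pow_even hexp β hb1 hb2 halt hnd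
  have hidx : Z.relIndex C = s ^ (2 * m) := by
    have e1 : Z.subgroupOf C = center C := by
      ext x
      rw [mem_subgroupOf, hcenC]
    rw [relIndex, e1, ← hm]
    have e2 := Subgroup.card_mul_index (center C)
    rw [hcard, mul_comm] at e2
    exact Nat.eq_of_mul_eq_mul_right Nat.card_pos e2
  have hsm : s ^ m ≤ Module.finrank K V := by
    have := index_le_finrank_sq (K := K) C Z h1 (fun x hx y hy => ⟨C.mul_mem (C.mul_mem (C.mul_mem hx hy)
      (C.inv_mem hx)) (C.inv_mem hy), hcomm x hx y hy⟩) (fun x hx h => ⟨hx, mem_centralizer_iff.2 (by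
        intro y hy; exact (h y hy).symm)⟩) hlin
    rw [hidx, mul_comm, pow_mul] at this
    exact (Nat.pow_le_pow_iff_left two_ne_zero).1 this
  refine ⟨C, K, fK, finK, mK, d, m, hCn, hCP, hPC, h2, h1, h3, hd, hdn, hidx, hsm, hcop, ?_, hpow, hcomm⟩
  intro y r hr hrs hyr hyK hyC
  haveI : Fact r.Prime := ⟨hr⟩
  -- `y` centralizes `Z`
  have hyZ : ∀ z ∈ Z, y * z = z * y := by
    intro z hz
    obtain ⟨k, hk⟩ := h1 z hz
    apply FaithfulSMul.eq_of_smul_eq_smul (α := V)
    intro v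
    rw [mul_smul, mul_smul, hk, hk, hyK]
  obtain ⟨y', hy'1, hy'2⟩ := haut (MulAut.conjNormal y) (by
    intro z hz
    apply Subtype.ext
    rw [MulAut.conjNormal_apply, hyZ z ((hcenC z).1 hz), mul_inv_cancel_right])
  have hiter : ∀ (j : ℕ) (x : C), y'^[j] (π x) = π (MulAut.conjNormal (y ^ j) x) := by
    intro j
    induction j with
    | zero => intro x; rw [pow_zero, map_one]; rfl
    | succ j ih =>
      intro x
      rw [Function.iterate_succ_apply', ih, hy'1, pow_succ', map_mul]; rfl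
  obtain ⟨i, him, hi1, hi2⟩ := isometry_prime hexp β hb1 hb2 halt hnd y' hy'2 hrs (fun w => by
    obtain ⟨x, rfl⟩ := hπs w
    rw [hiter, ← hyr, pow_orderOf_eq_one, map_one]; rfl) hm
  have hZs : ∀ z ∈ Z, z ^ r = 1 → z = 1 := by
    intro z hz hzr
    obtain ⟨k, hk⟩ := (IsPGroup.iff_orderOf.1 hCs) ⟨z, hz.1⟩
    rw [Subgroup.orderOf_mk] at hk
    have h5 : orderOf z ∣ r := orderOf_dvd_of_pow_eq_one hzr
    have h6 : Nat.Coprime (s ^ k) r := Nat.Coprime.pow_left _ ((Nat.coprime_primes hs.out hr).2 hrs.symm)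
    rw [hk] at h5
    have h7 := Nat.Coprime.eq_one_of_dvd h6 h5
    rw [h7] at hk
    exact orderOf_eq_one_iff.1 hk
  refine ⟨i, ?_, hi2, ?_⟩
  · rcases lt_or_eq_of_le him with h | h
    · exact h
    exfalso
    -- everything is fixed
    rw [h, ← hm] at hi1
    have hall : ∀ w : W, y' w = w := by
      intro w
      by_contra hw
      have h8 : Nat.card {w : W // y' w = w} < Nat.card W := by
        haveI : Fintype W := Fintype.ofFinite W
        rw [Nat.card_eq_fintype_card, Nat.card_eq_fintype_card]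
        exact Fintype.card_subtype_lt hw
      omega
    apply hyC
    rw [mem_centralizer_iff]
    intro c hc
    -- `y c y⁻¹ = c z`
    obtain ⟨z, hz, hyz⟩ : ∃ z ∈ Z, y * c * y⁻¹ = c * z := by
      have h8 := hall (π ⟨c, hc⟩)
      rw [hy'1] at h8
      have h9 : π ((⟨c, hc⟩ : C)⁻¹ * MulAut.conjNormal y ⟨c, hc⟩) = 0 := by
        have h10 : π ((⟨c, hc⟩ : C)⁻¹) + π ⟨c, hc⟩ = 0 := by
          rw [← hπm, inv_mul_cancel, hπ0]
          exact one_mem _
        rw [hπm, h8, h10]
      rw [hπ0, hcenC] at h9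
      refine ⟨_, h9, ?_⟩
      change _ = c * (c⁻¹ * (y * c * y⁻¹))
      group
    have hpw : ∀ j : ℕ, y ^ j * c * (y ^ j)⁻¹ = c * z ^ j := by
      intro j
      induction j with
      | zero => simp
      | succ j ih =>
        have hyzj : y * z ^ j * y⁻¹ = z ^ j := by
          rw [hyZ _ (Z.pow_mem hz j), mul_inv_cancel_right]
        calc y ^ (j + 1) * c * (y ^ (j + 1))⁻¹ = y * (y ^ j * c * (y ^ j)⁻¹) * y⁻¹ := by
              rw [pow_succ']; group
          _ = y * (c * z ^ j) * y⁻¹ := by rw [ih]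
          _ = (y * c * y⁻¹) * (y * z ^ j * y⁻¹) := by group
          _ = c * z * z ^ j := by rw [hyz, hyzj]
          _ = c * z ^ (j + 1) := by rw [mul_assoc, ← pow_succ']
    have h10 := hpw r
    rw [← hyr, pow_orderOf_eq_one, inv_one, mul_one, one_mul, hyr] at h10
    have h11 : z = 1 := hZs z hz (by
      have := h10.symm
      rwa [mul_eq_left] at this)
    rw [h11, mul_one] at hyz
    exact (mul_inv_eq_iff_eq_mul.1 hyz).symm
  · intro hi0 c hc hyc
    rw [hi0, mul_zero, pow_zero] at hi1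
    have h8 : y' (π ⟨c, hc⟩) = π ⟨c, hc⟩ := by
      rw [hy'1]
      congr 1
      apply Subtype.ext
      rw [MulAut.conjNormal_apply, hyc, mul_inv_cancel_right]
    have h9 : y' (0 : W) = 0 := map_zero y'
    have h10 : π ⟨c, hc⟩ = 0 := by
      haveI := (Nat.card_eq_one_iff_unique.1 hi1).1
      have := Subsingleton.elim (⟨π ⟨c, hc⟩, h8⟩ : {w : W // y' w = w}) ⟨0, h9⟩
      exact congrArg Subtype.val this
    rw [hπ0, hcenC] at h10
    exact h10.2

end Cfsg.Agent.Lib.TransLin
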