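import Cfsg.Agent.Lib.TransLin3
import Cfsg.Agent.Lib.RankTwoNilp
import Cfsg.Agent.Lib.Cores

/-!
# Solvable transitive linear groups: large primes
-/

set_option autoImplicit false
open Cfsg

namespace Cfsg.Agent.Lib.TransLin

open Subgroup

universe u v

/-- `G` is a semilinear group of dimension one -/
def GammaL (G : Type v) (V : Type u) [AddCommGroup V] [Group G] [DistribMulAction G V] : Prop :=
  ∃ (F : Type) (_ : Field F) (_ : Fintype F) (e : V ≃+ F),
    ∀ g : G, ∃ (a : F) (σ : F ≃+* F), ∀ v : V, e (g • v) = a * σ (e v)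

variable {V : Type u} [AddCommGroup V] [Finite V] {G : Type v} [Group G] [Finite G]
  [DistribMulAction G V]

/-- The number of nonzero vectors divides the order of a transitive linear group. -/
theorem card_sub_one_dvd [Nontrivial V]
    (htr : ∀ v w : V, v ≠ 0 → w ≠ 0 → ∃ g : G, g • v = w) : Nat.card V - 1 ∣ Nat.card G := by
  classical
  obtain ⟨v0, hv0⟩ := exists_ne (0 : V)
  have h1 := MulAction.index_stabilizer G v0
  have h2 : MulAction.orbit G v0 = {(0 : V)}ᶜ := by
    ext w
    constructor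
    · rintro ⟨g, rfl⟩
      intro h
      have h0 : g • v0 = 0 := h
      rw [smul_eq_zero_iff_eq] at h0
      exact hv0 h0
    · intro hw
      obtain ⟨g, hg⟩ := htr v0 w hv0 hw
      exact ⟨g, hg⟩
  rw [h2, Set.ncard_compl _ (Set.toFinite _), Set.ncard_singleton] at h1
  rw [← h1]
  exact Subgroup.index_dvd_card _

/-- A transitive linear group has no normal subgroup of order a power of the characteristic. -/
theorem eq_bot_of_isPGroup [Nontrivial V] [FaithfulSMul G V]
    (htr : ∀ v w : V, v ≠ 0 → w ≠ 0 → ∃ g : G, g • v = w) {q n : ℕ} [hq : Fact q.Prime]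
    (hV : Nat.card V = q ^ n) (P : Subgroup G) (hPn : P.Normal) (hP : IsPGroup q P) : P = ⊥ := by
  classical
  haveI : Fintype V := Fintype.ofFinite V
  have h1 := hP.card_modEq_card_fixedPoints V
  have hn : n ≠ 0 := by
    rintro rfl
    rw [pow_zero] at hV
    have := Finite.one_lt_card_iff_nontrivial.2 ‹Nontrivial V›
    omega
  have h2 : q ∣ Nat.card (MulAction.fixedPoints P V) := by
    apply (Nat.modEq_zero_iff_dvd).1
    refine h1.symm.trans ?_
    rw [hV, Nat.modEq_zero_iff_dvd]
    exact dvd_pow_self _ hn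
  have h0 : (0 : V) ∈ MulAction.fixedPoints P V := fun p => smul_zero p
  obtain ⟨v, hv, hv0⟩ : ∃ v ∈ MulAction.fixedPoints P V, v ≠ 0 := by
    by_contra hcon
    push Not at hcon
    have h3 : MulAction.fixedPoints P V = {0} := by
      ext v
      exact ⟨fun h => hcon v h, fun h => by rw [Set.mem_singleton_iff.1 h]; exact h0⟩
    rw [h3] at h2
    rw [Nat.card_unique] at h2
    exact hq.out.one_lt.ne' (Nat.dvd_one.1 h2)
  rw [eq_bot_iff]
  intro x hx
  rw [mem_bot]
  apply FaithfulSMul.eq_of_smul_eq_smul (α := V)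
  intro w
  rw [one_smul]
  by_cases hw : w = 0
  · rw [hw, smul_zero]
  · obtain ⟨g, rfl⟩ := htr v w hv0 hw
    have h3 : g⁻¹ * x * g ∈ P := by
      have := hPn.conj_mem x hx g⁻¹
      rwa [inv_inv] at this
    have h4 : (g⁻¹ * x * g) • v = v := hv ⟨_, h3⟩
    calc x • g • v = g • (g⁻¹ * x * g) • v := by rw [← mul_smul, ← mul_smul]; congr 1; group
      _ = g • v := by rw [h4]

theorem lt_of_primitive {q n r : ℕ} (hq : 1 < q) (hr : r.Prime) (hn : 1 ≤ n) (h : r ∣ q ^ n - 1)
    (hp : ∀ i, 1 ≤ i → i < n → ¬ r ∣ q ^ i - 1) : n < r := by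
  by_contra hcon
  push Not at hcon
  have hr2 := hr.two_le
  have hrq : ¬ r ∣ q := by
    intro h1
    have h2 : r ∣ q ^ n := dvd_pow h1 (by omega)
    have h3 : 0 < q ^ n := Nat.pos_of_ne_zero (pow_ne_zero _ (by omega))
    have h4 : r ∣ q ^ n - (q ^ n - 1) := Nat.dvd_sub h2 h
    have h5 : q ^ n - (q ^ n - 1) = 1 := by omega
    rw [h5] at h4
    exact hr.one_lt.ne' (Nat.dvd_one.1 h4)
  refine hp (r - 1) (by omega) (by omega) ?_
  have h6 := Nat.ModEq.pow_totient (x := q) (n := r) ((Nat.Prime.coprime_iff_not_dvd hr).2 hrq).symm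
  rw [Nat.totient_prime hr] at h6
  exact (Nat.modEq_iff_dvd' (Nat.one_le_pow _ _ (by omega))).1 h6.symm

/-- The field of an abelian normal subgroup, with degrees. -/
theorem exists_field' [Nontrivial V] [FaithfulSMul G V]
    (htr : ∀ v w : V, v ≠ 0 → w ≠ 0 → ∃ g : G, g • v = w) {q n : ℕ} [hq : Fact q.Prime]
    (hV : Nat.card V = q ^ n)
    (N : Subgroup G) (hN : N.Normal) (hNc : ∀ a ∈ N, ∀ b ∈ N, a * b = b * a) :
    ∃ (K : Type u) (_ : Field K) (_ : Finite K) (_ : Module K V) (d : ℕ),
      (∀ n ∈ N, ∃ k : K, ∀ v : V, n • v = k • v) ∧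
      (∀ g : G, ∃ σ : K ≃+* K, ∀ (k : K) (v : V), g • k • v = σ k • g • v) ∧
      (∀ g : G, (∀ n ∈ N, n * g = g * n) → ∀ (k : K) (v : V), g • k • v = k • g • v) ∧
      Nat.card K = q ^ d ∧ d * Module.finrank K V = n ∧ (∀ x ∈ N, orderOf x ∣ q ^ d - 1) ∧
      Nat.card N ∣ q ^ d - 1 ∧ (d = n → GammaL G V) := by
  classical
  obtain ⟨K, fK, finK, mK, h1, h2, h3⟩ := exists_field htr N hN hNc
  have hKV : Nat.card V = Nat.card K ^ Module.finrank K V := by
    haveI : Module.Finite K V := Module.Finite.of_finite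
    exact Module.natCard_eq_pow_finrank
  have hfr : Module.finrank K V ≠ 0 := by
    intro h
    rw [h, pow_zero] at hKV
    have := Finite.one_lt_card_iff_nontrivial.2 ‹Nontrivial V›
    omega
  obtain ⟨d, hd⟩ : ∃ d, Nat.card K = q ^ d := by
    have h4 : Nat.card K ∣ q ^ n := by
      rw [← hV, hKV]; exact dvd_pow_self _ hfr
    obtain ⟨d, -, hd⟩ := (Nat.dvd_prime_pow hq.out).1 h4
    exact ⟨d, hd⟩
  have hdn : d * Module.finrank K V = n := by
    rw [hV, hd, ← pow_mul] at hKV
    exact (Nat.pow_right_injective hq.out.two_le hKV).symm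
  obtain ⟨v0, hv0⟩ := exists_ne (0 : V)
  choose κ hκ using h1
  have hinjK : ∀ a b : K, (∀ v : V, a • v = b • v) → a = b := fun a b hab =>
    smul_left_injective K hv0 (hab v0)
  let f : N →* K :=
    { toFun := fun x => κ x x.2
      map_one' := hinjK _ _ (fun v => by rw [← hκ, one_smul]; exact one_smul G v)
      map_mul' := fun x y => hinjK _ _ (fun v => by
        rw [← hκ, mul_smul, ← hκ, ← hκ, ← mul_smul]; rfl) }
  let f' : N →* Kˣ := f.toHomUnits
  have hf' : Function.Injective f' := by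
    intro x y hxy
    have h4 : f x = f y := by
      have := congrArg (fun u : Kˣ => (u : K)) hxy
      simpa [f'] using this
    apply Subtype.ext
    apply FaithfulSMul.eq_of_smul_eq_smul (α := V)
    intro v
    rw [hκ x x.2, hκ y y.2]
    exact congrArg (· • v) h4
  have hKu : Nat.card Kˣ = q ^ d - 1 := by rw [Nat.card_units, hd]
  have hNd : Nat.card N ∣ q ^ d - 1 := by
    rw [← hKu]; exact Subgroup.card_dvd_of_injective f' hf'
  refine ⟨K, fK, finK, mK, d, fun n hn => ⟨κ n hn, hκ n hn⟩, h2, h3, hd, hdn, ?_, hNd, ?_⟩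
  · intro x hx
    refine dvd_trans ?_ hNd
    rw [← Subgroup.orderOf_mk x hx]
    exact orderOf_dvd_natCard _
  · intro hdn'
    exact gammaL_of (K := K) (by rw [hd, hV, hdn']) h2

/-- If a primitive prime divides the order of the Fitting subgroup the group is semilinear. -/
theorem gammaL_of_pCore_ne_bot [Nontrivial V] [FaithfulSMul G V]
    (htr : ∀ v w : V, v ≠ 0 → w ≠ 0 → ∃ g : G, g • v = w) {q n : ℕ} [hq : Fact q.Prime]
    (hV : Nat.card V = q ^ n) {r : ℕ} [hr : Fact r.Prime] (hrp : ∀ i, 1 ≤ i → i < n → ¬ r ∣ q ^ i - 1)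
    (hcore : pCore r G ≠ ⊥) : GammaL G V := by
  classical
  have hn : n ≠ 0 := by
    rintro rfl
    rw [pow_zero] at hV
    have := Finite.one_lt_card_iff_nontrivial.2 ‹Nontrivial V›
    omega
  have hP : IsPGroup r (pCore r G) := Fitting.isPGroup_pCore r
  haveI hPn : (pCore r G).Normal := Fitting.normal_pCore r
  haveI : Nontrivial (pCore r G) := (Subgroup.nontrivial_iff_ne_bot _).2 hcore
  have h1 := hP.center_nontrivial
  set N : Subgroup G := (center (pCore r G)).map (pCore r G).subtype with hN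
  have hNn : N.Normal := inferInstance
  obtain ⟨K, fK, finK, mK, d, -, -, -, hd, hdn, hord, -, hG⟩ := exists_field' htr hV N hNn (by
    rintro _ ⟨a, ha, rfl⟩ _ ⟨b, hb, rfl⟩
    exact congrArg Subtype.val (mem_center_iff.1 hb a))
  apply hG
  obtain ⟨z, hz⟩ := exists_ne (1 : center (pCore r G))
  -- an element of order `r`
  have hzr : ∃ x ∈ N, r ∣ orderOf x := by
    refine ⟨((z : pCore r G) : G), ⟨z, z.2, rfl⟩, ?_⟩
    obtain ⟨k, hk⟩ := (IsPGroup.iff_orderOf.1 hP) (z : pCore r G)
    rw [Subgroup.orderOf_coe, hk]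
    refine dvd_pow_self _ ?_
    rintro rfl
    rw [pow_zero, orderOf_eq_one_iff] at hk
    exact hz (Subtype.ext hk)
  obtain ⟨x, hxN, hx⟩ := hzr
  have h2 : r ∣ q ^ d - 1 := hx.trans (hord x hxN)
  have hd0 : d ≠ 0 := by
    rintro rfl
    rw [zero_mul] at hdn
    exact hn hdn.symm
  by_contra hne
  refine hrp d (by omega) ?_ h2
  have : d ∣ n := ⟨_, hdn.symm⟩
  exact lt_of_le_of_ne (Nat.le_of_dvd (by omega) this) hne

/-- An element not in the Fitting subgroup moves some `O_s(G)`. -/
theorem exists_pCore_moved {G : Type v} [Group G] [Finite G] [Group.IsSolvable G] {r : ℕ} [hr : Fact r.Prime]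
    (hcore : pCore r G = ⊥) {y : G} (hy : orderOf y = r) :
    ∃ s : ℕ, s.Prime ∧ s ≠ r ∧ y ∉ centralizer (pCore s G : Set G) := by
  by_contra hcon
  push Not at hcon
  have h1 : y ∈ centralizer (fittingSubgroup G : Set G) := by
    rw [Fitting.fittingSubgroup_eq_iSup_pCore, Subgroup.mem_centralizer_iff]
    intro x hx
    have h2 : (⨆ p : Nat.Primes, pCore (p : ℕ) G) ≤ centralizer ({y} : Set G) := by
      apply iSup_le
      rintro ⟨p, hp⟩ z hz
      rw [mem_centralizer_singleton_iff]
      by_cases hpr : p = r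
      · subst hpr
        rw [hcore, mem_bot] at hz
        rw [hz, one_mul, mul_one]
      · exact mem_centralizer_iff.1 (hcon p hp hpr) z hz
    exact mem_centralizer_singleton_iff.1 (h2 hx)
  have h2 := Fitting.centralizer_fittingSubgroup_le h1
  have h3 := RankTwoNilp.mem_pCore_of_mem_fitting (q := r) (k := 1) h2 (by
    rw [pow_one, ← hy, pow_orderOf_eq_one])
  rw [hcore, mem_bot] at h3
  rw [h3, orderOf_one] at hy
  exact hr.out.one_lt.ne' hy.symm

theorem le_of_dvd_pow_sub {r s j : ℕ} (hr : r.Prime) (hs : 2 ≤ s) (hj : 1 ≤ j) (h : r ∣ s ^ (2 * j) - 1) :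
    r ≤ s ^ j + 1 := by
  have h1 : s ^ (2 * j) - 1 = (s ^ j - 1) * (s ^ j + 1) := by
    have : 1 ≤ s ^ j := Nat.one_le_pow _ _ (by omega)
    obtain ⟨c, hc⟩ := Nat.exists_eq_add_of_le this
    rw [mul_comm 2 j, pow_mul, hc]
    have h2 : (1 + c) ^ 2 = 1 + (c * c + 2 * c) := by ring
    rw [h2, Nat.add_sub_cancel_left, Nat.add_sub_cancel_left]
    ring
  rw [h1] at h
  have h2 : 2 ≤ s ^ j := by
    calc 2 ≤ s ^ 1 := by rw [pow_one]; exact hs
      _ ≤ s ^ j := Nat.pow_le_pow_right (by omega) hj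
  rcases (Nat.Prime.dvd_mul hr).1 h with h3 | h3
  · have := Nat.le_of_dvd (by omega) h3
    omega
  · exact Nat.le_of_dvd (by omega) h3

/-- The action of large primes. -/
theorem large_prime [Nontrivial V] [FaithfulSMul G V] [Group.IsSolvable G]
    (htr : ∀ v w : V, v ≠ 0 → w ≠ 0 → ∃ g : G, g • v = w) {q n : ℕ} [hq : Fact q.Prime]
    (hV : Nat.card V = q ^ n) (hn : 2 ≤ n) {r : ℕ} [hr : Fact r.Prime] (hrn : n < r)
    (hcore : pCore r G = ⊥) (hrG : r ∣ Nat.card G) :
    r = n + 1 ∧ (∃ m : ℕ, n = 2 ^ m) ∧ q ≠ 2 ∧ ¬ r ^ 2 ∣ Nat.card G := by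
  classical
  have key : ∀ y : G, orderOf y = r → ∀ s : ℕ, s.Prime → s ≠ r → y ∉ centralizer (pCore s G : Set G) →
      ∃ m, s ^ m = n ∧ r = n + 1 := by
    intro y hy s hs hsr hys
    haveI : Fact s.Prime := ⟨hs⟩
    obtain ⟨C, K, fK, finK, mK, d, m, hCn, hCP, hPC, hK2, hK1, hK3, hd, hdn, hidx, hsm, hcop, hact, hpowC, hcommC⟩ :=
      critical_data htr hV (pCore s G) (Fitting.normal_pCore s) (Fitting.isPGroup_pCore s)
    have hfr : Module.finrank K V ≠ 0 := by
      intro h
      rw [h, mul_zero] at hdn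
      omega
    have hdle : d ≤ n := by
      rw [← hdn]; exact Nat.le_mul_of_pos_right d (Nat.pos_of_ne_zero hfr)
    have hlin := linear_of_prime hd hr.out (lt_of_le_of_lt hdle hrn) (by rw [← hy, pow_orderOf_eq_one]) (hK2 y)
    have hyC : y ∉ centralizer (C : Set G) := fun h => hys (hcop y (by
      rw [hy]; exact (Nat.coprime_primes hr.out hs).2 hsr.symm) h)
    obtain ⟨i, him, hi1, hi2⟩ := hact y r hr.out hsr.symm hy hlin hyC
    have h1 := le_of_dvd_pow_sub hr.out hs.two_le (by omega : 1 ≤ m - i) hi1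
    have hd0 : d ≠ 0 := by
      rintro rfl
      rw [zero_mul] at hdn
      omega
    have h2 : Module.finrank K V ≤ n := by
      rw [← hdn]; exact Nat.le_mul_of_pos_left _ (Nat.pos_of_ne_zero hd0)
    have h3 : s ^ (m - i) ≤ s ^ m := Nat.pow_le_pow_right hs.pos (by omega)
    exact ⟨m, by omega, by omega⟩
  obtain ⟨y, hy⟩ := exists_prime_orderOf_dvd_card' r hrG
  obtain ⟨s, hs, hsr, hys⟩ := exists_pCore_moved hcore hy
  obtain ⟨m, hm, hrn1⟩ := key y hy s hs hsr hys
  -- `s = 2`
  have hpow : ∀ s : ℕ, s.Prime → (∃ m, s ^ m = n) → s = 2 := by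
    intro s hs ⟨m, hm⟩
    have h1 : Even n := by
      have h2 : Odd r := hr.out.odd_of_ne_two (by omega)
      rw [hrn1] at h2
      rcases Nat.even_or_odd n with h3 | h3
      · exact h3
      · exfalso
        have := h3.add_one
        exact (Nat.not_even_iff_odd.2 h2) this
    rw [← hm, Nat.even_pow] at h1
    exact (Nat.prime_dvd_prime_iff_eq Nat.prime_two hs).1 (even_iff_two_dvd.1 h1.1) |>.symm
  have hs2 := hpow s hs ⟨m, hm⟩
  subst hs2
  refine ⟨hrn1, ⟨m, hm.symm⟩, ?_, ?_⟩
  · rintro rfl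
    apply hys
    rw [eq_bot_of_isPGroup htr hV (pCore 2 G) (Fitting.normal_pCore 2) (Fitting.isPGroup_pCore 2), mem_centralizer_iff]
    intro x hx
    rw [show x = 1 from hx, one_mul, mul_one]
  · intro hr2
    -- all elements of order `r` move `O_2(G)`
    have hmove : ∀ x : G, orderOf x = r → x ∉ centralizer (pCore 2 G : Set G) := by
      intro x hx
      obtain ⟨t, ht, htr', hxt⟩ := exists_pCore_moved hcore hx
      obtain ⟨m', hm', -⟩ := key x hx t ht htr' hxt
      rwa [hpow t ht ⟨m', hm'⟩] at hxt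
    obtain ⟨C, K, fK, finK, mK, d, m', hCn, hCP, hPC, hK2, hK1, hK3, hd, hdn, hidx, hsm, hcop, hact, hpowC, hcommC⟩ :=
      critical_data htr hV (pCore 2 G) (Fitting.normal_pCore 2) (Fitting.isPGroup_pCore 2)
    have hfr : Module.finrank K V ≠ 0 := by
      intro h
      rw [h, mul_zero] at hdn
      omega
    have hdle : d ≤ n := by
      rw [← hdn]; exact Nat.le_mul_of_pos_right d (Nat.pos_of_ne_zero hfr)
    have hd0 : d ≠ 0 := by
      rintro rfl
      rw [zero_mul] at hdn
      omega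
    have hfn : Module.finrank K V ≤ n := by
      rw [← hdn]; exact Nat.le_mul_of_pos_left _ (Nat.pos_of_ne_zero hd0)
    have hall : ∀ x : G, orderOf x = r → 2 ^ m' = n ∧ ∀ c ∈ C, x * c = c * x → c ∈ centralizer (C : Set G) := by
      intro x hx
      have hlin := linear_of_prime hd hr.out (lt_of_le_of_lt hdle hrn) (by rw [← hx, pow_orderOf_eq_one]) (hK2 x)
      have hxC : x ∉ centralizer (C : Set G) := fun h => hmove x hx (hcop x (by
        rw [hx]; exact (Nat.coprime_primes hr.out Nat.prime_two).2 hsr.symm) h)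
      obtain ⟨i, him, hi1, hi2⟩ := hact x r hr.out hsr.symm hx hlin hxC
      have h1 := le_of_dvd_pow_sub hr.out le_rfl (by omega : 1 ≤ m' - i) hi1
      have hi0 : i = 0 := by
        by_contra hi0
        have h3 : 2 ^ (m' - i) < 2 ^ m' := Nat.pow_lt_pow_right (by norm_num) (by omega)
        omega
      refine ⟨?_, hi2 hi0⟩
      rw [hi0, Nat.sub_zero] at h1
      omega
    have hm'n := (hall y hy).1
    -- a subgroup of order `r^2`
    obtain ⟨R, hR⟩ := Sylow.exists_subgroup_card_pow_prime r hr2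
    have hfix : ∀ x ∈ R, x ≠ 1 → ∀ c ∈ C, x * c = c * x → c ∈ centralizer (C : Set G) := by
      intro x hx hx1 c hc hxc
      -- a power of order `r`
      have h1 : orderOf x ∣ r ^ 2 := by
        rw [← hR, ← Subgroup.orderOf_mk x hx]
        exact orderOf_dvd_natCard _
      obtain ⟨k, hk, hxk⟩ := (Nat.dvd_prime_pow hr.out).1 h1
      have hk0 : k ≠ 0 := by
        rintro rfl
        rw [pow_zero, orderOf_eq_one_iff] at hxk
        exact hx1 hxk
      have h2 : orderOf (x ^ (r ^ (k - 1))) = r := by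
        rw [orderOf_pow_of_dvd (pow_ne_zero _ hr.out.ne_zero) (by rw [hxk]; exact pow_dvd_pow _ (by omega)), hxk,
          Nat.pow_div (by omega) hr.out.pos]
        rw [show k - (k - 1) = 1 by omega, pow_one]
      refine (hall _ h2).2 c hc ?_
      exact (Commute.pow_left (show Commute x c from hxc) _).eq
    -- `R` acts on `C \ Z` freely
    haveI := hCn
    let X := {c : G // c ∈ C ∧ c ∉ centralizer (C : Set G)}
    letI act : MulAction R X :=
      { smul := fun x c => ⟨(x : G) * c * (x : G)⁻¹, hCn.conj_mem _ c.2.1 _, by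
          intro h
          apply c.2.2
          have h1 : (centralizer (C : Set G)).Normal := inferInstance
          have h2 := h1.conj_mem _ h (x : G)⁻¹
          have h3 : (x : G)⁻¹ * ((x : G) * c * (x : G)⁻¹) * ((x : G)⁻¹)⁻¹ = c := by group
          rwa [h3] at h2⟩
        one_smul := by
          rintro ⟨c, hc⟩
          apply Subtype.ext
          change ((1 : R) : G) * c * ((1 : R) : G)⁻¹ = c
          simp
        mul_smul := by
          rintro x y ⟨c, hc⟩
          apply Subtype.ext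
          change ((x * y : R) : G) * c * ((x * y : R) : G)⁻¹ = x * (y * c * (y : G)⁻¹) * (x : G)⁻¹
          rw [Subgroup.coe_mul]; group }
    have hfree := FrobGroup.card_dvd_of_free (H := R) (X := X) (by
      rintro ⟨x, hx⟩ ⟨c, hc1, hc2⟩ hxc
      by_contra hne
      apply hc2
      apply hfix x hx (fun h => hne (Subtype.ext h)) c hc1
      have h1 : x * c * x⁻¹ = c := congrArg Subtype.val hxc
      exact mul_inv_eq_iff_eq_mul.1 h1)
    rw [hR] at hfree
    -- count `X`
    have hX : Nat.card X + Nat.card (C ⊓ centralizer (C : Set G) : Subgroup G) = Nat.card C := by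
      haveI : Fintype G := Fintype.ofFinite G
      rw [Nat.card_eq_fintype_card, Nat.card_eq_fintype_card, Nat.card_eq_fintype_card, Fintype.card_subtype,
        Fintype.card_subtype, Fintype.card_subtype, ← Finset.card_union_of_disjoint]
      · congr 1
        ext c
        simp only [Finset.mem_union, Finset.mem_filter, Finset.mem_univ, true_and, mem_inf]
        tauto
      · rw [Finset.disjoint_left]
        intro c
        simp only [Finset.mem_filter, Finset.mem_univ, true_and, mem_inf]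
        tauto
    have hC1 : Nat.card (C ⊓ centralizer (C : Set G) : Subgroup G) * 2 ^ (2 * m') = Nat.card C := by
      rw [← hidx]
      exact Cores.card_mul_relIndex inf_le_left
    have hX2 : Nat.card X = Nat.card (C ⊓ centralizer (C : Set G) : Subgroup G) * (2 ^ (2 * m') - 1) := by
      rw [Nat.mul_sub, mul_one, hC1]
      omega
    rw [hX2] at hfree
    have hcopZ : (r ^ 2).Coprime (Nat.card (C ⊓ centralizer (C : Set G) : Subgroup G)) := by
      apply Nat.Coprime.pow_left
      have h1 : IsPGroup 2 (C ⊓ centralizer (C : Set G) : Subgroup G) :=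
        (Fitting.isPGroup_pCore 2).to_le (inf_le_left.trans hCP)
      obtain ⟨k, hk⟩ := IsPGroup.iff_card.1 h1
      rw [hk]
      exact Nat.Coprime.pow_right _ ((Nat.coprime_primes hr.out Nat.prime_two).2 hsr.symm)
    have h1 := hcopZ.dvd_of_dvd_mul_left hfree
    have h2 : 2 ^ (2 * m') - 1 = (n - 1) * r := by
      rw [hrn1, mul_comm 2 m', pow_mul, hm'n]
      obtain ⟨c, hc⟩ := Nat.exists_eq_add_of_le (show 1 ≤ n by omega)
      rw [hc]
      have h3 : (1 + c) ^ 2 = 1 + (c * (1 + c + 1)) := by ring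
      rw [h3, Nat.add_sub_cancel_left, Nat.add_sub_cancel_left]
    rw [h2, sq] at h1
    have h3 := Nat.dvd_of_mul_dvd_mul_right hr.out.pos h1
    have h4 := Nat.le_of_dvd (by omega) h3
    omega

end Cfsg.Agent.Lib.TransLin
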