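import Cfsg.Agent.Lib.TransLin4
import Cfsg.Agent.Lib.Zsigmondy

/-!
# Solvable transitive linear groups: degree at least three
-/

set_option autoImplicit false
open Cfsg

namespace Cfsg.Agent.Lib.TransLin

open Subgroup

universe u v

variable {V : Type u} [AddCommGroup V] [Finite V] {G : Type v} [Group G] [Finite G]
  [DistribMulAction G V]

/-- `2^6` -/
theorem gammaL_64 [Nontrivial V] [FaithfulSMul G V] [Group.IsSolvable G]
    (htr : ∀ v w : V, v ≠ 0 → w ≠ 0 → ∃ g : G, g • v = w)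
    (hV : Nat.card V = 2 ^ 6) : GammaL G V := by
  classical
  haveI : Fact (Nat.Prime 2) := ⟨Nat.prime_two⟩
  haveI h7 : Fact (Nat.Prime 7) := ⟨by norm_num⟩
  by_contra hG
  have hdvd : 63 ∣ Nat.card G := by
    have := card_sub_one_dvd htr
    rwa [hV] at this
  have h7G : 7 ∣ Nat.card G := dvd_trans (by norm_num) hdvd
  have hc7 : pCore 7 G ≠ ⊥ := by
    intro h
    obtain ⟨-, ⟨m, hm⟩, -, -⟩ := large_prime htr hV (by norm_num) (r := 7) (by norm_num) h h7G
    have hm3 : m < 3 := by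
      by_contra hc
      have : 2 ^ 3 ≤ 2 ^ m := Nat.pow_le_pow_right (by norm_num) (by omega)
      omega
    interval_cases m <;> omega
  haveI hPn : (pCore 7 G).Normal := Fitting.normal_pCore 7
  have hP : IsPGroup 7 (pCore 7 G) := Fitting.isPGroup_pCore 7
  -- centre of a nontrivial core
  have hcen : ∀ s : ℕ, s.Prime → pCore s G ≠ ⊥ → ∃ x ∈ pCore s G ⊓ centralizer (pCore s G : Set G), s ∣ orderOf x := by
    intro s hs h
    haveI : Fact s.Prime := ⟨hs⟩
    have hP : IsPGroup s (pCore s G) := Fitting.isPGroup_pCore s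
    haveI hPn : (pCore s G).Normal := Fitting.normal_pCore s
    haveI : Nontrivial (pCore s G) := (Subgroup.nontrivial_iff_ne_bot _).2 h
    have h1 := hP.center_nontrivial
    obtain ⟨z, hz⟩ := exists_ne (1 : center (pCore s G))
    refine ⟨((z : pCore s G) : G), ⟨(z : pCore s G).2, ?_⟩, ?_⟩
    · refine mem_centralizer_iff.2 ?_
      intro y hy
      exact congrArg Subtype.val (mem_center_iff.1 z.2 ⟨y, hy⟩)
    · obtain ⟨k, hk⟩ := (IsPGroup.iff_orderOf.1 hP) (z : pCore s G)
      rw [Subgroup.orderOf_coe, hk]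
      refine dvd_pow_self _ ?_
      rintro rfl
      rw [pow_zero, orderOf_eq_one_iff] at hk
      exact hz (Subtype.ext hk)
  -- degrees
  have hdeg : ∀ d f : ℕ, d * f = 6 → d ≠ 6 → 7 ∣ 2 ^ d - 1 → d = 3 := by
    intro d f hdf hd6 h
    have hd : d ∣ 6 := ⟨f, hdf.symm⟩
    have hle := Nat.le_of_dvd (by norm_num) hd
    interval_cases d <;> simp_all
  have hone : ∀ s : ℕ, s.Prime → s ≠ 7 → pCore s G = ⊥ := by
    intro s hs hs7
    by_contra hne
    haveI : Fact s.Prime := ⟨hs⟩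
    haveI hPsn : (pCore s G).Normal := Fitting.normal_pCore s
    obtain ⟨x, hx, hxs⟩ := hcen s hs hne
    obtain ⟨y, hy, hy7⟩ := hcen 7 (by norm_num) hc7
    set A := pCore s G ⊓ centralizer (pCore s G : Set G) with hA
    set B := pCore 7 G ⊓ centralizer (pCore 7 G : Set G) with hB
    have hAn : A.Normal := inferInstance
    have hBn : B.Normal := inferInstance
    have hdis : Disjoint (pCore s G) (pCore 7 G) :=
      IsPGroup.disjoint_of_ne s 7 hs7 _ _ (Fitting.isPGroup_pCore s) hP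
    have hAB : ∀ a ∈ A, ∀ b ∈ B, a * b = b * a := fun a ha b hb =>
      Subgroup.commute_of_normal_of_disjoint _ _ hPsn hPn hdis a b ha.1 hb.1
    have hcomm : ∀ a ∈ A ⊔ B, ∀ b ∈ A ⊔ B, a * b = b * a := by
      intro a ha b hb
      obtain ⟨a1, ha1, b1, hb1, rfl⟩ := Subgroup.mem_sup_of_normal_right.1 ha
      obtain ⟨a2, ha2, b2, hb2, rfl⟩ := Subgroup.mem_sup_of_normal_right.1 hb
      have c1 : Commute a1 a2 := (mem_centralizer_iff.1 ha1.2 a2 ha2.1).symm
      have c2 : Commute b1 b2 := (mem_centralizer_iff.1 hb1.2 b2 hb2.1).symm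
      have c3 : Commute a1 b2 := hAB a1 ha1 b2 hb2
      have c4 : Commute b1 a2 := (hAB a2 ha2 b1 hb1 : Commute a2 b1).symm
      exact ((c1.mul_right c3).mul_left (c4.mul_right c2)).eq
    obtain ⟨K, fK, finK, mK, d, -, -, -, hd, hdn, hord, -, hGL⟩ := exists_field' htr hV (A ⊔ B) inferInstance hcomm
    have hd6 : d ≠ 6 := fun h => hG (hGL h)
    have h1 : 7 ∣ 2 ^ d - 1 := hy7.trans (hord y ((le_sup_right : B ≤ A ⊔ B) hy))
    have h2 : s ∣ 2 ^ d - 1 := hxs.trans (hord x ((le_sup_left : A ≤ A ⊔ B) hx))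
    have h3 := hdeg d _ hdn hd6 h1
    rw [h3] at h2
    exact hs7 ((Nat.prime_dvd_prime_iff_eq hs (by norm_num)).1 h2)
  have hF : fittingSubgroup G = pCore 7 G := by
    rw [Fitting.fittingSubgroup_eq_iSup_pCore]
    apply le_antisymm
    · apply iSup_le
      rintro ⟨p, hp⟩
      by_cases hp7 : p = 7
      · subst hp7; exact le_rfl
      · change pCore p G ≤ _
        rw [hone p hp hp7]; exact bot_le
    · exact le_iSup (fun p : Nat.Primes => pCore (p : ℕ) G) ⟨7, by norm_num⟩
  have hcc : centralizer (pCore 7 G : Set G) ≤ pCore 7 G := by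
    rw [← hF]; exact Fitting.centralizer_fittingSubgroup_le
  -- the critical subgroup has order `7`
  obtain ⟨C, K, fK, finK, mK, d, m, hCn, hCP, hPC, hK2, hK1, hK3, hd, hdn, hidx, hsm, hcop, hact, hpowC, hcommC⟩ :=
    critical_data htr hV (pCore 7 G) (Fitting.normal_pCore 7) (Fitting.isPGroup_pCore 7)
  haveI := hCn
  have hm0 : m = 0 := by
    by_contra hm
    have h1 : 7 ^ 1 ≤ 7 ^ m := Nat.pow_le_pow_right (by norm_num) (by omega)
    have h2 : Module.finrank K V ≤ 6 := by
      have : Module.finrank K V ∣ 6 := ⟨d, by rw [mul_comm]; exact hdn.symm⟩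
      exact Nat.le_of_dvd (by norm_num) this
    omega
  rw [hm0, mul_zero, pow_zero, relIndex_eq_one] at hidx
  have hCc : ∀ a ∈ C, ∀ b ∈ C, a * b = b * a := fun a ha b hb => (mem_centralizer_iff.1 (hidx ha).2 b hb).symm
  obtain ⟨K', fK', finK', mK', d', -, -, -, hd', hdn', hord', hcard', hGL'⟩ := exists_field' htr hV C hCn hCc
  have hCb : C ≠ ⊥ := by
    intro h
    apply hc7
    rw [eq_bot_iff, ← h]
    intro x hx
    apply hPC
    refine ⟨hx, ?_⟩
    refine mem_centralizer_iff.2 ?_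
    intro y hy
    rw [h] at hy
    rw [show y = 1 from hy, one_mul, mul_one]
  have hC7 : 7 ∣ Nat.card C := by
    have h1 : IsPGroup 7 C := hP.to_le hCP
    obtain ⟨k, hk⟩ := IsPGroup.iff_card.1 h1
    rw [hk]
    refine dvd_pow_self _ ?_
    rintro rfl
    rw [pow_zero] at hk
    exact hCb (Subgroup.card_eq_one.1 hk)
  have hd'3 : d' = 3 := hdeg d' _ hdn' (fun h => hG (hGL' h)) (hC7.trans hcard')
  have hCcard : Nat.card C = 7 := by
    rw [hd'3] at hcard'
    exact Nat.dvd_antisymm hcard' hC7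
  -- `O_7(G)` centralizes `C`
  have hPcent : pCore 7 G ≤ centralizer (C : Set G) := by
    set C' : Subgroup (pCore 7 G) := C.subgroupOf (pCore 7 G) with hC'
    haveI : C'.Normal := inferInstance
    have h1 : Nat.card C' = 7 := by
      rw [hC', Nat.card_congr (subgroupOfEquivOfLe hCP).toEquiv, hCcard]
    have h2 := PGroupRank.le_center_of_card_eq_prime hP (A := C') inferInstance h1
    intro x hx
    refine mem_centralizer_iff.2 ?_
    intro y hy
    have h3 : (⟨y, hCP hy⟩ : pCore 7 G) ∈ center (pCore 7 G) := h2 (mem_subgroupOf.2 hy)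
    exact (congrArg Subtype.val (mem_center_iff.1 h3 ⟨x, hx⟩)).symm
  have hPeq : pCore 7 G = C := le_antisymm (fun x hx => hPC ⟨hx, hPcent hx⟩) hCP
  -- order of `G`
  obtain ⟨x, hx, hx1⟩ : ∃ x ∈ C, x ≠ 1 := by
    by_contra hcon
    push Not at hcon
    exact hCb ((eq_bot_iff_forall C).2 hcon)
  have hcx : centralizer ({x} : Set G) ≤ C := by
    rw [← hPeq]
    refine le_trans ?_ hcc
    rw [hPeq]
    intro g hg
    refine mem_centralizer_iff.2 ?_
    intro y hy
    -- `C` is generated by `x`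
    have h1 : orderOf x = 7 := by
      have h2 : orderOf x ∣ 7 := by
        rw [← hCcard, ← Subgroup.orderOf_mk x hx]; exact orderOf_dvd_natCard _
      rcases (Nat.dvd_prime (by norm_num)).1 h2 with h3 | h3
      · exact absurd (orderOf_eq_one_iff.1 h3) hx1
      · exact h3
    have h2 : zpowers x = C := by
      apply Subgroup.eq_of_le_of_card_ge
      · rw [zpowers_le]; exact hx
      · rw [Nat.card_zpowers, h1, hCcard]
    have hy' : y ∈ zpowers x := by rw [h2]; exact hy
    obtain ⟨j, rfl⟩ := mem_zpowers_iff.1 hy'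
    have h3 : Commute x g := (mem_centralizer_singleton_iff.1 hg).symm
    exact (h3.zpow_left j).eq
  have hidx6 : (centralizer ({x} : Set G)).index ≤ 6 := by
    have e1 : Nat.card {y : C // y ≠ 1} = 6 := by
      haveI : Fintype C := Fintype.ofFinite C
      rw [Nat.card_eq_fintype_card, Fintype.card_subtype_compl, ← Nat.card_eq_fintype_card, hCcard]
      simp
    rw [← e1, Subgroup.index]
    let φ : G → {y : C // y ≠ 1} := fun g => ⟨⟨g * x * g⁻¹, hCn.conj_mem x hx g⟩, fun h => hx1 (by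
      have h1 : g * x * g⁻¹ = 1 := congrArg Subtype.val h
      exact conj_eq_one_iff.1 h1)⟩
    have hφ : ∀ a b : G, φ a = φ b ↔ a⁻¹ * b ∈ centralizer ({x} : Set G) := by
      intro a b
      rw [mem_centralizer_singleton_iff]
      constructor
      · intro h
        have h1 : a * x * a⁻¹ = b * x * b⁻¹ := congrArg (fun z : {y : C // y ≠ 1} => ((z : C) : G)) h
        calc a⁻¹ * b * x = a⁻¹ * (b * x * b⁻¹) * b := by group
          _ = a⁻¹ * (a * x * a⁻¹) * b := by rw [h1]
          _ = x * (a⁻¹ * b) := by group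
      · intro h
        apply Subtype.ext
        apply Subtype.ext
        change a * x * a⁻¹ = b * x * b⁻¹
        calc a * x * a⁻¹ = a * (x * (a⁻¹ * b)) * b⁻¹ := by group
          _ = a * (a⁻¹ * b * x) * b⁻¹ := by rw [h]
          _ = b * x * b⁻¹ := by group
    refine Nat.card_le_card_of_injective (Quotient.lift φ (fun a b hab => (hφ a b).2 (QuotientGroup.leftRel_apply.1 hab))) ?_
    intro a b hab
    induction a using QuotientGroup.induction_on with
    | H a =>
      induction b using QuotientGroup.induction_on with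
      | H b =>
        exact QuotientGroup.eq.2 ((hφ a b).1 hab)
  have h1 := Subgroup.card_mul_index (centralizer ({x} : Set G))
  have h2 : Nat.card (centralizer ({x} : Set G)) ≤ 7 := by
    rw [← hCcard]; exact Subgroup.card_le_of_le hcx
  have h3 := Nat.le_of_dvd Nat.card_pos hdvd
  have h4 : Nat.card (centralizer ({x} : Set G)) * (centralizer ({x} : Set G)).index ≤ 7 * 6 :=
    Nat.mul_le_mul h2 hidx6
  omega

/-- **Huppert**, degree at least three. -/
theorem huppert_three [Nontrivial V] [FaithfulSMul G V] [Group.IsSolvable G]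
    (htr : ∀ v w : V, v ≠ 0 → w ≠ 0 → ∃ g : G, g • v = w) {q n : ℕ} [hq : Fact q.Prime]
    (hV : Nat.card V = q ^ n) (hn : 3 ≤ n) : GammaL G V ∨ (q = 3 ∧ n = 4) := by
  classical
  by_cases hG : GammaL G V
  · exact Or.inl hG
  right
  have hdvd : q ^ n - 1 ∣ Nat.card G := by
    have := card_sub_one_dvd htr
    rwa [hV] at this
  have hprim : ∀ r : ℕ, r.Prime → r ∣ q ^ n - 1 → (∀ i, 1 ≤ i → i < n → ¬ r ∣ q ^ i - 1) →
      r = n + 1 ∧ (∃ m : ℕ, n = 2 ^ m) ∧ q ≠ 2 ∧ ¬ r ^ 2 ∣ Nat.card G := by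
    intro r hr h1 h2
    haveI : Fact r.Prime := ⟨hr⟩
    have h3 := lt_of_primitive hq.out.one_lt hr (by omega) h1 h2
    apply large_prime htr hV (by omega) h3 _ (h1.trans hdvd)
    by_contra hc
    exact hG (gammaL_of_pCore_ne_bot htr hV h2 hc)
  have hexc : (q, n) ∈ Zsigmondy.exc := by
    by_contra hne
    obtain ⟨m, hm1, hm2, hm3⟩ := Zsigmondy.primitive_part hq.out.two_le hn hne
    have hpr : ∀ r : ℕ, r.Prime → r ∣ m → r = n + 1 ∧ ¬ r ^ 2 ∣ Nat.card G := by
      intro r hr hrm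
      obtain ⟨h1, -, -, h2⟩ := hprim r hr (hrm.trans hm1) (fun i hi hin h => by
        have := Nat.dvd_gcd hrm h
        rw [hm2 i hi hin] at this
        exact hr.one_lt.ne' (Nat.dvd_one.1 this))
      exact ⟨h1, h2⟩
    obtain ⟨r, hr, c, hc⟩ := Nat.exists_prime_and_dvd (n := m) (by omega)
    obtain ⟨h1, h2⟩ := hpr r hr ⟨c, hc⟩
    have hc1 : c = 1 := by
      by_contra hc1
      obtain ⟨r', hr', hrc⟩ := Nat.exists_prime_and_dvd (n := c) hc1
      obtain ⟨h3, -⟩ := hpr r' hr' (hrc.trans ⟨r, by rw [hc, mul_comm]⟩)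
      apply h2
      refine dvd_trans ?_ (hm1.trans hdvd)
      rw [hc, sq]
      refine mul_dvd_mul_left r ?_
      rw [h1, ← h3]; exact hrc
    rw [hc1, mul_one] at hc
    omega
  have hval : ∀ (r : ℕ), r.Prime → r ∣ q ^ n - 1 → (∀ i ∈ Finset.Ico 1 n, ¬ r ∣ q ^ i - 1) →
      (∃ m : ℕ, n = 2 ^ m) ∧ q ≠ 2 := by
    intro r hr h1 h2
    obtain ⟨-, h3, h4, -⟩ := hprim r hr h1 (fun i hi hin => h2 i (Finset.mem_Ico.2 ⟨hi, hin⟩))
    exact ⟨h3, h4⟩
  have hsix : ¬ ∃ m : ℕ, 6 = 2 ^ m := by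
    rintro ⟨m, hm⟩
    have hm3 : m < 3 := by
      by_contra hc
      have : 2 ^ 3 ≤ 2 ^ m := Nat.pow_le_pow_right (by norm_num) (by omega)
      omega
    interval_cases m <;> omega
  simp only [Zsigmondy.exc, List.mem_cons, Prod.mk.injEq, List.not_mem_nil, or_false] at hexc
  rcases hexc with ⟨rfl, rfl⟩ | ⟨rfl, rfl⟩ | ⟨rfl, rfl⟩ | ⟨rfl, rfl⟩ | ⟨rfl, rfl⟩ | ⟨rfl, rfl⟩ | ⟨rfl, rfl⟩ |
    ⟨rfl, rfl⟩ | ⟨rfl, rfl⟩ | ⟨rfl, rfl⟩ | ⟨rfl, rfl⟩ | ⟨rfl, rfl⟩ | ⟨rfl, rfl⟩
  · exact absurd (gammaL_64 htr hV) hG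
  · exact absurd rfl (hval 5 (by norm_num) (by norm_num) (by decide)).2
  · exact absurd rfl (hval 11 (by norm_num) (by norm_num) (by decide)).2
  · exact absurd rfl (hval 13 (by norm_num) (by norm_num) (by decide)).2
  · exact absurd rfl (hval 19 (by norm_num) (by norm_num) (by decide)).2
  · exact ⟨rfl, rfl⟩
  · exact absurd (hval 7 (by norm_num) (by norm_num) (by decide)).1 hsix
  · exact absurd (hval 7 (by norm_num) (by norm_num) (by decide)).1 hsix
  · exact absurd rfl (hval 7 (by norm_num) (by norm_num) (by decide)).2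
  · exact absurd rfl (hval 17 (by norm_num) (by norm_num) (by decide)).2
  · exact absurd rfl (hval 41 (by norm_num) (by norm_num) (by decide)).2
  · exact absurd hq.out (by norm_num)
  · exact absurd hq.out (by norm_num)

end Cfsg.Agent.Lib.TransLin
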