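import Cfsg.Agent.Lib.TransLin5

/-!
# Solvable transitive linear groups: degree two, Huppert's theorem
-/

set_option autoImplicit false
open Cfsg

namespace Cfsg.Agent.Lib.TransLin

open Subgroup

universe u v

/-- The group induced on a central product of `D_8` type. -/
theorem index_dvd_24 {G : Type v} [Group G] [Finite G] (C : Subgroup G) (hCn : C.Normal)
    (hZc : C ⊓ centralizer (C : Set G) ≤ center G) (hidx : (C ⊓ centralizer (C : Set G)).relIndex C = 4)
    (hpow : ∀ x ∈ C, x ^ 2 ∈ centralizer (C : Set G))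
    (hcomm : ∀ x ∈ C, ∀ y ∈ C, x * y * x⁻¹ * y⁻¹ ∈ centralizer (C : Set G))
    (hcyc : IsCyclic (C ⊓ centralizer (C : Set G) : Subgroup G)) :
    (centralizer (C : Set G)).index ∣ 24 := by
  classical
  haveI : Fact (Nat.Prime 2) := ⟨Nat.prime_two⟩
  set Z := C ⊓ centralizer (C : Set G) with hZ
  have hcenC : ∀ x : C, x ∈ center C ↔ (x : G) ∈ Z := by
    intro x
    rw [mem_center_iff]
    constructor
    · intro h
      refine ⟨x.2, mem_centralizer_iff.2 ?_⟩
      intro y hy
      exact congrArg Subtype.val (h ⟨y, hy⟩)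
    · intro h y
      apply Subtype.ext
      exact mem_centralizer_iff.1 h.2 y y.2
  have e1 : Z.subgroupOf C = center C := by
    ext x
    rw [mem_subgroupOf, hcenC]
  have hcyc' : IsCyclic (center C) := by
    rw [← e1]
    exact (MulEquiv.isCyclic (subgroupOfEquivOfLe (inf_le_left : Z ≤ C))).2 hcyc
  obtain ⟨W, aW, fW, π, β, hπs, hπm, hπ0, hcard, hexp, hb1, hb2, halt, hnd, haut⟩ :=
    exists_form (C := C) (s := 2) (fun x => by
      rw [hcenC]
      exact ⟨C.pow_mem x.2 2, hpow x x.2⟩) (fun x y => by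
      rw [hcenC]
      exact ⟨C.mul_mem (C.mul_mem (C.mul_mem x.2 y.2) (C.inv_mem x.2)) (C.inv_mem y.2), hcomm x x.2 y y.2⟩) hcyc'
  have hW4 : Nat.card W = 4 := by
    rw [relIndex, e1] at hidx
    have e2 := Subgroup.card_mul_index (center C)
    rw [hcard, mul_comm, hidx] at e2
    exact (Nat.eq_of_mul_eq_mul_right Nat.card_pos e2).symm
  have hy : ∀ g : G, ∃ y : W ≃+ W, ∀ x : C, y (π x) = π (MulAut.conjNormal g x) := by
    intro g
    obtain ⟨y, hy, -⟩ := haut (MulAut.conjNormal g) (by
      intro z hz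
      apply Subtype.ext
      rw [MulAut.conjNormal_apply]
      have := mem_center_iff.1 (hZc ((hcenC z).1 hz)) g
      rw [this, mul_inv_cancel_right])
    exact ⟨y, hy⟩
  choose y hy using hy
  have hymul : ∀ g h w, y (g * h) w = y g (y h w) := by
    intro g h w
    obtain ⟨x, rfl⟩ := hπs w
    rw [hy, hy, hy, map_mul]; rfl
  have hy1 : ∀ w, y 1 w = w := by
    intro w
    obtain ⟨x, rfl⟩ := hπs w
    rw [hy, map_one]; rfl
  have hyinj : ∀ g w, y g w = 0 ↔ w = 0 := by
    intro g w
    exact EmbeddingLike.map_eq_zero_iff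
  let X := {w : W // w ≠ 0}
  let θ : G →* Equiv.Perm X :=
    { toFun := fun g => 
        { toFun := fun w => ⟨y g w, fun h => w.2 ((hyinj g w).1 h)⟩
          invFun := fun w => ⟨y g⁻¹ w, fun h => w.2 ((hyinj g⁻¹ w).1 h)⟩
          left_inv := by
            intro w
            apply Subtype.ext
            change y g⁻¹ (y g w) = w
            rw [← hymul, inv_mul_cancel, hy1]
          right_inv := by
            intro w
            apply Subtype.ext
            change y g (y g⁻¹ w) = w
            rw [← hymul, mul_inv_cancel, hy1] }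
      map_one' := by
        ext w
        exact hy1 w
      map_mul' := by
        intro g h
        ext w
        exact hymul g h w }
  have hθ : ∀ g (w : X), ((θ g w : X) : W) = y g w := fun g w => rfl
  haveI : Fintype W := Fintype.ofFinite W
  have hX3 : Fintype.card X = 3 := by
    rw [Fintype.card_subtype_compl, ← Nat.card_eq_fintype_card, hW4]
    simp
  have hLidx : θ.ker.index ∣ 6 := by
    rw [Subgroup.index_ker]
    have h1 : Nat.card (Equiv.Perm X) = 6 := by
      rw [Nat.card_eq_fintype_card, Fintype.card_perm, hX3]; rfl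
    rw [← h1]
    exact Subgroup.card_subgroup_dvd_card _
  have hker : ∀ g ∈ θ.ker, ∀ x ∈ C, g * x * g⁻¹ * x⁻¹ ∈ Z := by
    intro g hg x hx
    have h1 : y g (π ⟨x, hx⟩) = π ⟨x, hx⟩ := by
      by_cases h0 : π ⟨x, hx⟩ = 0
      · rw [h0, map_zero]
      · have h2 := congrArg (fun σ : Equiv.Perm X => ((σ ⟨π ⟨x, hx⟩, h0⟩ : X) : W)) (MonoidHom.mem_ker.1 hg)
        exact h2
    rw [hy] at h1
    have h2 : π (MulAut.conjNormal g ⟨x, hx⟩ * (⟨x, hx⟩ : C)⁻¹) = 0 := by
      have h10 : π ⟨x, hx⟩ + π ((⟨x, hx⟩ : C)⁻¹) = 0 := by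
        rw [← hπm, mul_inv_cancel, hπ0]
        exact one_mem _
      rw [hπm, h1, h10]
    rw [hπ0, hcenC] at h2
    exact h2
  -- two generators
  obtain ⟨a, ha, b, hb, hab⟩ : ∃ a ∈ C, ∃ b ∈ C, a * b ≠ b * a := by
    by_contra hcon
    push Not at hcon
    have h1 : C ≤ Z := fun x hx => ⟨hx, mem_centralizer_iff.2 (fun z hz => hcon z hz x hx)⟩
    rw [relIndex_eq_one.2 h1] at hidx
    omega
  have hπa : π ⟨a, ha⟩ ≠ 0 := by
    intro h
    rw [hπ0, hcenC] at h
    exact hab (mem_centralizer_iff.1 h.2 b hb).symm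
  have hπb : π ⟨b, hb⟩ ≠ 0 := by
    intro h
    rw [hπ0, hcenC] at h
    exact hab (mem_centralizer_iff.1 h.2 a ha)
  have hπab : π ⟨a, ha⟩ ≠ π ⟨b, hb⟩ := by
    intro h
    have h1 : π (⟨a, ha⟩ * (⟨b, hb⟩ : C)⁻¹) = 0 := by
      rw [hπm, h, ← hπm, mul_inv_cancel, hπ0]
      exact one_mem _
    rw [hπ0, hcenC] at h1
    have h2 := mem_centralizer_iff.1 h1.2 b hb
    change b * (a * b⁻¹) = a * b⁻¹ * b at h2
    apply hab
    calc a * b = (a * b⁻¹ * b) * b := by group
      _ = (b * (a * b⁻¹)) * b := by rw [h2]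
      _ = b * a := by group
  -- all elements of `C` are products
  have hgen : ∀ x ∈ C, ∃ z ∈ Z, x = z ∨ x = a * z ∨ x = b * z ∨ x = a * b * z := by
    intro x hx
    have hmod : ∀ (c : C), π ⟨x, hx⟩ = π c → ∃ z ∈ Z, x = c * z := by
      intro c hc
      refine ⟨(c : G)⁻¹ * x, ?_, by group⟩
      have h1 : π (c⁻¹ * ⟨x, hx⟩) = 0 := by
        rw [hπm, hc, ← hπm, inv_mul_cancel, hπ0]
        exact one_mem _
      rw [hπ0, hcenC] at h1
      exact h1
    have hfour : ∀ w : W, w = 0 ∨ w = π ⟨a, ha⟩ ∨ w = π ⟨b, hb⟩ ∨ w = π ⟨a, ha⟩ + π ⟨b, hb⟩ := by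
      have h2 : ∀ w : W, w + w = 0 := fun w => by rw [← two_nsmul]; exact hexp w
      have hs : ({0, π ⟨a, ha⟩, π ⟨b, hb⟩, π ⟨a, ha⟩ + π ⟨b, hb⟩} : Finset W) = Finset.univ := by
        apply Finset.eq_univ_of_card
        rw [← Nat.card_eq_fintype_card, hW4, Finset.card_insert_of_notMem, Finset.card_insert_of_notMem,
          Finset.card_insert_of_notMem, Finset.card_singleton]
        · rw [Finset.mem_singleton]
          intro h
          exact hπa (right_eq_add.1 h)
        · rw [Finset.mem_insert, Finset.mem_singleton]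
          rintro (h | h)
          · exact hπab h
          · exact hπb (left_eq_add.1 h)
        · rw [Finset.mem_insert, Finset.mem_insert, Finset.mem_singleton]
          rintro (h | h | h)
          · exact hπa h.symm
          · exact hπb h.symm
          · apply hπab
            have h3 : π ⟨a, ha⟩ = -π ⟨b, hb⟩ := by rw [eq_neg_iff_add_eq_zero]; exact h.symm
            have h4 : -π ⟨b, hb⟩ = π ⟨b, hb⟩ := by rw [neg_eq_iff_add_eq_zero]; exact h2 _
            rw [h3, h4]
      intro w
      have := Finset.mem_univ w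
      rw [← hs] at this
      simpa using this
    rcases hfour (π ⟨x, hx⟩) with h | h | h | h
    · obtain ⟨z, hz, hxz⟩ := hmod 1 (by rw [h]; exact ((hπ0 1).2 (one_mem _)).symm)
      exact ⟨z, hz, Or.inl (by rw [hxz]; simp)⟩
    · obtain ⟨z, hz, hxz⟩ := hmod ⟨a, ha⟩ h
      exact ⟨z, hz, Or.inr (Or.inl hxz)⟩
    · obtain ⟨z, hz, hxz⟩ := hmod ⟨b, hb⟩ h
      exact ⟨z, hz, Or.inr (Or.inr (Or.inl hxz))⟩
    · obtain ⟨z, hz, hxz⟩ := hmod (⟨a, ha⟩ * ⟨b, hb⟩) (by rw [h, hπm])
      exact ⟨z, hz, Or.inr (Or.inr (Or.inr hxz))⟩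
  -- involutions of `Z`
  let Z2 : Subgroup Z := 
    { carrier := {z | z ^ 2 = 1}
      one_mem' := one_pow 2
      mul_mem' := by
        intro x y hx hy
        change (x * y) ^ 2 = 1
        have hc : Commute x y := by
          apply Subtype.ext
          exact (mem_center_iff.1 (hZc x.2) y).symm
        rw [hc.mul_pow, show x ^ 2 = 1 from hx, show y ^ 2 = 1 from hy, one_mul]
      inv_mem' := by
        intro x hx
        change (x⁻¹) ^ 2 = 1
        rw [inv_pow, show x ^ 2 = 1 from hx, inv_one] }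
  have hZ2 : Nat.card Z2 ∣ 2 := by
    haveI : Fintype Z := Fintype.ofFinite Z
    haveI := hcyc
    have h1 := IsCyclic.card_pow_eq_one_le (α := Z) (n := 2) (by norm_num)
    have h2 : Nat.card Z2 ≤ 2 := by
      rw [Nat.card_eq_fintype_card, Fintype.card_subtype]
      refine le_trans (Finset.card_le_card ?_) h1
      intro z hz
      rw [Finset.mem_filter] at hz ⊢
      exact ⟨hz.1, hz.2⟩
    have h3 : 0 < Nat.card Z2 := Nat.card_pos
    have h4 : Nat.card Z2 = 1 ∨ Nat.card Z2 = 2 := by omega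
    rcases h4 with h | h <;> rw [h] <;> norm_num
  have hsq : ∀ g ∈ θ.ker, ∀ x ∈ C, (g * x * g⁻¹ * x⁻¹) ^ 2 = 1 := by
    intro g hg x hx
    have hz := hker g hg x hx
    set z := g * x * g⁻¹ * x⁻¹ with hzdef
    have hzc := mem_center_iff.1 (hZc hz)
    have h1 : g * x * g⁻¹ = z * x := by rw [hzdef]; group
    have h2 : x ^ 2 ∈ center G := hZc ⟨C.pow_mem hx 2, hpow x hx⟩
    have h3 : g * x ^ 2 * g⁻¹ = x ^ 2 := by rw [mem_center_iff.1 h2 g]; group
    have h4 : g * x ^ 2 * g⁻¹ = z ^ 2 * x ^ 2 := by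
      have hc : Commute z x := (hzc x).symm
      calc g * x ^ 2 * g⁻¹ = (g * x * g⁻¹) ^ 2 := (conj_pow).symm
        _ = (z * x) ^ 2 := by rw [h1]
        _ = z ^ 2 * x ^ 2 := hc.mul_pow 2
    rw [h3] at h4
    exact (right_eq_mul.1 h4)
  let ψ : θ.ker →* Z2 × Z2 :=
    { toFun := fun g => (⟨⟨g * a * (g : G)⁻¹ * a⁻¹, hker g g.2 a ha⟩, Subtype.ext (hsq g g.2 a ha)⟩,
        ⟨⟨g * b * (g : G)⁻¹ * b⁻¹, hker g g.2 b hb⟩, Subtype.ext (hsq g g.2 b hb)⟩)
      map_one' := by
        ext <;> simp
      map_mul' := by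
        intro g h
        have key : ∀ x ∈ C, ((g * h : θ.ker) : G) * x * ((g * h : θ.ker) : G)⁻¹ * x⁻¹ =
            (g * x * (g : G)⁻¹ * x⁻¹) * (h * x * (h : G)⁻¹ * x⁻¹) := by
          intro x hx
          have h1 := mem_center_iff.1 (hZc (hker h h.2 x hx))
          calc ((g * h : θ.ker) : G) * x * ((g * h : θ.ker) : G)⁻¹ * x⁻¹ =
                (g : G) * (h * x * (h : G)⁻¹ * x⁻¹) * x * (g : G)⁻¹ * x⁻¹ := by rw [Subgroup.coe_mul]; group
            _ = (h * x * (h : G)⁻¹ * x⁻¹) * g * x * (g : G)⁻¹ * x⁻¹ := by rw [h1 g]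
            _ = (h * x * (h : G)⁻¹ * x⁻¹) * (g * x * (g : G)⁻¹ * x⁻¹) := by group
            _ = _ := (h1 _).symm
        apply Prod.ext
        · apply Subtype.ext; apply Subtype.ext
          exact key a ha
        · apply Subtype.ext; apply Subtype.ext
          exact key b hb }
  have hψker : ψ.ker = (centralizer (C : Set G)).subgroupOf θ.ker := by
    ext g
    rw [MonoidHom.mem_ker, mem_subgroupOf]
    constructor
    · intro h
      have h1 : (g : G) * a * (g : G)⁻¹ * a⁻¹ = 1 := congrArg (fun p : Z2 × Z2 => ((p.1 : Z) : G)) h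
      have h2 : (g : G) * b * (g : G)⁻¹ * b⁻¹ = 1 := congrArg (fun p : Z2 × Z2 => ((p.2 : Z) : G)) h
      have ca : Commute (g : G) a := by
        rw [mul_inv_eq_one, mul_inv_eq_iff_eq_mul] at h1
        exact h1
      have cb : Commute (g : G) b := by
        rw [mul_inv_eq_one, mul_inv_eq_iff_eq_mul] at h2
        exact h2
      refine mem_centralizer_iff.2 ?_
      intro x hx
      obtain ⟨z, hz, hxz⟩ := hgen x hx
      have cz : Commute (g : G) z := mem_center_iff.1 (hZc hz) g
      have cx : Commute (g : G) x := by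
        rcases hxz with h | h | h | h
        · rw [h]; exact cz
        · rw [h]; exact ca.mul_right cz
        · rw [h]; exact cb.mul_right cz
        · rw [h]; exact (ca.mul_right cb).mul_right cz
      exact cx.eq.symm
    · intro h
      have h1 : ∀ x ∈ C, (g : G) * x * (g : G)⁻¹ * x⁻¹ = 1 := by
        intro x hx
        have := mem_centralizer_iff.1 h x hx
        rw [← this]; group
      apply Prod.ext
      · apply Subtype.ext; apply Subtype.ext
        exact h1 a ha
      · apply Subtype.ext; apply Subtype.ext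
        exact h1 b hb
  have hrel : (centralizer (C : Set G)).relIndex θ.ker ∣ 4 := by
    rw [relIndex, ← hψker, Subgroup.index_ker]
    refine dvd_trans (Subgroup.card_subgroup_dvd_card ψ.range) ?_
    rw [Nat.card_prod]
    exact mul_dvd_mul hZ2 hZ2
  have hCle : centralizer (C : Set G) ≤ θ.ker := by
    intro g hg
    rw [MonoidHom.mem_ker]
    ext w
    rw [hθ]
    obtain ⟨x, hx⟩ := hπs (w : W)
    rw [← hx, hy, Equiv.Perm.one_apply]
    rw [← hx]
    congr 1
    apply Subtype.ext
    rw [MulAut.conjNormal_apply]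
    have := mem_centralizer_iff.1 hg x x.2
    rw [← this, mul_inv_cancel_right]
  have h5 := Subgroup.relIndex_mul_index hCle
  rw [← h5]
  exact mul_dvd_mul hrel hLidx

variable {V : Type u} [AddCommGroup V] [Finite V] {G : Type v} [Group G] [Finite G]
  [DistribMulAction G V]

/-- Over the prime field everything is linear. -/
theorem linear_of_prime_field {K : Type*} [Field K] [Finite K] [Module K V] {q : ℕ} [hq : Fact q.Prime]
    (hcard : Nat.card K = q) (g : G) (hs : ∃ σ : K ≃+* K, ∀ (k : K) (v : V), g • k • v = σ k • g • v) :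
    ∀ (k : K) (v : V), g • k • v = k • g • v := by
  obtain ⟨σ, hσ⟩ := hs
  haveI : Fintype K := Fintype.ofFinite K
  have hc : Fintype.card K = q := by rw [← hcard, Nat.card_eq_fintype_card]
  let e := ZMod.ringEquivOfPrime K hq.out hc
  have h1 : (σ : K →+* K).comp (e : ZMod q →+* K) = (e : ZMod q →+* K) := Subsingleton.elim _ _
  intro k v
  obtain ⟨a, rfl⟩ := e.surjective k
  rw [hσ]
  congr 1
  exact RingHom.congr_fun h1 a

/-- **Huppert**, degree two. -/
theorem huppert_two [Nontrivial V] [FaithfulSMul G V] [Group.IsSolvable G]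
    (htr : ∀ v w : V, v ≠ 0 → w ≠ 0 → ∃ g : G, g • v = w) {q : ℕ} [hq : Fact q.Prime]
    (hV : Nat.card V = q ^ 2) : GammaL G V ∨ (q = 3 ∨ q = 5 ∨ q = 7 ∨ q = 11 ∨ q = 23) := by
  classical
  by_cases hG : GammaL G V
  · exact Or.inl hG
  right
  have hdvd : q ^ 2 - 1 ∣ Nat.card G := by
    have := card_sub_one_dvd htr
    rwa [hV] at this
  -- some `O_s(G)` is nonabelian
  obtain ⟨s, hs, hsna⟩ : ∃ s : ℕ, s.Prime ∧ ¬ pCore s G ≤ centralizer (pCore s G : Set G) := by
    by_contra hcon
    push Not at hcon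
    -- the Fitting subgroup is abelian
    have hst : ∀ s t : ℕ, s.Prime → t.Prime → pCore s G ≤ centralizer (pCore t G : Set G) := by
      intro s t hs ht
      by_cases hst : s = t
      · subst hst; exact hcon s hs
      · haveI : Fact s.Prime := ⟨hs⟩
        haveI : Fact t.Prime := ⟨ht⟩
        have hdis : Disjoint (pCore s G) (pCore t G) :=
          IsPGroup.disjoint_of_ne s t hst _ _ (Fitting.isPGroup_pCore s) (Fitting.isPGroup_pCore t)
        intro x hx
        refine mem_centralizer_iff.2 ?_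
        intro z hz
        exact (Subgroup.commute_of_normal_of_disjoint _ _ (Fitting.normal_pCore s) (Fitting.normal_pCore t) hdis x z hx hz).eq.symm
    have hFF : fittingSubgroup G ≤ centralizer (fittingSubgroup G : Set G) := by
      rw [Fitting.fittingSubgroup_eq_iSup_pCore]
      apply iSup_le
      rintro ⟨s, hs⟩
      rw [← le_centralizer_iff]
      apply iSup_le
      rintro ⟨t, ht⟩
      exact hst t s ht hs
    have hFn : (fittingSubgroup G).Normal := Fitting.normal_fittingSubgroup
    obtain ⟨K, fK, finK, mK, d, hK1, hK2, hK3, hd, hdn, hord, hcard, hGL⟩ :=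
      exists_field' htr hV (fittingSubgroup G) hFn (fun a ha b hb => (mem_centralizer_iff.1 (hFF ha) b hb).symm)
    have hd1 : d = 1 := by
      have h1 : d ∣ 2 := ⟨_, hdn.symm⟩
      rcases (Nat.dvd_prime Nat.prime_two).1 h1 with h | h
      · exact h
      · exact absurd (hGL h) hG
    rw [hd1, pow_one] at hd
    have hFc : ∀ g : G, g ∈ centralizer (fittingSubgroup G : Set G) := by
      intro g
      refine mem_centralizer_iff.2 ?_
      intro x hx
      obtain ⟨k, hk⟩ := hK1 x hx
      apply FaithfulSMul.eq_of_smul_eq_smul (α := V)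
      intro v
      rw [mul_smul, mul_smul, hk, hk, linear_of_prime_field hd g (hK2 g)]
    have hFtop : ∀ g : G, g ∈ fittingSubgroup G := fun g => Fitting.centralizer_fittingSubgroup_le (hFc g)
    have hGF : Nat.card (fittingSubgroup G) = Nat.card G := by
      have : fittingSubgroup G = ⊤ := by rw [eq_top_iff]; intro g _; exact hFtop g
      rw [this]
      exact Nat.card_congr (Equiv.Set.univ G)
    rw [hGF, hd1, pow_one] at hcard
    have h2 := Nat.le_of_dvd (by have := hq.out.two_le; omega) (hdvd.trans hcard)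
    have h3 := hq.out.two_le
    have h4 : q * 2 ≤ q ^ 2 := by rw [sq]; exact Nat.mul_le_mul_left q h3
    omega
  haveI : Fact s.Prime := ⟨hs⟩
  obtain ⟨C, K, fK, finK, mK, d, m, hCn, hCP, hPC, hK2, hK1, hK3, hd, hdn, hidx, hsm, hcop, hact, hpowC, hcommC⟩ :=
    critical_data htr hV (pCore s G) (Fitting.normal_pCore s) (Fitting.isPGroup_pCore s)
  haveI := hCn
  have hd1 : d = 1 := by
    have h1 : d ∣ 2 := ⟨_, hdn.symm⟩
    rcases (Nat.dvd_prime Nat.prime_two).1 h1 with h | h
    · exact h
    · exact absurd (gammaL_of (K := K) (by rw [hd, hV, h]) hK2) hG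
  have hf2 : Module.finrank K V = 2 := by rw [hd1, one_mul] at hdn; exact hdn
  rw [hd1, pow_one] at hd
  have hlin : ∀ g : G, ∀ (k : K) (v : V), g • k • v = k • g • v := fun g => linear_of_prime_field hd g (hK2 g)
  have hZc : C ⊓ centralizer (C : Set G) ≤ center G := by
    intro z hz
    rw [mem_center_iff]
    intro g
    obtain ⟨k, hk⟩ := hK1 z hz
    apply FaithfulSMul.eq_of_smul_eq_smul (α := V)
    intro v
    rw [mul_smul, mul_smul, hk, hk, hlin g]
  have hm0 : m ≠ 0 := by
    rintro rfl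
    rw [mul_zero, pow_zero, relIndex_eq_one] at hidx
    apply hsna
    intro x hx
    -- `C` is central
    have h1 : ∀ x ∈ pCore s G, x ∈ C := by
      intro x hx
      apply hPC
      refine ⟨hx, ?_⟩
      refine mem_centralizer_iff.2 ?_
      intro c hc
      exact (mem_center_iff.1 (hZc (hidx hc)) x).symm
    refine mem_centralizer_iff.2 ?_
    intro z hz
    exact (mem_center_iff.1 (hZc (hidx (h1 z hz))) x).symm
  rw [hf2] at hsm
  have hs2m1 : s = 2 ∧ m = 1 := by
    have h1 : s ^ 1 ≤ s ^ m := Nat.pow_le_pow_right hs.pos (by omega)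
    have h2 := hs.two_le
    rw [pow_one] at h1
    have hs2 : s = 2 := by omega
    refine ⟨hs2, ?_⟩
    subst hs2
    by_contra hm1
    have h3 : 2 ^ 2 ≤ 2 ^ m := Nat.pow_le_pow_right (by norm_num) (by omega)
    omega
  obtain ⟨rfl, rfl⟩ := hs2m1
  have hidx4 : (C ⊓ centralizer (C : Set G)).relIndex C = 4 := by rw [hidx]; norm_num
  have hq2 : q ≠ 2 := by
    rintro rfl
    apply hsna
    rw [eq_bot_of_isPGroup htr hV (pCore 2 G) (Fitting.normal_pCore 2) (Fitting.isPGroup_pCore 2)]
    exact bot_le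
  obtain ⟨hZd, hZcyc⟩ := card_dvd_of_scalar (K := K) _ hK1
  have h24 := index_dvd_24 C hCn hZc hidx4 hpowC hcommC hZcyc
  -- the centralizer of `C` is scalar
  have hsc : ∀ g ∈ centralizer (C : Set G), ∃ k : K, ∀ v : V, g • v = k • v := by
    intro g hg
    refine scalar_of_centralizes (K := K) C (C ⊓ centralizer (C : Set G)) hK1 ?_ ?_ (fun x _ => hlin x) ?_ (hlin g) ?_
    · intro x hx y hy
      exact ⟨C.mul_mem (C.mul_mem (C.mul_mem hx hy) (C.inv_mem hx)) (C.inv_mem hy), hcommC x hx y hy⟩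
    · intro x hx h
      exact ⟨hx, mem_centralizer_iff.2 (fun y hy => (h y hy).symm)⟩
    · rw [hidx4, hf2]; norm_num
    · intro x hx
      exact (mem_centralizer_iff.1 hg x hx).symm
  obtain ⟨hCd, -⟩ := card_dvd_of_scalar (K := K) _ hsc
  rw [hd] at hCd
  have h1 := Subgroup.card_mul_index (centralizer (C : Set G))
  have h2 : (q - 1) * (q + 1) ∣ (q - 1) * 24 := by
    have h3 : q ^ 2 - 1 = (q - 1) * (q + 1) := by
      obtain ⟨c, hc⟩ := Nat.exists_eq_add_of_le hq.out.one_le
      rw [hc]
      have h3 : (1 + c) ^ 2 = 1 + (c * (1 + c + 1)) := by ring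
      rw [h3, Nat.add_sub_cancel_left, Nat.add_sub_cancel_left]
    rw [← h3]
    refine hdvd.trans ?_
    rw [← h1]
    exact mul_dvd_mul hCd h24
  have h3 := Nat.dvd_of_mul_dvd_mul_left (by have := hq.out.two_le; omega) h2
  have h4 : q + 1 ∈ Nat.divisors 24 := Nat.mem_divisors.2 ⟨h3, by norm_num⟩
  have h5 : Nat.divisors 24 = {1, 2, 3, 4, 6, 8, 12, 24} := by decide
  rw [h5] at h4
  simp only [Finset.mem_insert, Finset.mem_singleton] at h4
  have h6 := hq.out.two_le
  omega

/-- **Huppert's theorem** on solvable transitive linear groups. -/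
theorem huppert [Nontrivial V] [FaithfulSMul G V] [Group.IsSolvable G]
    (htr : ∀ v w : V, v ≠ 0 → w ≠ 0 → ∃ g : G, g • v = w) {q n : ℕ} [hq : Fact q.Prime]
    (hV : Nat.card V = q ^ n) : GammaL G V ∨ Nat.card V ∈ ({9, 25, 49, 121, 529, 81} : Set ℕ) := by
  classical
  have hn : n ≠ 0 := by
    rintro rfl
    rw [pow_zero] at hV
    have := Finite.one_lt_card_iff_nontrivial.2 ‹Nontrivial V›
    omega
  by_cases hn1 : n = 1
  · left
    subst hn1
    obtain ⟨K, fK, finK, mK, d, hK1, hK2, hK3, hd, hdn, hord, hcard, hGL⟩ :=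
      exists_field' htr hV (⊥ : Subgroup G) inferInstance (fun a ha b hb => by
        rw [show a = 1 from ha, one_mul, mul_one])
    exact hGL (Nat.eq_one_of_mul_eq_one_right hdn)
  · by_cases hn2 : n = 2
    · subst hn2
      rcases huppert_two htr hV with h | h
      · exact Or.inl h
      · right
        rw [hV]
        rcases h with rfl | rfl | rfl | rfl | rfl <;> simp
    · rcases huppert_three htr hV (by omega) with h | ⟨rfl, rfl⟩
      · exact Or.inl h
      · right
        rw [hV]; simp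

end Cfsg.Agent.Lib.TransLin
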