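import Mathlib.GroupTheory.Sylow
import Mathlib.GroupTheory.Commutator.Basic
import Cfsg.Prelude.Def_PLocal
import Cfsg.Agent.Lib.LocBase
import Cfsg.Agent.Lib.ThompsonJ
import Cfsg.Agent.Lib.SubgroupTools
import Cfsg.Agent.Lib.CoprimeAction2
import Cfsg.Agent.Lib.CoprimeGen

/-!
Elementary abelian 2-groups acting on an elementary abelian 2-group `V` inside a group `H` with `C_H(R) ≤ R` for an
odd-order normal subgroup `R` (for instance `H` solvable with `O_2(H) = 1`): the offender bound, and exact offenders are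
generated by transvections.
-/

set_option autoImplicit false

namespace Cfsg.Agent.Lib.TvStruct

open Subgroup commutatorElement
open scoped Pointwise

universe u

variable {Γ : Type u} [Group Γ]

/-- `H` acts faithfully on the elementary abelian 2-group `V`; `R` is a normal odd-order subgroup of `H` containing its
centralizer in `H`. -/
structure Setup (V H R : Subgroup Γ) : Prop where
  elemV : Cfsg.IsElementaryAbelian 2 V
  norm : H ≤ normalizer (V : Set Γ)
  faith : H ⊓ centralizer (V : Set Γ) = ⊥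
  RH : R ≤ H
  HR : H ≤ normalizer (R : Set Γ)
  odd : (Nat.card R).Coprime 2
  cent : H ⊓ centralizer (R : Set Γ) ≤ R

theorem coprime_card_of_pgroup [Finite Γ] {A R : Subgroup Γ} (hA : IsPGroup 2 A) (hR : (Nat.card R).Coprime 2) :
    (Nat.card A).Coprime (Nat.card R) := by
  obtain ⟨n, hn⟩ := IsPGroup.iff_card.mp hA
  rw [hn]
  exact Nat.Coprime.pow_left n hR.symm

theorem not_isCyclic_of_two {A : Subgroup Γ} {a b : Γ} (ha : a ∈ A) (hb : b ∈ A) (ha1 : a ≠ 1)
    (hA2 : ∀ x ∈ A, x ^ 2 = 1) (hb1 : b ∉ zpowers a) : ¬ IsCyclic A := by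
  rintro ⟨g, hg⟩
  have hg2 : (g : Γ) ^ 2 = 1 := hA2 g g.2
  have key : ∀ x ∈ A, x = 1 ∨ x = g := by
    intro x hx
    obtain ⟨k, hk⟩ := hg ⟨x, hx⟩
    have hk' : (g : Γ) ^ k = x := by
      have := congrArg Subtype.val hk
      simpa using this
    rcases Int.even_or_odd' k with ⟨c, hc | hc⟩
    · left
      rw [← hk', hc, zpow_mul]
      have : (g : Γ) ^ (2 : ℤ) = 1 := by exact_mod_cast hg2
      rw [this, one_zpow]
    · right
      rw [← hk', hc, zpow_add, zpow_mul]
      have : (g : Γ) ^ (2 : ℤ) = 1 := by exact_mod_cast hg2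
      rw [this, one_zpow, one_mul, zpow_one]
  rcases key a ha with h1 | h1
  · exact ha1 h1
  · rcases key b hb with h2 | h2
    · exact hb1 (h2 ▸ one_mem _)
    · exact hb1 (by rw [h2, h1]; exact mem_zpowers _)

/-- Lemma G: if `R` (odd order) is not centralized by `B₀ ≤ A`, there is a hyperplane `B` of `A` whose centralizer in
`R` is not centralized by `B₀`. -/
theorem exists_hyperplane [Finite Γ] {A R B₀ : Subgroup Γ} (hA : Cfsg.IsElementaryAbelian 2 A)
    (hAR : A ≤ normalizer (R : Set Γ)) (hodd : (Nat.card R).Coprime 2) (hB₀ : B₀ ≤ A)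
    (hR : ¬ R ≤ centralizer (B₀ : Set Γ)) :
    ∃ B ≤ A, (∀ a ∈ A, a ∉ B → A = B ⊔ zpowers a) ∧ B ≠ A ∧
      ¬ R ⊓ centralizer (B : Set Γ) ≤ centralizer (B₀ : Set Γ) := by
  classical
  rw [ThompsonJ.elemAb_iff] at hA
  obtain ⟨hAc, hA2⟩ := hA
  obtain ⟨B, hB, hmax⟩ : ∃ B ∈ {B : Subgroup Γ | B ≤ A ∧ ¬ R ⊓ centralizer (B : Set Γ) ≤ centralizer (B₀ : Set Γ)},
      ∀ C ∈ {B : Subgroup Γ | B ≤ A ∧ ¬ R ⊓ centralizer (B : Set Γ) ≤ centralizer (B₀ : Set Γ)}, B ≤ C → C ≤ B := by
    obtain ⟨B, hB⟩ := (Set.toFinite {B : Subgroup Γ | B ≤ A ∧ ¬ R ⊓ centralizer (B : Set Γ) ≤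
      centralizer (B₀ : Set Γ)}).exists_maximal ⟨⊥, bot_le, by
        intro h; apply hR
        intro x hx
        apply h
        refine mem_inf.mpr ⟨hx, mem_centralizer_iff.mpr ?_⟩
        intro y hy
        rw [SetLike.mem_coe, mem_bot] at hy
        rw [hy, one_mul, mul_one]⟩
    exact ⟨B, hB.1, fun C hC hBC => hB.2 hC hBC⟩
  obtain ⟨hBA, hBn⟩ := hB
  have hBneA : B ≠ A := by
    rintro rfl
    exact hBn (inf_le_right.trans (centralizer_le hB₀))
  refine ⟨B, hBA, ?_, hBneA, hBn⟩
  intro a ha haB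
  by_contra hne
  have hle : B ⊔ zpowers a ≤ A := sup_le hBA (by rwa [zpowers_le])
  obtain ⟨b, hb, hbn⟩ : ∃ b ∈ A, b ∉ B ⊔ zpowers a := by
    by_contra hcon
    push Not at hcon
    exact hne (le_antisymm hcon hle)
  set A' : Subgroup Γ := zpowers a ⊔ zpowers b with hA'
  have hA'A : A' ≤ A := sup_le (by rwa [zpowers_le]) (by rwa [zpowers_le])
  have hA'2 : ∀ x ∈ A', x ^ 2 = 1 := fun x hx => hA2 x (hA'A hx)
  have hcomm : ∀ x ∈ A, ∀ y ∈ A, x * y = y * x := fun x hx y hy =>
    (mem_centralizer_iff.mp (hAc hx) y hy).symm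
  have hnc : ¬ IsCyclic A' := by
    refine not_isCyclic_of_two (a := a) (b := b) (le_sup_left (α := Subgroup Γ) (mem_zpowers a))
      (le_sup_right (α := Subgroup Γ) (mem_zpowers b)) ?_ hA'2 ?_
    · rintro rfl; exact haB (one_mem _)
    · intro h; exact hbn (le_sup_right (α := Subgroup Γ) h)
  set K := R ⊓ centralizer (B : Set Γ) with hK
  have hAK : A' ≤ normalizer (K : Set Γ) := by
    apply LocBase.le_normalizer_inf (hA'A.trans hAR)
    apply LocBase.le_normalizer_centralizer
    refine le_trans ?_ (centralizer_le_normalizer _)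
    exact hA'A.trans (hAc.trans (centralizer_le hBA))
  have hA'p : IsPGroup 2 A' := by
    intro x
    exact ⟨1, by ext; simpa using hA'2 x x.2⟩
  have hcop : (Nat.card A').Coprime (Nat.card K) := by
    apply coprime_card_of_pgroup hA'p
    exact Nat.Coprime.coprime_dvd_left (card_dvd_of_le inf_le_left) hodd
  have hA'c : IsMulCommutative A' := by
    rw [← le_centralizer_iff_isMulCommutative]
    exact (hA'A.trans hAc).trans (centralizer_le hA'A)
  have hgen := CoprimeGen.iSup_centralizer_eq hA'c hnc hAK hcop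
  apply hBn
  rw [← hgen]
  apply iSup₂_le
  rintro x ⟨hx, hx1⟩
  by_contra hcon
  -- the subgroup B ⊔ zpowers x
  have hxB : x ∉ B := by
    intro hxB
    -- x ∈ A' ∩ B: elements of A' are a^i b^j
    have hx' : x ∈ zpowers a ⊔ zpowers b := hx
    have hzn : zpowers b ≤ normalizer (zpowers a : Set Γ) := by
      rw [zpowers_le]
      refine centralizer_le_normalizer _ ?_
      rw [mem_centralizer_iff]
      rintro _ ⟨k, rfl⟩
      exact ((show Commute a b from hcomm a ha b hb).zpow_left k).eq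
    obtain ⟨y, hy, z, hz, rfl⟩ := (SubgroupTools.mem_sup_of_le_normalizer hzn).mp hx'
    obtain ⟨i, rfl⟩ := hy
    obtain ⟨j, rfl⟩ := hz
    have ha2 : a ^ (2 : ℤ) = 1 := by exact_mod_cast hA2 a ha
    have hb2 : b ^ (2 : ℤ) = 1 := by exact_mod_cast hA2 b hb
    simp only at hxB hx1
    rcases Int.even_or_odd' i with ⟨c, hc | hc⟩ <;> rcases Int.even_or_odd' j with ⟨d, hd | hd⟩
    · rw [hc, hd, zpow_mul, zpow_mul, ha2, hb2, one_zpow, one_zpow, one_mul] at hx1
      exact hx1 rfl
    · rw [hc, hd, zpow_mul, zpow_add, zpow_mul, ha2, hb2, one_zpow, one_zpow, one_mul, one_mul, zpow_one] at hxB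
      exact hbn (le_sup_left (α := Subgroup Γ) hxB)
    · rw [hc, hd, zpow_add, zpow_mul, zpow_mul, ha2, hb2, one_zpow, one_zpow, one_mul, zpow_one, mul_one] at hxB
      exact haB hxB
    · rw [hc, hd, zpow_add, zpow_add, zpow_mul, zpow_mul, ha2, hb2, one_zpow, one_zpow, one_mul, one_mul, zpow_one,
        zpow_one] at hxB
      apply hbn
      have h1 : b = a⁻¹ * (a * b) := by group
      rw [h1]
      exact mul_mem (inv_mem (le_sup_right (α := Subgroup Γ) (mem_zpowers a))) (le_sup_left (α := Subgroup Γ) hxB)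
  have hBx : B ⊔ zpowers x ≤ B := by
    apply hmax _ ⟨sup_le hBA (by rw [zpowers_le]; exact hA'A hx), ?_⟩ le_sup_left
    intro h
    apply hcon
    refine le_trans ?_ h
    refine le_inf (inf_le_left.trans inf_le_left) ?_
    rw [le_centralizer_iff]
    refine sup_le ?_ ?_
    · rw [le_centralizer_iff]; exact inf_le_left.trans inf_le_right
    · rw [zpowers_le, ← zpowers_le, le_centralizer_iff]
      intro k hk
      rw [mem_centralizer_iff]
      rintro _ ⟨i, rfl⟩
      have := mem_centralizer_singleton_iff.mp hk.2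
      exact ((show Commute x k from this.symm).zpow_left i).eq
  exact hxB (hBx (le_sup_right (α := Subgroup Γ) (mem_zpowers x)))

theorem two_mul_card_le [Finite Γ] {A B : Subgroup Γ} (h : A < B) : 2 * Nat.card A ≤ Nat.card B := by
  have h1 := SubgroupTools.card_mul_relIndex_of_le h.le
  have h2 : A.relIndex B ≠ 1 := by
    intro h3
    exact h.not_ge (relIndex_eq_one.mp h3)
  have h3 : A.relIndex B ≠ 0 := by
    intro h3
    rw [h3, mul_zero] at h1
    exact Nat.card_pos.ne' h1.symm
  have h4 : 2 ≤ A.relIndex B := by omega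
  calc 2 * Nat.card A = Nat.card A * 2 := mul_comm _ _
    _ ≤ Nat.card A * A.relIndex B := Nat.mul_le_mul_left _ h4
    _ = _ := h1

theorem card_eq_two_mul [Finite Γ] {A B : Subgroup Γ} (hA : Cfsg.IsElementaryAbelian 2 A) (hBA : B ≤ A)
    (hyp : ∀ a ∈ A, a ∉ B → A = B ⊔ zpowers a) (hne : B ≠ A) : Nat.card A = 2 * Nat.card B := by
  rw [ThompsonJ.elemAb_iff] at hA
  obtain ⟨a, haA, haB⟩ : ∃ a ∈ A, a ∉ B := by
    by_contra hcon
    push Not at hcon
    exact hne (le_antisymm hBA hcon)
  apply le_antisymm _ (two_mul_card_le (lt_of_le_of_ne hBA hne))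
  have h1 := hyp a haA haB
  have h2 : zpowers a ≤ normalizer (B : Set Γ) := by
    rw [zpowers_le]
    exact centralizer_le_normalizer _ (centralizer_le hBA (hA.1 haA))
  have h3 := SubgroupTools.card_sup_mul_card_inf h2
  have h4 : Nat.card (zpowers a) ≤ 2 := by
    rw [Nat.card_zpowers]
    exact Nat.le_of_dvd (by norm_num) (orderOf_dvd_of_pow_eq_one (hA.2 a haA))
  have h5 : 0 < Nat.card (B ⊓ zpowers a : Subgroup Γ) := Nat.card_pos
  have h6 : Nat.card A ≤ Nat.card B * Nat.card (zpowers a) := by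
    rw [← h3]
    calc Nat.card A = Nat.card (B ⊔ zpowers a : Subgroup Γ) := by rw [← h1]
      _ ≤ _ := Nat.le_mul_of_pos_right _ h5
  calc Nat.card A ≤ Nat.card B * Nat.card (zpowers a) := h6
    _ ≤ Nat.card B * 2 := Nat.mul_le_mul_left _ h4
    _ = _ := mul_comm _ _

variable {V H R : Subgroup Γ}

theorem Setup.inf_centralizer_eq_bot [Finite Γ] (S : Setup V H R) {A : Subgroup Γ} (hA : IsPGroup 2 A) (hAH : A ≤ H) :
    A ⊓ centralizer (R : Set Γ) = ⊥ := by
  have h1 : A ⊓ centralizer (R : Set Γ) ≤ A ⊓ R :=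
    le_inf inf_le_left ((inf_le_inf_right _ hAH).trans S.cent)
  have h2 : A ⊓ R = ⊥ := SubgroupTools.inf_eq_bot_of_coprime' (coprime_card_of_pgroup hA S.odd)
  rw [h2] at h1
  exact le_bot_iff.mp h1

theorem Setup.not_le_centralizer [Finite Γ] (S : Setup V H R) {A : Subgroup Γ} (hA : IsPGroup 2 A) (hAH : A ≤ H)
    (hA1 : A ≠ ⊥) : ¬ R ≤ centralizer (A : Set Γ) := by
  intro h
  rw [le_centralizer_iff] at h
  exact hA1 (by rw [← S.inf_centralizer_eq_bot hA hAH]; exact (inf_eq_left.mpr h).symm)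

theorem Setup.not_le_of_hyperplane [Finite Γ] (S : Setup V H R) {A B : Subgroup Γ}
    (hA : Cfsg.IsElementaryAbelian 2 A) (hAH : A ≤ H) (hBA : B ≤ A)
    (hn : ¬ R ⊓ centralizer (B : Set Γ) ≤ centralizer (A : Set Γ)) :
    ¬ V ⊓ centralizer (B : Set Γ) ≤ centralizer (A : Set Γ) := by
  intro hV
  set K := R ⊓ centralizer (B : Set Γ) with hK
  have hAp : IsPGroup 2 A := ThompsonJ.elemAb_isPGroup hA
  have hA' := ThompsonJ.elemAb_iff.mp hA
  have hAB : A ≤ centralizer (B : Set Γ) := hA'.1.trans (centralizer_le hBA)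
  have hAK : A ≤ normalizer (K : Set Γ) :=
    LocBase.le_normalizer_inf (hAH.trans S.HR)
      (LocBase.le_normalizer_centralizer (hAB.trans (centralizer_le_normalizer _)))
  set D := ⁅K, A⁆ with hD
  have hDK : D ≤ K := LocBase.commutator_le_left_of_le hAK
  have hKB : K ≤ centralizer (B : Set Γ) := inf_le_right
  have hKN : K ≤ normalizer ((V ⊓ centralizer (B : Set Γ) : Subgroup Γ) : Set Γ) :=
    LocBase.le_normalizer_inf ((inf_le_left.trans S.RH).trans S.norm)
      (LocBase.le_normalizer_centralizer (hKB.trans (centralizer_le_normalizer _)))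
  have hDV : V ⊓ centralizer (B : Set Γ) ≤ centralizer (D : Set Γ) := by
    rw [← commutator_eq_bot_iff_le_centralizer, commutator_comm, hD]
    apply CoprimeAction2.commutator_commutator_eq_bot
    · -- ⁅⁅A, V_B⁆, K⁆ = ⊥
      rw [commutator_comm A, commutator_eq_bot_iff_le_centralizer.mpr hV, commutator_bot_left]
    · rw [commutator_eq_bot_iff_le_centralizer]
      exact (LocBase.commutator_le_left_of_le hKN).trans hV
  have h1 := CoprimeAction2.thompson_PxQ (p := 2) (P := B) (Q := D) (hAp.to_le hBA)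
    (Nat.Coprime.coprime_dvd_left (card_dvd_of_le (hDK.trans inf_le_left)) S.odd)
    (by rw [le_centralizer_iff]; exact hDK.trans hKB) _ V rfl (ThompsonJ.elemAb_isPGroup S.elemV)
    ((hBA.trans hAH).trans S.norm) (((hDK.trans inf_le_left).trans S.RH).trans S.norm) hDV
  have h2 : D = ⊥ := by
    rw [eq_bot_iff, ← S.faith]
    exact le_inf ((hDK.trans inf_le_left).trans S.RH) h1
  exact hn (commutator_eq_bot_iff_le_centralizer.mp h2)

theorem Setup.two_mul_card_centralizer_le [Finite Γ] (S : Setup V H R) {A B : Subgroup Γ}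
    (hA : Cfsg.IsElementaryAbelian 2 A) (hAH : A ≤ H) (hBA : B ≤ A)
    (hn : ¬ R ⊓ centralizer (B : Set Γ) ≤ centralizer (A : Set Γ)) :
    2 * Nat.card (V ⊓ centralizer (A : Set Γ) : Subgroup Γ) ≤
      Nat.card (V ⊓ centralizer (B : Set Γ) : Subgroup Γ) := by
  apply two_mul_card_le
  refine lt_of_le_of_ne (inf_le_inf_left _ (centralizer_le hBA)) ?_
  intro h
  exact S.not_le_of_hyperplane hA hAH hBA hn (h ▸ inf_le_right)

/-- **Offender bound.** -/
theorem Setup.card_mul_le [Finite Γ] (S : Setup V H R) {A : Subgroup Γ}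
    (hA : Cfsg.IsElementaryAbelian 2 A) (hAH : A ≤ H) :
    Nat.card A * Nat.card (V ⊓ centralizer (A : Set Γ) : Subgroup Γ) ≤ Nat.card V := by
  obtain ⟨n, hn⟩ : ∃ n, Nat.card A = n := ⟨_, rfl⟩
  induction n using Nat.strong_induction_on generalizing A with
  | _ n ih =>
    by_cases hA1 : A = ⊥
    · subst hA1
      rw [card_bot, one_mul]
      exact card_le_of_le inf_le_left
    · have hAp : IsPGroup 2 A := ThompsonJ.elemAb_isPGroup hA
      obtain ⟨B, hBA, hyp, hne, hB⟩ := exists_hyperplane hA (hAH.trans S.HR) S.odd le_rfl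
        (S.not_le_centralizer hAp hAH hA1)
      have h1 := card_eq_two_mul hA hBA hyp hne
      have h2 := S.two_mul_card_centralizer_le hA hAH hBA hB
      have h3 : 0 < Nat.card B := Nat.card_pos
      have h4 := ih (Nat.card B) (by omega) (ThompsonJ.elemAb_mono hA hBA) (hBA.trans hAH) rfl
      calc Nat.card A * Nat.card (V ⊓ centralizer (A : Set Γ) : Subgroup Γ)
          = Nat.card B * (2 * Nat.card (V ⊓ centralizer (A : Set Γ) : Subgroup Γ)) := by rw [h1]; ring
        _ ≤ Nat.card B * Nat.card (V ⊓ centralizer (B : Set Γ) : Subgroup Γ) := Nat.mul_le_mul_left _ h2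
        _ ≤ _ := h4

/-- `t` acts on `V` as a transvection. -/
def IsTv (V : Subgroup Γ) (t : Γ) : Prop :=
  2 * Nat.card ↥(V ⊓ centralizer ({t} : Set Γ)) = Nat.card ↥V

/-- **Exact offenders are generated by transvections.** -/
theorem Setup.le_closure_isTv [Finite Γ] (S : Setup V H R) {A : Subgroup Γ}
    (hA : Cfsg.IsElementaryAbelian 2 A) (hAH : A ≤ H)
    (hex : Nat.card V ≤ Nat.card A * Nat.card (V ⊓ centralizer (A : Set Γ) : Subgroup Γ)) :
    A ≤ closure {t | t ∈ A ∧ IsTv V t} := by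
  obtain ⟨n, hn⟩ : ∃ n, Nat.card A = n := ⟨_, rfl⟩
  induction n using Nat.strong_induction_on generalizing A with
  | _ n ih =>
    by_cases hA1 : A = ⊥
    · subst hA1; exact bot_le
    have hAp : IsPGroup 2 A := ThompsonJ.elemAb_isPGroup hA
    -- hyperplanes are exact
    have key : ∀ B ≤ A, (∀ a ∈ A, a ∉ B → A = B ⊔ zpowers a) → B ≠ A →
        ¬ R ⊓ centralizer (B : Set Γ) ≤ centralizer (A : Set Γ) → B ≤ closure {t | t ∈ A ∧ IsTv V t} := by
      intro B hBA hyp hne hB
      have h1 := card_eq_two_mul hA hBA hyp hne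
      have h2 := S.two_mul_card_centralizer_le hA hAH hBA hB
      have h3 : 0 < Nat.card B := Nat.card_pos
      have h4 := ih (Nat.card B) (by omega) (ThompsonJ.elemAb_mono hA hBA) (hBA.trans hAH) (by
        calc Nat.card V ≤ Nat.card A * Nat.card (V ⊓ centralizer (A : Set Γ) : Subgroup Γ) := hex
          _ = Nat.card B * (2 * Nat.card (V ⊓ centralizer (A : Set Γ) : Subgroup Γ)) := by rw [h1]; ring
          _ ≤ _ := Nat.mul_le_mul_left _ h2) rfl
      exact h4.trans (closure_mono fun t ht => ⟨hBA ht.1, ht.2⟩)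
    obtain ⟨B, hBA, hyp, hne, hB⟩ := exists_hyperplane hA (hAH.trans S.HR) S.odd le_rfl
      (S.not_le_centralizer hAp hAH hA1)
    have h1 := card_eq_two_mul hA hBA hyp hne
    by_cases hB1 : B = ⊥
    · obtain ⟨a, haA, haB⟩ : ∃ a ∈ A, a ∉ B := by
        by_contra hcon
        push Not at hcon
        exact hne (le_antisymm hBA hcon)
      have h2 := hyp a haA haB
      rw [hB1, bot_sup_eq] at h2
      have h3 : Nat.card A = 2 := by rw [h1, hB1, card_bot]
      have h4 : IsTv V a := by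
        have h5 := S.card_mul_le hA hAH
        have h6 := le_antisymm h5 hex
        rw [h3, h2, zpowers_eq_closure, centralizer_closure] at h6
        exact h6
      rw [h2, zpowers_le]
      exact subset_closure ⟨mem_zpowers _, h4⟩
    · have hBp : IsPGroup 2 B := hAp.to_le hBA
      obtain ⟨B', hB'A, hyp', hne', hB'⟩ := exists_hyperplane hA (hAH.trans S.HR) S.odd hBA
        (S.not_le_centralizer hBp (hBA.trans hAH) hB1)
      have h1' := card_eq_two_mul hA hB'A hyp' hne'
      have hBB' : ¬ B' ≤ B := by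
        intro hle
        have : B' = B := Subgroup.eq_of_le_of_card_ge hle (by omega)
        rw [this] at hB'
        exact hB' inf_le_right
      obtain ⟨b, hb, hbB⟩ := SetLike.not_le_iff_exists.mp hBB'
      have h2 := hyp b (hB'A hb) hbB
      rw [h2]
      refine sup_le ?_ ?_
      · rw [← h2]; exact key B hBA hyp hne hB
      · rw [zpowers_le]
        have h3 := key B' hB'A hyp' hne' (fun h => hB' (h.trans (centralizer_le hBA)))
        rw [← h2]; exact h3 hb

end Cfsg.Agent.Lib.TvStruct
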