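import Mathlib.GroupTheory.FixedPointFree
import Cfsg.Agent.Lib.TvStruct

/-!
Structure of a transvection `t` acting on `V` (elementary abelian of order `2^n`): `[R, t]` has order 3.
-/

set_option autoImplicit false

namespace Cfsg.Agent.Lib.TvStruct

open Subgroup commutatorElement
open scoped Pointwise

universe u

variable {Γ : Type u} [Group Γ]

/-! ### small facts -/

theorem mul_mem_of_half [Finite Γ] {A B : Subgroup Γ} (hAB : A ≤ B) (h : Nat.card B ≤ 2 * Nat.card A) {x y : Γ}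
    (hx : x ∈ B) (hy : y ∈ B) (hxA : x ∉ A) (hyA : y ∉ A) : x * y ∈ A := by
  have hne : A < B := lt_of_le_of_ne hAB (fun h => hxA (h ▸ hx))
  have h1 := SubgroupTools.card_mul_relIndex_of_le hAB
  have h2 := two_mul_card_le hne
  have h3 : 0 < Nat.card A := Nat.card_pos
  have h4 : A.relIndex B = 2 := by
    have h5 : Nat.card A * A.relIndex B = Nat.card A * 2 := by omega
    exact Nat.eq_of_mul_eq_mul_left h3 h5
  have h5 : (A.subgroupOf B).index = 2 := h4
  have h6 := mul_mem_iff_of_index_two h5 (a := ⟨x, hx⟩) (b := ⟨y, hy⟩)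
  have h7 : (⟨x, hx⟩ : B) * ⟨y, hy⟩ ∈ A.subgroupOf B := h6.mpr (by
    simp only [mem_subgroupOf]
    exact ⟨fun h => absurd h hxA, fun h => absurd h hyA⟩)
  exact mem_subgroupOf.mp h7

theorem mul_inv_mem_of_half [Finite Γ] {A B : Subgroup Γ} (hAB : A ≤ B) (h : Nat.card B ≤ 2 * Nat.card A) {x y : Γ}
    (hx : x ∈ B) (hy : y ∈ B) (hxy : x ∈ A ↔ y ∈ A) : x * y⁻¹ ∈ A := by
  by_cases hxA : x ∈ A
  · exact mul_mem hxA (inv_mem (hxy.mp hxA))
  · exact mul_mem_of_half hAB h hx (inv_mem hy) hxA (fun h => hxA (hxy.mpr (by simpa using h)))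

/-- A group acting faithfully on a group of order 4 has order dividing 6. -/
theorem card_dvd_six [Finite Γ] {P W : Subgroup Γ} (hW : Nat.card W = 4) (hPW : P ≤ normalizer (W : Set Γ))
    (hf : P ⊓ centralizer (W : Set Γ) = ⊥) : Nat.card P ∣ 6 := by
  classical
  let f : P →* MulAut W := W.normalizerMonoidHom.comp (inclusion hPW)
  have hf1 : Function.Injective f := by
    rw [← MonoidHom.ker_eq_bot_iff, eq_bot_iff]
    intro x hx
    rw [MonoidHom.mem_ker] at hx
    have hx2 : inclusion hPW x ∈ W.normalizerMonoidHom.ker := hx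
    rw [normalizerMonoidHom_ker, mem_subgroupOf] at hx2
    have hx3 : (x : Γ) ∈ P ⊓ centralizer (W : Set Γ) := ⟨x.2, hx2⟩
    rw [hf, mem_bot] at hx3
    rw [mem_bot]
    exact Subtype.ext hx3
  let e : MulAut W →* Equiv.Perm {w : W // w ≠ 1} :=
    { toFun := fun φ => φ.toEquiv.subtypeEquiv (fun w => by
        constructor
        · intro h h'
          apply h
          exact (map_eq_one_iff φ φ.injective).mp h'
        · rintro h rfl
          exact h (map_one φ))
      map_one' := by ext w; rfl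
      map_mul' := fun φ ψ => by ext w; rfl }
  have he : Function.Injective e := by
    intro φ ψ h
    ext w
    by_cases hw : w = 1
    · rw [hw, map_one, map_one]
    · have h2 := congrArg (fun σ => ((σ ⟨w, hw⟩ : {w : W // w ≠ 1}) : W)) h
      exact congrArg Subtype.val h2
  have h1 : Nat.card P ∣ Nat.card (Equiv.Perm {w : W // w ≠ 1}) :=
    card_dvd_of_injective (e.comp f) (he.comp hf1)
  have h2 : Nat.card {w : W // w ≠ 1} = 3 := by
    have h3 : Nat.card {w : W // w ≠ 1} = Nat.card W - 1 := by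
      have : Fintype W := Fintype.ofFinite W
      rw [Nat.card_eq_fintype_card, Nat.card_eq_fintype_card]
      exact Set.card_ne_eq (1 : W)
    rw [h3, hW]
  rw [Nat.card_perm, h2] at h1
  exact h1

/-- An odd-order group acting faithfully on a group of order 4 has order dividing 3. -/
theorem card_dvd_three [Finite Γ] {P W : Subgroup Γ} (hW : Nat.card W = 4) (hPW : P ≤ normalizer (W : Set Γ))
    (hf : P ⊓ centralizer (W : Set Γ) = ⊥) (hodd : (Nat.card P).Coprime 2) : Nat.card P ∣ 3 := by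
  have h3 : Nat.card P ∣ 2 * 3 := card_dvd_six hW hPW hf
  exact hodd.dvd_of_dvd_mul_left h3

theorem eq_of_dvd_three {n : ℕ} (h : n ∣ 3) (h1 : n ≠ 1) : n = 3 :=
  ((Nat.dvd_prime Nat.prime_three).mp h).resolve_left h1

variable {V H R : Subgroup Γ}

theorem Setup.mul_comm' (S : Setup V H R) {v w : Γ} (hv : v ∈ V) (hw : w ∈ V) : v * w = w * v :=
  (mem_centralizer_iff.mp ((ThompsonJ.elemAb_iff.mp S.elemV).1 hv) w hw).symm

theorem Setup.sq (S : Setup V H R) {v : Γ} (hv : v ∈ V) : v * v = 1 := by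
  rw [← pow_two]; exact (ThompsonJ.elemAb_iff.mp S.elemV).2 v hv

theorem Setup.inv (S : Setup V H R) {v : Γ} (hv : v ∈ V) : v⁻¹ = v :=
  inv_eq_of_mul_eq_one_left (S.sq hv)

theorem Setup.conjV (S : Setup V H R) {h v : Γ} (hh : h ∈ H) (hv : v ∈ V) : h * v * h⁻¹ ∈ V :=
  LocBase.conj_mem_of_le_normalizer S.norm hh hv

theorem Setup.eq_one_of_forall (S : Setup V H R) {h : Γ} (hh : h ∈ H) (hv : ∀ v ∈ V, h * v = v * h) : h = 1 := by
  have : h ∈ H ⊓ centralizer (V : Set Γ) := mem_inf.mpr ⟨hh, mem_centralizer_iff.mpr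
    fun v hv' => (hv v hv').symm⟩
  rwa [S.faith, mem_bot] at this

/-- the centre of the transvection `t`. -/
structure IsCentre (V : Subgroup Γ) (t c : Γ) : Prop where
  mem : c ∈ V
  ne : c ≠ 1
  sq : c * c = 1
  comm : t * c = c * t
  act : ∀ v ∈ V, (t * v = v * t) ∨ t * v * t⁻¹ = c * v
  ex : ∃ v ∈ V, t * v * t⁻¹ = c * v

theorem Setup.exists_centre [Finite Γ] (S : Setup V H R) {t : Γ} (ht : t ∈ H) (htv : IsTv V t) :
    ∃ c, IsCentre V t c := by
  unfold IsTv at htv
  set C := V ⊓ centralizer ({t} : Set Γ) with hC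
  have hCV : C ≤ V := inf_le_left
  have memC : ∀ {v : Γ}, v ∈ V → (v ∈ C ↔ t * v = v * t) := by
    intro v hv
    rw [hC, mem_inf, mem_centralizer_singleton_iff]
    exact ⟨fun h => h.2.symm, fun h => ⟨hv, h.symm⟩⟩
  have hpos : 0 < Nat.card C := Nat.card_pos
  obtain ⟨v₀, hv₀, hv₀C⟩ : ∃ v ∈ V, v ∉ C := by
    by_contra hcon
    push Not at hcon
    have : V = C := le_antisymm hcon hCV
    rw [← this] at htv
    have h4 : 0 < Nat.card V := Nat.card_pos
    omega
  set c := t * v₀ * t⁻¹ * v₀⁻¹ with hc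
  have hconj : ∀ v ∈ V, t * v * t⁻¹ ∈ V := fun v hv => S.conjV ht hv
  have hconjC : ∀ v ∈ V, (t * v * t⁻¹ ∈ C ↔ v ∈ C) := by
    intro v hv
    rw [memC (hconj v hv), memC hv]
    constructor
    · intro h
      have h2 : t * (t * v * t⁻¹) = t * v := by rw [h]; group
      have h3 : t * v * t⁻¹ = v := mul_left_cancel h2
      rw [mul_inv_eq_iff_eq_mul] at h3
      exact h3
    · intro h
      have h2 : t * v * t⁻¹ = v := by rw [h]; group
      rw [h2]; exact h
  have hcC : c ∈ C := mul_inv_mem_of_half hCV (by omega) (hconj v₀ hv₀) hv₀ (hconjC v₀ hv₀)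
  have hcV := hCV hcC
  have hact : ∀ v ∈ V, (t * v = v * t) ∨ t * v * t⁻¹ = c * v := by
    intro v hv
    by_cases hvC : v ∈ C
    · left; exact (memC hv).mp hvC
    · right
      have h1 : v * v₀⁻¹ ∈ C := mul_mem_of_half hCV (by omega) hv (inv_mem hv₀) hvC
        (fun h => hv₀C (by simpa using h))
      have h2 := (memC (hCV h1)).mp h1
      have h3 : v = v * v₀⁻¹ * v₀ := by group
      have h4 : t * v * t⁻¹ = (t * (v * v₀⁻¹)) * t⁻¹ * (t * v₀ * t⁻¹) := by group
      rw [h4, h2]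
      have h5 : t * v₀ * t⁻¹ = c * v₀ := by rw [hc]; group
      rw [h5]
      calc v * v₀⁻¹ * t * t⁻¹ * (c * v₀) = (v * v₀⁻¹) * c * v₀ := by group
        _ = c * (v * v₀⁻¹) * v₀ := by rw [S.mul_comm' (mul_mem hv (inv_mem hv₀)) hcV]
        _ = c * v := by group
  refine ⟨c, hcV, ?_, S.sq hcV, (memC hcV).mp hcC, hact, v₀, hv₀, by rw [hc]; group⟩
  intro hc1
  apply hv₀C
  rw [memC hv₀]
  rw [hc] at hc1
  have := mul_inv_eq_one.mp hc1
  rwa [mul_inv_eq_iff_eq_mul] at this

theorem Setup.tv_sq [Finite Γ] (S : Setup V H R) {t : Γ} (ht : t ∈ H) (htv : IsTv V t) : t * t = 1 := by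
  obtain ⟨c, hc⟩ := S.exists_centre ht htv
  apply S.eq_one_of_forall (mul_mem ht ht)
  intro v hv
  rcases hc.act v hv with h | h
  · rw [mul_assoc, h, ← mul_assoc, h, mul_assoc]
  · have h1 : t * t * v * (t * t)⁻¹ = t * (t * v * t⁻¹) * t⁻¹ := by group
    have h2 : t * t * v * (t * t)⁻¹ = v := by
      rw [h1, h]
      calc t * (c * v) * t⁻¹ = (t * c) * t⁻¹ * (t * v * t⁻¹) := by group
        _ = v := by rw [hc.comm, h]; simp only [mul_inv_cancel_right]; rw [← mul_assoc, hc.sq, one_mul]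
    rwa [mul_inv_eq_iff_eq_mul] at h2

theorem tv_ne_one [Finite Γ] {t : Γ} (htv : IsTv V t) : t ≠ 1 := by
  rintro rfl
  unfold IsTv at htv
  have : V ⊓ centralizer ({1} : Set Γ) = V := by
    apply inf_eq_left.mpr
    intro v _
    rw [mem_centralizer_singleton_iff]; simp
  rw [this] at htv
  have h4 : 0 < Nat.card V := Nat.card_pos
  omega

theorem isPGroup_zpowers_of_sq {t : Γ} (h : t * t = 1) : IsPGroup 2 (zpowers t) :=
  ThompsonJ.elemAb_isPGroup (ThompsonJ.elemAb_zpowers (by rw [pow_two, h]))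

theorem Setup.vp (S : Setup V H R) : IsPGroup 2 V := ThompsonJ.elemAb_isPGroup S.elemV

theorem Setup.vab (S : Setup V H R) : IsMulCommutative V := by
  rw [← le_centralizer_iff_isMulCommutative]; exact (ThompsonJ.elemAb_iff.mp S.elemV).1

theorem Setup.le_normalizer_of_le (S : Setup V H R) {W : Subgroup Γ} (hW : W ≤ V) : V ≤ normalizer (W : Set Γ) :=
  ((ThompsonJ.elemAb_iff.mp S.elemV).1.trans (centralizer_le hW)).trans (centralizer_le_normalizer _)

/-- for an odd-order subgroup `P ≤ H`: `V = C_V(P) × [V,P]`. -/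
theorem Setup.inf_commutator [Finite Γ] (S : Setup V H R) {P : Subgroup Γ} (hPH : P ≤ H)
    (hP : (Nat.card P).Coprime 2) : (V ⊓ centralizer (P : Set Γ)) ⊓ ⁅V, P⁆ = ⊥ := by
  have := S.vab
  exact CoprimeAction2.inf_commutator_eq_bot_of_abelian (hPH.trans S.norm) (coprime_card_of_pgroup S.vp hP).symm

theorem Setup.sup_commutator [Finite Γ] (S : Setup V H R) {P : Subgroup Γ} (hPH : P ≤ H)
    (hP : (Nat.card P).Coprime 2) : (V ⊓ centralizer (P : Set Γ)) ⊔ ⁅V, P⁆ = V := by
  have := S.vab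
  exact CoprimeAction2.sup_commutator_eq_of_abelian (hPH.trans S.norm) (coprime_card_of_pgroup S.vp hP).symm

theorem Setup.commutator_le (S : Setup V H R) {P : Subgroup Γ} (hPH : P ≤ H) : ⁅V, P⁆ ≤ V :=
  LocBase.commutator_le_left_of_le (hPH.trans S.norm)

theorem Setup.commutator_ne_bot [Finite Γ] (S : Setup V H R) {P : Subgroup Γ} (hPH : P ≤ H)
    (hP1 : P ≠ ⊥) : ⁅V, P⁆ ≠ ⊥ := by
  intro h
  rw [commutator_eq_bot_iff_le_centralizer, le_centralizer_iff] at h
  apply hP1
  rw [eq_bot_iff, ← S.faith]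
  exact le_inf hPH h

/-- coprime action on a chain `V ≥ N` -/
theorem Setup.le_centralizer_of_chain [Finite Γ] (S : Setup V H R) {P M N : Subgroup Γ} (hPM : P ≤ normalizer (M : Set Γ))
    (hP : (Nat.card P).Coprime 2) (hMV : M ≤ V) (h1 : ⁅M, P⁆ ≤ N) (h2 : N ≤ centralizer (P : Set Γ)) :
    M ≤ centralizer (P : Set Γ) := by
  have hM : IsPGroup 2 M := S.vp.to_le hMV
  exact CoprimeAction2.le_centralizer_of_series hPM (coprime_card_of_pgroup hM hP).symm
    (Or.inr (Group.isSolvable_of_comm fun a b => Subtype.ext (S.mul_comm' (hMV a.2) (hMV b.2)))) h1 h2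

/-- An odd-order subgroup centralises every invariant subgroup of `V` of order at most 2. -/
theorem le_centralizer_of_card_le_two [Finite Γ] {P M : Subgroup Γ} (hPM : P ≤ normalizer (M : Set Γ))
    (hM : Nat.card M ≤ 2) : M ≤ centralizer (P : Set Γ) := by
  intro m hm
  rw [mem_centralizer_iff]
  intro p hp
  by_cases hm1 : m = 1
  · rw [hm1, one_mul, mul_one]
  · have h1 : p * m * p⁻¹ ∈ M := LocBase.conj_mem_of_le_normalizer hPM hp hm
    have h2 : p * m * p⁻¹ ≠ 1 := by
      intro h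
      apply hm1
      have : m = p⁻¹ * (p * m * p⁻¹) * p := by group
      rw [this, h]; group
    have h3 : p * m * p⁻¹ = m := by
      by_contra hne
      have h4 : ({1, m, p * m * p⁻¹} : Set Γ).ncard = 3 := by
        rw [Set.ncard_eq_three]
        exact ⟨1, m, _, Ne.symm hm1, Ne.symm h2, Ne.symm hne, rfl⟩
      have h5 : ({1, m, p * m * p⁻¹} : Set Γ).ncard ≤ (M : Set Γ).ncard := by
        apply Set.ncard_le_ncard _ (Set.toFinite _)
        rintro z (rfl | rfl | rfl)
        · exact one_mem _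
        · exact hm
        · exact h1
      rw [h4, ← Nat.card_coe_set_eq] at h5
      have h6 : 3 ≤ Nat.card M := h5
      omega
    rw [mul_inv_eq_iff_eq_mul] at h3
    exact h3

/-- An inverted element of `R` is a commutator `[y,t]`, `y ∈ ⟨x⟩`. -/
theorem exists_eq_commutator [Finite Γ] (hodd : (Nat.card R).Coprime 2) {t x : Γ} (hx : x ∈ R)
    (hinv : t * x * t⁻¹ = x⁻¹) : ∃ y ∈ R, x = y * t * y⁻¹ * t⁻¹ := by
  have hox : (orderOf x).Coprime 2 :=
    Nat.Coprime.coprime_dvd_left (by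
      rw [← Nat.card_zpowers]
      exact card_dvd_of_le (by rwa [zpowers_le])) hodd
  have hodd' : Odd (orderOf x) := Nat.coprime_two_right.mp hox
  obtain ⟨k, hk⟩ := hodd'
  refine ⟨x ^ (k + 1), pow_mem hx _, ?_⟩
  have h1 : t * (x ^ (k + 1))⁻¹ * t⁻¹ = x ^ (k + 1) := by
    have h2 : t * (x ^ (k + 1))⁻¹ * t⁻¹ = ((t * x * t⁻¹) ^ (k + 1))⁻¹ := by
      rw [conj_pow]; group
    rw [h2, hinv]; group
  calc x = x ^ (2 * k + 1) * x := by rw [← hk, pow_orderOf_eq_one, one_mul]
    _ = x ^ (k + 1) * x ^ (k + 1) := by rw [← pow_succ, ← pow_add]; congr 1; omega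
    _ = x ^ (k + 1) * (t * (x ^ (k + 1))⁻¹ * t⁻¹) := by rw [h1]
    _ = _ := by group

end Cfsg.Agent.Lib.TvStruct
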