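import Cfsg.Agent.Lib.TvStruct2

/-!
Structure of a transvection `t` acting on `V`: `D = [R, t]` has order 3 and is normal in `R`, `|[V, D]| = 4`.
-/

set_option autoImplicit false

namespace Cfsg.Agent.Lib.TvStruct

open Subgroup commutatorElement
open scoped Pointwise

universe u

variable {Γ : Type u} [Group Γ] {V H R : Subgroup Γ}

theorem IsCentre.act' {t c : Γ} (hc : IsCentre V t c) {v : Γ} (hv : v ∈ V) :
    t * v * t⁻¹ = v ∨ t * v * t⁻¹ = c * v := by
  rcases hc.act v hv with h | h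
  · left; rw [h]; group
  · right; exact h

theorem Setup.tv_inverted [Finite Γ] (S : Setup V H R) {t c : Γ} (ht : t ∈ H) (htv : IsTv V t)
    (hc : IsCentre V t c) {x : Γ} (hx : x ∈ R) (hinv : t * x * t⁻¹ = x⁻¹) (hx1 : x ≠ 1) :
    Nat.card (⁅V, zpowers x⁆ : Subgroup Γ) = 4 ∧ x ^ 3 = 1 ∧ c ∈ ⁅V, zpowers x⁆ ∧
      V ⊓ centralizer ({x} : Set Γ) ≤ centralizer ({t} : Set Γ) := by
  have ht2 := S.tv_sq ht htv
  have htinv : t⁻¹ = t := inv_eq_of_mul_eq_one_left ht2
  obtain ⟨y, hy, hxy⟩ := exists_eq_commutator S.odd hx hinv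
  have hyH := S.RH hy
  have hxH := S.RH hx
  set c' := y * c * y⁻¹ with hc'
  have hc'V : c' ∈ V := S.conjV hyH hc.mem
  have hc'2 : c' * c' = 1 := S.sq hc'V
  set F : Subgroup Γ := zpowers c ⊔ zpowers c' with hF
  have hcF : c ∈ F := mem_sup_left (mem_zpowers c)
  have hc'F : c' ∈ F := mem_sup_right (mem_zpowers c')
  have hFV : F ≤ V := sup_le (by rw [zpowers_le]; exact hc.mem) (by rw [zpowers_le]; exact hc'V)
  have hxv : ∀ v ∈ V, x * v * x⁻¹ * v⁻¹ ∈ F := by
    intro v hv
    have h1 : x * v * x⁻¹ = y * (t * (y⁻¹ * (t * v * t⁻¹) * y) * t⁻¹) * y⁻¹ := by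
      rw [hxy]
      have : t⁻¹ * v * t = t * v * t⁻¹ := by rw [htinv]
      calc y * t * y⁻¹ * t⁻¹ * v * (y * t * y⁻¹ * t⁻¹)⁻¹ = y * t * y⁻¹ * (t⁻¹ * v * t) * y * t⁻¹ * y⁻¹ := by group
        _ = _ := by rw [this]; group
    have hw : t * v * t⁻¹ ∈ V := S.conjV ht hv
    have hw' : y⁻¹ * (t * v * t⁻¹) * y ∈ V := by
      have := S.conjV (H.inv_mem hyH) hw
      simpa using this
    rcases hc.act' hw' with h2 | h2 <;> rcases hc.act' hv with h3 | h3
    · rw [h1, h2, h3]
      have : y * (y⁻¹ * v * y) * y⁻¹ * v⁻¹ = 1 := by group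
      rw [this]; exact one_mem _
    · rw [h1, h2, h3]
      have : y * (y⁻¹ * (c * v) * y) * y⁻¹ * v⁻¹ = c := by group
      rw [this]; exact hcF
    · rw [h1, h2, h3]
      have : y * (c * (y⁻¹ * v * y)) * y⁻¹ * v⁻¹ = c' := by rw [hc']; group
      rw [this]; exact hc'F
    · rw [h1, h2, h3]
      have : y * (c * (y⁻¹ * (c * v) * y)) * y⁻¹ * v⁻¹ = c' * c := by rw [hc']; group
      rw [this]; exact mul_mem hc'F hcF
  set P := zpowers x with hP
  have hPR : P ≤ R := by rw [hP, zpowers_le]; exact hx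
  have hPH : P ≤ H := hPR.trans S.RH
  have hPodd : (Nat.card P).Coprime 2 := Nat.Coprime.coprime_dvd_left (card_dvd_of_le hPR) S.odd
  have hP1 : P ≠ ⊥ := by rw [hP, Ne, zpowers_eq_bot]; exact hx1
  have hFN : P ≤ normalizer (F : Set Γ) := by
    rw [hP, zpowers_le]
    apply LocBase.mem_normalizer_of_map_conj_le
    rintro _ ⟨f, hf, rfl⟩
    have h1 : x * f * x⁻¹ = x * f * x⁻¹ * f⁻¹ * f := by group
    show x * f * x⁻¹ ∈ F
    rw [h1]
    exact mul_mem (hxv f (hFV hf)) hf
  set W := ⁅V, P⁆ with hW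
  have hWV : W ≤ V := S.commutator_le hPH
  have hWF : W ≤ F := by
    rw [hW, commutator_comm, hP, zpowers_eq_closure]
    apply LocBase.commutator_closure_le
    · rw [← zpowers_eq_closure]; exact hFN
    · intro z hz v hv
      rw [Set.mem_singleton_iff] at hz
      rw [hz, commutatorElement_def]
      exact hxv v hv
  have hFcard : Nat.card F ≤ 4 := by
    have h1 : zpowers c' ≤ normalizer (zpowers c : Set Γ) := by
      rw [zpowers_le]
      exact S.le_normalizer_of_le (by rw [zpowers_le]; exact hc.mem) hc'V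
    have h2 := SubgroupTools.card_sup_mul_card_inf h1
    have h3 : ∀ z : Γ, z * z = 1 → Nat.card (zpowers z) ≤ 2 := by
      intro z hz
      rw [Nat.card_zpowers]
      exact Nat.le_of_dvd (by norm_num) (orderOf_dvd_of_pow_eq_one (by rw [pow_two, hz]))
    have h4 : 0 < Nat.card (zpowers c ⊓ zpowers c' : Subgroup Γ) := Nat.card_pos
    calc Nat.card F ≤ Nat.card F * Nat.card (zpowers c ⊓ zpowers c' : Subgroup Γ) := Nat.le_mul_of_pos_right _ h4
      _ = Nat.card (zpowers c) * Nat.card (zpowers c') := h2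
      _ ≤ 2 * 2 := Nat.mul_le_mul (h3 c hc.sq) (h3 c' hc'2)
  have hPW : P ≤ normalizer (W : Set Γ) := normalizer_commutator_ge_right V P
  have hWcard : Nat.card W = 4 := by
    have h1 : ¬ Nat.card W ≤ 2 := by
      intro h
      have h2 := le_centralizer_of_card_le_two hPW h
      have h3 := S.le_centralizer_of_chain (hPH.trans S.norm) hPodd le_rfl le_rfl h2
      apply hP1
      rw [eq_bot_iff, ← S.faith]
      exact le_inf hPH (le_centralizer_iff.mp h3)
    obtain ⟨k, hk⟩ := IsPGroup.iff_card.mp (S.vp.to_le hWV)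
    have h2 : Nat.card W ≤ 4 := (card_le_of_le hWF).trans hFcard
    rw [hk] at h1 h2 ⊢
    have h3 : k ≤ 2 := by
      by_contra hcon
      have : 2 ^ 3 ≤ 2 ^ k := Nat.pow_le_pow_right (by norm_num) (by omega)
      omega
    have h4 : 2 ≤ k := by
      by_contra hcon
      have : 2 ^ k ≤ 2 ^ 1 := Nat.pow_le_pow_right (by norm_num) (by omega)
      omega
    rw [le_antisymm h3 h4]; norm_num
  have hWF' : W = F := Subgroup.eq_of_le_of_card_ge hWF (by rw [hWcard]; exact hFcard)
  have hcW : c ∈ W := hWF' ▸ hcF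
  have hfaith : P ⊓ centralizer (W : Set Γ) = ⊥ := by
    set E := P ⊓ centralizer (W : Set Γ) with hE
    have h1 : V ≤ centralizer (E : Set Γ) := by
      apply S.le_centralizer_of_chain ((inf_le_left.trans hPH).trans S.norm)
        (Nat.Coprime.coprime_dvd_left (card_dvd_of_le inf_le_left) hPodd) le_rfl
        (commutator_mono le_rfl inf_le_left) (N := ⁅V, P⁆)
      rw [le_centralizer_iff]; exact inf_le_right
    rw [eq_bot_iff, ← S.faith]
    exact le_inf (inf_le_left.trans hPH) (le_centralizer_iff.mp h1)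
  have hcard3 := card_dvd_three hWcard hPW hfaith hPodd
  refine ⟨hWcard, ?_, hcW, ?_⟩
  · rw [hP, Nat.card_zpowers] at hcard3
    exact orderOf_dvd_iff_pow_eq_one.mp hcard3
  · intro v hvv
    obtain ⟨hv, hvx⟩ := mem_inf.mp hvv
    rw [mem_centralizer_singleton_iff] at hvx
    rw [mem_centralizer_singleton_iff]
    rcases hc.act v hv with h | h
    · exact h.symm
    · exfalso
      have h1 : c = t * v * t⁻¹ * v⁻¹ := by rw [h]; group
      have h2 : Commute x (t * v * t⁻¹) := by
        have h3 : x = t * x⁻¹ * t⁻¹ := by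
          have : t * x⁻¹ * t⁻¹ = (t * x * t⁻¹)⁻¹ := by group
          rw [this, hinv, inv_inv]
        have h4 : Commute x⁻¹ v := (show Commute v x from hvx).symm.inv_left
        rw [h3]
        show t * x⁻¹ * t⁻¹ * (t * v * t⁻¹) = t * v * t⁻¹ * (t * x⁻¹ * t⁻¹)
        calc t * x⁻¹ * t⁻¹ * (t * v * t⁻¹) = t * (x⁻¹ * v) * t⁻¹ := by group
          _ = t * (v * x⁻¹) * t⁻¹ := by rw [h4.eq]
          _ = _ := by group
      have h3 : Commute x c := by
        rw [h1]
        exact h2.mul_right (show Commute v x from hvx).symm.inv_right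
      have h4 : c ∈ (V ⊓ centralizer (P : Set Γ)) ⊓ ⁅V, P⁆ := by
        refine mem_inf.mpr ⟨mem_inf.mpr ⟨hc.mem, ?_⟩, hcW⟩
        rw [hP, zpowers_eq_closure, centralizer_closure, mem_centralizer_singleton_iff]
        exact h3.symm.eq
      rw [S.inf_commutator hPH hPodd, mem_bot] at h4
      exact hc.ne h4

theorem commutator_sup_le {P A B N : Subgroup Γ} (hA : A ≤ normalizer (N : Set Γ)) (hB : B ≤ normalizer (N : Set Γ))
    (h1 : ⁅P, A⁆ ≤ N) (h2 : ⁅P, B⁆ ≤ N) : ⁅P, A ⊔ B⁆ ≤ N := by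
  rw [commutator_comm, sup_eq_closure]
  apply LocBase.commutator_closure_le
  · rw [← sup_eq_closure]; exact sup_le hA hB
  · rintro x (hx | hx) a ha
    · exact (commutator_comm P A ▸ h1) (commutator_mem_commutator hx ha)
    · exact (commutator_comm P B ▸ h2) (commutator_mem_commutator hx ha)

theorem mem_normalizer_zpowers_of_inv {t x : Γ} [Finite Γ] (h : t * x * t⁻¹ = x⁻¹) :
    t ∈ normalizer (zpowers x : Set Γ) := by
  apply LocBase.mem_normalizer_of_map_conj_le
  rintro _ ⟨_, ⟨k, rfl⟩, rfl⟩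
  show t * x ^ k * t⁻¹ ∈ zpowers x
  rw [← conj_zpow, h]
  exact zpow_mem (inv_mem (mem_zpowers x)) k

theorem Setup.conj_centre (S : Setup V H R) {t c h : Γ} (hc : IsCentre V t c) (hh : h ∈ H) (hht : h * t = t * h) :
    h * c * h⁻¹ = c := by
  obtain ⟨v₀, hv₀, hv₀c⟩ := hc.ex
  have h1 : t * (h * v₀ * h⁻¹) * t⁻¹ = (h * c * h⁻¹) * (h * v₀ * h⁻¹) := by
    have h2 : t * h = h * t := hht.symm
    have h3 : h⁻¹ * t⁻¹ = t⁻¹ * h⁻¹ := by
      rw [← mul_inv_rev, ← mul_inv_rev, h2]
    calc t * (h * v₀ * h⁻¹) * t⁻¹ = (t * h) * v₀ * (h⁻¹ * t⁻¹) := by group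
      _ = h * (t * v₀ * t⁻¹) * h⁻¹ := by rw [h2, h3]; group
      _ = _ := by rw [hv₀c]; group
  rcases hc.act' (S.conjV hh hv₀) with h2 | h2
  · exfalso
    rw [h1] at h2
    have h3 : h * c * h⁻¹ = 1 := by
      have := mul_right_cancel (h2.trans (one_mul _).symm)
      exact this
    apply hc.ne
    have : c = h⁻¹ * (h * c * h⁻¹) * h := by group
    rw [this, h3]; group
  · rw [h1] at h2
    exact mul_right_cancel h2

theorem Setup.tv_unique [Finite Γ] (S : Setup V H R) {t : Γ} (ht : t ∈ H) (htv : IsTv V t)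
    {x y : Γ} (hx : x ∈ R) (hy : y ∈ R) (hxi : t * x * t⁻¹ = x⁻¹) (hyi : t * y * t⁻¹ = y⁻¹) (hx1 : x ≠ 1) :
    y ∈ zpowers x := by
  by_cases hy1 : y = 1
  · rw [hy1]; exact one_mem _
  obtain ⟨c, hc⟩ := S.exists_centre ht htv
  have ht2 := S.tv_sq ht htv
  obtain ⟨hWx, hx3, hcx, hCx⟩ := S.tv_inverted ht htv hc hx hxi hx1
  obtain ⟨hWy, hy3, hcy, hCy⟩ := S.tv_inverted ht htv hc hy hyi hy1
  set A := zpowers x with hA
  set B := zpowers y with hB
  set H₀ := A ⊔ B with hH₀
  have hAR : A ≤ R := by rw [hA, zpowers_le]; exact hx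
  have hBR : B ≤ R := by rw [hB, zpowers_le]; exact hy
  have hH₀R : H₀ ≤ R := sup_le hAR hBR
  have hH₀H : H₀ ≤ H := hH₀R.trans S.RH
  have hH₀odd : (Nat.card H₀).Coprime 2 := Nat.Coprime.coprime_dvd_left (card_dvd_of_le hH₀R) S.odd
  have hAodd : (Nat.card A).Coprime 2 := Nat.Coprime.coprime_dvd_left (card_dvd_of_le hAR) S.odd
  have htN : t ∈ normalizer (H₀ : Set Γ) := by
    have h1 : zpowers t ≤ normalizer (A : Set Γ) := by rw [zpowers_le]; exact mem_normalizer_zpowers_of_inv hxi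
    have h2 : zpowers t ≤ normalizer (B : Set Γ) := by rw [zpowers_le]; exact mem_normalizer_zpowers_of_inv hyi
    exact LocBase.le_normalizer_sup h1 h2 (mem_zpowers t)
  set Wx := ⁅V, A⁆ with hWxdef
  set Wy := ⁅V, B⁆ with hWydef
  set M := Wx ⊔ Wy with hM
  have hWxV : Wx ≤ V := S.commutator_le (hAR.trans S.RH)
  have hWyV : Wy ≤ V := S.commutator_le (hBR.trans S.RH)
  have hMV : M ≤ V := sup_le hWxV hWyV
  have hVM : V ≤ normalizer (M : Set Γ) := S.le_normalizer_of_le hMV
  have hcM : c ∈ M := mem_sup_left hcx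
  have hccard : Nat.card (zpowers c) = 2 := by
    rw [Nat.card_zpowers]
    exact orderOf_eq_prime (by rw [pow_two, hc.sq]) hc.ne
  have hMcard : Nat.card M ≤ 8 := by
    have h1 := SubgroupTools.card_sup_mul_card_inf (N := Wx) (H := Wy) (hWyV.trans (S.le_normalizer_of_le hWxV))
    rw [hWx, hWy] at h1
    have h2 : 2 ≤ Nat.card (Wx ⊓ Wy : Subgroup Γ) := by
      rw [← hccard]
      exact card_le_of_le (by rw [zpowers_le]; exact ⟨hcx, hcy⟩)
    have h3 : Nat.card M * 2 ≤ 4 * 4 := by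
      rw [← h1]; exact Nat.mul_le_mul_left _ h2
    omega
  have hAM : A ≤ normalizer (M : Set Γ) := by
    rw [le_normalizer_iff_commutator_le_left]
    exact (commutator_mono hMV le_rfl).trans le_sup_left
  have hBM : B ≤ normalizer (M : Set Γ) := by
    rw [le_normalizer_iff_commutator_le_left]
    exact (commutator_mono hMV le_rfl).trans le_sup_right
  have hH₀M : H₀ ≤ normalizer (M : Set Γ) := sup_le hAM hBM
  have hVH₀ : ⁅V, H₀⁆ ≤ M := commutator_sup_le hAM hBM le_sup_left le_sup_right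
  have hfaithM : H₀ ⊓ centralizer (M : Set Γ) = ⊥ := by
    set E := H₀ ⊓ centralizer (M : Set Γ) with hE
    have h1 : V ≤ centralizer (E : Set Γ) := by
      apply S.le_centralizer_of_chain ((inf_le_left.trans hH₀H).trans S.norm)
        (Nat.Coprime.coprime_dvd_left (card_dvd_of_le inf_le_left) hH₀odd) le_rfl
        ((commutator_mono le_rfl inf_le_left).trans hVH₀)
      rw [le_centralizer_iff]; exact inf_le_right
    rw [eq_bot_iff, ← S.faith]
    exact le_inf (inf_le_left.trans hH₀H) (le_centralizer_iff.mp h1)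
  -- M is not centralized by t
  have hMt : ¬ M ≤ centralizer ({t} : Set Γ) := by
    intro h
    obtain ⟨v₀, hv₀, hv₀c⟩ := hc.ex
    have h1 : V ≤ centralizer ({t} : Set Γ) := by
      rw [← S.sup_commutator (hAR.trans S.RH) hAodd]
      refine sup_le ?_ (le_sup_left.trans h)
      rw [hA, zpowers_eq_closure, centralizer_closure]
      exact hCx
    have h2 := mem_centralizer_singleton_iff.mp (h1 hv₀)
    rw [← h2] at hv₀c
    simp only [mul_inv_cancel_right] at hv₀c
    exact hc.ne (mul_right_cancel ((one_mul v₀).trans hv₀c)).symm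
  -- fixed points of `t` in `H₀`
  have hfix : ∀ h ∈ H₀, t * h * t⁻¹ = h → h = 1 := by
    intro h hh hth
    have hht : t * h = h * t := by rwa [mul_inv_eq_iff_eq_mul] at hth
    set Q := zpowers h with hQ
    have hQH₀ : Q ≤ H₀ := by rw [hQ, zpowers_le]; exact hh
    have hQodd : (Nat.card Q).Coprime 2 := Nat.Coprime.coprime_dvd_left (card_dvd_of_le hQH₀) hH₀odd
    have hQt : ∀ q ∈ Q, q * t = t * q := by
      rintro _ ⟨k, rfl⟩
      exact ((show Commute h t from hht.symm).zpow_left k).eq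
    have hQc : ∀ q ∈ Q, q * c * q⁻¹ = c := fun q hq => S.conj_centre hc (hH₀H (hQH₀ hq)) (hQt q hq)
    have hcQ : zpowers c ≤ centralizer (Q : Set Γ) := by
      rw [zpowers_le, mem_centralizer_iff]
      intro q hq
      have := hQc q hq
      rwa [mul_inv_eq_iff_eq_mul] at this
    have hQCt : Q ≤ normalizer (centralizer ({t} : Set Γ) : Set Γ) := by
      refine le_trans ?_ le_normalizer
      intro q hq
      rw [mem_centralizer_singleton_iff]
      exact hQt q hq
    set N₁ := M ⊓ centralizer ({t} : Set Γ) with hN₁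
    have hcN₁ : zpowers c ≤ N₁ := by
      rw [zpowers_le, hN₁]
      exact mem_inf.mpr ⟨hcM, mem_centralizer_singleton_iff.mpr hc.comm.symm⟩
    have hN₁card : Nat.card N₁ ≤ 4 := by
      have h1 : N₁ < M := lt_of_le_of_ne inf_le_left (fun h => hMt (h ▸ inf_le_right))
      have := two_mul_card_le h1
      omega
    have hQM : Q ≤ normalizer (M : Set Γ) := hQH₀.trans hH₀M
    have hQN₁ : Q ≤ normalizer (N₁ : Set Γ) := LocBase.le_normalizer_inf hQM hQCt
    have h1 : N₁ ≤ centralizer (Q : Set Γ) := by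
      apply S.le_centralizer_of_chain hQN₁ hQodd (inf_le_left.trans hMV) (N := zpowers c) _ hcQ
      rw [Subgroup.commutator_le]
      intro n hn q hq
      have h2 : ⁅n, q⁆ = n * (q * n * q⁻¹)⁻¹ := by rw [commutatorElement_def]; group
      rw [h2]
      apply mul_inv_mem_of_half hcN₁ (by omega) hn (LocBase.conj_mem_of_le_normalizer hQN₁ hq hn)
      constructor
      · intro h3
        have h4 : q * n * q⁻¹ = n := by
          rw [mul_inv_eq_iff_eq_mul]
          exact mem_centralizer_iff.mp (hcQ h3) q hq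
        rw [h4]; exact h3
      · intro h3
        have h4 : q⁻¹ * (q * n * q⁻¹) * q = q * n * q⁻¹ := by
          rw [mul_assoc, ← mem_centralizer_iff.mp (hcQ h3) q hq]; group
        have h5 : n = q * n * q⁻¹ := by rw [← h4]; group
        rw [h5]; exact h3
    have h2 : M ≤ centralizer (Q : Set Γ) := by
      apply S.le_centralizer_of_chain hQM hQodd hMV (N := N₁) _ h1
      rw [Subgroup.commutator_le]
      intro n hn q hq
      have h2 : ⁅n, q⁆ = n * (q * n * q⁻¹)⁻¹ := by rw [commutatorElement_def]; group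
      rw [h2]
      have hqn : q * n * q⁻¹ ∈ M := LocBase.conj_mem_of_le_normalizer hQM hq hn
      refine mem_inf.mpr ⟨mul_mem hn (inv_mem hqn), ?_⟩
      have h3 : n * (q * n * q⁻¹)⁻¹ ∈ V ⊓ centralizer ({t} : Set Γ) := by
        unfold IsTv at htv
        apply mul_inv_mem_of_half inf_le_left (by omega) (hMV hn) (hMV hqn)
        constructor
        · intro h3
          refine mem_inf.mpr ⟨hMV hqn, ?_⟩
          exact LocBase.conj_mem_of_le_normalizer hQCt hq (mem_inf.mp h3).2
        · intro h3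
          refine mem_inf.mpr ⟨hMV hn, ?_⟩
          have := LocBase.conj_mem_of_le_normalizer' hQCt hq (mem_inf.mp h3).2
          have h5 : q⁻¹ * (q * n * q⁻¹) * q = n := by group
          rwa [h5] at this
      exact (mem_inf.mp h3).2
    have h3 : Q ≤ H₀ ⊓ centralizer (M : Set Γ) := le_inf hQH₀ (le_centralizer_iff.mp h2)
    rw [hfaithM, hQ, zpowers_le, mem_bot] at h3
    exact h3
  -- `t` inverts `H₀`
  let φ : H₀ →* H₀ := (H₀.normalizerMonoidHom ⟨t, htN⟩).toMonoidHom
  have hφ : ∀ g : H₀, ((φ g : H₀) : Γ) = t * g * t⁻¹ := fun g => rfl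
  have hφf : MonoidHom.FixedPointFree φ := by
    intro g hg
    have := congrArg Subtype.val hg
    rw [hφ] at this
    exact Subtype.ext (hfix g g.2 this)
  have hφi : Function.Involutive φ := by
    intro g
    apply Subtype.ext
    rw [hφ, hφ]
    have : t * (t * g * t⁻¹) * t⁻¹ = (t * t) * g * (t * t)⁻¹ := by group
    rw [this, ht2]; group
  have hcomm : ∀ g ∈ H₀, ∀ h ∈ H₀, g * h = h * g := by
    intro g hg h hh
    have := hφf.commute_all_of_involutive hφi ⟨g, hg⟩ ⟨h, hh⟩
    exact congrArg Subtype.val this.eq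
  have hH₀c : H₀ ≤ centralizer (H₀ : Set Γ) := fun g hg => mem_centralizer_iff.mpr fun h hh => hcomm h hh g hg
  -- `H₀` is faithful on `Wx`
  have hAH₀ : A ≤ H₀ := le_sup_left
  have hH₀CA : H₀ ≤ normalizer (centralizer (A : Set Γ) : Set Γ) :=
    (hH₀c.trans (centralizer_le hAH₀)).trans le_normalizer
  have hfaithW : H₀ ⊓ centralizer (Wx : Set Γ) = ⊥ := by
    set N₂ := M ⊓ centralizer (A : Set Γ) with hN₂
    have hN₂card : Nat.card N₂ ≤ 2 := by
      have h1 : N₂ ⊓ Wx = ⊥ := by
        rw [eq_bot_iff, ← S.inf_commutator (hAR.trans S.RH) hAodd]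
        exact inf_le_inf_right _ (inf_le_inf_right _ hMV)
      have h2 := SubgroupTools.card_sup_mul_card_inf (N := N₂) (H := Wx)
        (hWxV.trans (S.le_normalizer_of_le (inf_le_left.trans hMV)))
      rw [h1, card_bot, mul_one, hWx] at h2
      have h3 : Nat.card (N₂ ⊔ Wx : Subgroup Γ) ≤ Nat.card M := card_le_of_le (sup_le inf_le_left le_sup_left)
      omega
    have hH₀N₂ : H₀ ≤ normalizer (N₂ : Set Γ) := LocBase.le_normalizer_inf hH₀M hH₀CA
    have hN₂c : N₂ ≤ centralizer (H₀ : Set Γ) := le_centralizer_of_card_le_two hH₀N₂ hN₂card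
    set E := H₀ ⊓ centralizer (Wx : Set Γ) with hE
    have hEodd : (Nat.card E).Coprime 2 := Nat.Coprime.coprime_dvd_left (card_dvd_of_le inf_le_left) hH₀odd
    have h1 : V ⊓ centralizer (A : Set Γ) ≤ centralizer (E : Set Γ) := by
      have h0 : H₀ ≤ normalizer ((V ⊓ centralizer (A : Set Γ) : Subgroup Γ) : Set Γ) :=
        LocBase.le_normalizer_inf (hH₀H.trans S.norm) hH₀CA
      apply S.le_centralizer_of_chain (N := N₂) (inf_le_left.trans h0) hEodd inf_le_left
      · refine le_inf ((commutator_mono inf_le_left inf_le_left).trans hVH₀) ?_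
        refine (commutator_mono le_rfl inf_le_left).trans ?_
        exact (LocBase.commutator_le_left_of_le h0).trans inf_le_right
      · exact hN₂c.trans (centralizer_le inf_le_left)
    have h2 : V ≤ centralizer (E : Set Γ) := by
      rw [← S.sup_commutator (hAR.trans S.RH) hAodd]
      refine sup_le h1 ?_
      rw [le_centralizer_iff]; exact inf_le_right
    rw [eq_bot_iff, ← S.faith]
    exact le_inf (inf_le_left.trans hH₀H) (le_centralizer_iff.mp h2)
  have hH₀Wx : H₀ ≤ normalizer (Wx : Set Γ) :=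
    LocBase.le_normalizer_commutator (hH₀H.trans S.norm) (hH₀c.trans ((centralizer_le hAH₀).trans
      (centralizer_le_normalizer _)))
  have h3 := card_dvd_three hWx hH₀Wx hfaithW hH₀odd
  have hA3 : Nat.card A = 3 := by
    rw [hA, Nat.card_zpowers]
    exact orderOf_eq_prime hx3 hx1
  have h4 : Nat.card H₀ ≤ Nat.card A := by
    rw [hA3]; exact Nat.le_of_dvd (by norm_num) h3
  have h5 : A = H₀ := Subgroup.eq_of_le_of_card_ge hAH₀ h4
  rw [h5]
  exact mem_sup_right (mem_zpowers y)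

end Cfsg.Agent.Lib.TvStruct
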