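import Cfsg.Agent.Lib.TvStruct3

/-!
The groups `Dt R t = [R, t]` (order 3) and `Wt V R t = [V, [R,t]]` (order 4) of a transvection `t`, and how different
transvections interact.
-/

set_option autoImplicit false
set_option linter.unusedSectionVars false

namespace Cfsg.Agent.Lib.TvStruct

open Subgroup commutatorElement
open scoped Pointwise

universe u

variable {Γ : Type u} [Group Γ] {V H R : Subgroup Γ}

/-- `[R, t]` -/
def Dt (R : Subgroup Γ) (t : Γ) : Subgroup Γ := ⁅R, zpowers t⁆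

/-- `[V, [R, t]]` -/
def Wt (V R : Subgroup Γ) (t : Γ) : Subgroup Γ := ⁅V, Dt R t⁆

theorem Setup.exists_gen [Finite Γ] (S : Setup V H R) {t : Γ} (ht : t ∈ H) (htv : IsTv V t) :
    ∃ x ∈ R, x ≠ 1 ∧ t * x * t⁻¹ = x⁻¹ ∧ Dt R t = zpowers x := by
  have ht2 := S.tv_sq ht htv
  have htinv : t⁻¹ = t := inv_eq_of_mul_eq_one_left ht2
  have h1 := S.not_le_centralizer (isPGroup_zpowers_of_sq ht2) (by rwa [zpowers_le])
    (by rw [Ne, zpowers_eq_bot]; exact tv_ne_one htv)
  have htR : ∀ r ∈ R, t * r * t⁻¹ ∈ R := fun r hr => LocBase.conj_mem_of_le_normalizer S.HR ht hr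
  have hcomm : ∀ r ∈ R, r * t * r⁻¹ * t⁻¹ ∈ R ∧
      t * (r * t * r⁻¹ * t⁻¹) * t⁻¹ = (r * t * r⁻¹ * t⁻¹)⁻¹ := by
    intro r hr
    refine ⟨?_, ?_⟩
    · have : r * t * r⁻¹ * t⁻¹ = r * (t * r⁻¹ * t⁻¹) := by group
      rw [this]; exact mul_mem hr (htR _ (inv_mem hr))
    · calc t * (r * t * r⁻¹ * t⁻¹) * t⁻¹ = t * r * t * r⁻¹ * (t⁻¹ * t⁻¹) := by group
        _ = t * r * t⁻¹ * r⁻¹ := by rw [htinv, ht2, mul_one]
        _ = _ := by group
  obtain ⟨r, hr, hrt⟩ := SetLike.not_le_iff_exists.mp h1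
  set x := r * t * r⁻¹ * t⁻¹ with hx
  have hxR := (hcomm r hr).1
  have hxi := (hcomm r hr).2
  have hx1 : x ≠ 1 := by
    intro h
    apply hrt
    rw [zpowers_eq_closure, centralizer_closure, mem_centralizer_singleton_iff]
    rw [hx] at h
    rw [mul_inv_eq_one, mul_inv_eq_iff_eq_mul] at h
    exact h
  refine ⟨x, hxR, hx1, hxi, ?_⟩
  apply le_antisymm
  · rw [Dt, Subgroup.commutator_le]
    rintro s hs _ ⟨k, rfl⟩
    have h2 : (fun x => t ^ x) k = 1 ∨ (fun x => t ^ x) k = t := by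
      have ht2' : t ^ (2 : ℤ) = 1 := by
        have : t ^ 2 = 1 := by rw [pow_two, ht2]
        exact_mod_cast this
      rcases Int.even_or_odd' k with ⟨m, hm | hm⟩
      · left; show t ^ k = 1; rw [hm, zpow_mul, ht2', one_zpow]
      · right; show t ^ k = t; rw [hm, zpow_add, zpow_mul, ht2', one_zpow, one_mul, zpow_one]
    rcases h2 with h2 | h2
    · rw [h2, commutatorElement_one_right]; exact one_mem _
    · rw [h2, commutatorElement_def]
      exact S.tv_unique ht htv hxR (hcomm s hs).1 hxi (hcomm s hs).2 hx1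
  · rw [zpowers_le, Dt, hx]
    have := commutator_mem_commutator hr (mem_zpowers t)
    rwa [commutatorElement_def] at this

section basic

variable [Finite Γ] (S : Setup V H R) {t : Γ} (ht : t ∈ H) (htv : IsTv V t)
include S ht htv

theorem Setup.Dt_le : Dt R t ≤ R := by
  rw [Dt, Subgroup.commutator_le]
  intro s hs q hq
  have hq' : q ∈ H := (zpowers_le.mpr ht) hq
  rw [commutatorElement_def]
  have : s * q * s⁻¹ * q⁻¹ = s * (q * s⁻¹ * q⁻¹) := by group
  rw [this]
  exact mul_mem hs (LocBase.conj_mem_of_le_normalizer S.HR hq' (inv_mem hs))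

theorem Setup.Dt_leH : Dt R t ≤ H := (S.Dt_le ht htv).trans S.RH

theorem Setup.Dt_odd : (Nat.card (Dt R t)).Coprime 2 :=
  Nat.Coprime.coprime_dvd_left (card_dvd_of_le (S.Dt_le ht htv)) S.odd

omit [Finite Γ] S ht htv in
theorem le_normalizer_Dt (R : Subgroup Γ) (t : Γ) : R ≤ normalizer (Dt R t : Set Γ) :=
  normalizer_commutator_ge_left R (zpowers t)

omit [Finite Γ] S ht htv in
theorem mem_normalizer_Dt (R : Subgroup Γ) (t : Γ) : t ∈ normalizer (Dt R t : Set Γ) :=
  normalizer_commutator_ge_right R (zpowers t) (mem_zpowers t)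

theorem Setup.Dt_inv : ∀ x ∈ Dt R t, t * x * t⁻¹ = x⁻¹ := by
  obtain ⟨x, hxR, hx1, hxi, hD⟩ := S.exists_gen ht htv
  rw [hD]
  rintro _ ⟨k, rfl⟩
  show t * x ^ k * t⁻¹ = (x ^ k)⁻¹
  rw [← conj_zpow, hxi, inv_zpow]

theorem Setup.Dt_card : Nat.card (Dt R t) = 3 := by
  obtain ⟨x, hxR, hx1, hxi, hD⟩ := S.exists_gen ht htv
  obtain ⟨c, hc⟩ := S.exists_centre ht htv
  rw [hD, Nat.card_zpowers]
  exact orderOf_eq_prime (S.tv_inverted ht htv hc hxR hxi hx1).2.1 hx1

theorem Setup.Wt_card : Nat.card (Wt V R t) = 4 := by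
  obtain ⟨x, hxR, hx1, hxi, hD⟩ := S.exists_gen ht htv
  obtain ⟨c, hc⟩ := S.exists_centre ht htv
  rw [Wt, hD]
  exact (S.tv_inverted ht htv hc hxR hxi hx1).1

theorem Setup.centre_mem_Wt {c : Γ} (hc : IsCentre V t c) : c ∈ Wt V R t := by
  obtain ⟨x, hxR, hx1, hxi, hD⟩ := S.exists_gen ht htv
  rw [Wt, hD]
  exact (S.tv_inverted ht htv hc hxR hxi hx1).2.2.1

theorem Setup.inf_centralizer_Dt_le : V ⊓ centralizer (Dt R t : Set Γ) ≤ centralizer ({t} : Set Γ) := by
  obtain ⟨x, hxR, hx1, hxi, hD⟩ := S.exists_gen ht htv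
  obtain ⟨c, hc⟩ := S.exists_centre ht htv
  rw [hD, zpowers_eq_closure, centralizer_closure]
  exact (S.tv_inverted ht htv hc hxR hxi hx1).2.2.2

theorem Setup.Wt_le : Wt V R t ≤ V := S.commutator_le (S.Dt_leH ht htv)

theorem Setup.sup_Wt : (V ⊓ centralizer (Dt R t : Set Γ)) ⊔ Wt V R t = V :=
  S.sup_commutator (S.Dt_leH ht htv) (S.Dt_odd ht htv)

theorem Setup.inf_Wt : (V ⊓ centralizer (Dt R t : Set Γ)) ⊓ Wt V R t = ⊥ :=
  S.inf_commutator (S.Dt_leH ht htv) (S.Dt_odd ht htv)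

/-- an element normalizing `Dt R t` inside `H` normalizes `Wt` -/
theorem Setup.le_normalizer_Wt {P : Subgroup Γ} (hPH : P ≤ H) (hP : P ≤ normalizer (Dt R t : Set Γ)) :
    P ≤ normalizer (Wt V R t : Set Γ) :=
  LocBase.le_normalizer_commutator (hPH.trans S.norm) hP

/-- subgroups of `Dt` -/
theorem Setup.Dt_eq_of_le {D : Subgroup Γ} (hD : D ≤ Dt R t) (hD1 : D ≠ ⊥) : D = Dt R t := by
  have h1 := card_dvd_of_le hD
  rw [S.Dt_card ht htv] at h1
  have h2 : Nat.card D ≠ 1 := by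
    intro h; exact hD1 (card_eq_one.mp h)
  have h3 := eq_of_dvd_three h1 h2
  exact Subgroup.eq_of_le_of_card_ge hD (by rw [h3, S.Dt_card ht htv])

end basic

theorem Setup.tv_conj (S : Setup V H R) {t h : Γ} (hh : h ∈ H) (htv : IsTv V t) : IsTv V (h * t * h⁻¹) := by
  unfold IsTv at *
  have h1 : V ⊓ centralizer ({h * t * h⁻¹} : Set Γ) =
      (V ⊓ centralizer ({t} : Set Γ)).map (MulAut.conj h).toMonoidHom := by
    rw [Subgroup.map_inf _ _ _ (MulAut.conj h).injective, LocBase.map_conj_eq_of_mem (S.norm hh)]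
    congr 1
    ext x
    rw [LocBase.mem_map_conj, mem_centralizer_singleton_iff, mem_centralizer_singleton_iff]
    constructor
    · intro hx
      calc h⁻¹ * x * h * t = h⁻¹ * (x * (h * t * h⁻¹)) * h := by group
        _ = h⁻¹ * ((h * t * h⁻¹) * x) * h := by rw [hx]
        _ = _ := by group
    · intro hx
      calc x * (h * t * h⁻¹) = h * ((h⁻¹ * x * h) * t) * h⁻¹ := by group
        _ = h * (t * (h⁻¹ * x * h)) * h⁻¹ := by rw [hx]
        _ = _ := by group
  rw [h1, LocBase.card_map_conj]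
  exact htv

theorem Setup.Dt_conj (S : Setup V H R) {t h : Γ} (hh : h ∈ H) :
    (Dt R t).map (MulAut.conj h).toMonoidHom = Dt R (h * t * h⁻¹) := by
  unfold Dt
  rw [Subgroup.map_commutator, LocBase.map_conj_eq_of_mem (S.HR hh), MonoidHom.map_zpowers]
  rfl

theorem Setup.Wt_conj (S : Setup V H R) {t h : Γ} (hh : h ∈ H) :
    (Wt V R t).map (MulAut.conj h).toMonoidHom = Wt V R (h * t * h⁻¹) := by
  unfold Wt
  rw [Subgroup.map_commutator, LocBase.map_conj_eq_of_mem (S.norm hh), S.Dt_conj hh]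

section two

variable [Finite Γ] (S : Setup V H R) {s t : Γ} (hs : s ∈ H) (hsv : IsTv V s) (ht : t ∈ H) (htv : IsTv V t)
include S hs hsv ht htv

theorem Setup.Dt_inf_of_ne (hne : Dt R s ≠ Dt R t) : Dt R s ⊓ Dt R t = ⊥ := by
  by_contra h
  have h1 := S.Dt_eq_of_le hs hsv (inf_le_left : Dt R s ⊓ Dt R t ≤ _) h
  have h2 := S.Dt_eq_of_le ht htv (inf_le_right : Dt R s ⊓ Dt R t ≤ _) h
  exact hne (h1.symm.trans h2)

theorem Setup.Dt_le_centralizer_Dt (hne : Dt R s ≠ Dt R t) : Dt R t ≤ centralizer (Dt R s : Set Γ) := by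
  rw [← commutator_eq_bot_iff_le_centralizer, eq_bot_iff, ← S.Dt_inf_of_ne hs hsv ht htv hne]
  refine le_inf ?_ ?_
  · exact LocBase.commutator_le_right_of_le ((S.Dt_le ht htv).trans (le_normalizer_Dt R s))
  · exact LocBase.commutator_le_left_of_le ((S.Dt_le hs hsv).trans (le_normalizer_Dt R t))

/-- N0 -/
theorem Setup.Dt_le_centralizer_Wt (hne : Dt R s ≠ Dt R t) : Dt R t ≤ centralizer (Wt V R s : Set Γ) := by
  by_contra hcon
  have hc := S.Dt_le_centralizer_Dt hs hsv ht htv hne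
  have hDtN : Dt R t ≤ normalizer (Wt V R s : Set Γ) :=
    S.le_normalizer_Wt hs hsv (S.Dt_leH ht htv) ((S.Dt_le ht htv).trans (le_normalizer_Dt R s))
  have hWV := S.Wt_le hs hsv
  have hWV' := S.Wt_le ht htv
  -- `[W_s, D_t] = W_s`
  have h1 : ⁅Wt V R s, Dt R t⁆ ≤ Wt V R s := LocBase.commutator_le_left_of_le hDtN
  have h2 : Wt V R s ≤ ⁅Wt V R s, Dt R t⁆ := by
    have h3 : ¬ Nat.card (⁅Wt V R s, Dt R t⁆ : Subgroup Γ) ≤ 2 := by
      intro h
      have h4 := le_centralizer_of_card_le_two (P := Dt R t) (normalizer_commutator_ge_right (Wt V R s) (Dt R t)) h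
      have h5 := S.le_centralizer_of_chain hDtN (S.Dt_odd ht htv) hWV le_rfl h4
      exact hcon (le_centralizer_iff.mp h5)
    have h4 := card_dvd_of_le h1
    rw [S.Wt_card hs hsv] at h4
    have h5 : Nat.card (⁅Wt V R s, Dt R t⁆ : Subgroup Γ) ≤ 4 := Nat.le_of_dvd (by norm_num) h4
    have h6 : Nat.card (⁅Wt V R s, Dt R t⁆ : Subgroup Γ) = 4 := by
      interval_cases h : Nat.card (⁅Wt V R s, Dt R t⁆ : Subgroup Γ) <;> omega
    exact (Subgroup.eq_of_le_of_card_ge h1 (by rw [h6, S.Wt_card hs hsv])).ge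
  have h3 : Wt V R s = Wt V R t :=
    Subgroup.eq_of_le_of_card_ge (h2.trans (commutator_mono hWV le_rfl))
      (by rw [S.Wt_card hs hsv, S.Wt_card ht htv])
  -- `D_t` centralizes `C_V(D_s)`
  have hDtN' : Dt R t ≤ normalizer ((V ⊓ centralizer (Dt R s : Set Γ) : Subgroup Γ) : Set Γ) :=
    LocBase.le_normalizer_inf ((S.Dt_leH ht htv).trans S.norm) (hc.trans le_normalizer)
  have h4 : V ⊓ centralizer (Dt R s : Set Γ) ≤ centralizer (Dt R t : Set Γ) := by
    rw [← commutator_eq_bot_iff_le_centralizer, eq_bot_iff, ← S.inf_Wt hs hsv]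
    refine le_inf (LocBase.commutator_le_left_of_le hDtN') ?_
    rw [h3]
    exact commutator_mono inf_le_left le_rfl
  -- `D_s D_t` is faithful on `W_s`
  set E₀ := Dt R s ⊔ Dt R t with hE₀
  have hE₀R : E₀ ≤ R := sup_le (S.Dt_le hs hsv) (S.Dt_le ht htv)
  have hE₀odd : (Nat.card E₀).Coprime 2 := Nat.Coprime.coprime_dvd_left (card_dvd_of_le hE₀R) S.odd
  have hE₀N : E₀ ≤ normalizer (Wt V R s : Set Γ) :=
    sup_le (normalizer_commutator_ge_right V (Dt R s)) hDtN
  have hf : E₀ ⊓ centralizer (Wt V R s : Set Γ) = ⊥ := by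
    rw [eq_bot_iff, ← S.faith]
    refine le_inf ((inf_le_left.trans hE₀R).trans S.RH) ?_
    rw [le_centralizer_iff]
    refine (S.sup_Wt hs hsv).symm.le.trans (sup_le ?_ ?_)
    · rw [le_centralizer_iff]
      refine (inf_le_left : E₀ ⊓ centralizer (Wt V R s : Set Γ) ≤ E₀).trans (sup_le ?_ ?_)
      · rw [le_centralizer_iff]; exact inf_le_right
      · rw [le_centralizer_iff]; exact h4
    · rw [le_centralizer_iff]; exact inf_le_right
  have h5 := card_dvd_three (S.Wt_card hs hsv) hE₀N hf hE₀odd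
  have h6 : Dt R s = E₀ := Subgroup.eq_of_le_of_card_ge le_sup_left (by
    rw [S.Dt_card hs hsv]; exact Nat.le_of_dvd (by norm_num) h5)
  have h7 : Dt R t ≤ Dt R s := by rw [h6]; exact le_sup_right
  have h8 : Dt R t ≠ ⊥ := by
    intro h
    have := S.Dt_card ht htv
    rw [h, card_bot] at this
    omega
  exact hne (S.Dt_eq_of_le hs hsv h7 h8).symm

theorem Setup.Wt_inf_of_ne (hne : Dt R s ≠ Dt R t) : Wt V R s ⊓ Wt V R t = ⊥ := by
  rw [eq_bot_iff, ← S.inf_Wt ht htv]
  refine inf_le_inf_right _ (le_inf (S.Wt_le hs hsv) ?_)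
  rw [le_centralizer_iff]
  exact S.Dt_le_centralizer_Wt hs hsv ht htv hne

/-- N1: transvections normalize all the `Dt`. -/
theorem Setup.mem_normalizer_Dt' : s ∈ normalizer (Dt R t : Set Γ) := by
  by_contra hcon
  have hne : Dt R t ≠ Dt R (s * t * s⁻¹) := by
    intro h
    apply hcon
    apply LocBase.mem_normalizer_of_map_conj_eq
    rw [S.Dt_conj hs, ← h]
  have ht'H : s * t * s⁻¹ ∈ H := mul_mem (mul_mem hs ht) (inv_mem hs)
  have ht'v := S.tv_conj hs htv
  have h1 := S.Wt_inf_of_ne ht htv ht'H ht'v hne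
  obtain ⟨c, hc⟩ := S.exists_centre hs hsv
  have h2 : Wt V R t ⊔ Wt V R (s * t * s⁻¹) ≤ Wt V R t ⊔ zpowers c := by
    refine sup_le le_sup_left ?_
    rw [← S.Wt_conj hs]
    rintro _ ⟨w, hw, rfl⟩
    show s * w * s⁻¹ ∈ _
    rcases hc.act' (S.Wt_le ht htv hw) with h | h
    · rw [h]; exact mem_sup_left hw
    · rw [h]
      exact mul_mem (mem_sup_right (mem_zpowers c)) (mem_sup_left hw)
  have hVW : ∀ {A : Subgroup Γ}, A ≤ V → A ≤ normalizer (Wt V R t : Set Γ) := fun h =>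
    h.trans (S.le_normalizer_of_le (S.Wt_le ht htv))
  have h3 := SubgroupTools.card_sup_mul_card_inf (hVW (S.Wt_le ht'H ht'v))
  rw [h1, card_bot, mul_one, S.Wt_card ht htv, S.Wt_card ht'H ht'v] at h3
  have h4 := SubgroupTools.card_sup_mul_card_inf (hVW (A := zpowers c) (by rw [zpowers_le]; exact hc.mem))
  have h5 : Nat.card (zpowers c) = 2 := by
    rw [Nat.card_zpowers]
    exact orderOf_eq_prime (by rw [pow_two, hc.sq]) hc.ne
  rw [h5, S.Wt_card ht htv] at h4
  have h6 := card_le_of_le h2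
  have h7 : 0 < Nat.card (Wt V R t ⊓ zpowers c : Subgroup Γ) := Nat.card_pos
  have h8 : Nat.card (Wt V R t ⊔ zpowers c : Subgroup Γ) ≤ 8 := by
    calc _ ≤ Nat.card (Wt V R t ⊔ zpowers c : Subgroup Γ) * Nat.card (Wt V R t ⊓ zpowers c : Subgroup Γ) :=
          Nat.le_mul_of_pos_right _ h7
      _ = 8 := by rw [h4]
  omega

/-- N2 -/
theorem Setup.Dt_le_centralizer_of_ne (hne : Dt R s ≠ Dt R t) : Dt R t ≤ centralizer ({s} : Set Γ) := by
  have h1 : ⁅Dt R t, zpowers s⁆ = ⊥ := by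
    by_contra h
    have h2 : ⁅Dt R t, zpowers s⁆ ≤ Dt R t := by
      apply LocBase.commutator_le_left_of_le
      rw [zpowers_le]
      exact S.mem_normalizer_Dt' hs hsv ht htv
    have h3 := S.Dt_eq_of_le ht htv h2 h
    have h4 : Dt R t ≤ Dt R s := by
      rw [← h3]
      exact commutator_mono (S.Dt_le ht htv) le_rfl
    have h5 : Dt R t ≠ ⊥ := by
      intro h
      have := S.Dt_card ht htv
      rw [h, card_bot] at this
      omega
    exact hne (S.Dt_eq_of_le hs hsv h4 h5).symm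
  rw [commutator_eq_bot_iff_le_centralizer, zpowers_eq_closure, centralizer_closure] at h1
  exact h1

theorem Setup.Wt_le_centralizer_of_ne (hne : Dt R s ≠ Dt R t) : Wt V R t ≤ centralizer ({s} : Set Γ) := by
  refine le_trans ?_ (S.inf_centralizer_Dt_le hs hsv)
  refine le_inf (S.Wt_le ht htv) ?_
  rw [le_centralizer_iff]
  exact S.Dt_le_centralizer_Wt ht htv hs hsv hne.symm

theorem Setup.commute_of_ne (hne : Dt R s ≠ Dt R t) : s * t = t * s := by
  have hWs := S.Wt_le_centralizer_of_ne hs hsv ht htv hne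
  have hCt := S.inf_centralizer_Dt_le ht htv
  have hDs := S.Dt_le_centralizer_of_ne hs hsv ht htv hne
  have key : s * t * (t * s)⁻¹ = 1 := by
    apply S.eq_one_of_forall (mul_mem (mul_mem hs ht) (inv_mem (mul_mem ht hs)))
    -- it suffices to show `(s t) v (s t)⁻¹ = (t s) v (t s)⁻¹`
    suffices h : ∀ v ∈ V, s * t * v * (s * t)⁻¹ = t * s * v * (t * s)⁻¹ by
      intro v hv
      have hv' : (t * s)⁻¹ * v * (t * s) ∈ V := by
        have := S.conjV (inv_mem (mul_mem ht hs)) hv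
        simpa using this
      have h2 := h _ hv'
      have h3 : t * s * ((t * s)⁻¹ * v * (t * s)) * (t * s)⁻¹ = v := by group
      rw [h3] at h2
      calc s * t * (t * s)⁻¹ * v = (s * t * ((t * s)⁻¹ * v * (t * s)) * (s * t)⁻¹) * (s * t * (t * s)⁻¹) := by group
        _ = _ := by rw [h2]
    have hgen : ∀ v ∈ V, v ∈ (V ⊓ centralizer (Dt R t : Set Γ)) ⊔ Wt V R t := fun v hv => by
      rw [S.sup_Wt ht htv]; exact hv
    have h1 : ∀ w ∈ Wt V R t, s * t * w * (s * t)⁻¹ = t * s * w * (t * s)⁻¹ := by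
      intro w hw
      have hw' : t * w * t⁻¹ ∈ Wt V R t :=
        LocBase.conj_mem_of_le_normalizer (S.le_normalizer_Wt ht htv (P := zpowers t) (by rwa [zpowers_le])
          (by rw [zpowers_le]; exact mem_normalizer_Dt R t)) (mem_zpowers t) hw
      have h2 := mem_centralizer_singleton_iff.mp (hWs hw)
      have h3 := mem_centralizer_singleton_iff.mp (hWs hw')
      calc s * t * w * (s * t)⁻¹ = (s * (t * w * t⁻¹)) * s⁻¹ := by group
        _ = t * w * t⁻¹ := by rw [← h3]; group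
        _ = t * (w * s) * s⁻¹ * t⁻¹ := by group
        _ = _ := by rw [h2]; group
    have h2 : ∀ u ∈ V ⊓ centralizer (Dt R t : Set Γ), s * t * u * (s * t)⁻¹ = t * s * u * (t * s)⁻¹ := by
      intro u hu
      have hzN : zpowers s ≤ normalizer ((V ⊓ centralizer (Dt R t : Set Γ) : Subgroup Γ) : Set Γ) := by
        apply LocBase.le_normalizer_inf ((zpowers_le.mpr hs).trans S.norm)
        refine le_trans ?_ le_normalizer
        rw [le_centralizer_iff, zpowers_eq_closure, centralizer_closure]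
        exact hDs
      have hu' : s * u * s⁻¹ ∈ V ⊓ centralizer (Dt R t : Set Γ) :=
        LocBase.conj_mem_of_le_normalizer hzN (mem_zpowers s) hu
      have h2 := mem_centralizer_singleton_iff.mp (hCt hu)
      have h3 := mem_centralizer_singleton_iff.mp (hCt hu')
      calc s * t * u * (s * t)⁻¹ = s * (t * u) * t⁻¹ * s⁻¹ := by group
        _ = s * u * s⁻¹ := by rw [← h2]; group
        _ = (s * u * s⁻¹ * t) * t⁻¹ := by group
        _ = _ := by rw [h3]; group
    intro v hv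
    have hN : Wt V R t ≤ normalizer ((V ⊓ centralizer (Dt R t : Set Γ) : Subgroup Γ) : Set Γ) :=
      (S.Wt_le ht htv).trans (S.le_normalizer_of_le inf_le_left)
    obtain ⟨u, hu, w, hw, rfl⟩ := (SubgroupTools.mem_sup_of_le_normalizer hN).mp (hgen v hv)
    calc s * t * (u * w) * (s * t)⁻¹ = (s * t * u * (s * t)⁻¹) * (s * t * w * (s * t)⁻¹) := by group
      _ = (t * s * u * (t * s)⁻¹) * (t * s * w * (t * s)⁻¹) := by rw [h1 w hw, h2 u hu]
      _ = _ := by group
  rwa [mul_inv_eq_one] at key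

/-- N3 -/
theorem Setup.mem_of_eq (heq : Dt R s = Dt R t) : s ∈ Dt R t ⊔ zpowers t := by
  set X := Dt R t ⊔ zpowers t with hX
  have htN : zpowers t ≤ normalizer (Dt R t : Set Γ) := by
    rw [zpowers_le]; exact mem_normalizer_Dt R t
  have hXcard : Nat.card X = 6 := by
    have h1 := SubgroupTools.card_sup_mul_card_inf htN
    have h2 : Nat.card (zpowers t) = 2 := by
      rw [Nat.card_zpowers]
      exact orderOf_eq_prime (by rw [pow_two, S.tv_sq ht htv]) (tv_ne_one htv)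
    have h3 : Dt R t ⊓ zpowers t = ⊥ := SubgroupTools.inf_eq_bot_of_coprime' (by
      rw [S.Dt_card ht htv, h2]; norm_num)
    rw [h3, card_bot, mul_one, S.Dt_card ht htv, h2] at h1
    exact h1
  set Y := X ⊔ zpowers s with hY
  have hYH : Y ≤ H := sup_le (sup_le (S.Dt_leH ht htv) (by rwa [zpowers_le])) (by rwa [zpowers_le])
  have hYN : Y ≤ normalizer (Wt V R t : Set Γ) := by
    apply S.le_normalizer_Wt ht htv hYH
    refine sup_le (sup_le le_normalizer htN) ?_
    rw [zpowers_le]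
    exact S.mem_normalizer_Dt' hs hsv ht htv
  have hYC : V ⊓ centralizer (Dt R t : Set Γ) ≤ centralizer (Y : Set Γ) := by
    rw [le_centralizer_iff]
    refine sup_le (sup_le ?_ ?_) ?_
    · rw [le_centralizer_iff]; exact inf_le_right
    · rw [le_centralizer_iff, zpowers_eq_closure, centralizer_closure]
      exact S.inf_centralizer_Dt_le ht htv
    · rw [le_centralizer_iff, zpowers_eq_closure, centralizer_closure, ← heq]
      exact S.inf_centralizer_Dt_le hs hsv
  have hf : Y ⊓ centralizer (Wt V R t : Set Γ) = ⊥ := by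
    rw [eq_bot_iff, ← S.faith]
    refine le_inf (inf_le_left.trans hYH) ?_
    rw [le_centralizer_iff]
    refine (S.sup_Wt ht htv).symm.le.trans ?_
    refine sup_le (hYC.trans (centralizer_le (inf_le_left : Y ⊓ centralizer (Wt V R t : Set Γ) ≤ Y))) ?_
    rw [le_centralizer_iff]; exact inf_le_right
  have h1 := card_dvd_six (S.Wt_card ht htv) hYN hf
  have h2 : X = Y := Subgroup.eq_of_le_of_card_ge le_sup_left (by
    rw [hXcard]; exact Nat.le_of_dvd (by norm_num) h1)
  rw [h2]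
  exact mem_sup_right (mem_zpowers s)

end two

/-- squares of elements of a group generated by transvections lie in the join of the `Dt`. -/
theorem Setup.closure_sq_mem [Finite Γ] (S : Setup V H R) {T : Set Γ} (hT : ∀ t ∈ T, t ∈ H ∧ IsTv V t) :
    ∀ x ∈ closure T, x * x ∈ ⨆ t ∈ T, Dt R t := by
  set N : Subgroup Γ := ⨆ t ∈ T, Dt R t with hN
  have hDN : ∀ t ∈ T, Dt R t ≤ N := fun t ht => le_iSup₂_of_le t ht le_rfl
  have hnorm : closure T ≤ normalizer (N : Set Γ) := by
    rw [closure_le]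
    intro s hs
    apply LocBase.mem_normalizer_of_map_conj_le
    rw [hN, Subgroup.map_iSup]
    apply iSup_le
    intro t
    rw [Subgroup.map_iSup]
    apply iSup_le
    intro ht
    rw [LocBase.map_conj_eq_of_mem (S.mem_normalizer_Dt' (hT s hs).1 (hT s hs).2 (hT t ht).1 (hT t ht).2)]
    exact hDN t ht
  have hst : ∀ s ∈ T, ∀ t ∈ T, ⁅s, t⁆ ∈ N := by
    intro s hs t ht
    by_cases h : Dt R s = Dt R t
    · have h1 := S.mem_of_eq (hT s hs).1 (hT s hs).2 (hT t ht).1 (hT t ht).2 h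
      have htN : zpowers t ≤ normalizer (Dt R t : Set Γ) := by
        rw [zpowers_le]; exact mem_normalizer_Dt R t
      obtain ⟨d, hd, z, hz, rfl⟩ := (SubgroupTools.mem_sup_of_le_normalizer htN).mp h1
      obtain ⟨k, rfl⟩ := hz
      apply hDN t ht
      rw [commutatorElement_def]
      have h2 : d * (fun x => t ^ x) k * t * (d * (fun x => t ^ x) k)⁻¹ * t⁻¹ = d * (t * d⁻¹ * t⁻¹) := by
        show d * t ^ k * t * (d * t ^ k)⁻¹ * t⁻¹ = d * (t * d⁻¹ * t⁻¹)
        group
      rw [h2]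
      exact mul_mem hd (LocBase.conj_mem_of_le_normalizer htN (mem_zpowers t) (inv_mem hd))
    · have h1 := S.commute_of_ne (hT s hs).1 (hT s hs).2 (hT t ht).1 (hT t ht).2 h
      rw [commutatorElement_def, h1]
      have : t * s * s⁻¹ * t⁻¹ = 1 := by group
      rw [this]; exact one_mem _
  have h1 : ∀ t ∈ T, ⁅closure T, zpowers t⁆ ≤ N := by
    intro t ht
    rw [commutator_comm, zpowers_eq_closure]
    have htN : closure {t} ≤ normalizer (N : Set Γ) := by
      rw [closure_le, Set.singleton_subset_iff]; exact hnorm (subset_closure ht)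
    apply LocBase.commutator_closure_le htN
    intro x hx a ha
    rw [Set.mem_singleton_iff] at hx
    subst hx
    -- `a ∈ closure T`
    have h2 : ⁅closure T, zpowers x⁆ ≤ N := by
      apply LocBase.commutator_closure_le hnorm
      rintro s hs _ ⟨k, rfl⟩
      have hx2 : x * x = 1 := S.tv_sq (hT x ht).1 (hT x ht).2
      have hx2' : x ^ (2 : ℤ) = 1 := by
        have : x ^ 2 = 1 := by rw [pow_two, hx2]
        exact_mod_cast this
      show ⁅s, x ^ k⁆ ∈ N
      rcases Int.even_or_odd' k with ⟨m, hm | hm⟩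
      · rw [hm, zpow_mul, hx2', one_zpow, commutatorElement_one_right]; exact one_mem _
      · rw [hm, zpow_add, zpow_mul, hx2', one_zpow, one_mul, zpow_one]; exact hst s hs x ht
    rw [← inv_mem_iff, commutatorElement_inv]
    exact h2 (commutator_mem_commutator ha (mem_zpowers x))
  have h2 : ⁅closure T, closure T⁆ ≤ N := by
    apply LocBase.commutator_closure_le hnorm
    intro s hs a ha
    rw [← inv_mem_iff, commutatorElement_inv]
    exact h1 s hs (commutator_mem_commutator ha (mem_zpowers s))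
  intro x hx
  induction hx using closure_induction with
  | mem x hx => rw [S.tv_sq (hT x hx).1 (hT x hx).2]; exact one_mem _
  | one => rw [one_mul]; exact one_mem _
  | mul x y hx hy hx2 hy2 =>
    have h3 : x * y * (x * y) = (x * x) * ⁅x⁻¹, y⁆ * (y * y) := by
      rw [commutatorElement_def]; group
    rw [h3]
    exact mul_mem (mul_mem hx2 (h2 (commutator_mem_commutator (inv_mem hx) hy))) hy2
  | inv x hx hx2 =>
    have h3 : x⁻¹ * x⁻¹ = (x * x)⁻¹ := by group
    rw [h3]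
    exact inv_mem hx2

theorem mem_of_sq_mem {N : Subgroup Γ} {x : Γ} (ho : (orderOf x).Coprime 2) (h : x * x ∈ N) : x ∈ N := by
  have h1 : x ^ (2 ^ 1) ∈ N := by rw [pow_one, pow_two]; exact h
  exact LocBase.mem_of_coprime_of_pow_mem ho h1

theorem Setup.odd_mem_iSup [Finite Γ] (S : Setup V H R) {T : Set Γ} (hT : ∀ t ∈ T, t ∈ H ∧ IsTv V t) {x : Γ}
    (hx : x ∈ closure T) (ho : (orderOf x).Coprime 2) : x ∈ ⨆ t ∈ T, Dt R t :=
  mem_of_sq_mem ho (S.closure_sq_mem hT x hx)

theorem Setup.odd_mem [Finite Γ] (S : Setup V H R) {T : Set Γ} (hT : ∀ t ∈ T, t ∈ H ∧ IsTv V t) {x : Γ}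
    (hx : x ∈ closure T) (ho : (orderOf x).Coprime 2) : x ∈ R := by
  have h1 : (⨆ t ∈ T, Dt R t) ≤ R := iSup₂_le fun t ht => S.Dt_le (hT t ht).1 (hT t ht).2
  exact h1 (S.odd_mem_iSup hT hx ho)

end Cfsg.Agent.Lib.TvStruct
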