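import Mathlib.GroupTheory.SemidirectProduct
import Cfsg.Agent.Lib.TvStruct4
import Cfsg.Agent.Lib.H34Basic
import Cfsg.Agent.Lib.Cores

/-!
Transfer of the transvection structure to a solvable group `L` acting on `V` with `O_2(L / C_L(V)) = 1`.
-/

set_option autoImplicit false

namespace Cfsg.Agent.Lib.TvTransfer

open Subgroup commutatorElement Cfsg.Agent.Lib.TvStruct
open scoped Pointwise

universe u

variable {G : Type u} [Group G]

/-- `L` solvable, normalizes the elementary abelian 2-group `V`, and `O_2(L / C_L(V)) = 1`. -/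
structure ActSetup (V L : Subgroup G) : Prop where
  elemV : Cfsg.IsElementaryAbelian 2 V
  norm : L ≤ normalizer (V : Set G)
  solv : Group.IsSolvable ↥L
  core : ∀ D : Subgroup G, D ≤ L → L ≤ normalizer (D : Set G) →
    (∀ x ∈ D, ∃ k : ℕ, x ^ 2 ^ k ∈ centralizer (V : Set G)) → D ≤ centralizer (V : Set G)

/-- the semidirect product `V ⋊ Aut V` -/
abbrev Gam (V : Subgroup G) := ↥V ⋊[MonoidHom.id (MulAut ↥V)] MulAut ↥V

instance [Finite G] (V : Subgroup G) : Finite (Gam V) := Finite.of_equiv _ SemidirectProduct.equivProd.symm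

variable {V L : Subgroup G}

/-- the action of `L` on `V` as a homomorphism to `V ⋊ Aut V` -/
def psi (h : L ≤ normalizer (V : Set G)) : ↥L →* Gam V :=
  SemidirectProduct.inr.comp (V.normalizerMonoidHom.comp (inclusion h))

/-- `V` inside `V ⋊ Aut V` -/
def iota (V : Subgroup G) : ↥V →* Gam V := SemidirectProduct.inl

theorem iota_injective : Function.Injective (iota V) := SemidirectProduct.inl_injective

theorem psi_conj (h : L ≤ normalizer (V : Set G)) (x : ↥L) (v : ↥V) :
    psi h x * iota V v * (psi h x)⁻¹ =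
      iota V ⟨(x : G) * v * (x : G)⁻¹, LocBase.conj_mem_of_le_normalizer h x.2 v.2⟩ := by
  unfold psi iota
  simp only [MonoidHom.comp_apply]
  rw [← map_inv, ← SemidirectProduct.inl_aut]
  rfl

theorem psi_comm_iff (h : L ≤ normalizer (V : Set G)) (x : ↥L) (v : ↥V) :
    psi h x * iota V v = iota V v * psi h x ↔ (x : G) * v = v * x := by
  rw [← mul_inv_eq_iff_eq_mul, psi_conj, iota_injective.eq_iff, Subtype.ext_iff, mul_inv_eq_iff_eq_mul]

theorem psi_eq_one_iff (h : L ≤ normalizer (V : Set G)) (x : ↥L) :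
    psi h x = 1 ↔ (x : G) ∈ centralizer (V : Set G) := by
  constructor
  · intro hx
    rw [mem_centralizer_iff]
    intro v hv
    have := (psi_comm_iff h x ⟨v, hv⟩).mp (by rw [hx, one_mul, mul_one])
    exact this.symm
  · intro hx
    have h1 : inclusion h x ∈ V.normalizerMonoidHom.ker := by
      rw [normalizerMonoidHom_ker, mem_subgroupOf]; exact hx
    rw [MonoidHom.mem_ker] at h1
    unfold psi
    rw [MonoidHom.comp_apply, MonoidHom.comp_apply, h1, map_one]

/-- image of `V` -/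
def VV (V : Subgroup G) : Subgroup (Gam V) := (iota V).range

/-- image of `L` -/
def HH (h : L ≤ normalizer (V : Set G)) : Subgroup (Gam V) := (psi h).range

/-- `O(H)` -/
noncomputable def RR (h : L ≤ normalizer (V : Set G)) : Subgroup (Gam V) :=
  (Cfsg.pPrimeCore 2 ↥(HH h)).map (HH h).subtype

/-- image of a subgroup of `L` -/
def img (h : L ≤ normalizer (V : Set G)) (X : Subgroup G) : Subgroup (Gam V) :=
  (X.subgroupOf L).map (psi h)

theorem mem_img {h : L ≤ normalizer (V : Set G)} {X : Subgroup G} {y : Gam V} :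
    y ∈ img h X ↔ ∃ x : ↥L, (x : G) ∈ X ∧ psi h x = y := by
  unfold img
  rw [mem_map]
  rfl

theorem psi_mem_img (h : L ≤ normalizer (V : Set G)) {X : Subgroup G} {x : ↥L} (hx : (x : G) ∈ X) :
    psi h x ∈ img h X := mem_img.mpr ⟨x, hx, rfl⟩

theorem img_mono {h : L ≤ normalizer (V : Set G)} {X Y : Subgroup G} (hXY : X ≤ Y) : img h X ≤ img h Y :=
  Subgroup.map_mono (fun _ hx => hXY hx)

theorem img_le_HH (h : L ≤ normalizer (V : Set G)) (X : Subgroup G) : img h X ≤ HH h := by
  rintro _ ⟨x, _, rfl⟩; exact ⟨x, rfl⟩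

theorem img_self (h : L ≤ normalizer (V : Set G)) : img h L = HH h := by
  unfold img HH
  rw [subgroupOf_self, MonoidHom.range_eq_map]

theorem img_commutator (h : L ≤ normalizer (V : Set G)) {X Y : Subgroup G} (hX : X ≤ L) (hY : Y ≤ L) :
    img h ⁅X, Y⁆ = ⁅img h X, img h Y⁆ := by
  unfold img
  rw [← Subgroup.map_commutator]
  congr 1
  apply Subgroup.map_injective L.subtype_injective
  rw [Subgroup.map_commutator, map_subgroupOf_eq_of_le hX, map_subgroupOf_eq_of_le hY,
    map_subgroupOf_eq_of_le]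
  refine (commutator_mono hX hY).trans ?_
  rw [commutator_le]
  intro a ha b hb
  rw [commutatorElement_def]
  exact mul_mem (mul_mem (mul_mem ha hb) (inv_mem ha)) (inv_mem hb)

theorem img_le_img_iff (h : L ≤ normalizer (V : Set G)) {X Y : Subgroup G} (hX : X ≤ L) :
    img h X ≤ img h Y ↔ ∀ x ∈ X, ∃ y ∈ Y, y ∈ L ∧ y⁻¹ * x ∈ centralizer (V : Set G) := by
  constructor
  · intro hle x hx
    obtain ⟨y, hy, hxy⟩ := mem_img.mp (hle (psi_mem_img h (x := ⟨x, hX hx⟩) hx))
    refine ⟨y, hy, y.2, ?_⟩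
    have := (psi_eq_one_iff h (y⁻¹ * ⟨x, hX hx⟩)).mp (by rw [map_mul, map_inv, hxy, inv_mul_cancel])
    exact this
  · rintro hall _ hz
    obtain ⟨x, hx, rfl⟩ := mem_img.mp hz
    obtain ⟨y, hy, hyL, hyx⟩ := hall x hx
    refine mem_img.mpr ⟨⟨y, hyL⟩, hy, ?_⟩
    have := (psi_eq_one_iff h (⟨y, hyL⟩⁻¹ * x)).mpr hyx
    rw [map_mul, map_inv, inv_mul_eq_one] at this
    exact this

theorem img_eq_bot_iff (h : L ≤ normalizer (V : Set G)) {X : Subgroup G} (hX : X ≤ L) :
    img h X = ⊥ ↔ X ≤ centralizer (V : Set G) := by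
  rw [eq_bot_iff]
  constructor
  · intro hle x hx
    have := hle (psi_mem_img h (x := ⟨x, hX hx⟩) hx)
    rw [mem_bot, psi_eq_one_iff] at this
    exact this
  · rintro hle _ hz
    obtain ⟨x, hx, rfl⟩ := mem_img.mp hz
    rw [mem_bot, psi_eq_one_iff]
    exact hle hx

theorem card_VV (V : Subgroup G) : Nat.card (VV V) = Nat.card V :=
  Nat.card_congr (MonoidHom.ofInjective (iota_injective (V := V))).symm.toEquiv

/-- centralizers in `V` correspond -/
theorem VV_inf_centralizer (h : L ≤ normalizer (V : Set G)) {X : Subgroup G} (hX : X ≤ L) :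
    VV V ⊓ centralizer (img h X : Set (Gam V)) =
      ((V ⊓ centralizer (X : Set G)).subgroupOf V).map (iota V) := by
  ext z
  constructor
  · intro hz
    obtain ⟨⟨v, rfl⟩, hz2⟩ := mem_inf.mp hz
    refine ⟨v, ?_, rfl⟩
    show (v : G) ∈ V ⊓ centralizer (X : Set G)
    refine mem_inf.mpr ⟨v.2, mem_centralizer_iff.mpr ?_⟩
    intro x hx
    exact (psi_comm_iff h ⟨x, hX hx⟩ v).mp (mem_centralizer_iff.mp hz2 _ (psi_mem_img h hx))
  · rintro ⟨v, hv, rfl⟩
    have hv' : (v : G) ∈ V ⊓ centralizer (X : Set G) := hv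
    refine mem_inf.mpr ⟨⟨v, rfl⟩, mem_centralizer_iff.mpr ?_⟩
    intro z hz
    obtain ⟨x, hx, rfl⟩ := mem_img.mp hz
    exact (psi_comm_iff h x v).mpr (mem_centralizer_iff.mp (mem_inf.mp hv').2 x hx)

theorem card_VV_inf_centralizer (h : L ≤ normalizer (V : Set G)) {X : Subgroup G} (hX : X ≤ L) :
    Nat.card (VV V ⊓ centralizer (img h X : Set (Gam V)) : Subgroup (Gam V)) =
      Nat.card (V ⊓ centralizer (X : Set G) : Subgroup G) := by
  rw [VV_inf_centralizer h hX, Subgroup.card_map_of_injective iota_injective,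
    SubgroupTools.card_subgroupOf_of_le inf_le_left]

theorem isTv_psi_iff (h : L ≤ normalizer (V : Set G)) (t : ↥L) : IsTv (VV V) (psi h t) ↔ IsTv V (t : G) := by
  unfold IsTv
  have h1 : zpowers (t : G) ≤ L := by rw [zpowers_le]; exact t.2
  have h2 : img h (zpowers (t : G)) = zpowers (psi h t) := by
    unfold img
    rw [← MonoidHom.map_zpowers]
    congr 1
    apply Subgroup.map_injective L.subtype_injective
    rw [map_subgroupOf_eq_of_le h1, MonoidHom.map_zpowers]
    rfl
  have h3 := card_VV_inf_centralizer h h1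
  rw [h2, zpowers_eq_closure, zpowers_eq_closure, centralizer_closure, centralizer_closure] at h3
  rw [h3, card_VV]

theorem elemAb_VV (hV : Cfsg.IsElementaryAbelian 2 V) : Cfsg.IsElementaryAbelian 2 (VV V) := by
  have h1 : Cfsg.IsElementaryAbelian 2 (⊤ : Subgroup ↥V) := by
    apply ThompsonJ.elemAb_of_map V.subtype_injective
    rw [← MonoidHom.range_eq_map, V.range_subtype]
    exact hV
  unfold VV
  rw [MonoidHom.range_eq_map]
  exact ThompsonJ.elemAb_map _ h1

theorem ActSetup.setup [Finite G] (A : ActSetup V L) : Setup (VV V) (HH A.norm) (RR A.norm) := by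
  have hsolv : Group.IsSolvable ↥(HH A.norm) := by
    have := A.solv
    exact Group.isSolvable_of_surjective (f := (psi A.norm).rangeRestrict) (psi A.norm).rangeRestrict_surjective
  have hcore : Cfsg.pCore 2 ↥(HH A.norm) = ⊥ := by
    rw [eq_bot_iff]
    set P := Cfsg.pCore 2 ↥(HH A.norm) with hP
    set f := (psi A.norm).rangeRestrict with hf
    set D : Subgroup G := (P.comap f).map L.subtype with hD
    have hPn : P.Normal := Cfsg.pCore_normal 2 _
    have h1 : D ≤ centralizer (V : Set G) := by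
      apply A.core D (map_subtype_le _)
      · intro x hx
        apply LocBase.mem_normalizer_of_map_conj_le
        rintro _ ⟨_, ⟨d, hd, rfl⟩, rfl⟩
        have hn : (P.comap f).Normal := hPn.comap f
        exact ⟨_, hn.conj_mem d hd ⟨x, hx⟩, rfl⟩
      · rintro _ ⟨d, hd, rfl⟩
        have hd' : f d ∈ P := hd
        obtain ⟨k, hk⟩ := (LocBase.isPGroup_pCore 2 ↥(HH A.norm)) ⟨f d, hd'⟩
        refine ⟨k, ?_⟩
        have hk' : (f d) ^ 2 ^ k = 1 := congrArg Subtype.val hk
        have hk2 : psi A.norm (d ^ 2 ^ k) = 1 := by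
          have := congrArg Subtype.val hk'
          rw [map_pow]
          exact this
        rw [psi_eq_one_iff] at hk2
        exact hk2
    rintro ⟨y, hy⟩ hyP
    obtain ⟨x, rfl⟩ := hy
    have h2 : (x : G) ∈ D := ⟨x, hyP, rfl⟩
    have h3 := (psi_eq_one_iff A.norm x).mpr (h1 h2)
    rw [mem_bot]
    exact Subtype.ext h3
  have hcent := H34Basic.centralizer_pPrimeCore_le (G := ↥(HH A.norm)) 2 hcore
  have hRn : (Cfsg.pPrimeCore 2 ↥(HH A.norm)).Normal := Subgroup.sSup_normal _ (fun _ h => h.1)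
  refine ⟨elemAb_VV A.elemV, ?_, ?_, map_subtype_le _, ?_, ?_, ?_⟩
  · rintro _ ⟨x, rfl⟩
    rw [mem_normalizer_iff_map_conj_eq]
    apply le_antisymm
    · rintro _ ⟨_, ⟨v, rfl⟩, rfl⟩
      show psi A.norm x * iota V v * (psi A.norm x)⁻¹ ∈ VV V
      rw [psi_conj]; exact ⟨_, rfl⟩
    · rintro _ ⟨v, rfl⟩
      refine ⟨iota V ⟨(x : G)⁻¹ * v * (x : G), LocBase.conj_mem_of_le_normalizer' A.norm x.2 v.2⟩, ⟨_, rfl⟩, ?_⟩
      show psi A.norm x * iota V _ * (psi A.norm x)⁻¹ = _
      rw [psi_conj]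
      congr 1
      apply Subtype.ext
      show (x : G) * ((x : G)⁻¹ * v * (x : G)) * (x : G)⁻¹ = v
      group
  · rw [eq_bot_iff]
    intro z hz
    obtain ⟨⟨x, rfl⟩, hz2⟩ := mem_inf.mp hz
    rw [mem_bot, psi_eq_one_iff, mem_centralizer_iff]
    intro v hv
    have := mem_centralizer_iff.mp hz2 (iota V ⟨v, hv⟩) ⟨_, rfl⟩
    exact ((psi_comm_iff A.norm x ⟨v, hv⟩).mp this.symm).symm
  · intro z hz
    apply LocBase.mem_normalizer_of_map_conj_le
    rintro _ ⟨_, ⟨d, hd, rfl⟩, rfl⟩
    exact ⟨_, hRn.conj_mem d hd ⟨z, hz⟩, rfl⟩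
  · unfold RR
    rw [Subgroup.card_map_of_injective (HH A.norm).subtype_injective]
    exact Cores.coprime_card_pPrimeCore 2 _
  · intro z hz
    obtain ⟨hz1, hz2⟩ := mem_inf.mp hz
    refine ⟨⟨z, hz1⟩, hcent ?_, rfl⟩
    rw [mem_centralizer_iff]
    intro r hr
    apply Subtype.ext
    exact mem_centralizer_iff.mp hz2 r ⟨r, hr, rfl⟩

end Cfsg.Agent.Lib.TvTransfer
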