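import Cfsg.Agent.Lib.TwG2Tor
import Cfsg.Agent.Lib.ChevSL2
import Cfsg.Agent.Lib.MobPSL
set_option autoImplicit false
set_option linter.unusedSectionVars false
set_option linter.unusedVariables false
set_option linter.unusedSimpArgs false

/-!
The groups 2G2(q): the homomorphism `SL(2,q) → 2G2(q)`.
-/

namespace Cfsg.Agent.Lib.TwG2
open Cfsg.Lie Cfsg.Agent.Lib.ChevX Cfsg.Agent.Lib.ChevGood Cfsg.Agent.Lib.ChevRel Cfsg.Agent.Lib.ChevNPerm
  Cfsg.Agent.Lib.ChevClosed Cfsg.Agent.Lib.ChevBruhat Cfsg.Agent.Lib.TwFix Cfsg.Agent.Lib.TwFix.TwRk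
  Cfsg.Agent.Lib.TwTab Cfsg.Agent.Lib.TwField Cfsg.Agent.Lib.TwSpec Cfsg.Agent.Lib.TwModp
open scoped MatrixGroups Matrix commutatorElement

universe u

/-! ### the homomorphisms attached to the roots 8 and 10 -/

section
variable (K : Type u) [Field K]

abbrev E (t : K) : SL(2, K) := SL2Pres.E t
abbrev E' (t : K) : SL(2, K) := SL2Pres.E' t

noncomputable def pr (r : ℕ) (hr : r < chevG2.nroots) : SL(2, K) →* GL chevG2.Idx K :=
  Classical.choose (Cfsg.Agent.Lib.ChevSL2.exists_SL2_hom G (F := K) hr)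

variable {K}

theorem pr_E {r : ℕ} (hr : r < chevG2.nroots) (t : K) : pr K r hr (E K t) = xg chevG2 K r t := by
  apply Units.ext
  rw [coe_xg G]
  exact ((Classical.choose_spec (Cfsg.Agent.Lib.ChevSL2.exists_SL2_hom G (F := K) hr)).2 _ _).1 rfl

theorem pr_E' {r : ℕ} (hr : r < chevG2.nroots) (t : K) : pr K r hr (E' K t) = xg chevG2 K (chevG2.neg r) t := by
  apply Units.ext
  rw [coe_xg G]
  exact ((Classical.choose_spec (Cfsg.Agent.Lib.ChevSL2.exists_SL2_hom G (F := K) hr)).2 _ _).2 rfl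

theorem sl2_induction {P : SL(2, K) → Prop} (h1 : P 1) (hE : ∀ t, P (E K t)) (hE' : ∀ t, P (E' K t))
    (hm : ∀ a b, P a → P b → P (a * b)) (hi : ∀ a, P a → P a⁻¹) (g : SL(2, K)) : P g := by
  have hg : g ∈ Subgroup.closure (Set.range (SL2Pres.E : K → SL(2, K)) ∪ Set.range SL2Pres.E') := by
    rw [SL2Pres.closure_SL2]; trivial
  induction hg using Subgroup.closure_induction with
  | mem x hx =>
    rcases hx with ⟨t, rfl⟩ | ⟨t, rfl⟩
    · exact hE t
    · exact hE' t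
  | one => exact h1
  | mul a b _ _ ha hb => exact hm a b ha hb
  | inv a _ ha => exact hi a ha

theorem cm810 {r s : ℕ} (hr : r ∈ [8, 3]) (hs : s ∈ [10, 1]) (a b : K) :
    Commute (xg chevG2 K r a) (xg chevG2 K s b) := by
  have key : ∀ r ∈ [8, 3], ∀ s ∈ [10, 1], (r < chevG2.nroots ∧ s < chevG2.nroots ∧ s ≠ r ∧
      s ≠ chevG2.neg r ∧ chevG2.commTerms r s = []) := by decide +kernel
  obtain ⟨h1, h2, h3, h4, h5⟩ := key r hr s hs
  refine xg_commute_p G h1 h2 h3 h4 (fun c hc => ?_) a b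
  rw [h5] at hc
  exact absurd hc (List.not_mem_nil)

theorem h8 : 8 < chevG2.nroots := by decide
theorem h10 : 10 < chevG2.nroots := by decide

theorem pr_comm (g g' : SL(2, K)) : Commute (pr K 8 h8 g) (pr K 10 h10 g') := by
  have n8 : chevG2.neg 8 = 3 := by decide +kernel
  have n10 : chevG2.neg 10 = 1 := by decide +kernel
  have h1 : ∀ s ∈ [10, 1], ∀ (b : K) (g : SL(2, K)), Commute (pr K 8 h8 g) (xg chevG2 K s b) := by
    intro s hs b
    apply sl2_induction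
    · rw [map_one]; exact Commute.one_left _
    · intro t; rw [pr_E]; exact cm810 (by simp) hs t b
    · intro t; rw [pr_E', n8]; exact cm810 (by simp) hs t b
    · intro x y hx hy; rw [map_mul]; exact hx.mul_left hy
    · intro x hx; rw [map_inv]; exact hx.inv_left
  revert g'
  apply sl2_induction
  · rw [map_one]; exact Commute.one_right _
  · intro t; rw [pr_E]; exact h1 10 (by simp) t g
  · intro t; rw [pr_E', n10]; exact h1 1 (by simp) t g
  · intro x y hx hy; rw [map_mul]; exact hx.mul_right hy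
  · intro x hx; rw [map_inv]; exact hx.inv_right

theorem pr_nn {r : ℕ} (hr : r < chevG2.nroots) (t : K) : pr K r hr (SL2Pres.nn (E K) (E' K) t) = ng chevG2 K r t := by
  unfold SL2Pres.nn ng
  rw [map_mul, map_mul, pr_E, pr_E']

theorem pr_hh {r : ℕ} (hr : r < chevG2.nroots) (t : K) : pr K r hr (SL2Pres.hh (E K) (E' K) t) = hg chevG2 K r t := by
  unfold SL2Pres.hh hg
  rw [map_mul, pr_nn, pr_nn]

end

/-- two elements of `H` with the same action on the fundamental root subgroups -/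
theorem diag_ext {D : ChevalleyDatum} {F : Type*} [Field F] (T : TwSys D F) {h h' : GL D.Idx F}
    (hh : h ∈ D.diagonalSubgroup F) (hh' : h' ∈ D.diagonalSubgroup F)
    (heq : ∀ i < D.rank, h * xg D F (D.simple i) 1 * h⁻¹ = h' * xg D F (D.simple i) 1 * h'⁻¹) : h = h' := by
  have h1 : h'⁻¹ * h = 1 := by
    apply TwAll.diag_eq_one T (mul_mem (inv_mem hh') hh)
    intro i
    show h'⁻¹ * h * xg D F (D.simple i) 1 * (h'⁻¹ * h)⁻¹ = xg D F (D.simple i) 1
    have e : h'⁻¹ * h * xg D F (D.simple i) 1 * (h'⁻¹ * h)⁻¹ = h'⁻¹ * (h * xg D F (D.simple i) 1 * h⁻¹) * h' := by group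
    rw [e, heq i i.2]
    group
  exact (inv_mul_eq_one.mp h1).symm

variable {K : Type u} [Field K]

theorem pairs : (∑ j ∈ Finset.range chevG2.rank, co chevG2 8 j * chevG2.cartan j 7 = -1 ∧
    ∑ j ∈ Finset.range chevG2.rank, co chevG2 8 j * chevG2.cartan j 6 = 3 ∧
    ∑ j ∈ Finset.range chevG2.rank, co chevG2 10 j * chevG2.cartan j 7 = 1 ∧
    ∑ j ∈ Finset.range chevG2.rank, co chevG2 10 j * chevG2.cartan j 6 = -1) := by
  decide +kernel

/-- the word of `φ(w)` -/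
def wW : List (ℕ × ℤ) := [(8, 1), (3, -1), (8, 1), (10, 1), (1, -1), (10, 1)]
theorem chkWW : chkEqp chevG2 3 G.ce (cst wW) (cst wN) = true := by decide +kernel

section
variable [Fintype K] {m : ℕ} (hK : Fintype.card K = 3 ^ (2 * m + 1))
include hK

/-- the homomorphism `SL(2,K) → 2G2` -/
noncomputable def phi : SL(2, K) →* GL chevG2.Idx K where
  toFun g := pr K 8 h8 (Matrix.SpecialLinearGroup.map (fr hK).toRingHom g) * pr K 10 h10 g
  map_one' := by rw [map_one, map_one, map_one, mul_one]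
  map_mul' x y := by
    rw [map_mul, map_mul, map_mul]
    have := (pr_comm (Matrix.SpecialLinearGroup.map (fr hK).toRingHom y) x).eq
    calc _ = pr K 8 h8 (Matrix.SpecialLinearGroup.map (fr hK).toRingHom x) *
          (pr K 8 h8 (Matrix.SpecialLinearGroup.map (fr hK).toRingHom y) * pr K 10 h10 x) * pr K 10 h10 y := by group
      _ = _ := by rw [this]; group

theorem map_E (t : K) : Matrix.SpecialLinearGroup.map (fr hK).toRingHom (E K t) = E K (t ^ 3 ^ m) := by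
  apply Subtype.ext
  ext i j
  rw [Matrix.SpecialLinearGroup.map_apply_coe, RingHom.mapMatrix_apply, Matrix.map_apply, ← fr_eq hK]
  fin_cases i <;> fin_cases j <;> simp [SL2Pres.E]

theorem map_E' (t : K) : Matrix.SpecialLinearGroup.map (fr hK).toRingHom (E' K t) = E' K (t ^ 3 ^ m) := by
  apply Subtype.ext
  ext i j
  rw [Matrix.SpecialLinearGroup.map_apply_coe, RingHom.mapMatrix_apply, Matrix.map_apply, ← fr_eq hK]
  fin_cases i <;> fin_cases j <;> simp [SL2Pres.E']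

theorem neg_pow_e (t : K) : (-t) ^ 3 ^ m = - t ^ 3 ^ m := by
  have hodd : Odd (3 ^ m) := Odd.pow (by decide)
  exact hodd.neg_pow t

theorem map_nn (t : K) : Matrix.SpecialLinearGroup.map (fr hK).toRingHom (SL2Pres.nn (E K) (E' K) t) =
    SL2Pres.nn (E K) (E' K) (t ^ 3 ^ m) := by
  unfold SL2Pres.nn
  rw [map_mul, map_mul, map_E hK, map_E' hK, neg_pow_e hK, inv_pow]

theorem map_hh (t : K) : Matrix.SpecialLinearGroup.map (fr hK).toRingHom (SL2Pres.hh (E K) (E' K) t) =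
    SL2Pres.hh (E K) (E' K) (t ^ 3 ^ m) := by
  unfold SL2Pres.hh
  rw [map_mul, map_nn hK, map_nn hK, neg_pow_e hK, one_pow]

theorem phi_E (t : K) : phi hK (E K t) = UU (3 ^ m) 0 t 0 := by
  show pr K 8 h8 (Matrix.SpecialLinearGroup.map (fr hK).toRingHom (E K t)) * pr K 10 h10 (E K t) = _
  rw [map_E hK, pr_E, pr_E, UU_eq]
  have z : (0 : K) ^ 3 ^ m = 0 := zero_pow (by positivity)
  have z1 : (0 : K) ^ (3 ^ m + 1) = 0 := zero_pow (by positivity)
  have z2 : (0 : K) ^ (2 * 3 ^ m + 1) = 0 := zero_pow (by positivity)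
  rw [z, z1, z2]
  simp [xg_zero G]

theorem phi_E' (t : K) : phi hK (E' K t) = VV (3 ^ m) 0 (-t) 0 := by
  show pr K 8 h8 (Matrix.SpecialLinearGroup.map (fr hK).toRingHom (E' K t)) * pr K 10 h10 (E' K t) = _
  have n8 : chevG2.neg 8 = 3 := by decide +kernel
  have n10 : chevG2.neg 10 = 1 := by decide +kernel
  rw [map_E' hK, pr_E', pr_E', VV_eq, n8, n10]
  have z : (0 : K) ^ 3 ^ m = 0 := zero_pow (by positivity)
  have z1 : (0 : K) ^ (3 ^ m + 1) = 0 := zero_pow (by positivity)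
  have z2 : (0 : K) ^ (2 * 3 ^ m + 1) = 0 := zero_pow (by positivity)
  rw [z, z1, z2, neg_pow_e hK]
  simp [xg_zero G]

theorem phi_mem (g : SL(2, K)) : phi hK g ∈ twistedG2 K (3 ^ m) := by
  revert g
  apply sl2_induction
  · rw [map_one]; exact one_mem _
  · intro t; rw [phi_E]; exact mem_UU _ _ _ _
  · intro t; rw [phi_E']; exact mem_VV _ _ _ _
  · intro x y hx hy; rw [map_mul]; exact mul_mem hx hy
  · intro x hx; rw [map_inv]; exact inv_mem hx

theorem phi_hh {t : K} (ht : t ≠ 0) : phi hK (SL2Pres.hh (E K) (E' K) t) = th (3 ^ m) (t * (t ^ 3 ^ m) ^ 3) := by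
  have hs : t ^ 3 ^ m ≠ 0 := pow_ne_zero _ ht
  have hq : t * (t ^ 3 ^ m) ^ 3 ≠ 0 := mul_ne_zero ht (pow_ne_zero _ hs)
  have hTt := hT hK t
  show pr K 8 h8 (Matrix.SpecialLinearGroup.map (fr hK).toRingHom (SL2Pres.hh (E K) (E' K) t)) *
    pr K 10 h10 (SL2Pres.hh (E K) (E' K) t) = _
  rw [map_hh hK, pr_hh, pr_hh]
  apply diag_ext (T hK) (mul_mem (hg_mem G h8 hs) (hg_mem G h10 ht)) (HP_mem G (ok2 (pow_ne_zero _ hq) hq))
  intro i hi
  have hi2 : i < 2 := hi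
  have s0 : chevG2.simple 0 = 7 := by decide +kernel
  have s1 : chevG2.simple 1 = 6 := by decide +kernel
  obtain ⟨p1, p2, p3, p4⟩ := pairs
  have e0 : ∀ (a b x : GL chevG2.Idx K), a * b * x * (a * b)⁻¹ = a * (b * x * b⁻¹) * a⁻¹ := by
    intro a b x; group
  have q1 : (t * (t ^ 3 ^ m) ^ 3) ^ 3 ^ m = t ^ 3 ^ m * t := by rw [mul_pow, hTt]
  rw [e0]
  interval_cases i
  · rw [s0, hg_conj G h10 (by decide) t ht, hg_conj G h8 (by decide) _ hs, p1, p3]
    have h7 : th (3 ^ m) (t * (t ^ 3 ^ m) ^ 3) * xg chevG2 K 7 1 * (th (3 ^ m) (t * (t ^ 3 ^ m) ^ 3))⁻¹ =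
        xg chevG2 K 7 (((t * (t ^ 3 ^ m) ^ 3) ^ 3 ^ m) ^ (2 : ℤ) * (t * (t ^ 3 ^ m) ^ 3) ^ (-1 : ℤ) * 1) :=
      th_conj' hq (s := 7) (by norm_num) rfl 1
    show _ = th (3 ^ m) (t * (t ^ 3 ^ m) ^ 3) * xg chevG2 K 7 1 * (th (3 ^ m) (t * (t ^ 3 ^ m) ^ 3))⁻¹
    rw [h7, q1]
    congr 1
    have z1 : ∀ x : K, x ^ (2 : ℤ) = x ^ 2 := fun x => zpow_ofNat x 2
    rw [z1, zpow_neg_one, zpow_neg_one, zpow_one]
    field_simp
  · rw [s1, hg_conj G h10 (by decide) t ht, hg_conj G h8 (by decide) _ hs, p2, p4]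
    have h7 : th (3 ^ m) (t * (t ^ 3 ^ m) ^ 3) * xg chevG2 K 6 1 * (th (3 ^ m) (t * (t ^ 3 ^ m) ^ 3))⁻¹ =
        xg chevG2 K 6 (((t * (t ^ 3 ^ m) ^ 3) ^ 3 ^ m) ^ (-3 : ℤ) * (t * (t ^ 3 ^ m) ^ 3) ^ (2 : ℤ) * 1) :=
      th_conj' hq (s := 6) (by norm_num) rfl 1
    show _ = th (3 ^ m) (t * (t ^ 3 ^ m) ^ 3) * xg chevG2 K 6 1 * (th (3 ^ m) (t * (t ^ 3 ^ m) ^ 3))⁻¹
    rw [h7, q1]
    congr 1
    have z1 : ∀ x : K, x ^ (2 : ℤ) = x ^ 2 := fun x => zpow_ofNat x 2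
    have z3 : ∀ x : K, x ^ (3 : ℤ) = x ^ 3 := fun x => zpow_ofNat x 3
    rw [z1, z3, zpow_neg_one, zpow_neg, z3]
    field_simp

theorem phi_nn : phi hK (SL2Pres.nn (E K) (E' K) 1) = nl chevG2 K (jwF chk1G2 0) := by
  have h3 := char3 hK
  show pr K 8 h8 (Matrix.SpecialLinearGroup.map (fr hK).toRingHom (SL2Pres.nn (E K) (E' K) 1)) *
    pr K 10 h10 (SL2Pres.nn (E K) (E' K) 1) = _
  rw [map_nn hK, pr_nn, pr_nn, one_pow, nl_word, ← wg_eq_of_chk G chkWW]
  have n8 : chevG2.neg 8 = 3 := by decide +kernel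
  have n10 : chevG2.neg 10 = 1 := by decide +kernel
  simp only [ng, n8, n10, wW, wg, List.map_cons, List.map_nil, List.prod_cons, List.prod_nil, mul_one,
    mul_assoc, Int.cast_one, Int.cast_neg, inv_one]

/-- every square torus element is in the image -/
theorem th_sq_phi {s : K} (hs : s ≠ 0) : ∃ d : K, d ≠ 0 ∧ th (3 ^ m) (s * s) = phi hK (SL2Pres.hh (E K) (E' K) d) := by
  have hse : s ^ 3 ^ m ≠ 0 := pow_ne_zero _ hs
  have hTs := hT hK s
  refine ⟨(s ^ 3 ^ m) ^ 3 * s⁻¹, mul_ne_zero (pow_ne_zero _ hse) (inv_ne_zero hs), ?_⟩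
  rw [phi_hh hK (mul_ne_zero (pow_ne_zero _ hse) (inv_ne_zero hs)), mul_pow, hTs, inv_pow]
  congr 1
  field_simp

end

end Cfsg.Agent.Lib.TwG2
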