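import Cfsg.Agent.Lib.TwG2Inv
set_option autoImplicit false
set_option linter.unusedSectionVars false
set_option linter.unusedVariables false
set_option linter.unusedSimpArgs false

/-!
The groups 2G2(q): normal form of the elements, the centralizer of an involution.
-/

namespace Cfsg.Agent.Lib.TwG2
open Cfsg.Lie Cfsg.Agent.Lib.ChevX Cfsg.Agent.Lib.ChevGood Cfsg.Agent.Lib.ChevRel Cfsg.Agent.Lib.ChevNPerm
  Cfsg.Agent.Lib.ChevClosed Cfsg.Agent.Lib.ChevBruhat Cfsg.Agent.Lib.TwFix Cfsg.Agent.Lib.TwFix.TwRk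
  Cfsg.Agent.Lib.TwTab Cfsg.Agent.Lib.TwField Cfsg.Agent.Lib.TwSpec Cfsg.Agent.Lib.TwModp
open scoped MatrixGroups Matrix commutatorElement

universe u
variable {K : Type u} [Field K]

/-- the element `n_J` -/
noncomputable def nJ (K : Type u) [Field K] : GL chevG2.Idx K := nl chevG2 K (jwF chk1G2 0)

/-- its permutation -/
noncomputable def wJ : Equiv.Perm (Fin chevG2.nroots) := wl G (jwF chk1G2 0)

theorem mono_nJ : Mono G (nJ K) wJ := mono_nl G _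

theorem wJ_val (s : Fin chevG2.nroots) : ((wJ s : Fin chevG2.nroots) : ℕ) = tabG2.wlN (tabG2.jwN 0) s :=
  wlj_eq (G := G) chk1G2 chk3G2 (j := 0) (by decide) s

theorem wJ_neg (s : Fin chevG2.nroots) : wJ s = negF G s := by
  apply Fin.ext
  rw [wJ_val]
  have h : ∀ s < 12, tabG2.wlN (tabG2.jwN 0) s = chevG2.neg s := by decide +kernel
  exact h s s.2

theorem wJ_sq : wJ * wJ = 1 := by
  ext s
  simp only [Equiv.Perm.mul_apply, Equiv.Perm.one_apply]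
  rw [wJ_neg, wJ_neg, negF_negF]

theorem wJ_ne : wJ ≠ 1 := by
  intro h
  have h1 := wJ_val ⟨7, by decide⟩
  rw [h] at h1
  revert h1
  decide

theorem Inv_one : ChevBruhat.Inv (1 : Equiv.Perm (Fin chevG2.nroots)) = ∅ := by
  ext r
  simp [ChevBruhat.Inv]

theorem Inv_wJ : ChevBruhat.Inv wJ = posS chevG2 := by
  ext r
  constructor
  · exact fun h => h.1
  · intro h
    refine ⟨h, ?_⟩
    rw [wJ_neg, pos_negF, not_not]
    exact h

section
variable [Fintype K] {m : ℕ} (hK : Fintype.card K = 3 ^ (2 * m + 1))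
include hK

theorem nJ_mem2 : nJ K ∈ twistedG2 K (3 ^ m) := nJ_mem hK

theorem nJ_memN : nJ K ∈ chevG2.monomialSubgroup K ⊓ twistedG2 K (3 ^ m) := ⟨nl_mem G _, nJ_mem hK⟩

theorem nJ_not_H : nJ K ∉ chevG2.diagonalSubgroup K := fun h => wJ_ne (mono_unique G mono_nJ (mono_diag G h))

/-- permutations of elements of `N ∩ Γ` -/
theorem perm_cases {n : GL chevG2.Idx K} (hn : n ∈ chevG2.monomialSubgroup K ⊓ twistedG2 K (3 ^ m))
    {w : Equiv.Perm (Fin chevG2.nroots)} (hw : Mono G n w) : w = 1 ∨ w = wJ := by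
  obtain ⟨L, hL⟩ := (all hK).exists_word_perm hn hw
  rw [hL]
  clear hL hw
  induction L with
  | nil => exact Or.inl rfl
  | cons j L ih =>
    have hj : j = ⟨0, by decide⟩ := Fin.ext (by have : (j : ℕ) < 1 := j.2; show (j : ℕ) = 0; omega)
    rw [List.map_cons, List.prod_cons]
    have h1 : (gen (sig hK) chk1G2 chk2G2 chk3G2 listed fun j hj => (le_fix hK) (nJ_mem' hK j hj)).wj j = wJ := by
      rw [hj]; rfl
    rw [h1]
    rcases ih with h | h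
    · rw [h, mul_one]; exact Or.inr rfl
    · rw [h, wJ_sq]; exact Or.inl rfl

/-- elements of `N ∩ Γ` -/
theorem N_cases {n : GL chevG2.Idx K} (hn : n ∈ chevG2.monomialSubgroup K ⊓ twistedG2 K (3 ^ m))
    {w : Equiv.Perm (Fin chevG2.nroots)} (hw : Mono G n w) :
    (w = 1 ∧ ∃ s, s ≠ 0 ∧ n = th (3 ^ m) s) ∨ (w = wJ ∧ ∃ s, s ≠ 0 ∧ n = nJ K * th (3 ^ m) s) := by
  rcases perm_cases hK hn hw with rfl | rfl
  · left
    refine ⟨rfl, ?_⟩
    have h1 := (all hK).grp.same_perm (m := n) (n := 1) hn (one_mem _) hw (mono_one G)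
    rw [inv_one, one_mul] at h1
    exact exists_th hK ⟨h1.1, (all hK).le h1.2⟩
  · right
    refine ⟨rfl, ?_⟩
    have h1 := (all hK).grp.same_perm (m := n) (n := nJ K) hn (nJ_memN hK) hw mono_nJ
    obtain ⟨s, hs, h2⟩ := exists_th hK ⟨h1.1, (all hK).le h1.2⟩
    exact ⟨s, hs, by rw [← h2]; group⟩

/-- normal form -/
theorem normal_form {g : GL chevG2.Idx K} (hg : g ∈ twistedG2 K (3 ^ m)) :
    (∃ t u v s, s ≠ 0 ∧ g = UU (3 ^ m) t u v * th (3 ^ m) s) ∨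
    (∃ t u v s t' u' v', s ≠ 0 ∧ g = UU (3 ^ m) t u v * (nJ K * th (3 ^ m) s) * UU (3 ^ m) t' u' v') := by
  obtain ⟨x, hx, n, hn, w, hw, y, hy, rfl⟩ := (all hK).grp.bruhat hg
  obtain ⟨t, u, v, rfl⟩ := (mem_U_iff hK).mp hx
  rcases N_cases hK hn hw with ⟨rfl, s, hs, rfl⟩ | ⟨rfl, s, hs, rfl⟩
  · left
    have hy1 : y ∈ XS chevG2 K (ChevBruhat.Inv 1) := hy.1
    rw [Inv_one] at hy1
    have h4 : XS chevG2 K (∅ : Set (Fin chevG2.nroots)) = ⊥ := by unfold XS; simp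
    rw [h4, Subgroup.mem_bot] at hy1
    exact ⟨t, u, v, s, hs, by rw [hy1, mul_one]⟩
  · right
    have hy1 : y ∈ XS chevG2 K (ChevBruhat.Inv wJ) := hy.1
    rw [Inv_wJ, XS_posS G] at hy1
    obtain ⟨t', u', v', rfl⟩ := (mem_U_iff hK).mp ⟨hy1, hy.2⟩
    exact ⟨t, u, v, s, t', u', v', hs, rfl⟩

theorem th_memH {s : K} (hs : s ≠ 0) : th (3 ^ m) s ∈ chevG2.diagonalSubgroup K :=
  HP_mem G (ok2 (pow_ne_zero _ hs) hs)

theorem th_inj {s s' : K} (hs : s ≠ 0) (hs' : s' ≠ 0) (h : th (3 ^ m) s = th (3 ^ m) s') : s = s' := by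
  unfold th at h
  rw [HP2 (T hK) (pow_ne_zero _ hs) hs (pow_ne_zero _ hs') hs'] at h
  exact h.2

theorem th_one : th (3 ^ m) (1 : K) = 1 := by
  have h := th_mul (T hK) (3 ^ m) (one_ne_zero (α := K)) one_ne_zero
  rw [mul_one] at h
  exact mul_eq_left.mp h

theorem th_inv {s : K} (hs : s ≠ 0) : (th (3 ^ m) s)⁻¹ = th (3 ^ m) s⁻¹ := by
  apply inv_eq_of_mul_eq_one_right
  rw [th_mul (T hK) _ hs (inv_ne_zero hs), mul_inv_cancel₀ hs, th_one hK]

/-- uniqueness of the normal form, first cell -/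
theorem unique1 {t u v s t' u' v' s' : K} (hs : s ≠ 0) (hs' : s' ≠ 0)
    (h : UU (3 ^ m) t u v * th (3 ^ m) s = UU (3 ^ m) t' u' v' * th (3 ^ m) s') :
    t = t' ∧ u = u' ∧ v = v' ∧ s = s' := by
  have h1 : (UU (3 ^ m) t' u' v')⁻¹ * UU (3 ^ m) t u v = th (3 ^ m) s' * (th (3 ^ m) s)⁻¹ := by
    calc (UU (3 ^ m) t' u' v')⁻¹ * UU (3 ^ m) t u v
        = (UU (3 ^ m) t' u' v')⁻¹ * (UU (3 ^ m) t u v * th (3 ^ m) s) * (th (3 ^ m) s)⁻¹ := by group
      _ = _ := by rw [h]; group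
  have h2 : (UU (3 ^ m) t' u' v')⁻¹ * UU (3 ^ m) t u v = 1 :=
    inf_UH G listed (mul_mem (inv_mem (UU_memU _ _ _ _)) (UU_memU _ _ _ _))
      (by rw [h1]; exact mul_mem (th_memH hK hs') (inv_mem (th_memH hK hs)))
  have h3 : UU (3 ^ m) t' u' v' = UU (3 ^ m) t u v := inv_mul_eq_one.mp h2
  obtain ⟨e1, e2, e3⟩ := UU_inj hK h3
  rw [h2] at h1
  have h4 : th (3 ^ m) s = th (3 ^ m) s' := (mul_inv_eq_one.mp h1.symm).symm
  exact ⟨e1.symm, e2.symm, e3.symm, th_inj hK hs hs' h4⟩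

/-- uniqueness of the normal form, second cell -/
theorem unique2 {t u v s a b c t' u' v' s' a' b' c' : K} (hs : s ≠ 0) (hs' : s' ≠ 0)
    (h : UU (3 ^ m) t u v * (nJ K * th (3 ^ m) s) * UU (3 ^ m) a b c =
      UU (3 ^ m) t' u' v' * (nJ K * th (3 ^ m) s') * UU (3 ^ m) a' b' c') :
    t = t' ∧ u = u' ∧ v = v' ∧ s = s' ∧ a = a' ∧ b = b' ∧ c = c' := by
  have hm : ∀ s : K, s ≠ 0 → Mono G (nJ K * th (3 ^ m) s) wJ := by
    intro s hs
    have := mono_mul G mono_nJ (mono_diag G (th_memH hK hs))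
    rwa [mul_one] at this
  have hN : ∀ s : K, s ≠ 0 → nJ K * th (3 ^ m) s ∈ chevG2.monomialSubgroup K := fun s hs =>
    mul_mem (nl_mem G _) (H_le_N (th_memH hK hs))
  have hU : ∀ a b c : K, UU (3 ^ m) a b c ∈ XS chevG2 K (ChevBruhat.Inv wJ) := by
    intro a b c
    rw [Inv_wJ, XS_posS G]; exact UU_memU _ _ _ _
  obtain ⟨e1, e2, e3⟩ := bruhat_unique G listed (UU_memU _ _ _ _) (UU_memU _ _ _ _) (hN s hs) (hN s' hs') (hm s hs)
    (hm s' hs') (hU _ _ _) (hU _ _ _) h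
  obtain ⟨f1, f2, f3⟩ := UU_inj hK e1
  obtain ⟨g1, g2, g3⟩ := UU_inj hK e3
  exact ⟨f1, f2, f3, th_inj hK hs hs' (mul_left_cancel e2), g1, g2, g3⟩

/-- the two cells are disjoint -/
theorem cells_ne {t u v s a b c t' u' v' s' : K} (hs : s ≠ 0) (hs' : s' ≠ 0) :
    UU (3 ^ m) t' u' v' * th (3 ^ m) s' ≠ UU (3 ^ m) t u v * (nJ K * th (3 ^ m) s) * UU (3 ^ m) a b c := by
  intro h
  have h1 : nJ K = (UU (3 ^ m) t u v)⁻¹ * (UU (3 ^ m) t' u' v' * th (3 ^ m) s') * (UU (3 ^ m) a b c)⁻¹ *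
      (th (3 ^ m) s)⁻¹ := by rw [h]; group
  have hb : ∀ a b c : K, UU (3 ^ m) a b c ∈ chevG2.borelSubgroup K := fun a b c => borel_U G (UU_memU _ _ _ _)
  have h2 : nJ K ∈ chevG2.borelSubgroup K := by
    rw [h1]
    exact mul_mem (mul_mem (mul_mem (inv_mem (hb _ _ _)) (mul_mem (hb _ _ _) (borel_H G (th_memH hK hs'))))
      (inv_mem (hb _ _ _))) (inv_mem (borel_H G (th_memH hK hs)))
  exact nJ_not_H hK (TwGrp.borel_inf_monomial (T hK) h2 (nJ_memN hK).1)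

theorem neg_one_nonsq : ¬ IsSquare (-1 : K) := by
  have h3 : Fintype.card K % 4 = 3 := by
    rw [hK, pow_succ, pow_mul, Nat.mul_mod, Nat.pow_mod]
    norm_num
  rw [FiniteField.isSquare_neg_one_iff]
  simp [h3]

theorem two_ne : (2 : K) ≠ 0 := by
  intro h
  apply neg_one_nonsq hK
  have : (-1 : K) = 1 := by linear_combination -h
  rw [this]; exact ⟨1, by norm_num⟩

theorem h1_pow : (-1 : K) ^ 3 ^ m = -1 := by rw [neg_pow_e hK, one_pow]

/-- conjugation by `h(-1)` -/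
theorem a_UU (t u v : K) : th (3 ^ m) (-1 : K) * UU (3 ^ m) t u v * (th (3 ^ m) (-1 : K))⁻¹ = UU (3 ^ m) (-t) u (-v) := by
  rw [th_UU hK (neg_ne_zero.mpr one_ne_zero), h1_pow hK]
  congr 1 <;> norm_num

theorem a_VV (t u v : K) : th (3 ^ m) (-1 : K) * VV (3 ^ m) t u v * (th (3 ^ m) (-1 : K))⁻¹ = VV (3 ^ m) (-t) u (-v) := by
  rw [th_VV hK (neg_ne_zero.mpr one_ne_zero), h1_pow hK]
  congr 1 <;> norm_num

/-- `h(-1)` commutes with the image of `φ` -/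
theorem a_phi (g : SL(2, K)) : Commute (th (3 ^ m) (-1 : K)) (phi hK g) := by
  revert g
  apply sl2_induction
  · rw [map_one]; exact Commute.one_right _
  · intro t
    rw [phi_E]
    have h := a_UU hK 0 t 0
    rw [neg_zero] at h
    exact mul_inv_eq_iff_eq_mul.mp h
  · intro t
    rw [phi_E']
    have h := a_VV hK 0 (-t) 0
    rw [neg_zero] at h
    exact mul_inv_eq_iff_eq_mul.mp h
  · intro x y hx hy; rw [map_mul]; exact hx.mul_right hy
  · intro x hx; rw [map_inv]; exact hx.inv_right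

theorem nJ_phi : phi hK (SL2Pres.nn (E K) (E' K) 1) = nJ K := phi_nn hK

theorem a_th {s : K} (hs : s ≠ 0) : Commute (th (3 ^ m) (-1 : K)) (th (3 ^ m) s) := by
  show _ * _ = _ * _
  rw [th_mul (T hK) _ (neg_ne_zero.mpr one_ne_zero) hs, th_mul (T hK) _ hs (neg_ne_zero.mpr one_ne_zero), mul_comm]

/-- elements commuting with `h(-1)` -/
theorem cen_form {g : GL chevG2.Idx K} (hg : g ∈ twistedG2 K (3 ^ m)) (hc : Commute (th (3 ^ m) (-1 : K)) g) :
    (∃ u s, s ≠ 0 ∧ g = UU (3 ^ m) 0 u 0 * th (3 ^ m) s) ∨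
    (∃ u s u', s ≠ 0 ∧ g = UU (3 ^ m) 0 u 0 * (nJ K * th (3 ^ m) s) * UU (3 ^ m) 0 u' 0) := by
  have h2 := two_ne hK
  have hc' : th (3 ^ m) (-1 : K) * g * (th (3 ^ m) (-1 : K))⁻¹ = g := mul_inv_eq_iff_eq_mul.mpr hc.eq
  have hz : ∀ x : K, -x = x → x = 0 := by
    intro x hx
    have : (2 : K) * x = 0 := by linear_combination -hx
    exact (mul_eq_zero.mp this).resolve_left h2
  rcases normal_form hK hg with ⟨t, u, v, s, hs, rfl⟩ | ⟨t, u, v, s, t', u', v', hs, rfl⟩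
  · left
    have e1 : th (3 ^ m) (-1 : K) * (UU (3 ^ m) t u v * th (3 ^ m) s) * (th (3 ^ m) (-1 : K))⁻¹ =
        (th (3 ^ m) (-1 : K) * UU (3 ^ m) t u v * (th (3 ^ m) (-1 : K))⁻¹) * th (3 ^ m) s := by
      have := (a_th hK hs).eq
      calc _ = (th (3 ^ m) (-1 : K) * UU (3 ^ m) t u v * (th (3 ^ m) (-1 : K))⁻¹) *
            (th (3 ^ m) (-1 : K) * th (3 ^ m) s) * (th (3 ^ m) (-1 : K))⁻¹ := by group
        _ = _ := by rw [this]; group
    rw [e1, a_UU hK] at hc'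
    obtain ⟨f1, f2, f3, f4⟩ := unique1 hK hs hs hc'
    exact ⟨u, s, hs, by rw [hz t f1, hz v f3]⟩
  · right
    have e0 : Commute (th (3 ^ m) (-1 : K)) (nJ K * th (3 ^ m) s) := by
      rw [← nJ_phi hK]
      exact (a_phi hK _).mul_right (a_th hK hs)
    have e1 : th (3 ^ m) (-1 : K) * (UU (3 ^ m) t u v * (nJ K * th (3 ^ m) s) * UU (3 ^ m) t' u' v') * (th (3 ^ m) (-1 : K))⁻¹ =
        (th (3 ^ m) (-1 : K) * UU (3 ^ m) t u v * (th (3 ^ m) (-1 : K))⁻¹) * (nJ K * th (3 ^ m) s) *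
        (th (3 ^ m) (-1 : K) * UU (3 ^ m) t' u' v' * (th (3 ^ m) (-1 : K))⁻¹) := by
      have := e0.eq
      calc _ = (th (3 ^ m) (-1 : K) * UU (3 ^ m) t u v * (th (3 ^ m) (-1 : K))⁻¹) *
            (th (3 ^ m) (-1 : K) * (nJ K * th (3 ^ m) s)) * UU (3 ^ m) t' u' v' * (th (3 ^ m) (-1 : K))⁻¹ := by group
        _ = _ := by rw [this]; group
    rw [e1, a_UU hK, a_UU hK] at hc'
    obtain ⟨f1, f2, f3, f4, f5, f6, f7⟩ := unique2 hK hs hs hc'
    exact ⟨u, s, u', hs, by rw [hz t f1, hz v f3, hz t' f5, hz v' f7]⟩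

/-- elements commuting with `h(-1)` -/
theorem cen_eq {g : GL chevG2.Idx K} (hg : g ∈ twistedG2 K (3 ^ m)) (hc : Commute (th (3 ^ m) (-1 : K)) g) :
    ∃ γ : SL(2, K), g = phi hK γ ∨ g = th (3 ^ m) (-1 : K) * phi hK γ := by
  have hn1 : (-1 : K) ≠ 0 := neg_ne_zero.mpr one_ne_zero
  have hth : ∀ s : K, s ≠ 0 → ∃ d : SL(2, K), th (3 ^ m) s = phi hK d ∨ th (3 ^ m) s = th (3 ^ m) (-1 : K) * phi hK d := by
    intro s hs
    obtain ⟨r, hr, h | h⟩ := sq_or hK s hs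
    · obtain ⟨d, -, hd⟩ := th_sq_phi hK hr
      exact ⟨_, Or.inl (by rw [h, hd])⟩
    · obtain ⟨d, -, hd⟩ := th_sq_phi hK hr
      exact ⟨_, Or.inr (by rw [h, ← th_mul (T hK) _ hn1 (mul_ne_zero hr hr), hd])⟩
  rcases cen_form hK hg hc with ⟨u, s, hs, rfl⟩ | ⟨u, s, u', hs, rfl⟩
  · obtain ⟨d, hd | hd⟩ := hth s hs
    · exact ⟨E K u * d, Or.inl (by rw [hd, map_mul, phi_E])⟩
    · refine ⟨E K u * d, Or.inr ?_⟩
      rw [hd, map_mul, phi_E, ← mul_assoc, ← mul_assoc]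
      have := (a_phi hK (E K u)).eq
      rw [phi_E] at this
      rw [this]
  · obtain ⟨d, hd | hd⟩ := hth s hs
    · refine ⟨E K u * (SL2Pres.nn (E K) (E' K) 1 * d) * E K u', Or.inl ?_⟩
      rw [hd, map_mul, map_mul, map_mul, phi_E, phi_E, nJ_phi hK]
    · refine ⟨E K u * (SL2Pres.nn (E K) (E' K) 1 * d) * E K u', Or.inr ?_⟩
      rw [hd]
      have h1 := (a_phi hK (E K u)).eq
      have h2 := (a_phi hK (SL2Pres.nn (E K) (E' K) 1)).eq
      rw [phi_E] at h1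
      rw [nJ_phi hK] at h2
      rw [map_mul, map_mul, map_mul, phi_E, phi_E, nJ_phi hK]
      calc UU (3 ^ m) 0 u 0 * (nJ K * (th (3 ^ m) (-1) * phi hK d)) * UU (3 ^ m) 0 u' 0
          = UU (3 ^ m) 0 u 0 * (nJ K * th (3 ^ m) (-1)) * phi hK d * UU (3 ^ m) 0 u' 0 := by group
        _ = (UU (3 ^ m) 0 u 0 * th (3 ^ m) (-1)) * nJ K * phi hK d * UU (3 ^ m) 0 u' 0 := by rw [← h2]; group
        _ = _ := by rw [← h1]; group

theorem phi_neg_one : phi hK (-1) = 1 := by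
  have hn1 : (-1 : K) ≠ 0 := neg_ne_zero.mpr one_ne_zero
  have h1 : (-1 : SL(2, K)) = SL2Pres.hh (E K) (E' K) (-1) := by
    apply Subtype.ext
    rw [SL2Pres.coe_hh hn1]
    ext i j
    fin_cases i <;> fin_cases j <;> simp [inv_neg]
  rw [h1, phi_hh hK hn1, h1_pow hK]
  have : (-1 : K) * (-1) ^ 3 = 1 := by norm_num
  rw [this, th_one hK]

/-- the kernel -/
theorem ker_form {γ : SL(2, K)} {b : K} (hb : b = 1 ∨ b = -1) (h : th (3 ^ m) b * phi hK γ = 1) :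
    b = 1 ∧ (γ = 1 ∨ γ = -1) := by
  have hn1 : (-1 : K) ≠ 0 := neg_ne_zero.mpr one_ne_zero
  have hb0 : b ≠ 0 := by rcases hb with rfl | rfl; exacts [one_ne_zero, hn1]
  have hγ : γ ∈ Subgroup.closure (Set.range (SL2Pres.E : K → SL(2, K)) ∪ Set.range SL2Pres.E') := by
    rw [SL2Pres.closure_SL2]; trivial
  have hbc : ∀ u : K, th (3 ^ m) b * UU (3 ^ m) 0 u 0 = UU (3 ^ m) 0 u 0 * th (3 ^ m) b := by
    intro u
    rcases hb with rfl | rfl
    · rw [th_one hK, one_mul, mul_one]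
    · have := (a_phi hK (E K u)).eq
      rwa [phi_E] at this
  rcases SL2Pres.isR1_SL2.cell_of_mem hγ with ⟨a, c, hc, rfl⟩ | ⟨a, c, b', hc, rfl⟩
  · have hce : c ^ 3 ^ m ≠ 0 := pow_ne_zero _ hc
    have hq : c * (c ^ 3 ^ m) ^ 3 ≠ 0 := mul_ne_zero hc (pow_ne_zero _ hce)
    rw [map_mul, show phi hK (SL2Pres.E a) = _ from phi_E hK a, show phi hK (SL2Pres.hh SL2Pres.E SL2Pres.E' c) = _ from phi_hh hK hc,
      ← mul_assoc, hbc, mul_assoc, th_mul (T hK) _ hb0 hq] at h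
    have h1 : UU (3 ^ m) 0 a 0 * th (3 ^ m) (b * (c * (c ^ 3 ^ m) ^ 3)) = UU (3 ^ m) 0 0 0 * th (3 ^ m) 1 := by
      rw [h, UU_zero hK, th_one hK, mul_one]
    obtain ⟨-, e1, -, e2⟩ := unique1 hK (mul_ne_zero hb0 hq) one_ne_zero h1
    rcases hb with rfl | rfl
    · refine ⟨rfl, ?_⟩
      rw [one_mul] at e2
      have hTc := hT hK c
      have e3 := congrArg (fun x => x ^ 3 ^ m) e2
      simp only [mul_pow, hTc, one_pow] at e3
      have e4 : c ^ 2 = 1 := by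
        have : c ^ 2 * (c * (c ^ 3 ^ m) ^ 3) = (c ^ 3 ^ m * c) ^ 3 := by ring
        rw [e2, e3, one_pow, mul_one] at this
        exact this
      rw [e1]
      have hE0 : (SL2Pres.E (0 : K) : SL(2, K)) = 1 := SL2Pres.isR1_SL2.X_zero
      rw [hE0, one_mul]
      rcases mul_eq_zero.mp (show (c - 1) * (c + 1) = 0 by linear_combination e4) with h | h
      · left
        rw [sub_eq_zero.mp h]
        exact SL2Pres.isR1_SL2.hh_one
      · right
        rw [eq_neg_of_add_eq_zero_left h]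
        apply Subtype.ext
        rw [SL2Pres.coe_hh hn1]
        ext i j
        fin_cases i <;> fin_cases j <;> simp [inv_neg]
    · exfalso
      apply neg_one_nonsq hK
      have hodd : Odd (3 ^ m * 3) := (Odd.pow (by decide)).mul (by decide)
      obtain ⟨k, hk⟩ := hodd
      have e5 : c * (c ^ 3 ^ m) ^ 3 = c ^ (k + 1) * c ^ (k + 1) := by
        rw [← pow_mul, hk]; ring
      rw [e5] at e2
      have hck : c ^ (k + 1) ≠ 0 := pow_ne_zero _ hc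
      refine ⟨(c ^ (k + 1))⁻¹, ?_⟩
      field_simp
      linear_combination e2
  · exfalso
    have hce : c ^ 3 ^ m ≠ 0 := pow_ne_zero _ hc
    have hq : c * (c ^ 3 ^ m) ^ 3 ≠ 0 := mul_ne_zero hc (pow_ne_zero _ hce)
    rw [map_mul, map_mul, map_mul, show phi hK (SL2Pres.E a) = _ from phi_E hK a,
      show phi hK (SL2Pres.hh SL2Pres.E SL2Pres.E' c) = _ from phi_hh hK hc,
      show phi hK (SL2Pres.E b') = _ from phi_E hK b', show phi hK (SL2Pres.nn SL2Pres.E SL2Pres.E' 1) = _ from nJ_phi hK] at h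
    have hbb : ∀ a b c : K, UU (3 ^ m) a b c ∈ chevG2.borelSubgroup K := fun a b c => borel_U G (UU_memU _ _ _ _)
    have h2 : nJ K ∈ chevG2.borelSubgroup K := by
      have h3 : nJ K = (th (3 ^ m) (c * (c ^ 3 ^ m) ^ 3))⁻¹ * (UU (3 ^ m) 0 a 0)⁻¹ * (th (3 ^ m) b)⁻¹ *
          (th (3 ^ m) b * (UU (3 ^ m) 0 a 0 * th (3 ^ m) (c * (c ^ 3 ^ m) ^ 3) * nJ K * UU (3 ^ m) 0 b' 0)) *
          (UU (3 ^ m) 0 b' 0)⁻¹ := by group
      rw [h3, h, mul_one]
      exact mul_mem (mul_mem (mul_mem (inv_mem (borel_H G (th_memH hK hq))) (inv_mem (hbb _ _ _)))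
        (inv_mem (borel_H G (th_memH hK hb0)))) (inv_mem (hbb _ _ _))
    exact nJ_not_H hK (TwGrp.borel_inf_monomial (T hK) h2 (nJ_memN hK).1)

end

end Cfsg.Agent.Lib.TwG2
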