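import Cfsg.Prelude.Def_Transfer
import Cfsg.Agent.Lib.ExtDeg
import Cfsg.Agent.Lib.PDegreeNC
import Cfsg.Agent.Lib.PNilp
import Cfsg.Agent.Lib.MinNonNilp
import Cfsg.Agent.Lib.CharDegrees
import Cfsg.Agent.Lib.CharApps
import Cfsg.Agent.Lib.MGroups
import Cfsg.Agent.Lib.Cores3

/-!
# Groups with two character degrees (Isaacs 12.5)
-/

set_option autoImplicit false
set_option linter.all false

namespace Cfsg.Agent.Lib.TwoDeg

open Cfsg Subgroup Module Cfsg.Agent.Lib Cfsg.Agent.Lib.CharBasic Cfsg.Agent.Lib.Clifford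
  Cfsg.Agent.Lib.CliffordCorr
open scoped ComplexConjugate Pointwise

universe u

variable {G : Type u} [Group G]

/-- all degrees are `1` or `m` -/
def TwoDeg (m : ℕ) (G : Type u) [Group G] : Prop :=
  ∀ χ : G → ℂ, IsIrrCharacter G χ → χ 1 = 1 ∨ χ 1 = (m : ℂ)

theorem TwoDeg.quot {m : ℕ} (h : TwoDeg m G) (N : Subgroup G) [N.Normal] : TwoDeg m (G ⧸ N) :=
  fun χ hχ => h _ (hχ.inflate N)

/-- normal Hall subgroup from normal complements -/
theorem exists_hall [Finite G] (m : ℕ) (h : ∀ p : ℕ, p.Prime → p ∣ m → HasNormalPComplement p G) :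
    ∃ N : Subgroup G, N.Normal ∧ (Nat.card N).Coprime m ∧ ∀ q : ℕ, q.Prime → q ∣ N.index → q ∣ m := by
  have h' : ∀ p : {p : ℕ // p.Prime ∧ p ∣ m}, ∃ K : Subgroup G, K.Normal ∧ ¬ (p : ℕ) ∣ Nat.card K ∧
      ∃ k : ℕ, K.index = (p : ℕ) ^ k := by
    intro p
    haveI : Fact (p : ℕ).Prime := ⟨p.2.1⟩
    exact PNilp.hasNormalPComplement_iff.1 (h p p.2.1 p.2.2)
  choose K hK1 hK2 hK3 using h'
  refine ⟨⨅ p, K p, Subgroup.normal_iInf_normal hK1, ?_, ?_⟩
  · apply Nat.coprime_of_dvd
    intro q hq h1 h2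
    exact hK2 ⟨q, hq, h2⟩ (h1.trans (Subgroup.card_dvd_of_le (iInf_le K ⟨q, hq, h2⟩)))
  · intro q hq hqd
    haveI : Fact q.Prime := ⟨hq⟩
    haveI : (⨅ p, K p).Normal := Subgroup.normal_iInf_normal hK1
    obtain ⟨x, hx⟩ := exists_prime_orderOf_dvd_card' (G := G ⧸ (⨅ p, K p)) q (by exact hqd)
    obtain ⟨x, rfl⟩ := QuotientGroup.mk_surjective x
    have hx1 : x ∉ ⨅ p, K p := by
      intro h'
      rw [(QuotientGroup.eq_one_iff x).2 h', orderOf_one] at hx
      exact hq.one_lt.ne hx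
    have hx2 : x ^ q ∈ ⨅ p, K p := by
      rw [← QuotientGroup.eq_one_iff, QuotientGroup.mk_pow, ← hx, pow_orderOf_eq_one]
    rw [Subgroup.mem_iInf] at hx1
    push Not at hx1
    obtain ⟨p, hp⟩ := hx1
    have hx3 : x ^ q ∈ K p := (Subgroup.mem_iInf.1 hx2) p
    haveI := hK1 p
    have h1 : orderOf (QuotientGroup.mk x : G ⧸ K p) = q := by
      apply orderOf_eq_prime
      · rw [← QuotientGroup.mk_pow, QuotientGroup.eq_one_iff]; exact hx3
      · rw [Ne, QuotientGroup.eq_one_iff]; exact hp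
    have h2 : q ∣ (K p).index := by
      rw [← h1]; exact orderOf_dvd_natCard _
    obtain ⟨k, hk⟩ := hK3 p
    rw [hk] at h2
    have h3 := (Nat.prime_dvd_prime_iff_eq hq p.2.1).1 (hq.dvd_of_dvd_pow h2)
    rw [h3]
    exact p.2.2

/-- an irreducible character over `θ` -/
theorem exists_over [Fintype G] (N : Subgroup G) [Fintype N] {θ : N → ℂ} (hθ : IsIrrCharacter N θ) :
    ∃ χ : G → ℂ, IsIrrCharacter G χ ∧ classInner (fun n : N => χ n) θ ≠ 0 := by
  classical
  have hc : IsCharacter G (indFun N θ) := IsCharacter.indFun N hθ.isCharacter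
  obtain ⟨χ, hχ, h⟩ := hc.exists_constituent (by
    intro h0
    have := congrFun h0 1
    rw [IndFun.indFun_one, Pi.zero_apply] at this
    exact mul_ne_zero (by exact_mod_cast N.index_ne_zero_of_finite) hθ.one_ne_zero this)
  refine ⟨χ, hχ, ?_⟩
  rw [IndFun.frobenius_reciprocity N _ _ hχ.isClassFunction] at h
  intro h2
  apply h
  rw [← conj_classInner, h2, map_zero]

/-- the degree of an irreducible character of a normal subgroup divides the degrees above -/
theorem dvd_of_over [Fintype G] (N : Subgroup G) [N.Normal] [Fintype N] {θ : N → ℂ} (hθ : IsIrrCharacter N θ)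
    {χ : G → ℂ} (hχ : IsIrrCharacter G χ) (h : classInner (fun n : N => χ n) θ ≠ 0) {a b : ℕ}
    (ha : θ 1 = a) (hb : χ 1 = b) : a ∣ b := by
  have h1 := degree_clifford hχ hθ h
  obtain ⟨c, hc⟩ := (hχ.isCharacter.restrict N).classInner_nat hθ.isCharacter
  rw [hb, ha, hc] at h1
  have h2 : b = c * ((inertia N θ).index * a) := by exact_mod_cast h1
  rw [h2, ← mul_assoc]
  exact Dvd.intro_left _ rfl

theorem TwoDeg.complement [Finite G] {m : ℕ} (h : TwoDeg m G) {p : ℕ} (hp : p.Prime) (hpm : p ∣ m) :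
    HasNormalPComplement p G := by
  haveI : Fact p.Prime := ⟨hp⟩
  apply PDegreeNC.hasNormalPComplement
  intro χ hχ n hn hpn
  rcases h χ hχ with h1 | h1
  · rw [hn] at h1; exact_mod_cast h1
  · rw [hn] at h1
    have : n = m := by exact_mod_cast h1
    exact absurd (this ▸ hpm) hpn

theorem hasComplement_of_not_dvd [Finite G] {p : ℕ} (hp : p.Prime) (h : ¬ p ∣ Nat.card G) :
    HasNormalPComplement p G := by
  haveI : Fact p.Prime := ⟨hp⟩
  rw [PNilp.hasNormalPComplement_iff]
  refine ⟨⊤, inferInstance, ?_, 0, by simp⟩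
  rw [Subgroup.card_top]
  exact h

theorem TwoDeg.struct [Finite G] {m : ℕ} (h : TwoDeg m G) :
    ∃ (N : Subgroup G) (_ : N.Normal), (Nat.card N).Coprime m ∧
      (∀ q : ℕ, q.Prime → q ∣ N.index → q ∣ m) ∧
      (∀ a ∈ N, ∀ b ∈ N, a * b = b * a) ∧ Group.IsNilpotent (G ⧸ N) := by
  classical
  letI := Fintype.ofFinite G
  obtain ⟨N, hN, hc, hi⟩ := exists_hall (G := G) m (fun p hp hpm => h.complement hp hpm)
  letI := Fintype.ofFinite N
  refine ⟨N, hN, hc, hi, ?_, ?_⟩
  · intro a ha b hb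
    have h1 := comm_of_forall_irr_linear (G := N) (by
      intro θ hθ
      obtain ⟨d, hd, hd1⟩ := hθ.exists_degree
      obtain ⟨χ, hχ, hχθ⟩ := exists_over N hθ
      obtain ⟨e, he, he1⟩ := hχ.exists_degree
      have h2 := dvd_of_over N hθ hχ hχθ hd1 he1
      have h3 : d ∣ Nat.card N := CharApps.irr_degree_dvd_card hθ hd1
      have h4 : d = 1 := by
        rcases h χ hχ with h5 | h5
        · have : e = 1 := by rw [he1] at h5; exact_mod_cast h5
          rw [this] at h2
          exact Nat.dvd_one.1 h2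
        · have : e = m := by rw [he1] at h5; exact_mod_cast h5
          rw [this] at h2
          exact Nat.Coprime.eq_one_of_dvd (hc.coprime_dvd_left h3) h2
      rw [hd1, h4, Nat.cast_one]) ⟨a, ha⟩ ⟨b, hb⟩
    exact congrArg Subtype.val h1
  · apply MinNonNilp.isNilpotent_of_hasNormalPComplement
    intro p hp
    by_cases hpm : p ∣ m
    · exact (h.quot N).complement hp hpm
    · apply hasComplement_of_not_dvd hp
      intro hd
      exact hpm (hi p hp hd)

theorem TwoDeg.nilp [Finite G] {m : ℕ} (h : TwoDeg m G) (hm : m ≠ 1)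
    (hex : ∃ χ : G → ℂ, IsIrrCharacter G χ ∧ χ 1 = (m : ℂ)) (hnil : Group.IsNilpotent G) :
    ∃ p e : ℕ, p.Prime ∧ m = p ^ e ∧ ∃ P A : Subgroup G, P.Normal ∧ A.Normal ∧ IsPGroup p P ∧
      (∀ a ∈ A, ∀ b ∈ A, a * b = b * a) ∧ P ⊓ A = ⊥ ∧ P ⊔ A = ⊤ := by
  classical
  letI := Fintype.ofFinite G
  obtain ⟨χ, hχ, hχm⟩ := hex
  obtain ⟨p, hp, hpm⟩ := Nat.exists_prime_and_dvd hm
  haveI : Fact p.Prime := ⟨hp⟩
  obtain ⟨P, N, hN, hc⟩ := h.complement hp hpm
  letI := Fintype.ofFinite N
  have hPn : (P : Subgroup G).Normal := inferInstance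
  have hdis : Disjoint N (P : Subgroup G) := hc.disjoint
  have hsup : N ⊔ (P : Subgroup G) = ⊤ := hc.sup_eq_top
  obtain ⟨hpN, k, hk⟩ := (PNilp.isComplement'_sylow_iff P N).mp hc
  have hcomm : ∀ x ∈ N, ∀ y ∈ (P : Subgroup G), x * y = y * x := fun x hx y hy =>
    Subgroup.commute_of_normal_of_disjoint N P hN hPn hdis x y hx hy
  have hNab : ∀ a ∈ N, ∀ b ∈ N, a * b = b * a := by
    intro a ha b hb
    have h1 := comm_of_forall_irr_linear (G := N) (by
      intro θ hθ
      obtain ⟨d, hd, hd1⟩ := hθ.exists_degree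
      have hinv : ∀ g : G, cj N g θ = θ := by
        intro g
        have hg : g ∈ N ⊔ (P : Subgroup G) := by rw [hsup]; trivial
        obtain ⟨n, hn, y, hy, rfl⟩ := Subgroup.mem_sup_of_normal_left.1 hg
        rw [← cj_cj, cj_of_mem hθ.isClassFunction hn]
        funext x
        rw [cj_apply]
        congr 1
        apply Subtype.ext
        show y * (x : G) * y⁻¹ = x
        rw [← hcomm x x.2 y hy]; group
      obtain ⟨ψ, hψ, hext⟩ := H76Ext.exists_extension_of_coprime_card N hθ hinv (by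
        rw [hk]
        exact Nat.Coprime.pow_left _ ((Nat.Prime.coprime_iff_not_dvd hp).2 hpN))
      have h2 : ψ 1 = d := by
        have := hext 1
        rw [OneMemClass.coe_one] at this
        rw [this, hd1]
      have h3 : d ∣ Nat.card N := CharApps.irr_degree_dvd_card hθ hd1
      rcases h ψ hψ with h4 | h4
      · rw [hd1, ← h2, h4]
      · exfalso
        rw [h2] at h4
        have h5 : d = m := by exact_mod_cast h4
        exact hpN ((hpm.trans (h5 ▸ dvd_refl d)).trans h3)) ⟨a, ha⟩ ⟨b, hb⟩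
    exact congrArg Subtype.val h1
  have hNZ : N ≤ center G := by
    intro x hx
    rw [Subgroup.mem_center_iff]
    intro g
    have hg : g ∈ N ⊔ (P : Subgroup G) := by rw [hsup]; trivial
    obtain ⟨n, hn, y, hy, rfl⟩ := Subgroup.mem_sup_of_normal_left.1 hg
    rw [mul_assoc, ← hcomm x hx y hy, ← mul_assoc, hNab n hn x hx, mul_assoc]
  have hme : ∃ e, m = p ^ e := by
    obtain ⟨n, ρ, hρ, rfl⟩ := hχ
    have hn : n = m := by
      rw [Representation.char_one] at hχm
      simpa using hχm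
    haveI := hρ
    have h1 := CharDegrees.finrank_dvd_index_center ρ
    rw [Module.finrank_fintype_fun_eq_card, Fintype.card_fin, hn] at h1
    have h2 : m ∣ p ^ k := by
      rw [← hk]
      exact h1.trans (Subgroup.index_dvd_of_le hNZ)
    obtain ⟨e, -, he⟩ := (Nat.dvd_prime_pow hp).1 h2
    exact ⟨e, he⟩
  obtain ⟨e, he⟩ := hme
  refine ⟨p, e, hp, he, P, N, hPn, hN, P.2, hNab, ?_, ?_⟩
  · rw [inf_comm]; exact hdis.eq_bot
  · rw [sup_comm]; exact hsup

section CaseB

variable {N : Subgroup G} [hN : N.Normal]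

theorem TwoDeg.inertia_index [Finite G] {m : ℕ} (h : TwoDeg m G) (hm : m ≠ 1)
    (hcop : Nat.Coprime N.index (Nat.card N)) {θ : N → ℂ} (hθ : IsIrrCharacter N θ) (hθ1 : θ 1 = 1)
    (hne : inertia N θ ≠ ⊤) : (inertia N θ).index = m ∧
      ∀ a ∈ inertia N θ, ∀ b ∈ inertia N θ, a * b * a⁻¹ * b⁻¹ ∈ N := by
  classical
  letI := Fintype.ofFinite G
  letI := Fintype.ofFinite N
  set T := inertia N θ with hT
  have hNT : N ≤ T := le_inertia hθ.isClassFunction
  have hTm : ∀ g : G, g ∈ T ↔ cj N g θ = θ := fun g => Iff.rfl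
  obtain ⟨η, hη, hext⟩ := ExtDeg.exists_ext hNT hθ (fun g hg => (hTm g).1 hg) hcop
  have hdeg : ∀ β : T → ℂ, IsIrrCharacter T β → (∀ n : N, β ⟨n, hNT n.2⟩ = β 1) → ∀ d : ℕ, β 1 = d →
      T.index * d = 1 ∨ T.index * d = m := by
    intro β hβ hβN d hd
    obtain ⟨h1, -, h2⟩ := ExtDeg.deg_of_ext hNT hθ hTm hη hext hβ hβN
    rw [hθ1, mul_one, hd] at h2
    rcases h _ h1 with h3 | h3
    · left; rw [h2] at h3; exact_mod_cast h3
    · right; rw [h2] at h3; exact_mod_cast h3
  have hidx1 : T.index ≠ 1 := fun h' => hne (Subgroup.index_eq_one.1 h')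
  have hidx : T.index = m := by
    rcases hdeg 1 isIrrCharacter_one (fun _ => rfl) 1 (by simp) with h1 | h1
    · rw [mul_one] at h1; exact absurd h1 hidx1
    · rwa [mul_one] at h1
  refine ⟨hidx, ExtDeg.comm_of_linear hNT ?_⟩
  intro β hβ hβN
  obtain ⟨d, hd, hd1⟩ := hβ.exists_degree
  have hm0 : 0 < m := by rw [← hidx]; exact Nat.pos_of_ne_zero T.index_ne_zero_of_finite
  rcases hdeg β hβ hβN d hd1 with h1 | h1
  · rw [hidx] at h1
    exact absurd (Nat.eq_one_of_mul_eq_one_right h1) hm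
  · rw [hidx] at h1
    have : d = 1 := by
      have := Nat.eq_of_mul_eq_mul_left hm0 (h1.trans (mul_one m).symm)
      exact this
    rw [hd1, this, Nat.cast_one]

/-- characters separate the elements of an abelian normal subgroup -/
theorem exists_not_inertia [Finite G] (hab : ∀ a ∈ N, ∀ b ∈ N, a * b = b * a) {z : G}
    (hz : ∃ n ∈ N, z * n ≠ n * z) : ∃ θ : N → ℂ, IsIrrCharacter N θ ∧ z ∉ inertia N θ := by
  by_contra hcon
  push Not at hcon
  obtain ⟨n, hn, hzn⟩ := hz
  apply hzn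
  have h1 : IsConj (⟨z * n * z⁻¹, hN.conj_mem n hn z⟩ : N) ⟨n, hn⟩ := by
    rw [isConj_iff_forall_irr]
    intro χ
    have h2 := congrFun (hcon χ.1 χ.2) ⟨n, hn⟩
    exact h2
  obtain ⟨c, hc⟩ := isConj_iff.1 h1
  have hc2 := congrArg Subtype.val hc
  simp only [Subgroup.coe_mul, Subgroup.coe_inv] at hc2
  rw [hab c c.2 _ (hN.conj_mem n hn z), mul_assoc, mul_inv_cancel, mul_one] at hc2
  exact mul_inv_eq_iff_eq_mul.1 hc2

theorem TwoDeg.comm_centralizer [Finite G] {m : ℕ} (h : TwoDeg m G) (hm : m ≠ 1)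
    (hcop : Nat.Coprime N.index (Nat.card N)) (hab : ∀ a ∈ N, ∀ b ∈ N, a * b = b * a)
    (hnil : Group.IsNilpotent (G ⧸ N)) : ∀ a b : G, a * b * a⁻¹ * b⁻¹ ∈ centralizer (N : Set G) := by
  classical
  letI := Fintype.ofFinite G
  by_contra hcon
  set C := centralizer (N : Set G) with hC
  have hNC : N ≤ C := by
    intro x hx
    rw [hC, Subgroup.mem_centralizer_iff]
    intro y hy
    exact hab y hy x hx
  haveI : C.Normal := inferInstance
  haveI : Group.IsNilpotent (G ⧸ C) := by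
    refine Group.nilpotent_of_surjective (QuotientGroup.map N C (MonoidHom.id G) hNC) ?_
    intro q
    obtain ⟨g, rfl⟩ := QuotientGroup.mk_surjective q
    exact ⟨QuotientGroup.mk g, rfl⟩
  -- a nonlinear character of `G/C`
  have h1 : ∃ χ : G ⧸ C → ℂ, IsIrrCharacter (G ⧸ C) χ ∧ χ 1 ≠ 1 := by
    by_contra h'
    push Not at h'
    apply hcon
    intro a b
    have h2 := comm_of_forall_irr_linear h' (QuotientGroup.mk a) (QuotientGroup.mk b)
    rw [← QuotientGroup.eq_one_iff, QuotientGroup.mk_mul, QuotientGroup.mk_mul, QuotientGroup.mk_mul, h2,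
      QuotientGroup.mk_inv, QuotientGroup.mk_inv]
    group
  obtain ⟨χ', hχ', hχ'1⟩ := h1
  haveI : Nontrivial (G ⧸ C) := by
    by_contra hnt
    rw [not_nontrivial_iff_subsingleton] at hnt
    exact hχ'1 (hχ'.one_eq_one_of_comm (fun a b => Subsingleton.elim _ _))
  obtain ⟨z', -, hz'c, hz'1⟩ := Cores.exists_mem_center_of_normal (G := G ⧸ C) (K := ⊤) inferInstance top_ne_bot
  obtain ⟨z, rfl⟩ := QuotientGroup.mk_surjective z'
  have hzC : z ∉ C := fun h' => hz'1 ((QuotientGroup.eq_one_iff z).2 h')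
  have hzc : ∀ x : G, z⁻¹ * (x⁻¹ * z * x) ∈ C := by
    intro x
    rw [← QuotientGroup.eq_one_iff, QuotientGroup.mk_mul, QuotientGroup.mk_mul, QuotientGroup.mk_mul,
      QuotientGroup.mk_inv, QuotientGroup.mk_inv, mul_assoc (QuotientGroup.mk x)⁻¹,
      ← (Subgroup.mem_center_iff.1 hz'c) (QuotientGroup.mk x)]
    group
  have hχ := hχ'.inflate C
  set χ : G → ℂ := fun g => χ' (QuotientGroup.mk g) with hχdef
  have hχm : χ 1 = m := by
    rcases h χ hχ with h2 | h2
    · exact absurd h2 hχ'1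
    · exact h2
  have hχC : ∀ c ∈ C, χ c = χ 1 := by
    intro c hc
    show χ' (QuotientGroup.mk c) = χ' (QuotientGroup.mk 1)
    rw [(QuotientGroup.eq_one_iff c).2 hc]; rfl
  have hχz : χ z ≠ 0 := by
    intro h0
    have h2 := GalConj.norm_center hχ' hz'c
    have h3 : χ' (QuotientGroup.mk z) = 0 := h0
    rw [h3, zero_mul] at h2
    exact mul_ne_zero hχ'.one_ne_zero hχ'.one_ne_zero h2.symm
  -- the inertia subgroup
  obtain ⟨θ, hθ, hzθ⟩ := exists_not_inertia hab (z := z) (by
    by_contra h'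
    push Not at h'
    apply hzC
    rw [hC, Subgroup.mem_centralizer_iff]
    intro n hn
    exact (h' n hn).symm)
  have hθ1 : θ 1 = 1 := hθ.one_eq_one_of_comm (fun a b => Subtype.ext (hab a a.2 b b.2))
  obtain ⟨hidx, hTab⟩ := h.inertia_index hm hcop hθ hθ1 (fun h' => hzθ (h' ▸ Subgroup.mem_top z))
  set T := inertia N θ with hT
  have hNT : N ≤ T := le_inertia hθ.isClassFunction
  have hCT : C ≤ T := by
    intro c hc
    show cj N c θ = θ
    funext n
    rw [cj_apply]
    congr 1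
    apply Subtype.ext
    show c * (n : G) * c⁻¹ = n
    rw [← (Subgroup.mem_centralizer_iff.1 hc) n n.2]; group
  letI := Fintype.ofFinite T
  obtain ⟨ν, hν, hνχ⟩ := (hχ.isCharacter.restrict T).exists_constituent (by
    intro h0
    exact hχ.one_ne_zero (congrFun h0 1))
  have hν1 : ν 1 = 1 := by
    have hνN : ∀ n ∈ N.subgroupOf T, ν n = ν 1 := by
      intro n hn
      exact Garrison.ker_constituent (hχ.isCharacter.restrict T) hν hνχ (hχC _ (hNC hn))
    obtain ⟨ν', hν', hνν'⟩ := hν.deflate (N.subgroupOf T) hνN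
    rw [← hνν' 1]
    apply hν'.one_eq_one_of_comm
    intro a b
    obtain ⟨a, rfl⟩ := QuotientGroup.mk_surjective a
    obtain ⟨b, rfl⟩ := QuotientGroup.mk_surjective b
    rw [← QuotientGroup.mk_mul, ← QuotientGroup.mk_mul, QuotientGroup.eq]
    show ((a * b)⁻¹ * (b * a) : G) ∈ N
    have h2 := hTab (b⁻¹ : T) (b⁻¹ : T).2 (a⁻¹ : T) (a⁻¹ : T).2
    convert h2 using 1
    simp only [Subgroup.coe_inv, Subgroup.coe_mul]
    group
  have hindχ : indFun T ν = χ := by
    have hc : classInner (indFun T ν) χ ≠ 0 := by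
      rw [IndFun.frobenius_reciprocity T _ _ hχ.isClassFunction]
      intro h2
      apply hνχ
      rw [← conj_classInner, h2, map_zero]
    have hsub := (IsCharacter.indFun T hν.isCharacter).sub_constituent hχ hc
    funext x
    have := Garrison.zero_of_deg hsub (by
      rw [Pi.sub_apply, IndFun.indFun_one, hν1, hidx, hχm, mul_one, sub_self]
      simp) x
    rw [Pi.sub_apply] at this
    exact sub_eq_zero.1 this
  have h3 : ∃ x : G, x⁻¹ * z * x ∈ T := by
    by_contra h'
    push Not at h'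
    apply hχz
    rw [← hindχ]
    exact IndFun.indFun_eq_zero T ν z h'
  obtain ⟨x, hx⟩ := h3
  apply hzθ
  have h4 : z = (x⁻¹ * z * x) * (z⁻¹ * (x⁻¹ * z * x))⁻¹ := by group
  rw [h4]
  exact T.mul_mem hx (T.inv_mem (hCT (hzc x)))

/-- the group of linear characters -/
def Lam (N : Subgroup G) : Type u := N →* ℂˣ

noncomputable instance : CommGroup (Lam N) := inferInstanceAs (CommGroup (N →* ℂˣ))

/-- the underlying homomorphism -/
def Lam.hom (a : Lam N) : N →* ℂˣ := a

/-- evaluation -/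
noncomputable def ev (n : N) : Lam N →* ℂˣ where
  toFun a := a.hom n
  map_one' := rfl
  map_mul' _ _ := rfl

theorem lam_ext {a b : Lam N} (h : ∀ n : N, ev n a = ev n b) : a = b :=
  MonoidHom.ext h

theorem ev_mul (n n' : N) (a : Lam N) : ev (n * n') a = ev n a * ev n' a := a.hom.map_mul n n'
theorem ev_one (a : Lam N) : ev 1 a = 1 := a.hom.map_one
theorem ev_pow (n : N) (k : ℕ) (a : Lam N) : ev (n ^ k) a = ev n a ^ k := a.hom.map_pow n k

/-- the underlying complex function -/
noncomputable def cf (a : Lam N) : N → ℂ := fun n => ((ev n a : ℂˣ) : ℂ)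

theorem cf_irr [Finite G] (a : Lam N) : IsIrrCharacter N (cf a) := isIrrCharacter_of_unitsHom a.hom

theorem cf_one (a : Lam N) : cf a 1 = 1 := by
  unfold cf; rw [ev_one, Units.val_one]

theorem exists_cf [Finite G] {θ : N → ℂ} (hθ : IsIrrCharacter N θ) (h1 : θ 1 = 1) : ∃ a : Lam N, θ = cf a := by
  obtain ⟨f, hf⟩ := hθ.isCharacter.exists_hom h1
  exact ⟨f, funext hf⟩

/-- the conjugation action on linear characters -/
noncomputable def act (g : G) : Lam N →* Lam N where
  toFun a := a.hom.comp (MulAut.conjNormal g : N ≃* N).toMonoidHom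
  map_one' := rfl
  map_mul' _ _ := rfl

theorem ev_act (g : G) (a : Lam N) (n : N) :
    ev n (act g a) = ev (⟨g * n * g⁻¹, hN.conj_mem n n.2 g⟩ : N) a := by
  show a.hom (MulAut.conjNormal g n) = a.hom _
  congr 1

theorem act_act (g h : G) (a : Lam N) : act g (act h a) = act (h * g) a := by
  apply lam_ext
  intro n
  rw [ev_act, ev_act, ev_act]
  congr 3
  group

theorem act_of_comm {g : G} (h : ∀ n ∈ N, g * n = n * g) (a : Lam N) : act g a = a := by
  apply lam_ext
  intro n
  rw [ev_act]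
  congr 2
  apply Subtype.ext
  show g * (n : G) * g⁻¹ = n
  rw [h n n.2]; group

theorem mem_inertia_act {g : G} {a : Lam N} : g ∈ inertia N (cf a) ↔ act g a = a := by
  constructor
  · intro h
    apply lam_ext
    intro n
    have := congrFun h n
    rw [ev_act]
    exact Units.ext this
  · intro h
    show cj N g _ = _
    funext n
    have := congrArg (fun f : Lam N => ((ev n f : ℂˣ) : ℂ)) h
    simp only [ev_act] at this
    exact this

theorem pow_card_lam [Finite G] (a : Lam N) : a ^ Nat.card N = 1 := by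
  apply lam_ext
  intro n
  have : n ^ Nat.card N = 1 := pow_card_eq_one'
  rw [map_pow, ← ev_pow, this, map_one, ev_one]

/-- cancel exponents prime to `|N|` -/
theorem pow_inj_lam [Finite G] {k : ℕ} (hk : Nat.Coprime k (Nat.card N)) {a b : Lam N}
    (h : a ^ k = b ^ k) : a = b := by
  have h1 : (a * b⁻¹) ^ k = 1 := by rw [mul_pow, h, ← mul_pow, mul_inv_cancel, one_pow]
  have h2 : orderOf (a * b⁻¹) ∣ 1 := by
    rw [← hk.gcd_eq_one]
    exact Nat.dvd_gcd (orderOf_dvd_of_pow_eq_one h1) (orderOf_dvd_of_pow_eq_one (pow_card_lam _))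
  have h3 : a * b⁻¹ = 1 := by rw [← orderOf_eq_one_iff]; exact Nat.dvd_one.1 h2
  exact mul_inv_eq_one.1 h3

theorem TwoDeg.inertia_le [Finite G] {m : ℕ} (h : TwoDeg m G) (hm : m ≠ 1)
    (hcop : Nat.Coprime N.index (Nat.card N)) (hab : ∀ a ∈ N, ∀ b ∈ N, a * b = b * a)
    (hGC : ∀ a b : G, a * b * a⁻¹ * b⁻¹ ∈ centralizer (N : Set G)) (lam : Lam N)
    (hne : inertia N (cf lam) ≠ ⊤) :
    inertia N (cf lam) ≤ centralizer (N : Set G) := by
  classical
  letI := Fintype.ofFinite G
  set C := centralizer (N : Set G) with hC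
  set T := inertia N (cf lam) with hT
  have hCact : ∀ c ∈ C, ∀ a : Lam N, act c a = a := fun c hc a =>
    act_of_comm (fun n hn => (Subgroup.mem_centralizer_iff.1 hc n hn).symm) a
  have hNC : N ≤ C := by
    intro x hx
    rw [hC, Subgroup.mem_centralizer_iff]
    intro y hy
    exact hab y hy x hx
  obtain ⟨H, hH⟩ := Subgroup.exists_right_complement'_of_coprime hcop.symm
  have hdis : Disjoint N H := hH.disjoint
  have hsup : N ⊔ H = ⊤ := hH.sup_eq_top
  set Q := T ⊓ H with hQ
  have hCT : C ≤ T := fun c hc => mem_inertia_act.2 (hCact c hc lam)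
  -- `T` is normal
  have hTn : ∀ t ∈ T, ∀ g : G, g * t * g⁻¹ ∈ T := by
    intro t ht g
    have : g * t * g⁻¹ = (g * t * g⁻¹ * t⁻¹) * t := by group
    rw [this]
    exact T.mul_mem (hCT (hGC g t)) ht
  have hQn : ∀ x ∈ Q, ∀ g ∈ H, g * x * g⁻¹ ∈ Q := fun x hx g hg =>
    ⟨hTn x hx.1 g, H.mul_mem (H.mul_mem hg hx.2) (H.inv_mem hg)⟩
  have hQc : Nat.Coprime (Nat.card Q) (Nat.card N) := by
    have h1 : Nat.card H = N.index := hH.symm.index_eq_card.symm
    have h2 : Nat.card Q ∣ N.index := by rw [← h1]; exact Subgroup.card_dvd_of_le inf_le_right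
    exact hcop.coprime_dvd_left h2
  -- the norm
  let nu : Lam N →* Lam N := ∏ x : Q, act (x : G)
  have hnua : ∀ a, nu a = ∏ x : Q, act (x : G) a := fun a => MonoidHom.finset_prod_apply _ _ _
  have hnufix : ∀ a, (∀ x ∈ Q, act x a = a) → nu a = a ^ Nat.card Q := by
    intro a ha
    have h1 : ∀ x : Q, act (x : G) a = a := fun x => ha x x.2
    rw [hnua]
    simp only [h1, Finset.prod_const, Finset.card_univ, Nat.card_eq_fintype_card]
  have hnuact : ∀ a, ∀ g ∈ H, act g (nu a) = nu (act g a) := by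
    intro a g hg
    simp only [hnua, map_prod, act_act]
    let e : Q ≃ Q :=
      { toFun := fun x => ⟨g⁻¹ * x * g, by
          have := hQn x x.2 g⁻¹ (H.inv_mem hg)
          rwa [inv_inv] at this⟩
        invFun := fun x => ⟨g * x * g⁻¹, hQn x x.2 g hg⟩
        left_inv := fun x => by ext; simp [mul_assoc]
        right_inv := fun x => by ext; simp [mul_assoc] }
    refine Fintype.prod_equiv e _ _ ?_
    intro x
    congr 1
    simp only [e, Equiv.coe_fn_mk]
    group
  have hnuQ : ∀ a, ∀ x ∈ Q, act x (nu a) = nu a := by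
    intro a x hx
    simp only [hnua, map_prod, act_act]
    refine Fintype.prod_equiv (Equiv.mulRight (⟨x, hx⟩ : Q)) _ _ ?_
    intro y
    simp
  -- suppose `t` in `T` does not centralize `N`
  intro t ht
  by_contra htC
  obtain ⟨θ, hθ, htθ⟩ := exists_not_inertia hab (z := t) (by
    by_contra h'
    push Not at h'
    apply htC
    rw [hC, Subgroup.mem_centralizer_iff]
    intro n hn
    exact (h' n hn).symm)
  have hθ1 : θ 1 = 1 := hθ.one_eq_one_of_comm (fun a b => Subtype.ext (hab a a.2 b b.2))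
  obtain ⟨mu, rfl⟩ := exists_cf hθ hθ1
  have hTmu : t ∉ inertia N (cf mu) := htθ
  rw [mem_inertia_act] at hTmu
  set k := Nat.card Q with hk
  set mu2 := mu ^ k * (nu mu)⁻¹ with hmu2
  have hnu2 : nu mu2 = 1 := by
    rw [hmu2, map_mul, map_pow, map_inv, hnufix (nu mu) (hnuQ mu), mul_inv_cancel]
  set kap := lam * mu2 with hkap
  have hlamQ : ∀ x ∈ Q, act x lam = lam := fun x hx => mem_inertia_act.1 hx.1
  have hsub : inertia N (cf kap) ≤ T := by
    intro g hg
    rw [mem_inertia_act] at hg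
    have hgs : g ∈ N ⊔ H := by rw [hsup]; trivial
    obtain ⟨n, hn, y, hy, rfl⟩ := Subgroup.mem_sup_of_normal_left.1 hgs
    have h1 : act y kap = kap := by
      rw [← act_act, hCact n (hNC hn)] at hg
      exact hg
    have h2 : act y (nu kap) = nu kap := by rw [hnuact kap y hy, h1]
    rw [hkap, map_mul, hnu2, mul_one, hnufix lam hlamQ, map_pow] at h2
    have h3 := pow_inj_lam hQc h2
    exact T.mul_mem (hCT (hNC hn)) (mem_inertia_act.2 h3)
  have hkne : inertia N (cf kap) ≠ ⊤ := by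
    intro h'
    apply hne
    rw [eq_top_iff, ← h']
    exact hsub
  have hi1 := (h.inertia_index hm hcop (cf_irr kap) (cf_one kap) hkne).1
  have hi2 := (h.inertia_index hm hcop (cf_irr lam) (cf_one lam) hne).1
  have heq : inertia N (cf kap) = T := by
    apply Subgroup.eq_of_le_of_card_ge hsub
    have h1 := (inertia N (cf kap)).card_mul_index
    have h2 := T.card_mul_index
    rw [hi1] at h1
    rw [hT, hi2] at h2
    have hm0 : 0 < m := by rw [← hi2]; exact Nat.pos_of_ne_zero (Subgroup.index_ne_zero_of_finite)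
    rw [← h2] at h1
    exact (Nat.eq_of_mul_eq_mul_right hm0 h1).ge
  have hmu2T : ∀ x ∈ T, act x mu2 = mu2 := by
    intro x hx
    have h1 : act x kap = kap := mem_inertia_act.1 (heq ▸ hx)
    have h2 : act x lam = lam := mem_inertia_act.1 hx
    rw [hkap, map_mul, h2] at h1
    exact mul_left_cancel h1
  have hmu21 : mu2 = 1 := by
    have h1 := hnufix mu2 (fun x hx => hmu2T x hx.1)
    rw [hnu2] at h1
    apply pow_inj_lam hQc
    rw [← h1, one_pow]
  have hmuk : mu ^ k = nu mu := by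
    rw [hmu2] at hmu21
    exact mul_inv_eq_one.1 hmu21
  have hmuQ : ∀ x ∈ Q, act x mu = mu := by
    intro x hx
    apply pow_inj_lam hQc
    rw [← map_pow, hmuk, hnuQ mu x hx]
  apply hTmu
  have hgs : t ∈ N ⊔ H := by rw [hsup]; trivial
  obtain ⟨n, hn, y, hy, rfl⟩ := Subgroup.mem_sup_of_normal_left.1 hgs
  have hyT : y ∈ T := by
    have : y = n⁻¹ * (n * y) := by group
    rw [this]
    exact T.mul_mem (T.inv_mem (hCT (hNC hn))) ht
  rw [← act_act, hCact n (hNC hn), hmuQ y ⟨hyT, hy⟩]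

end CaseB

/-- **Isaacs 12.5** -/
theorem TwoDeg.main [Finite G] {m : ℕ} (h : TwoDeg m G) (hm : m ≠ 1)
    (hex : ∃ χ : G → ℂ, IsIrrCharacter G χ ∧ χ 1 = (m : ℂ)) :
    (∃ A : Subgroup G, A.Normal ∧ (∀ a ∈ A, ∀ b ∈ A, a * b = b * a) ∧ A.index = m) ∨ Group.IsNilpotent G := by
  classical
  letI := Fintype.ofFinite G
  obtain ⟨N, hN, hcm, hi, hab, hnil⟩ := h.struct
  have hcop : Nat.Coprime N.index (Nat.card N) := by
    apply Nat.coprime_of_dvd
    intro q hq h1 h2
    have h3 := hi q hq h1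
    exact hq.one_lt.ne' (Nat.dvd_one.1 (hcm ▸ Nat.dvd_gcd h2 h3))
  by_cases hinv : ∃ lam : Lam N, inertia N (cf lam) ≠ ⊤
  · left
    obtain ⟨lam, hlam⟩ := hinv
    have hGC := h.comm_centralizer hm hcop hab hnil
    have hle := h.inertia_le hm hcop hab hGC lam hlam
    obtain ⟨hidx, hTab⟩ := h.inertia_index hm hcop (cf_irr lam) (cf_one lam) hlam
    set T := inertia N (cf lam) with hT
    have hCT : centralizer (N : Set G) ≤ T := fun c hc => mem_inertia_act.2
      (act_of_comm (fun n hn => (Subgroup.mem_centralizer_iff.1 hc n hn).symm) lam)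
    have hTC : T = centralizer (N : Set G) := le_antisymm hle hCT
    have hNT : N ≤ T := le_inertia (cf_irr lam).isClassFunction
    obtain ⟨H, hH⟩ := Subgroup.exists_right_complement'_of_coprime hcop.symm
    have hdis : Disjoint N H := hH.disjoint
    have hsup : N ⊔ H = ⊤ := hH.sup_eq_top
    refine ⟨T, by rw [hTC]; infer_instance, ?_, hidx⟩
    have hcen : ∀ x ∈ T, ∀ n ∈ N, n * x = x * n := by
      intro x hx n hn
      exact Subgroup.mem_centralizer_iff.1 (hle hx) n hn
    intro a ha b hb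
    obtain ⟨n, hn, y, hy, rfl⟩ := Subgroup.mem_sup_of_normal_left.1 (show a ∈ N ⊔ H by rw [hsup]; trivial)
    obtain ⟨n', hn', y', hy', rfl⟩ := Subgroup.mem_sup_of_normal_left.1 (show b ∈ N ⊔ H by rw [hsup]; trivial)
    have hyT : y ∈ T := by
      have : y = n⁻¹ * (n * y) := by group
      rw [this]
      exact T.mul_mem (T.inv_mem (hNT hn)) ha
    have hyT' : y' ∈ T := by
      have : y' = n'⁻¹ * (n' * y') := by group
      rw [this]
      exact T.mul_mem (T.inv_mem (hNT hn')) hb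
    have hyy : y * y' = y' * y := by
      have h1 := hTab y hyT y' hyT'
      have h2 : y * y' * y⁻¹ * y'⁻¹ ∈ H :=
        H.mul_mem (H.mul_mem (H.mul_mem hy hy') (H.inv_mem hy)) (H.inv_mem hy')
      have h3 : y * y' * y⁻¹ * y'⁻¹ = 1 := by
        have : y * y' * y⁻¹ * y'⁻¹ ∈ N ⊓ H := ⟨h1, h2⟩
        rw [hdis.eq_bot] at this
        exact this
      rw [mul_inv_eq_one, mul_inv_eq_iff_eq_mul] at h3
      exact h3
    calc n * y * (n' * y') = n * (y * n') * y' := by group
      _ = n * (n' * y) * y' := by rw [hcen y hyT n' hn']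
      _ = (n * n') * (y * y') := by group
      _ = (n' * n) * (y' * y) := by rw [hab n hn n' hn', hyy]
      _ = n' * (n * y') * y := by group
      _ = n' * (y' * n) * y := by rw [hcen y' hyT' n hn]
      _ = n' * y' * (n * y) := by group
  · right
    push Not at hinv
    have hNZ : N ≤ center G := by
      intro n hn
      rw [Subgroup.mem_center_iff]
      intro g
      by_contra hne
      obtain ⟨θ, hθ, hgθ⟩ := exists_not_inertia hab (z := g) ⟨n, hn, hne⟩
      have hθ1 : θ 1 = 1 := hθ.one_eq_one_of_comm (fun a b => Subtype.ext (hab a a.2 b b.2))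
      obtain ⟨mu, rfl⟩ := exists_cf hθ hθ1
      apply hgθ
      rw [hinv mu]
      trivial
    refine Subgroup.isNilpotent_of_ker_le_center (QuotientGroup.mk' N) ?_
    rw [QuotientGroup.ker_mk']
    exact hNZ

end Cfsg.Agent.Lib.TwoDeg
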