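import Mathlib
import Cfsg.Agent.Lib.TwoGenC
import Cfsg.Agent.S0118
import Cfsg.Agent.S0144
import Cfsg.Agent.S1950
import Cfsg.Agent.Lib.PLength
import Cfsg.Agent.Lib.PSolvTools

/-!
Groups all of whose two-generated subgroups are solvable, IV: the theorem (helper9, S0489).
-/

set_option autoImplicit false
set_option maxHeartbeats 400000
set_option linter.unusedSectionVars false

namespace Cfsg.Agent.Lib.TwoGenD

open Subgroup Cfsg Cfsg.Agent.Lib.SigCon Cfsg.Agent.Lib.RelSylow Cfsg.Agent.Lib.TwoGenB Cfsg.Agent.Lib.TwoGenC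
open scoped commutatorElement

universe u

section Pre

variable {G : Type u} [Group G] [Finite G] {p : ℕ} [hp : Fact p.Prime]

/-- a minimal counterexample, before the Sylow subgroups are known to be abelian. -/
structure Pre (p : ℕ) (G : Type u) [Group G] : Prop where
  simple : IsSimpleGroup G
  nsol : ¬ Group.IsSolvable G
  sol : ∀ H : Subgroup G, H ≠ ⊤ → Group.IsSolvable H
  five : 5 ≤ p
  dvd : p ∣ Nat.card G
  two : ∀ a b : G, Group.IsSolvable (closure ({a, b} : Set G))

theorem Pre.center_eq_bot (cx : Pre p G) : center G = ⊥ := by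
  have := cx.simple
  rcases (inferInstance : (center G).Normal).eq_bot_or_eq_top with h | h
  · exact h
  · exfalso
    apply cx.nsol
    apply Group.isSolvable_of_comm
    intro a b
    have ha : a ∈ center G := by rw [h]; exact mem_top _
    exact (mem_center_iff.1 ha b).symm

theorem Pre.not_involves (cx : Pre p G) : ¬ ∃ (H K : Subgroup G) (hK : (K.subgroupOf H).Normal),
    Nonempty ((H ⧸ K.subgroupOf H) ≃* Matrix.SpecialLinearGroup (Fin 2) (ZMod p)) := by
  rintro ⟨H, K, hK, ⟨e⟩⟩
  by_cases hH : H = ⊤
  · subst hH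
    set φ : G →* Matrix.SpecialLinearGroup (Fin 2) (ZMod p) :=
      (e.toMonoidHom.comp (QuotientGroup.mk' (K.subgroupOf ⊤))).comp (Subgroup.topEquiv (G := G)).symm.toMonoidHom
      with hφ
    have hsurj : Function.Surjective φ := by
      intro y
      obtain ⟨x, hx⟩ := QuotientGroup.mk'_surjective (K.subgroupOf ⊤) (e.symm y)
      refine ⟨(x : G), ?_⟩
      change e (QuotientGroup.mk' (K.subgroupOf ⊤) (Subgroup.topEquiv.symm (x : G))) = y
      have : (Subgroup.topEquiv (G := G)).symm (x : G) = x := rfl
      rw [this, hx]; simp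
    have := cx.simple
    rcases (inferInstance : φ.ker.Normal).eq_bot_or_eq_top with h | h
    · have hinj : Function.Injective φ := (MonoidHom.ker_eq_bot_iff φ).1 h
      obtain ⟨z, hz⟩ := hsurj (-1)
      have hzc : z ∈ center G := by
        rw [mem_center_iff]
        intro g
        apply hinj
        rw [map_mul, map_mul, hz]
        apply Matrix.SpecialLinearGroup.ext
        intro i j
        simp
      rw [cx.center_eq_bot, mem_bot] at hzc
      rw [hzc, map_one] at hz
      have h1 := congrArg (fun m : Matrix.SpecialLinearGroup (Fin 2) (ZMod p) => (m : Matrix (Fin 2) (Fin 2) (ZMod p)) 0 0) hz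
      have h2 : (1 : ZMod p) = -1 := by simpa using h1
      have h3 : ((2 : ℕ) : ZMod p) = 0 := by
        push_cast; linear_combination h2
      have h4 := (ZMod.natCast_eq_zero_iff 2 p).mp h3
      have h5 := Nat.le_of_dvd (by norm_num) h4
      have := cx.five
      omega
    · apply PAbA.not_solvable_SL2 cx.five
      apply Group.isSolvable_of_comm
      intro a b
      obtain ⟨x, rfl⟩ := hsurj a
      obtain ⟨y, rfl⟩ := hsurj b
      have hx : x ∈ φ.ker := by rw [h]; exact mem_top _
      rw [MonoidHom.mem_ker] at hx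
      rw [hx, one_mul, mul_one]
  · have hs := cx.sol H hH
    apply PAbA.not_solvable_SL2 cx.five
    have h1 : Group.IsSolvable (H ⧸ K.subgroupOf H) := Group.isSolvable_of_surjective (QuotientGroup.mk'_surjective _)
    exact Group.isSolvable_of_surjective (f := e.toMonoidHom) e.surjective

theorem Pre.sylow_comm (cx : Pre p G) (P : Sylow p G) : (P : Subgroup G) ≤ centralizer ((P : Subgroup G) : Set G) := by
  have hp2 : p ≠ 2 := by have := cx.five; omega
  by_cases hP1 : (P : Subgroup G) = ⊥
  · rw [hP1]; exact bot_le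
  set Z := centerThompsonOf p (P : Subgroup G) with hZ
  have hZ' : Z = ZJeThm.Zc p (P : Subgroup G) := ZJeThm.centerThompsonOf_eq _
  have hPnt : Nontrivial (P : Subgroup G) := (Subgroup.nontrivial_iff_ne_bot _).2 hP1
  have hZ1 : Z ≠ ⊥ := by
    intro h
    have h1 := (ZJeFunctor.WJ_isChar (p := p)).1 (P : Subgroup G) P.2 hPnt
    apply h1
    have h2 := ZJeFunctor.induced_WJ (p := p) (P : Subgroup G)
    rw [← hZ', h] at h2
    unfold Cfsg.inducedFunctor at h2
    rwa [map_eq_bot_iff_of_injective _ (P : Subgroup G).subtype_injective] at h2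
  have hZP : Z ≤ P := by rw [hZ']; exact ZJeThm.Zc_le _
  have hZab : Z ≤ centralizer (Z : Set G) := by rw [hZ']; exact ZJeThm.Zc_comm _
  have hcl : ∀ x ∈ Z, ∀ g : G, g * x * g⁻¹ ∈ (P : Subgroup G) → g * x * g⁻¹ ∈ Z := by
    intro x hx g hg
    obtain ⟨n, hn, hna⟩ := Cfsg.Agent.S0118.result hp2 cx.not_involves P {x} (by
        rintro y hy
        rw [Set.mem_singleton_iff] at hy
        subst hy
        exact hZP hx) g⁻¹ (by
      rintro _ ⟨a, ha, rfl⟩
      rw [Set.mem_singleton_iff] at ha
      subst ha
      have e : g⁻¹⁻¹ * a * g⁻¹ = g * a * g⁻¹ := by rw [inv_inv]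
      show g⁻¹⁻¹ * a * g⁻¹ ∈ (P : Subgroup G)
      rw [e]; exact hg)
    have h1 := hna x (Set.mem_singleton x)
    rw [inv_inv] at h1
    rw [← h1]
    exact (mem_normalizer_iff''.1 hn x).1 hx
  have := cx.simple
  have hPZ := TwoGenA.sylow_le_of_closed cx.five cx.two P hZP hZ1 hZab hcl
  exact (hPZ.trans hZab).trans (centralizer_le hPZ)

theorem Pre.abP (cx : Pre p G) : AbP p G := by
  intro S hS
  obtain ⟨P, hP⟩ := hS.exists_le_sylow
  exact (hP.trans (cx.sylow_comm P)).trans (centralizer_le hP)

theorem Pre.cx (cx : Pre p G) : Cx p G where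
  simple := cx.simple
  nsol := cx.nsol
  sol := cx.sol
  five := cx.five
  dvd := cx.dvd
  two := cx.two
  ab := cx.abP

theorem Pre.not_isPSolvable (cx : Pre p G) : ¬ IsPSolvable p G := by
  intro h
  have := cx.simple
  obtain ⟨M, hM, hlt, hor⟩ := PSolvTools.exists_step h (⊥ : Subgroup G) bot_ne_top
  have hMt : M = ⊤ := by
    rcases hM.eq_bot_or_eq_top with h | h
    · exact absurd h hlt.ne'
    · exact h
  rw [hMt, relIndex_bot_left, card_top] at hor
  rcases hor with ⟨k, hk⟩ | hc
  · have h1 : IsPGroup p G := by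
      obtain ⟨j, -, hj⟩ := (Nat.dvd_prime_pow hp.out).1 hk
      exact IsPGroup.of_card hj
    have := h1.isNilpotent
    exact cx.nsol inferInstance
  · rw [Nat.coprime_comm, Nat.Prime.coprime_iff_not_dvd hp.out] at hc
    exact hc cx.dvd

theorem Pre.false (cx : Pre p G) : False := by
  classical
  obtain ⟨P⟩ : Nonempty (Sylow p G) := inferInstance
  by_cases hcyc : IsCyclic (P : Subgroup G)
  · apply cx.not_isPSolvable
    rw [Cfsg.Agent.S1950.result P hcyc]
    intro x y _ _
    have := cx.two x y
    exact PLength.isPSolvable_of_isSolvable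
  · have hab : IsMulCommutative (P : Subgroup G) := by
      rw [← le_centralizer_iff_isMulCommutative]
      exact cx.sylow_comm P
    obtain ⟨r, x, y, hr, hx, hy, hx1, hxr, hyr, hyx⟩ := CoprimeGen.exists_rank_two hab hcyc
    have hrp : r = p := by
      have h1 : orderOf x = r := by
        have : Fact r.Prime := ⟨hr⟩
        exact orderOf_eq_prime hxr hx1
      obtain ⟨k, hk⟩ := P.2 ⟨x, hx⟩
      have hk' : x ^ p ^ k = 1 := by simpa using congrArg Subtype.val hk
      have h2 : r ∣ p ^ k := by rw [← h1]; exact orderOf_dvd_of_pow_eq_one hk'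
      exact (Nat.prime_dvd_prime_iff_eq hr hp.out).1 (hr.dvd_of_dvd_pow h2)
    subst hrp
    exact cx.cx.false_of_rk (isSyl_top_iff P) ⟨hx, hy, hx1, hxr, hyr, hyx⟩

end Pre

theorem exists_prime_ge_five {n : ℕ} (hn : n ≠ 0) (h : ¬ ∃ a b : ℕ, n = 2 ^ a * 3 ^ b) :
    ∃ p : ℕ, p.Prime ∧ 5 ≤ p ∧ p ∣ n := by
  by_contra hcon
  push Not at hcon
  apply h
  obtain ⟨a, m, hm, rfl⟩ := Nat.exists_eq_pow_mul_and_not_dvd hn 2 (by norm_num)
  have hm0 : m ≠ 0 := by rintro rfl; simp at hn
  obtain ⟨b, k, hk, rfl⟩ := Nat.exists_eq_pow_mul_and_not_dvd hm0 3 (by norm_num)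
  have hk1 : k = 1 := by
    by_contra hk1
    obtain ⟨q, hq, hqk⟩ := Nat.exists_prime_and_dvd hk1
    have h1 : q ∣ 2 ^ a * (3 ^ b * k) := (hqk.mul_left _).mul_left _
    have h2 : q < 5 := by
      by_contra h5
      exact hcon q hq (not_lt.1 h5) h1
    have h3 := hq.two_le
    interval_cases q
    · exact hm (hqk.mul_left _)
    · exact hk hqk
    · exact absurd hq (by norm_num)
  exact ⟨a, b, by rw [hk1, mul_one]⟩

theorem main_aux (n : ℕ) : ∀ (G : Type u) [Group G] [Finite G], Nat.card G ≤ n →
    (∀ a b : G, Group.IsSolvable (closure ({a, b} : Set G))) → Group.IsSolvable G := by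
  induction n with
  | zero =>
    intro G _ _ hn _
    have := Nat.card_pos (α := G)
    omega
  | succ n ih =>
    intro G _ _ hn h2
    by_contra hns
    have hsol : ∀ H : Subgroup G, H ≠ ⊤ → Group.IsSolvable H := by
      intro H hH
      apply ih
      · have h1 : Nat.card H < Nat.card G := by
          have := Subgroup.card_le_card_group H
          rcases this.lt_or_eq with h | h
          · exact h
          · exact absurd (Subgroup.eq_top_of_card_eq H h) hH
        omega
      · intro a b
        have h1 : (closure ({a, b} : Set H)).map H.subtype = closure ({(a : G), (b : G)} : Set G) := by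
          rw [MonoidHom.map_closure, Set.image_pair]; rfl
        have h3 : Group.IsSolvable ((closure ({a, b} : Set H)).map H.subtype) := by
          rw [h1]; exact h2 _ _
        exact Group.isSolvable_of_isSolvable_injective
          (f := ((closure ({a, b} : Set H)).equivMapOfInjective _ H.subtype_injective).toMonoidHom)
          ((closure ({a, b} : Set H)).equivMapOfInjective _ H.subtype_injective).injective
    have hnt : Nontrivial G := by
      by_contra hnt
      rw [not_nontrivial_iff_subsingleton] at hnt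
      exact hns inferInstance
    have hsimple : IsSimpleGroup G := by
      refine ⟨fun N hN => ?_⟩
      by_contra hcon
      push Not at hcon
      apply hns
      have h1 : Group.IsSolvable N := hsol N hcon.2
      rw [Group.isSolvable_iff_subgroup_quotient N]
      refine ⟨h1, ?_⟩
      apply ih
      · have h3 : Nat.card N * Nat.card (G ⧸ N) = Nat.card G := by
          rw [mul_comm, ← Subgroup.card_eq_card_quotient_mul_card_subgroup]
        have h4 : 1 < Nat.card N := by
          rw [← Subgroup.nontrivial_iff_ne_bot] at hcon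
          exact Finite.one_lt_card_iff_nontrivial.2 hcon.1
        have h5 : 0 < Nat.card (G ⧸ N) := Nat.card_pos
        nlinarith
      · intro a b
        obtain ⟨x, rfl⟩ := QuotientGroup.mk'_surjective N a
        obtain ⟨y, rfl⟩ := QuotientGroup.mk'_surjective N b
        have h3 : (closure ({x, y} : Set G)).map (QuotientGroup.mk' N) =
            closure ({QuotientGroup.mk' N x, QuotientGroup.mk' N y} : Set (G ⧸ N)) := by
          rw [MonoidHom.map_closure, Set.image_pair]
        rw [← h3]
        have := h2 x y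
        exact Group.isSolvable_of_surjective (f := (QuotientGroup.mk' N).subgroupMap (closure ({x, y} : Set G)))
          ((QuotientGroup.mk' N).subgroupMap_surjective _)
    obtain ⟨p, hp, hp5, hpd⟩ := exists_prime_ge_five (n := Nat.card G) Nat.card_pos.ne' (by
      rintro ⟨a, b, hab⟩
      exact hns (Cfsg.Agent.S0144.result 2 3 a b Nat.prime_two Nat.prime_three hab))
    have : Fact p.Prime := ⟨hp⟩
    exact (Pre.false (p := p) (G := G) ⟨hsimple, hns, hsol, hp5, hpd, h2⟩)

end Cfsg.Agent.Lib.TwoGenD
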