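import Mathlib

set_option autoImplicit false
set_option linter.all false
open scoped Pointwise

namespace Cfsg.Agent.Lib.TwoMaxT1h2

theorem conj_conj {G : Type*} [Group G] (a b : G) (K : Subgroup G) :
    MulAut.conj a • (MulAut.conj b • K) = MulAut.conj (a * b) • K := by
  rw [smul_smul, map_mul]

theorem card_conj {G : Type*} [Group G] (a : G) (K : Subgroup G) :
    Nat.card ↥(MulAut.conj a • K) = Nat.card K :=
  (Nat.card_congr (Subgroup.equivSMul (MulAut.conj a) K).toEquiv).symm

/-- T1 (claim) -/
theorem claim {G : Type*} [Group G] [Finite G] [IsSimpleGroup G] (hns : ¬ IsSolvable G) {K L : Subgroup G}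
    (hall : ∀ M : Subgroup G, IsCoatom M → ∃ g : G, M = MulAut.conj g • K ∨ M = MulAut.conj g • L)
    {p : ℕ} [Fact p.Prime] {X : Subgroup G} (hX : IsPGroup p X) (hXK : ¬ Nat.card X ∣ Nat.card K)
    {A B : Subgroup G} (hA : IsCoatom A) (hB : IsCoatom B) (hXA : X ≤ A) (hXB : X ≤ B) : A = B := by
  induction hm : Nat.card G - Nat.card X using Nat.strong_induction_on generalizing X A B with
  | _ m ih =>
  have hconjL : ∀ {Y C : Subgroup G}, ¬ Nat.card Y ∣ Nat.card K → Y ≤ C → IsCoatom C →
      ∃ g : G, C = MulAut.conj g • L := by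
    intro Y C hY hYC hC
    obtain ⟨g, h | h⟩ := hall C hC
    · exact absurd (by rw [← card_conj g K, ← h]; exact Subgroup.card_dvd_of_le hYC) hY
    · exact ⟨g, h⟩
  have hXb : X ≠ ⊥ := by
    rintro rfl
    apply hXK
    rw [Subgroup.card_bot]; exact one_dvd _
  have hpg : ¬ IsPGroup p G := by
    intro h
    have := h.isNilpotent
    have h2 : Group.IsSolvable G := inferInstance
    exact hns h2
  have hNX : Subgroup.normalizer (X : Set G) ≠ ⊤ := by
    intro h
    have hn : X.Normal := Subgroup.normalizer_eq_top_iff.1 h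
    rcases hn.eq_bot_or_eq_top with h1 | h1
    · exact hXb h1
    · apply hpg
      subst h1
      exact hX.of_equiv Subgroup.topEquiv
  obtain ⟨N, hN, hNXN⟩ := (eq_top_or_exists_le_coatom (Subgroup.normalizer (X : Set G))).resolve_left hNX
  have hXN : X ≤ N := Subgroup.le_normalizer.trans hNXN
  suffices key : ∀ A : Subgroup G, IsCoatom A → X ≤ A → A = N by
    rw [key A hA hXA, key B hB hXB]
  clear hA hB hXA hXB A B
  intro A hA hXA
  obtain ⟨PA, hPA⟩ := (hX.comap_of_injective A.subtype A.subtype_injective).exists_le_sylow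
  set PA' : Subgroup G := (PA : Subgroup A).map A.subtype with hPA'
  have hXP : X ≤ PA' := by
    intro x hx
    exact ⟨⟨x, hXA hx⟩, hPA hx, rfl⟩
  have hPAA : PA' ≤ A := Subgroup.map_subtype_le _
  have hPp : IsPGroup p PA' := PA.isPGroup'.map _
  have hcPA : Nat.card PA' = Nat.card PA := Subgroup.card_map_of_injective A.subtype_injective
  by_cases hXe : X = PA'
  · -- X is a Sylow subgroup of A
    obtain ⟨P, hP⟩ := hX.exists_le_sylow
    have hPt : (P : Subgroup G) ≠ ⊤ := by
      intro h
      apply hpg
      have := P.isPGroup'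
      rw [h] at this
      exact this.of_equiv Subgroup.topEquiv
    obtain ⟨C, hC, hPC⟩ := (eq_top_or_exists_le_coatom (P : Subgroup G)).resolve_left hPt
    obtain ⟨c, hc⟩ := hconjL hXK (hP.trans hPC) hC
    obtain ⟨a, ha⟩ := hconjL hXK hXA hA
    obtain ⟨n, hn⟩ := hconjL hXK hXN hN
    have hCA : Nat.card C = Nat.card A := by rw [hc, ha, card_conj, card_conj]
    have h1 : Nat.card P ∣ Nat.card A := hCA ▸ Subgroup.card_dvd_of_le hPC
    have h2 : Nat.card P ∣ Nat.card X := by
      rw [hXe, hcPA]
      obtain ⟨k, hk⟩ := IsPGroup.iff_card.1 P.isPGroup'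
      rw [hk] at h1 ⊢
      exact PA.pow_dvd_card_of_pow_dvd_card h1
    have h3 : X = (P : Subgroup G) :=
      Subgroup.eq_of_le_of_card_ge hP (Nat.le_of_dvd Nat.card_pos h2)
    -- A = conj g • N
    have hg : A = MulAut.conj (a * n⁻¹) • N := by
      rw [ha, hn, conj_conj, inv_mul_cancel_right]
    set g := a * n⁻¹ with hgdef
    have h4 : ((g • P : Sylow p G) : Subgroup G) ≤ A := by
      rw [Sylow.coe_subgroup_smul, ← h3, hg]
      exact Subgroup.pointwise_smul_le_pointwise_smul_iff.2 hXN
    have h5 : ((P : Sylow p G) : Subgroup G) ≤ A := h3 ▸ hXA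
    obtain ⟨x, hx⟩ := MulAction.exists_smul_eq A ((g • P : Sylow p G).subtype h4) (P.subtype h5)
    rw [Sylow.smul_subtype] at hx
    have h6 := Sylow.subtype_injective hx
    have h7 : MulAut.conj ((x : G) * g) • X = X := by
      rw [h3, ← conj_conj, ← Sylow.coe_subgroup_smul, ← Sylow.coe_subgroup_smul]
      exact congrArg _ h6
    have h8 : (x : G) * g ∈ N := by
      apply hNXN
      rw [Subgroup.mem_normalizer_iff]
      intro h
      constructor
      · intro hh
        have : MulAut.conj ((x : G) * g) h ∈ MulAut.conj ((x : G) * g) • X := Subgroup.smul_mem_pointwise_smul _ _ _ hh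
        rw [h7] at this
        exact this
      · intro hh
        have hh' : MulAut.conj ((x : G) * g) • h ∈ MulAut.conj ((x : G) * g) • X := by
          rw [h7]; exact hh
        exact Subgroup.smul_mem_pointwise_smul_iff.1 hh'
    have h9 : MulAut.conj ((x : G) * g) • N = N := Subgroup.conj_smul_eq_self_of_mem h8
    have h10 : MulAut.conj (x : G) • A = A := Subgroup.conj_smul_eq_self_of_mem x.2
    rw [← h9, ← conj_conj, ← hg, h10]
  · have hlt : X < PA' := lt_of_le_of_ne hXP hXe
    have hnil : Group.IsNilpotent PA' := hPp.isNilpotent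
    have hnc := Group.normalizerCondition_of_isNilpotent (G := PA')
    have h1 : X.subgroupOf PA' < Subgroup.normalizer ((X.subgroupOf PA' : Subgroup PA') : Set PA') := by
      apply hnc
      rw [lt_top_iff_ne_top]
      intro h
      exact hXe (le_antisymm hXP (Subgroup.subgroupOf_eq_top.1 h))
    set W := Subgroup.normalizer ((X.subgroupOf PA' : Subgroup PA') : Set PA') with hW
    set X1 : Subgroup G := W.map PA'.subtype with hX1
    have hXe2 : (X.subgroupOf PA').map PA'.subtype = X := Subgroup.map_subgroupOf_eq_of_le hXP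
    have h2 : X < X1 := by
      conv_lhs => rw [← hXe2]
      exact (Subgroup.map_lt_map_iff_of_injective PA'.subtype_injective).2 h1
    have hX1p : IsPGroup p X1 := hPp.to_le (Subgroup.map_subtype_le _)
    have hX1A : X1 ≤ A := (Subgroup.map_subtype_le _).trans hPAA
    have hX1N : X1 ≤ N := by
      refine le_trans ?_ hNXN
      rintro _ ⟨w, hw, rfl⟩
      rw [Subgroup.mem_normalizer_iff]
      intro h
      have hw' := Subgroup.mem_normalizer_iff.1 hw
      constructor
      · intro hh
        exact (hw' ⟨h, hXP hh⟩).1 hh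
      · intro hh
        have h3 : h ∈ PA' := by
          have h4 := hXP hh
          have h5 := PA'.mul_mem (PA'.mul_mem (PA'.inv_mem w.2) h4) w.2
          have h6 : (w : G)⁻¹ * (PA'.subtype w * h * (PA'.subtype w)⁻¹) * w = h := by
            simp [mul_assoc]
          rwa [h6] at h5
        exact (hw' ⟨h, h3⟩).2 hh
    have hcard : Nat.card X < Nat.card X1 := by
      have h3 := Subgroup.card_le_of_le h2.le
      refine lt_of_le_of_ne h3 fun h4 => h2.ne (Subgroup.eq_of_le_of_card_ge h2.le h4.ge)
    have hX1K : ¬ Nat.card X1 ∣ Nat.card K := fun h => hXK ((Subgroup.card_dvd_of_le h2.le).trans h)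
    have hle : Nat.card X1 ≤ Nat.card G := Subgroup.card_le_card_group X1
    exact ih (Nat.card G - Nat.card X1) (by omega) hX1p hX1K hA hN hX1A hX1N rfl

end Cfsg.Agent.Lib.TwoMaxT1h2
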