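import Mathlib

set_option autoImplicit false
set_option linter.all false
open scoped Pointwise

namespace Cfsg.Agent.Lib.TwoMaxB11

theorem t2_orb {P Ω : Type*} [Group P] [Finite P] [Finite Ω] [MulAction P Ω] (m : ℕ) (w0 : Ω)
    (h0 : ∀ x : P, x • w0 = w0)
    (h : ∀ w, w ≠ w0 → m ∣ Nat.card (MulAction.orbit P w)) : m ∣ Nat.card Ω - 1 := by
  classical
  let _ : Fintype (MulAction.orbitRel.Quotient P Ω) := Fintype.ofFinite _
  have hc : Nat.card Ω = ∑ q : MulAction.orbitRel.Quotient P Ω, Nat.card (MulAction.orbit P q.out) := by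
    rw [← Nat.card_sigma]
    exact Nat.card_congr (MulAction.selfEquivSigmaOrbits P Ω)
  set q0 : MulAction.orbitRel.Quotient P Ω := Quotient.mk'' w0 with hq0
  have hout : q0.out = w0 := by
    have h1 : (Quotient.mk'' q0.out : MulAction.orbitRel.Quotient P Ω) = Quotient.mk'' w0 := by
      rw [Quotient.out_eq']
    have h2 := Quotient.exact' h1
    obtain ⟨x, hx⟩ := h2
    rw [← hx]
    exact h0 x
  have hone : Nat.card (MulAction.orbit P q0.out) = 1 := by
    rw [hout]
    rw [Nat.card_eq_one_iff_unique]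
    refine ⟨⟨?_⟩, ⟨⟨w0, MulAction.mem_orbit_self w0⟩⟩⟩
    rintro ⟨a, x, rfl⟩ ⟨b, y, rfl⟩
    apply Subtype.ext
    show x • w0 = y • w0
    rw [h0, h0]
  rw [hc, ← Finset.add_sum_erase Finset.univ _ (Finset.mem_univ q0), hone, Nat.add_sub_cancel_left]
  apply Finset.dvd_sum
  intro q hq
  apply h
  intro hw
  apply (Finset.mem_erase.1 hq).1
  rw [hq0, ← hw]
  exact (Quotient.out_eq' q).symm

theorem t2_selfnorm {G : Type*} [Group G] [Finite G] [IsSimpleGroup G] (hns : ¬ IsSolvable G) {L : Subgroup G} (hL : IsCoatom L)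
    (g g' : G) (h : MulAut.conj g • L = MulAut.conj g' • L) : g'⁻¹ * g ∈ L := by
  have h1 : MulAut.conj (g'⁻¹ * g) • L = L := by
    rw [map_mul, mul_smul, h, ← mul_smul, ← map_mul, inv_mul_cancel, map_one, one_smul]
  have hN : g'⁻¹ * g ∈ Subgroup.normalizer (L : Set G) := by
    rw [Subgroup.mem_normalizer_iff]
    intro x
    constructor
    · intro hx
      rw [← h1]
      exact Subgroup.smul_mem_pointwise_smul x (MulAut.conj (g'⁻¹ * g)) L hx
    · intro hx
      rw [← h1] at hx
      rw [Subgroup.mem_smul_pointwise_iff_exists] at hx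
      obtain ⟨y, hy, hyx⟩ := hx
      have h2 : y = x := by
        have h3 : (g'⁻¹ * g) * y * (g'⁻¹ * g)⁻¹ = (g'⁻¹ * g) * x * (g'⁻¹ * g)⁻¹ := hyx
        simpa using h3
      rwa [← h2]
  have hle : L ≤ Subgroup.normalizer (L : Set G) := Subgroup.le_normalizer
  rcases eq_or_lt_of_le hle with h2 | h2
  · rw [h2]; exact hN
  · exfalso
    have h3 := hL.2 _ h2
    have hn : L.Normal := Subgroup.normalizer_eq_top_iff.1 h3
    rcases hn.eq_bot_or_eq_top with h4 | h4
    · -- G has no proper nontrivial subgroup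
      subst h4
      apply hns
      have hcyc : IsCyclic G := by
        obtain ⟨x, hx⟩ := exists_ne (1 : G)
        refine ⟨⟨x, fun y => ?_⟩⟩
        have h5 : (⊥ : Subgroup G) < Subgroup.zpowers x := by
          rw [bot_lt_iff_ne_bot]
          intro h6
          exact hx (Subgroup.zpowers_eq_bot.1 h6)
        have h7 : y ∈ Subgroup.zpowers x := by rw [hL.2 _ h5]; trivial
        exact h7
      letI : CommGroup G := IsCyclic.commGroup
      exact (inferInstance : Group.IsSolvable G)
    · exact hL.1 h4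

theorem count {G : Type*} [Group G] [Finite G] [IsSimpleGroup G] (hns : ¬ IsSolvable G) {K L : Subgroup G}
    (hK : IsCoatom K) (hL : IsCoatom L)
    (hall : ∀ M : Subgroup G, IsCoatom M → ∃ g : G, M = MulAut.conj g • K ∨ M = MulAut.conj g • L)
    {p : ℕ} [Fact p.Prime]
    (hcl : ∀ X : Subgroup G, IsPGroup p X → ¬ Nat.card X ∣ Nat.card K → ∀ A B : Subgroup G, IsCoatom A → IsCoatom B →
      X ≤ A → X ≤ B → A = B) (e : ℕ) (he : p ^ e ∣ K.index) : p ^ e ∣ L.index - 1 := by
  classical
  have hp : p.Prime := Fact.out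
  rcases Nat.eq_zero_or_pos e with rfl | hepos
  · simp
  have hpK : p ∣ K.index := (dvd_pow_self p hepos.ne').trans he
  obtain ⟨P⟩ : Nonempty (Sylow p G) := inferInstance
  have hPtop : (P : Subgroup G) ≠ ⊤ := by
    intro h
    apply hns
    have h1 : IsPGroup p G := by
      have h2 := P.isPGroup'
      intro x
      obtain ⟨k, hk⟩ := h2 ⟨x, by rw [← SetLike.mem_coe]; show x ∈ (P : Subgroup G); rw [h]; trivial⟩
      exact ⟨k, congrArg Subtype.val hk⟩
    haveI := h1.isNilpotent
    exact (inferInstance : Group.IsSolvable G)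
  obtain ⟨A0, hA0, hPA0⟩ := (eq_top_or_exists_le_coatom (P : Subgroup G)).resolve_left hPtop
  have hcc : ∀ (g : G) (M : Subgroup G), Nat.card (MulAut.conj g • M : Subgroup G) = Nat.card M := by
    intro g M
    exact (Nat.card_congr (Subgroup.equivSMul (MulAut.conj g) M).toEquiv).symm
  obtain ⟨n, hn⟩ := IsPGroup.iff_card.1 P.isPGroup'
  have hnG : ¬ p ^ (n + 1) ∣ Nat.card G := by
    intro h
    have h1 := P.pow_dvd_card_of_pow_dvd_card h
    rw [hn] at h1
    have h2 := Nat.le_of_dvd (pow_pos hp.pos n) h1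
    have h3 : p ^ n < p ^ (n + 1) := Nat.pow_lt_pow_right hp.one_lt (Nat.lt_succ_self n)
    omega
  have hnotK : ∀ g : G, A0 ≠ MulAut.conj g • K := by
    intro g h
    have h1 : Nat.card P ∣ Nat.card K := by
      have h2 := Subgroup.card_dvd_of_le hPA0
      rw [h, hcc] at h2
      exact h2
    apply hnG
    rw [← K.card_mul_index, pow_succ]
    rw [hn] at h1
    exact mul_dvd_mul h1 hpK
  obtain ⟨g0, hg0⟩ : ∃ g0, A0 = MulAut.conj g0 • L := by
    obtain ⟨g, hg | hg⟩ := hall A0 hA0
    · exact absurd hg (hnotK g)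
    · exact ⟨g, hg⟩
  have hconjL : ∀ g : G, IsCoatom (MulAut.conj g • L) := by
    intro g
    have h1 : MulAut.conj g • L = L.map (MulAut.conj g).toMonoidHom := rfl
    have h2 := (OrderIso.isCoatom_iff (MulEquiv.mapSubgroup (MulAut.conj g)) L).2 hL
    exact h2
  have hmem : ∀ (x g : G), x ∈ MulAut.conj g • L ↔ g⁻¹ * x * g ∈ L := by
    intro x g
    rw [Subgroup.mem_smul_pointwise_iff_exists]
    constructor
    · rintro ⟨y, hy, rfl⟩
      have h1 : g⁻¹ * (MulAut.conj g • y) * g = y := by
        show g⁻¹ * (g * y * g⁻¹) * g = y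
        group
      rw [h1]; exact hy
    · intro h
      refine ⟨_, h, ?_⟩
      show g * (g⁻¹ * x * g) * g⁻¹ = x
      group
  have hmain := t2_orb (P := P) (Ω := G ⧸ L) (p ^ e) (g0 : G ⧸ L) ?_ ?_
  · rwa [← Subgroup.index_eq_card] at hmain
  · rintro ⟨x, hx⟩
    show ((x * g0 : G) : G ⧸ L) = (g0 : G ⧸ L)
    rw [eq_comm, QuotientGroup.eq]
    have h1 : x ∈ MulAut.conj g0 • L := by rw [← hg0]; exact hPA0 hx
    rw [hmem] at h1
    rw [← mul_assoc]; exact h1
  · intro w
    induction w using QuotientGroup.induction_on with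
    | H g =>
      intro hne
      have hA : MulAut.conj g • L ≠ A0 := by
        intro h
        rw [hg0] at h
        apply hne
        rw [eq_comm, QuotientGroup.eq]
        exact t2_selfnorm hns hL g g0 h
      have hdvd : Nat.card ((P : Subgroup G) ⊓ MulAut.conj g • L : Subgroup G) ∣ Nat.card K := by
        by_contra hnd
        apply hA
        exact hcl _ (P.isPGroup'.to_le inf_le_left) hnd _ _ (hconjL g) hA0 inf_le_right (inf_le_left.trans hPA0)
      obtain ⟨j, hj⟩ := IsPGroup.iff_card.1 (P.isPGroup'.to_le (inf_le_left : (P : Subgroup G) ⊓ MulAut.conj g • L ≤ P))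
      have h1 : p ^ (e + j) ∣ Nat.card P := by
        apply P.pow_dvd_card_of_pow_dvd_card
        rw [← K.card_mul_index, mul_comm, pow_add, ← hj]
        exact mul_dvd_mul he hdvd
      have h2 : Nat.card (MulAction.stabilizer P ((g : G) : G ⧸ L)) = p ^ j := by
        rw [← hj]
        have h3 : (MulAction.stabilizer P ((g : G) : G ⧸ L)).map (P : Subgroup G).subtype = (P : Subgroup G) ⊓ MulAut.conj g • L := by
          ext x
          rw [Subgroup.mem_map, Subgroup.mem_inf, hmem]
          constructor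
          · rintro ⟨⟨y, hy⟩, hys, rfl⟩
            refine ⟨hy, ?_⟩
            have h4 : ((y * g : G) : G ⧸ L) = (g : G ⧸ L) := hys
            rw [eq_comm, QuotientGroup.eq] at h4
            rw [mul_assoc]; exact h4
          · rintro ⟨hxP, hx⟩
            refine ⟨⟨x, hxP⟩, ?_, rfl⟩
            show ((x * g : G) : G ⧸ L) = (g : G ⧸ L)
            rw [eq_comm, QuotientGroup.eq, ← mul_assoc]
            exact hx
        rw [← h3]
        exact (Subgroup.card_map_of_injective (P : Subgroup G).subtype_injective).symm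
      have h5 : Nat.card (MulAction.orbit P ((g : G) : G ⧸ L)) * p ^ j = Nat.card P := by
        rw [← h2]
        have h6 := (MulAction.stabilizer P ((g : G) : G ⧸ L)).index_mul_card
        rw [MulAction.index_stabilizer] at h6
        exact h6
      rw [← h5, pow_add] at h1
      exact Nat.dvd_of_mul_dvd_mul_right (pow_pos hp.pos j) h1

end Cfsg.Agent.Lib.TwoMaxB11
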