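import Mathlib

set_option autoImplicit false
set_option linter.all false
open scoped Pointwise

namespace Cfsg.Agent.Lib.TwoMax12

/-- T3 from T1 and T2 -/
theorem simple_of {G : Type*} [Group G] [Finite G] [IsSimpleGroup G] {K L : Subgroup G}
    (claim : ∀ (_ : ¬ IsSolvable G) {K L : Subgroup G}
      (_ : ∀ M : Subgroup G, IsCoatom M → ∃ g : G, M = MulAut.conj g • K ∨ M = MulAut.conj g • L)
      {p : ℕ} [Fact p.Prime] {X : Subgroup G} (_ : IsPGroup p X) (_ : ¬ Nat.card X ∣ Nat.card K)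
      {A B : Subgroup G} (_ : IsCoatom A) (_ : IsCoatom B) (_ : X ≤ A) (_ : X ≤ B), A = B)
    (count : ∀ (_ : ¬ IsSolvable G) {K L : Subgroup G}
      (_ : IsCoatom K) (_ : IsCoatom L)
      (_ : ∀ M : Subgroup G, IsCoatom M → ∃ g : G, M = MulAut.conj g • K ∨ M = MulAut.conj g • L)
      {p : ℕ} [Fact p.Prime]
      (_ : ∀ X : Subgroup G, IsPGroup p X → ¬ Nat.card X ∣ Nat.card K → ∀ A B : Subgroup G, IsCoatom A → IsCoatom B →
        X ≤ A → X ≤ B → A = B) (e : ℕ) (_ : p ^ e ∣ K.index), p ^ e ∣ L.index - 1)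
    (hall : ∀ M : Subgroup G, IsCoatom M → ∃ g : G, M = MulAut.conj g • K ∨ M = MulAut.conj g • L) : IsSolvable G := by
  by_contra hns
  have conjco : ∀ (g : G) (M : Subgroup G), IsCoatom (MulAut.conj g • M) → IsCoatom M := by
    intro g M hM
    refine ⟨?_, ?_⟩
    · rintro rfl
      apply hM.1
      rw [eq_top_iff]
      intro x _
      rw [Subgroup.mem_pointwise_smul_iff_inv_smul_mem]
      exact Subgroup.mem_top _
    · intro N hN
      have h1 : MulAut.conj g • M < MulAut.conj g • N := by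
        refine lt_of_le_of_ne (Subgroup.pointwise_smul_le_pointwise_smul_iff.2 hN.le) ?_
        intro h
        exact hN.ne (smul_left_cancel _ h)
      have h2 := hM.2 _ h1
      rw [eq_top_iff]
      intro x _
      have h3 : (MulAut.conj g) • x ∈ MulAut.conj g • N := by rw [h2]; exact Subgroup.mem_top _
      exact Subgroup.smul_mem_pointwise_smul_iff.1 h3
  have hex : ∃ M : Subgroup G, IsCoatom M := by
    obtain ⟨M, hM, -⟩ := (eq_top_or_exists_le_coatom (⊥ : Subgroup G)).resolve_left bot_ne_top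
    exact ⟨M, hM⟩
  obtain ⟨M0, hM0⟩ := hex
  obtain ⟨K', L', hK', hL', hall'⟩ : ∃ K' L' : Subgroup G, IsCoatom K' ∧ IsCoatom L' ∧
      ∀ M : Subgroup G, IsCoatom M → ∃ g : G, M = MulAut.conj g • K' ∨ M = MulAut.conj g • L' := by
    by_cases hK : IsCoatom K
    · by_cases hL : IsCoatom L
      · exact ⟨K, L, hK, hL, hall⟩
      · refine ⟨K, K, hK, hK, fun M hM => ?_⟩
        obtain ⟨g, h | h⟩ := hall M hM
        · exact ⟨g, Or.inl h⟩
        · exact absurd (conjco g L (h ▸ hM)) hL
    · have hall2 : ∀ M : Subgroup G, IsCoatom M → ∃ g : G, M = MulAut.conj g • L := by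
        intro M hM
        obtain ⟨g, h | h⟩ := hall M hM
        · exact absurd (conjco g K (h ▸ hM)) hK
        · exact ⟨g, h⟩
      obtain ⟨g, hg⟩ := hall2 M0 hM0
      have hL : IsCoatom L := conjco g L (hg ▸ hM0)
      exact ⟨L, L, hL, hL, fun M hM => (hall2 M hM).imp fun g h => Or.inl h⟩
  have key : ∀ K L : Subgroup G, IsCoatom K → IsCoatom L →
      (∀ M : Subgroup G, IsCoatom M → ∃ g : G, M = MulAut.conj g • K ∨ M = MulAut.conj g • L) → K.index ∣ L.index - 1 := by
    intro K L hK hL hall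
    rw [Nat.dvd_iff_prime_pow_dvd_dvd]
    intro p e hp he
    haveI : Fact p.Prime := ⟨hp⟩
    exact count hns hK hL hall (fun X hX hXK A B hA hB hXA hXB => claim hns hall hX hXK hA hB hXA hXB) e he
  have h1 := key K' L' hK' hL' hall'
  have h2 := key L' K' hL' hK' (fun M hM => (hall' M hM).imp fun g h => h.symm)
  have two : ∀ K : Subgroup G, IsCoatom K → 2 ≤ K.index := by
    intro K hK
    have h3 : K.index ≠ 1 := fun h => hK.1 (Subgroup.index_eq_one.1 h)
    have h4 : K.index ≠ 0 := Subgroup.index_ne_zero_of_finite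
    omega
  have t1 := two K' hK'
  have t2 := two L' hL'
  have l1 := Nat.le_of_dvd (by omega) h1
  have l2 := Nat.le_of_dvd (by omega) h2
  omega

end Cfsg.Agent.Lib.TwoMax12
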