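import Mathlib

set_option autoImplicit false
set_option linter.all false
open scoped Pointwise

/-! Piece T4 of S4383 (helper25). -/

namespace Cfsg.Agent.Lib.TwoMax

theorem T4.core {G : Type} [Group G] [Finite G] (hns : ¬ IsSolvable G) (N : Subgroup G) [hNn : N.Normal]
    (hN : N ≠ ⊥) (hN' : N ≠ ⊤)
    (hq : ∀ (P : Subgroup G) [P.Normal], P ≠ ⊥ → IsSolvable (G ⧸ P)) (K L : Subgroup G)
    (hall : ∀ M : Subgroup G, IsCoatom M → ∃ g : G, M = MulAut.conj g • K ∨ M = MulAut.conj g • L)
    (hNK : N ≤ K) : False := by
  have key : ∀ p : ℕ, p.Prime → p ∣ Nat.card N → ¬ N ≤ L ∧ ¬ p ∣ L.relIndex N := by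
    intro p hp hpN
    have : Fact p.Prime := ⟨hp⟩
    let P0 : Sylow p N := default
    set P : Subgroup G := (P0 : Subgroup N).map N.subtype with hP
    have hPN : P ≤ N := Subgroup.map_subtype_le _
    have hPbot : P ≠ ⊥ := by
      intro h
      rw [hP, Subgroup.map_eq_bot_iff_of_injective _ N.subtype_injective] at h
      have h1 := P0.not_dvd_index
      rw [h, Subgroup.index_bot] at h1
      exact h1 hpN
    have htop : Subgroup.normalizer (P : Set G) ≠ ⊤ := by
      intro h
      have hPn : P.Normal := Subgroup.normalizer_eq_top_iff.1 h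
      apply hns
      have h1 : IsSolvable (G ⧸ P) := hq P hPbot
      have h2 : IsSolvable P := by
        have h3 : IsPGroup p P := P0.isPGroup'.map N.subtype
        have h4 : Group.IsNilpotent P := h3.isNilpotent
        exact (inferInstance : Group.IsSolvable P)
      exact (Group.isSolvable_iff_subgroup_quotient P).2 ⟨h2, h1⟩
    obtain ⟨M, hM, hMle⟩ := (eq_top_or_exists_le_coatom (Subgroup.normalizer (P : Set G))).resolve_left htop
    have hsup := Sylow.normalizer_sup_eq_top P0
    have hNM : ¬ N ≤ M := by
      intro h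
      apply hM.1
      rw [eq_top_iff, ← hsup]
      exact sup_le hMle h
    obtain ⟨g, hg⟩ := hall M hM
    have hML : M = MulAut.conj g • L := by
      rcases hg with hg | hg
      · exfalso
        apply hNM
        rw [hg, ← hNn.conj_smul_eq_self g N]
        exact Subgroup.pointwise_smul_le_pointwise_smul_iff.2 hNK
      · exact hg
    refine ⟨fun h => ?_, fun h => ?_⟩
    · apply hNM
      rw [hML, ← hNn.conj_smul_eq_self g N]
      exact Subgroup.pointwise_smul_le_pointwise_smul_iff.2 h
    · have e1 : M.relIndex N = L.relIndex N := by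
        have := Subgroup.relIndex_pointwise_smul (MulAut.conj g) L N
        rw [hNn.conj_smul_eq_self g N, ← hML] at this
        exact this
      rw [← e1] at h
      have h2 : M.relIndex N ∣ P.relIndex N :=
        Subgroup.relIndex_dvd_of_le_left N (Subgroup.le_normalizer.trans hMle)
      have h3 : P.relIndex N = (P0 : Subgroup N).index := by
        rw [Subgroup.relIndex, Subgroup.subgroupOf, hP, Subgroup.comap_map_eq_self_of_injective N.subtype_injective]
      rw [h3] at h2
      exact P0.not_dvd_index (h.trans h2)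
  have hcard : Nat.card N ≠ 1 := fun h => hN (Subgroup.card_eq_one.1 h)
  obtain ⟨p, hp, hpN⟩ := Nat.exists_prime_and_dvd hcard
  have h1 : L.relIndex N = 1 := by
    by_contra h
    obtain ⟨r, hr, hrL⟩ := Nat.exists_prime_and_dvd h
    exact (key r hr (hrL.trans (Subgroup.relIndex_dvd_card L N))).2 hrL
  exact (key p hp hpN).1 (Subgroup.relIndex_eq_one.1 h1)

/-- T4 (reduction) -/
theorem solvable_of_simple
    (hs : ∀ (H : Type) [Group H] [Finite H] [IsSimpleGroup H] (K L : Subgroup H),
      (∀ M : Subgroup H, IsCoatom M → ∃ g : H, M = MulAut.conj g • K ∨ M = MulAut.conj g • L) → IsSolvable H)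
    (n : ℕ) (G : Type) [Group G] [Finite G] (hn : Nat.card G = n) (K L : Subgroup G)
    (hall : ∀ M : Subgroup G, IsCoatom M → ∃ g : G, M = MulAut.conj g • K ∨ M = MulAut.conj g • L) : IsSolvable G := by
  induction n using Nat.strong_induction_on generalizing G with
  | _ n ih =>
    by_contra hns
    have hnt : Nontrivial G := by
      by_contra h
      rw [not_nontrivial_iff_subsingleton] at h
      exact hns (inferInstance : Group.IsSolvable G)
    have hnsim : ¬ IsSimpleGroup G := fun h => hns (hs G K L hall)
    obtain ⟨N, hN, hbot, htop⟩ : ∃ N : Subgroup G, N.Normal ∧ N ≠ ⊥ ∧ N ≠ ⊤ := by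
      by_contra hcon
      push Not at hcon
      apply hnsim
      exact { eq_bot_or_eq_top_of_normal := fun N hN => by
                by_cases h : N = ⊥
                · exact Or.inl h
                · exact Or.inr (hcon N hN h) }
    have hq : ∀ (P : Subgroup G) [P.Normal], P ≠ ⊥ → IsSolvable (G ⧸ P) := by
      intro P _ hP
      have hlt : Nat.card (G ⧸ P) < n := by
        rw [← hn, Subgroup.card_eq_card_quotient_mul_card_subgroup P]
        have h1 : 1 < Nat.card P := Subgroup.one_lt_card_iff_ne_bot P |>.2 hP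
        have h2 : 0 < Nat.card (G ⧸ P) := Nat.card_pos
        nlinarith
      refine ih _ hlt (G ⧸ P) rfl (K.map (QuotientGroup.mk' P)) (L.map (QuotientGroup.mk' P)) ?_
      intro M hM
      have hsurj := QuotientGroup.mk'_surjective P
      have hc : IsCoatom (M.comap (QuotientGroup.mk' P)) := Subgroup.isCoatom_comap_of_surjective hsurj hM
      have hmap : ∀ (g : G) (X : Subgroup G), (MulAut.conj g • X).map (QuotientGroup.mk' P) =
          MulAut.conj (QuotientGroup.mk' P g) • X.map (QuotientGroup.mk' P) := by
        intro g X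
        ext y
        constructor
        · rintro ⟨x, hx, rfl⟩
          obtain ⟨z, hz, rfl⟩ := hx
          exact ⟨QuotientGroup.mk' P z, ⟨z, hz, rfl⟩, by simp⟩
        · rintro ⟨w, ⟨z, hz, rfl⟩, rfl⟩
          exact ⟨g * z * g⁻¹, ⟨z, hz, by simp⟩, by simp⟩
      have hM' : M = (M.comap (QuotientGroup.mk' P)).map (QuotientGroup.mk' P) :=
        (Subgroup.map_comap_eq_self_of_surjective hsurj M).symm
      obtain ⟨g, hg | hg⟩ := hall _ hc
      · exact ⟨QuotientGroup.mk' P g, Or.inl (by rw [← hmap, ← hg]; exact hM')⟩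
      · exact ⟨QuotientGroup.mk' P g, Or.inr (by rw [← hmap, ← hg]; exact hM')⟩
    obtain ⟨M0, hM0, hle⟩ := (eq_top_or_exists_le_coatom N).resolve_left htop
    have hconj : ∀ (g : G) (X : Subgroup G), N ≤ MulAut.conj g • X → N ≤ X := by
      intro g X h
      rw [← hN.conj_smul_eq_self g N] at h
      exact Subgroup.pointwise_smul_le_pointwise_smul_iff.1 h
    obtain ⟨g, hg | hg⟩ := hall _ hM0
    · exact T4.core hns N hbot htop hq K L hall (hconj g K (hg ▸ hle))
    · exact T4.core hns N hbot htop hq L K (fun M hM => by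
        obtain ⟨g, hg⟩ := hall M hM
        exact ⟨g, hg.symm⟩) (hconj g L (hg ▸ hle))

end Cfsg.Agent.Lib.TwoMax
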