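import Mathlib

set_option autoImplicit false
set_option linter.all false
open scoped Pointwise

/-! S4383, piece T4 (backup, helper14). -/

namespace Cfsg.Agent.Lib.TwoMax.H14

theorem map_conj {G H : Type} [Group G] [Group H] (f : G →* H) (g : G) (K : Subgroup G) :
    (MulAut.conj g • K).map f = MulAut.conj (f g) • K.map f := by
  ext x
  constructor
  · rintro ⟨y, hy, rfl⟩
    rw [SetLike.mem_coe, Subgroup.mem_smul_pointwise_iff_exists] at hy
    obtain ⟨k, hk, rfl⟩ := hy
    rw [Subgroup.mem_smul_pointwise_iff_exists]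
    exact ⟨f k, ⟨k, hk, rfl⟩, by simp⟩
  · intro hx
    rw [Subgroup.mem_smul_pointwise_iff_exists] at hx
    obtain ⟨_, ⟨k, hk, rfl⟩, rfl⟩ := hx
    refine ⟨MulAut.conj g • k, ?_, by simp⟩
    rw [SetLike.mem_coe, Subgroup.mem_smul_pointwise_iff_exists]
    exact ⟨k, hk, rfl⟩

theorem quot {G : Type} [Group G] [Finite G] (N : Subgroup G) [N.Normal] (K L : Subgroup G)
    (hall : ∀ M : Subgroup G, IsCoatom M → ∃ g : G, M = MulAut.conj g • K ∨ M = MulAut.conj g • L)
    (M : Subgroup (G ⧸ N)) (hM : IsCoatom M) : ∃ g : G ⧸ N, M = MulAut.conj g • K.map (QuotientGroup.mk' N) ∨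
      M = MulAut.conj g • L.map (QuotientGroup.mk' N) := by
  have hs := QuotientGroup.mk'_surjective N
  have h1 := Subgroup.isCoatom_comap_of_surjective hs hM
  have h2 : (M.comap (QuotientGroup.mk' N)).map (QuotientGroup.mk' N) = M := Subgroup.map_comap_eq_self_of_surjective hs M
  obtain ⟨g, hg | hg⟩ := hall _ h1
  · refine ⟨QuotientGroup.mk' N g, Or.inl ?_⟩
    rw [← map_conj, ← hg, h2]
  · refine ⟨QuotientGroup.mk' N g, Or.inr ?_⟩
    rw [← map_conj, ← hg, h2]

theorem le_conj {G : Type} [Group G] (N : Subgroup G) [hN : N.Normal] (K : Subgroup G) (g : G) :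
    N ≤ MulAut.conj g • K ↔ N ≤ K := by
  constructor
  · intro h x hx
    have h1 := h (hN.conj_mem x hx g)
    rw [Subgroup.mem_smul_pointwise_iff_exists] at h1
    obtain ⟨k, hk, he⟩ := h1
    have : k = x := by
      have he' : g * k * g⁻¹ = g * x * g⁻¹ := he
      exact mul_left_cancel (mul_right_cancel he')
    rw [← this]; exact hk
  · intro h x hx
    rw [Subgroup.mem_smul_pointwise_iff_exists]
    refine ⟨g⁻¹ * x * g, h ?_, ?_⟩
    · have := hN.conj_mem x hx g⁻¹
      rwa [inv_inv] at this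
    · show g * (g⁻¹ * x * g) * g⁻¹ = x
      group

theorem main {G : Type} [Group G] [Finite G] (hns : ¬ IsSolvable G)
    (hq : ∀ (N : Subgroup G) [N.Normal], N ≠ ⊥ → IsSolvable (G ⧸ N)) (N : Subgroup G) [N.Normal] (hN : N ≠ ⊥)
    (K L : Subgroup G)
    (hall : ∀ M : Subgroup G, IsCoatom M → ∃ g : G, M = MulAut.conj g • K ∨ M = MulAut.conj g • L)
    (hNK : N ≤ K) : False := by
  classical
  have key : ∀ p : ℕ, p.Prime → p ∣ Nat.card N → ∃ (P : Sylow p N) (g : G), ¬ N ≤ L ∧
      (P : Subgroup N).map N.subtype ≤ MulAut.conj g • L := by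
    intro p hp hpN
    haveI : Fact p.Prime := ⟨hp⟩
    obtain ⟨P⟩ : Nonempty (Sylow p N) := inferInstance
    set P' := (P : Subgroup N).map N.subtype with hP'
    have hP'p : IsPGroup p P' := P.isPGroup'.map N.subtype
    have hP'b : P' ≠ ⊥ := by
      intro h
      have h1 : (P : Subgroup N) = ⊥ := by
        rw [hP', Subgroup.map_eq_bot_iff_of_injective _ N.subtype_injective] at h
        exact h
      have h2 := P.card_eq_multiplicity
      rw [h1, Subgroup.card_bot] at h2
      have h3 : 0 < (Nat.card N).factorization p := hp.factorization_pos_of_dvd Nat.card_pos.ne' hpN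
      have h4 : 1 < p ^ (Nat.card N).factorization p := Nat.one_lt_pow h3.ne' hp.one_lt
      omega
    have hnorm : Subgroup.normalizer (P' : Set G) ≠ ⊤ := by
      intro h
      have hn : P'.Normal := by
        rw [← Subgroup.normalizer_eq_top_iff]
        exact h
      haveI h1 : Group.IsSolvable (G ⧸ P') := hq P' hP'b
      haveI hnil : Group.IsNilpotent P' := hP'p.isNilpotent
      haveI h2 : Group.IsSolvable P' := inferInstance
      apply hns
      exact solvable_of_ker_le_range P'.subtype (QuotientGroup.mk' P') (by rw [QuotientGroup.ker_mk', Subgroup.range_subtype])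
    obtain h | ⟨M, hM, hle⟩ := eq_top_or_exists_le_coatom (Subgroup.normalizer (P' : Set G))
    · exact absurd h hnorm
    have hNM : ¬ N ≤ M := by
      intro h
      have h1 := Sylow.normalizer_sup_eq_top P
      apply hM.1
      rw [eq_top_iff, ← h1]
      exact sup_le hle h
    obtain ⟨g, hg | hg⟩ := hall M hM
    · exact absurd ((hg ▸ (le_conj N K g).2 hNK : N ≤ M)) hNM
    · refine ⟨P, g, ?_, ?_⟩
      · intro h
        exact hNM (hg ▸ (le_conj N L g).2 h : N ≤ M)
      · rw [← hg]
        exact Subgroup.le_normalizer.trans hle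
  have hcard1 : Nat.card N ≠ 1 := fun h => hN (Subgroup.card_eq_one.1 h)
  obtain ⟨p0, hp0, hp0N⟩ := Nat.exists_prime_and_dvd hcard1
  obtain ⟨_, _, hNL, _⟩ := key p0 hp0 hp0N
  apply hNL
  have hdvd : Nat.card N ∣ Nat.card (L ⊓ N : Subgroup G) := by
    rw [Nat.dvd_iff_prime_pow_dvd_dvd]
    intro p k hp hpk
    rcases Nat.eq_zero_or_pos k with hk | hk
    · rw [hk, pow_zero]; exact one_dvd _
    have hpN : p ∣ Nat.card N := (dvd_pow_self p hk.ne').trans hpk
    haveI : Fact p.Prime := ⟨hp⟩
    obtain ⟨P, g, -, hPL⟩ := key p hp hpN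
    have h1 : p ^ k ∣ Nat.card P := by
      rw [P.card_eq_multiplicity]
      exact pow_dvd_pow p ((hp.pow_dvd_iff_le_factorization Nat.card_pos.ne').1 hpk)
    have h2 : Nat.card (MulAut.conj g⁻¹ • (P : Subgroup N).map N.subtype : Subgroup G) = Nat.card P := by
      rw [← Nat.card_congr (Subgroup.equivSMul (MulAut.conj g⁻¹) ((P : Subgroup N).map N.subtype)).toEquiv]
      exact Nat.card_congr ((P : Subgroup N).equivMapOfInjective N.subtype N.subtype_injective).toEquiv.symm
    have h3 : (MulAut.conj g⁻¹ • (P : Subgroup N).map N.subtype : Subgroup G) ≤ L ⊓ N := by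
      intro x hx
      rw [Subgroup.mem_smul_pointwise_iff_exists] at hx
      obtain ⟨y, hy, rfl⟩ := hx
      have hyN : y ∈ N := by
        obtain ⟨z, -, rfl⟩ := hy
        exact z.2
      have hyL := hPL hy
      rw [Subgroup.mem_smul_pointwise_iff_exists] at hyL
      obtain ⟨l, hl, rfl⟩ := hyL
      constructor
      · have e : MulAut.conj g⁻¹ • MulAut.conj g • l = l := by
          show g⁻¹ * (g * l * g⁻¹) * g⁻¹⁻¹ = l
          group
        rw [e]; exact hl
      · exact Subgroup.Normal.conj_mem inferInstance _ hyN g⁻¹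
    rw [← h2] at h1
    exact h1.trans (Subgroup.card_dvd_of_le h3)
  have h4 : L ⊓ N = N := Subgroup.eq_of_le_of_card_ge inf_le_right (Nat.le_of_dvd Nat.card_pos hdvd)
  rw [← h4]; exact inf_le_left

theorem solvable_of_simple
    (hs : ∀ (H : Type) [Group H] [Finite H] [IsSimpleGroup H] (K L : Subgroup H),
      (∀ M : Subgroup H, IsCoatom M → ∃ g : H, M = MulAut.conj g • K ∨ M = MulAut.conj g • L) → IsSolvable H)
    (n : ℕ) (G : Type) [Group G] [Finite G] (hn : Nat.card G = n) (K L : Subgroup G)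
    (hall : ∀ M : Subgroup G, IsCoatom M → ∃ g : G, M = MulAut.conj g • K ∨ M = MulAut.conj g • L) : IsSolvable G := by
  induction n using Nat.strong_induction_on generalizing G with
  | _ n ih =>
  by_contra hns
  have hnt : Nontrivial G := by
    by_contra h
    rw [not_nontrivial_iff_subsingleton] at h
    exact hns (inferInstance : Group.IsSolvable G)
  have hq : ∀ (N : Subgroup G) [N.Normal], N ≠ ⊥ → IsSolvable (G ⧸ N) := by
    intro N _ hN
    refine ih (Nat.card (G ⧸ N)) ?_ (G ⧸ N) rfl (K.map (QuotientGroup.mk' N)) (L.map (QuotientGroup.mk' N))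
      (fun M hM => quot N K L hall M hM)
    rw [← hn, Subgroup.card_eq_card_quotient_mul_card_subgroup N]
    have h1 : 1 < Nat.card N := by
      rw [Subgroup.one_lt_card_iff_ne_bot]; exact hN
    exact lt_mul_of_one_lt_right Nat.card_pos h1
  by_cases hsim : ∀ N : Subgroup G, N.Normal → N = ⊥ ∨ N = ⊤
  · haveI : IsSimpleGroup G := { eq_bot_or_eq_top_of_normal := fun N hN => hsim N hN }
    exact hns (hs G K L hall)
  · push Not at hsim
    obtain ⟨N, hN, hNb, hNt⟩ := hsim
    obtain h | ⟨M0, hM0, hle⟩ := eq_top_or_exists_le_coatom N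
    · exact hNt h
    obtain ⟨g, hg | hg⟩ := hall M0 hM0
    · rw [hg] at hle
      exact main hns hq N hNb K L hall ((le_conj N K g).1 hle)
    · rw [hg] at hle
      refine main hns hq N hNb L K (fun M hM => ?_) ((le_conj N L g).1 hle)
      obtain ⟨g', h'⟩ := hall M hM
      exact ⟨g', h'.symm⟩

end Cfsg.Agent.Lib.TwoMax.H14
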