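import Mathlib

/-! S4383 piece T4 (helper75): reduction to simple groups. -/

set_option autoImplicit false
set_option linter.all false
open scoped Pointwise

universe u
namespace Cfsg.Agent.Lib.TwoMaxU

theorem t4_mem {G : Type*} [Group G] (g : G) (K : Subgroup G) (x : G) :
    x ∈ MulAut.conj g • K ↔ g⁻¹ * x * g ∈ K := by
  rw [Subgroup.mem_pointwise_smul_iff_inv_smul_mem]
  simp [MulAut.smul_def]

theorem t4_map {G H : Type*} [Group G] [Group H] (f : G →* H) (g : G) (K : Subgroup G) :
    (MulAut.conj g • K).map f = MulAut.conj (f g) • K.map f := by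
  ext x
  constructor
  · rintro ⟨y, hy, rfl⟩
    have h1 := (t4_mem g K y).mp hy
    rw [t4_mem]
    exact ⟨g⁻¹ * y * g, h1, by simp⟩
  · intro hx
    rw [t4_mem] at hx
    obtain ⟨y, hy, hyx⟩ := hx
    refine ⟨g * y * g⁻¹, (t4_mem g K _).mpr ?_, ?_⟩
    · have e : g⁻¹ * (g * y * g⁻¹) * g = y := by group
      rw [e]; exact hy
    · rw [map_mul, map_mul, map_inv, hyx]; group

theorem t4_quot
    (n : ℕ) (IH : ∀ m < n, ∀ (G : Type u) [Group G] [Finite G], Nat.card G = m → ∀ (K L : Subgroup G),
    (∀ M : Subgroup G, IsCoatom M → ∃ g : G, M = MulAut.conj g • K ∨ M = MulAut.conj g • L) → Group.IsSolvable G)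
    (G : Type u) [Group G] [Finite G] (hn : Nat.card G = n) (K L : Subgroup G)
    (hall : ∀ M : Subgroup G, IsCoatom M → ∃ g : G, M = MulAut.conj g • K ∨ M = MulAut.conj g • L)
    (N : Subgroup G) [N.Normal] (hN : N ≠ ⊥) : Group.IsSolvable (G ⧸ N) := by
  have hcard : Nat.card (G ⧸ N) < n := by
    rw [← hn, ← Subgroup.card_mul_index N, ← Subgroup.index_eq_card]
    have h1 : 1 < Nat.card N := (Subgroup.one_lt_card_iff_ne_bot N).mpr hN
    have h2 : 0 < N.index := Nat.pos_of_ne_zero Subgroup.index_ne_zero_of_finite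
    nlinarith
  refine IH _ hcard (G ⧸ N) rfl (K.map (QuotientGroup.mk' N)) (L.map (QuotientGroup.mk' N)) ?_
  intro M' hM'
  have hco : IsCoatom (M'.comap (QuotientGroup.mk' N)) :=
    Subgroup.isCoatom_comap_of_surjective (QuotientGroup.mk'_surjective N) hM'
  have hM'eq : M' = (M'.comap (QuotientGroup.mk' N)).map (QuotientGroup.mk' N) :=
    (Subgroup.map_comap_eq_self_of_surjective (QuotientGroup.mk'_surjective N) M').symm
  obtain ⟨g, hg | hg⟩ := hall _ hco
  · refine ⟨QuotientGroup.mk' N g, Or.inl ?_⟩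
    rw [hM'eq, hg, t4_map]
  · refine ⟨QuotientGroup.mk' N g, Or.inr ?_⟩
    rw [hM'eq, hg, t4_map]

/-- main step: `N` is contained in all conjugates of `K` -/
theorem t4_main
    (n : ℕ) (IH : ∀ m < n, ∀ (G : Type u) [Group G] [Finite G], Nat.card G = m → ∀ (K L : Subgroup G),
    (∀ M : Subgroup G, IsCoatom M → ∃ g : G, M = MulAut.conj g • K ∨ M = MulAut.conj g • L) → Group.IsSolvable G)
    (G : Type u) [Group G] [Finite G] (hn : Nat.card G = n) (K L : Subgroup G)
    (hall : ∀ M : Subgroup G, IsCoatom M → ∃ g : G, M = MulAut.conj g • K ∨ M = MulAut.conj g • L)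
    (N : Subgroup G) [hNn : N.Normal] (hN : N ≠ ⊥) (hNK : ∀ g : G, N ≤ MulAut.conj g • K) : Group.IsSolvable G := by
  by_contra hns
  have key : ∀ p : ℕ, p.Prime → p ∣ Nat.card N → ∃ g : G, ¬ N ≤ MulAut.conj g • L ∧
      p ^ (Nat.card N).factorization p ∣ Nat.card (L ⊓ N : Subgroup G) := by
    intro p hp hpd
    have : Fact p.Prime := ⟨hp⟩
    let P0 : Sylow p N := default
    set Q : Subgroup G := (P0 : Subgroup N).map N.subtype with hQ
    have hQcard : Nat.card Q = p ^ (Nat.card N).factorization p := by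
      rw [hQ, Subgroup.card_map_of_injective N.subtype_injective, Sylow.card_eq_multiplicity]
    have hQp : IsPGroup p Q := P0.isPGroup'.map _
    have hQbot : Q ≠ ⊥ := by
      intro hb
      rw [hb, Subgroup.card_bot] at hQcard
      have h1 := hp.factorization_pos_of_dvd Nat.card_pos.ne' hpd
      have h2 : 1 < p ^ (Nat.card N).factorization p := Nat.one_lt_pow h1.ne' hp.one_lt
      omega
    have hQN : Q ≤ N := by rintro _ ⟨x, _, rfl⟩; exact x.2
    have hnt : Subgroup.normalizer (Q : Set G) ≠ ⊤ := by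
      intro htop
      have hQnorm : Q.Normal := Subgroup.normalizer_eq_top_iff.mp htop
      have h1 : Group.IsSolvable (G ⧸ Q) := t4_quot n IH G hn K L hall Q hQbot
      have hnil : Group.IsNilpotent Q := hQp.isNilpotent
      have h2 : Group.IsSolvable Q := inferInstance
      apply hns
      exact Group.isSolvable_of_ker_le_range Q.subtype (QuotientGroup.mk' Q) (by
        rw [QuotientGroup.ker_mk', Subgroup.range_subtype])
    obtain ⟨M, hM, hle⟩ := (eq_top_or_exists_le_coatom (Subgroup.normalizer (Q : Set G))).resolve_left hnt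
    have hNM : ¬ N ≤ M := by
      intro hNM
      apply hM.1
      have h1 := Sylow.normalizer_sup_eq_top P0
      rw [eq_top_iff, ← h1]
      exact sup_le hle hNM
    obtain ⟨g, hg | hg⟩ := hall M hM
    · exact absurd (hg ▸ hNK g) hNM
    · refine ⟨g, hg ▸ hNM, ?_⟩
      have hQM : Q ≤ MulAut.conj g • L := by
        rw [← hg]; exact Subgroup.le_normalizer.trans hle
      have h3 : MulAut.conj g⁻¹ • Q ≤ L ⊓ N := by
        intro x hx
        rw [t4_mem, inv_inv] at hx
        have hxL : g * x * g⁻¹ ∈ MulAut.conj g • L := hQM hx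
        rw [t4_mem] at hxL
        have hxN := hNn.conj_mem _ (hQN hx) g⁻¹
        have e : g⁻¹ * (g * x * g⁻¹) * g = x := by group
        have e' : g⁻¹ * (g * x * g⁻¹) * g⁻¹⁻¹ = x := by group
        rw [e] at hxL
        rw [e'] at hxN
        exact ⟨hxL, hxN⟩
      have h4 : Nat.card (MulAut.conj g⁻¹ • Q : Subgroup G) = Nat.card Q := by
        rw [Subgroup.pointwise_smul_def]
        exact Subgroup.card_map_of_injective (MulAut.conj g⁻¹).injective
      rw [← hQcard, ← h4]
      exact Subgroup.card_dvd_of_le h3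
  have hdvd : Nat.card N ∣ Nat.card (L ⊓ N : Subgroup G) := by
    rw [Nat.dvd_iff_prime_pow_dvd_dvd]
    intro p k hp hpk
    by_cases hk : k = 0
    · rw [hk, pow_zero]; exact one_dvd _
    have hpd : p ∣ Nat.card N := (dvd_pow_self p hk).trans hpk
    obtain ⟨_, _, h⟩ := key p hp hpd
    refine (pow_dvd_pow p ?_).trans h
    exact (hp.pow_dvd_iff_le_factorization Nat.card_pos.ne').mp hpk
  have hle : Nat.card N ≤ Nat.card (L ⊓ N : Subgroup G) := Nat.le_of_dvd Nat.card_pos hdvd
  have heq : L ⊓ N = N := Subgroup.eq_of_le_of_card_ge inf_le_right hle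
  have hNL : N ≤ L := by rw [← heq]; exact inf_le_left
  obtain ⟨p, hp, hpd⟩ := Nat.exists_prime_and_dvd (n := Nat.card N) (by
    have := (Subgroup.one_lt_card_iff_ne_bot N).mpr hN
    omega)
  obtain ⟨g, hg, _⟩ := key p hp hpd
  apply hg
  intro x hx
  rw [t4_mem]
  have := hNn.conj_mem x hx g⁻¹
  rw [inv_inv] at this
  exact hNL this

theorem t4_solvable
    (hs : ∀ (H : Type u) [Group H] [Finite H] [IsSimpleGroup H] (K L : Subgroup H),
      (∀ M : Subgroup H, IsCoatom M → ∃ g : H, M = MulAut.conj g • K ∨ M = MulAut.conj g • L) → Group.IsSolvable H)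
    (n : ℕ) (G : Type u) [Group G] [Finite G] (hn : Nat.card G = n) (K L : Subgroup G)
    (hall : ∀ M : Subgroup G, IsCoatom M → ∃ g : G, M = MulAut.conj g • K ∨ M = MulAut.conj g • L) : Group.IsSolvable G := by
  induction n using Nat.strong_induction_on generalizing G with
  | _ n IH =>
    rcases subsingleton_or_nontrivial G with hsub | hnt
    · exact Group.isSolvable_of_top_eq_bot G (Subsingleton.elim _ _)
    by_cases hsim : ∀ N : Subgroup G, N.Normal → N = ⊥ ∨ N = ⊤
    · have : IsSimpleGroup G := ⟨fun N hN => hsim N hN⟩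
      exact hs G K L hall
    · push Not at hsim
      obtain ⟨N, hNn, hNb, hNt⟩ := hsim
      obtain ⟨M0, hM0, hle⟩ := (eq_top_or_exists_le_coatom N).resolve_left hNt
      have hconj : ∀ (g g' : G) (A : Subgroup G), N ≤ MulAut.conj g • A → N ≤ MulAut.conj g' • A := by
        intro g g' A h x hx
        rw [t4_mem]
        have h1 := h (hNn.conj_mem x hx (g * g'⁻¹))
        rw [t4_mem] at h1
        have e : g⁻¹ * (g * g'⁻¹ * x * (g * g'⁻¹)⁻¹) * g = g'⁻¹ * x * g' := by group
        rwa [e] at h1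
      obtain ⟨g0, hg0 | hg0⟩ := hall M0 hM0
      · exact t4_main n (fun m hm G _ _ h K L hall => IH m hm G h K L hall) G hn K L hall N hNb
          (fun g => hconj g0 g K (hg0 ▸ hle))
      · exact t4_main n (fun m hm G _ _ h K L hall => IH m hm G h K L hall) G hn L K
          (fun M hM => by obtain ⟨g, h | h⟩ := hall M hM; exacts [⟨g, Or.inr h⟩, ⟨g, Or.inl h⟩]) N hNb
          (fun g => hconj g0 g L (hg0 ▸ hle))

/-- T4 (reduction) -/
theorem solvable_of_simple
    (hs : ∀ (H : Type u) [Group H] [Finite H] [IsSimpleGroup H] (K L : Subgroup H),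
      (∀ M : Subgroup H, IsCoatom M → ∃ g : H, M = MulAut.conj g • K ∨ M = MulAut.conj g • L) → IsSolvable H)
    (n : ℕ) (G : Type u) [Group G] [Finite G] (hn : Nat.card G = n) (K L : Subgroup G)
    (hall : ∀ M : Subgroup G, IsCoatom M → ∃ g : G, M = MulAut.conj g • K ∨ M = MulAut.conj g • L) : IsSolvable G :=
  t4_solvable hs n G hn K L hall

end Cfsg.Agent.Lib.TwoMaxU
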