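import Mathlib
import Cfsg.Agent.Lib.SubgroupTools
import Cfsg.Agent.Lib.CoprimeAction
import Cfsg.Agent.Lib.Cores2
import Cfsg.Agent.S0071

/-!
# Groups whose mixed subgroups have order divisible by a large prime, part A (helper63)
-/

set_option autoImplicit false

namespace Cfsg.Agent.Lib.TwoPr

open Subgroup Cfsg.Agent.Lib.SubgroupTools

/-- Every proper subgroup of order divisible by `q` which is not a `q`-group has order divisible by `p`. -/
def Mix (p q : ℕ) (G : Type*) [Group G] : Prop :=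
  ∀ H : Subgroup G, H ≠ ⊤ → ¬ IsPGroup q H → q ∣ Nat.card H → p ∣ Nat.card H

/-- Only `p` and `q` divide the order. -/
def Good (p q : ℕ) (G : Type*) [Group G] : Prop :=
  ∀ r : ℕ, r.Prime → r ∣ Nat.card G → r = p ∨ r = q

variable {G : Type*} [Group G] [Finite G] {p q : ℕ}

theorem not_isPGroup_of_dvd {H : Subgroup G} (hq : q.Prime) {r : ℕ} (hr : r.Prime) (hrq : r ≠ q)
    (h : r ∣ Nat.card H) : ¬ IsPGroup q H := by
  intro hH
  haveI := Fact.mk hq
  obtain ⟨n, hn⟩ := IsPGroup.iff_card.1 hH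
  rw [hn] at h
  exact hrq ((Nat.prime_dvd_prime_iff_eq hr hq).1 (hr.dvd_of_dvd_pow h))

theorem mix_card (hp : p.Prime) (hq : q.Prime) (hpq : p ≠ q) (hpG : p ∣ Nat.card G) (hmix : Mix p q G)
    {r : ℕ} (hr : r.Prime) (hrp : r ≠ p) (hrq : r ≠ q) {H : Subgroup G} {i j : ℕ} (hi : i ≠ 0) (hj : j ≠ 0)
    (hH : Nat.card H = q ^ i * r ^ j) : False := by
  have h1 : ¬ p ∣ Nat.card H := by
    rw [hH]
    intro h
    rcases (hp.dvd_mul).1 h with h | h
    · exact hpq ((Nat.prime_dvd_prime_iff_eq hp hq).1 (hp.dvd_of_dvd_pow h))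
    · exact hrp ((Nat.prime_dvd_prime_iff_eq hp hr).1 (hp.dvd_of_dvd_pow h)).symm
  apply h1
  apply hmix
  · rintro rfl
    rw [card_top] at h1
    exact h1 hpG
  · exact not_isPGroup_of_dvd hq hr hrq (by rw [hH]; exact Dvd.dvd.mul_left (dvd_pow_self r hj) _)
  · rw [hH]; exact Dvd.dvd.mul_right (dvd_pow_self q hi) _

theorem exists_card_pow {H : Subgroup G} (hq : q.Prime) (hH : IsPGroup q H) (h1 : H ≠ ⊥) :
    ∃ i, i ≠ 0 ∧ Nat.card H = q ^ i := by
  haveI := Fact.mk hq
  obtain ⟨n, hn⟩ := IsPGroup.iff_card.1 hH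
  refine ⟨n, ?_, hn⟩
  rintro rfl
  rw [pow_zero] at hn
  exact h1 (Subgroup.card_eq_one.1 hn)

theorem mix_sup (hp : p.Prime) (hq : q.Prime) (hpq : p ≠ q) (hpG : p ∣ Nat.card G) (hmix : Mix p q G)
    {r : ℕ} (hr : r.Prime) (hrp : r ≠ p) (hrq : r ≠ q) {T R : Subgroup G} (hT : IsPGroup q T) (hT1 : T ≠ ⊥)
    (hR : IsPGroup r R) (hR1 : R ≠ ⊥) (hn : T ≤ normalizer (R : Set G) ∨ R ≤ normalizer (T : Set G)) : False := by
  obtain ⟨i, hi, hi'⟩ := exists_card_pow hq hT hT1
  obtain ⟨j, hj, hj'⟩ := exists_card_pow hr hR hR1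
  have hcop : (Nat.card T).Coprime (Nat.card R) := by
    rw [hi', hj']
    exact Nat.Coprime.pow _ _ ((Nat.coprime_primes hq hr).2 (Ne.symm hrq))
  rcases hn with hn | hn
  · refine mix_card hp hq hpq hpG hmix hr hrp hrq (H := R ⊔ T) hi hj ?_
    rw [card_sup_of_coprime hn hcop.symm, hi', hj', mul_comm]
  · refine mix_card hp hq hpq hpG hmix hr hrp hrq (H := T ⊔ R) hi hj ?_
    rw [card_sup_of_coprime hn hcop, hi', hj']

/-- A normal subgroup of order prime to `q` is a `p`-group. -/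
theorem isPGroup_of_normal (hp : p.Prime) (hq : q.Prime) (hpq : p ≠ q) (hpG : p ∣ Nat.card G)
    (hqG : q ∣ Nat.card G) (hmix : Mix p q G) (N : Subgroup G) (hN : N.Normal) (hqN : ¬ q ∣ Nat.card N)
    {r : ℕ} (hr : r.Prime) (hrN : r ∣ Nat.card N) : r = p := by
  haveI := Fact.mk hq
  haveI := Fact.mk hr
  by_contra hrp
  have hrq : r ≠ q := fun h => hqN (h ▸ hrN)
  obtain ⟨P⟩ : Nonempty (Sylow q G) := inferInstance
  have hP1 : (P : Subgroup G) ≠ ⊥ := P.ne_bot_of_dvd_card hqG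
  obtain ⟨i, hi, hi'⟩ := exists_card_pow hq P.2 hP1
  have hcop : (Nat.card P).Coprime (Nat.card N) := by
    rw [hi']
    exact Nat.Coprime.pow_left _ ((Nat.Prime.coprime_iff_not_dvd hq).2 hqN)
  have hPs : Group.IsSolvable P := by
    have := P.2.isNilpotent
    infer_instance
  have hnN : (P : Subgroup G) ≤ normalizer (N : Set G) := by
    rw [normalizer_eq_top]; exact le_top
  obtain ⟨R, hRN, hR, hRi, hPR⟩ := CoprimeAction.exists_invariant_sylow hnN hcop (Or.inl hPs) r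
  have hR1 : R ≠ ⊥ := by
    rintro rfl
    rw [relIndex_bot_left] at hRi
    exact hRi hrN
  exact mix_sup hp hq hpq hpG hmix hr hrp hrq P.2 hP1 hR hR1 (Or.inl hPR)

theorem good_of_complement (hp : p.Prime) (hq : q.Prime) (hpq : p ≠ q) (hpG : p ∣ Nat.card G)
    (hqG : q ∣ Nat.card G) (hmix : Mix p q G) (P : Sylow q G) (N : Subgroup G) (hN : N.Normal)
    (hc : N.IsComplement' (P : Subgroup G)) : Good p q G := by
  haveI := Fact.mk hq
  intro r hr hrG
  by_cases hrq : r = q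
  · exact Or.inr hrq
  left
  have hP1 : (P : Subgroup G) ≠ ⊥ := P.ne_bot_of_dvd_card hqG
  obtain ⟨i, hi, hi'⟩ := exists_card_pow hq P.2 hP1
  have hidx : N.index = Nat.card P := hc.symm.index_eq_card
  have hidx2 : (P : Subgroup G).index = Nat.card N := hc.index_eq_card
  have hqN : ¬ q ∣ Nat.card N := by
    rw [← hidx2]; exact P.not_dvd_index
  refine isPGroup_of_normal hp hq hpq hpG hqG hmix N hN hqN hr ?_
  have h1 := N.card_mul_index
  rw [← h1, hidx, hi'] at hrG
  rcases (hr.dvd_mul).1 hrG with h | h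
  · exact h
  · exact absurd ((Nat.prime_dvd_prime_iff_eq hr hq).1 (hr.dvd_of_dvd_pow h)) hrq

/-- An element outside a subgroup has a power of prime power order outside. -/
theorem exists_pow_prime_order (K : Subgroup G) {g : G} (hg : g ∉ K) :
    ∃ r : ℕ, r.Prime ∧ ∃ s ∈ zpowers g, s ∉ K ∧ ∃ k, orderOf s = r ^ k := by
  by_contra hcon
  push Not at hcon
  have h1 : K.subgroupOf (zpowers g) = ⊤ := by
    apply Cfsg.Agent.Lib.Cores.eq_top_of_forall_sylow_le
    intro r hr S s hs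
    rw [mem_subgroupOf]
    by_contra hsK
    haveI := hr
    obtain ⟨k, hk⟩ := (IsPGroup.iff_orderOf.1 S.2) ⟨s, hs⟩
    refine hcon r hr.out s s.2 hsK k ?_
    rw [← hk, Subgroup.orderOf_mk, Subgroup.orderOf_coe]
  apply hg
  have h2 : (⟨g, mem_zpowers g⟩ : zpowers g) ∈ K.subgroupOf (zpowers g) := by rw [h1]; trivial
  exact h2

/-- The fixed point congruence for an element of `p`-power order normalising a `q`-subgroup. -/
theorem card_fixed (hp : p.Prime) (hq : q.Prime) (hpq : p ≠ q) {Q : Subgroup G} (hQ : IsPGroup q Q) {s : G}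
    (hs : s ∈ normalizer (Q : Set G)) {k : ℕ} (hk : orderOf s = p ^ k) :
    Nat.card Q ≡ Nat.card (Q ⊓ centralizer {s} : Subgroup G) [MOD p] := by
  haveI := Fact.mk hp
  have hle : zpowers s ≤ normalizer (Q : Set G) := (zpowers_le).2 hs
  let φ : zpowers s →* MulAut Q := (Subgroup.normalizerMonoidHom Q).comp (Subgroup.inclusion hle)
  letI : MulAction (zpowers s) Q := MulAction.compHom Q φ
  have hφ : ∀ (z : zpowers s) (u : Q), ((z • u : Q) : G) = z * u * (z : G)⁻¹ := fun z u => rfl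
  have hpz : IsPGroup p (zpowers s) := IsPGroup.of_card (n := k) (by rw [Nat.card_zpowers, hk])
  have h1 := hpz.card_modEq_card_fixedPoints Q
  refine h1.trans ?_
  have h2 : Nat.card (MulAction.fixedPoints (zpowers s) Q) = Nat.card (Q ⊓ centralizer {s} : Subgroup G) := by
    refine Nat.card_congr ⟨fun u => ⟨(u : Q), Subgroup.mem_inf.2 ⟨(u : Q).2, ?_⟩⟩,
      fun u => ⟨⟨u, (Subgroup.mem_inf.1 u.2).1⟩, ?_⟩, fun u => rfl, fun u => rfl⟩
    · have h3 := u.2 (⟨s, mem_zpowers s⟩ : zpowers s)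
      have h4 := congrArg (Subtype.val) h3
      rw [hφ] at h4
      rw [mem_centralizer_singleton_iff]
      exact (mul_inv_eq_iff_eq_mul.1 h4).symm
    · rintro ⟨z, n, rfl⟩
      apply Subtype.ext
      rw [hφ]
      have h5 := (Subgroup.mem_inf.1 u.2).2
      rw [mem_centralizer_singleton_iff] at h5
      have h6 : Commute (s ^ n) (u : G) := (Commute.zpow_left (show Commute s (u : G) from h5.symm) n)
      change s ^ n * (u : G) * (s ^ n)⁻¹ = u
      rw [h6.eq, mul_inv_cancel_right]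
  rw [h2]

/-- numerical consequence -/
theorem exists_quot (hp : p.Prime) (hq : q.Prime) (hpq : p ≠ q) {Q : Subgroup G} (hQ : IsPGroup q Q) {s : G}
    (hs : s ∈ normalizer (Q : Set G)) {k : ℕ} (hk : orderOf s = p ^ k) (hsQ : s ∉ centralizer (Q : Set G)) :
    ∃ m, Nat.card Q = Nat.card (Q ⊓ centralizer {s} : Subgroup G) * m ∧ p + 1 ≤ m := by
  have h1 := card_fixed hp hq hpq hQ hs hk
  obtain ⟨m, hm⟩ := Subgroup.card_dvd_of_le (inf_le_left : Q ⊓ centralizer {s} ≤ Q)
  refine ⟨m, hm, ?_⟩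
  have hm0 : m ≠ 0 := by
    rintro rfl
    rw [mul_zero] at hm
    exact Nat.card_pos.ne' hm
  have hm1 : m ≠ 1 := by
    rintro rfl
    rw [mul_one] at hm
    apply hsQ
    have h2 : Q ⊓ centralizer {s} = Q := Subgroup.eq_of_le_of_card_ge inf_le_left hm.le
    rw [mem_centralizer_iff]
    intro u hu
    have h3 : u ∈ Q ⊓ centralizer {s} := by rw [h2]; exact hu
    exact (mem_centralizer_singleton_iff.1 (Subgroup.mem_inf.1 h3).2)
  rw [hm] at h1
  have h2 : p ∣ Nat.card (Q ⊓ centralizer {s} : Subgroup G) * m - Nat.card (Q ⊓ centralizer {s} : Subgroup G) :=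
    (Nat.modEq_iff_dvd' (Nat.le_mul_of_pos_right _ (Nat.pos_of_ne_zero hm0))).1 h1.symm
  have h3 : Nat.card (Q ⊓ centralizer {s} : Subgroup G) * m - Nat.card (Q ⊓ centralizer {s} : Subgroup G)
      = Nat.card (Q ⊓ centralizer {s} : Subgroup G) * (m - 1) := by
    rw [Nat.mul_sub, mul_one]
  rw [h3] at h2
  have h4 : ¬ p ∣ Nat.card (Q ⊓ centralizer {s} : Subgroup G) := by
    intro h
    haveI := Fact.mk hq
    obtain ⟨n, hn⟩ := IsPGroup.iff_card.1 (hQ.to_le (inf_le_left : Q ⊓ centralizer {s} ≤ Q))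
    rw [hn] at h
    exact hpq ((Nat.prime_dvd_prime_iff_eq hp hq).1 (hp.dvd_of_dvd_pow h))
  have h5 : p ∣ m - 1 := ((hp.dvd_mul).1 h2).resolve_left h4
  have h6 : p ≤ m - 1 := Nat.le_of_dvd (by omega) h5
  omega

/-- If the conclusion fails, there is a `p`-element acting on a `q`-subgroup which is not too small. -/
theorem exists_of_not_good (hp : p.Prime) (hq : q.Prime) (hpq : p ≠ q) (hpG : p ∣ Nat.card G)
    (hqG : q ∣ Nat.card G) (hmix : Mix p q G) (hbad : ¬ Good p q G) (P : Sylow q G) :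
    ∃ Q : Subgroup G, Q ≤ P ∧ ∃ s ∈ normalizer (Q : Set G), s ∉ centralizer (Q : Set G) ∧
      ∃ k, orderOf s = p ^ k := by
  haveI := Fact.mk hq
  by_contra hcon
  push Not at hcon
  obtain ⟨N, hN, hc⟩ := (Cfsg.Agent.S0071.result P).2 (by
    intro Q hQP g hg hgo
    by_contra hgQ
    obtain ⟨r, hr, s, hs, hsQ, k, hk⟩ := exists_pow_prime_order _ hgQ
    have hsN : s ∈ normalizer (Q : Set G) := (zpowers_le).2 hg hs
    have hs1 : s ≠ 1 := by
      rintro rfl
      exact hsQ (one_mem _)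
    have hk0 : k ≠ 0 := by
      rintro rfl
      rw [pow_zero, orderOf_eq_one_iff] at hk
      exact hs1 hk
    have hrg : r ∣ orderOf g := by
      refine (dvd_pow_self r hk0).trans ?_
      rw [← hk]
      exact orderOf_dvd_of_mem_zpowers hs
    have hrq : r ≠ q := by
      rintro rfl
      exact (Nat.Prime.coprime_iff_not_dvd hq).1 hgo.symm hrg
    by_cases hrp : r = p
    · subst hrp
      exact hcon Q hQP s hsN hsQ k hk
    · refine mix_sup hp hq hpq hpG hmix hr hrp hrq (T := Q) (R := zpowers s) (P.2.to_le hQP) ?_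
        (IsPGroup.of_card (n := k) (by rw [Nat.card_zpowers, hk])) ?_ (Or.inr ((zpowers_le).2 hsN))
      · rintro rfl
        apply hsQ
        rw [mem_centralizer_iff]
        intro u hu
        rw [Subgroup.mem_bot.1 hu]; simp
      · rw [Ne, zpowers_eq_bot]; exact hs1)
  exact hbad (good_of_complement hp hq hpq hpG hqG hmix P N hN hc)

end Cfsg.Agent.Lib.TwoPr
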