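import Cfsg.Agent.Lib.TwoPrA
import Cfsg.Agent.Lib.Burnside
import Cfsg.Agent.Lib.ElemCent2

/-!
# Groups whose mixed subgroups have order divisible by a large prime, part B (helper63):
the core configuration
-/

set_option autoImplicit false

namespace Cfsg.Agent.Lib.TwoPr

open Subgroup Cfsg.Agent.Lib.SubgroupTools

/-- The core configuration. -/
structure Core (p a : ℕ) (G : Type*) [Group G] [Finite G] (Q : Subgroup G) (x : G) : Prop where
  hp : p.Prime
  hp2 : p ≠ 2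
  hpa : p + 1 = 2 ^ a
  hpG : p ∣ Nat.card G
  ab : ∀ P : Subgroup G, IsPGroup p P → ∀ u ∈ P, ∀ v ∈ P, u * v = v * u
  cardQ : Nat.card Q = 2 ^ a
  idxQ : ¬ 2 ∣ Q.index
  xN : x ∈ normalizer (Q : Set G)
  xp : ∃ k, orderOf x = p ^ k
  fix : ∀ t ∈ Q, x * t = t * x → t = 1
  trans : ∀ t ∈ Q, t ≠ 1 → ∀ u ∈ Q, u ≠ 1 → ∃ g ∈ zpowers x, g * t * g⁻¹ = u
  sq : ∀ t ∈ Q, t * t = 1
  good : ∀ H : Subgroup G, H ≠ ⊤ → 2 ∣ Nat.card H → Good p 2 H

/-- The weak hypotheses, for the induction. -/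
structure Hyp (p a : ℕ) (G : Type*) [Group G] [Finite G] : Prop where
  hpG : p ∣ Nat.card G
  h2G : 2 ∣ Nat.card G
  h2a : ¬ 2 ^ (a + 1) ∣ Nat.card G
  ab : ∀ P : Subgroup G, IsPGroup p P → ∀ u ∈ P, ∀ v ∈ P, u * v = v * u
  mix : Mix p 2 G

variable {G : Type*} [Group G] [Finite G] {p a : ℕ}

theorem core_of_hyp (hp : p.Prime) (hp2 : p ≠ 2) (hpa : p + 1 = 2 ^ a) (h : Hyp p a G)
    (hbad : ¬ Good p 2 G) (hgood : ∀ H : Subgroup G, H ≠ ⊤ → 2 ∣ Nat.card H → Good p 2 H) :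
    ∃ (Q : Subgroup G) (x : G), Core p a G Q x := by
  haveI : Fact (Nat.Prime 2) := ⟨Nat.prime_two⟩
  haveI := Fact.mk hp
  obtain ⟨P⟩ : Nonempty (Sylow 2 G) := inferInstance
  obtain ⟨Q, hQP, x, hxN, hxQ, k, hk⟩ := exists_of_not_good hp Nat.prime_two hp2 h.hpG h.h2G h.mix hbad P
  obtain ⟨m, hm, hpm⟩ := exists_quot hp Nat.prime_two hp2 (P.2.to_le hQP) hxN hk hxQ
  obtain ⟨b, hb⟩ := IsPGroup.iff_card.1 P.2
  have hba : b ≤ a := by
    by_contra hlt
    push Not at hlt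
    apply h.h2a
    refine (pow_dvd_pow 2 (show a + 1 ≤ b from hlt)).trans ?_
    rw [← hb]
    exact card_subgroup_dvd_card _
  have hQ1 : Nat.card Q ≤ Nat.card P := Subgroup.card_le_of_le hQP
  have hP1 : Nat.card P ≤ 2 ^ a := by rw [hb]; exact Nat.pow_le_pow_right (by norm_num) hba
  have hc1 : 0 < Nat.card (Q ⊓ centralizer {x} : Subgroup G) := Nat.card_pos
  have hc2 : Nat.card (Q ⊓ centralizer {x} : Subgroup G) = 1 := by
    by_contra hne
    have h2 : 2 ≤ Nat.card (Q ⊓ centralizer {x} : Subgroup G) := by omega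
    have h3 : 2 * (p + 1) ≤ Nat.card Q := by
      rw [hm]; exact Nat.mul_le_mul h2 hpm
    omega
  rw [hc2, one_mul] at hm
  have hcardQ : Nat.card Q = 2 ^ a := by omega
  have hQeq : Q = P := Subgroup.eq_of_le_of_card_ge hQP (by omega)
  have hfix : ∀ t ∈ Q, x * t = t * x → t = 1 := by
    intro t ht hxt
    have h1 : Q ⊓ centralizer {x} = ⊥ := Subgroup.card_eq_one.1 hc2
    have h2 : t ∈ Q ⊓ centralizer {x} := Subgroup.mem_inf.2 ⟨ht, mem_centralizer_singleton_iff.2 hxt.symm⟩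
    rw [h1] at h2
    exact Subgroup.mem_bot.1 h2
  have htrans : ∀ t ∈ Q, t ≠ 1 → ∀ u ∈ Q, u ≠ 1 → ∃ g ∈ zpowers x, g * t * g⁻¹ = u := by
    intro t ht ht1 u hu hu1
    have hle : zpowers x ≤ normalizer (Q : Set G) := (zpowers_le).2 hxN
    let φ : zpowers x →* MulAut Q := (Subgroup.normalizerMonoidHom Q).comp (Subgroup.inclusion hle)
    letI : MulAction (zpowers x) Q := MulAction.compHom Q φ
    have hφ : ∀ (z : zpowers x) (u : Q), ((z • u : Q) : G) = z * u * (z : G)⁻¹ := fun z u => rfl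
    have hpz : IsPGroup p (zpowers x) := IsPGroup.of_card (n := k) (by rw [Nat.card_zpowers, hk])
    obtain ⟨n, hn⟩ := hpz.card_orbit (⟨t, ht⟩ : Q)
    have hn0 : n ≠ 0 := by
      rintro rfl
      rw [pow_zero] at hn
      have h1 : (⟨x, mem_zpowers x⟩ : zpowers x) • (⟨t, ht⟩ : Q) = ⟨t, ht⟩ := by
        haveI : Subsingleton (MulAction.orbit (zpowers x) (⟨t, ht⟩ : Q)) :=
          (Nat.card_eq_one_iff_unique.1 hn).1
        have h2 := Subsingleton.elim
          (⟨(⟨x, mem_zpowers x⟩ : zpowers x) • (⟨t, ht⟩ : Q), MulAction.mem_orbit _ _⟩ :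
            MulAction.orbit (zpowers x) (⟨t, ht⟩ : Q))
          ⟨⟨t, ht⟩, MulAction.mem_orbit_self _⟩
        exact congrArg Subtype.val h2
      have h3 := congrArg Subtype.val h1
      rw [hφ] at h3
      exact ht1 (hfix t ht (mul_inv_eq_iff_eq_mul.1 h3))
    have h4 : p ≤ Nat.card (MulAction.orbit (zpowers x) (⟨t, ht⟩ : Q)) := by
      rw [hn]
      calc p = p ^ 1 := (pow_one p).symm
        _ ≤ p ^ n := Nat.pow_le_pow_right hp.pos (Nat.pos_of_ne_zero hn0)
    by_contra hcon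
    -- then the orbit misses `1` and `u`
    have h5 : (MulAction.orbit (zpowers x) (⟨t, ht⟩ : Q)).ncard + 2 ≤ Nat.card Q := by
      have h6 : ({1, ⟨u, hu⟩} : Set Q).ncard = 2 := by
        rw [Set.ncard_pair]
        intro h
        exact hu1 (congrArg Subtype.val h).symm
      have h7 : Disjoint (MulAction.orbit (zpowers x) (⟨t, ht⟩ : Q)) ({1, ⟨u, hu⟩} : Set Q) := by
        rw [Set.disjoint_left]
        rintro v ⟨z, hz⟩ hv
        rw [Set.mem_insert_iff, Set.mem_singleton_iff] at hv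
        have h8 := congrArg Subtype.val hz
        change ((z • (⟨t, ht⟩ : Q) : Q) : G) = v at h8
        rw [hφ] at h8
        rcases hv with hv | hv
        · rw [hv] at h8
          apply ht1
          have h9 : (z : G) * t * (z : G)⁻¹ = 1 := h8
          rwa [mul_inv_eq_one, mul_eq_left] at h9
        · rw [hv] at h8
          exact hcon ⟨z, z.2, h8⟩
      rw [← h6, ← Set.ncard_union_eq h7, ← Set.ncard_univ]
      exact Set.ncard_le_ncard (Set.subset_univ _)
    rw [← Nat.card_coe_set_eq] at h5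
    omega
  have hsq : ∀ t ∈ Q, t * t = 1 := by
    -- there is an involution in `Q`
    have h1 : 2 ∣ Nat.card Q := by
      rw [hcardQ]
      apply dvd_pow_self
      rintro rfl
      have := hp.two_le
      omega
    obtain ⟨e, he⟩ := exists_prime_orderOf_dvd_card' 2 h1
    have he1 : (e : G) ≠ 1 := by
      intro h'
      have : e = 1 := Subtype.ext h'
      rw [this, orderOf_one] at he
      omega
    have he2 : (e : G) * e = 1 := by
      have := pow_orderOf_eq_one e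
      rw [he, sq] at this
      exact congrArg Subtype.val this
    intro t ht
    by_cases ht1 : t = 1
    · rw [ht1, one_mul]
    obtain ⟨g, _, hg⟩ := htrans e e.2 he1 t ht ht1
    rw [← hg]
    calc g * e * g⁻¹ * (g * e * g⁻¹) = g * (e * e) * g⁻¹ := by group
      _ = 1 := by rw [he2]; group
  refine ⟨Q, x, ⟨hp, hp2, hpa, h.hpG, h.ab, hcardQ, ?_, hxN, ⟨k, hk⟩, hfix, htrans, hsq, hgood⟩⟩
  rw [hQeq]
  exact P.not_dvd_index

end Cfsg.Agent.Lib.TwoPr
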