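import Cfsg.Agent.Lib.TwoPrB

/-!
# Groups whose mixed subgroups have order divisible by a large prime, part C (helper63):
the core configuration is simple; centralizers of involutions
-/

set_option autoImplicit false

namespace Cfsg.Agent.Lib.TwoPr

open Subgroup Cfsg.Agent.Lib.SubgroupTools

variable {G : Type*} [Group G] [Finite G] {p a : ℕ} {Q : Subgroup G} {x : G}

theorem Core.a_ne (h : Core p a G Q x) : a ≠ 0 := by
  rintro rfl
  have := h.hpa
  have := h.hp.two_le
  omega

theorem Core.isTwo (h : Core p a G Q x) : IsPGroup 2 Q := IsPGroup.of_card h.cardQ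

/-- `Q` as a Sylow subgroup -/
noncomputable def Core.syl (h : Core p a G Q x) : Sylow 2 G :=
  h.isTwo.toSylow (by haveI : Fact (Nat.Prime 2) := ⟨Nat.prime_two⟩; exact h.idxQ)

theorem Core.coe_syl (h : Core p a G Q x) : (h.syl : Subgroup G) = Q := rfl

theorem Core.exists_conj (h : Core p a G Q x) {T : Subgroup G} (hT : IsPGroup 2 T) :
    ∃ g : G, ∀ t ∈ T, g * t * g⁻¹ ∈ Q := by
  haveI : Fact (Nat.Prime 2) := ⟨Nat.prime_two⟩
  obtain ⟨S, hS⟩ := hT.exists_le_sylow
  obtain ⟨g, hg⟩ := MulAction.exists_smul_eq G S h.syl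
  refine ⟨g, fun t ht => ?_⟩
  have h1 : g * t * g⁻¹ ∈ ((g • S : Sylow 2 G) : Subgroup G) := by
    rw [Sylow.coe_subgroup_smul]
    exact ⟨t, hS ht, rfl⟩
  rw [hg] at h1
  exact h1

omit [Finite G] in
theorem isPGroup_zpowers_of_sq {t : G} (ht : t * t = 1) : IsPGroup 2 (zpowers t) := by
  rintro ⟨y, n, rfl⟩
  refine ⟨1, Subtype.ext ?_⟩
  change (t ^ n) ^ (2 ^ 1) = 1
  rw [pow_one, ← zpow_natCast, ← zpow_mul, mul_comm, zpow_mul, zpow_natCast, pow_two, ht, one_zpow]

theorem Core.exists_conj_elem (h : Core p a G Q x) {t : G} (ht : t * t = 1) :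
    ∃ g : G, g * t * g⁻¹ ∈ Q := by
  have h1 : IsPGroup 2 (zpowers t) := isPGroup_zpowers_of_sq ht
  obtain ⟨g, hg⟩ := h.exists_conj h1
  exact ⟨g, hg t (mem_zpowers t)⟩

theorem Core.comm (h : Core p a G Q x) {t u : G} (ht : t ∈ Q) (hu : u ∈ Q) : t * u = u * t := by
  have h1 := h.sq _ (Q.mul_mem ht hu)
  have h2 := h.sq _ ht
  have h3 := h.sq _ hu
  have h4 : t⁻¹ = t := inv_eq_of_mul_eq_one_left h2
  have h5 : u⁻¹ = u := inv_eq_of_mul_eq_one_left h3
  have h6 : (t * u)⁻¹ = t * u := inv_eq_of_mul_eq_one_left h1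
  rw [mul_inv_rev, h4, h5] at h6
  exact h6.symm

/-- A 2-subgroup containing `Q` is `Q`. -/
theorem Core.eq_of_le (h : Core p a G Q x) {T : Subgroup G} (hT : IsPGroup 2 T) (hQT : Q ≤ T) : T = Q := by
  haveI : Fact (Nat.Prime 2) := ⟨Nat.prime_two⟩
  exact h.syl.3 hT hQT

/-- 2-elements normalising `Q` lie in `Q`. -/
theorem Core.mem_of_normalizer (h : Core p a G Q x) {t : G} (ht : t * t = 1)
    (htQ : t ∈ normalizer (Q : Set G)) : t ∈ Q := by
  have h1 : IsPGroup 2 (zpowers t) := isPGroup_zpowers_of_sq ht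
  have h2 : IsPGroup 2 (Q ⊔ zpowers t : Subgroup G) :=
    h.isTwo.to_sup_of_normal_left' h1 ((zpowers_le).2 htQ)
  have h3 := h.eq_of_le h2 le_sup_left
  rw [← h3]
  exact mem_sup_right (mem_zpowers t)

theorem Core.coprime (h : Core p a G Q x) : Nat.Coprime p 2 :=
  (Nat.coprime_primes h.hp Nat.prime_two).2 h.hp2

theorem Core.eq_one_of_mem (h : Core p a G Q x) {K : Subgroup G} (hK : IsPGroup p K) {t : G} (ht : t ∈ Q)
    (htK : t ∈ K) : t = 1 := by
  haveI := Fact.mk h.hp
  obtain ⟨k, hk⟩ := (IsPGroup.iff_orderOf.1 hK) ⟨t, htK⟩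
  rw [Subgroup.orderOf_mk] at hk
  have h1 : orderOf t ∣ 2 := orderOf_dvd_of_pow_eq_one (by rw [pow_two]; exact h.sq t ht)
  have h2 : Nat.Coprime (orderOf t) 2 := by
    rw [hk]; exact Nat.Coprime.pow_left _ h.coprime
  have h3 : orderOf t = 1 := Nat.Coprime.eq_one_of_dvd h2 h1
  exact orderOf_eq_one_iff.1 h3

theorem Core.exists_ne (h : Core p a G Q x) : ∃ t ∈ Q, t ≠ 1 := by
  by_contra hcon
  push Not at hcon
  have h1 : Q = ⊥ := (Subgroup.eq_bot_iff_forall _).2 hcon
  have h2 := h.cardQ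
  rw [h1, card_bot] at h2
  have := h.hpa
  have := h.hp.two_le
  omega

theorem Core.x_pgroup (h : Core p a G Q x) : IsPGroup p (zpowers x) := by
  obtain ⟨k, hk⟩ := h.xp
  exact IsPGroup.of_card (n := k) (by rw [Nat.card_zpowers, hk])

/-- `x` does not lie in a `p`-subgroup normalised by `Q`. -/
theorem Core.x_not_mem (h : Core p a G Q x) {K : Subgroup G} (hK : IsPGroup p K)
    (hQK : Q ≤ normalizer (K : Set G)) : x ∉ K := by
  intro hx
  obtain ⟨t, ht, ht1⟩ := h.exists_ne
  apply ht1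
  apply h.fix t ht
  have h1 : x * t * x⁻¹ * t⁻¹ ∈ Q := Q.mul_mem ((mem_normalizer_iff.1 h.xN t).1 ht) (Q.inv_mem ht)
  have h2 : x * t * x⁻¹ * t⁻¹ ∈ K := by
    have h3 := (mem_normalizer_iff.1 (hQK ht) x⁻¹).1 (K.inv_mem hx)
    have h4 := K.mul_mem hx h3
    have h5 : x * (t * x⁻¹ * t⁻¹) = x * t * x⁻¹ * t⁻¹ := by group
    rwa [h5] at h4
  have h6 := h.eq_one_of_mem hK h1 h2
  calc x * t = (x * t * x⁻¹ * t⁻¹) * (t * x) := by group
    _ = t * x := by rw [h6, one_mul]

/-- A subset of `Q` which is normalised by `x` and contains a nontrivial element of `Q` contains `Q`. -/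
theorem Core.le_of_normal (h : Core p a G Q x) {N : Subgroup G} (hxN : x ∈ normalizer (N : Set G)) {t : G}
    (htQ : t ∈ Q) (htN : t ∈ N) (ht1 : t ≠ 1) : Q ≤ N := by
  intro u hu
  by_cases hu1 : u = 1
  · rw [hu1]; exact N.one_mem
  obtain ⟨g, hg, hgu⟩ := h.trans t htQ ht1 u hu hu1
  have h1 : g ∈ normalizer (N : Set G) := (zpowers_le).2 hxN hg
  rw [← hgu]
  exact (mem_normalizer_iff.1 h1 t).1 htN

theorem card_pow_of_forall {H : Type*} [Group H] [Finite H] (hp : p.Prime)
    (h : ∀ r : ℕ, r.Prime → r ∣ Nat.card H → r = p) : IsPGroup p H := by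
  haveI := Fact.mk hp
  have h1 : Nat.card H = p ^ (Nat.card H).primeFactorsList.length :=
    Nat.eq_prime_pow_of_unique_prime_dvd Nat.card_pos.ne' (fun {d} hd hdd => h d hd hdd)
  exact IsPGroup.of_card h1

theorem Core.isSimple (h : Core p a G Q x) (hmix : Mix p 2 G) (h2a : ¬ 2 ^ (a + 1) ∣ Nat.card G)
    (hbad : ¬ Good p 2 G)
    (hquot : ∀ (N : Subgroup G) (_ : N.Normal), N ≠ ⊥ → Hyp p a (G ⧸ N) → Good p 2 (G ⧸ N)) :
    IsSimpleGroup G := by
  haveI : Fact (Nat.Prime 2) := ⟨Nat.prime_two⟩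
  haveI := Fact.mk h.hp
  have h2G : 2 ∣ Nat.card G := by
    refine dvd_trans ?_ (card_subgroup_dvd_card Q)
    rw [h.cardQ]; exact dvd_pow_self 2 h.a_ne
  haveI : Nontrivial G := by
    rw [← Finite.one_lt_card_iff_nontrivial]
    exact lt_of_lt_of_le h.hp.one_lt (Nat.le_of_dvd Nat.card_pos h.hpG)
  refine ⟨fun N hN => ?_⟩
  by_contra hcon
  push Not at hcon
  obtain ⟨hNb, hNt⟩ := hcon
  apply hbad
  by_cases h2N : 2 ∣ Nat.card N
  · -- `Q ≤ N`
    obtain ⟨e, he⟩ := exists_prime_orderOf_dvd_card' 2 h2N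
    have he1 : (e : G) ≠ 1 := by
      intro h'
      have : e = 1 := Subtype.ext h'
      rw [this, orderOf_one] at he
      omega
    have he2 : (e : G) * e = 1 := by
      have := pow_orderOf_eq_one e
      rw [he, pow_two] at this
      exact congrArg Subtype.val this
    obtain ⟨g, hg⟩ := h.exists_conj_elem he2
    have hge : g * e * g⁻¹ ∈ N := hN.conj_mem _ e.2 g
    have hge1 : g * e * g⁻¹ ≠ 1 := by
      rw [Ne, mul_inv_eq_one, mul_eq_left]; exact he1
    have hQN : Q ≤ N := h.le_of_normal (by rw [normalizer_eq_top]; trivial) hg hge hge1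
    have hgoodN := h.good N hNt h2N
    intro r hr hrG
    by_contra hne
    push Not at hne
    obtain ⟨hrp, hr2⟩ := hne
    have hrN : ¬ r ∣ Nat.card N := fun h' => (hgoodN r hr h').elim hrp hr2
    -- Frattini
    have hfr : (⊤ : Subgroup G) = normalizer (Q : Set G) ⊔ N := by
      have hQs : ∃ S : Sylow 2 N, (S : Subgroup N).map N.subtype = Q := by
        refine ⟨(h.isTwo.of_injective (subgroupOfEquivOfLe hQN).toMonoidHom
          (subgroupOfEquivOfLe hQN).injective).toSylow (P := Q.subgroupOf N) ?_, ?_⟩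
        · intro h'
          apply h.idxQ
          have h'' : 2 ∣ Q.relIndex N := h'
          exact h''.trans (Dvd.intro _ (relIndex_mul_index hQN))
        · change (Q.subgroupOf N).map N.subtype = Q
          rw [subgroupOf_map_subtype, inf_eq_left.mpr hQN]
      obtain ⟨S, hS⟩ := hQs
      have := Sylow.normalizer_sup_eq_top S
      rw [hS] at this
      exact this.symm
    have hidx : N.index ∣ Nat.card (normalizer (Q : Set G)) := by
      have h1 : N.relIndex (normalizer (Q : Set G)) = N.index := by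
        rw [← relIndex_top_right, hfr, relIndex_sup_right]
      rw [← h1]
      exact relIndex_dvd_card _ _
    have h3 : r ∣ Nat.card (normalizer (Q : Set G)) := by
      rw [← N.card_mul_index] at hrG
      exact (((hr.dvd_mul).1 hrG).resolve_left hrN).trans hidx
    haveI := Fact.mk hr
    obtain ⟨s, hs⟩ := exists_prime_orderOf_dvd_card' r h3
    have hs' : orderOf (s : G) = r := by rw [Subgroup.orderOf_coe]; exact hs
    have hs1 : (s : G) ≠ 1 := by
      intro h'
      rw [h', orderOf_one] at hs'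
      exact hr.one_lt.ne hs'
    have hQ1 : Q ≠ ⊥ := by
      obtain ⟨t, ht, ht1⟩ := h.exists_ne
      rintro rfl
      exact ht1 (Subgroup.mem_bot.1 ht)
    exact mix_sup h.hp Nat.prime_two h.hp2 h.hpG hmix hr hrp hr2 (T := Q) (R := zpowers (s : G)) h.isTwo hQ1
      (IsPGroup.of_card (n := 1) (by rw [Nat.card_zpowers, hs', pow_one]))
      (by rw [Ne, zpowers_eq_bot]; exact hs1) (Or.inr ((zpowers_le).2 s.2))
  · -- `N` is a `p`-group
    have hNp : IsPGroup p N := card_pow_of_forall h.hp (fun r hr hrN =>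
      isPGroup_of_normal h.hp Nat.prime_two h.hp2 h.hpG h2G hmix N hN h2N hr hrN)
    have hcard : Nat.card N * Nat.card (G ⧸ N) = Nat.card G := by
      rw [mul_comm]; exact (card_eq_card_quotient_mul_card_subgroup N).symm
    have hp' : p ∣ Nat.card (G ⧸ N) := by
      by_contra hpN
      have hxN : x ∈ N := by
        rw [← QuotientGroup.eq_one_iff, ← orderOf_eq_one_iff]
        obtain ⟨k, hk⟩ := h.xp
        have h3 : orderOf (x : G ⧸ N) ∣ p ^ k := by
          rw [← hk]
          exact orderOf_map_dvd (QuotientGroup.mk' N) x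
        have h4 : Nat.Coprime (p ^ k) (Nat.card (G ⧸ N)) :=
          Nat.Coprime.pow_left _ ((Nat.Prime.coprime_iff_not_dvd h.hp).2 hpN)
        exact Nat.eq_one_of_dvd_coprimes h4 h3 (orderOf_dvd_natCard _)
      exact h.x_not_mem hNp (by rw [normalizer_eq_top]; exact le_top) hxN
    have hHyp : Hyp p a (G ⧸ N) := by
      refine ⟨hp', ?_, ?_, ?_, ?_⟩
      · rw [← hcard] at h2G
        exact ((Nat.prime_two.dvd_mul).1 h2G).resolve_left h2N
      · intro h'
        apply h2a
        refine h'.trans ?_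
        rw [← hcard]; exact dvd_mul_left _ _
      · intro P hP u hu v hv
        obtain ⟨u, rfl⟩ := QuotientGroup.mk_surjective u
        obtain ⟨v, rfl⟩ := QuotientGroup.mk_surjective v
        have hPc : IsPGroup p (P.comap (QuotientGroup.mk' N)) :=
          hP.comap_of_ker_isPGroup _ (by rw [QuotientGroup.ker_mk']; exact hNp)
        have := h.ab _ hPc u hu v hv
        rw [← QuotientGroup.mk_mul, this, QuotientGroup.mk_mul]
      · intro H hHt hH2 hHc
        by_contra hpH
        apply hH2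
        apply card_pow_of_forall Nat.prime_two
        intro r hr hrH
        have hc : Nat.card (H.comap (QuotientGroup.mk' N)) = Nat.card N * Nat.card H := by
          exact Cfsg.Agent.Lib.Cores.card_comap_mk N H
        have hct : H.comap (QuotientGroup.mk' N) ≠ ⊤ := by
          intro h'
          apply hHt
          rw [eq_top_iff]
          intro y _
          obtain ⟨y, rfl⟩ := QuotientGroup.mk_surjective y
          have : y ∈ H.comap (QuotientGroup.mk' N) := by rw [h']; trivial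
          exact this
        have h3 := h.good _ hct (by rw [hc]; exact Dvd.dvd.mul_left hHc _) r hr
          (by rw [hc]; exact Dvd.dvd.mul_left hrH _)
        rcases h3 with h3 | h3
        · exact absurd (h3 ▸ hrH) hpH
        · exact h3
    have hgq := hquot N hN hNb hHyp
    intro r hr hrG
    rw [← hcard] at hrG
    rcases (hr.dvd_mul).1 hrG with h3 | h3
    · exact Or.inl (isPGroup_of_normal h.hp Nat.prime_two h.hp2 h.hpG h2G hmix N hN h2N hr h3)
    · exact hgq r hr h3

end Cfsg.Agent.Lib.TwoPr
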