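import Cfsg.Agent.Lib.TwoPrC

/-!
# Groups whose mixed subgroups have order divisible by a large prime, part D (helper63):
centralizers of involutions in the core configuration
-/

set_option autoImplicit false

namespace Cfsg.Agent.Lib.TwoPr

open Subgroup Cfsg.Agent.Lib.SubgroupTools

variable {G : Type*} [Group G] [Finite G] {p a : ℕ} {Q : Subgroup G} {x : G}

theorem Core.centralizer_ne_top (h : Core p a G Q x) (hs : IsSimpleGroup G) {z : G} (hz : z ≠ 1) :
    centralizer {z} ≠ ⊤ := by
  intro hc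
  have h1 : z ∈ center G := by
    rw [mem_center_iff]
    intro g
    have : g ∈ centralizer {z} := by rw [hc]; trivial
    exact (mem_centralizer_singleton_iff.1 this)
  have h2 : center G = ⊤ := by
    rcases hs.eq_bot_or_eq_top_of_normal (center G) inferInstance with h' | h'
    · rw [h'] at h1; exact absurd (Subgroup.mem_bot.1 h1) hz
    · exact h'
  obtain ⟨t, ht, ht1⟩ := h.exists_ne
  apply ht1
  apply h.fix t ht
  have h3 : t ∈ center G := by rw [h2]; trivial
  exact (mem_center_iff.1 h3 x)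

theorem isSolvable_of_good {H : Type*} [Group H] [Finite H] (hp : p.Prime) (hg : Good p 2 H) :
    Group.IsSolvable H := by
  haveI : Fact (Nat.Prime 2) := ⟨Nat.prime_two⟩
  haveI := Fact.mk hp
  have h0 : Nat.card H ≠ 0 := Nat.card_pos.ne'
  obtain ⟨b, m, hm, hc⟩ := Nat.exists_eq_two_pow_mul_odd h0
  have h1 : m = p ^ m.primeFactorsList.length := by
    refine Nat.eq_prime_pow_of_unique_prime_dvd ?_ (fun {d} hd hdd => ?_)
    · rintro rfl
      rw [mul_zero] at hc
      exact h0 hc
    · rcases hg d hd (hc ▸ Dvd.dvd.mul_left hdd _) with h' | h'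
      · exact h'
      · exfalso
        rw [h'] at hdd
        exact (Nat.not_even_iff_odd.2 hm) (even_iff_two_dvd.2 hdd)
  refine Cfsg.Agent.Lib.Burnside.isSolvable_of_card_eq (Nat.card H) p 2 (m.primeFactorsList.length) b hp Nat.prime_two ?_ rfl
  rw [← h1, mul_comm]; exact hc

/-- In a proper subgroup containing `Q` and `x`, the subgroup `Q` is normal. -/
theorem Core.normal_of_mem (h : Core p a G Q x) {E : Subgroup G} (hE : E ≠ ⊤) (hQE : Q ≤ E) (hxE : x ∈ E) :
    E ≤ normalizer (Q : Set G) := by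
  haveI : Fact (Nat.Prime 2) := ⟨Nat.prime_two⟩
  haveI := Fact.mk h.hp
  have h2E : 2 ∣ Nat.card E := by
    refine dvd_trans ?_ (card_dvd_of_le hQE)
    rw [h.cardQ]; exact dvd_pow_self 2 h.a_ne
  have hgood := h.good E hE h2E
  haveI : Group.IsSolvable E := isSolvable_of_good h.hp hgood
  set W : Subgroup G := (Cfsg.pCore p E).map E.subtype with hW
  set V : Subgroup G := (Cfsg.pCore 2 E).map E.subtype with hV
  have hEV : E ≤ normalizer (V : Set G) := Cores.le_normalizer_map_subtype _
  have hEW : E ≤ normalizer (W : Set G) := Cores.le_normalizer_map_subtype _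
  have hWp : IsPGroup p W := (Cores.isPGroup_pCore p E).map _
  have hV2 : IsPGroup 2 V := (Cores.isPGroup_pCore 2 E).map _
  have hVE : V ≤ E := map_subtype_le _
  have hVQ : V ≤ Q := by
    have h1 : IsPGroup 2 (V ⊔ Q : Subgroup G) := hV2.to_sup_of_normal_left' h.isTwo (hQE.trans hEV)
    have h2 := h.eq_of_le h1 le_sup_right
    rw [← h2]; exact le_sup_left
  by_cases hVb : V = ⊥
  · exfalso
    have hpc2 : Cfsg.pCore 2 E = ⊥ := (Subgroup.map_eq_bot_iff_of_injective _ E.subtype_injective).1 hVb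
    have hpc : Cfsg.pPrimeCore p E = ⊥ := by
      have h1 : IsPGroup 2 (Cfsg.pPrimeCore p E) := by
        apply card_pow_of_forall Nat.prime_two
        intro r hr hrd
        rcases hgood r hr (hrd.trans (card_subgroup_dvd_card _)) with h2 | h2
        · exfalso
          subst h2
          have h3 := Cores.coprime_card_pPrimeCore r E
          exact (Nat.Prime.coprime_iff_not_dvd hr).1 h3.symm hrd
        · exact h2
      have h4 := Cores.le_pCore (N := Cfsg.pPrimeCore p E) inferInstance h1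
      rw [hpc2] at h4
      exact le_bot_iff.1 h4
    have h5 := Cores.centralizer_pCore_le hpc
    apply h.x_not_mem hWp (hQE.trans hEW)
    refine ⟨⟨x, hxE⟩, h5 ?_, rfl⟩
    have h6 : IsPGroup p (W ⊔ zpowers x : Subgroup G) :=
      hWp.to_sup_of_normal_left' h.x_pgroup ((zpowers_le).2 (hEW hxE))
    rw [mem_centralizer_iff]
    intro w hw
    apply Subtype.ext
    exact h.ab _ h6 w (mem_sup_left ⟨w, hw, rfl⟩) x (mem_sup_right (mem_zpowers x))
  · have h1 : Q ≤ V := by
      obtain ⟨t, htV, ht1⟩ := (Subgroup.ne_bot_iff_exists_ne_one).1 hVb |>.imp (fun t ht => ht) |> fun ⟨t, ht⟩ => 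
        (⟨(t : G), t.2, fun h' => ht (Subtype.ext h')⟩ : ∃ t : G, t ∈ V ∧ t ≠ 1)
      exact h.le_of_normal (hEV hxE) (hVQ htV) htV ht1
    rw [le_antisymm h1 hVQ]
    exact hEV

/-- The structure of the centralizer of an involution. -/
theorem Core.exists_K (h : Core p a G Q x) (hs : IsSimpleGroup G) {t : G} (ht : t ∈ Q) (ht1 : t ≠ 1) :
    ∃ K : Subgroup G, K ≤ centralizer {t} ∧ centralizer {t} ≤ normalizer (K : Set G) ∧ IsPGroup p K ∧
      centralizer {t} = K ⊔ Q ∧ ∀ y ∈ centralizer {t}, (∃ k, orderOf y = p ^ k) → y ∈ K := by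
  haveI : Fact (Nat.Prime 2) := ⟨Nat.prime_two⟩
  haveI := Fact.mk h.hp
  set C : Subgroup G := centralizer {t} with hC
  have hCt : C ≠ ⊤ := h.centralizer_ne_top hs ht1
  have hQC : Q ≤ C := by
    intro u hu
    rw [hC, mem_centralizer_singleton_iff]
    exact h.comm hu ht
  have h2C : 2 ∣ Nat.card C := by
    refine dvd_trans ?_ (card_dvd_of_le hQC)
    rw [h.cardQ]; exact dvd_pow_self 2 h.a_ne
  have hgood := h.good C hCt h2C
  have hQi : ¬ 2 ∣ (Q.subgroupOf C).index := by
    intro h'
    apply h.idxQ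
    have h'' : 2 ∣ Q.relIndex C := h'
    exact h''.trans (Dvd.intro _ (relIndex_mul_index hQC))
  let S : Sylow 2 C := (h.isTwo.of_injective (subgroupOfEquivOfLe hQC).toMonoidHom
          (subgroupOfEquivOfLe hQC).injective).toSylow (P := Q.subgroupOf C) hQi
  have hS : (S : Subgroup C) = Q.subgroupOf C := rfl
  obtain ⟨N, hN, hc⟩ := (Cfsg.Agent.S0071.result S).2 (by
    intro T hTS g hg hgo
    by_contra hgT
    obtain ⟨r, hr, s, hsg, hsT, k, hk⟩ := exists_pow_prime_order _ hgT
    have hsN : s ∈ normalizer (T : Set C) := (zpowers_le).2 hg hsg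
    have hs1 : s ≠ 1 := by
      rintro rfl
      exact hsT (one_mem _)
    have hk0 : k ≠ 0 := by
      rintro rfl
      rw [pow_zero, orderOf_eq_one_iff] at hk
      exact hs1 hk
    have hrs : r ∣ orderOf s := by rw [hk]; exact dvd_pow_self r hk0
    have hrg : r ∣ orderOf g := hrs.trans (orderOf_dvd_of_mem_zpowers hsg)
    have hr2 : r ≠ 2 := by
      rintro rfl
      exact (Nat.Prime.coprime_iff_not_dvd Nat.prime_two).1 hgo.symm hrg
    have hrp : r = p := (hgood r hr (hrs.trans (orderOf_dvd_natCard s))).resolve_right hr2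
    subst hrp
    set T' : Subgroup G := T.map C.subtype with hT'
    have hT'Q : T' ≤ Q := by
      rintro _ ⟨u, hu, rfl⟩
      exact hTS hu
    have hsN' : (s : G) ∈ normalizer (T' : Set G) := by
      have h1 := le_normalizer_map (f := C.subtype) (H := T)
      exact h1 ⟨s, hsN, rfl⟩
    have hsT' : (s : G) ∉ centralizer (T' : Set G) := by
      intro h'
      apply hsT
      rw [mem_centralizer_iff] at h' ⊢
      intro u hu
      exact Subtype.ext (h' u ⟨u, hu, rfl⟩)
    obtain ⟨m, hm, hpm⟩ := exists_quot h.hp Nat.prime_two h.hp2 (h.isTwo.to_le hT'Q) hsN'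
      (k := k) (by rw [Subgroup.orderOf_coe]; exact hk) hsT'
    have h1 : Nat.card T' ≤ 2 ^ a := by rw [← h.cardQ]; exact Subgroup.card_le_of_le hT'Q
    rw [← h.hpa] at h1
    have h2 : 0 < Nat.card (T' ⊓ centralizer {(s : G)} : Subgroup G) := Nat.card_pos
    have h3 : Nat.card (T' ⊓ centralizer {(s : G)} : Subgroup G) = 1 := by
      by_contra hne
      have h2 : 2 ≤ Nat.card (T' ⊓ centralizer {(s : G)} : Subgroup G) := by omega
      have h3 : 2 * (r + 1) ≤ Nat.card T' := by
        rw [hm]; exact Nat.mul_le_mul h2 hpm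
      omega
    have h4 : Nat.card T' = Nat.card Q := by
      rw [h.cardQ, ← h.hpa]
      rw [h3, one_mul] at hm
      omega
    have h5 : T' = Q := Subgroup.eq_of_le_of_card_ge hT'Q h4.symm.le
    have h6 : t ∈ T' ⊓ centralizer {(s : G)} := by
      refine Subgroup.mem_inf.2 ⟨by rw [h5]; exact ht, ?_⟩
      rw [mem_centralizer_singleton_iff]
      exact (mem_centralizer_singleton_iff.1 s.2).symm
    rw [Subgroup.card_eq_one.1 h3] at h6
    exact ht1 (Subgroup.mem_bot.1 h6))
  have hidx : N.index = Nat.card S := hc.symm.index_eq_card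
  have hcardS : Nat.card S = 2 ^ a := by
    rw [← h.cardQ]; exact card_subgroupOf_of_le hQC
  have hidx2 : (S : Subgroup C).index = Nat.card N := hc.index_eq_card
  have h2N : ¬ 2 ∣ Nat.card N := by rw [← hidx2]; exact hQi
  have hNp : IsPGroup p N := card_pow_of_forall h.hp (fun r hr hrN => by
    rcases hgood r hr (hrN.trans (card_subgroup_dvd_card N)) with h' | h'
    · exact h'
    · exact absurd (h' ▸ hrN) h2N)
  refine ⟨N.map C.subtype, map_subtype_le _, Cores.le_normalizer_map_subtype _, hNp.map _, ?_, ?_⟩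
  · have h1 := hc.sup_eq_top
    have h2 : Q = (S : Subgroup C).map C.subtype := by
      rw [hS, subgroupOf_map_subtype, inf_eq_left.mpr hQC]
    rw [h2, ← Subgroup.map_sup, h1, ← MonoidHom.range_eq_map, Subgroup.range_subtype]
  · rintro y hy ⟨k, hk⟩
    refine ⟨⟨y, hy⟩, ?_, rfl⟩
    have h3 : orderOf ((⟨y, hy⟩ : C) : C ⧸ N) ∣ p ^ k := by
      rw [← hk, ← Subgroup.orderOf_mk y hy]
      exact orderOf_map_dvd (QuotientGroup.mk' N) (⟨y, hy⟩ : C)
    have h4 : Nat.Coprime (p ^ k) (Nat.card (C ⧸ N)) := by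
      change Nat.Coprime (p ^ k) N.index
      rw [hidx, hcardS]
      exact Nat.Coprime.pow _ _ h.coprime
    have h5 := Nat.eq_one_of_dvd_coprimes h4 h3 (orderOf_dvd_natCard _)
    rw [orderOf_eq_one_iff, QuotientGroup.eq_one_iff] at h5
    exact h5

end Cfsg.Agent.Lib.TwoPr
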