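import Cfsg.Agent.Lib.TwoPrD

/-!
# Groups whose mixed subgroups have order divisible by a large prime, part E (helper63):
the case where the centralizers of involutions centralize the Sylow 2-subgroup
-/

set_option autoImplicit false

namespace Cfsg.Agent.Lib.TwoPr

open Subgroup Cfsg.Agent.Lib.SubgroupTools

variable {G : Type*} [Group G] [Finite G] {p a : ℕ} {Q : Subgroup G} {x : G}

theorem Core.mix (h : Core p a G Q x) : Mix p 2 G := by
  intro H hH h2 h2H
  by_contra hpH
  apply h2
  apply card_pow_of_forall Nat.prime_two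
  intro r hr hrH
  rcases h.good H hH h2H r hr hrH with h' | h'
  · exact absurd (h' ▸ hrH) hpH
  · exact h'

theorem card_fixed_two {C : Subgroup G} {t : G} (ht2 : t * t = 1) (hC : t ∈ normalizer (C : Set G)) :
    Nat.card C ≡ Nat.card (C ⊓ centralizer {t} : Subgroup G) [MOD 2] := by
  haveI : Fact (Nat.Prime 2) := ⟨Nat.prime_two⟩
  have hle : zpowers t ≤ normalizer (C : Set G) := (zpowers_le).2 hC
  let φ : zpowers t →* MulAut C := (Subgroup.normalizerMonoidHom C).comp (Subgroup.inclusion hle)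
  letI : MulAction (zpowers t) C := MulAction.compHom C φ
  have hφ : ∀ (z : zpowers t) (u : C), ((z • u : C) : G) = z * u * (z : G)⁻¹ := fun z u => rfl
  have h1 := (isPGroup_zpowers_of_sq ht2).card_modEq_card_fixedPoints C
  refine h1.trans ?_
  have h2 : Nat.card (MulAction.fixedPoints (zpowers t) C) = Nat.card (C ⊓ centralizer {t} : Subgroup G) := by
    refine Nat.card_congr ⟨fun u => ⟨(u : C), Subgroup.mem_inf.2 ⟨(u : C).2, ?_⟩⟩,
      fun u => ⟨⟨u, (Subgroup.mem_inf.1 u.2).1⟩, ?_⟩, fun u => rfl, fun u => rfl⟩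
    · have h3 := u.2 (⟨t, mem_zpowers t⟩ : zpowers t)
      have h4 := congrArg (Subtype.val) h3
      rw [hφ] at h4
      rw [mem_centralizer_singleton_iff]
      exact (mul_inv_eq_iff_eq_mul.1 h4).symm
    · rintro ⟨z, n, rfl⟩
      apply Subtype.ext
      rw [hφ]
      have h5 := (Subgroup.mem_inf.1 u.2).2
      rw [mem_centralizer_singleton_iff] at h5
      have h6 : Commute (t ^ n) (u : G) := (Commute.zpow_left (show Commute t (u : G) from h5.symm) n)
      change t ^ n * (u : G) * (t ^ n)⁻¹ = u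
      rw [h6.eq, mul_inv_cancel_right]
  rw [h2]

/-- Case I -/
def CaseI (Q : Subgroup G) : Prop := ∀ t ∈ Q, t ≠ 1 → centralizer {t} ≤ centralizer (Q : Set G)

theorem Core.mem_of_comm (h : Core p a G Q x) (hI : CaseI Q) {t s : G} (ht : t ∈ Q) (ht1 : t ≠ 1)
    (hs : s * s = 1) (hst : s * t = t * s) : s ∈ Q := by
  apply h.mem_of_normalizer hs
  apply centralizer_le_normalizer
  exact hI t ht ht1 (mem_centralizer_singleton_iff.2 hst)

theorem Core.le_cent (h : Core p a G Q x) {t : G} (ht : t ∈ Q) : centralizer (Q : Set G) ≤ centralizer {t} :=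
  centralizer_le (Set.singleton_subset_iff.2 ht)

theorem Core.cent_le (h : Core p a G Q x) (hs : IsSimpleGroup G) (hI : CaseI Q) {t k : G} (ht : t ∈ Q)
    (ht1 : t ≠ 1) (hk1 : k ≠ 1) (hk : ∃ n, orderOf k = p ^ n) (hkt : k ∈ centralizer {t}) :
    centralizer {k} ≤ normalizer (Q : Set G) := by
  obtain ⟨K, hKC, hKn, hKp, hKQ, hKe⟩ := h.exists_K hs ht ht1
  have hkK : k ∈ K := hKe k hkt hk
  have hxK : ∀ y ∈ K, x * y * x⁻¹ ∈ K := by
    intro y hy
    apply hKe
    · apply h.le_cent ht
      rw [mem_centralizer_iff]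
      intro u hu
      have hu' : x⁻¹ * u * x ∈ Q := by
        have := (mem_normalizer_iff.1 (inv_mem h.xN) u).1 hu
        simpa using this
      have h1 := (mem_centralizer_iff.1 (hI t ht ht1 (hKC hy))) _ hu'
      calc u * (x * y * x⁻¹) = x * ((x⁻¹ * u * x) * y) * x⁻¹ := by group
        _ = x * y * x⁻¹ * u := by rw [h1]; group
    · haveI := Fact.mk h.hp
      obtain ⟨n, hn⟩ := (IsPGroup.iff_orderOf.1 hKp) ⟨y, hy⟩
      rw [Subgroup.orderOf_mk] at hn
      exact ⟨n, by rw [← hn]; exact (MulAut.conj x).orderOf_eq y⟩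
  have hxN : x ∈ normalizer (K : Set G) := by
    haveI := Fintype.ofFinite K
    exact mem_normalizer_fintype hxK
  have hKx : IsPGroup p (K ⊔ zpowers x : Subgroup G) :=
    hKp.to_sup_of_normal_left' h.x_pgroup ((zpowers_le).2 hxN)
  have hxk : x * k = k * x := h.ab _ hKx x (mem_sup_right (mem_zpowers x)) k (mem_sup_left hkK)
  refine h.normal_of_mem (h.centralizer_ne_top hs hk1) ?_ ?_
  · intro q hq
    rw [mem_centralizer_singleton_iff]
    exact (mem_centralizer_iff.1 (hI t ht ht1 hkt)) q hq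
  · rw [mem_centralizer_singleton_iff]; exact hxk

theorem Core.mem_of_comm_two (h : Core p a G Q x) (hs : IsSimpleGroup G) (hI : CaseI Q) {t k u : G} (ht : t ∈ Q)
    (ht1 : t ≠ 1) (hk1 : k ≠ 1) (hk : ∃ n, orderOf k = p ^ n) (hkt : k * t = t * k) (hu : u * u = 1)
    (hku : k * u = u * k) : u ∈ Q := by
  apply h.mem_of_normalizer hu
  apply h.cent_le hs hI ht ht1 hk1 hk (mem_centralizer_singleton_iff.2 hkt)
  rw [mem_centralizer_singleton_iff]
  exact hku.symm

/-- The main structural fact in case I. -/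
theorem Core.cent_prod (h : Core p a G Q x) (hs : IsSimpleGroup G) (hI : CaseI Q) {t u : G} (ht : t ∈ Q)
    (ht1 : t ≠ 1) (hu : u * u = 1) (huQ : u ∉ Q) :
    IsPGroup p (centralizer {t * u}) ∧ ∀ c ∈ centralizer {t * u}, t * c * t⁻¹ = c⁻¹ := by
  haveI : Fact (Nat.Prime 2) := ⟨Nat.prime_two⟩
  haveI := Fact.mk h.hp
  have ht2 := h.sq t ht
  have hti : t⁻¹ = t := inv_eq_of_mul_eq_one_left ht2
  have hui : u⁻¹ = u := inv_eq_of_mul_eq_one_left hu
  set C : Subgroup G := centralizer {t * u} with hC
  have hto : orderOf t = 2 := orderOf_eq_prime (by rw [pow_two]; exact ht2) ht1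
  -- `t` normalises `C`
  have htC' : ∀ c ∈ C, t * c * t⁻¹ ∈ C := by
    intro c hc
    rw [hC, mem_centralizer_singleton_iff] at hc ⊢
    -- c commutes with u t as well
    have h1 : c * (u * t) = (u * t) * c := by
      have h2 : u * t = (t * u)⁻¹ := by rw [mul_inv_rev, hti, hui]
      rw [h2]
      exact (show Commute c (t * u) from hc).inv_right.eq
    have h3 : t * (t * u) * t = u * t := by
      rw [← mul_assoc, ht2, one_mul]
    rw [hti]
    calc t * c * t * (t * u) = t * c * (t * (t * u) * t) * t := by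
          have : t * (t * u) * t * t = t * (t * u) := by rw [mul_assoc, ht2, mul_one]
          rw [mul_assoc (t * c) _ t, this]; group
      _ = t * (c * (u * t)) * t := by rw [h3]; group
      _ = t * ((u * t) * c) * t := by rw [h1]
      _ = t * u * (t * c * t) := by group
  have htC : t ∈ normalizer (C : Set G) := by
    haveI := Fintype.ofFinite C
    exact mem_normalizer_fintype htC'
  -- commuting with `t` and `t u`
  have hcomm : ∀ c ∈ C, c * t = t * c → c * u = u * c := by
    intro c hc hct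
    rw [hC, mem_centralizer_singleton_iff] at hc
    have h1 : t * (c * u) = t * (u * c) := by
      calc t * (c * u) = (t * c) * u := by group
        _ = c * (t * u) := by rw [← hct]; group
        _ = t * u * c := hc
        _ = t * (u * c) := by group
    exact mul_left_cancel h1
  have hodd : ¬ 2 ∣ Nat.card C := by
    intro h2C
    have h1 := card_fixed_two ht2 htC
    have h2 : 2 ∣ Nat.card (C ⊓ centralizer {t} : Subgroup G) :=
      (Nat.modEq_zero_iff_dvd.1 (h1.symm.trans (Nat.modEq_zero_iff_dvd.2 h2C)))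
    obtain ⟨e, he⟩ := exists_prime_orderOf_dvd_card' 2 h2
    have he1 : (e : G) ≠ 1 := by
      intro h'
      have : e = 1 := Subtype.ext h'
      rw [this, orderOf_one] at he
      omega
    have he2 : (e : G) * e = 1 := by
      have := pow_orderOf_eq_one e
      rw [he, pow_two] at this
      exact congrArg Subtype.val this
    have he3 := Subgroup.mem_inf.1 e.2
    have he4 : (e : G) * t = t * e := mem_centralizer_singleton_iff.1 he3.2
    have heQ : (e : G) ∈ Q := h.mem_of_comm hI ht ht1 he2 he4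
    have heu := hcomm _ he3.1 he4
    exact huQ (h.mem_of_comm hI heQ he1 hu heu.symm)
  have hfpf : ∀ c ∈ C, t * c = c * t → c = 1 := by
    intro c hc hct
    by_contra hc1
    apply huQ
    have hcp : IsPGroup p (C ⊓ centralizer {t} : Subgroup G) := by
      apply card_pow_of_forall h.hp
      intro r hr hrd
      have h1 : r ∣ Nat.card (centralizer {t}) := hrd.trans (card_dvd_of_le inf_le_right)
      have h2 : r ∣ Nat.card C := hrd.trans (card_dvd_of_le inf_le_left)
      have h3 : 2 ∣ Nat.card (centralizer {t}) := by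
        have : orderOf (⟨t, mem_centralizer_singleton_iff.2 rfl⟩ : centralizer {t}) = 2 := by
          rw [Subgroup.orderOf_mk]; exact hto
        rw [← this]; exact orderOf_dvd_natCard _
      rcases h.good _ (h.centralizer_ne_top hs ht1) h3 r hr h1 with h' | h'
      · exact h'
      · exact absurd (h' ▸ h2) hodd
    obtain ⟨n, hn⟩ := (IsPGroup.iff_orderOf.1 hcp)
      ⟨c, Subgroup.mem_inf.2 ⟨hc, mem_centralizer_singleton_iff.2 hct.symm⟩⟩
    rw [Subgroup.orderOf_mk] at hn
    exact h.mem_of_comm_two hs hI ht ht1 hc1 ⟨n, hn⟩ hct.symm hu (hcomm c hc hct.symm)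
  have hinv : ∀ c ∈ C, t * c * t⁻¹ = c⁻¹ := ElemCent.inverts_of_fpf hto htC' hfpf
  refine ⟨?_, hinv⟩
  apply card_pow_of_forall h.hp
  intro r hr hrC
  by_contra hrp
  haveI := Fact.mk hr
  have hr2 : r ≠ 2 := fun h' => hodd (h' ▸ hrC)
  obtain ⟨e, he⟩ := exists_prime_orderOf_dvd_card' r hrC
  have he' : orderOf (e : G) = r := by rw [Subgroup.orderOf_coe]; exact he
  have he1 : (e : G) ≠ 1 := by
    intro h'
    rw [h', orderOf_one] at he'
    exact hr.one_lt.ne he'
  refine mix_sup h.hp Nat.prime_two h.hp2 h.hpG h.mix hr hrp hr2 (T := zpowers t) (R := zpowers (e : G))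
    (isPGroup_zpowers_of_sq ht2) (by rw [Ne, zpowers_eq_bot]; exact ht1)
    (IsPGroup.of_card (n := 1) (by rw [Nat.card_zpowers, he', pow_one]))
    (by rw [Ne, zpowers_eq_bot]; exact he1) (Or.inl ?_)
  rw [zpowers_le]
  haveI := Fintype.ofFinite (zpowers (e : G))
  apply mem_normalizer_fintype
  rintro _ ⟨n, rfl⟩
  change t * (e : G) ^ n * t⁻¹ ∈ zpowers (e : G)
  rw [hinv _ (C.zpow_mem e.2 n)]
  exact inv_mem (zpow_mem (mem_zpowers _) n)

end Cfsg.Agent.Lib.TwoPr
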