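import Cfsg.Agent.Lib.TwoPrE

/-!
# Groups whose mixed subgroups have order divisible by a large prime, part F (helper63):
elimination of case I by counting involutions
-/

set_option autoImplicit false

namespace Cfsg.Agent.Lib.TwoPr

open Subgroup Cfsg.Agent.Lib.SubgroupTools
open scoped Pointwise

variable {G : Type*} [Group G] [Finite G] {p a : ℕ} {Q : Subgroup G} {x : G}

theorem Core.exists_not_mem (h : Core p a G Q x) (hs : IsSimpleGroup G) {t : G} (ht1 : t ≠ 1) (ht : t * t = 1) :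
    ∃ u : G, u * u = 1 ∧ u ∉ Q := by
  by_contra hcon
  push Not at hcon
  have h1 : normalClosure {t} ≤ Q := by
    rw [normalClosure, closure_le]
    intro y hy
    obtain ⟨z, hz, hzy⟩ := Group.mem_conjugatesOfSet_iff.1 hy
    rw [Set.mem_singleton_iff] at hz
    subst hz
    obtain ⟨g, hg⟩ := isConj_iff.1 hzy
    apply hcon
    rw [← hg]
    calc g * z * g⁻¹ * (g * z * g⁻¹) = g * (z * z) * g⁻¹ := by group
      _ = 1 := by rw [ht]; group
  have h2 : normalClosure {t} = ⊤ := by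
    rcases hs.eq_bot_or_eq_top_of_normal (normalClosure {t}) inferInstance with h' | h'
    · exfalso
      have h3 : t ∈ normalClosure {t} := subset_normalClosure rfl
      rw [h'] at h3
      exact ht1 (Subgroup.mem_bot.1 h3)
    · exact h'
  rw [h2, top_le_iff] at h1
  have h3 := h.hpG
  rw [← Subgroup.card_top (G := G), ← h1, h.cardQ] at h3
  exact h.hp2 ((Nat.prime_dvd_prime_iff_eq h.hp Nat.prime_two).1 (h.hp.dvd_of_dvd_pow h3))

/-- every `p`-element is conjugate into `C(tu)` -/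
theorem Core.exists_conj_cent (h : Core p a G Q x) (hs : IsSimpleGroup G) (hI : CaseI Q) {t u : G} (ht : t ∈ Q)
    (ht1 : t ≠ 1) (hu : u * u = 1) (huQ : u ∉ Q) {T : Subgroup G} (hT : IsPGroup p T) :
    ∃ g : G, ∀ k ∈ T, g * k * g⁻¹ ∈ centralizer {t * u} := by
  haveI := Fact.mk h.hp
  obtain ⟨hC, -⟩ := h.cent_prod hs hI ht ht1 hu huQ
  obtain ⟨S0, hS0⟩ := hC.exists_le_sylow
  obtain ⟨S1, hS1⟩ := hT.exists_le_sylow
  obtain ⟨g, hg⟩ := MulAction.exists_smul_eq G S1 S0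
  refine ⟨g, fun k hk => ?_⟩
  have h1 : g * k * g⁻¹ ∈ ((g • S1 : Sylow p G) : Subgroup G) := by
    rw [Sylow.coe_subgroup_smul]
    exact ⟨k, hS1 hk, rfl⟩
  rw [hg] at h1
  rw [mem_centralizer_singleton_iff]
  exact h.ab _ S0.2 _ h1 _ (hS0 (mem_centralizer_singleton_iff.2 rfl))

theorem Core.centralizer_eq (h : Core p a G Q x) (hs : IsSimpleGroup G) (hI : CaseI Q) {t : G} (ht : t ∈ Q)
    (ht1 : t ≠ 1) : centralizer {t} = Q := by
  haveI := Fact.mk h.hp
  obtain ⟨K, hKC, hKn, hKp, hKQ, hKe⟩ := h.exists_K hs ht ht1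
  suffices hK : K = ⊥ by rw [hKQ, hK, bot_sup_eq]
  by_contra hKb
  obtain ⟨⟨k, hkK⟩, hk1'⟩ := (Subgroup.ne_bot_iff_exists_ne_one).1 hKb
  have hk1 : k ≠ 1 := fun h' => hk1' (Subtype.ext h')
  obtain ⟨u, hu, huQ⟩ := h.exists_not_mem hs ht1 (h.sq t ht)
  obtain ⟨g, hg⟩ := h.exists_conj_cent hs hI ht ht1 hu huQ hKp
  obtain ⟨hC, hinv⟩ := h.cent_prod hs hI ht ht1 hu huQ
  have h1 := hinv _ (hg k hkK)
  -- `s = g⁻¹ t g` inverts `k`
  set s : G := g⁻¹ * t * g with hsd
  have hs2 : s * s = 1 := by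
    rw [hsd]
    calc g⁻¹ * t * g * (g⁻¹ * t * g) = g⁻¹ * (t * t) * g := by group
      _ = 1 := by rw [h.sq t ht]; group
  have hsk : s * k * s⁻¹ = k⁻¹ := by
    rw [hsd]
    calc g⁻¹ * t * g * k * (g⁻¹ * t * g)⁻¹ = g⁻¹ * (t * (g * k * g⁻¹) * t⁻¹) * g := by group
      _ = g⁻¹ * (g * k * g⁻¹)⁻¹ * g := by rw [h1]
      _ = k⁻¹ := by group
  have hk : ∃ n, orderOf k = p ^ n := by
    obtain ⟨n, hn⟩ := (IsPGroup.iff_orderOf.1 hKp) ⟨k, hkK⟩
    rw [Subgroup.orderOf_mk] at hn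
    exact ⟨n, hn⟩
  have hle := h.cent_le hs hI ht ht1 hk1 hk (hKC hkK)
  have hkQ : k ∈ centralizer (Q : Set G) := hI t ht ht1 (hKC hkK)
  have hsN : s ∈ normalizer (Q : Set G) := by
    haveI := Fintype.ofFinite Q
    apply mem_normalizer_fintype
    intro q hq
    have h2 : s * q * s⁻¹ * (s * q * s⁻¹) = 1 := by
      calc s * q * s⁻¹ * (s * q * s⁻¹) = s * (q * q) * s⁻¹ := by group
        _ = 1 := by rw [h.sq q hq]; group
    apply h.mem_of_normalizer h2
    apply hle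
    rw [mem_centralizer_singleton_iff]
    have h3 : q * k = k * q := (mem_centralizer_iff.1 hkQ) q hq
    have h4 : q * k⁻¹ = k⁻¹ * q := (show Commute q k from h3).inv_right.eq
    have h5 : k = s * k⁻¹ * s⁻¹ := by
      have := congrArg (·⁻¹) hsk
      simp only [inv_inv, mul_inv_rev] at this
      rw [mul_assoc]; exact this.symm
    calc s * q * s⁻¹ * k = s * q * s⁻¹ * (s * k⁻¹ * s⁻¹) := by rw [← h5]
      _ = s * (q * k⁻¹) * s⁻¹ := by group
      _ = s * (k⁻¹ * q) * s⁻¹ := by rw [h4]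
      _ = (s * k⁻¹ * s⁻¹) * (s * q * s⁻¹) := by group
      _ = k * (s * q * s⁻¹) := by rw [← h5]
  have hsQ : s ∈ Q := h.mem_of_normalizer hs2 hsN
  have h6 : s * k = k * s := (mem_centralizer_iff.1 hkQ) s hsQ
  rw [h6, mul_inv_cancel_right] at hsk
  -- k = k⁻¹
  obtain ⟨n, hn⟩ := hk
  have h7 : orderOf k ∣ 2 := by
    apply orderOf_dvd_of_pow_eq_one
    rw [pow_two]
    nth_rw 2 [hsk]
    exact mul_inv_cancel k
  have h8 : orderOf k = 1 := by
    apply Nat.Coprime.eq_one_of_dvd _ h7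
    rw [hn]; exact Nat.Coprime.pow_left _ h.coprime
  exact hk1 (orderOf_eq_one_iff.1 h8)

/-- transitivity of `Q` -/
theorem Core.exists_conj_Q (h : Core p a G Q x) (hs : IsSimpleGroup G) (hI : CaseI Q) {t u v : G} (ht : t ∈ Q)
    (ht1 : t ≠ 1) (hu : u * u = 1) (huQ : u ∉ Q) (hv : v * v = 1) (hvQ : v ∉ Q) :
    ∃ q ∈ Q, centralizer {t * v} = MulAut.conj q • centralizer {t * u} := by
  haveI := Fact.mk h.hp
  have ht2 := h.sq t ht
  obtain ⟨hC, hinv⟩ := h.cent_prod hs hI ht ht1 hu huQ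
  obtain ⟨hC', hinv'⟩ := h.cent_prod hs hI ht ht1 hv hvQ
  obtain ⟨g, hg⟩ := h.exists_conj_cent hs hI ht ht1 hv hvQ hC
  obtain ⟨g', hg'⟩ := h.exists_conj_cent hs hI ht ht1 hu huQ hC'
  have hle : MulAut.conj g • centralizer {t * u} ≤ centralizer {t * v} := by
    intro y hy
    rw [mem_conj_smul] at hy
    have := hg _ hy
    have h1 : g * (g⁻¹ * y * g) * g⁻¹ = y := by group
    rwa [h1] at this
  have hle' : MulAut.conj g' • centralizer {t * v} ≤ centralizer {t * u} := by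
    intro y hy
    rw [mem_conj_smul] at hy
    have := hg' _ hy
    have h1 : g' * (g'⁻¹ * y * g') * g'⁻¹ = y := by group
    rwa [h1] at this
  have heq : MulAut.conj g • centralizer {t * u} = centralizer {t * v} := by
    apply Subgroup.eq_of_le_of_card_ge hle
    have h1 := Subgroup.card_le_of_le hle'
    rw [card_conj_smul] at h1 ⊢
    exact h1
  -- `s = g⁻¹ t g` inverts `C(tu)`
  set s : G := g⁻¹ * t * g with hsd
  have hsinv : ∀ c ∈ centralizer {t * u}, s * c * s⁻¹ = c⁻¹ := by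
    intro c hc
    have h1 : g * c * g⁻¹ ∈ centralizer {t * v} := hg c hc
    have h2 := hinv' _ h1
    rw [hsd]
    calc g⁻¹ * t * g * c * (g⁻¹ * t * g)⁻¹ = g⁻¹ * (t * (g * c * g⁻¹) * t⁻¹) * g := by group
      _ = g⁻¹ * (g * c * g⁻¹)⁻¹ * g := by rw [h2]
      _ = c⁻¹ := by group
  -- `t s` centralises `C(tu)`, in particular it lies in `C(tu)`
  have hts : t * s ∈ centralizer {t * u} := by
    rw [mem_centralizer_singleton_iff]
    have hc : t * u ∈ centralizer {t * u} := mem_centralizer_singleton_iff.2 rfl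
    have h1 := hsinv _ hc
    have h2 := hinv _ (inv_mem hc)
    rw [inv_inv] at h2
    have h3 : (t * s) * (t * u) * (t * s)⁻¹ = t * u := by
      calc (t * s) * (t * u) * (t * s)⁻¹ = t * (s * (t * u) * s⁻¹) * t⁻¹ := by group
        _ = t * (t * u)⁻¹ * t⁻¹ := by rw [h1]
        _ = t * u := h2
    exact mul_inv_eq_iff_eq_mul.1 h3
  -- take the square root
  obtain ⟨n, hn⟩ := (IsPGroup.iff_orderOf.1 hC) ⟨t * s, hts⟩
  rw [Subgroup.orderOf_mk] at hn
  have hcop : Nat.Coprime (orderOf (t * s)) 2 := by rw [hn]; exact Nat.Coprime.pow_left _ h.coprime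
  obtain ⟨m, hm⟩ := exists_pow_eq_self_of_coprime (n := 2) hcop.symm
  -- w = (t s)^m, w^2 = t s
  set w : G := (t * s) ^ m with hw
  have hw2 : w * w = t * s := by
    rw [hw, ← pow_add, ← two_mul, pow_mul]
    exact hm
  have hwC : w ∈ centralizer {t * u} := pow_mem hts m
  -- s = t w w = w⁻¹ t w
  have hti : t⁻¹ = t := inv_eq_of_mul_eq_one_left ht2
  have htw : t * w * t⁻¹ = w⁻¹ := hinv w hwC
  have hsw : s = w⁻¹ * t * w := by
    have h1 : s = t * (w * w) := by rw [hw2, ← mul_assoc, ht2, one_mul]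
    rw [h1, ← htw]
    rw [hti, mul_assoc (t * w) t t, ht2, mul_one, mul_assoc]
  refine ⟨g * w⁻¹, ?_, ?_⟩
  · rw [← h.centralizer_eq hs hI ht ht1, mem_centralizer_singleton_iff]
    have h1 : g * s = t * g := by rw [hsd]; group
    have h2 : w * s = t * w := by rw [hsw]; group
    have h3 : w⁻¹ * t = s * w⁻¹ := by
      rw [inv_mul_eq_iff_eq_mul, ← mul_assoc, h2, mul_inv_cancel_right]
    calc g * w⁻¹ * t = g * (w⁻¹ * t) := by group
      _ = (g * s) * w⁻¹ := by rw [h3]; group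
      _ = t * (g * w⁻¹) := by rw [h1]; group
  · rw [conj_smul_mul, conj_smul_self_of_mem (inv_mem hwC), heq]

end Cfsg.Agent.Lib.TwoPr
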