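import Cfsg.Agent.Lib.TwoPrF

/-!
# Groups whose mixed subgroups have order divisible by a large prime, part G (helper63):
elimination of case I by counting involutions
-/

set_option autoImplicit false

namespace Cfsg.Agent.Lib.TwoPr

open Subgroup Cfsg.Agent.Lib.SubgroupTools
open scoped Pointwise

variable {G : Type*} [Group G] [Finite G] {p a : ℕ} {Q : Subgroup G} {x : G}

theorem Core.caseI_false (h : Core p a G Q x) (hs : IsSimpleGroup G) (hI : CaseI Q) : False := by
  classical
  haveI := Fact.mk h.hp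
  haveI : Fact (Nat.Prime 2) := ⟨Nat.prime_two⟩
  obtain ⟨t, ht, ht1⟩ := h.exists_ne
  have ht2 := h.sq t ht
  obtain ⟨u₀, hu₀, hu₀Q⟩ := h.exists_not_mem hs ht1 ht2
  set b₀ : Subgroup G := centralizer {t * u₀} with hb₀
  set S : Set G := {u : G | u * u = 1 ∧ u ∉ Q} with hS
  set I : Set G := {u : G | u * u = 1 ∧ u ≠ 1} with hI'
  -- Step a
  have hIorb : I = MulAction.orbit (ConjAct G) t := by
    ext u
    rw [ConjAct.mem_orbit_conjAct, isConj_iff]
    constructor
    · rintro ⟨hu2, hu1⟩
      obtain ⟨g, hg⟩ := h.exists_conj_elem hu2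
      have hg1 : g * u * g⁻¹ ≠ 1 := by rw [Ne, mul_inv_eq_one, mul_eq_left]; exact hu1
      obtain ⟨z, _, hz⟩ := h.trans _ hg hg1 t ht ht1
      exact ⟨z * g, by rw [← hz]; group⟩
    · rintro ⟨g, hg⟩
      have hu : u = g⁻¹ * t * g := by rw [← hg]; group
      constructor
      · rw [hu]
        calc g⁻¹ * t * g * (g⁻¹ * t * g) = g⁻¹ * (t * t) * g := by group
          _ = 1 := by rw [ht2]; group
      · rintro rfl
        apply ht1
        rw [← hg]; group
  have hIcard : I.ncard * 2 ^ a = Nat.card G := by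
    rw [hIorb, ← MulAction.index_stabilizer, ← h.cardQ, ← h.centralizer_eq hs hI ht ht1,
      Subgroup.nat_card_centralizer_nat_card_stabilizer, mul_comm]
    exact Subgroup.card_mul_index _
  have hpI : p ∣ I.ncard := by
    have h1 := h.hpG
    rw [← hIcard] at h1
    rcases (h.hp.dvd_mul).1 h1 with h2 | h2
    · exact h2
    · exact absurd ((Nat.prime_dvd_prime_iff_eq h.hp Nat.prime_two).1 (h.hp.dvd_of_dvd_pow h2)) h.hp2
  -- Step b
  have hIS : I.ncard = S.ncard + p := by
    have h1 : I = S ∪ ((Q : Set G) \ {1}) := by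
      ext u
      simp only [hI', hS, Set.mem_setOf_eq, Set.mem_union, Set.mem_diff, SetLike.mem_coe, Set.mem_singleton_iff]
      constructor
      · rintro ⟨h1, h2⟩
        by_cases hu : u ∈ Q
        · exact Or.inr ⟨hu, h2⟩
        · exact Or.inl ⟨h1, hu⟩
      · rintro (⟨h1, h2⟩ | ⟨h1, h2⟩)
        · exact ⟨h1, fun h' => h2 (h' ▸ Q.one_mem)⟩
        · exact ⟨h.sq u h1, h2⟩
    have h2 : Disjoint S ((Q : Set G) \ {1}) := by
      rw [Set.disjoint_left]
      rintro u ⟨_, hu⟩ hu'
      exact hu hu'.1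
    have h3 : ((Q : Set G) \ {1}).ncard = p := by
      rw [Set.ncard_diff_singleton_of_mem Q.one_mem]
      have : (Q : Set G).ncard = 2 ^ a := by
        rw [← h.cardQ]; exact (Nat.card_coe_set_eq _).symm
      have := h.hpa
      omega
    rw [h1, Set.ncard_union_eq h2, h3]
  have hpS : p ∣ S.ncard := by
    rw [hIS] at hpI
    exact (Nat.dvd_add_left (dvd_refl p)).1 hpI
  -- Step c
  letI : MulAction Q (Subgroup G) := MulAction.compHom _ ((MulAut.conj).comp Q.subtype)
  have hact : ∀ (q : Q) (b : Subgroup G), q • b = MulAut.conj (q : G) • b := fun q b => rfl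
  obtain ⟨n, hn⟩ := h.isTwo.card_orbit b₀
  have hconj : ∀ q ∈ Q, ∀ u : G, MulAut.conj q • (centralizer {t * u} : Subgroup G)
      = centralizer {t * (q * u * q⁻¹)} := by
    intro q hq u
    have hqt : q * t = t * q := h.comm hq ht
    have h1 : t * (q * u * q⁻¹) = q * (t * u) * q⁻¹ := by
      calc t * (q * u * q⁻¹) = (t * q) * u * q⁻¹ := by group
        _ = q * (t * u) * q⁻¹ := by rw [← hqt]; group
    ext y
    rw [mem_conj_smul, mem_centralizer_singleton_iff, mem_centralizer_singleton_iff, h1]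
    constructor
    · intro h2
      calc y * (q * (t * u) * q⁻¹) = q * ((q⁻¹ * y * q) * (t * u)) * q⁻¹ := by group
        _ = q * (t * u) * q⁻¹ * y := by rw [h2]; group
    · intro h2
      calc (q⁻¹ * y * q) * (t * u) = q⁻¹ * (y * (q * (t * u) * q⁻¹)) * q := by group
        _ = (t * u) * (q⁻¹ * y * q) := by rw [h2]; group
  have hmaps : ∀ u ∈ S, centralizer {t * u} ∈ MulAction.orbit Q b₀ := by
    rintro u ⟨hu, huQ⟩
    obtain ⟨q, hq, hqe⟩ := h.exists_conj_Q hs hI ht ht1 hu₀ hu₀Q hu huQ
    exact ⟨⟨q, hq⟩, hqe.symm⟩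
  have hfib : ∀ b ∈ MulAction.orbit Q b₀, {u ∈ S | centralizer {t * u} = b}.ncard = Nat.card b₀ - 1 := by
    rintro b ⟨q, hqb⟩
    change MulAut.conj (q : G) • b₀ = b at hqb
    have hqb' := hqb
    rw [hb₀, hconj q q.2] at hqb
    set u₁ : G := q * u₀ * (q : G)⁻¹ with hu₁
    have hu₁2 : u₁ * u₁ = 1 := by
      rw [hu₁]
      calc (q : G) * u₀ * (q : G)⁻¹ * (q * u₀ * (q : G)⁻¹) = q * (u₀ * u₀) * (q : G)⁻¹ := by group
        _ = 1 := by rw [hu₀]; group
    have hu₁Q : u₁ ∉ Q := by
      intro h'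
      apply hu₀Q
      have h1 := Q.mul_mem (Q.mul_mem (Q.inv_mem q.2) h') q.2
      have h2 : (q : G)⁻¹ * u₁ * q = u₀ := by rw [hu₁]; group
      rwa [h2] at h1
    obtain ⟨hbp, hbinv⟩ := h.cent_prod hs hI ht ht1 hu₁2 hu₁Q
    rw [hqb] at hbp hbinv
    have himg : (fun u => t * u) '' {u ∈ S | centralizer {t * u} = b} = (b : Set G) \ {1} := by
      ext c
      constructor
      · rintro ⟨u, ⟨⟨hu, huQ⟩, hub⟩, rfl⟩
        refine ⟨?_, ?_⟩
        · rw [← hub]
          exact mem_centralizer_singleton_iff.2 rfl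
        · intro h'
          apply huQ
          have h1 : t * u = 1 := h'
          have h2 : u = t⁻¹ := (eq_inv_of_mul_eq_one_right h1)
          rw [h2]; exact Q.inv_mem ht
      · rintro ⟨hcb, hc1⟩
        have hc1' : c ≠ 1 := hc1
        have h1 : t * (t * c) = c := by rw [← mul_assoc, ht2, one_mul]
        have hti : t⁻¹ = t := inv_eq_of_mul_eq_one_left ht2
        have h2 : (t * c) * (t * c) = 1 := by
          have h3 := hbinv c hcb
          rw [hti] at h3
          calc (t * c) * (t * c) = (t * c * t) * c := by group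
            _ = 1 := by rw [h3, inv_mul_cancel]
        have h3 : t * c ∉ Q := by
          intro h'
          apply hc1'
          have h4 := Q.mul_mem ht h'
          rw [h1] at h4
          exact h.eq_one_of_mem hbp h4 hcb
        refine ⟨t * c, ⟨⟨h2, h3⟩, ?_⟩, h1⟩
        have h5 : b ≤ centralizer {t * (t * c)} := by
          intro y hy
          rw [h1, mem_centralizer_singleton_iff]
          exact h.ab b hbp y hy c hcb
        symm
        apply Subgroup.eq_of_le_of_card_ge h5
        obtain ⟨q', hq', hqe'⟩ := h.exists_conj_Q hs hI ht ht1 hu₀ hu₀Q h2 h3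
        rw [hqe', card_conj_smul, ← hqb', card_conj_smul]
    have h1 : ((fun u => t * u) '' {u ∈ S | centralizer {t * u} = b}).ncard
        = {u ∈ S | centralizer {t * u} = b}.ncard :=
      Set.ncard_image_of_injective _ (mul_right_injective t)
    rw [← h1, himg, Set.ncard_diff_singleton_of_mem b.one_mem]
    have h2 : (b : Set G).ncard = Nat.card b := (Nat.card_coe_set_eq _).symm
    rw [h2, ← hqb', card_conj_smul]
  have hScard : S.ncard = 2 ^ n * (Nat.card b₀ - 1) := by
    haveI := Fintype.ofFinite G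
    have h1 := Finset.card_eq_sum_card_fiberwise (s := S.toFinset) (t := (MulAction.orbit Q b₀).toFinset)
      (f := fun u => (centralizer {t * u} : Subgroup G)) (by
        intro u hu
        rw [Finset.mem_coe, Set.mem_toFinset] at hu
        rw [Finset.mem_coe, Set.mem_toFinset]
        exact hmaps u hu)
    rw [Set.ncard_eq_toFinset_card', h1]
    have h2 : ∀ b ∈ (MulAction.orbit Q b₀).toFinset,
        (S.toFinset.filter (fun u => (centralizer {t * u} : Subgroup G) = b)).card = Nat.card b₀ - 1 := by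
      intro b hb
      rw [Set.mem_toFinset] at hb
      rw [← hfib b hb, Set.ncard_eq_toFinset_card']
      congr 1
      ext u
      simp
    rw [Finset.sum_congr rfl h2, Finset.sum_const, smul_eq_mul, ← Set.ncard_eq_toFinset_card',
      ← Nat.card_coe_set_eq, hn]
  rw [hScard] at hpS
  rcases (h.hp.dvd_mul).1 hpS with h2 | h2
  · exact absurd ((Nat.prime_dvd_prime_iff_eq h.hp Nat.prime_two).1 (h.hp.dvd_of_dvd_pow h2)) h.hp2
  · obtain ⟨hbp, hbinv⟩ := h.cent_prod hs hI ht ht1 hu₀ hu₀Q
    obtain ⟨m, hm⟩ := IsPGroup.iff_card.1 hbp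
    have hm0 : m ≠ 0 := by
      rintro rfl
      rw [pow_zero, Subgroup.card_eq_one] at hm
      have h3 : t * u₀ ∈ centralizer {t * u₀} := mem_centralizer_singleton_iff.2 rfl
      rw [hm] at h3
      apply hu₀Q
      have h4 : t * u₀ = 1 := Subgroup.mem_bot.1 h3
      have h5 : u₀ = t⁻¹ := (eq_inv_of_mul_eq_one_right h4)
      rw [h5]; exact Q.inv_mem ht
    have h4 : p ∣ Nat.card b₀ := by rw [hm]; exact dvd_pow_self p hm0
    have h5 : 1 ≤ Nat.card b₀ := Nat.card_pos
    have h6 : p ∣ 1 := by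
      have := Nat.dvd_sub h4 h2
      rwa [Nat.sub_sub_self h5] at this
    exact h.hp.one_lt.ne' (Nat.dvd_one.1 h6)

end Cfsg.Agent.Lib.TwoPr
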