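import Cfsg.Agent.Lib.TwoPrG

/-!
# Groups whose mixed subgroups have order divisible by a large prime, part H (helper63):
Sylow 2-subgroups of order at least 8 lead to case I
-/

set_option autoImplicit false

namespace Cfsg.Agent.Lib.TwoPr

open Subgroup Cfsg.Agent.Lib.SubgroupTools
open scoped Pointwise

variable {G : Type*} [Group G] [Finite G] {p a : ℕ} {Q : Subgroup G} {x : G}

/-- Generation by the centralizers of the subgroups of index at most 2. -/
theorem Core.le_of_forall (h : Core p a G Q x) {V H : Subgroup G} (hV : IsPGroup p V)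
    (hQV : Q ≤ normalizer (V : Set G))
    (hH : ∀ B : Subgroup G, B ≤ Q → Nat.card Q ≤ 2 * Nat.card B → V ⊓ centralizer (B : Set G) ≤ H) :
    V ≤ H := by
  have key : ∀ n : ℕ, ∀ B : Subgroup G, B ≤ Q → Nat.card Q - Nat.card B ≤ n →
      V ⊓ centralizer (B : Set G) ≤ H := by
    intro n
    induction n with
    | zero =>
      intro B hB hn
      apply hH B hB
      have : 0 < Nat.card B := Nat.card_pos
      omega
    | succ n ih =>
      intro B hB hn
      by_cases hle : Nat.card Q ≤ 2 * Nat.card B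
      · exact hH B hB hle
      push Not at hle
      have hBQ : ¬ Q ≤ B := by
        intro h'
        have h1 := Subgroup.card_le_of_le h'
        have : 0 < Nat.card B := Nat.card_pos
        omega
      obtain ⟨s, hs, hsB⟩ := SetLike.not_le_iff_exists.1 hBQ
      have hs2 := h.sq s hs
      have hsz : Nat.card (zpowers s) = 2 := by
        rw [Nat.card_zpowers]
        apply orderOf_eq_prime (by rw [pow_two]; exact hs2)
        rintro rfl
        exact hsB B.one_mem
      have hcom : ∀ C D : Subgroup G, C ≤ Q → D ≤ Q → C ≤ normalizer (D : Set G) := by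
        intro C D hC hD c hc
        apply centralizer_le_normalizer
        rw [mem_centralizer_iff]
        intro d hd
        exact h.comm (hD hd) (hC hc)
      have hsQ : zpowers s ≤ Q := (zpowers_le).2 hs
      have hB1 : ¬ Q ≤ B ⊔ zpowers s := by
        intro h'
        have h1 := Subgroup.card_le_of_le h'
        have h2 := card_sup_mul_card_inf (hcom (zpowers s) B hsQ hB)
        have h3 : 0 < Nat.card (B ⊓ zpowers s : Subgroup G) := Nat.card_pos
        rw [hsz] at h2
        nlinarith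
      obtain ⟨s', hs', hs'B⟩ := SetLike.not_le_iff_exists.1 hB1
      have hs'2 := h.sq s' hs'
      have hs'B' : s' ∉ B := fun h' => hs'B (mem_sup_left h')
      have hss'B : s * s' ∉ B := by
        intro h'
        apply hs'B
        have h1 : s' = (s * s') * s := by
          rw [h.comm hs hs', mul_assoc, hs2, mul_one]
        rw [h1]
        exact mul_mem (mem_sup_left h') (mem_sup_right (mem_zpowers s))
      -- the induction hypothesis for elements
      have hstep : ∀ r ∈ Q, r ∉ B → ∀ v ∈ V, v ∈ centralizer (B : Set G) → r * v = v * r → v ∈ H := by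
        intro r hr hrB v hv hvB hrv
        have hr' : zpowers r ≤ Q := (zpowers_le).2 hr
        have hlt : B < B ⊔ zpowers r :=
          lt_of_le_of_ne le_sup_left (fun h' => hrB (by rw [h']; exact mem_sup_right (mem_zpowers r)))
        have hlt' : Nat.card B < Nat.card (B ⊔ zpowers r : Subgroup G) := by
          by_contra h'
          push Not at h'
          exact hlt.ne (Subgroup.eq_of_le_of_card_ge hlt.le h')
        apply ih (B ⊔ zpowers r) (sup_le hB hr') (by omega)
        refine Subgroup.mem_inf.2 ⟨hv, ?_⟩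
        have h1 : (B ⊔ zpowers r : Subgroup G) ≤ centralizer {v} := by
          refine sup_le ?_ ((zpowers_le).2 (mem_centralizer_singleton_iff.2 hrv))
          intro y hy
          rw [mem_centralizer_singleton_iff]
          exact (mem_centralizer_iff.1 hvB) y hy
        rw [mem_centralizer_iff]
        intro y hy
        exact mem_centralizer_singleton_iff.1 (h1 hy)
      intro v hv
      obtain ⟨hvV, hvB⟩ := Subgroup.mem_inf.1 hv
      -- conjugation by elements of `Q` preserves `V ⊓ C(B)`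
      have hcV : ∀ r ∈ Q, ∀ v ∈ V, r * v * r⁻¹ ∈ V := fun r hr v hv =>
        (mem_normalizer_iff.1 (hQV hr) v).1 hv
      have hcB : ∀ r ∈ Q, ∀ v ∈ centralizer (B : Set G), r * v * r⁻¹ ∈ centralizer (B : Set G) := by
        intro r hr v hv
        rw [mem_centralizer_iff] at hv ⊢
        intro b hb
        have h1 : b * r = r * b := h.comm (hB hb) hr
        have h2 := hv b hb
        have h3 : b * r⁻¹ = r⁻¹ * b := (show Commute b r from h1).inv_right.eq
        calc b * (r * v * r⁻¹) = (b * r) * v * r⁻¹ := by group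
          _ = r * (b * v) * r⁻¹ := by rw [h1]; group
          _ = r * v * (b * r⁻¹) := by rw [h2]; group
          _ = r * v * r⁻¹ * b := by rw [h3]; group
      have hVab : ∀ v ∈ V, ∀ w ∈ V, v * w = w * v := h.ab V hV
      set v1 : G := s * v * s⁻¹ with hv1
      have hv1V : v1 ∈ V := hcV s hs v hvV
      have hv1B : v1 ∈ centralizer (B : Set G) := hcB s hs v hvB
      have hsv1 : s * v1 * s⁻¹ = v := by
        rw [hv1]
        calc s * (s * v * s⁻¹) * s⁻¹ = (s * s) * v * (s * s)⁻¹ := by group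
          _ = v := by rw [hs2]; simp
      -- `w1 = v v1` commutes with `s`
      have hw1 : v * v1 ∈ H := by
        apply hstep s hs hsB _ (V.mul_mem hvV hv1V) (mul_mem hvB hv1B)
        rw [← mul_inv_eq_iff_eq_mul]
        calc s * (v * v1) * s⁻¹ = (s * v * s⁻¹) * (s * v1 * s⁻¹) := by group
          _ = v1 * v := by rw [hsv1]
          _ = v * v1 := hVab _ hv1V _ hvV
      set w : G := v * v1⁻¹ with hw
      have hwV : w ∈ V := V.mul_mem hvV (V.inv_mem hv1V)
      have hwB : w ∈ centralizer (B : Set G) := mul_mem hvB (inv_mem hv1B)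
      have hsw : s * w * s⁻¹ = w⁻¹ := by
        calc s * w * s⁻¹ = (s * v * s⁻¹) * (s * v1 * s⁻¹)⁻¹ := by rw [hw]; group
          _ = v1 * v⁻¹ := by rw [hsv1]
          _ = w⁻¹ := by rw [hw]; group
      set w' : G := s' * w * s'⁻¹ with hw'
      have hw'V : w' ∈ V := hcV s' hs' w hwV
      have hw'B : w' ∈ centralizer (B : Set G) := hcB s' hs' w hwB
      have hs'w' : s' * w' * s'⁻¹ = w := by
        rw [hw']
        calc s' * (s' * w * s'⁻¹) * s'⁻¹ = (s' * s') * w * (s' * s')⁻¹ := by group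
          _ = w := by rw [hs'2]; simp
      have hw2 : w * w' ∈ H := by
        apply hstep s' hs' hs'B' _ (V.mul_mem hwV hw'V) (mul_mem hwB hw'B)
        rw [← mul_inv_eq_iff_eq_mul]
        calc s' * (w * w') * s'⁻¹ = (s' * w * s'⁻¹) * (s' * w' * s'⁻¹) := by group
          _ = w' * w := by rw [hs'w']
          _ = w * w' := hVab _ hw'V _ hwV
      have hsw' : s * w' * s⁻¹ = w'⁻¹ := by
        have h1 : s * s' = s' * s := h.comm hs hs'
        calc s * w' * s⁻¹ = (s * s') * w * (s * s')⁻¹ := by rw [hw']; group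
          _ = (s' * s) * w * (s' * s)⁻¹ := by rw [h1]
          _ = s' * (s * w * s⁻¹) * s'⁻¹ := by group
          _ = w'⁻¹ := by rw [hsw, hw']; group
      have hw3 : w * w'⁻¹ ∈ H := by
        apply hstep (s * s') (Q.mul_mem hs hs') hss'B _ (V.mul_mem hwV (V.inv_mem hw'V)) (mul_mem hwB (inv_mem hw'B))
        rw [← mul_inv_eq_iff_eq_mul]
        calc s * s' * (w * w'⁻¹) * (s * s')⁻¹
            = s * ((s' * w * s'⁻¹) * (s' * w' * s'⁻¹)⁻¹) * s⁻¹ := by group
          _ = s * (w' * w⁻¹) * s⁻¹ := by rw [hs'w']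
          _ = (s * w' * s⁻¹) * (s * w * s⁻¹)⁻¹ := by group
          _ = w'⁻¹ * w := by rw [hsw', hsw, inv_inv]
          _ = w * w'⁻¹ := hVab _ (V.inv_mem hw'V) _ hwV
      -- v ^ 4
      have hv4 : v ^ 4 ∈ H := by
        have h1 : Commute v v1⁻¹ := (show Commute v v1 from hVab v hvV v1 hv1V).inv_right
        have h2 : Commute v v1 := hVab v hvV v1 hv1V
        have h3 : Commute w w'⁻¹ := (show Commute w w' from hVab w hwV w' hw'V).inv_right
        have h4 : Commute w w' := hVab w hwV w' hw'V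
        have h5 : w ^ 2 = (w * w') * (w * w'⁻¹) := by
          calc w ^ 2 = w * (w' * w'⁻¹) * w := by rw [pow_two]; simp
            _ = w * w' * (w'⁻¹ * w) := by group
            _ = (w * w') * (w * w'⁻¹) := by rw [h3.eq]
        have h6 : v ^ 4 = (v * v1) ^ 2 * w ^ 2 := by
          rw [hw, h2.mul_pow, h1.mul_pow]
          have h7 : Commute (v ^ 2) (v1 ^ 2) := h2.pow_pow 2 2
          calc v ^ 4 = v ^ 2 * v ^ 2 := by rw [← pow_add]
            _ = v ^ 2 * ((v1 ^ 2) * (v1 ^ 2)⁻¹) * v ^ 2 := by rw [mul_inv_cancel, mul_one]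
            _ = v ^ 2 * v1 ^ 2 * ((v1 ^ 2)⁻¹ * v ^ 2) := by group
            _ = v ^ 2 * v1 ^ 2 * (v ^ 2 * v1⁻¹ ^ 2) := by rw [inv_pow, h7.inv_right.eq]
        rw [h6, h5]
        exact H.mul_mem (H.pow_mem hw1 2) (H.mul_mem hw2 hw3)
      haveI := Fact.mk h.hp
      obtain ⟨n, hn⟩ := (IsPGroup.iff_orderOf.1 hV) ⟨v, hvV⟩
      rw [Subgroup.orderOf_mk] at hn
      have hcop : Nat.Coprime 4 (orderOf v) := by
        rw [hn]
        exact Nat.Coprime.pow_right _ (Nat.Coprime.pow_left 2 h.coprime.symm : Nat.Coprime (2 ^ 2) p)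
      obtain ⟨m, hm⟩ := exists_pow_eq_self_of_coprime hcop
      rw [← hm]
      exact H.pow_mem hv4 m
  have h1 := key (Nat.card Q - Nat.card (⊥ : Subgroup G)) ⊥ bot_le le_rfl
  intro v hv
  apply h1
  refine Subgroup.mem_inf.2 ⟨hv, ?_⟩
  rw [mem_centralizer_iff]
  intro y hy
  rw [Subgroup.mem_bot.1 hy]; simp

theorem Core.comm_K (h : Core p a G Q x) (hs : IsSimpleGroup G) (ha : 3 ≤ a) {t u : G} (ht : t ∈ Q)
    (ht1 : t ≠ 1) (hu : u ∈ Q) (hu1 : u ≠ 1) {y z : G} (hy : y ∈ centralizer {t})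
    (hyp : ∃ n, orderOf y = p ^ n) (hz : z ∈ centralizer {u}) (hzp : ∃ n, orderOf z = p ^ n) : y * z = z * y := by
  haveI := Fact.mk h.hp
  obtain ⟨K, hKC, hKn, hKp, hKQ, hKe⟩ := h.exists_K hs ht ht1
  obtain ⟨L, hLC, hLn, hLp, hLQ, hLe⟩ := h.exists_K hs hu hu1
  have hyK := hKe y hy hyp
  have hzL := hLe z hz hzp
  have hQC : ∀ t ∈ Q, Q ≤ centralizer {t} := by
    intro t ht v hv
    rw [mem_centralizer_singleton_iff]
    exact h.comm hv ht
  have hcom : ∀ C D : Subgroup G, C ≤ Q → D ≤ Q → C ≤ normalizer (D : Set G) := by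
    intro C D hC hD c hc
    apply centralizer_le_normalizer
    rw [mem_centralizer_iff]
    intro d hd
    exact h.comm (hD hd) (hC hc)
  have hmain : K ≤ centralizer {z} := by
    apply h.le_of_forall hKp ((hQC t ht).trans hKn)
    intro B hB hBc y' hy'
    obtain ⟨hy'K, hy'B⟩ := Subgroup.mem_inf.1 hy'
    have h1 : L ≤ centralizer {y'} := by
      apply h.le_of_forall hLp ((hQC u hu).trans hLn)
      intro B' hB' hB'c z' hz'
      obtain ⟨hz'L, hz'B⟩ := Subgroup.mem_inf.1 hz'
      have hne : B ⊓ B' ≠ ⊥ := by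
        intro h'
        have h2 := card_sup_of_disjoint (hcom B' B hB' hB) (disjoint_iff.2 h')
        have h3 := Subgroup.card_le_of_le (sup_le hB hB')
        rw [h2] at h3
        have h4 : 8 ≤ Nat.card Q := by
          rw [h.cardQ]
          calc 8 = 2 ^ 3 := by norm_num
            _ ≤ 2 ^ a := Nat.pow_le_pow_right (by norm_num) ha
        nlinarith
      obtain ⟨⟨r, hr⟩, hr1⟩ := (Subgroup.ne_bot_iff_exists_ne_one).1 hne
      have hr1' : r ≠ 1 := fun h' => hr1 (Subtype.ext h')
      obtain ⟨hrB, hrB'⟩ := Subgroup.mem_inf.1 hr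
      obtain ⟨M, hMC, hMn, hMp, hMQ, hMe⟩ := h.exists_K hs (hB hrB) hr1'
      obtain ⟨n, hn⟩ := (IsPGroup.iff_orderOf.1 hKp) ⟨y', hy'K⟩
      rw [Subgroup.orderOf_mk] at hn
      obtain ⟨m, hm⟩ := (IsPGroup.iff_orderOf.1 hLp) ⟨z', hz'L⟩
      rw [Subgroup.orderOf_mk] at hm
      have h5 : y' ∈ M := hMe y' (mem_centralizer_singleton_iff.2
        ((mem_centralizer_iff.1 hy'B) r hrB).symm) ⟨n, hn⟩
      have h6 : z' ∈ M := hMe z' (mem_centralizer_singleton_iff.2
        ((mem_centralizer_iff.1 hz'B) r hrB').symm) ⟨m, hm⟩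
      rw [mem_centralizer_singleton_iff]
      exact h.ab M hMp z' h6 y' h5
    rw [mem_centralizer_singleton_iff]
    exact (mem_centralizer_singleton_iff.1 (h1 hzL)).symm
  exact mem_centralizer_singleton_iff.1 (hmain hyK)

theorem Core.caseI_of_three_le (h : Core p a G Q x) (hs : IsSimpleGroup G) (ha : 3 ≤ a) : CaseI Q := by
  haveI := Fact.mk h.hp
  set Y : Set G := {y : G | (∃ n, orderOf y = p ^ n) ∧ ∃ t ∈ Q, t ≠ 1 ∧ y ∈ centralizer {t}} with hY
  have hYc : ∀ y ∈ Y, ∀ z ∈ Y, y * z = z * y := by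
    rintro y ⟨hyp, t, ht, ht1, hyt⟩ z ⟨hzp, u, hu, hu1, hzu⟩
    exact h.comm_K hs ha ht ht1 hu hu1 hyt hyp hzu hzp
  have hYW : closure Y ≤ centralizer (Y : Set G) := by
    rw [closure_le]
    intro y hy
    rw [SetLike.mem_coe, mem_centralizer_iff]
    intro z hz
    exact hYc z hz y hy
  have hWc : ∀ y ∈ closure Y, ∀ z ∈ closure Y, y * z = z * y := by
    intro y hy z hz
    have h1 : closure Y ≤ centralizer {y} := by
      rw [closure_le]
      intro w hw
      rw [SetLike.mem_coe, mem_centralizer_singleton_iff]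
      exact (mem_centralizer_iff.1 (hYW hy)) w hw
    exact (mem_centralizer_singleton_iff.1 (h1 hz)).symm
  have hWp : IsPGroup p (closure Y) := by
    rintro ⟨w, hw⟩
    suffices h1 : ∃ n, w ^ p ^ n = 1 by
      obtain ⟨n, hn⟩ := h1
      exact ⟨n, Subtype.ext hn⟩
    induction hw using Subgroup.closure_induction with
    | mem y hy =>
      obtain ⟨⟨n, hn⟩, -⟩ := hy
      exact ⟨n, by rw [← hn]; exact pow_orderOf_eq_one y⟩
    | one => exact ⟨0, one_pow _⟩
    | mul y z hy hz ihy ihz =>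
      obtain ⟨n, hn⟩ := ihy
      obtain ⟨m, hm⟩ := ihz
      refine ⟨n + m, ?_⟩
      have h1 : Commute y z := hWc y hy z hz
      rw [h1.mul_pow, pow_add, pow_mul, hn, one_pow, one_mul, mul_comm, pow_mul, hm, one_pow]
    | inv y hy ih =>
      obtain ⟨n, hn⟩ := ih
      exact ⟨n, by rw [inv_pow, hn, inv_one]⟩
  have hxY : ∀ y ∈ Y, x * y * x⁻¹ ∈ Y := by
    rintro y ⟨⟨n, hn⟩, t, ht, ht1, hyt⟩
    refine ⟨⟨n, by rw [← hn]; exact (MulAut.conj x).orderOf_eq y⟩, x * t * x⁻¹,
      (mem_normalizer_iff.1 h.xN t).1 ht, ?_, ?_⟩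
    · rw [Ne, mul_inv_eq_one, mul_eq_left]; exact ht1
    · rw [mem_centralizer_singleton_iff] at hyt ⊢
      calc x * y * x⁻¹ * (x * t * x⁻¹) = x * (y * t) * x⁻¹ := by group
        _ = x * t * x⁻¹ * (x * y * x⁻¹) := by rw [hyt]; group
  have hxW : x ∈ normalizer (closure Y : Set G) := by
    haveI := Fintype.ofFinite (closure Y)
    apply mem_normalizer_fintype
    intro y hy
    induction hy using Subgroup.closure_induction with
    | mem y hy => exact subset_closure (hxY y hy)
    | one => simp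
    | mul y z hy hz ihy ihz =>
      have : x * (y * z) * x⁻¹ = (x * y * x⁻¹) * (x * z * x⁻¹) := by group
      rw [this]; exact mul_mem ihy ihz
    | inv y hy ih =>
      have : x * y⁻¹ * x⁻¹ = (x * y * x⁻¹)⁻¹ := by group
      rw [this]; exact inv_mem ih
  have hWx : IsPGroup p (closure Y ⊔ zpowers x : Subgroup G) :=
    hWp.to_sup_of_normal_left' h.x_pgroup ((zpowers_le).2 hxW)
  intro t ht ht1
  obtain ⟨K, hKC, hKn, hKp, hKQ, hKe⟩ := h.exists_K hs ht ht1
  rw [hKQ]
  refine sup_le ?_ ?_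
  · intro y hy
    rw [mem_centralizer_iff]
    intro u hu
    by_cases hu1 : u = 1
    · rw [hu1, one_mul, mul_one]
    obtain ⟨g, hg, hgu⟩ := h.trans t ht ht1 u hu hu1
    obtain ⟨n, hn⟩ := (IsPGroup.iff_orderOf.1 hKp) ⟨y, hy⟩
    rw [Subgroup.orderOf_mk] at hn
    have hyY : y ∈ Y := ⟨⟨n, hn⟩, t, ht, ht1, hKC hy⟩
    have h1 : g * y = y * g := h.ab _ hWx g (mem_sup_right hg) y (mem_sup_left (subset_closure hyY))
    have h2 : y * t = t * y := mem_centralizer_singleton_iff.1 (hKC hy)
    have h3 : y * g⁻¹ = g⁻¹ * y := (show Commute y g from h1.symm).inv_right.eq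
    rw [← hgu]
    calc g * t * g⁻¹ * y = g * t * (y * g⁻¹) := by rw [h3]; group
      _ = g * (y * t) * g⁻¹ := by rw [h2]; group
      _ = (g * y) * t * g⁻¹ := by group
      _ = y * (g * t * g⁻¹) := by rw [h1]; group
  · intro q hq
    rw [mem_centralizer_iff]
    intro u hu
    exact h.comm hu hq

end Cfsg.Agent.Lib.TwoPr
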