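import Cfsg.Agent.Lib.TwoPrH
import Cfsg.Agent.S4018

/-!
# Groups whose mixed subgroups have order divisible by a large prime, part I (helper63):
Sylow 2-subgroups of order 4
-/

set_option autoImplicit false

namespace Cfsg.Agent.Lib.TwoPr

open Subgroup Cfsg.Agent.Lib.SubgroupTools
open scoped Pointwise

variable {G : Type*} [Group G] [Finite G] {p a : ℕ} {Q : Subgroup G} {x : G}

/-- A `p`-element normalising `Q` and centralising a nontrivial element of `Q` centralises `Q`. -/
theorem Core.cent_of_norm (h : Core p a G Q x) {y : G} (hy : ∃ n, orderOf y = p ^ n)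
    (hyN : y ∈ normalizer (Q : Set G)) {t : G} (ht : t ∈ Q) (ht1 : t ≠ 1) (hyt : y * t = t * y) :
    y ∈ centralizer (Q : Set G) := by
  by_contra hyQ
  obtain ⟨n, hn⟩ := hy
  obtain ⟨m, hm, hpm⟩ := exists_quot h.hp Nat.prime_two h.hp2 h.isTwo hyN hn hyQ
  have h1 : Nat.card (Q ⊓ centralizer {y} : Subgroup G) = 1 := by
    have h2 : 0 < Nat.card (Q ⊓ centralizer {y} : Subgroup G) := Nat.card_pos
    by_contra hne
    have h2 : 2 ≤ Nat.card (Q ⊓ centralizer {y} : Subgroup G) := by omega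
    have h3 : 2 * (p + 1) ≤ Nat.card Q := by
      rw [hm]; exact Nat.mul_le_mul h2 hpm
    rw [h.cardQ, ← h.hpa] at h3
    omega
  have h2 : t ∈ Q ⊓ centralizer {y} := Subgroup.mem_inf.2 ⟨ht, mem_centralizer_singleton_iff.2 hyt.symm⟩
  rw [Subgroup.card_eq_one.1 h1] at h2
  exact ht1 (Subgroup.mem_bot.1 h2)

/-- Outside case I no nontrivial `p`-element centralises `Q`. -/
theorem Core.eq_one_of_cent (h : Core p a G Q x) (hs : IsSimpleGroup G) (hII : ¬ CaseI Q) {k : G}
    (hk : ∃ n, orderOf k = p ^ n) (hkQ : k ∈ centralizer (Q : Set G)) : k = 1 := by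
  by_contra hk1
  apply hII
  haveI := Fact.mk h.hp
  intro t ht ht1
  obtain ⟨K, hKC, hKn, hKp, hKQ, hKe⟩ := h.exists_K hs ht ht1
  have hkK : k ∈ K := hKe k (h.le_cent ht hkQ) hk
  -- the subgroup of `p`-elements centralising `Q`
  set K0 : Subgroup G := K ⊓ centralizer (Q : Set G) with hK0
  have hK0p : IsPGroup p K0 := hKp.to_le inf_le_left
  have hxK : ∀ y ∈ K0, x * y * x⁻¹ ∈ K0 := by
    intro y hy
    obtain ⟨hyK, hyQ⟩ := Subgroup.mem_inf.1 hy
    have h2 : x * y * x⁻¹ ∈ centralizer (Q : Set G) := by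
      rw [mem_centralizer_iff]
      intro u hu
      have hu' : x⁻¹ * u * x ∈ Q := by
        have := (mem_normalizer_iff.1 (inv_mem h.xN) u).1 hu
        simpa using this
      have h1 := (mem_centralizer_iff.1 hyQ) _ hu'
      calc u * (x * y * x⁻¹) = x * ((x⁻¹ * u * x) * y) * x⁻¹ := by group
        _ = x * y * x⁻¹ * u := by rw [h1]; group
    refine Subgroup.mem_inf.2 ⟨hKe _ (h.le_cent ht h2) ?_, h2⟩
    obtain ⟨n, hn⟩ := (IsPGroup.iff_orderOf.1 hKp) ⟨y, hyK⟩
    rw [Subgroup.orderOf_mk] at hn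
    exact ⟨n, by rw [← hn]; exact (MulAut.conj x).orderOf_eq y⟩
  have hxN : x ∈ normalizer (K0 : Set G) := by
    haveI := Fintype.ofFinite K0
    exact mem_normalizer_fintype hxK
  have hKx : IsPGroup p (K0 ⊔ zpowers x : Subgroup G) :=
    hK0p.to_sup_of_normal_left' h.x_pgroup ((zpowers_le).2 hxN)
  have hxk : x * k = k * x := h.ab _ hKx x (mem_sup_right (mem_zpowers x)) k
    (mem_sup_left (Subgroup.mem_inf.2 ⟨hkK, hkQ⟩))
  have hE : centralizer {k} ≤ normalizer (Q : Set G) := by
    refine h.normal_of_mem (h.centralizer_ne_top hs hk1) ?_ ?_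
    · intro q hq
      rw [mem_centralizer_singleton_iff]
      exact (mem_centralizer_iff.1 hkQ) q hq
    · rw [mem_centralizer_singleton_iff]; exact hxk
  rw [hKQ]
  refine sup_le ?_ ?_
  · intro y hy
    obtain ⟨n, hn⟩ := (IsPGroup.iff_orderOf.1 hKp) ⟨y, hy⟩
    rw [Subgroup.orderOf_mk] at hn
    refine h.cent_of_norm ⟨n, hn⟩ (hE ?_) ht ht1 (mem_centralizer_singleton_iff.1 (hKC hy))
    rw [mem_centralizer_singleton_iff]
    exact h.ab K hKp y hy k hkK
  · intro q hq
    rw [mem_centralizer_iff]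
    intro u hu
    exact h.comm hu hq

/-- In a Klein four-group two distinct nontrivial elements generate. -/
theorem Core.mem_cent_of_two (h : Core p 2 G Q x) {t u : G} (ht : t ∈ Q) (ht1 : t ≠ 1) (hu : u ∈ Q)
    (hu1 : u ≠ 1) (htu : t ≠ u) {y : G} (hyt : y * t = t * y) (hyu : y * u = u * y) :
    y ∈ centralizer (Q : Set G) := by
  have hsub : ({1, t, u, t * u} : Set G) ⊆ (Q : Set G) := by
    rintro z (rfl | rfl | rfl | rfl)
    · exact Q.one_mem
    · exact ht
    · exact hu
    · exact Q.mul_mem ht hu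
  have ht2 := h.sq t ht
  have htu1 : t * u ≠ 1 := by
    intro h'
    apply htu
    have := eq_inv_of_mul_eq_one_right h'
    rw [this]
    exact (inv_eq_of_mul_eq_one_left ht2).symm
  have hcard : ({1, t, u, t * u} : Set G).ncard = 4 := by
    rw [Set.ncard_insert_of_notMem, Set.ncard_insert_of_notMem, Set.ncard_pair]
    · intro h'
      exact ht1 (mul_eq_right.1 h'.symm)
    · rintro (h' | h')
      · exact htu h'
      · exact hu1 (mul_eq_left.1 (Set.mem_singleton_iff.1 h').symm)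
    · rintro (h' | h' | h')
      · exact ht1 h'.symm
      · exact hu1 h'.symm
      · exact htu1 (Set.mem_singleton_iff.1 h').symm
  have hQ : (Q : Set G).ncard = 4 := by
    have := h.cardQ
    rw [← Nat.card_coe_set_eq]
    exact this
  have heq : ({1, t, u, t * u} : Set G) = Q :=
    Set.eq_of_subset_of_ncard_le hsub (by rw [hcard, hQ])
  rw [mem_centralizer_iff, ← heq]
  rintro z (rfl | rfl | rfl | rfl)
  · simp
  · exact hyt.symm
  · exact hyu.symm
  · calc t * u * y = t * (u * y) := by group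
      _ = (t * y) * u := by rw [← hyu]; group
      _ = y * (t * u) := by rw [← hyt]; group

/-- The second involution inverts the `p`-elements of the centralizer of the first. -/
theorem Core.inverts (h : Core p 2 G Q x) (hs : IsSimpleGroup G) (hII : ¬ CaseI Q) {t u : G} (ht : t ∈ Q)
    (ht1 : t ≠ 1) (hu : u ∈ Q) (hu1 : u ≠ 1) (htu : t ≠ u) {y : G} (hyt : y ∈ centralizer {t})
    (hy : ∃ n, orderOf y = p ^ n) : u * y * u⁻¹ = y⁻¹ := by
  haveI := Fact.mk h.hp
  obtain ⟨K, hKC, hKn, hKp, hKQ, hKe⟩ := h.exists_K hs ht ht1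
  have huC : u ∈ centralizer {t} := by
    rw [mem_centralizer_singleton_iff]; exact h.comm hu ht
  refine ElemCent.inverts_of_fpf (K := K) (u := u) (orderOf_eq_prime (by rw [pow_two]; exact h.sq u hu) hu1)
    ?_ ?_ y (hKe y hyt hy)
  · intro k hk
    exact (mem_normalizer_iff.1 (hKn huC) k).1 hk
  · intro k hk hku
    obtain ⟨n, hn⟩ := (IsPGroup.iff_orderOf.1 hKp) ⟨k, hk⟩
    rw [Subgroup.orderOf_mk] at hn
    exact h.eq_one_of_cent hs hII ⟨n, hn⟩ (h.mem_cent_of_two ht ht1 hu hu1 htu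
      (mem_centralizer_singleton_iff.1 (hKC hk)) hku.symm)

theorem Core.eq_one_of_sq (h : Core p a G Q x) {y : G} (hy : ∃ n, orderOf y = p ^ n) (hy2 : y * y = 1) : y = 1 := by
  obtain ⟨n, hn⟩ := hy
  have h7 : orderOf y ∣ 2 := orderOf_dvd_of_pow_eq_one (by rw [pow_two]; exact hy2)
  have h8 : orderOf y = 1 := by
    apply Nat.Coprime.eq_one_of_dvd _ h7
    rw [hn]; exact Nat.Coprime.pow_left _ h.coprime
  exact orderOf_eq_one_iff.1 h8

theorem Core.exists_other (h : Core p 2 G Q x) {t : G} (ht : t ∈ Q) : ∃ u ∈ Q, u ≠ 1 ∧ t ≠ u := by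
  by_contra hcon
  push Not at hcon
  have h1 : (Q : Set G) ⊆ {1, t} := by
    intro u hu
    by_cases hu1 : u = 1
    · exact Or.inl hu1
    · exact Or.inr (hcon u hu hu1).symm
  have h2 := Set.ncard_le_ncard h1
  have h3 : ({1, t} : Set G).ncard ≤ 2 := by
    refine (Set.ncard_insert_le _ _).trans ?_
    rw [Set.ncard_singleton]
  have hQ : (Q : Set G).ncard = 4 := by
    have := h.cardQ
    rw [← Nat.card_coe_set_eq]
    exact this
  omega

/-- Orders of centralizers of `p`-elements centralising an involution. -/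
theorem Core.card_cent (h : Core p 2 G Q x) (hs : IsSimpleGroup G) (hII : ¬ CaseI Q) {t : G} (ht : t ∈ Q)
    (ht1 : t ≠ 1) {c : G} (hct : c ∈ centralizer {t}) (hc : ∃ n, orderOf c = p ^ n) (hc1 : c ≠ 1)
    (P : Sylow p G) (hcP : c ∈ P) :
    Nat.card (centralizer {c}) = 2 * Nat.card P ∧ (P : Subgroup G) ≤ centralizer {c} ∧
      ∀ y ∈ centralizer {c}, (∃ n, orderOf y = p ^ n) → y ∈ P := by
  haveI := Fact.mk h.hp
  haveI : Fact (Nat.Prime 2) := ⟨Nat.prime_two⟩
  set E : Subgroup G := centralizer {c} with hE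
  obtain ⟨u, hu, hu1, htu⟩ := h.exists_other ht
  have hinv : u * c * u⁻¹ = c⁻¹ := h.inverts hs hII ht ht1 hu hu1 htu hct hc
  have htE : t ∈ E := by
    rw [hE, mem_centralizer_singleton_iff]
    exact (mem_centralizer_singleton_iff.1 hct).symm
  have hPE : (P : Subgroup G) ≤ E := by
    intro y hy
    rw [hE, mem_centralizer_singleton_iff]
    exact h.ab P P.2 y hy c hcP
  have h2E : 2 ∣ Nat.card E := by
    have : orderOf (⟨t, htE⟩ : E) = 2 := by
      rw [Subgroup.orderOf_mk]; exact orderOf_eq_prime (by rw [pow_two]; exact h.sq t ht) ht1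
    rw [← this]; exact orderOf_dvd_natCard _
  have hEt : E ≠ ⊤ := h.centralizer_ne_top hs hc1
  have hgood := h.good E hEt h2E
  have hG : Nat.card G = 4 * Q.index := by
    rw [← Q.card_mul_index, h.cardQ]; norm_num
  have h4E : ¬ 4 ∣ Nat.card E := by
    intro h4
    have huN : u ∈ normalizer (E : Set G) := by
      haveI := Fintype.ofFinite E
      apply mem_normalizer_fintype
      intro y hy
      rw [SetLike.mem_coe, hE, mem_centralizer_singleton_iff] at hy ⊢
      have h5 : c = u * c⁻¹ * u⁻¹ := by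
        have := congrArg (·⁻¹) hinv
        simp only [inv_inv, mul_inv_rev] at this
        rw [mul_assoc]; exact this.symm
      have h6 : y * c⁻¹ = c⁻¹ * y := (show Commute y c from hy).inv_right.eq
      calc u * y * u⁻¹ * c = u * y * u⁻¹ * (u * c⁻¹ * u⁻¹) := by rw [← h5]
        _ = u * (y * c⁻¹) * u⁻¹ := by group
        _ = (u * c⁻¹ * u⁻¹) * (u * y * u⁻¹) := by rw [h6]; group
        _ = c * (u * y * u⁻¹) := by rw [← h5]
    have huE : u ∉ E := by
      intro h'
      rw [hE, mem_centralizer_singleton_iff] at h'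
      rw [h', mul_inv_cancel_right] at hinv
      apply hc1
      apply h.eq_one_of_sq hc
      nth_rw 2 [hinv]
      exact mul_inv_cancel c
    have h5 := card_sup_mul_card_inf ((zpowers_le).2 huN)
    have h6 : E ⊓ zpowers u = ⊥ := by
      rw [Subgroup.eq_bot_iff_forall]
      intro y hy
      obtain ⟨hyE, n, rfl⟩ := Subgroup.mem_inf.1 hy
      have hu2 : u ^ (2 : ℤ) = 1 := by
        rw [show (2 : ℤ) = ((2 : ℕ) : ℤ) from rfl, zpow_natCast, pow_two]; exact h.sq u hu
      rcases Int.even_or_odd' n with ⟨k, rfl | rfl⟩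
      · change u ^ (2 * k) = 1
        rw [zpow_mul, hu2, one_zpow]
      · exfalso
        change u ^ (2 * k + 1) ∈ E at hyE
        rw [zpow_add, zpow_mul, hu2, one_zpow, one_mul, zpow_one] at hyE
        exact huE hyE
    rw [h6, card_bot, mul_one] at h5
    have h7 : Nat.card (zpowers u) = 2 := by
      rw [Nat.card_zpowers]
      exact orderOf_eq_prime (by rw [pow_two]; exact h.sq u hu) hu1
    rw [h7] at h5
    have h8 : 4 * 2 ∣ 4 * Q.index := by
      rw [← hG]
      refine dvd_trans ?_ (card_subgroup_dvd_card (E ⊔ zpowers u))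
      rw [h5]
      exact Nat.mul_dvd_mul_right h4 2
    exact h.idxQ (Nat.dvd_of_mul_dvd_mul_left (by norm_num) h8)
  obtain ⟨m, hm⟩ := h2E
  have hmodd : ¬ 2 ∣ m := by
    rintro ⟨k, rfl⟩
    exact h4E ⟨k, by rw [hm]; ring⟩
  have hmpos : m ≠ 0 := by
    rintro rfl
    exact hmodd (dvd_zero 2)
  have hmp : m = p ^ m.primeFactorsList.length := by
    refine Nat.eq_prime_pow_of_unique_prime_dvd hmpos (fun {d} hd hdd => ?_)
    rcases hgood d hd (hm ▸ Dvd.dvd.mul_left hdd _) with h' | h'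
    · exact h'
    · rw [h'] at hdd
      exact absurd hdd hmodd
  have hPm : Nat.card P ∣ m := by
    have h1 : Nat.card P ∣ 2 * m := by rw [← hm]; exact card_dvd_of_le hPE
    have h2 : Nat.Coprime (Nat.card P) 2 := by
      obtain ⟨n, hn⟩ := IsPGroup.iff_card.1 P.2
      rw [hn]; exact Nat.Coprime.pow_left _ h.coprime
    exact h2.dvd_of_dvd_mul_left h1
  have hmP : m ∣ Nat.card P := by
    have h1 : m ∣ Nat.card G := (Dvd.intro_left 2 hm.symm).trans (card_subgroup_dvd_card E)
    rw [← (P : Subgroup G).card_mul_index] at h1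
    have h2 : Nat.Coprime m (P : Subgroup G).index := by
      rw [hmp]
      exact Nat.Coprime.pow_left _ ((Nat.Prime.coprime_iff_not_dvd h.hp).2 P.not_dvd_index)
    exact h2.dvd_of_dvd_mul_right h1
  have hmeq : m = Nat.card P := Nat.dvd_antisymm hmP hPm
  rw [hmeq] at hm
  refine ⟨hm, hPE, ?_⟩
  intro y hy hyp
  have hidx : ((P : Subgroup G).subgroupOf E).index = 2 := by
    have h1 := card_mul_relIndex_of_le hPE
    rw [hm, mul_comm] at h1
    exact Nat.eq_of_mul_eq_mul_right Nat.card_pos h1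
  haveI : ((P : Subgroup G).subgroupOf E).Normal := normal_of_index_eq_two hidx
  obtain ⟨k, hk⟩ := hyp
  have h3 : orderOf ((⟨y, hy⟩ : E) : E ⧸ (P : Subgroup G).subgroupOf E) ∣ p ^ k := by
    rw [← hk, ← Subgroup.orderOf_mk y hy]
    exact orderOf_map_dvd (QuotientGroup.mk' _) (⟨y, hy⟩ : E)
  have h4 : Nat.Coprime (p ^ k) (Nat.card (E ⧸ (P : Subgroup G).subgroupOf E)) := by
    change Nat.Coprime (p ^ k) ((P : Subgroup G).subgroupOf E).index
    rw [hidx]
    exact Nat.Coprime.pow_left _ h.coprime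
  have h5 := Nat.eq_one_of_dvd_coprimes h4 h3 (orderOf_dvd_natCard _)
  rw [orderOf_eq_one_iff, QuotientGroup.eq_one_iff] at h5
  exact h5

end Cfsg.Agent.Lib.TwoPr
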