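import Cfsg.Agent.Lib.TwoPrI

/-!
# Groups whose mixed subgroups have order divisible by a large prime, part J (helper63):
the final contradiction and the induction
-/

set_option autoImplicit false

namespace Cfsg.Agent.Lib.TwoPr

open Subgroup Cfsg.Agent.Lib.SubgroupTools
open scoped Pointwise

variable {G : Type*} [Group G] [Finite G] {p a : ℕ} {Q : Subgroup G} {x : G}

theorem Core.card_dvd (h : Core 3 2 G Q x) (P : Sylow 3 G) {H : Subgroup G} (hg : Good 3 2 H) :
    Nat.card H ∣ 4 * Nat.card P := by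
  haveI : Fact (Nat.Prime 3) := ⟨h.hp⟩
  obtain ⟨b, m, hm, hc⟩ := Nat.exists_eq_two_pow_mul_odd (Nat.card_pos (α := H)).ne'
  have hm0 : m ≠ 0 := by
    rintro rfl
    exact (Nat.not_even_iff_odd.2 hm) (by decide)
  have h1 : m = 3 ^ m.primeFactorsList.length := by
    refine Nat.eq_prime_pow_of_unique_prime_dvd hm0 (fun {d} hd hdd => ?_)
    rcases hg d hd (hc ▸ Dvd.dvd.mul_left hdd _) with h' | h'
    · exact h'
    · exfalso
      rw [h'] at hdd
      exact (Nat.not_even_iff_odd.2 hm) (even_iff_two_dvd.2 hdd)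
  have hHG : Nat.card H ∣ Nat.card G := card_subgroup_dvd_card H
  have h2 : 2 ^ b ∣ 4 := by
    have h3 : 2 ^ b ∣ Nat.card G := (Dvd.intro m hc.symm).trans hHG
    rw [← Q.card_mul_index, h.cardQ] at h3
    have h4 : Nat.Coprime (2 ^ b) Q.index :=
      Nat.Coprime.pow_left _ ((Nat.Prime.coprime_iff_not_dvd Nat.prime_two).2 h.idxQ)
    have h5 := h4.dvd_of_dvd_mul_right h3
    norm_num at h5
    exact h5
  have h3 : m ∣ Nat.card P := by
    have h3 : m ∣ Nat.card G := (Dvd.intro_left _ hc.symm).trans hHG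
    rw [← (P : Subgroup G).card_mul_index] at h3
    have h4 : Nat.Coprime m (P : Subgroup G).index := by
      rw [h1]
      exact Nat.Coprime.pow_left _ ((Nat.Prime.coprime_iff_not_dvd h.hp).2 P.not_dvd_index)
    exact h4.dvd_of_dvd_mul_right h3
  rw [hc]
  exact Nat.mul_dvd_mul h2 h3

theorem Core.four_false (h : Core 3 2 G Q x) (hs : IsSimpleGroup G) (hII : ¬ CaseI Q) : False := by
  haveI : Fact (Nat.Prime 3) := ⟨h.hp⟩
  haveI : Fact (Nat.Prime 2) := ⟨Nat.prime_two⟩
  have h2Q : 2 ∣ Nat.card Q := by rw [h.cardQ]; norm_num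
  obtain ⟨t, ht, htt⟩ : ∃ t ∈ Q, t ≠ 1 ∧ ¬ centralizer {t} ≤ centralizer (Q : Set G) := by
    by_contra hcon
    push Not at hcon
    exact hII hcon
  obtain ⟨ht1, htC⟩ := htt
  obtain ⟨K, hKC, hKn, hKp, hKQ, hKe⟩ := h.exists_K hs ht ht1
  have hKel : ∀ y ∈ K, ∃ n, orderOf y = 3 ^ n := by
    intro y hy
    obtain ⟨n, hn⟩ := (IsPGroup.iff_orderOf.1 hKp) ⟨y, hy⟩
    rw [Subgroup.orderOf_mk] at hn
    exact ⟨n, hn⟩
  have hQC : Q ≤ centralizer {t} := by
    intro v hv
    rw [mem_centralizer_singleton_iff]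
    exact h.comm hv ht
  have hKb : K ≠ ⊥ := by
    rintro rfl
    apply htC
    rw [hKQ, bot_sup_eq]
    intro v hv
    rw [mem_centralizer_iff]
    intro u hu
    exact h.comm hu hv
  obtain ⟨⟨c, hcK⟩, hc1'⟩ := (Subgroup.ne_bot_iff_exists_ne_one).1 hKb
  have hc1 : c ≠ 1 := fun h' => hc1' (Subtype.ext h')
  obtain ⟨P, hKP⟩ := hKp.exists_le_sylow
  have hPel : ∀ y ∈ P, ∃ n, orderOf y = 3 ^ n := by
    intro y hy
    obtain ⟨n, hn⟩ := (IsPGroup.iff_orderOf.1 P.2) ⟨y, hy⟩
    rw [Subgroup.orderOf_mk] at hn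
    exact ⟨n, hn⟩
  obtain ⟨u, hu, hu1, htu⟩ := h.exists_other ht
  -- `C(K) = C(c)`
  have hPK : (P : Subgroup G) ≤ centralizer (K : Set G) := by
    intro y hy
    rw [mem_centralizer_iff]
    intro k hk
    exact h.ab P P.2 k (hKP hk) y hy
  have htK : t ∈ centralizer (K : Set G) := by
    rw [mem_centralizer_iff]
    intro k hk
    exact mem_centralizer_singleton_iff.1 (hKC hk)
  have htP : t ∉ (P : Subgroup G) := fun h' => ht1 (h.eq_one_of_mem P.2 ht h')
  have htz : Nat.card (zpowers t) = 2 := by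
    rw [Nat.card_zpowers]
    exact orderOf_eq_prime (by rw [pow_two]; exact h.sq t ht) ht1
  have hcard : ∀ c ∈ K, c ≠ 1 → Nat.card (centralizer {c}) = 2 * Nat.card P ∧ (P : Subgroup G) ≤ centralizer {c} ∧
      ∀ y ∈ centralizer {c}, (∃ n, orderOf y = 3 ^ n) → y ∈ P := fun c hc hc1 =>
    h.card_cent hs hII ht ht1 (hKC hc) (hKel c hc) hc1 P (hKP hc)
  have hKc : centralizer (K : Set G) = centralizer {c} := by
    have hle : centralizer (K : Set G) ≤ centralizer {c} := centralizer_le (Set.singleton_subset_iff.2 hcK)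
    apply Subgroup.eq_of_le_of_card_ge hle
    rw [(hcard c hcK hc1).1]
    -- `P ⊔ ⟨t⟩ ≤ C(K)` has order at least `2 |P|`
    obtain ⟨m, hm⟩ := card_dvd_of_le hPK
    have h2 : 2 ∣ Nat.card (centralizer (K : Set G)) := by
      rw [← htz]; exact card_dvd_of_le ((zpowers_le).2 htK)
    have h3 : Nat.Coprime 2 (Nat.card P) := by
      obtain ⟨n, hn⟩ := IsPGroup.iff_card.1 P.2
      rw [hn]; exact Nat.Coprime.pow_right _ (by norm_num)
    have h4 : 2 * Nat.card P ∣ Nat.card (centralizer (K : Set G)) :=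
      Nat.Coprime.mul_dvd_of_dvd_of_dvd h3 h2 (card_dvd_of_le hPK)
    exact Nat.le_of_dvd Nat.card_pos h4
  -- elements normalising `K` normalise `P`
  have hNK : normalizer (K : Set G) ≤ normalizer (P : Set G) := by
    intro g hg
    haveI := Fintype.ofFinite P
    apply mem_normalizer_fintype
    intro y hy
    apply (hcard c hcK hc1).2.2
    · rw [← hKc, mem_centralizer_iff]
      intro k hk
      have h1 : g⁻¹ * k * g ∈ K := by
        have := (mem_normalizer_iff.1 (inv_mem hg) k).1 hk
        simpa using this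
      have h2 := (mem_centralizer_iff.1 (hPK hy)) _ h1
      calc k * (g * y * g⁻¹) = g * ((g⁻¹ * k * g) * y) * g⁻¹ := by group
        _ = g * y * g⁻¹ * k := by rw [h2]; group
    · obtain ⟨n, hn⟩ := hPel y hy
      exact ⟨n, by rw [← hn]; exact (MulAut.conj g).orderOf_eq y⟩
  have hQP : Q ≤ normalizer (P : Set G) := (hQC.trans hKn).trans hNK
  -- no nontrivial element of `P` commutes with another involution of `Q`
  have hfix : ∀ v ∈ Q, v ≠ 1 → t ≠ v → ∀ k ∈ P, k * v = v * k → k = 1 := by
    intro v hv hv1 htv k hk hkv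
    by_contra hk1
    have hkC : k ∈ centralizer {v} := mem_centralizer_singleton_iff.2 hkv
    obtain ⟨g, hgx, hg⟩ := h.trans t ht ht1 v hv hv1
    have h1 := h.card_cent hs hII hv hv1 hkC (hPel k hk) hk1 P hk
    -- `k = g k' g⁻¹`
    set k' : G := g⁻¹ * k * g with hk'
    have hk'K : k' ∈ K := by
      apply hKe
      · rw [mem_centralizer_singleton_iff]
        calc k' * t = g⁻¹ * (k * (g * t * g⁻¹)) * g := by rw [hk']; group
          _ = g⁻¹ * (g * t * g⁻¹ * k) * g := by rw [hg, hkv]
          _ = t * k' := by rw [hk']; group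
      · obtain ⟨n, hn⟩ := hPel k hk
        refine ⟨n, ?_⟩
        rw [← hn, hk']
        have := (MulAut.conj g⁻¹).orderOf_eq k
        simpa using this
    have hk'P : k' ∈ P := hKP hk'K
    have hgP : ∀ y ∈ P, g * y * g⁻¹ ∈ P := by
      intro y hy
      apply h1.2.2
      · rw [mem_centralizer_singleton_iff]
        have h2 : y * k' = k' * y := h.ab P P.2 y hy k' hk'P
        calc g * y * g⁻¹ * k = g * (y * k') * g⁻¹ := by rw [hk']; group
          _ = k * (g * y * g⁻¹) := by rw [h2, hk']; group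
      · obtain ⟨n, hn⟩ := hPel y hy
        exact ⟨n, by rw [← hn]; exact (MulAut.conj g).orderOf_eq y⟩
    have hgN : g ∈ normalizer (P : Set G) := by
      haveI := Fintype.ofFinite P
      exact mem_normalizer_fintype hgP
    have hgz : IsPGroup 3 (zpowers g) := h.x_pgroup.to_le ((zpowers_le).2 hgx)
    have h3 : IsPGroup 3 (P ⊔ zpowers g : Subgroup G) :=
      P.2.to_sup_of_normal_left' hgz ((zpowers_le).2 hgN)
    have h4 : (P ⊔ zpowers g : Subgroup G) = P := P.3 h3 le_sup_left
    have hgP' : g ∈ P := by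
      have : g ∈ (P ⊔ zpowers g : Subgroup G) := mem_sup_right (mem_zpowers g)
      rw [h4] at this; exact this
    have h5 : v * t⁻¹ ∈ (P : Subgroup G) := by
      rw [← hg]
      have h6 : t * g⁻¹ * t⁻¹ ∈ (P : Subgroup G) :=
        (mem_normalizer_iff.1 (hQP ht) g⁻¹).1 (inv_mem hgP')
      have h7 := (P : Subgroup G).mul_mem hgP' h6
      have h8 : g * (t * g⁻¹ * t⁻¹) = g * t * g⁻¹ * t⁻¹ := by group
      rwa [h8] at h7
    have h6 := h.eq_one_of_mem P.2 (Q.mul_mem hv (Q.inv_mem ht)) h5
    exact htv (mul_inv_eq_one.1 h6).symm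
  -- hence `t` centralises `P`
  have htPc : (P : Subgroup G) ≤ centralizer {t} := by
    have htu1 : t * u ≠ 1 := by
      intro h'
      apply htu
      rw [eq_inv_of_mul_eq_one_right h']
      exact (inv_eq_of_mul_eq_one_left (h.sq t ht)).symm
    have htu2 : t ≠ t * u := by
      intro h'
      exact hu1 (mul_eq_left.1 h'.symm)
    have hinv1 : ∀ y ∈ (P : Subgroup G), u * y * u⁻¹ = y⁻¹ :=
      ElemCent.inverts_of_fpf (orderOf_eq_prime (by rw [pow_two]; exact h.sq u hu) hu1)
        (fun y hy => (mem_normalizer_iff.1 (hQP hu) y).1 hy)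
        (fun y hy hyu => hfix u hu hu1 htu y hy hyu.symm)
    have hinv2 : ∀ y ∈ (P : Subgroup G), (t * u) * y * (t * u)⁻¹ = y⁻¹ :=
      ElemCent.inverts_of_fpf (orderOf_eq_prime (by rw [pow_two]; exact h.sq _ (Q.mul_mem ht hu)) htu1)
        (fun y hy => (mem_normalizer_iff.1 (hQP (Q.mul_mem ht hu)) y).1 hy)
        (fun y hy hyu => hfix (t * u) (Q.mul_mem ht hu) htu1 htu2 y hy hyu.symm)
    intro y hy
    have h1 := hinv2 y⁻¹ (inv_mem hy)
    have h2 := hinv1 y hy
    have h3 : (t * u) * y⁻¹ * (t * u)⁻¹ = t * y * t⁻¹ := by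
      calc (t * u) * y⁻¹ * (t * u)⁻¹ = t * (u * y * u⁻¹)⁻¹ * t⁻¹ := by group
        _ = t * y * t⁻¹ := by rw [h2, inv_inv]
    rw [h3, inv_inv] at h1
    rw [mem_centralizer_singleton_iff]
    exact (mul_inv_eq_iff_eq_mul.1 h1).symm
  have hPKeq : (P : Subgroup G) = K := by
    apply le_antisymm _ hKP
    intro y hy
    exact hKe y (htPc hy) (hPel y hy)
  have hCP : centralizer (P : Set G) = centralizer {c} := by
    rw [← hKc, ← hPKeq]; rfl
  have hcardC : Nat.card (centralizer (P : Set G)) = 2 * Nat.card P := by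
    rw [hCP]; exact (hcard c hcK hc1).1
  have hNt : normalizer (P : Set G) ≠ ⊤ := by
    intro h'
    have hn : (P : Subgroup G).Normal := normalizer_eq_top_iff.1 h'
    rcases hs.eq_bot_or_eq_top_of_normal _ hn with h1 | h1
    · rw [← hPKeq, h1] at hcK
      exact hc1 (Subgroup.mem_bot.1 hcK)
    · apply htP
      rw [h1]; trivial
  have h2N : 2 ∣ Nat.card (normalizer (P : Set G)) := h2Q.trans (card_dvd_of_le hQP)
  have hN : Nat.card (normalizer (P : Set G)) = 4 * Nat.card P := by
    apply Nat.dvd_antisymm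
    · exact h.card_dvd P (h.good _ hNt h2N)
    · have h3 : Nat.Coprime 4 (Nat.card P) := by
        obtain ⟨n, hn⟩ := IsPGroup.iff_card.1 P.2
        rw [hn]; exact Nat.Coprime.pow_right _ (by norm_num)
      refine Nat.Coprime.mul_dvd_of_dvd_of_dvd h3 ?_ (card_dvd_of_le le_normalizer)
      have : Nat.card Q = 4 := by rw [h.cardQ]; norm_num
      rw [← this]; exact card_dvd_of_le hQP
  -- the trivial intersection property
  have hidx : ∀ y ∈ centralizer (P : Set G), ∀ z ∈ centralizer (P : Set G), y ∉ (P : Subgroup G) →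
      z ∉ (P : Subgroup G) → y * z ∈ (P : Subgroup G) := by
    have hPC : (P : Subgroup G) ≤ centralizer (P : Set G) := by
      intro y hy
      rw [mem_centralizer_iff]
      intro k hk
      exact h.ab P P.2 k hk y hy
    have h1 : ((P : Subgroup G).subgroupOf (centralizer (P : Set G))).index = 2 := by
      have h1 := card_mul_relIndex_of_le hPC
      rw [hcardC, mul_comm] at h1
      exact Nat.eq_of_mul_eq_mul_right Nat.card_pos h1
    intro y hy z hz hyP hzP
    have h2 := (mul_mem_iff_of_index_two h1 (a := ⟨y, hy⟩) (b := ⟨z, hz⟩))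
    have h3 : (⟨y, hy⟩ : centralizer (P : Set G)) ∉ (P : Subgroup G).subgroupOf (centralizer (P : Set G)) := hyP
    have h4 : (⟨z, hz⟩ : centralizer (P : Set G)) ∉ (P : Subgroup G).subgroupOf (centralizer (P : Set G)) := hzP
    exact h2.2 ⟨fun h5 => absurd h5 h3, fun h5 => absurd h5 h4⟩
  have htCP : t ∈ centralizer (P : Set G) := by
    rw [mem_centralizer_iff]
    intro y hy
    exact mem_centralizer_singleton_iff.1 (htPc hy)
  have hinvol : ∀ y ∈ centralizer (P : Set G), y * y = 1 → y ≠ 1 → y = t := by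
    intro y hy hy2 hy1
    have hyP : y ∉ (P : Subgroup G) := by
      intro h'
      exact hy1 (h.eq_one_of_sq (hPel y h') hy2)
    have h1 := hidx y hy t htCP hyP htP
    have h2 : y * t = t * y := mem_centralizer_singleton_iff.1 (by
      have h3 : (P : Subgroup G) ≤ centralizer {t} := htPc
      -- C(P) = P ⟨t⟩ commutes with t
      have h4 : y * t ∈ centralizer {t} := h3 h1
      rw [mem_centralizer_singleton_iff] at h4 ⊢
      have h5 : t * t = 1 := h.sq t ht
      have h6 : y = t * (y * t) := by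
        rw [← h4, mul_assoc, h5, mul_one]
      calc y * t = (y * t * t) * t := by rw [mul_assoc y t t, h5, mul_one]
        _ = t * (y * t) * t := by rw [h4]
        _ = t * y * (t * t) := by group
        _ = t * y := by rw [h5, mul_one])
    have h3 : (y * t) * (y * t) = 1 := by
      calc (y * t) * (y * t) = y * (t * y) * t := by group
        _ = (y * y) * (t * t) := by rw [← h2]; group
        _ = 1 := by rw [hy2, h.sq t ht, one_mul]
    have h4 := h.eq_one_of_sq (hPel _ h1) h3
    rw [eq_inv_of_mul_eq_one_left h4]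
    exact inv_eq_of_mul_eq_one_left (h.sq t ht)
  have hNC : normalizer (P : Set G) ≤ normalizer ((centralizer (P : Set G) : Subgroup G) : Set G) := by
    intro g hg
    haveI := Fintype.ofFinite (centralizer (P : Set G))
    apply mem_normalizer_fintype
    intro y hy
    rw [SetLike.mem_coe, mem_centralizer_iff] at hy ⊢
    intro k hk
    have h1 : g⁻¹ * k * g ∈ (P : Subgroup G) := by
      have := (mem_normalizer_iff.1 (inv_mem hg) k).1 hk
      simpa using this
    have h2 := hy _ h1
    calc k * (g * y * g⁻¹) = g * ((g⁻¹ * k * g) * y) * g⁻¹ := by group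
      _ = g * y * g⁻¹ * k := by rw [h2]; group
  have hTI : Cfsg.IsTISubset (centralizer (P : Set G) : Set G) := by
    intro g hgN y hy hgy
    by_contra hy1
    apply hgN
    by_cases hy2 : y * y = 1
    · have h1 := hinvol y hy hy2 hy1
      have h2 : (g * y * g⁻¹) * (g * y * g⁻¹) = 1 := by
        calc (g * y * g⁻¹) * (g * y * g⁻¹) = g * (y * y) * g⁻¹ := by group
          _ = 1 := by rw [hy2]; group
      have h3 : g * y * g⁻¹ ≠ 1 := by rw [Ne, mul_inv_eq_one, mul_eq_left]; exact hy1
      have h4 := hinvol _ hgy h2 h3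
      rw [h1] at h4
      have h5 : g ∈ centralizer {t} := by
        rw [mem_centralizer_singleton_iff]
        exact mul_inv_eq_iff_eq_mul.1 h4
      exact hNC (hNK (hKn h5))
    · -- `y * y ∈ P`
      have hsq : ∀ z ∈ centralizer (P : Set G), z * z ∈ (P : Subgroup G) := by
        intro z hz
        by_cases hzP : z ∈ (P : Subgroup G)
        · exact (P : Subgroup G).mul_mem hzP hzP
        · exact hidx z hz z hz hzP hzP
      have h1 := hsq y hy
      have h2 := hsq _ hgy
      have h3 : (g * y * g⁻¹) * (g * y * g⁻¹) = g * (y * y) * g⁻¹ := by group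
      rw [h3] at h2
      have h4 : g * (y * y) * g⁻¹ ≠ 1 := by rw [Ne, mul_inv_eq_one, mul_eq_left]; exact hy2
      have h5 := hcard (g * (y * y) * g⁻¹) (by rw [← hPKeq]; exact h2) h4
      apply hNC
      haveI := Fintype.ofFinite P
      apply mem_normalizer_fintype
      intro z hz
      apply h5.2.2
      · rw [mem_centralizer_singleton_iff]
        have h6 : z * (y * y) = (y * y) * z := h.ab P P.2 z hz _ h1
        calc g * z * g⁻¹ * (g * (y * y) * g⁻¹) = g * (z * (y * y)) * g⁻¹ := by group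
          _ = g * (y * y) * g⁻¹ * (g * z * g⁻¹) := by rw [h6]; group
      · obtain ⟨n, hn⟩ := hPel z hz
        exact ⟨n, by rw [← hn]; exact (MulAut.conj g).orderOf_eq z⟩
  have hab : IsMulCommutative P := by
    refine ⟨⟨fun y z => Subtype.ext ?_⟩⟩
    exact h.ab P P.2 y y.2 z z.2
  exact Cfsg.Agent.S4018.result P hab hN hcardC hTI
    (fun H hH h2H => h.card_dvd P (h.good H hH h2H)) hs

end Cfsg.Agent.Lib.TwoPr
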