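import Mathlib
import Cfsg.Agent.Lib.BRCore
import Cfsg.Prelude.Def_DegreeGraph

set_option autoImplicit false

/-!
# An irreducible character of degree divisible by six of a simple group of order 6048 (helper20)
-/

namespace Cfsg.Agent.Lib.U33Blk

open Cfsg Cfsg.Agent.Lib.CharBasic Cfsg.Agent.Lib.DefOneGram
open scoped commutatorElement
open Cfsg.Agent.Lib.DefOne Cfsg.Agent.Lib.BlockThird Cfsg.Agent.Lib.DefOnePrin Cfsg.Agent.Lib.BRB0 Cfsg.Agent.Lib.BRCore

universe u

theorem arith_one : ∀ a ∈ Nat.divisors 864, ¬ 6 ∣ a → a ≠ 1 → (a % 7 = 1 → a = 8) ∧ (a % 7 = 6 → a = 27) := by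
  decide +kernel

theorem arith {a b z : ℕ} {x y s k l : ℤ} (ha : a ∣ 864) (hb : b ∣ 864) (hz : z ∣ 864) (ha1 : a ≠ 1) (hb1 : b ≠ 1)
    (hx : x = 1 ∨ x = -1) (hy : y = 1 ∨ y = -1) (hs : s = 1 ∨ s = -1) (hka : (a : ℤ) = k * 7 + x)
    (hlb : (b : ℤ) = l * 7 + y) (h : s * z = 1 + (x * a + y * b)) : 6 ∣ a ∨ 6 ∣ b ∨ 6 ∣ z := by
  by_contra hcon
  push Not at hcon
  obtain ⟨h6a, h6b, h6z⟩ := hcon
  have A := arith_one a (Nat.mem_divisors.2 ⟨ha, by norm_num⟩) h6a ha1
  have B := arith_one b (Nat.mem_divisors.2 ⟨hb, by norm_num⟩) h6b hb1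
  have hA : (a = 8 ∧ x = 1) ∨ (a = 27 ∧ x = -1) := by
    rcases hx with rfl | rfl
    · left; exact ⟨A.1 (by omega), rfl⟩
    · right; exact ⟨A.2 (by omega), rfl⟩
  have hB : (b = 8 ∧ y = 1) ∨ (b = 27 ∧ y = -1) := by
    rcases hy with rfl | rfl
    · left; exact ⟨B.1 (by omega), rfl⟩
    · right; exact ⟨B.2 (by omega), rfl⟩
  have hzz : z = 17 ∨ z = 18 ∨ z = 53 := by
    rcases hA with ⟨rfl, rfl⟩ | ⟨rfl, rfl⟩ <;> rcases hB with ⟨rfl, rfl⟩ | ⟨rfl, rfl⟩ <;> rcases hs with rfl | rfl <;>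
      push_cast at h <;> omega
  rcases hzz with rfl | rfl | rfl
  · revert hz; decide
  · exact h6z (by decide)
  · revert hz; decide

theorem six_dvd {G : Type u} [Group G] [Finite G] [IsSimpleGroup G] (hcard : Nat.card G = 6048)
    (hord : ∀ g : G, 7 ∣ orderOf g → orderOf g = 7) : ∃ d ∈ charDegrees G, 6 ∣ d := by
  classical
  have : Fintype G := Fintype.ofFinite G
  have : Fact (Nat.Prime 7) := ⟨by norm_num⟩
  obtain ⟨Q⟩ : Nonempty (Sylow 7 G) := inferInstance
  have hQ : Nat.card Q = 7 := by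
    have h1 := Q.card_eq_multiplicity
    rw [hcard] at h1
    have h2 : Nat.factorization 6048 7 = 1 := by
      rw [show (6048 : ℕ) = 7 * 864 by norm_num, Nat.factorization_mul (by norm_num) (by norm_num), Finsupp.add_apply,
        Nat.Prime.factorization_self (by norm_num), Nat.factorization_eq_zero_of_not_dvd (by norm_num)]
    rw [h2] at h1
    simpa using h1
  obtain ⟨D, hC, ⟨B⟩⟩ := exists_B0 Q hQ
  -- the centralizer
  obtain ⟨x, hx⟩ : ∃ x : Q, x ≠ 1 := by
    by_contra hcon
    push Not at hcon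
    have h2 : Nat.card Q = 1 := by
      rw [Nat.card_eq_one_iff_unique]
      exact ⟨⟨fun a b => by rw [hcon a, hcon b]⟩, ⟨1⟩⟩
    omega
  have hxo : orderOf (x : G) = 7 := by
    rw [Subgroup.orderOf_coe]
    have h1 : orderOf x ∣ 7 := (orderOf_dvd_natCard x).trans (dvd_of_eq hQ)
    rcases (Nat.dvd_prime (by norm_num)).1 h1 with h2 | h2
    · exact absurd (orderOf_eq_one_iff.1 h2) hx
    · exact h2
  have hCc : Nat.card (Subgroup.centralizer ((Q : Subgroup G) : Set G)) = 7 := by
    have h1 : IsPGroup 7 (Subgroup.centralizer ((Q : Subgroup G) : Set G)) := by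
      rw [IsPGroup.iff_card]
      have h2 : ∀ r : ℕ, r.Prime → r ∣ Nat.card (Subgroup.centralizer ((Q : Subgroup G) : Set G)) → r = 7 := by
        intro r hr hrd
        by_contra hne
        have := Fact.mk hr
        obtain ⟨y, hy⟩ := exists_prime_orderOf_dvd_card' (G := Subgroup.centralizer ((Q : Subgroup G) : Set G)) r hrd
        have hyo : orderOf (y : G) = r := by rw [Subgroup.orderOf_coe]; exact hy
        have hcomm : Commute (x : G) (y : G) := Subgroup.mem_centralizer_iff.1 y.2 x x.2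
        have hcop : Nat.Coprime (orderOf (x : G)) (orderOf (y : G)) := by
          rw [hxo, hyo]
          exact (Nat.coprime_primes (by norm_num) hr).2 (fun h => hne h.symm)
        have h3 := hcomm.orderOf_mul_eq_mul_orderOf_of_coprime hcop
        rw [hxo, hyo] at h3
        have h4 := hord _ (h3 ▸ dvd_mul_right 7 r)
        rw [h3] at h4
        have := hr.two_le
        omega
      refine ⟨_, Nat.eq_prime_pow_of_unique_prime_dvd Nat.card_pos.ne' (fun {r} hr hrd => h2 r hr hrd)⟩
    obtain ⟨k, hk⟩ := IsPGroup.iff_card.1 h1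
    have h2 : 7 ^ k ∣ 6048 := by rw [← hk, ← hcard]; exact Subgroup.card_subgroup_dvd_card _
    have h3 : 7 ∣ Nat.card (Subgroup.centralizer ((Q : Subgroup G) : Set G)) := by
      have h4 := Subgroup.card_dvd_of_le D.PC
      rwa [hQ] at h4
    have hk2 : k < 2 := by
      by_contra hk2
      push Not at hk2
      have h4 : 7 ^ 2 ∣ 6048 := (pow_dvd_pow 7 hk2).trans h2
      revert h4; decide
    interval_cases k
    · rw [hk] at h3; exact absurd h3 (by norm_num)
    · rw [hk]; norm_num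
  have hCi : (Subgroup.centralizer ((Q : Subgroup G) : Set G)).index = 864 := by
    have h1 := (Subgroup.centralizer ((Q : Subgroup G) : Set G)).card_mul_index
    rw [hCc, hcard] at h1
    omega
  -- the inertial index
  have hN : (Subgroup.normalizer ((Q : Subgroup G) : Set G)).index % 7 = 1 := by
    have h1 := card_sylow_modEq_one 7 G
    rw [Q.card_eq_index_normalizer] at h1
    exact h1
  have hpe := p_eq D
  have hidx := index_C D
  rw [hCi] at hidx
  have heT : Nat.card (κu D).range = 3 ∧ Nat.card (Tau D) = 2 := by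
    generalize Nat.card (κu D).range = e at *
    generalize Nat.card (Tau D) = t at *
    generalize (Subgroup.normalizer ((Q : Subgroup G) : Set G)).index = n at *
    have h6 : e * t = 6 := by omega
    have he : e ∣ 6 := ⟨t, h6.symm⟩
    have he6 : e ≤ 6 := Nat.le_of_dvd (by norm_num) he
    interval_cases e
    · omega
    · omega
    · omega
    · exact ⟨rfl, by omega⟩
    · omega
    · omega
    · omega
  obtain ⟨he, hT⟩ := heT
  have ht : 1 < Nat.card (Tau D) := by omega
  obtain ⟨htX, htδ⟩ := triv_mem_X B ht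
  have hX2 : (B.X.erase (triv G)).card = 2 := by
    rw [Finset.card_erase_of_mem htX, B.cardX, he]
  obtain ⟨α, β, hαβ, hX⟩ := Finset.card_eq_two.1 hX2
  have hα : α ∈ B.X.erase (triv G) := by rw [hX]; simp
  have hβ : β ∈ B.X.erase (triv G) := by rw [hX]; simp
  rw [Finset.mem_erase] at hα hβ
  obtain ⟨q⟩ : Nonempty (Tau D) := inferInstance
  have hperf : commutator G = ⊤ := by
    rcases (inferInstance : (commutator G).Normal).eq_bot_or_eq_top with h | h
    · exfalso
      have hcomm : ∀ a b : G, a * b = b * a := by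
        intro a b
        have h1 : ⁅a, b⁆ ∈ commutator G := Subgroup.commutator_mem_commutator (Subgroup.mem_top a) (Subgroup.mem_top b)
        rw [h, Subgroup.mem_bot, commutatorElement_eq_one_iff_mul_comm] at h1
        exact h1
      have h2 : Nat.card (Subgroup.centralizer ((Q : Subgroup G) : Set G)) = Nat.card G := by
        have : Subgroup.centralizer ((Q : Subgroup G) : Set G) = ⊤ := by
          rw [eq_top_iff]
          intro g _
          rw [Subgroup.mem_centralizer_iff]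
          intro y _
          exact hcomm y g
        rw [this, Subgroup.card_top]
      rw [hCc, hcard] at h2
      omega
    · exact h
  have hdα := B.degX α hα.2
  have hdβ := B.degX β hβ.2
  obtain ⟨k, hk⟩ := hdα
  obtain ⟨l, hl⟩ := hdβ
  have hvα := BRDeg.B0.dvdX B hα.2
  have hvβ := BRDeg.B0.dvdX B hβ.2
  have hvY := BRDeg.B0.dvdY B q
  rw [hCi] at hvα hvβ hvY
  have hα1 : charDegree (α : G → ℂ) ≠ 1 := fun h => hα.1 (eq_triv_of_deg hperf h)
  have hβ1 : charDegree (β : G → ℂ) ≠ 1 := fun h => hβ.1 (eq_triv_of_deg hperf h)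
  have hrel := B.rel q 1 (by rw [orderOf_one]; norm_num)
  rw [← Finset.add_sum_erase _ _ htX, hX, Finset.sum_pair hαβ, htδ] at hrel
  have htr : ((triv G : IrrCharacter G) : G → ℂ) 1 = 1 := rfl
  rw [htr, ← BlockDeg.charDegree_cast_irr α, ← BlockDeg.charDegree_cast_irr β, ← BlockDeg.charDegree_cast_irr (B.Y q)] at hrel
  have hrel' : B.s * (charDegree (B.Y q : G → ℂ) : ℤ) = 1 + (B.δ α * (charDegree (α : G → ℂ) : ℤ) +
      B.δ β * (charDegree (β : G → ℂ) : ℤ)) := by
    have : ((B.s * (charDegree (B.Y q : G → ℂ) : ℤ) : ℤ) : ℂ) = ((1 + (B.δ α * (charDegree (α : G → ℂ) : ℤ) +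
      B.δ β * (charDegree (β : G → ℂ) : ℤ)) : ℤ) : ℂ) := by
      push_cast
      rw [hrel]
      push_cast
      ring
    exact_mod_cast this
  rcases arith hvα hvβ hvY hα1 hβ1 (B.δ_pm α hα.2) (B.δ_pm β hβ.2) B.s_pm hk hl hrel' with h | h | h
  · exact ⟨_, ⟨α, rfl⟩, h⟩
  · exact ⟨_, ⟨β, rfl⟩, h⟩
  · exact ⟨_, ⟨B.Y q, rfl⟩, h⟩

end Cfsg.Agent.Lib.U33Blk
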