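import Cfsg.Agent.Lib.ZassOdd4
import Cfsg.Agent.Lib.IndFun
import Cfsg.Agent.Lib.CharBasic2

set_option autoImplicit false

/-!
# Mackey formula for two double cosets; the principal series of a Zassenhaus group (helper15)
-/

open Cfsg
open Cfsg.Agent.Lib.CharBasic
open scoped ComplexConjugate

namespace Cfsg.Agent.Lib.ZassInd

open MulAction ZassBasic ZassKernel ZassOdd

universe u v

section mackey

variable {G : Type u} [Group G]

/-- Mackey formula when `G = N ∪ N s N`. -/
theorem inner_indFun [Fintype G] (N : Subgroup G) [Fintype N] (s : G)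
    (hs : ∀ g : G, g ∉ N → ∃ m ∈ N, ∃ n ∈ N, g = m * s * n)
    {θ φ : N → ℂ} (hθ : IsClassFunction N θ) (hφ : IsClassFunction N φ) :
    classInner (indFun N θ) (indFun N φ) = classInner θ φ +
      ((Nat.card G : ℂ) - Nat.card N) / (Nat.card N : ℂ) ^ 2 *
        ∑ y : N, θ y * conj (extendByZero N φ (s⁻¹ * y * s)) := by
  classical
  rw [IndFun.frobenius_reciprocity _ _ _ (IndFun.indFun_isClassFunction N φ)]
  have hN0 : (Nat.card N : ℂ) ≠ 0 := by
    exact_mod_cast Nat.card_pos.ne'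
  have hconj := IndFun.extendByZero_conj_inv N φ hφ
  set T : G → ℂ := fun x => ∑ y : N, θ y * conj (extendByZero N φ (x⁻¹ * y * x)) with hT
  have h1 : ∑ y : N, θ y * conj (indFun N φ y) =
      (Nat.card N : ℂ)⁻¹ * ∑ x : G, T x := by
    simp only [indFun, hT]
    rw [Finset.sum_comm, Finset.mul_sum]
    apply Finset.sum_congr rfl
    intro y _
    rw [map_mul, map_sum, Finset.mul_sum, Finset.mul_sum, Finset.mul_sum]
    apply Finset.sum_congr rfl
    intro x _
    rw [map_inv₀, Complex.conj_natCast]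
    ring
  have hTN : ∀ x ∈ N, T x = (Nat.card N : ℂ) * classInner θ φ := by
    intro x hx
    simp only [hT, classInner]
    rw [mul_inv_cancel_left₀ hN0]
    apply Finset.sum_congr rfl
    intro y _
    have h2 : x⁻¹ * (y : G) * x = ((⟨x, hx⟩⁻¹ * y * ⟨x, hx⟩⁻¹⁻¹ : N) : G) := by simp
    rw [h2, IndFun.extendByZero_coe, hφ]
  have hTs : ∀ x, x ∉ N → T x = T s := by
    intro x hx
    obtain ⟨m, hm, n, hn, rfl⟩ := hs x hx
    simp only [hT]
    refine Fintype.sum_equiv (MulAut.conj (⟨m, hm⟩⁻¹ : N)).toEquiv _ _ ?_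
    intro y
    have e1 : θ ((MulAut.conj (⟨m, hm⟩⁻¹ : N)) y) = θ y := by
      rw [MulAut.conj_apply, hθ]
    have e2 : extendByZero N φ ((m * s * n)⁻¹ * y * (m * s * n)) =
        extendByZero N φ (s⁻¹ * ((MulAut.conj (⟨m, hm⟩⁻¹ : N)) y : N) * s) := by
      have e3 : (m * s * n)⁻¹ * y * (m * s * n) =
          n⁻¹ * (s⁻¹ * ((MulAut.conj (⟨m, hm⟩⁻¹ : N)) y : N) * s) * n⁻¹⁻¹ := by
        rw [MulAut.conj_apply]
        simp [mul_assoc]
      rw [e3]
      set w := s⁻¹ * (((MulAut.conj (⟨m, hm⟩⁻¹ : N)) y : N) : G) * s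
      by_cases hw : w ∈ N
      · have e4 : n⁻¹ * w * n⁻¹⁻¹ = (((⟨n, hn⟩⁻¹ : N) * ⟨w, hw⟩ * (⟨n, hn⟩⁻¹ : N)⁻¹ : N) : G) := by
          simp
        rw [e4, IndFun.extendByZero_coe, hφ, IndFun.extendByZero_mem N φ hw]
      · rw [IndFun.extendByZero_not_mem N φ hw, IndFun.extendByZero_not_mem]
        intro h
        apply hw
        have : w = n * (n⁻¹ * w * n⁻¹⁻¹) * n⁻¹ := by group
        rw [this]
        exact N.mul_mem (N.mul_mem hn h) (N.inv_mem hn)
    change _ = θ ((MulAut.conj (⟨m, hm⟩⁻¹ : N)) y) * _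
    rw [e1, e2]
    rfl
  have h3 : ∑ x : G, T x = (Nat.card N : ℂ) * ((Nat.card N : ℂ) * classInner θ φ) +
      ((Nat.card G : ℂ) - Nat.card N) * T s := by
    rw [← Finset.sum_filter_add_sum_filter_not Finset.univ (fun x : G => x ∈ N),
      Finset.sum_congr rfl (fun x hx => hTN x (Finset.mem_filter.mp hx).2),
      Finset.sum_congr rfl (fun x hx => hTs x (Finset.mem_filter.mp hx).2),
      Finset.sum_const, Finset.sum_const, nsmul_eq_mul, nsmul_eq_mul]
    have c1 : (Finset.univ.filter (fun x : G => x ∈ N)).card = Nat.card N := by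
      rw [← Fintype.card_subtype, Nat.card_eq_fintype_card]
    have c2 : (Finset.univ.filter (fun x : G => x ∉ N)).card + Nat.card N = Nat.card G := by
      rw [← c1, add_comm, Finset.card_filter_add_card_filter_not, Finset.card_univ,
        Nat.card_eq_fintype_card]
    have c3 : ((Finset.univ.filter (fun x : G => x ∉ N)).card : ℂ) =
        (Nat.card G : ℂ) - Nat.card N := by
      rw [← c2]; push_cast; ring
    rw [c1, c3]
  have h4 : classInner θ (fun y : N => indFun N φ y) =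
      (Nat.card N : ℂ)⁻¹ * ∑ y : N, θ y * conj (indFun N φ y) := rfl
  rw [h4, h1, h3]
  field_simp
  rfl

end mackey

variable {G : Type u} {Ω : Type v} [Group G] [MulAction G Ω]

theorem double_coset (hZ : Cfsg.IsZassenhausGroup G Ω) {a b : Ω} (hab : a ≠ b) {s : G}
    (hs : s • a = b) (g : G) (hg : g ∉ stabilizer G a) :
    ∃ m ∈ stabilizer G a, ∃ n ∈ stabilizer G a, g = m * s * n := by
  have hga : g • a ≠ a := hg
  obtain ⟨m, hm1, hm2⟩ := exists_move hZ.2.1 hab (Ne.symm hga)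
  refine ⟨m, hm1, s⁻¹ * m⁻¹ * g, ?_, by group⟩
  change (s⁻¹ * m⁻¹ * g) • a = a
  rw [mul_smul, mul_smul, ← hm2, inv_smul_smul, inv_smul_eq_iff, hs]

/-- Values of an induced linear character on the kernel. -/
theorem indFun_kernel [Fintype G] {a : Ω}
    (H : Subgroup G) (hHa : H ≤ stabilizer G a)
    (hHfix : ∀ u ∈ H, u ≠ 1 → ∀ c : Ω, u • c = c → c = a)
    (μ : stabilizer G a → ℂ) (hμ : IsClassFunction (stabilizer G a) μ)
    {u : G} (hu : u ∈ H) (hu1 : u ≠ 1) :
    indFun (stabilizer G a) μ u = μ ⟨u, hHa hu⟩ := by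
  classical
  have hN0 : (Nat.card (stabilizer G a) : ℂ) ≠ 0 := by
    exact_mod_cast Nat.card_pos.ne'
  rw [IndFun.indFun_apply]
  have h1 : ∀ x : G, extendByZero (stabilizer G a) μ (x⁻¹ * u * x) =
      if x ∈ stabilizer G a then μ ⟨u, hHa hu⟩ else 0 := by
    intro x
    split_ifs with hx
    · have h2 : x⁻¹ * u * x =
          (((⟨x, hx⟩⁻¹ : stabilizer G a) * ⟨u, hHa hu⟩ * (⟨x, hx⟩⁻¹ : stabilizer G a)⁻¹ :
            stabilizer G a) : G) := by simp
      rw [h2, IndFun.extendByZero_coe, hμ]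
    · apply IndFun.extendByZero_not_mem
      intro h
      apply hx
      have h3 : (x⁻¹ * u * x) • a = a := h
      rw [mul_smul, mul_smul, inv_smul_eq_iff] at h3
      exact hHfix u hu hu1 _ h3
  rw [Finset.sum_congr rfl fun x _ => h1 x, ← Finset.sum_filter, Finset.sum_const,
    nsmul_eq_mul]
  have c1 : (Finset.univ.filter (fun x : G => x ∈ stabilizer G a)).card =
      Nat.card (stabilizer G a) := by
    rw [← Fintype.card_subtype, Nat.card_eq_fintype_card]
  rw [c1, inv_mul_cancel_left₀ hN0]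

/-- A function on `G_a` trivial on `H` and on `E` is trivial. -/
theorem eq_one_of_trivial [Finite G] [Finite Ω] (hZ : Cfsg.IsZassenhausGroup G Ω) {a b : Ω}
    (hab : a ≠ b)
    (H : Subgroup G) (hHa : H ≤ stabilizer G a) (hHcard : Nat.card H + 1 = Nat.card Ω)
    (hHfix : ∀ u ∈ H, u ≠ 1 → ∀ c : Ω, u • c = c → c = a)
    (μ : stabilizer G a → ℂ) (hμ : IsClassFunction (stabilizer G a) μ)
    (h1 : ∀ u : stabilizer G a, (u : G) ∈ H → μ u = 1)
    (h2 : ∀ y : stabilizer G a, (y : G) • b = b → μ y = 1) : μ = fun _ => 1 := by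
  funext g
  by_cases hg : InK a (g : G)
  · exact h1 g ((mem_kernel_iff hZ a H hHa hHcard hHfix g).mpr hg)
  · have h3 : (g : G) ≠ 1 ∧ ∃ c, c ≠ a ∧ (g : G) • c = c := by
      by_contra hcon
      apply hg
      refine ⟨g.2, fun hg1 x hx hgx => hcon ⟨hg1, x, hx, hgx⟩⟩
    obtain ⟨-, c, hca, hgc⟩ := h3
    obtain ⟨k, hk1, hk2⟩ := exists_move hZ.2.1 hab (Ne.symm hca)
    have hk : k ∈ stabilizer G a := hk1
    have h4 := hμ g (⟨k, hk⟩⁻¹ : stabilizer G a)
    rw [← h4]
    apply h2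
    change (k⁻¹ * (g : G) * k⁻¹⁻¹) • b = b
    rw [inv_inv, mul_smul, mul_smul, hk2, hgc, inv_smul_eq_iff, hk2]

/-- The principal series is irreducible. -/
theorem isIrr_indFun [Fintype G] [Finite Ω] {e : ℕ} (hyp : Hyp G Ω e) {a b : Ω} (hab : a ≠ b)
    (H : Subgroup G) (hHa : H ≤ stabilizer G a) (hHcard : Nat.card H + 1 = Nat.card Ω)
    (hHfix : ∀ u ∈ H, u ≠ 1 → ∀ c : Ω, u • c = c → c = a)
    (μ : stabilizer G a → ℂ) (hμ : IsCharacter (stabilizer G a) μ) (hμ1 : μ 1 = 1)
    (h1 : ∀ u : stabilizer G a, (u : G) ∈ H → μ u = 1) (hne : μ ≠ fun _ => 1) :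
    IsIrrCharacter G (indFun (stabilizer G a) μ) := by
  classical
  have : Fintype (stabilizer G a) := Fintype.ofFinite _
  obtain ⟨s, hs1, hs2⟩ := exists_move hyp.zass.2.1 hab hab.symm
  apply (hμ.indFun (stabilizer G a)).isIrr_of_norm_one
  rw [inner_indFun (stabilizer G a) s (double_coset hyp.zass hab hs1) hμ.isClassFunction
    hμ.isClassFunction, (hμ.isIrr_of_one_eq_one hμ1).classInner_self]
  obtain ⟨f, hf⟩ := hμ.exists_hom hμ1
  -- the sum over `E`
  have hsum : ∑ y : stabilizer G a, μ y * conj (extendByZero (stabilizer G a) μ (s⁻¹ * y * s)) =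
      0 := by
    set E : Subgroup G := stabilizer G a ⊓ stabilizer G b with hE
    have : Fintype E := Fintype.ofFinite _
    let ι : E →* stabilizer G a := Subgroup.inclusion inf_le_left
    have e1 : ∀ y : stabilizer G a, μ y * conj (extendByZero (stabilizer G a) μ (s⁻¹ * y * s)) =
        if (y : G) • b = b then μ y * μ y else 0 := by
      intro y
      have hmem : s⁻¹ * (y : G) * s ∈ stabilizer G a ↔ (y : G) • b = b := by
        rw [mem_stabilizer_iff, mul_smul, mul_smul, hs1, inv_smul_eq_iff, hs1]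
      split_ifs with hy
      · rw [IndFun.extendByZero_mem _ _ (hmem.mpr hy)]
        have hss := hyp.swap_sq hab hs1 hs2
        have hsinv : s⁻¹ = s := inv_eq_of_mul_eq_one_right hss
        have h2 : s⁻¹ * (y : G) * s = (y : G)⁻¹ := by
          have h3 := hyp.inv a b hab s hs1 hs2 y y.2 hy
          rw [hsinv] at h3 ⊢
          exact h3
        have h4 : (⟨s⁻¹ * (y : G) * s, hmem.mpr hy⟩ : stabilizer G a) = y⁻¹ := Subtype.ext h2
        rw [h4, hμ.inv, Complex.conj_conj]
      · rw [IndFun.extendByZero_not_mem _ _ (fun h => hy (hmem.mp h)), map_zero, mul_zero]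
    rw [Finset.sum_congr rfl fun y _ => e1 y, ← Finset.sum_filter]
    have e2 : ∑ y ∈ Finset.univ.filter (fun y : stabilizer G a => (y : G) • b = b), μ y * μ y =
        ∑ y : E, (((f.comp ι) * (f.comp ι)) y : ℂ) := by
      symm
      refine Finset.sum_bij (fun y _ => ι y) ?_ ?_ ?_ ?_
      · intro y _
        rw [Finset.mem_filter]
        exact ⟨Finset.mem_univ _, y.2.2⟩
      · intro y _ z _ hyz
        exact Subgroup.inclusion_injective _ hyz
      · intro y hy
        rw [Finset.mem_filter] at hy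
        exact ⟨⟨y, y.2, hy.2⟩, Finset.mem_univ _, rfl⟩
      · intro y _
        rw [hf]
        simp
    rw [e2]
    refine sum_hom_units_eq_zero ((Units.coeHom ℂ).comp ((f.comp ι) * (f.comp ι))) ?_
    intro hcon
    apply hne
    apply eq_one_of_trivial hyp.zass hab H hHa hHcard hHfix μ hμ.isClassFunction h1
    intro y hyb
    have h2 := DFunLike.congr_fun hcon (⟨y, y.2, hyb⟩ : E)
    have h3 : f y * f y = 1 := Units.ext h2
    have h4 : (y : G) ^ e = 1 := hyp.orderOf_dvd hab y.2 hyb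
    have h5 : f y ^ e = 1 := by
      rw [← map_pow]
      have : y ^ e = 1 := Subtype.ext h4
      rw [this, map_one]
    obtain ⟨k, hk⟩ := hyp.odd
    rw [hk, pow_add, pow_mul, pow_two, h3, one_pow, one_mul, pow_one] at h5
    rw [hf, h5]
    simp
  rw [hsum, mul_zero, add_zero]

end Cfsg.Agent.Lib.ZassInd
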