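import Mathlib
import Cfsg.Agent.Lib.PU3c
import Cfsg.Agent.Lib.ZassInd
import Cfsg.Agent.Lib.Clifford
import Cfsg.Agent.Lib.CharValues
import Cfsg.Agent.Lib.BlockDeg
import Cfsg.Agent.Lib.H55KleinChar2
import Cfsg.Prelude.Def_DegreeGraph

set_option autoImplicit false
set_option linter.unusedSectionVars false

/-!
# Characters of `SU_3(3)` induced from linear characters of a Borel subgroup (helper20)
-/

namespace Cfsg.Agent.Lib.U33Bor

open Subgroup Matrix Cfsg Cfsg.Agent.Lib.ClUnitary Cfsg.Agent.Lib.HermMat Cfsg.Agent.Lib.SylU3 Cfsg.Agent.Lib.CharBasic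
open Cfsg.Agent.Lib.SU3Gen (UJ mx mx_mul mx_one mx_inj mul_vec3 X Y T W mx_X mx_Y mx_T mx_W mul3 exists_X exists_upper
  X_congr X_mul X_one X_inv X_conj T_conj)
open Cfsg.Agent.Lib.IsoRk1 (U1 mem_U1 X_mem_U1 eq_X norm_U1 co_mul co_inv W_e1 X_e3 inv_vec bruhatU line_of_comm T_e1
  card_U1 card_UJ W_conj)
open Cfsg.Agent.Lib.PU3 Cfsg.Agent.Lib.Clifford
open scoped ComplexConjugate

universe u

section gen

variable {F : Type u} [Field F] {σ : F →+* F} (hσ : ∀ x, σ (σ x) = x)

theorem W_inv : (W : UJ σ)⁻¹ = W := by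
  rw [inv_eq_iff_mul_eq_one]
  apply mx_inj
  rw [mx_mul, mx_W, mx_one, mul3]
  ext i j; fin_cases i <;> fin_cases j <;> simp

include hσ in
theorem W_T {t : F} (ht : t ≠ 0) : (W : UJ σ)⁻¹ * T hσ t ht * W =
    T hσ (σ t)⁻¹ (inv_ne_zero ((map_ne_zero σ).2 ht)) := by
  have h1 : σ t ≠ 0 := (map_ne_zero σ).2 ht
  rw [W_inv]
  apply mx_inj
  rw [mx_mul, mx_mul, mx_W, mx_T, mx_T, mul3, mul3]
  ext i j; fin_cases i <;> fin_cases j <;> simp [hσ] <;> field_simp

include hσ in
theorem bruhat (g : UJ σ) (hg : g ∉ Bo σ) : ∃ m ∈ Bo σ, ∃ n ∈ Bo σ, g = m * W * n := by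
  rcases bruhatU hσ g with h | ⟨u, hu, n, hn, e⟩
  · exact absurd h hg
  · exact ⟨u, U1_le_Bo hu, n, hn, e⟩

theorem eq_T {y : UJ σ} (hy : y ∈ Bo σ) (h : (W : UJ σ)⁻¹ * y * W ∈ Bo σ) : y = T hσ (mx y 0 0) (Bo_ne hy) := by
  obtain ⟨a, b, h1, e⟩ := exists_XT hσ hy
  have h2 : (W : UJ σ)⁻¹ * y * W = ((W : UJ σ)⁻¹ * X hσ a b h1 * W) *
      ((W : UJ σ)⁻¹ * T hσ (mx y 0 0) (Bo_ne hy) * W) := by
    conv_lhs => rw [e]
    group
  rw [h2, W_T hσ] at h
  have h3 : (W : UJ σ)⁻¹ * X hσ a b h1 * W ∈ Bo σ := by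
    have := mul_mem h (inv_mem (T_mem_Bo hσ (inv_ne_zero ((map_ne_zero σ).2 (Bo_ne hy)))))
    rwa [mul_inv_cancel_right] at this
  have h4 : mx ((W : UJ σ)⁻¹ * X hσ a b h1 * W) 0 0 = 1 := by
    rw [W_inv, mx_mul, mx_mul, mx_W, mx_X, mul3, mul3]
    simp
  have h5 : X hσ a b h1 = 1 := W_conj hσ (X_mem_U1 hσ h1) ((mem_U1_iff h3).2 h4)
  rw [h5, one_mul] at e
  exact e

end gen

section fin

variable {F : Type u} [Field F] [Fintype F] (hF : Fintype.card F = 3 ^ 2)

/-- linear characters of the Borel subgroup -/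
noncomputable def ph (α : MulChar F ℂ) : ↥(Bo (frob hF)) →* ℂ where
  toFun b := α (mx b.1 0 0)
  map_one' := by
    change α (mx (1 : UJ (frob hF)) 0 0) = 1
    rw [mx_one]; simp
  map_mul' a b := by
    change α (mx (a.1 * b.1) 0 0) = _
    rw [mul00 b.2, map_mul]

theorem ph_apply (α : MulChar F ℂ) (b : ↥(Bo (frob hF))) : ph hF α b = α (mx b.1 0 0) := rfl

variable [Fintype (UJ (frob hF))]

/-- the induced characters -/
noncomputable def R (α : MulChar F ℂ) : UJ (frob hF) → ℂ := indFun (Bo (frob hF)) (fun b => ph hF α b)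

theorem ph_char (α : MulChar F ℂ) : IsCharacter ↥(Bo (frob hF)) (fun b => ph hF α b) := isCharacter_of_hom _

theorem R_char (α : MulChar F ℂ) : IsCharacter (UJ (frob hF)) (R hF α) := (ph_char hF α).indFun _

theorem R_one (α : MulChar F ℂ) : R hF α 1 = 28 := by
  rw [R, IndFun.indFun_one, index_Bo hF, map_one]
  norm_num

theorem frob_val (x : F) : frob hF x = x ^ 3 := rfl

theorem conj_inv (γ : MulChar F ℂ) {x : F} : conj (γ x⁻¹) = γ x := by
  have h1 := congrArg (fun c : MulChar F ℂ => c x⁻¹) (MulChar.star_eq_inv γ)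
  simp only [MulChar.inv_apply', inv_inv] at h1
  exact h1

theorem inner_R [Fintype (Bo (frob hF))] (α γ : MulChar F ℂ) : classInner (R hF α) (R hF γ) =
    classInner (fun b : Bo (frob hF) => ph hF α b) (fun b => ph hF γ b) + if α * γ ^ 3 = 1 then 1 else 0 := by
  classical
  have hσ := frob_frob hF
  rw [R, R, ZassInd.inner_indFun (Bo (frob hF)) W (fun g hg => bruhat hσ g hg) (ph_char hF α).isClassFunction
    (ph_char hF γ).isClassFunction]
  congr 1
  have h1 : ∑ y : Bo (frob hF), ph hF α y * conj (extendByZero (Bo (frob hF)) (fun b => ph hF γ b)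
      ((W : UJ (frob hF))⁻¹ * y.1 * W)) = ∑ t : Fˣ, (α * γ ^ 3) (t : F) := by
    symm
    refine Fintype.sum_of_injective (fun t : Fˣ => (⟨T hσ t t.ne_zero, T_mem_Bo hσ t.ne_zero⟩ : Bo (frob hF))) ?_ _ _ ?_ ?_
    · intro s t h
      apply Units.ext
      have h2 := congrArg (fun b : Bo (frob hF) => mx b.1 0 0) h
      simpa [mx_T] using h2
    · intro y hy
      rw [IndFun.extendByZero_not_mem, map_zero, mul_zero]
      intro h
      apply hy
      have h2 := eq_T hσ y.2 h
      exact ⟨Units.mk0 (mx y.1 0 0) (Bo_ne y.2), Subtype.ext h2.symm⟩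
    · intro t
      have h2 : (W : UJ (frob hF))⁻¹ * T hσ (t : F) t.ne_zero * W ∈ Bo (frob hF) := by
        rw [W_T hσ]; exact T_mem_Bo hσ _
      have h3 : mx ((W : UJ (frob hF))⁻¹ * T hσ (t : F) t.ne_zero * W) 0 0 = ((t : F) ^ 3)⁻¹ := by
        rw [W_T hσ, mx_T]; rfl
      rw [IndFun.extendByZero_mem _ _ h2, ph_apply, ph_apply]
      change _ = α (mx (T hσ (t : F) t.ne_zero) 0 0) * conj (γ (mx ((W : UJ (frob hF))⁻¹ * T hσ (t : F) t.ne_zero * W) 0 0))
      rw [h3, conj_inv, mx_T, MulChar.mul_apply, MulChar.pow_apply_coe]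
      simp
  have hb := card_Bo hF
  have hu := card_UJ hF
  norm_num at hb hu
  rw [← Nat.card_eq_fintype_card] at hb hu
  rw [h1, hb, hu]
  have h2 : ∑ t : Fˣ, (α * γ ^ 3) (t : F) = ∑ a : F, (α * γ ^ 3) a := by
    refine Fintype.sum_of_injective (fun t : Fˣ => (t : F)) Units.val_injective _ _ ?_ (fun t => rfl)
    intro a ha
    apply MulChar.map_nonunit
    rintro ⟨u, hu⟩
    exact ha ⟨u, hu⟩
  rw [h2]
  split_ifs with h3
  · rw [h3, MulChar.sum_one_eq_card_units]
    have : Fintype.card Fˣ = 8 := by rw [Fintype.card_units, hF]; norm_num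
    rw [this]; norm_num
  · rw [MulChar.sum_eq_zero_of_ne_one h3, mul_zero]

end fin

/-- half of an invariant sum -/
theorem exists_half {ι : Type*} [DecidableEq ι] (f : ι → ℂ) (g : ι → ι) (s : Finset ι)
    (hf : ∀ x ∈ s, IsIntegral ℤ (f x)) (hg : ∀ x ∈ s, g x ∈ s) (hgg : ∀ x ∈ s, g (g x) = x)
    (hne : ∀ x ∈ s, g x ≠ x) (hfg : ∀ x ∈ s, f (g x) = f x) :
    ∃ z : ℂ, IsIntegral ℤ z ∧ ∑ x ∈ s, f x = 2 * z := by
  induction s using Finset.strongInduction with
  | H s ih =>
    rcases s.eq_empty_or_nonempty with rfl | ⟨x, hx⟩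
    · exact ⟨0, isIntegral_zero, by simp⟩
    · have hgx := hg x hx
      have hnx := hne x hx
      have hmem : ∀ y ∈ (s.erase x).erase (g x), y ≠ g x ∧ y ≠ x ∧ y ∈ s := by
        intro y hy
        rw [Finset.mem_erase, Finset.mem_erase] at hy
        exact hy
      have hsub : (s.erase x).erase (g x) ⊂ s := by
        refine Finset.ssubset_iff_subset_ne.2 ⟨(Finset.erase_subset _ _).trans (Finset.erase_subset _ _), ?_⟩
        intro h
        have := h ▸ hx
        simp at this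
      obtain ⟨z, hz, e⟩ := ih _ hsub (fun y hy => hf y (hmem y hy).2.2)
        (fun y hy => by
          obtain ⟨h1, h2, h3⟩ := hmem y hy
          rw [Finset.mem_erase, Finset.mem_erase]
          refine ⟨fun h => h2 ?_, fun h => h1 ?_, hg y h3⟩
          · rw [← hgg y h3, h, hgg x hx]
          · rw [← hgg y h3, h])
        (fun y hy => hgg y (hmem y hy).2.2) (fun y hy => hne y (hmem y hy).2.2) (fun y hy => hfg y (hmem y hy).2.2)
      refine ⟨f x + z, (hf x hx).add hz, ?_⟩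
      rw [← Finset.add_sum_erase s f hx, ← Finset.add_sum_erase (s.erase x) f (Finset.mem_erase.2 ⟨hnx, hgx⟩), e,
        hfg x hx]
      ring

section fin2

variable {F : Type u} [Field F] [Fintype F] [DecidableEq F] (hF : Fintype.card F = 3 ^ 2)

include hF in
omit [DecidableEq F] in
theorem char_three : CharP F 3 := by
  obtain ⟨p', f, hp', hc, hq, hf⟩ := Cfsg.Agent.Lib.HermMat.exists_char hF
  have h5 : 3 = p' := by
    have h6 : p' ∣ 3 := by rw [hq]; exact dvd_pow_self p' (by omega)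
    exact ((Nat.prime_dvd_prime_iff_eq hp' (by norm_num)).mp h6).symm
  rw [h5]
  exact hc

include hF in
theorem card_units : Fintype.card Fˣ = 8 := by
  rw [Fintype.card_units, hF]; norm_num

include hF in
theorem pow8 (γ : MulChar F ℂ) : γ ^ 8 = 1 := by
  have h := MulChar.pow_card_eq_one γ
  rwa [card_units hF] at h

include hF in
theorem sum_chars [Fintype (MulChar F ℂ)] (t : F) : ∑ γ : MulChar F ℂ, γ t = if t = 1 then 8 else 0 := by
  split_ifs with ha
  · have h1 : Fintype.card (MulChar F ℂ) = 8 := by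
      rw [← Nat.card_eq_fintype_card, MulChar.card_eq_card_units_of_hasEnoughRootsOfUnity, Nat.card_eq_fintype_card,
        card_units hF]
    rw [ha]
    simp only [map_one, Finset.sum_const, Finset.card_univ, h1]
    norm_num
  · obtain ⟨χ, hχ⟩ := MulChar.exists_apply_ne_one_of_hasEnoughRootsOfUnity F ℂ ha
    refine eq_zero_of_mul_eq_self_left hχ ?_
    simp only [Finset.mul_sum, ← MulChar.mul_apply]
    exact Fintype.sum_bijective _ (Group.mulLeft_bijective χ) _ _ fun χ' ↦ rfl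

variable [Fintype (UJ (frob hF))]

omit [DecidableEq F] in
theorem inner_sum [Fintype (Bo (frob hF))] (ψ : UJ (frob hF) → ℂ) (hψ : IsClassFunction _ ψ) (γ : MulChar F ℂ) :
    classInner (R hF γ) ψ = (216 : ℂ)⁻¹ * ∑ b : Bo (frob hF), γ (mx b.1 0 0) * conj (ψ b.1) := by
  rw [R, IndFun.frobenius_reciprocity _ _ _ hψ, classInner_def]
  have hb := card_Bo hF
  norm_num at hb
  rw [← Nat.card_eq_fintype_card] at hb
  rw [hb]
  norm_num
  rfl

theorem sum_U1 (ψ : UJ (frob hF) → ℂ) (hψ : IsClassFunction _ ψ) (κ : MulChar F ℂ)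
    (h1 : classInner (R hF κ) ψ = 1) (h0 : ∀ γ, γ ≠ κ → classInner (R hF γ) ψ = 0) [DecidablePred (· ∈ U1 (frob hF))] :
    ∑ g ∈ Finset.univ.filter (· ∈ U1 (frob hF)), ψ g = 27 := by
  classical
  have : Fintype (Bo (frob hF)) := Fintype.ofFinite _
  have : Fintype (MulChar F ℂ) := Fintype.ofFinite _
  have h2 : ∑ γ : MulChar F ℂ, classInner (R hF γ) ψ = 1 := by
    rw [Finset.sum_eq_single κ (fun γ _ h => h0 γ h) (fun h => absurd (Finset.mem_univ _) h), h1]
  have h3 : ∑ γ : MulChar F ℂ, classInner (R hF γ) ψ = (216 : ℂ)⁻¹ * ∑ b : Bo (frob hF),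
      (if mx b.1 0 0 = 1 then 8 * conj (ψ b.1) else 0) := by
    simp only [inner_sum hF ψ hψ]
    rw [← Finset.mul_sum, Finset.sum_comm]
    congr 1
    refine Finset.sum_congr rfl fun b _ => ?_
    rw [← Finset.sum_mul, sum_chars hF]
    split_ifs <;> simp
  have h4 : ∑ b : Bo (frob hF), (if mx b.1 0 0 = 1 then 8 * conj (ψ b.1) else 0) =
      ∑ g ∈ Finset.univ.filter (· ∈ U1 (frob hF)), 8 * conj (ψ g) := by
    rw [← Finset.sum_subtype (Finset.univ.filter (· ∈ Bo (frob hF))) (fun g => by simp)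
      (fun g => if mx g 0 0 = 1 then 8 * conj (ψ g) else 0), ← Finset.sum_filter, Finset.filter_filter]
    refine Finset.sum_congr ?_ fun _ _ => rfl
    ext g
    simp only [Finset.mem_filter, Finset.mem_univ, true_and]
    constructor
    · rintro ⟨h5, h6⟩; exact (mem_U1_iff h5).2 h6
    · intro h5; exact ⟨U1_le_Bo h5, (mem_U1_iff (U1_le_Bo h5)).1 h5⟩
  rw [h2, h4, ← Finset.mul_sum, ← map_sum] at h3
  have h5 : conj (∑ g ∈ Finset.univ.filter (· ∈ U1 (frob hF)), ψ g) = 27 := by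
    linear_combination (-27) * h3
  have h6 := congrArg conj h5
  rw [Complex.conj_conj] at h6
  rw [h6]
  exact Complex.conj_natCast 27

open scoped Classical in
/-- the involution on the nontrivial unipotent elements -/
noncomputable def phi (t : F) (ht : t ≠ 0) (g : UJ (frob hF)) : UJ (frob hF) :=
  if mx g 0 1 = 0 then T (frob_frob hF) t ht * g * (T (frob_frob hF) t ht)⁻¹ else
    T (frob_frob hF) (-1) (neg_ne_zero.2 one_ne_zero) * g * (T (frob_frob hF) (-1) (neg_ne_zero.2 one_ne_zero))⁻¹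

theorem phi_conj (t : F) (ht : t ≠ 0) (g : UJ (frob hF)) : ∃ k, phi hF t ht g = k * g * k⁻¹ := by
  rw [phi]
  split_ifs
  · exact ⟨_, rfl⟩
  · exact ⟨_, rfl⟩

theorem phi_X0 {t : F} (ht : t ≠ 0) (ht4 : t ^ 4 = -1) {b : F} (h : b + frob hF b + 0 * frob hF 0 = 0) :
    ∃ h', phi hF t ht (X (frob_frob hF) 0 b h) = X (frob_frob hF) 0 (-b) h' := by
  rw [phi, if_pos (by rw [mx_X]; simp)]
  obtain ⟨h2, e⟩ := T_conj (frob_frob hF) ht h
  have hz : t * frob hF t * b = -b := by
    rw [frob_val]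
    linear_combination b * ht4
  have h3 : -b + frob hF (-b) + 0 * frob hF 0 = 0 := by
    rw [map_neg]; linear_combination -h
  refine ⟨h3, ?_⟩
  rw [e]
  exact X_congr _ (by ring) hz

theorem phi_X {t : F} (ht : t ≠ 0) {a b : F} (ha : a ≠ 0) (h : b + frob hF b + a * frob hF a = 0) :
    ∃ h', phi hF t ht (X (frob_frob hF) a b h) = X (frob_frob hF) (-a) b h' := by
  rw [phi, if_neg (by rw [mx_X]; simpa using ha)]
  obtain ⟨h2, e⟩ := T_conj (frob_frob hF) (neg_ne_zero.2 one_ne_zero) h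
  have h3 : b + frob hF b + (-a) * frob hF (-a) = 0 := by
    rw [map_neg]; linear_combination h
  refine ⟨h3, ?_⟩
  rw [e]
  refine X_congr _ ?_ ?_
  · rw [map_neg, map_one, inv_neg, inv_one]; ring
  · rw [map_neg, map_one]; ring

theorem odd_degree [Fintype (Bo (frob hF))] (ψ : IrrCharacter (UJ (frob hF))) (κ : MulChar F ℂ)
    (h1 : classInner (R hF κ) (ψ : UJ (frob hF) → ℂ) = 1)
    (h0 : ∀ γ, γ ≠ κ → classInner (R hF γ) (ψ : UJ (frob hF) → ℂ) = 0) {t : F} (ht4 : t ^ 4 = -1) :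
    Odd (charDegree (ψ : UJ (frob hF) → ℂ)) := by
  classical
  have hch := char_three hF
  have hσ := frob_frob hF
  have ht : t ≠ 0 := by
    rintro rfl
    have h2 : (-1 : F) ≠ 0 := neg_ne_zero.2 one_ne_zero
    apply h2
    rw [← ht4]; norm_num
  have hcls : IsClassFunction _ (ψ : UJ (frob hF) → ℂ) := ψ.2.isClassFunction
  have hsum := sum_U1 hF (ψ : UJ (frob hF) → ℂ) hcls κ h1 h0
  have hneg : ∀ a : F, a ≠ 0 → -a ≠ a := by
    intro a ha h
    have h3 : (3 : F) = 0 := by have := CharP.cast_eq_zero F 3; exact_mod_cast this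
    apply ha
    linear_combination h + a * h3
  -- the description of the elements
  have hdesc : ∀ g ∈ (Finset.univ.filter (· ∈ U1 (frob hF))).erase (1 : UJ (frob hF)),
      (∃ b h, b ≠ 0 ∧ g = X hσ 0 b h) ∨ (∃ a b h, a ≠ 0 ∧ g = X hσ a b h) := by
    intro g hg
    simp only [Finset.mem_erase, Finset.mem_filter, Finset.mem_univ, true_and] at hg
    obtain ⟨a, b, h, e⟩ := exists_X hσ g hg.2
    by_cases ha : a = 0
    · left
      subst ha
      refine ⟨b, h, ?_, e⟩
      rintro rfl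
      exact hg.1 (e.trans (X_one hσ))
    · right
      exact ⟨a, b, h, ha, e⟩
  have hmem : ∀ a b h, (a ≠ 0 ∨ b ≠ 0) → X hσ a b h ∈ (Finset.univ.filter (· ∈ U1 (frob hF))).erase
      (1 : UJ (frob hF)) := by
    intro a b h hab
    simp only [Finset.mem_erase, Finset.mem_filter, Finset.mem_univ, true_and]
    refine ⟨fun h5 => ?_, X_mem_U1 hσ h⟩
    have h6 := congrArg (fun g => mx g 0 1) h5
    have h7 := congrArg (fun g => mx g 0 2) h5
    simp only [mx_X, mx_one] at h6 h7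
    simp at h6 h7
    tauto
  obtain ⟨z, hz, e⟩ := exists_half (fun g => (ψ : UJ (frob hF) → ℂ) g) (phi hF t ht)
    ((Finset.univ.filter (· ∈ U1 (frob hF))).erase (1 : UJ (frob hF)))
    (fun g _ => by
      obtain ⟨n, ρ, hρ⟩ := ψ.2.isCharacter
      rw [← hρ]
      exact CharValues.isIntegral_character ρ g)
    (fun g hg => by
      rcases hdesc g hg with ⟨b, h, hb, rfl⟩ | ⟨a, b, h, ha, rfl⟩
      · obtain ⟨h', e⟩ := phi_X0 hF ht ht4 h
        rw [e]; exact hmem _ _ _ (Or.inr (neg_ne_zero.2 hb))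
      · obtain ⟨h', e⟩ := phi_X hF ht ha h
        rw [e]; exact hmem _ _ _ (Or.inl (neg_ne_zero.2 ha)))
    (fun g hg => by
      rcases hdesc g hg with ⟨b, h, hb, rfl⟩ | ⟨a, b, h, ha, rfl⟩
      · obtain ⟨h', e⟩ := phi_X0 hF ht ht4 h
        obtain ⟨h'', e'⟩ := phi_X0 hF ht ht4 h'
        rw [e, e']; exact X_congr _ rfl (neg_neg b)
      · obtain ⟨h', e⟩ := phi_X hF ht ha h
        obtain ⟨h'', e'⟩ := phi_X hF ht (neg_ne_zero.2 ha) h'
        rw [e, e']; exact X_congr _ (neg_neg a) rfl)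
    (fun g hg => by
      rcases hdesc g hg with ⟨b, h, hb, rfl⟩ | ⟨a, b, h, ha, rfl⟩
      · obtain ⟨h', e⟩ := phi_X0 hF ht ht4 h
        rw [e]
        intro h5
        have h7 := congrArg (fun g => mx g 0 2) h5
        simp only [mx_X] at h7
        exact hneg b hb (by simpa using h7)
      · obtain ⟨h', e⟩ := phi_X hF ht ha h
        rw [e]
        intro h5
        have h7 := congrArg (fun g => mx g 0 1) h5
        simp only [mx_X] at h7
        exact hneg a ha (by simpa using h7))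
    (fun g hg => by
      obtain ⟨k, e⟩ := phi_conj hF t ht g
      rw [e]; exact hcls g k)
  have h1m : (1 : UJ (frob hF)) ∈ Finset.univ.filter (· ∈ U1 (frob hF)) := by simp
  rw [← Finset.add_sum_erase _ _ h1m, e, ← BlockDeg.charDegree_cast_irr ψ] at hsum
  -- parity
  have h5 : z = ((27 - (charDegree (ψ : UJ (frob hF) → ℂ) : ℚ)) / 2 : ℚ) := by
    push_cast
    linear_combination (1 / 2) * hsum
  rw [h5] at hz
  have h6 : IsIntegral ℤ ((27 - (charDegree (ψ : UJ (frob hF) → ℂ) : ℚ)) / 2 : ℚ) := by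
    exact (isIntegral_algebraMap_iff (algebraMap ℚ ℂ).injective).1 hz
  obtain ⟨k, hk⟩ := IsIntegrallyClosed.isIntegral_iff.1 h6
  have h7 : (27 : ℤ) - charDegree (ψ : UJ (frob hF) → ℂ) = 2 * k := by
    have h8 : (27 : ℚ) - charDegree (ψ : UJ (frob hF) → ℂ) = 2 * k := by
      have h9 : ((k : ℤ) : ℚ) = (27 - (charDegree (ψ : UJ (frob hF) → ℂ) : ℚ)) / 2 := hk
      rw [h9]; ring
    exact_mod_cast h8
  rw [Nat.odd_iff]
  omega

omit [DecidableEq F] in
theorem ph_inj {α γ : MulChar F ℂ} (h : (fun b => ph hF α b) = fun b => ph hF γ b) : α = γ := by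
  apply MulChar.ext
  intro t
  have h1 := congrFun h ⟨T (frob_frob hF) (t : F) t.ne_zero, T_mem_Bo (frob_frob hF) t.ne_zero⟩
  simp only [ph_apply, mx_T] at h1
  simpa using h1

omit [DecidableEq F] in
theorem ph_irr (α : MulChar F ℂ) : IsIrrCharacter ↥(Bo (frob hF)) (fun b => ph hF α b) :=
  (ph_char hF α).isIrr_of_one_eq_one (map_one _)

theorem arith {a b : ℕ} (hab : a + b = 28) (ha : a ∣ 6048) (hb : b ∣ 6048) (ha1 : a ≠ 1) (hb1 : b ≠ 1)
    (hao : Odd a) (hbo : Odd b) : a = 21 ∨ b = 21 := by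
  obtain ⟨k, rfl⟩ := hao
  have hb' : b = 28 - (2 * k + 1) := by omega
  subst hb'
  have hk : k < 14 := by omega
  interval_cases k <;> omega

theorem exists_degrees [Fintype (Bo (frob hF))] (hperf : commutator (UJ (frob hF)) = ⊤) :
    (∃ d ∈ charDegrees (UJ (frob hF)), 14 ∣ d) ∧ ∃ d ∈ charDegrees (UJ (frob hF)), 21 ∣ d := by
  classical
  obtain ⟨β, hβ⟩ := MulChar.exists_mulChar_orderOf F (n := 8) (by rw [hF]; norm_num)
    (Complex.isPrimitiveRoot_exp 8 (by norm_num))
  have hcardU : Nat.card (UJ (frob hF)) = 6048 := by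
    have hu := card_UJ hF
    norm_num at hu
    rw [Nat.card_eq_fintype_card, hu]
  constructor
  · have h1 : classInner (R hF β) (R hF β) = 1 := by
      rw [inner_R, (ph_irr hF β).classInner_self, if_neg, add_zero]
      intro h
      have h2 : orderOf β ∣ 4 := orderOf_dvd_of_pow_eq_one (by rw [← h, pow_succ'])
      rw [hβ] at h2
      revert h2; decide
    have h2 := isIrr_of_isCharacter_of_norm_one (R_char hF β) h1
    refine ⟨_, ⟨⟨R hF β, h2⟩, rfl⟩, ?_⟩
    have h3 := BlockDeg.charDegree_cast_irr (⟨R hF β, h2⟩ : IrrCharacter (UJ (frob hF)))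
    have h4 : charDegree (((⟨R hF β, h2⟩ : IrrCharacter (UJ (frob hF)))) : UJ (frob hF) → ℂ) = 28 := by
      have h5 : ((charDegree (((⟨R hF β, h2⟩ : IrrCharacter (UJ (frob hF)))) : UJ (frob hF) → ℂ) : ℕ) : ℂ) = 28 := by
        rw [h3]; exact R_one hF β
      exact_mod_cast h5
    rw [h4]
    norm_num
  · set κ := β ^ 4 with hκ
    have hκ1 : κ ≠ 1 := by
      intro h
      have h2 : orderOf β ∣ 4 := orderOf_dvd_of_pow_eq_one h
      rw [hβ] at h2
      revert h2; decide
    have hκ2 : κ ^ 2 = 1 := by rw [hκ, ← pow_mul]; exact pow8 hF β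
    have hκκ : classInner (R hF κ) (R hF κ) = 2 := by
      rw [inner_R, (ph_irr hF κ).classInner_self, if_pos]
      · norm_num
      · calc κ * κ ^ 3 = (κ ^ 2) ^ 2 := by rw [← pow_succ', ← pow_mul κ 2 2]
          _ = 1 := by rw [hκ2, one_pow]
    have hκγ : ∀ γ, γ ≠ κ → classInner (R hF γ) (R hF κ) = 0 := by
      intro γ hγ
      rw [inner_R, (ph_irr hF γ).classInner_eq_zero (ph_irr hF κ) (fun h => hγ (ph_inj hF h)), if_neg, add_zero]
      intro h
      apply hγ
      calc γ = γ * κ ^ 3 * κ := by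
            rw [mul_assoc, ← pow_succ, show 3 + 1 = 2 * 2 by norm_num, pow_mul, hκ2, one_pow, mul_one]
        _ = κ := by rw [h, one_mul]
    obtain ⟨χ, hχ⟩ := exists_constituent (R_char hF κ) (by
      intro h
      have := R_one hF κ
      rw [h] at this
      norm_num at this)
    obtain ⟨b, hb, hRb⟩ := Clifford.degree_le_of_constituent (R_char hF κ) χ.2 hχ
    obtain ⟨n, hn⟩ := (R_char hF κ).classInner_nat χ.2.isCharacter
    obtain ⟨m, hm⟩ := hb.classInner_nat hb
    have e1 : classInner b (χ : UJ (frob hF) → ℂ) = n - 1 := by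
      have : classInner (R hF κ) (χ : UJ (frob hF) → ℂ) = 1 + classInner b (χ : UJ (frob hF) → ℂ) := by
        rw [hRb, classInner_add_left, χ.2.classInner_self]
      rw [hn] at this
      linear_combination -this
    have e2 : classInner (χ : UJ (frob hF) → ℂ) b = n - 1 := by
      rw [← conj_classInner, e1]; simp
    have e3 : (2 : ℂ) = 1 + (n - 1) + ((n - 1) + m) := by
      rw [← hκκ, hRb, classInner_add_left, classInner_add_right, classInner_add_right, χ.2.classInner_self, e1, e2, hm]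
    have e4 : m + 2 * n = 3 := by
      have : ((m + 2 * n : ℕ) : ℂ) = 3 := by push_cast; linear_combination -e3
      exact_mod_cast this
    have hn0 : n ≠ 0 := by rintro rfl; apply hχ; rw [hn]; simp
    have hn1 : n = 1 := by omega
    have hm1 : m = 1 := by omega
    subst hn1 hm1
    have hbirr := isIrr_of_isCharacter_of_norm_one hb (by rw [hm]; simp)
    have hsq : ∃ t : F, t ^ 4 = -1 := by
      obtain ⟨u, hu⟩ := IsCyclic.exists_ofOrder_eq_natCard (α := Fˣ)
      rw [Nat.card_eq_fintype_card, card_units hF] at hu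
      refine ⟨u, ?_⟩
      have h1 : (u : F) ^ 8 = 1 := by
        have := pow_orderOf_eq_one u
        rw [hu] at this
        rw [← Units.val_pow_eq_pow_val, this, Units.val_one]
      have h2 : (u : F) ^ 4 ≠ 1 := by
        intro h
        have h3 : u ^ 4 = 1 := by apply Units.ext; rw [Units.val_pow_eq_pow_val, h, Units.val_one]
        have h4 := orderOf_dvd_of_pow_eq_one h3
        rw [hu] at h4
        revert h4; decide
      have h5 : ((u : F) ^ 4 - 1) * ((u : F) ^ 4 + 1) = 0 := by linear_combination h1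
      rcases mul_eq_zero.1 h5 with h6 | h6
      · exact absurd (sub_eq_zero.1 h6) h2
      · exact eq_neg_of_add_eq_zero_left h6
    obtain ⟨t, ht⟩ := hsq
    have key : ∀ ψ : IrrCharacter (UJ (frob hF)), classInner (R hF κ) (ψ : UJ (frob hF) → ℂ) = 1 →
        (∀ γ, γ ≠ κ → classInner (R hF γ) (ψ : UJ (frob hF) → ℂ) = 0) →
        Odd (charDegree (ψ : UJ (frob hF) → ℂ)) ∧ charDegree (ψ : UJ (frob hF) → ℂ) ≠ 1 ∧
          charDegree (ψ : UJ (frob hF) → ℂ) ∣ 6048 := by
      intro ψ h1 h0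
      refine ⟨odd_degree hF ψ κ h1 h0 ht, ?_, ?_⟩
      · intro h
        have h2 := BlockDeg.charDegree_cast_irr ψ
        rw [h, Nat.cast_one] at h2
        have h3 := H55KleinChar.eq_one_of_perfect hperf ψ.2.isCharacter h2.symm
        have h4 := h0 1 hκ1.symm
        rw [h3, R, IndFun.frobenius_reciprocity _ _ _ (fun _ _ => rfl)] at h4
        have h5 : (fun h : Bo (frob hF) => (1 : UJ (frob hF) → ℂ) h) = fun b => ph hF 1 b := by
          funext c
          rw [ph_apply, MulChar.one_apply (Bo_ne c.2).isUnit]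
          rfl
        rw [h5, (ph_irr hF 1).classInner_self] at h4
        exact one_ne_zero h4
      · rw [← hcardU]; exact BlockDeg.charDegree_dvd_card ψ.2
    have hnn : ∀ γ, γ ≠ κ → classInner (R hF γ) (χ : UJ (frob hF) → ℂ) = 0 ∧ classInner (R hF γ) b = 0 := by
      intro γ hγ
      obtain ⟨u, hu⟩ := (R_char hF γ).classInner_nat χ.2.isCharacter
      obtain ⟨v, hv⟩ := (R_char hF γ).classInner_nat hb
      have h1 := hκγ γ hγ
      rw [hRb, classInner_add_right, hu, hv] at h1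
      have h2 : u + v = 0 := by exact_mod_cast h1
      rw [hu, hv]
      constructor
      · rw [show u = 0 by omega]; simp
      · rw [show v = 0 by omega]; simp
    obtain ⟨o1, o2, o3⟩ := key χ (by rw [hn]; simp) (fun γ hγ => (hnn γ hγ).1)
    obtain ⟨p1, p2, p3⟩ := key ⟨b, hbirr⟩ (by
      change classInner (R hF κ) b = 1
      rw [hRb, classInner_add_left, e2, hm]; simp) (fun γ hγ => (hnn γ hγ).2)
    have hsum : charDegree (χ : UJ (frob hF) → ℂ) +
        charDegree (((⟨b, hbirr⟩ : IrrCharacter (UJ (frob hF)))) : UJ (frob hF) → ℂ) = 28 := by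
      have h1 := BlockDeg.charDegree_cast_irr χ
      have h2 := BlockDeg.charDegree_cast_irr (⟨b, hbirr⟩ : IrrCharacter (UJ (frob hF)))
      have h3 : ((charDegree (χ : UJ (frob hF) → ℂ) +
        charDegree (((⟨b, hbirr⟩ : IrrCharacter (UJ (frob hF)))) : UJ (frob hF) → ℂ) : ℕ) : ℂ) = (28 : ℕ) := by
        push_cast
        rw [h1, h2]
        have h4 := R_one hF κ
        rw [hRb] at h4
        exact h4
      exact_mod_cast h3
    rcases arith hsum o3 p3 o2 p2 o1 p1 with h | h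
    · exact ⟨_, ⟨χ, rfl⟩, by rw [h]⟩
    · exact ⟨_, ⟨⟨b, hbirr⟩, rfl⟩, by rw [h]⟩

end fin2

end Cfsg.Agent.Lib.U33Bor
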