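import Mathlib
import Cfsg.Agent.Lib.UfL
import Cfsg.Agent.Lib.UfP

set_option autoImplicit false

/-!
Odd characteristic, ten or twelve dimensions.
-/

namespace Cfsg.Agent.Lib.Uf98

open Finset Cfsg.Agent.Lib.UnTrans Cfsg.Agent.Lib.UnMax
open Cfsg.Agent.Lib.SpTrans (isom mem_isom)

variable {F : Type*} [Field F] [Fintype F] [DecidableEq F] {σ : F →+* F} {q : ℕ}
variable {V : Type*} [AddCommGroup V] [Module F V] {f : V → V → F}
variable {ι : Type*} [Fintype ι] [DecidableEq ι] {e : ι → V}

section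
variable (H : HS σ f) (R : Fr f e) {M : Subgroup (V ≃ₗ[F] V)}
include H R

/-- groups containing the reflections of the frame -/
theorem noX' [FiniteDimensional F V] (A : Ar σ q) (hq : 3 ≤ q) (h2 : (2 : F) ≠ 0) (hB : BalO σ ι) (hn : 10 ≤ Fintype.card ι)
    (Y : Hy f e M) {X : Subgroup (V ≃ₗ[F] V)} (hXi : X ≤ isom f)
    (hXm : ∀ g ∈ isom f, dt g = 1 → Mon e g → g ∈ X)
    (hXr : ∀ i, rl H (e i) (-1) (R.self' i) (neg_one_U H R) ∈ X) (hs : Stt e X) {m : V ≃ₗ[F] V} (hm : m ∈ X) :
    Mon e m := by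
  -- lines
  have hnl : ∀ x ∈ X, ¬ Mon e x → ∀ i j (c : F), x (e i) ≠ c • e j := by
    intro x hx hnm i j c hc
    obtain ⟨g, hg, hgm, hge⟩ := exists_move_e H R Y (by omega) j i
    have hgX := hXm g (Y.isom hg) (Y.det g hg) hgm
    have h1 : Mon e (g * x) := hs _ (mul_mem hgX hx) i ⟨c, by
      rw [LinearEquiv.mul_apply, hc, LinearEquiv.map_smul g, hge]⟩
    have h3 : x = g⁻¹ * (g * x) := by rw [inv_mul_cancel_left]
    apply hnm
    rw [h3]
    exact (hgm.inv H R (Y.isom hg)).mul h1
  have conj : ∀ x ∈ X, ∀ i, ∃ g ∈ X, ∀ v, g v = v - (2 * f v (x (e i))) • x (e i) := by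
    intro x hx i
    refine ⟨x * rl H (e i) (-1) (R.self' i) (neg_one_U H R) * x⁻¹, mul_mem (mul_mem hx (hXr i)) (inv_mem hx),
      fun v => ?_⟩
    rw [LinearEquiv.mul_apply, LinearEquiv.mul_apply, rl_neg_apply H R, map_sub, LinearEquiv.map_smul x,
      apply_inv_self']
    have : f (x⁻¹ v) (e i) = f v (x (e i)) := by rw [← hXi hx (x⁻¹ v) (e i), apply_inv_self']
    rw [this]
  -- no zero coordinates
  have C1 : ∀ x ∈ X, ¬ Mon e x → ∀ i j, f (x (e i)) (e j) ≠ 0 := by
    intro x hx hnm i j h0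
    obtain ⟨g, hg, hgv⟩ := conj x hx i
    have hgm : Mon e g := by
      refine hs g hg j ⟨1, ?_⟩
      rw [hgv, H.symm_zero h0, mul_zero, zero_smul, sub_zero, one_smul]
    have hcard : (supp f e (x (e i))).card ≤ 2 := by
      by_contra hcon
      obtain ⟨T, hT, hTc⟩ := exists_subset_card_eq (s := supp f e (x (e i))) (n := 3) (by omega)
      obtain ⟨a, b, c, hab, hac, hbc, rfl⟩ := card_eq_three.1 hTc
      have ha := mem_supp.1 (hT (by simp : a ∈ ({a, b, c} : Finset ι)))
      have hb := mem_supp.1 (hT (by simp : b ∈ ({a, b, c} : Finset ι)))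
      have hc := mem_supp.1 (hT (by simp : c ∈ ({a, b, c} : Finset ι)))
      obtain ⟨l, κ, hl⟩ := hgm a
      rw [hgv] at hl
      have e1 : ∀ k, k ≠ a → -(2 * f (e a) (x (e i))) * f (x (e i)) (e k) = κ * f (e l) (e k) := by
        intro k hk
        have := congrArg (fun v => f v (e k)) hl
        rw [H.sub_left, H.smul_left, H.smul_left, R.ne hk.symm] at this
        linear_combination this
      have hfa : -(2 * f (e a) (x (e i))) ≠ 0 := neg_ne_zero.2 (mul_ne_zero h2 (H.symm_ne ha))
      have h5 := e1 b hab.symm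
      have h6 := e1 c hac.symm
      by_cases h7 : l = b
      · rw [R.ne (by rw [h7]; exact hbc), mul_zero] at h6
        exact (mul_ne_zero hfa hc) h6
      · rw [R.ne h7, mul_zero] at h5
        exact (mul_ne_zero hfa hb) h5
    obtain ⟨T, hT, hTc⟩ := exists_subset_card_eq (s := (supp f e (x (e i)))ᶜ) (n := 3) (by
      rw [card_compl]; omega)
    obtain ⟨a, b, c, hab, hac, hbc, rfl⟩ := card_eq_three.1 hTc
    have hz : ∀ k ∈ ({a, b, c} : Finset ι), f (x (e i)) (e k) = 0 := by
      intro k hk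
      by_contra h
      exact (mem_compl.1 (hT hk)) (mem_supp.2 h)
    have hmon : ∀ k ∈ ({a, b, c} : Finset ι), ∀ l ∈ ({a, b, c} : Finset ι), k ≠ l → ∀ z (hz : z ∈ U σ),
        Mon e (x⁻¹ * dd H R k l z hz * x) := by
      intro k hk l hl hkl z hzU
      refine hs _ (mul_mem (mul_mem (inv_mem hx) (dd_M H R hXm hzU)) hx) i ⟨1, ?_⟩
      rw [LinearEquiv.mul_apply, LinearEquiv.mul_apply, dd_fix H R hkl hzU (hz k hk) (hz l hl), inv_apply_self',
        one_smul]
    exact lstar H R A hq h2 (hXi hx) (hnl x hx hnm) hab hac hbc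
      (hmon a (by simp) b (by simp) hab) (hmon a (by simp) c (by simp) hac)
  -- contradiction
  by_contra hnm
  obtain ⟨j⟩ : Nonempty ι := Fintype.card_pos_iff.1 (by omega)
  set u := m (e j) with hu
  have hu0 : ∀ i, f u (e i) ≠ 0 := fun i => C1 m hm hnm j i
  obtain ⟨d, hd, hsum, hprod, i1, i2, h12, n1, n2⟩ := hB j
    (fun i => if i = j then 2 * N σ (f u (e j)) - 1 else 2 * N σ (f u (e i))) (fun i => by
      split_ifs
      · rw [map_sub, map_mul, A.N_fix, map_one, map_ofNat]
      · rw [map_mul, A.N_fix, map_ofNat]) (by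
      intro i hi
      rw [if_neg hi]
      refine mul_ne_zero h2 ?_
      rw [Ne, N_eq_zero]
      exact hu0 i)
  have hsum' : 2 * ∑ i, d i * N σ (f u (e i)) = d j := by
    have h1 : 2 * ∑ i, d i * N σ (f u (e i)) =
        ∑ i, (d i * (if i = j then 2 * N σ (f u (e j)) - 1 else 2 * N σ (f u (e i))) +
        (if i = j then d j else 0)) := by
      rw [mul_sum]
      refine sum_congr rfl fun i _ => ?_
      by_cases h : i = j
      · subst h; rw [if_pos rfl, if_pos rfl]; ring
      · rw [if_neg h, if_neg h]; ring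
    rw [h1, sum_add_distrib, hsum, sum_ite_eq' univ j, if_pos (mem_univ j), zero_add]
  obtain ⟨g, hg, hgd, hgm, hgc, hge⟩ := exists_diag H R (fun i => (d i)⁻¹) (fun i => inv_mem_U (hd i))
  have hgX : g ∈ X := by
    refine hXm g hg ?_ hgm
    rw [hgd, prod_inv_distrib, hprod, inv_one]
  have hfw : 2 * f u (g u) = d j := by
    rw [R.inner H, ← hsum']
    congr 1
    refine sum_congr rfl fun i _ => ?_
    rw [hgc, map_mul, sig_U (inv_mem_U (hd i)), inv_inv]
    unfold N; ring
  obtain ⟨s, hsX, hsv⟩ := conj (g * m) (mul_mem hgX hm) j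
  rw [LinearEquiv.mul_apply, ← hu] at hsv
  have hsu : s u = u - d j • g u := by rw [hsv, hfw]
  have hco : ∀ i, f (s u) (e i) = f u (e i) * (1 - d j * (d i)⁻¹) := by
    intro i
    rw [hsu, H.sub_left, H.smul_left, hgc]; ring
  have hnz : ∀ i, d i ≠ d j → f (s u) (e i) ≠ 0 := by
    intro i hi
    rw [hco]
    refine mul_ne_zero (hu0 i) fun h => hi ?_
    have h3 := U_ne (hd i)
    field_simp at h
    linear_combination h
  have hsm : s * m ∈ X := mul_mem hsX hm
  by_cases hmon : Mon e (s * m)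
  · obtain ⟨l, κ, hl⟩ := hmon j
    rw [LinearEquiv.mul_apply, ← hu] at hl
    have a1 := hnz i1 n1
    have a2 := hnz i2 n2
    rw [hl, H.smul_left, R.on] at a1 a2
    by_cases h7 : l = i1
    · rw [if_neg (by rw [h7]; exact h12), mul_zero] at a2; exact a2 rfl
    · rw [if_neg h7, mul_zero] at a1; exact a1 rfl
  · have h8 := C1 (s * m) hsm hmon j j
    rw [LinearEquiv.mul_apply, ← hu, hco, mul_inv_cancel₀ (U_ne (hd j)), sub_self, mul_zero] at h8
    exact h8 rfl

/-- elements fixing a line spanned by a difference of frame vectors -/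
theorem starstar' [FiniteDimensional F V] (A : Ar σ q) (hq : 3 ≤ q) (h2 : (2 : F) ≠ 0) (hB : BalO σ ι) (hn : 10 ≤ Fintype.card ι)
    (Y : Hy f e M) (hs : Stt e M) {i j : ι} (hij : i ≠ j) {l : F} (hl : l * σ l = 1) {x : V ≃ₗ[F] V} (hx : x ∈ M)
    (hxc : x (e i - l • e j) = e i - l • e j) : Mon e x := by
  set ρ := rl H (e i) (-1) (R.self' i) (neg_one_U H R) with hρ
  have rl_sq : ∀ k, rl H (e k) (-1) (R.self' k) (neg_one_U H R) * rl H (e k) (-1) (R.self' k) (neg_one_U H R) = 1 := by
    intro k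
    ext v
    rw [LinearEquiv.mul_apply, rl_neg_apply H R, rl_neg_apply H R, H.sub_left, H.smul_left, R.self']
    show _ = v
    module
  have hρρ : ρ * ρ = 1 := rl_sq i
  have hρi : ρ ∈ isom f := rl_mem H _ _
  have hρm : Mon e ρ := rl_mon H R i _
  have hρd : dt ρ = -1 := rl_det H _ _
  have hρinv : ρ⁻¹ = ρ := inv_eq_of_mul_eq_one_left hρρ
  let X : Subgroup (V ≃ₗ[F] V) :=
    { carrier := {x | (x ∈ M ∧ ρ * x * ρ ∈ M) ∨ (x * ρ ∈ M ∧ ρ * x ∈ M)}
      mul_mem' := by
        rintro a b (⟨ha, ha'⟩ | ⟨ha, ha'⟩) (⟨hb, hb'⟩ | ⟨hb, hb'⟩)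
        · left
          refine ⟨mul_mem ha hb, ?_⟩
          have : ρ * (a * b) * ρ = (ρ * a * ρ) * (ρ * b * ρ) := by
            calc _ = ρ * a * 1 * b * ρ := by group
              _ = ρ * a * (ρ * ρ) * b * ρ := by rw [hρρ]
              _ = _ := by group
          rw [this]; exact mul_mem ha' hb'
        · right
          refine ⟨?_, ?_⟩
          · have : a * b * ρ = a * (b * ρ) := by group
            rw [this]; exact mul_mem ha hb
          · have : ρ * (a * b) = (ρ * a * ρ) * (ρ * b) := by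
              calc _ = ρ * a * 1 * b := by group
                _ = ρ * a * (ρ * ρ) * b := by rw [hρρ]
                _ = _ := by group
            rw [this]; exact mul_mem ha' hb'
        · right
          refine ⟨?_, ?_⟩
          · have : a * b * ρ = (a * ρ) * (ρ * b * ρ) := by
              calc _ = a * 1 * b * ρ := by group
                _ = a * (ρ * ρ) * b * ρ := by rw [hρρ]
                _ = _ := by group
            rw [this]; exact mul_mem ha hb'
          · have : ρ * (a * b) = (ρ * a) * b := by group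
            rw [this]; exact mul_mem ha' hb
        · left
          refine ⟨?_, ?_⟩
          · have : a * b = (a * ρ) * (ρ * b) := by
              calc _ = a * 1 * b := by group
                _ = a * (ρ * ρ) * b := by rw [hρρ]
                _ = _ := by group
            rw [this]; exact mul_mem ha hb'
          · have : ρ * (a * b) * ρ = (ρ * a) * (b * ρ) := by group
            rw [this]; exact mul_mem ha' hb
      one_mem' := by
        left
        refine ⟨one_mem _, ?_⟩
        rw [mul_one, hρρ]; exact one_mem _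
      inv_mem' := by
        rintro a (⟨ha, ha'⟩ | ⟨ha, ha'⟩)
        · left
          refine ⟨inv_mem ha, ?_⟩
          have : ρ * a⁻¹ * ρ = (ρ * a * ρ)⁻¹ := by
            rw [mul_inv_rev, mul_inv_rev, hρinv]; group
          rw [this]; exact inv_mem ha'
        · right
          refine ⟨?_, ?_⟩
          · have : a⁻¹ * ρ = (ρ * a)⁻¹ := by rw [mul_inv_rev, hρinv]
            rw [this]; exact inv_mem ha'
          · have : ρ * a⁻¹ = (a * ρ)⁻¹ := by rw [mul_inv_rev, hρinv]
            rw [this]; exact inv_mem ha }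
  have memX : ∀ y, y ∈ X ↔ (y ∈ M ∧ ρ * y * ρ ∈ M) ∨ (y * ρ ∈ M ∧ ρ * y ∈ M) := fun y => Iff.rfl
  refine noX' H R A hq h2 hB hn Y (X := X) ?_ ?_ ?_ ?_ ?_
  · intro y hy
    rcases (memX y).1 hy with h | h
    · exact Y.isom h.1
    · have h3 := mul_mem (Y.isom h.1) hρi
      rwa [mul_assoc, hρρ, mul_one] at h3
  · intro g hg hgd hgm
    refine (memX g).2 (Or.inl ⟨Y.mon g hg hgd hgm, Y.mon _ (mul_mem (mul_mem hρi hg) hρi) ?_
      ((hρm.mul hgm).mul hρm)⟩)
    rw [dt_mul, dt_mul, hρd, hgd]; ring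
  · intro k
    have hk := rl_mem H (R.self' k) (neg_one_U H R)
    have hkm := rl_mon H R k (neg_one_U H R)
    refine (memX _).2 (Or.inr ⟨Y.mon _ (mul_mem hk hρi) ?_ (hkm.mul hρm), Y.mon _ (mul_mem hρi hk) ?_
      (hρm.mul hkm)⟩)
    · rw [dt_mul, hρd, rl_det]; ring
    · rw [dt_mul, hρd, rl_det]; ring
  · intro y hy a hya
    rcases (memX y).1 hy with h | h
    · exact hs y h.1 a hya
    · obtain ⟨c, hc⟩ := hya
      set r := rl H (e a) (-1) (R.self' a) (neg_one_U H R) with hr
      have hri : r ∈ isom f := rl_mem H _ _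
      have hrm : Mon e r := rl_mon H R a _
      have hrr : r * r = 1 := rl_sq a
      have hρr : ρ * r ∈ M := by
        refine Y.mon _ (mul_mem hρi hri) ?_ (hρm.mul hrm)
        rw [dt_mul, hρd, hr, rl_det]; ring
      have h3 : y * r ∈ M := by
        have : y * r = (y * ρ) * (ρ * r) := by
          calc _ = y * 1 * r := by group
            _ = y * (ρ * ρ) * r := by rw [hρρ]
            _ = _ := by group
        rw [this]; exact mul_mem h.1 hρr
      have h4 : Mon e (y * r) := hs _ h3 a ⟨-c, by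
        rw [LinearEquiv.mul_apply, hr, rl_neg_apply H R, R.self', map_sub, LinearEquiv.map_smul y, hc]
        module⟩
      have h5 : y = (y * r) * r := by rw [mul_assoc, hrr, mul_one]
      rw [h5]; exact h4.mul hrm
  · refine (memX x).2 (Or.inl ⟨hx, ?_⟩)
    set c := e i - l • e j with hc
    have hcc : f c c = 2 := norm_sub H R hij hl
    set s := sw H c hcc with hsdef
    have hsi : s ∈ isom f := sw_mem H _
    have hsm : Mon e s := sw_mon H R hij hl
    have hsd : dt s = -1 := sw_det H _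
    have hss : s * s = 1 := by
      ext v
      rw [LinearEquiv.mul_apply, hsdef, sw_apply, sw_apply, H.sub_left, H.smul_left, hcc]
      show _ = v
      module
    have hcomm : x * s = s * x := by
      ext v
      rw [LinearEquiv.mul_apply, LinearEquiv.mul_apply, hsdef, sw_apply, sw_apply, map_sub,
        LinearEquiv.map_smul x, hxc]
      have : f (x v) c = f v c := by
        conv_lhs => rw [← hxc]
        exact Y.isom hx v c
      rw [this]
    have hsinv : s⁻¹ = s := inv_eq_of_mul_eq_one_left hss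
    have hh : ρ * s ∈ M := by
      refine Y.mon _ (mul_mem hρi hsi) ?_ (hρm.mul hsm)
      rw [dt_mul, hρd, hsd]; ring
    have : ρ * x * ρ = (ρ * s) * x * (ρ * s)⁻¹ := by
      rw [mul_inv_rev, hρinv, hsinv]
      calc ρ * x * ρ = ρ * x * 1 * ρ := by group
        _ = ρ * x * (s * s) * ρ := by rw [hss]
        _ = ρ * (x * s) * s * ρ := by group
        _ = ρ * (s * x) * s * ρ := by rw [hcomm]
        _ = _ := by group
    rw [this]
    exact mul_mem (mul_mem hh hx) (inv_mem hh)

end

end Cfsg.Agent.Lib.Uf98
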