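import Cfsg.Agent.Lib.UnExL
set_option autoImplicit false
set_option linter.style.haveILetI false
set_option linter.unusedVariables false
set_option linter.unusedSectionVars false
set_option linter.unusedSimpArgs false

/-!
The normaliser of a field of degree five in the special unitary group of dimension five over the field with four elements is not
maximal.
-/

namespace Cfsg.Agent.Lib.UnEx

open Cfsg Cfsg.Geo Cfsg.Agent.Lib.AschMU Cfsg.Agent.Lib.AschCore Cfsg.Agent.Lib.AschField Cfsg.Agent.Lib.AschAlg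
  Cfsg.Agent.Lib.AschGroup Cfsg.Agent.Lib.AschGood Cfsg.Agent.Lib.AschAdj Cfsg.Agent.Lib.AschNonab Cfsg.Agent.Lib.AschTensor
  Cfsg.Agent.Lib.AschComp Cfsg.Agent.Lib.AschSp Cfsg.Agent.Lib.AschESys Cfsg.Agent.Lib.UnBridge Cfsg.Agent.Lib.HermMat
  Cfsg.Agent.Lib.UnF4
open scoped Matrix MatrixGroups Kronecker

section table

/-- `a b̄ + b ā`. -/
def tr2 (a b : Fin 4) : Fin 4 := ta (tm a (tm b b)) (tm b (tm a a))
/-- `a ā`. -/
def nm (a : Fin 4) : Fin 4 := tm a (tm a a)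
/-- The quadratic function. -/
def q5 (a b c d e : Fin 4) : Fin 4 := ta (ta (ta (ta (tr2 a b) (tr2 b d)) (tr2 c d)) (tr2 c e)) (nm e)
/-- The six admissible tuples. -/
def inT (a b c d e : Fin 4) : Bool :=
  (a == 1 && (b == 1 && (c == 1 && (d == 1 && e == 1)))) || ((a == 1 && (b == 0 && (c == 0 && (d == 0 && e == 0)))) ||
  ((a == 0 && (b == 1 && (c == 0 && (d == 0 && e == 0)))) || ((a == 0 && (b == 0 && (c == 1 && (d == 0 && e == 0)))) ||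
  ((a == 0 && (b == 0 && (c == 0 && (d == 1 && e == 0)))) || (a == 0 && (b == 0 && (c == 0 && (d == 0 && e == 1))))))))
/-- The admissible vectors. -/
def dT (a b c d e : Fin 4) : Bool :=
  inT (q5 a b c d e) (q5 b c d e a) (q5 c d e a b) (q5 d e a b c) (q5 e a b c d)

theorem brute5 : ∀ a b c d e : Fin 4, (!(dT a b c d e) || dT a e d c b) = true := by decide +kernel

end table

section
variable {F : Type*} [Field F]

/-- The six admissible tuples. -/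
def TT (a b c d e : F) : Prop :=
  (a = 1 ∧ b = 1 ∧ c = 1 ∧ d = 1 ∧ e = 1) ∨ (a = 1 ∧ b = 0 ∧ c = 0 ∧ d = 0 ∧ e = 0) ∨ (a = 0 ∧ b = 1 ∧ c = 0 ∧ d = 0 ∧ e = 0) ∨
    (a = 0 ∧ b = 0 ∧ c = 1 ∧ d = 0 ∧ e = 0) ∨ (a = 0 ∧ b = 0 ∧ c = 0 ∧ d = 1 ∧ e = 0) ∨ (a = 0 ∧ b = 0 ∧ c = 0 ∧ d = 0 ∧ e = 1)

lemma TT_shift {a b c d e : F} (h : TT a b c d e) : TT b c d e a := by
  rcases h with ⟨ha, hb, hc, hd, he⟩ | ⟨ha, hb, hc, hd, he⟩ | ⟨ha, hb, hc, hd, he⟩ | ⟨ha, hb, hc, hd, he⟩ | ⟨ha, hb, hc, hd, he⟩ |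
    ⟨ha, hb, hc, hd, he⟩
  · exact Or.inl ⟨hb, hc, hd, he, ha⟩
  · exact Or.inr (Or.inr (Or.inr (Or.inr (Or.inr ⟨hb, hc, hd, he, ha⟩))))
  · exact Or.inr (Or.inl ⟨hb, hc, hd, he, ha⟩)
  · exact Or.inr (Or.inr (Or.inl ⟨hb, hc, hd, he, ha⟩))
  · exact Or.inr (Or.inr (Or.inr (Or.inl ⟨hb, hc, hd, he, ha⟩)))
  · exact Or.inr (Or.inr (Or.inr (Or.inr (Or.inl ⟨hb, hc, hd, he, ha⟩))))

lemma TT_iff {ψ : Fin 4 → F} (hψ : Tab ψ) (a b c d e : Fin 4) : TT (ψ a) (ψ b) (ψ c) (ψ d) (ψ e) ↔ inT a b c d e = true := by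
  have h1 : ∀ x, ψ x = 1 ↔ x = 1 := by
    intro x; rw [← hψ.one]; exact hψ.bij.1.eq_iff
  have h0 : ∀ x, ψ x = 0 ↔ x = 0 := by
    intro x; rw [← hψ.zero]; exact hψ.bij.1.eq_iff
  unfold TT inT
  simp only [h1, h0, Bool.or_eq_true, Bool.and_eq_true, beq_iff_eq]

/-- The matrices of the powers `α ^ 2 ^ k`. -/
def B5 (F : Type*) [Field F] : Fin 5 → Matrix (Fin 5) (Fin 5) F :=
  ![!![0, 1, 0, 0, 0; 1, 0, 0, 1, 0; 0, 0, 0, 1, 1; 0, 1, 1, 0, 0; 0, 0, 1, 0, 1],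
    !![1, 0, 0, 1, 0; 0, 0, 1, 0, 0; 0, 1, 0, 0, 1; 1, 0, 0, 0, 1; 0, 0, 1, 1, 0],
    !![0, 0, 0, 1, 1; 0, 1, 0, 0, 1; 0, 0, 0, 1, 0; 1, 0, 1, 0, 0; 1, 1, 0, 0, 0],
    !![0, 1, 1, 0, 0; 1, 0, 0, 0, 1; 1, 0, 1, 0, 0; 0, 0, 0, 0, 1; 0, 1, 0, 1, 0],
    !![0, 0, 1, 0, 1; 0, 0, 1, 1, 0; 1, 1, 0, 0, 0; 0, 1, 0, 1, 0; 1, 0, 0, 0, 0]]

lemma B5_zero : B5 F 0 = A5 F := rfl

lemma B5_sq (h2 : (2 : F) = 0) : B5 F 0 * B5 F 0 = B5 F 1 ∧ B5 F 1 * B5 F 1 = B5 F 2 ∧ B5 F 2 * B5 F 2 = B5 F 3 ∧ B5 F 3 * B5 F 3 = B5 F 4 := by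
  refine ⟨?_, ?_, ?_, ?_⟩ <;>
    (ext i j
     fin_cases i <;> fin_cases j <;> simp [B5, Matrix.mul_apply, Fin.sum_univ_five, one_add_one_eq_two, h2])

lemma A5_pow (h2 : (2 : F) = 0) (k : Fin 5) : A5 F ^ (2 ^ (k : ℕ)) = B5 F k := by
  obtain ⟨h0, h1, h3, h4⟩ := B5_sq (F := F) h2
  have e1 : A5 F ^ 2 = B5 F 1 := by rw [sq, ← B5_zero, h0]
  have e2 : A5 F ^ 4 = B5 F 2 := by
    have e : A5 F ^ 4 = (A5 F ^ 2) ^ 2 := by rw [← pow_mul]
    rw [e, e1, sq, h1]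
  have e3 : A5 F ^ 8 = B5 F 3 := by
    have e : A5 F ^ 8 = (A5 F ^ 4) ^ 2 := by rw [← pow_mul]
    rw [e, e2, sq, h3]
  have e4 : A5 F ^ 16 = B5 F 4 := by
    have e : A5 F ^ 16 = (A5 F ^ 8) ^ 2 := by rw [← pow_mul]
    rw [e, e3, sq, h4]
  fin_cases k
  · simp [B5_zero]
  · exact e1
  · exact e2
  · exact e3
  · exact e4

/-- The quadratic functions. -/
def tq (k : Fin 5) (x : Fin 5 → F) : F := hermForm 5 F 2 (B5 F k *ᵥ x) x

lemma tq_tab {ψ : Fin 4 → F} (hψ : Tab ψ) (z : Fin 5 → Fin 4) (k : Fin 5) :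
    tq k (fun i => ψ (z i)) = ψ (q5 (z k) (z (k + 1)) (z (k + 2)) (z (k + 3)) (z (k + 4))) := by
  unfold tq hermForm q5 tr2 nm
  simp only [hψ.add, hψ.mul]
  fin_cases k <;> simp [B5, Matrix.mulVec, dotProduct, Fin.sum_univ_five] <;> ring

/-- The admissible vectors. -/
def DD (x : Fin 5 → F) : Prop := TT (tq 0 x) (tq 1 x) (tq 2 x) (tq 3 x) (tq 4 x)

lemma DD_iff {ψ : Fin 4 → F} (hψ : Tab ψ) (z : Fin 5 → Fin 4) :
    DD (fun i => ψ (z i)) ↔ dT (z 0) (z 1) (z 2) (z 3) (z 4) = true := by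
  unfold DD dT
  rw [tq_tab hψ, tq_tab hψ, tq_tab hψ, tq_tab hψ, tq_tab hψ, TT_iff hψ]
  rfl

/-- The reversal. -/
def R5 (F : Type*) [Field F] : Matrix (Fin 5) (Fin 5) F :=
  !![1, 0, 0, 0, 0; 0, 0, 0, 0, 1; 0, 0, 0, 1, 0; 0, 0, 1, 0, 0; 0, 1, 0, 0, 0]

lemma R5_mulVec (x : Fin 5 → F) : R5 F *ᵥ x = ![x 0, x 4, x 3, x 2, x 1] := by
  funext i
  fin_cases i <;> simp [R5, Matrix.mulVec, dotProduct, Fin.sum_univ_five]

lemma DD_R5 [Fintype F] (hF : Fintype.card F = 2 ^ 2) {x : Fin 5 → F} (hx : DD x) : DD (R5 F *ᵥ x) := by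
  obtain ⟨ψ, hψ⟩ := exists_tab hF
  choose z hz using fun i => hψ.bij.2 (x i)
  obtain rfl : (fun i => ψ (z i)) = x := funext hz
  rw [DD_iff hψ] at hx
  have h1 : R5 F *ᵥ (fun i => ψ (z i)) = fun i => ψ (![z 0, z 4, z 3, z 2, z 1] i) := by
    rw [R5_mulVec]
    funext i
    fin_cases i <;> rfl
  rw [h1, DD_iff hψ]
  have h2 := brute5 (z 0) (z 1) (z 2) (z 3) (z 4)
  rw [hx] at h2
  simpa using h2

section five
variable [Fintype F]

lemma DD_smoke (hF : Fintype.card F = 2 ^ 2) : DD (![1, 0, 0, 0, 0] : Fin 5 → F) ∧ ¬ DD (![0, 1, 1, 1, 0] : Fin 5 → F) ∧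
    tq 0 (![1, 0, 0, 0, 0] : Fin 5 → F) = 0 ∧ tq 1 (![1, 0, 0, 0, 0] : Fin 5 → F) = 1 ∧
    tq 2 (![1, 0, 0, 0, 0] : Fin 5 → F) = 0 ∧ tq 3 (![1, 0, 0, 0, 0] : Fin 5 → F) = 0 ∧ tq 4 (![1, 0, 0, 0, 0] : Fin 5 → F) = 0 ∧
    tq 2 (![0, 1, 0, 0, 0] : Fin 5 → F) = 1 ∧ tq 2 (![0, 0, 0, 0, 1] : Fin 5 → F) = 0 := by
  obtain ⟨ψ, hψ⟩ := exists_tab hF
  have e1 : (![1, 0, 0, 0, 0] : Fin 5 → F) = fun i => ψ ((![1, 0, 0, 0, 0] : Fin 5 → Fin 4) i) := by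
    funext i; fin_cases i <;> simp [hψ.one, hψ.zero]
  have e2 : (![0, 1, 1, 1, 0] : Fin 5 → F) = fun i => ψ ((![0, 1, 1, 1, 0] : Fin 5 → Fin 4) i) := by
    funext i; fin_cases i <;> simp [hψ.one, hψ.zero]
  have e3 : (![0, 1, 0, 0, 0] : Fin 5 → F) = fun i => ψ ((![0, 1, 0, 0, 0] : Fin 5 → Fin 4) i) := by
    funext i; fin_cases i <;> simp [hψ.one, hψ.zero]
  have e4 : (![0, 0, 0, 0, 1] : Fin 5 → F) = fun i => ψ ((![0, 0, 0, 0, 1] : Fin 5 → Fin 4) i) := by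
    funext i; fin_cases i <;> simp [hψ.one, hψ.zero]
  rw [e1, e2, e3, e4]
  simp only [DD_iff hψ, tq_tab hψ]
  have z := hψ.zero
  have o := hψ.one
  refine ⟨by decide, by decide, ?_, ?_, ?_, ?_, ?_, ?_, ?_⟩
  · rw [← z]; rfl
  · rw [← o]; rfl
  · rw [← z]; rfl
  · rw [← z]; rfl
  · rw [← z]; rfl
  · rw [← o]; rfl
  · rw [← z]; rfl

theorem field_five_not_maximal (hF : Fintype.card F = 2 ^ 2) {K : Subalgebra F (Matrix (Fin 5) (Fin 5) F)} (hK : IsFieldSubalgebra 5 K)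
    (hac : IsAdjointClosedFor (hermForm 5 F 2) K) {H : Subgroup (GL (Fin 5) F)}
    (hH : IsMaximalIn (GU 5 F 2 ⊓ specialLinear (Fin 5) F) H)
    (h : H = subalgebraNormalizer K ⊓ (GU 5 F 2 ⊓ specialLinear (Fin 5) F)) : False := by
  classical
  haveI : Nonempty (Fin 5) := ⟨0⟩
  have h2 := UnNot.two_eq_zero hF
  obtain ⟨α, hα, h3⟩ := exists_alpha5 hF hK
  have ha := adj_alpha5 hF hK hac hα h3
  obtain ⟨hsum, hrel⟩ := rels5 hF hK hα h3
  obtain ⟨i, hi⟩ := exists_normal5 hF ha h3 (w := Pi.single 0 1) (by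
    rw [hermForm_single _ (by norm_num)]
    simp)
  set w := (α ^ i) *ᵥ (Pi.single 0 1 : Fin 5 → F) with hw
  obtain ⟨T, hT, hTb⟩ := exists_gl_of_orthonormal hF (nb5 α w) (nb5_orth hF ha h3 hi)
  have hα32 : α ^ 32 = α := by
    letI : Field K := (isField_of hK).toField
    have hK2 : (2 : K) = 0 := by
      have h3 : (2 : K) = algebraMap F K 2 := by rw [map_ofNat]
      rw [h3, h2, map_zero]
    have ha : Q5 (⟨α, hα⟩ : K) := Subtype.ext h3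
    exact congrArg Subtype.val (q5_32 hK2 ha)
  -- the matrix of `α`
  have hαT : α * (T : Matrix (Fin 5) (Fin 5) F) = (T : Matrix (Fin 5) (Fin 5) F) * A5 F := by
    have hcol : ∀ j, (fun k => (T : Matrix (Fin 5) (Fin 5) F) k j) = nb5 α w j := by
      intro j
      rw [← hTb, Matrix.mulVec_single_one]
      rfl
    ext k j
    have e : (α * (T : Matrix (Fin 5) (Fin 5) F)) k j = (α *ᵥ (fun k => (T : Matrix (Fin 5) (Fin 5) F) k j)) k := rfl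
    rw [e, hcol, nb5_mul hF hrel, Matrix.mul_apply, Finset.sum_apply]
    refine Finset.sum_congr rfl fun l _ => ?_
    rw [Pi.smul_apply, smul_eq_mul, mul_comm, ← hcol l]
  have hαTpow : ∀ m : ℕ, α ^ m * (T : Matrix (Fin 5) (Fin 5) F) = (T : Matrix (Fin 5) (Fin 5) F) * A5 F ^ m := by
    intro m
    induction m with
    | zero => rw [pow_zero, pow_zero, one_mul, mul_one]
    | succ m ih => rw [pow_succ, mul_assoc, hαT, ← mul_assoc, ih, mul_assoc, ← pow_succ]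
  have htq : ∀ k y, sv α ((T : Matrix (Fin 5) (Fin 5) F) *ᵥ y) (2 ^ (k : Fin 5).val) = tq k y := by
    intro k y
    unfold sv tq
    rw [Matrix.mulVec_mulVec, hαTpow, ← Matrix.mulVec_mulVec, A5_pow h2]
    exact hT _ _
  -- the invariant
  let Q : (Fin 5 → F) → Prop := fun x => TT (sv α x (2 ^ 0)) (sv α x (2 ^ 1)) (sv α x (2 ^ 2)) (sv α x (2 ^ 3)) (sv α x (2 ^ 4))
  have hQD : ∀ y, Q ((T : Matrix (Fin 5) (Fin 5) F) *ᵥ y) ↔ DD y := by
    intro y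
    have e0 := htq 0 y
    have e1 := htq 1 y
    have e2 := htq 2 y
    have e3 := htq 3 y
    have e4 := htq 4 y
    show TT _ _ _ _ _ ↔ TT _ _ _ _ _
    rw [← e0, ← e1, ← e2, ← e3, ← e4]
    rfl
  let M : Subgroup (GL (Fin 5) F) :=
    { carrier := {g | ∀ x, Q ((g : Matrix (Fin 5) (Fin 5) F) *ᵥ x) ↔ Q x}
      mul_mem' := by
        intro a b ha hb x
        rw [Units.val_mul, ← Matrix.mulVec_mulVec]
        exact (ha _).trans (hb _)
      one_mem' := by intro x; rw [Units.val_one, Matrix.one_mulVec]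
      inv_mem' := by
        intro a ha x
        have := ha (((a⁻¹ : GL (Fin 5) F) : Matrix (Fin 5) (Fin 5) F) *ᵥ x)
        rw [gl_mulVec_inv] at this
        exact this.symm }
  -- elements of `H` shift the invariants
  have hshift : ∀ g ∈ H, ∃ j : ℕ, ∀ x k, sv α ((g : Matrix (Fin 5) (Fin 5) F) *ᵥ x) (2 ^ k) = sv α x (2 ^ (j + k)) := by
    intro g hg
    rw [h] at hg
    obtain ⟨hgK, hgU, hgS⟩ := hg
    have hgi : g⁻¹ ∈ subalgebraNormalizer K := inv_mem hgK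
    have hcjK : cj g⁻¹ α ∈ K := (hgi α).1 hα
    have hcj3 : Q5M (cj g⁻¹ α) := by
      unfold Q5M
      rw [← map_pow, ← map_pow, ← map_pow, show α ^ 5 = _ from h3, map_add, map_add, map_add, map_one]
    obtain ⟨j, hj⟩ := root_cases5 hF hK hα hcjK h3 hcj3
    have e1 : α * (g : Matrix (Fin 5) (Fin 5) F) = (g : Matrix (Fin 5) (Fin 5) F) * α ^ (2 ^ (j : ℕ)) := by
      rw [← hj, cj_apply, inv_inv, mul_assoc, ← mul_assoc, gl_mul_inv, one_mul]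
    have e2 : ∀ m : ℕ, α ^ m * (g : Matrix (Fin 5) (Fin 5) F) = (g : Matrix (Fin 5) (Fin 5) F) * (α ^ (2 ^ (j : ℕ))) ^ m := by
      intro m
      induction m with
      | zero => rw [pow_zero, pow_zero, one_mul, mul_one]
      | succ m ih => rw [pow_succ, mul_assoc, e1, ← mul_assoc, ih, mul_assoc, ← pow_succ]
    refine ⟨j, fun x k => ?_⟩
    unfold sv
    rw [Matrix.mulVec_mulVec, e2, ← pow_mul, ← pow_add, ← Matrix.mulVec_mulVec]
    exact hgU _ _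
  have hper : ∀ x k, sv α x (2 ^ (k + 5)) = sv α x (2 ^ k) := by
    intro x k
    unfold sv
    rw [add_comm, pow_add, pow_mul]
    norm_num only
    rw [hα32]
  have hQ1 : ∀ x (k : ℕ), Q x → TT (sv α x (2 ^ k)) (sv α x (2 ^ (k + 1))) (sv α x (2 ^ (k + 2))) (sv α x (2 ^ (k + 3))) (sv α x (2 ^ (k + 4))) := by
    intro x k hx
    induction k with
    | zero => exact hx
    | succ k ih =>
      have := TT_shift ih
      rw [← hper x k] at this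
      exact this
  have hHM : H ≤ M ⊓ (GU 5 F 2 ⊓ specialLinear (Fin 5) F) := by
    refine le_inf ?_ hH.1.le
    have key : ∀ g ∈ H, ∀ x, Q x → Q ((g : Matrix (Fin 5) (Fin 5) F) *ᵥ x) := by
      intro g hg x hx
      obtain ⟨j, hj⟩ := hshift g hg
      have := hQ1 x j hx
      show TT _ _ _ _ _
      rw [hj, hj, hj, hj, hj]
      exact this
    intro g hg x
    constructor
    · intro hx
      have := key g⁻¹ (inv_mem hg) _ hx
      rwa [gl_inv_mulVec] at this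
    · exact key g hg x
  obtain ⟨s1, s2, t0, t1, t2, t3, t4, u1, u2⟩ := DD_smoke hF
  -- the extra element
  have hRR : R5 F * R5 F = 1 := by
    ext i j
    fin_cases i <;> fin_cases j <;> simp [R5, Matrix.mul_apply, Fin.sum_univ_five]
  let r : GL (Fin 5) F := ⟨R5 F, R5 F, hRR, hRR⟩
  have hRt : (R5 F)ᵀ = R5 F := by
    ext i j
    fin_cases i <;> fin_cases j <;> rfl
  have hRm : (R5 F).map (sg hF) = R5 F := by
    ext i j
    fin_cases i <;> fin_cases j <;> simp [R5]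
  have hrU : r ∈ GU 5 F 2 := by
    rw [mem_GU_iff hF]
    show (R5 F)ᵀ.map (sg hF) * R5 F = 1
    rw [hRt, hRm, hRR]
  have hrdet : (R5 F).det = 1 := by
    have e := congrArg Matrix.det hRR
    rw [Matrix.det_mul, Matrix.det_one] at e
    have e' : ((R5 F).det - 1) * ((R5 F).det - 1) = 0 := by linear_combination e + (1 - (R5 F).det) * h2
    exact sub_eq_zero.1 (mul_self_eq_zero.1 e')
  have hGL : ∀ x : GL (Fin 5) F, (x : Matrix (Fin 5) (Fin 5) F).det = 1 → x ∈ specialLinear (Fin 5) F := by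
    intro x hx
    show Matrix.GeneralLinearGroup.det x = 1
    apply Units.ext
    rw [Matrix.GeneralLinearGroup.val_det_apply, hx, Units.val_one]
  set r' : GL (Fin 5) F := T * r * T⁻¹ with hr'
  have hr'G : r' ∈ GU 5 F 2 ⊓ specialLinear (Fin 5) F := by
    refine ⟨(GU 5 F 2).mul_mem ((GU 5 F 2).mul_mem hT hrU) ((GU 5 F 2).inv_mem hT), hGL _ ?_⟩
    rw [hr', Units.val_mul, Units.val_mul, Matrix.det_mul, Matrix.det_mul]
    have e : (r : Matrix (Fin 5) (Fin 5) F).det = 1 := hrdet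
    rw [e, mul_one, ← Matrix.det_mul, gl_mul_inv, Matrix.det_one]
  have hr'v : ∀ y, (r' : Matrix (Fin 5) (Fin 5) F) *ᵥ ((T : Matrix (Fin 5) (Fin 5) F) *ᵥ y) = (T : Matrix (Fin 5) (Fin 5) F) *ᵥ (R5 F *ᵥ y) := by
    intro y
    rw [hr', Units.val_mul, Units.val_mul, ← Matrix.mulVec_mulVec, ← Matrix.mulVec_mulVec, gl_inv_mulVec]
  rcases hH.2 _ hHM inf_le_right with h1 | h1
  · -- the reversal lies in `M` but not in `H`
    have hrM : r' ∈ M := by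
      have key : ∀ x, Q x → Q ((r' : Matrix (Fin 5) (Fin 5) F) *ᵥ x) := by
        intro x hx
        obtain ⟨y, rfl⟩ : ∃ y, (T : Matrix (Fin 5) (Fin 5) F) *ᵥ y = x := ⟨_, gl_mulVec_inv _ _⟩
        rw [hr'v, hQD]
        rw [hQD] at hx
        exact DD_R5 hF hx
      intro x
      constructor
      · intro hx
        have := key _ hx
        have e : (r' : Matrix (Fin 5) (Fin 5) F) *ᵥ ((r' : Matrix (Fin 5) (Fin 5) F) *ᵥ x) = x := by
          obtain ⟨y, rfl⟩ : ∃ y, (T : Matrix (Fin 5) (Fin 5) F) *ᵥ y = x := ⟨_, gl_mulVec_inv _ _⟩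
          rw [hr'v, hr'v, Matrix.mulVec_mulVec y (R5 F) (R5 F), hRR, Matrix.one_mulVec]
        rwa [e] at this
      · exact key x
    have hrH : r' ∈ H := by rw [← h1]; exact ⟨hrM, hr'G⟩
    obtain ⟨j, hj⟩ := hshift r' hrH
    have hper' : ∀ x m k, sv α x (2 ^ (k + 5 * m)) = sv α x (2 ^ k) := by
      intro x m k
      induction m with
      | zero => rfl
      | succ m ih => rw [mul_add, mul_one, ← add_assoc, hper, ih]
    -- `j` is a multiple of five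
    have f1 := hj ((T : Matrix (Fin 5) (Fin 5) F) *ᵥ ![1, 0, 0, 0, 0]) 1
    have g1 : R5 F *ᵥ ![1, 0, 0, 0, 0] = ![1, 0, 0, 0, 0] := by rw [R5_mulVec]; rfl
    rw [hr'v, g1] at f1
    have f2 := hj ((T : Matrix (Fin 5) (Fin 5) F) *ᵥ ![0, 1, 0, 0, 0]) 2
    have g2 : R5 F *ᵥ ![0, 1, 0, 0, 0] = ![0, 0, 0, 0, 1] := by rw [R5_mulVec]; rfl
    rw [hr'v, g2] at f2
    have q0 := htq 0 ![1, 0, 0, 0, 0]
    have q1 := htq 1 ![1, 0, 0, 0, 0]
    have q2 := htq 2 ![1, 0, 0, 0, 0]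
    have q3 := htq 3 ![1, 0, 0, 0, 0]
    have q4 := htq 4 ![1, 0, 0, 0, 0]
    rw [t0] at q0
    rw [t1] at q1
    rw [t2] at q2
    rw [t3] at q3
    rw [t4] at q4
    have p1 := htq 2 ![0, 1, 0, 0, 0]
    have p2 := htq 2 ![0, 0, 0, 0, 1]
    rw [u1] at p1
    rw [u2] at p2
    have hj5 : j + 1 = (j + 1) % 5 + 5 * ((j + 1) / 5) := (Nat.mod_add_div _ _).symm
    have hlt : (j + 1) % 5 < 5 := Nat.mod_lt _ (by norm_num)
    rw [hj5, hper'] at f1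
    have hmod : (j + 1) % 5 = 1 := by
      generalize (j + 1) % 5 = m at f1 hlt
      by_contra hne
      have e1 : sv α ((T : Matrix (Fin 5) (Fin 5) F) *ᵥ ![1, 0, 0, 0, 0]) (2 ^ 1) = 1 := q1
      rw [e1] at f1
      interval_cases m
      · exact one_ne_zero (f1.trans q0)
      · exact hne rfl
      · exact one_ne_zero (f1.trans q2)
      · exact one_ne_zero (f1.trans q3)
      · exact one_ne_zero (f1.trans q4)
    have hj0 : j + 2 = 2 + 5 * (j / 5) := by omega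
    rw [hj0, hper'] at f2
    have e1 : sv α ((T : Matrix (Fin 5) (Fin 5) F) *ᵥ ![0, 0, 0, 0, 1]) (2 ^ 2) = 0 := p2
    have e2 : sv α ((T : Matrix (Fin 5) (Fin 5) F) *ᵥ ![0, 1, 0, 0, 0]) (2 ^ 2) = 1 := p1
    rw [e1, e2] at f2
    exact zero_ne_one f2
  · -- a transvection that does not lie in `M`
    have hv : hermForm 5 F 2 ![1, 1, 1, 1, 0] ![1, 1, 1, 1, 0] = 0 := by
      unfold hermForm
      rw [Fin.sum_univ_five]
      simp
      linear_combination 2 * h2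
    have hTv : hermForm 5 F 2 ((T : Matrix (Fin 5) (Fin 5) F) *ᵥ ![1, 1, 1, 1, 0]) ((T : Matrix (Fin 5) (Fin 5) F) *ᵥ ![1, 1, 1, 1, 0]) = 0 := (hT _ _).trans hv
    have ha : (1 : F) + 1 ^ 2 = 0 := by rw [one_pow, one_add_one_eq_two, h2]
    have htG := UnNot.utv_mem hF _ hTv ha
    rw [← h1] at htG
    have htM := htG.1
    have e := (htM ((T : Matrix (Fin 5) (Fin 5) F) *ᵥ ![1, 0, 0, 0, 0])).2 ((hQD _).2 s1)
    have hTx : hermForm 5 F 2 ((T : Matrix (Fin 5) (Fin 5) F) *ᵥ ![1, 0, 0, 0, 0]) ((T : Matrix (Fin 5) (Fin 5) F) *ᵥ ![1, 1, 1, 1, 0]) = 1 := by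
      have : hermForm 5 F 2 ((T : Matrix (Fin 5) (Fin 5) F) *ᵥ ![1, 0, 0, 0, 0]) ((T : Matrix (Fin 5) (Fin 5) F) *ᵥ ![1, 1, 1, 1, 0]) =
          hermForm 5 F 2 ![1, 0, 0, 0, 0] ![1, 1, 1, 1, 0] := hT _ _
      rw [this]
      unfold hermForm
      rw [Fin.sum_univ_five]
      simp
    rw [UnNot.utv_mulVec, hTx, one_mul, one_smul, ← Matrix.mulVec_add, hQD] at e
    have h5 : (![1, 0, 0, 0, 0] : Fin 5 → F) + ![1, 1, 1, 1, 0] = ![0, 1, 1, 1, 0] := by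
      funext i
      fin_cases i <;> simp
      · rw [one_add_one_eq_two, h2]
    rw [h5] at e
    exact s2 e

end five

end

end Cfsg.Agent.Lib.UnEx
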