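import Cfsg.Agent.Lib.UnSpec3

/-!
Singer elements of `PSU_n(q)` (helper42).
-/

set_option autoImplicit false

namespace Cfsg.Agent.Lib.UnSpec

open Module Polynomial Cfsg Cfsg.Agent.Lib.HermAlg Cfsg.Agent.Lib.ClUnitary Cfsg.Agent.Lib.HermMat

variable {F : Type*} [Field F] [Fintype F] {q n : ℕ} (p : ℕ) [Fact p.Prime] [CharP F p]

/-- transfer of the root into a given field -/
theorem exists_root_in {K : Type*} [Field K] [Algebra F K] [Finite K] (f : F[X]) (hf : Irreducible f)
    (hK : finrank F K = f.natDegree) :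
    ∃ α : K, aeval α f = 0 ∧ (∀ (m : ℕ) (c : F), α ^ m = algebraMap F K c ↔ AdjoinRoot.root f ^ m = algebraMap F (AdjoinRoot f) c) := by
  have : Fact (Irreducible f) := ⟨hf⟩
  have : Module.Finite F (AdjoinRoot f) := (AdjoinRoot.powerBasis hf.ne_zero).finite
  have hfin : Finite (AdjoinRoot f) := Module.finite_of_finite F
  have hfr : finrank F (AdjoinRoot f) = f.natDegree := by
    rw [(AdjoinRoot.powerBasis hf.ne_zero).finrank, AdjoinRoot.powerBasis_dim]
  obtain ⟨φ⟩ : Nonempty (AdjoinRoot f →ₐ[F] K) := FiniteField.nonempty_algHom_of_finrank_dvd (by rw [hfr, hK])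
  refine ⟨φ (AdjoinRoot.root f), ?_, ?_⟩
  · rw [Polynomial.aeval_algHom_apply, AdjoinRoot.aeval_eq, AdjoinRoot.mk_self, map_zero]
  · intro m c
    rw [← map_pow, ← AlgHom.commutes φ c]
    exact φ.injective.eq_iff

include p in
theorem exists_singer_odd (hF : Fintype.card F = q ^ 2) (hn : 2 ≤ n) (hodd : Odd n) :
    ∃ s : PSU n F q, ∀ (g : PSU n F q) (T : Module.End F (Fin n → F)),
      (∀ k : ℕ, g ^ k = 1 ↔ ∃ c : F, T ^ k = c • (1 : Module.End F (Fin n → F))) → LinearMap.det T = 1 →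
      ∀ f : F[X], Irreducible f → f.natDegree = n → aeval T f = 0 →
        AdjoinRoot.root f ^ (q ^ n + 1) = 1 → orderOf g ∣ orderOf s := by
  have hp : p.Prime := Fact.out
  have hq2 := two_le_q hF
  obtain ⟨K, _, _, _, hK, z, hz, hzo, hw⟩ := PSLTypes.exists_ext F n (by omega)
  have hfd : FiniteDimensional F K := Module.finite_of_finrank_pos (by omega)
  rw [Nat.card_eq_fintype_card, hF] at hzo
  set w := Units.map (Algebra.norm F (S := K)) z with hwdef
  have hwo : orderOf w = (q - 1) * (q + 1) := by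
    rw [orderOf_eq_card_of_forall_mem_zpowers hw, Nat.card_units, Nat.card_eq_fintype_card, hF, sq_sub_one, mul_comm]
  obtain ⟨A, hA⟩ : q - 1 ∣ q ^ n - 1 := by simpa using Nat.sub_dvd_pow_sub_pow q 1 n
  have hqn : 1 ≤ q ^ n := Nat.one_le_pow _ _ (by omega)
  have hzo' : orderOf z = (q ^ n - 1) * (q ^ n + 1) := by
    rw [hzo, ← pow_mul, mul_comm 2, pow_mul, sq_sub_one, mul_comm]
  have hAcop : Nat.Coprime A (q + 1) := by
    have h1 := Nat.pow_sub_one_gcd_pow_sub_one q n 2
    have h2 : Nat.gcd n 2 = 1 := by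
      rw [← Nat.coprime_iff_gcd_eq_one]; exact hodd.coprime_two_right
    rw [h2, pow_one, hA, show q ^ 2 - 1 = (q - 1) * (q + 1) by rw [sq_sub_one, mul_comm], Nat.gcd_mul_left] at h1
    exact Nat.eq_of_mul_eq_mul_left (show 0 < q - 1 by omega) (by rw [h1, mul_one])
  -- the element
  set y : Kˣ := z ^ ((q ^ n - 1) * (q + 1)) with hy
  obtain ⟨a, ha⟩ := exists_q_eq p hF
  have hchar : CharP K p := charP_of_injective_algebraMap (algebraMap F K).injective p
  let τ : K →+* K := iterateFrobenius K p (a * n)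
  have hτs : ∀ x, τ x = x ^ (q ^ n) := by
    intro x
    show iterateFrobenius K p (a * n) x = _
    rw [iterateFrobenius_def, pow_mul, ← ha]
  have hτ : ∀ c, τ (algebraMap F K c) = algebraMap F K (frob hF c) := by
    intro c
    rw [hτs, ← map_pow, pow_odd_eq hF hodd]; rfl
  have hττ : ∀ x, τ (τ x) = x := by
    intro x
    rw [hτs, hτs, ← pow_mul, ← pow_two]
    have := Fintype.ofFinite K
    have hcard : Fintype.card K = (q ^ n) ^ 2 := by
      rw [← Nat.card_eq_fintype_card, Module.natCard_eq_pow_finrank (K := F) (V := K), hK, Nat.card_eq_fintype_card, hF, ← pow_mul,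
        mul_comm, pow_mul]
    rw [← hcard]
    exact FiniteField.pow_card x
  obtain ⟨l, hl⟩ := exists_isSA_field hF τ hτ hττ
  have hyτ : (y : K) * τ y = 1 := by
    rw [hτs, ← pow_succ', ← Units.val_pow_eq_pow_val]
    have h1 : y ^ (q ^ n + 1) = 1 := by
      rw [hy, ← pow_mul, show (q ^ n - 1) * (q + 1) * (q ^ n + 1) = ((q ^ n - 1) * (q ^ n + 1)) * (q + 1) by ring, ← hzo', pow_mul,
        pow_orderOf_eq_one, one_pow]
    rw [h1, Units.val_one]
  have hynorm : Algebra.norm F (y : K) = 1 := by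
    have h1 : Algebra.norm F (y : K) = ((w ^ ((q ^ n - 1) * (q + 1)) : Fˣ) : F) := by
      rw [hwdef, ← map_pow]; rfl
    rw [h1, hA, show (q - 1) * A * (q + 1) = (q - 1) * (q + 1) * A by ring, ← hwo, pow_mul, pow_orderOf_eq_one, one_pow, Units.val_one]
  obtain ⟨s, hs⟩ := exists_of_sa hF hn hl hK (y : K) hyτ hynorm
  refine ⟨s, ?_⟩
  intro g T hg hdet f hf hfn hTf hroot
  obtain ⟨α, hαf, hαroot⟩ := exists_root_in (K := K) f hf (by rw [hK, hfn])
  have hαn : Algebra.norm F α = 1 := by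
    rw [← det_eq_norm T f hf (by rw [hfn]; simp) hTf (by rw [hK]; simp) α hαf, hdet]
  have hαq : α ^ (q ^ n + 1) = 1 := by
    have := (hαroot (q ^ n + 1) 1).mpr (by rw [hroot, map_one])
    rw [this, map_one]
  have hα0 : α ≠ 0 := by
    rintro rfl
    rw [zero_pow (by omega)] at hαq
    exact zero_ne_one hαq
  obtain ⟨t, ht⟩ := Subgroup.mem_zpowers_iff.mp (hz (Units.mk0 α hα0))
  have hwt : w ^ t = 1 := by
    rw [hwdef, ← map_zpow, ht]
    apply Units.ext
    exact hαn
  have h1 : (((q - 1) * (q + 1) : ℕ) : ℤ) ∣ t := by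
    rw [← hwo]; exact orderOf_dvd_iff_zpow_eq_one.mpr hwt
  have h2 : ((q ^ n - 1 : ℕ) : ℤ) ∣ t := by
    have h3 : z ^ (t * (q ^ n + 1 : ℕ)) = 1 := by
      rw [zpow_mul, ht, zpow_natCast]
      apply Units.ext
      rw [Units.val_pow_eq_pow_val, Units.val_mk0, hαq, Units.val_one]
    have h4 := orderOf_dvd_iff_zpow_eq_one.mpr h3
    rw [hzo'] at h4
    push_cast at h4 ⊢
    exact Int.dvd_of_mul_dvd_mul_right (by positivity) h4
  obtain ⟨t', ht'⟩ : (((q ^ n - 1) * (q + 1) : ℕ) : ℤ) ∣ t := by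
    rw [hA] at h2 ⊢
    push_cast at h1 h2 ⊢
    obtain ⟨t₁, ht₁⟩ : ((q - 1 : ℕ) : ℤ) ∣ t := (Dvd.intro _ rfl).trans h1
    have hq0 : ((q - 1 : ℕ) : ℤ) ≠ 0 := by
      have : q - 1 ≠ 0 := by omega
      exact_mod_cast this
    rw [ht₁] at h1 h2 ⊢
    have h5 : ((q : ℤ) + 1) ∣ t₁ := Int.dvd_of_mul_dvd_mul_left hq0 h1
    have h6 : (A : ℤ) ∣ t₁ := Int.dvd_of_mul_dvd_mul_left hq0 h2
    have h7 : (A : ℤ) * (q + 1) ∣ t₁ := by
      apply IsCoprime.mul_dvd _ h6 h5
      have := (Nat.isCoprime_iff_coprime.mpr hAcop)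
      push_cast at this
      exact this
    rw [mul_assoc]
    exact mul_dvd_mul_left _ h7
  have hαy : Units.mk0 α hα0 = y ^ t' := by
    rw [← ht, ht', zpow_mul, zpow_natCast]
  obtain ⟨c, hc⟩ := (hs (orderOf s)).mp (pow_orderOf_eq_one s)
  have hc0 : c ≠ 0 := by
    rintro rfl
    rw [map_zero] at hc
    exact y.ne_zero (eq_zero_of_pow_eq_zero hc)
  apply orderOf_dvd_of_pow_eq_one
  rw [hg]
  refine ⟨((Units.mk0 c hc0) ^ t' : Fˣ), ?_⟩
  have h8 : (Units.mk0 α hα0) ^ (orderOf s) = Units.map (algebraMap F K).toMonoidHom ((Units.mk0 c hc0) ^ t') := by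
    have h9 : y ^ (orderOf s) = Units.map (algebraMap F K).toMonoidHom (Units.mk0 c hc0) := by
      apply Units.ext
      rw [Units.val_pow_eq_pow_val, hc]; rfl
    rw [map_zpow, ← h9, hαy, ← zpow_natCast (y ^ t'), ← zpow_natCast y, ← zpow_mul, ← zpow_mul, mul_comm]
  have h9 := congrArg Units.val h8
  rw [Units.val_pow_eq_pow_val, Units.val_mk0] at h9
  have h10 := (hαroot _ _).mp (show α ^ orderOf s = algebraMap F K (((Units.mk0 c hc0) ^ t' : Fˣ) : F) from h9)
  have h11 := pow_of_root p T 1 f 1 (orderOf s) 0 _ (by rw [pow_one, hTf, zero_mul]) h10 (by rw [pow_zero])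
  rw [pow_zero, mul_one, mul_one, pow_one] at h11
  exact h11

/-- from a half to the whole space -/
theorem scalar_of_half (hF : Fintype.card F = q ^ 2) (T e : Module.End F (Fin n → F))
    (hT : ∀ x y, hermForm n F q (T x) (T y) = hermForm n F q x y) (N : ℕ) (hN : T ^ (N + 1) = 1)
    (heT : e * T = T * e) (hadj : ∀ x y, hermForm n F q (e x) y = hermForm n F q x ((1 - e) y))
    (m : ℕ) (c : F) (hc : c * c ^ q = 1) (hm : T ^ m * e = c • e) :
    T ^ m = c • (1 : Module.End F (Fin n → F)) := by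
  have hc0 : c ≠ 0 := left_ne_zero_of_mul_eq_one hc
  have hTk : ∀ (k : ℕ) x y, hermForm n F q ((T ^ k) x) ((T ^ k) y) = hermForm n F q x y := by
    intro k
    induction k with
    | zero => intro x y; rfl
    | succ k ih => intro x y; rw [pow_succ, Module.End.mul_apply, Module.End.mul_apply, ih, hT]
  have h1 : c⁻¹ • T ^ m = 1 := by
    refine eq_one_of_mul_eq (isHerm_hermForm hF) e (c⁻¹ • T ^ m) ?_ ?_ ?_ ?_ hadj
    · intro x y
      rw [LinearMap.smul_apply, LinearMap.smul_apply, hermForm_smul_left, hermForm_smul_right, hTk, ← mul_assoc, inv_pow, ← mul_inv, hc,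
        inv_one, one_mul]
    · intro y
      refine ⟨(T ^ (m * N)) (c • y), ?_⟩
      rw [LinearMap.smul_apply, ← Module.End.mul_apply, ← pow_add, show m + m * N = (N + 1) * m by ring, pow_mul, hN, one_pow,
        Module.End.one_apply, smul_smul, inv_mul_cancel₀ hc0, one_smul]
    · rw [mul_smul_comm, smul_mul_assoc]
      congr 1
      exact (Commute.pow_right (show Commute e T from heT) _).eq
    · rw [smul_mul_assoc, hm, smul_smul, inv_mul_cancel₀ hc0, one_smul]
  rw [← h1, smul_smul, mul_inv_cancel₀ hc0, one_smul]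

theorem coe_aeval_restrict {V : Type*} [AddCommGroup V] [Module F V] (T : Module.End F V) (W : Submodule F V)
    (S : Module.End F W) (hS : ∀ x, (S x : V) = T x) (R : F[X]) (x : W) : ((aeval S R x : W) : V) = aeval T R (x : V) := by
  induction R using Polynomial.induction_on' with
  | add R₁ R₂ h₁ h₂ => simp only [map_add, LinearMap.add_apply, Submodule.coe_add, h₁, h₂]
  | monomial n a =>
    rw [aeval_monomial, aeval_monomial, Module.End.mul_apply, Module.End.mul_apply,
      Module.algebraMap_end_apply, Module.algebraMap_end_apply, Submodule.coe_smul]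
    congr 1
    induction n with
    | zero => rfl
    | succ n ih => rw [pow_succ', Module.End.mul_apply, pow_succ', Module.End.mul_apply, ← ih, hS]

/-- the determinant on a half of a hyperbolic decomposition is fixed by the field automorphism -/
theorem half_det (hF : Fintype.card F = q ^ 2) (T e : Module.End F (Fin n → F))
    (hT : ∀ x y, hermForm n F q (T x) (T y) = hermForm n F q x y) (N : ℕ) (hN : T ^ (N + 1) = 1) (hdet : LinearMap.det T = 1)
    (he : e * e = e) (heT : e * T = T * e) (hadj : ∀ x y, hermForm n F q (e x) y = hermForm n F q x ((1 - e) y))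
    (S : Module.End F (LinearMap.range e)) (hS : ∀ x, (S x : Fin n → F) = T x) :
    LinearMap.det S ≠ 0 ∧ (LinearMap.det S) ^ q = LinearMap.det S := by
  have hB := isHerm_hermForm (n := n) hF
  have he' : (1 - e) * (1 - e) = 1 - e := by
    rw [mul_sub, mul_one, sub_mul, one_mul, he, sub_self, sub_zero]
  have hee' : e * (1 - e) = 0 := by rw [mul_sub, mul_one, he, sub_self]
  have he'e : (1 - e) * e = 0 := by rw [sub_mul, one_mul, he, sub_self]
  have heTN : e * T ^ N = T ^ N * e := (Commute.pow_right (show Commute e T from heT) _).eq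
  have he'T : (1 - e) * T = T * (1 - e) := by rw [sub_mul, mul_sub, one_mul, mul_one, heT]
  have he'TN : (1 - e) * T ^ N = T ^ N * (1 - e) := by rw [sub_mul, mul_sub, one_mul, mul_one, heTN]
  set T₁ := T * e + (1 - e) with hT₁
  set T₂ := e + T * (1 - e) with hT₂
  set T₁' := T ^ N * (1 - e) + e with hT₁'
  have h12 : T₁ * T₂ = T := by
    rw [hT₁, hT₂, add_mul, mul_add, mul_add, mul_assoc, he, mul_assoc T e, ← mul_assoc e T, heT, mul_assoc T e, hee', mul_zero, mul_zero,
      he'e, ← mul_assoc, he'T, mul_assoc, he', add_zero, zero_add, ← mul_add, add_sub_cancel, mul_one]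
  have h21' : T₂ * T₁' = 1 := by
    rw [hT₂, hT₁', add_mul, mul_add, mul_add, he, ← mul_assoc e, heTN, mul_assoc, hee', mul_zero, zero_add, mul_assoc T, mul_assoc T, he'e,
      mul_zero, add_zero, ← mul_assoc (1 - e), he'TN, mul_assoc, he', ← mul_assoc, ← pow_succ', hN, one_mul, add_sub_cancel]
  have hadj1 : ∀ x y, hermForm n F q (T₁ x) y = hermForm n F q x (T₁' y) := by
    intro x y
    rw [hT₁, hT₁', LinearMap.add_apply, LinearMap.add_apply, hB.add_left, hB.add_right, Module.End.mul_apply,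
      inv_adj hT hN, hadj, ← Module.End.mul_apply, he'TN]
    congr 1
    rw [LinearMap.sub_apply, hB.sub_left, hadj, LinearMap.sub_apply, hB.sub_right, Module.End.one_apply, Module.End.one_apply,
      sub_sub_cancel]
  have hdetT₁ : LinearMap.det T₁ = LinearMap.det S := by
    have h1 := det_idem e he T₁ (by
      rw [hT₁, mul_add, add_mul, hee', he'e, ← mul_assoc, heT]) S (1 : Module.End F (LinearMap.ker e)) ?_ ?_
    · rw [h1, map_one, mul_one]
    · rintro ⟨_, x, rfl⟩
      rw [hS, hT₁, LinearMap.add_apply, Module.End.mul_apply, ← Module.End.mul_apply e, he, ← Module.End.mul_apply (1 - e), he'e,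
        LinearMap.zero_apply, add_zero]
    · rintro ⟨x, hx⟩
      rw [LinearMap.mem_ker] at hx
      rw [hT₁, LinearMap.add_apply, Module.End.mul_apply, LinearMap.sub_apply]
      show x = T (e x) + (x - e x)
      rw [hx, map_zero, zero_add, sub_zero]
  have hd1 := congrArg LinearMap.det h12
  rw [map_mul, hdet, hdetT₁] at hd1
  have hd2 := congrArg LinearMap.det h21'
  rw [map_mul, map_one] at hd2
  have hd3 := det_adj hF T₁ T₁' hadj1
  rw [hdetT₁] at hd3
  have h5 : LinearMap.det T₁' = LinearMap.det S := by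
    calc LinearMap.det T₁' = (LinearMap.det S * LinearMap.det T₂) * LinearMap.det T₁' := by rw [hd1, one_mul]
      _ = LinearMap.det S * (LinearMap.det T₂ * LinearMap.det T₁') := by ring
      _ = LinearMap.det S := by rw [hd2, mul_one]
  rw [h5] at hd3
  exact ⟨left_ne_zero_of_mul_eq_one hd1, hd3.symm⟩

include p in
theorem exists_singer_even (hF : Fintype.card F = q ^ 2) (hn : 2 ≤ n) (d : ℕ) (hd : n = 2 * d) :
    ∃ s : PSU n F q, ∀ (g : PSU n F q) (T : Module.End F (Fin n → F)) (N : ℕ),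
      (∀ k : ℕ, g ^ k = 1 ↔ ∃ c : F, T ^ k = c • (1 : Module.End F (Fin n → F))) → LinearMap.det T = 1 →
      (∀ x y, hermForm n F q (T x) (T y) = hermForm n F q x y) → T ^ (N + 1) = 1 →
      ∀ (e : Module.End F (Fin n → F)) (f : F[X]), Irreducible f → f.natDegree = d → e * e = e → e * T = T * e →
      (∀ x y, hermForm n F q (e x) y = hermForm n F q x ((1 - e) y)) → aeval T f * e = 0 → orderOf g ∣ orderOf s := by
  have hp : p.Prime := Fact.out
  have hq2 := two_le_q hF
  obtain ⟨K, _, _, _, hK, z, hz, hzo, hw⟩ := PSLTypes.exists_ext F d (by omega)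
  have hfd : FiniteDimensional F K := Module.finite_of_finrank_pos (by omega)
  set w := Units.map (Algebra.norm F (S := K)) z with hwdef
  have hwo : orderOf w = (q - 1) * (q + 1) := by
    rw [orderOf_eq_card_of_forall_mem_zpowers hw, Nat.card_units, Nat.card_eq_fintype_card, hF, sq_sub_one, mul_comm]
  obtain ⟨θ, hθq, hθ, hθ'⟩ := exists_theta p hF (K := K)
  obtain ⟨star', l', hSA', hstar'⟩ := isSA_swap (F := F) (K := K) (σ := frob hF) (ε := 1) (frob_frob hF) (by simp)
    (θ : K →+* K) (θ.symm : K →+* K) hθ hθ' (fun x => θ.apply_symm_apply x) (fun x => θ.symm_apply_apply x)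
  set y : Kˣ := z ^ (q + 1) with hy
  have hθy0 : θ (y : K) ≠ 0 := by
    rw [hθq]; exact pow_ne_zero _ y.ne_zero
  have hynorm : (Algebra.norm F (y : K)) ^ q = Algebra.norm F (y : K) := by
    have h1 : Algebra.norm F (y : K) = ((w ^ (q + 1) : Fˣ) : F) := by
      rw [hwdef, ← map_pow]; rfl
    rw [h1, ← Units.val_pow_eq_pow_val]
    congr 1
    have h2 : (w ^ (q + 1)) ^ (q - 1) = 1 := by
      rw [← pow_mul, mul_comm, ← hwo, pow_orderOf_eq_one]
    calc (w ^ (q + 1)) ^ q = (w ^ (q + 1)) ^ (q - 1) * w ^ (q + 1) := by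
          rw [← pow_succ, Nat.sub_add_cancel (by omega)]
      _ = w ^ (q + 1) := by rw [h2, one_mul]
  obtain ⟨s, hs⟩ := exists_of_sa hF hn hSA' (by rw [finrank_prod, hK, hd]; ring) ((y : K), (θ (y : K))⁻¹) (by
      rw [hstar']
      apply Prod.ext
      · show (y : K) * θ.symm ((θ (y : K))⁻¹) = 1
        rw [map_inv₀, RingEquiv.symm_apply_apply, mul_inv_cancel₀ y.ne_zero]
      · show (θ (y : K))⁻¹ * θ (y : K) = 1
        exact inv_mul_cancel₀ hθy0) (by
      rw [norm_prod', hθq, ← inv_pow, map_pow]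
      have h1 : Algebra.norm F (y : K) * Algebra.norm F ((y : K)⁻¹) = 1 := by
        rw [← map_mul, mul_inv_cancel₀ y.ne_zero, map_one]
      nth_rw 1 [← hynorm]
      rw [← mul_pow, h1, one_pow])
  refine ⟨s, ?_⟩
  intro g T N hg hdet hT hN e f hf hfd' he heT hadj hTf
  have hB := isHerm_hermForm (n := n) hF
  have hadj' : ∀ x y, hermForm n F q ((1 - e) x) y = hermForm n F q x (e y) := by
    intro x y
    rw [LinearMap.sub_apply, hB.sub_left, hadj, LinearMap.sub_apply, hB.sub_right, Module.End.one_apply, Module.End.one_apply,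
      sub_sub_cancel]
  have hee' : e * (1 - e) = 0 := by rw [mul_sub, mul_one, he, sub_self]
  have he'e : (1 - e) * e = 0 := by rw [sub_mul, one_mul, he, sub_self]
  have hW : finrank F (LinearMap.range e) = d := by
    have h1 : 2 * finrank F (LinearMap.range e) ≤ finrank F (Fin n → F) := by
      apply dim_le_of_isotropic hB
      rintro _ ⟨x, rfl⟩ _ ⟨y, rfl⟩
      rw [hadj, ← Module.End.mul_apply, he'e, LinearMap.zero_apply, hB.zero_right]
    have h2 : 2 * finrank F (LinearMap.ker e) ≤ finrank F (Fin n → F) := by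
      apply dim_le_of_isotropic hB
      intro x hx y hy
      rw [LinearMap.mem_ker] at hx hy
      have h3 : x = (1 - e) x := by rw [LinearMap.sub_apply, hx, sub_zero]; rfl
      rw [h3, hadj', hy, hB.zero_right]
    have h3 := finrank_idem e he
    rw [finrank_fintype_fun_eq_card, Fintype.card_fin] at h1 h2 h3
    omega
  have hinv : ∀ x ∈ LinearMap.range e, T x ∈ LinearMap.range e := by
    rintro _ ⟨x, rfl⟩
    exact ⟨T x, by rw [← Module.End.mul_apply, heT, Module.End.mul_apply]⟩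
  set S := T.restrict hinv with hSdef
  have hS : ∀ x, (S x : Fin n → F) = T x := fun x => rfl
  have hSf : aeval S f = 0 := by
    apply LinearMap.ext
    rintro ⟨_, x, rfl⟩
    apply Subtype.ext
    rw [coe_aeval_restrict T _ S hS]
    show (aeval T f) (e x) = 0
    rw [← Module.End.mul_apply, hTf, LinearMap.zero_apply]
  obtain ⟨α, hαf, hαroot⟩ := exists_root_in (K := K) f hf (by rw [hK, hfd'])
  have hαn := det_eq_norm S f hf (by rw [hfd', hW]) hSf (by rw [hK, hW]) α hαf
  obtain ⟨hS0, hSq⟩ := half_det hF T e hT N hN hdet he heT hadj S hS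
  rw [hαn] at hS0 hSq
  have hα0 : α ≠ 0 := by
    rintro rfl
    rw [Algebra.norm_zero] at hS0
    exact hS0 rfl
  obtain ⟨t, ht⟩ := Subgroup.mem_zpowers_iff.mp (hz (Units.mk0 α hα0))
  have hwt : w ^ (t * (q - 1 : ℕ)) = 1 := by
    have h1 : w ^ t = Units.mk0 (Algebra.norm F α) hS0 := by
      rw [hwdef, ← map_zpow, ht]
      apply Units.ext
      rfl
    rw [zpow_mul, h1, zpow_natCast]
    apply Units.ext
    rw [Units.val_pow_eq_pow_val, Units.val_mk0, Units.val_one]
    apply mul_right_cancel₀ hS0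
    rw [← pow_succ, Nat.sub_add_cancel (by omega), hSq, one_mul]
  have h1 : (((q - 1) * (q + 1) : ℕ) : ℤ) ∣ t * (q - 1 : ℕ) := by
    rw [← hwo]; exact orderOf_dvd_iff_zpow_eq_one.mpr hwt
  obtain ⟨t', ht'⟩ : ((q + 1 : ℕ) : ℤ) ∣ t := by
    push_cast at h1 ⊢
    rw [mul_comm t] at h1
    have hq0 : ((q - 1 : ℕ) : ℤ) ≠ 0 := by
      have : q - 1 ≠ 0 := by omega
      exact_mod_cast this
    exact Int.dvd_of_mul_dvd_mul_left hq0 h1
  have hαy : Units.mk0 α hα0 = y ^ t' := by
    rw [← ht, ht', zpow_mul, zpow_natCast]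
  obtain ⟨c, hc⟩ := (hs (orderOf s)).mp (pow_orderOf_eq_one s)
  have hc1 : (y : K) ^ orderOf s = algebraMap F K c := congrArg Prod.fst hc
  have hc2 : ((θ (y : K))⁻¹) ^ orderOf s = algebraMap F K c := congrArg Prod.snd hc
  have hcc : c * c ^ q = 1 := by
    apply (algebraMap F K).injective
    rw [map_mul, ← hc2, map_pow, ← hc1, ← hθq ((y : K) ^ orderOf s), map_pow, ← mul_pow, inv_mul_cancel₀ hθy0, one_pow, map_one]
  have hc0 : c ≠ 0 := left_ne_zero_of_mul_eq_one hcc
  apply orderOf_dvd_of_pow_eq_one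
  rw [hg]
  refine ⟨((Units.mk0 c hc0) ^ t' : Fˣ), ?_⟩
  have h8 : (Units.mk0 α hα0) ^ (orderOf s) = Units.map (algebraMap F K).toMonoidHom ((Units.mk0 c hc0) ^ t') := by
    have h9 : y ^ (orderOf s) = Units.map (algebraMap F K).toMonoidHom (Units.mk0 c hc0) := by
      apply Units.ext
      rw [Units.val_pow_eq_pow_val, hc1]; rfl
    rw [map_zpow, ← h9, hαy, ← zpow_natCast (y ^ t'), ← zpow_natCast y, ← zpow_mul, ← zpow_mul, mul_comm]
  have h9 := congrArg Units.val h8
  rw [Units.val_pow_eq_pow_val, Units.val_mk0] at h9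
  have h10 := (hαroot _ _).mp (show α ^ orderOf s = algebraMap F K (((Units.mk0 c hc0) ^ t' : Fˣ) : F) from h9)
  have h11 := pow_of_root p T e f 1 (orderOf s) 0 _ (by rw [pow_one, hTf]) h10 (by rw [pow_zero])
  rw [pow_zero, mul_one, pow_one] at h11
  refine scalar_of_half hF T e hT N hN heT hadj _ _ ?_ h11
  rw [← Units.val_pow_eq_pow_val, ← Units.val_mul]
  have h12 : (Units.mk0 c hc0) * (Units.mk0 c hc0) ^ q = 1 := by
    apply Units.ext
    rw [Units.val_mul, Units.val_pow_eq_pow_val, Units.val_mk0, hcc, Units.val_one]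
  have h13 : (Units.mk0 c hc0) ^ t' * ((Units.mk0 c hc0) ^ t') ^ q = ((Units.mk0 c hc0) * (Units.mk0 c hc0) ^ q) ^ t' := by
    rw [mul_zpow, ← zpow_natCast (Units.mk0 c hc0 ^ t'), ← zpow_natCast (Units.mk0 c hc0), ← zpow_mul, ← zpow_mul, mul_comm t']
  rw [h13, h12, one_zpow, Units.val_one]

end Cfsg.Agent.Lib.UnSpec
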