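import Cfsg.Agent.Lib.BlockRing

/-!
# The unramified local ring (helper78)

`unramInt p`: subring of `ℂ` generated by the roots of unity of order prime to `p`.
`unramLoc p M`: its localisation at `M`; a discrete valuation ring with uniformizer `p`.
-/

namespace Cfsg.Agent.Lib.UnramRing

open Cfsg Cfsg.Agent.Lib.BlockRing

/-- Ring generated by the roots of unity of order prime to `p`. -/
def unramInt (p : ℕ) : Subring ℂ := Subring.closure {z | ∃ m : ℕ, 0 < m ∧ ¬ p ∣ m ∧ z ^ m = 1}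

variable {p : ℕ}

theorem mem_unramInt_of_pow {z : ℂ} {m : ℕ} (hm : 0 < m) (hp : ¬ p ∣ m) (hz : z ^ m = 1) :
    z ∈ unramInt p := Subring.subset_closure ⟨m, hm, hp, hz⟩

theorem isIntegral_of_mem {z : ℂ} (hz : z ∈ unramInt p) : IsIntegral ℤ z := by
  have h : unramInt p ≤ (integralClosure ℤ ℂ).toSubring := by
    rw [unramInt, Subring.closure_le]
    rintro z ⟨m, hm, -, hz⟩
    exact (IsIntegral.of_pow hm (by rw [hz]; exact isIntegral_one))
  exact h hz

/-- Frobenius has finite order modulo `p`. -/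
theorem exists_frob (hp : p.Prime) {z : ℂ} (hz : z ∈ unramInt p) :
    ∃ r : ℕ, 0 < r ∧ ∃ c ∈ unramInt p, z ^ (p ^ r) - z = p * c := by
  haveI : Fact p.Prime := ⟨hp⟩
  -- work in the ring `A` modulo `p`
  let A := unramInt p
  let I : Ideal A := Ideal.span {(p : A)}
  let Q := A ⧸ I
  have hpQ : ((p : ℕ) : Q) = 0 := by
    have : Ideal.Quotient.mk I (p : A) = 0 :=
      Ideal.Quotient.eq_zero_iff_mem.mpr (Ideal.mem_span_singleton_self _)
    simpa using this
  have key : ∀ z : ℂ, (hz : z ∈ A) → ∃ r : ℕ, 0 < r ∧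
      (Ideal.Quotient.mk I ⟨z, hz⟩) ^ (p ^ r) = Ideal.Quotient.mk I ⟨z, hz⟩ := by
    have iter : ∀ (x : Q) (r : ℕ), x ^ (p ^ r) = x → ∀ s, x ^ (p ^ (r * s)) = x := by
      intro x r hr s
      induction s with
      | zero => simp
      | succ s ih => rw [mul_add, mul_one, pow_add, pow_mul, ih, hr]
    by_cases hQ : Nontrivial Q
    · haveI : CharP Q p := (CharP.charP_iff_prime_eq_zero hp).mpr hpQ
      intro z hz
      induction hz using Subring.closure_induction with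
      | mem x hx =>
        obtain ⟨m, hm, hpm, hx1⟩ := hx
        have hco : Nat.Coprime p m := (Nat.Prime.coprime_iff_not_dvd hp).mpr hpm
        refine ⟨Nat.totient m, Nat.totient_pos.mpr hm, ?_⟩
        have h1 : p ^ Nat.totient m ≡ 1 [MOD m] := Nat.ModEq.pow_totient hco
        rw [← map_pow]
        congr 1
        apply Subtype.ext
        show x ^ (p ^ Nat.totient m) = x
        have h2 : x ^ (p ^ Nat.totient m) = x ^ 1 := by
          rw [pow_eq_pow_mod (p ^ Nat.totient m) hx1, h1, ← pow_eq_pow_mod 1 hx1]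
        rw [h2, pow_one]
      | zero => exact ⟨1, one_pos, by
          have : (⟨0, Subring.zero_mem A⟩ : A) = 0 := rfl
          rw [this, map_zero, zero_pow (pow_ne_zero _ hp.ne_zero)]⟩
      | one => exact ⟨1, one_pos, by
          have : (⟨1, Subring.one_mem A⟩ : A) = 1 := rfl
          rw [this, map_one, one_pow]⟩
      | add x y hx hy ihx ihy =>
        obtain ⟨r, hr, h1⟩ := ihx
        obtain ⟨s, hs, h2⟩ := ihy
        refine ⟨r * s, Nat.mul_pos hr hs, ?_⟩
        have h3 : (⟨x + y, A.add_mem hx hy⟩ : A) = ⟨x, hx⟩ + ⟨y, hy⟩ := rfl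
        rw [h3, map_add, add_pow_char_pow, iter _ r h1 s, mul_comm r s, iter _ s h2 r]
      | neg x hx ihx =>
        obtain ⟨r, hr, h1⟩ := ihx
        refine ⟨r, hr, ?_⟩
        have h3 : (⟨-x, A.neg_mem hx⟩ : A) = -⟨x, hx⟩ := rfl
        rw [h3, map_neg]
        have h4 : (-(Ideal.Quotient.mk I ⟨x, hx⟩)) ^ (p ^ r) = -((Ideal.Quotient.mk I ⟨x, hx⟩) ^ (p ^ r)) := by
          have h5 := add_pow_char_pow (R := Q) (p := p) (n := r) (-(Ideal.Quotient.mk I ⟨x, hx⟩))
            (Ideal.Quotient.mk I ⟨x, hx⟩)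
          rw [neg_add_cancel, zero_pow (pow_ne_zero _ hp.ne_zero)] at h5
          exact (neg_eq_of_add_eq_zero_left h5.symm).symm
        rw [h4, h1]
      | mul x y hx hy ihx ihy =>
        obtain ⟨r, hr, h1⟩ := ihx
        obtain ⟨s, hs, h2⟩ := ihy
        refine ⟨r * s, Nat.mul_pos hr hs, ?_⟩
        have h3 : (⟨x * y, A.mul_mem hx hy⟩ : A) = ⟨x, hx⟩ * ⟨y, hy⟩ := rfl
        rw [h3, map_mul, mul_pow, iter _ r h1 s, mul_comm r s, iter _ s h2 r]
    · haveI : Subsingleton Q := not_nontrivial_iff_subsingleton.mp hQ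
      intro z hz
      exact ⟨1, one_pos, Subsingleton.elim _ _⟩
  obtain ⟨r, hr, h⟩ := key z hz
  refine ⟨r, hr, ?_⟩
  rw [← map_pow, Ideal.Quotient.eq, Ideal.mem_span_singleton] at h
  obtain ⟨c, hc⟩ := h
  refine ⟨c, c.2, ?_⟩
  have := congrArg Subtype.val hc
  simpa using this

variable (p) in
/-- The localisation at `M`. -/
def unramLoc (M : Ideal AlgInt) [M.IsPrime] : Subring ℂ where
  carrier := {z | ∃ a ∈ unramInt p, ∃ s ∈ unramInt p, ¬ MemLocalIdeal M s ∧ z * s = a}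
  mul_mem' := by
    rintro z w ⟨a, ha, s, hs, hs', h⟩ ⟨b, hb, t, ht, ht', h2⟩
    refine ⟨a * b, (unramInt p).mul_mem ha hb, s * t, (unramInt p).mul_mem hs ht, ?_, ?_⟩
    · exact not_idl_mul (loc_of_isIntegral (isIntegral_of_mem hs)) hs' ht'
    · rw [← h, ← h2]; ring
  one_mem' := ⟨1, (unramInt p).one_mem, 1, (unramInt p).one_mem, one_not_idl, by ring⟩
  add_mem' := by
    rintro z w ⟨a, ha, s, hs, hs', h⟩ ⟨b, hb, t, ht, ht', h2⟩
    refine ⟨a * t + b * s, (unramInt p).add_mem ((unramInt p).mul_mem ha ht)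
      ((unramInt p).mul_mem hb hs), s * t, (unramInt p).mul_mem hs ht, ?_, ?_⟩
    · exact not_idl_mul (loc_of_isIntegral (isIntegral_of_mem hs)) hs' ht'
    · rw [← h, ← h2]; ring
  zero_mem' := ⟨0, (unramInt p).zero_mem, 1, (unramInt p).one_mem, one_not_idl, by ring⟩
  neg_mem' := by
    rintro z ⟨a, ha, s, hs, hs', h⟩
    exact ⟨-a, (unramInt p).neg_mem ha, s, hs, hs', by rw [← h]; ring⟩

variable {M : Ideal AlgInt} [M.IsPrime]

theorem loc_of_mem {z : ℂ} (hz : z ∈ unramLoc p M) : MemLocalRing M z := by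
  obtain ⟨a, ha, s, hs, hs', h⟩ := hz
  have hs0 := ne_zero_of_not_idl hs'
  have : z = a * s⁻¹ := by rw [← h, mul_assoc, mul_inv_cancel₀ hs0, mul_one]
  rw [this]
  exact loc_mul (loc_of_isIntegral (isIntegral_of_mem ha))
    (loc_inv (loc_of_isIntegral (isIntegral_of_mem hs)) hs')

theorem mem_of_mem_unramInt {z : ℂ} (hz : z ∈ unramInt p) : z ∈ unramLoc p M :=
  ⟨z, hz, 1, (unramInt p).one_mem, one_not_idl, mul_one z⟩

theorem inv_mem {z : ℂ} (hz : z ∈ unramLoc p M) (hz' : ¬ MemLocalIdeal M z) :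
    z⁻¹ ∈ unramLoc p M := by
  obtain ⟨a, ha, s, hs, hs', h⟩ := hz
  have hz0 := ne_zero_of_not_idl hz'
  have ha' : ¬ MemLocalIdeal M a := by
    rw [← h]
    exact not_idl_mul (loc_of_mem ⟨a, ha, s, hs, hs', h⟩) hz' hs'
  refine ⟨s, hs, a, ha, ha', ?_⟩
  rw [← h, ← mul_assoc, inv_mul_cancel₀ hz0, one_mul]

/-- Unramified: elements of the ideal are divisible by `p`. -/
theorem div_p_mem (hM : IsPModular p M) {z : ℂ} (hz : z ∈ unramLoc p M) (hz' : MemLocalIdeal M z) :
    z / p ∈ unramLoc p M := by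
  have hp := hM.1
  obtain ⟨a, ha, s, hs, hs', h⟩ := hz
  have hp0 : (p : ℂ) ≠ 0 := Nat.cast_ne_zero.mpr hp.ne_zero
  have ha' : MemLocalIdeal M a := by
    rw [← h]
    exact idl_mul_right hz' (loc_of_isIntegral (isIntegral_of_mem hs))
  obtain ⟨r, hr, c, hc, hac⟩ := exists_frob hp ha
  -- a (a^(q-1) - 1) = p c
  have hq : 1 ≤ p ^ r := Nat.one_le_pow _ _ hp.pos
  have hq2 : 2 ≤ p ^ r := le_trans hp.two_le (Nat.le_self_pow hr.ne' p)
  obtain ⟨q, hq'⟩ : ∃ q, p ^ r = q + 1 := ⟨p ^ r - 1, by omega⟩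
  have hq0 : q ≠ 0 := by omega
  have h1 : a * (a ^ q - 1) = p * c := by
    rw [← hac, hq', pow_succ]; ring
  have h2 : ¬ MemLocalIdeal M (a ^ q - 1) := by
    intro h3
    have h4 := idl_sub (idl_pow ha' hq0) h3
    rw [sub_sub_cancel] at h4
    exact one_not_idl h4
  refine ⟨c, hc, s * (a ^ q - 1), ?_, ?_, ?_⟩
  · exact (unramInt p).mul_mem hs ((unramInt p).sub_mem ((unramInt p).pow_mem ha q)
      (unramInt p).one_mem)
  · exact not_idl_mul (loc_of_isIntegral (isIntegral_of_mem hs)) hs' h2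
  · rw [div_mul_eq_mul_div, div_eq_iff hp0, ← mul_assoc, h, h1, mul_comm]

theorem p_mem : (p : ℂ) ∈ unramLoc p M := natCast_mem _ p

theorem eq_mul_pow_mem (hM : IsPModular p M) {z : ℂ} (hz : z ∈ unramLoc p M) (hz0 : z ≠ 0) :
    ∃ (n : ℕ) (u : ℂ), u ∈ unramLoc p M ∧ ¬ MemLocalIdeal M u ∧ z = (p : ℂ) ^ n * u := by
  have hp := hM.1
  haveI : Fact p.Prime := ⟨hp⟩
  have hp0 : (p : ℂ) ≠ 0 := Nat.cast_ne_zero.mpr hp.ne_zero
  by_contra hcon
  push Not at hcon
  -- `z` is divisible by all powers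
  have hall : ∀ n : ℕ, ∃ u, u ∈ unramLoc p M ∧ MemLocalIdeal M u ∧ z = (p : ℂ) ^ n * u := by
    intro n
    induction n with
    | zero =>
      refine ⟨z, hz, ?_, by rw [pow_zero, one_mul]⟩
      by_contra h
      exact hcon 0 z hz h (by rw [pow_zero, one_mul])
    | succ n ih =>
      obtain ⟨u, hu, hu', h⟩ := ih
      refine ⟨u / p, div_p_mem hM hu hu', ?_, ?_⟩
      · by_contra h2
        apply hcon (n + 1) (u / p) (div_p_mem hM hu hu') h2
        rw [h, pow_succ, mul_assoc, mul_div_cancel₀ _ hp0]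
      · rw [h, pow_succ, mul_assoc, mul_div_cancel₀ _ hp0]
  obtain ⟨a, ha, s, hs, hs', h⟩ := hz
  have hs0 := ne_zero_of_not_idl hs'
  have ha0 : a ≠ 0 := by rw [← h]; exact mul_ne_zero hz0 hs0
  let a' : AlgInt := ⟨a, isIntegral_of_mem ha⟩
  have ha'0 : a' ≠ 0 := fun h => ha0 (congrArg Subtype.val h)
  have hne := Ideal.comap_ne_bot_of_integral_mem (R := ℤ) (I := Ideal.span {a'}) ha'0
    (Ideal.mem_span_singleton_self a') (Algebra.IsIntegral.isIntegral a')
  obtain ⟨N, hN, hN0⟩ := (Submodule.ne_bot_iff _).mp hne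
  rw [Ideal.mem_comap, Ideal.mem_span_singleton] at hN
  obtain ⟨b, hb⟩ := hN
  have hNb : (N : ℂ) = a * b := by
    have := congrArg Subtype.val hb
    simpa using this
  -- powers of `p` divide `N`
  have hdiv : ∀ n : ℕ, MemLocalRing M ((N.natAbs : ℂ) / ((p ^ n : ℕ) : ℂ)) := by
    intro n
    obtain ⟨u, hu, -, h2⟩ := hall n
    have h3 : (N : ℂ) / ((p ^ n : ℕ) : ℂ) = u * s * b := by
      rw [hNb, ← h, h2]
      push_cast
      have : (p : ℂ) ^ n ≠ 0 := pow_ne_zero _ hp0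
      field_simp
    have h4 : MemLocalRing M ((N : ℂ) / ((p ^ n : ℕ) : ℂ)) := by
      rw [h3]
      exact loc_mul (loc_mul (loc_of_mem hu) (loc_of_isIntegral (isIntegral_of_mem hs)))
        (loc_algInt b)
    rcases Int.natAbs_eq N with h5 | h5
    · rw [h5] at h4; simpa using h4
    · rw [h5] at h4
      have h6 := loc_neg h4
      rw [← neg_div] at h6
      simpa using h6
  have h1 := hdiv (N.natAbs.factorization p + 1)
  rw [loc_div_natCast_iff hM (Int.natAbs_ne_zero.mpr hN0) (pow_ne_zero _ hp.ne_zero),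
    hp.factorization_pow, Finsupp.single_eq_same] at h1
  omega

/-- The reduction criterion. -/
theorem idl_iff_dvd (hM : IsPModular p M) (r : unramLoc p M) :
    MemLocalIdeal M (r : ℂ) ↔ ((p : ℕ) : unramLoc p M) ∣ r := by
  have hp0 : (p : ℂ) ≠ 0 := Nat.cast_ne_zero.mpr hM.1.ne_zero
  constructor
  · intro h
    refine ⟨⟨_, div_p_mem hM r.2 h⟩, ?_⟩
    apply Subtype.ext
    push_cast
    rw [mul_div_cancel₀ _ hp0]
  · rintro ⟨c, hc⟩
    have : (r : ℂ) = (p : ℂ) * c := by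
      have := congrArg Subtype.val hc
      simpa using this
    rw [this]
    exact idl_mul_right (idl_p hM) (loc_of_mem c.2)

theorem isUnit_iff (hM : IsPModular p M) (r : unramLoc p M) :
    IsUnit r ↔ ¬ MemLocalIdeal M (r : ℂ) := by
  constructor
  · rintro ⟨u, rfl⟩ h
    have h1 : ((u : unramLoc p M) : ℂ) * ((↑u⁻¹ : unramLoc p M) : ℂ) = 1 := by
      exact congrArg Subtype.val (Units.mul_inv u)
    apply one_not_idl (M := M)
    rw [← h1]
    exact idl_mul_right h (loc_of_mem (↑u⁻¹ : unramLoc p M).2)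
  · intro h
    refine ⟨⟨r, ⟨_, inv_mem r.2 h⟩, ?_, ?_⟩, rfl⟩
    · exact Subtype.ext (mul_inv_cancel₀ (ne_zero_of_not_idl h))
    · exact Subtype.ext (inv_mul_cancel₀ (ne_zero_of_not_idl h))

theorem irreducible_p (hM : IsPModular p M) : Irreducible ((p : ℕ) : unramLoc p M) := by
  have hp0 : (p : ℂ) ≠ 0 := Nat.cast_ne_zero.mpr hM.1.ne_zero
  constructor
  · rw [isUnit_iff hM]
    push_cast
    exact fun h => h (idl_p hM)
  · intro a b hab
    by_contra hcon
    push Not at hcon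
    rw [isUnit_iff hM, isUnit_iff hM, not_not, not_not] at hcon
    obtain ⟨c, hc⟩ := (idl_iff_dvd hM a).mp hcon.1
    obtain ⟨d, hd⟩ := (idl_iff_dvd hM b).mp hcon.2
    have h1 : (1 : ℂ) = p * (c * d) := by
      have h2 := congrArg Subtype.val hab
      rw [hc, hd] at h2
      push_cast at h2
      have h3 : (p : ℂ) * 1 = p * (p * (c * d)) := by rw [mul_one]; linear_combination h2
      exact mul_left_cancel₀ hp0 h3
    apply one_not_idl (M := M)
    rw [h1]
    exact idl_mul_right (idl_p hM) (loc_mul (loc_of_mem c.2) (loc_of_mem d.2))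

theorem isDVR (hM : IsPModular p M) : IsDiscreteValuationRing (unramLoc p M) := by
  apply IsDiscreteValuationRing.ofHasUnitMulPowIrreducibleFactorization
  refine ⟨((p : ℕ) : unramLoc p M), irreducible_p hM, fun {x} hx => ?_⟩
  obtain ⟨n, u, hu, hu', h⟩ := eq_mul_pow_mem hM x.2 (fun h0 => hx (Subtype.ext h0))
  obtain ⟨v, hv⟩ := (isUnit_iff hM ⟨u, hu⟩).mpr hu'
  refine ⟨n, v, ?_⟩
  apply Subtype.ext
  rw [hv]
  push_cast
  exact h.symm

end Cfsg.Agent.Lib.UnramRing
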