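import Mathlib
import Cfsg.Agent.Lib.CliffordCorr
import Cfsg.Agent.Lib.TwoDeg
import Cfsg.Agent.Lib.GalConj
import Cfsg.Agent.Lib.PF9Sup

set_option autoImplicit false

/-!
# Vanishing elements of `p`-singular order in solvable groups (helper83)

`rv`: a set of commuting automorphisms of `p`-power order of a finite abelian group of order prime to `p` has
a regular vector.  `exists_lam`: regular linear characters.  `van_of_free`: vanishing criterion.
-/

namespace Cfsg.Agent.Lib.VanPSing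

open Cfsg Cfsg.Agent.Lib.CharBasic Cfsg.Agent.Lib.Clifford Cfsg.Agent.Lib.CliffordCorr

universe u

section RV

variable {W : Type*} [CommGroup W]

theorem pow_apply_mul (α : MulAut W) (x y : W) (h1 : α x = x * y) (h2 : α y = y) (k : ℕ) :
    (α ^ k) x = x * y ^ k := by
  induction k with
  | zero => simp
  | succ k ih =>
    have h3 : α (y ^ k) = y ^ k := by rw [map_pow, h2]
    rw [pow_succ', MulAut.mul_apply, ih, map_mul, h1, h3, mul_assoc, pow_succ' y]

theorem rv_aux [Finite W] (p n : ℕ) (hn : n.Coprime p) (hexp : ∀ y : W, y ^ n = 1)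
    (𝒜 : Set (MulAut W)) (hcomm : ∀ α ∈ 𝒜, ∀ β ∈ 𝒜, ∀ x, α (β x) = β (α x))
    (hpow : ∀ α ∈ 𝒜, ∃ j : ℕ, ∀ x, (α ^ (p ^ j)) x = x) :
    ∀ (m : ℕ) (U : Subgroup W), Nat.card U = m → (∀ α ∈ 𝒜, ∀ x ∈ U, α x ∈ U) →
      ∃ w ∈ U, ∀ α ∈ 𝒜, α w = w → ∀ x ∈ U, α x = x := by
  intro m
  induction m using Nat.strong_induction_on with
  | _ m ih =>
  intro U hU hinv
  by_cases h : ∀ α ∈ 𝒜, (∃ x ∈ U, x ≠ 1 ∧ α x = x) → ∀ x ∈ U, α x = x
  · by_cases hbot : U = ⊥
    · refine ⟨1, U.one_mem, fun α _ _ x hx => ?_⟩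
      rw [hbot, Subgroup.mem_bot] at hx
      rw [hx, map_one]
    · obtain ⟨w, hw, hw1⟩ := (Subgroup.bot_or_exists_ne_one U).resolve_left hbot
      exact ⟨w, hw, fun α hα hαw => h α hα ⟨w, hw, hw1, hαw⟩⟩
  · push Not at h
    obtain ⟨α, hα, ⟨x0, hx0, hx01, hαx0⟩, y0, hy0, hαy0⟩ := h
    -- the two subgroups
    let f : W →* W :=
      { toFun := fun x => α x * x⁻¹
        map_one' := by simp
        map_mul' := by
          intro x y
          rw [map_mul, mul_inv]
          exact mul_mul_mul_comm _ _ _ _ }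
    have hf : ∀ x, f x = α x * x⁻¹ := fun x => rfl
    let U1 : Subgroup W := U ⊓ f.ker
    let U2 : Subgroup W := U.map f
    have hU1 : ∀ x, x ∈ U1 ↔ x ∈ U ∧ α x = x := by
      intro x
      show x ∈ U ∧ x ∈ f.ker ↔ _
      rw [MonoidHom.mem_ker, hf, mul_inv_eq_one]
    have hU2U : U2 ≤ U := by
      rintro _ ⟨x, hx, rfl⟩
      exact U.mul_mem (hinv α hα x hx) (U.inv_mem hx)
    have hdisj : ∀ y, y ∈ U1 → y ∈ U2 → y = 1 := by
      rintro y hy ⟨x, hx, hxy⟩
      obtain ⟨j, hj⟩ := hpow α hα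
      have h1 : α x = x * y := by
        rw [← hxy, hf, mul_comm x, inv_mul_cancel_right]
      have h2 := pow_apply_mul α x y h1 ((hU1 y).1 hy).2 (p ^ j)
      rw [hj x] at h2
      have h3 : y ^ (p ^ j) = 1 := by
        have := h2.symm
        rwa [mul_eq_left] at this
      have h4 : orderOf y ∣ p ^ j := orderOf_dvd_of_pow_eq_one h3
      have h5 : orderOf y ∣ n := orderOf_dvd_of_pow_eq_one (hexp y)
      have h6 : orderOf y ∣ 1 := by
        rw [← (Nat.Coprime.pow_right j hn : Nat.gcd n (p ^ j) = 1)]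
        exact Nat.dvd_gcd h5 h4
      exact orderOf_eq_one_iff.1 (Nat.dvd_one.1 h6)
    have hcard : Nat.card U1 * Nat.card U2 = Nat.card U := by
      have h1 : Nat.card (f.comp U.subtype).ker * Nat.card (f.comp U.subtype).range = Nat.card U := by
        rw [← Subgroup.index_ker, Subgroup.card_mul_index]
      have h2 : (f.comp U.subtype).range = U2 := by
        rw [MonoidHom.range_comp, Subgroup.range_subtype]
      have h3 : Nat.card (f.comp U.subtype).ker = Nat.card U1 := by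
        have : U1 = (f.comp U.subtype).ker.map U.subtype := by
          ext x
          constructor
          · rintro ⟨hx, hx2⟩
            exact ⟨⟨x, hx⟩, hx2, rfl⟩
          · rintro ⟨⟨y, hy⟩, hy2, rfl⟩
            exact ⟨hy, hy2⟩
        rw [this]
        exact (Nat.card_congr ((f.comp U.subtype).ker.equivMapOfInjective U.subtype
          U.subtype_injective).toEquiv)
      rw [← h3, ← h2, h1]
    have hc1 : 1 < Nat.card U1 := by
      rw [Subgroup.one_lt_card_iff_ne_bot]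
      intro hb
      have : x0 ∈ U1 := (hU1 x0).2 ⟨hx0, hαx0⟩
      rw [hb, Subgroup.mem_bot] at this
      exact hx01 this
    have hc2 : 1 < Nat.card U2 := by
      rw [Subgroup.one_lt_card_iff_ne_bot]
      intro hb
      have : f y0 ∈ U2 := ⟨y0, hy0, rfl⟩
      rw [hb, Subgroup.mem_bot, hf, mul_inv_eq_one] at this
      exact hαy0 this
    have hlt1 : Nat.card U1 < m := by rw [← hU, ← hcard]; nlinarith
    have hlt2 : Nat.card U2 < m := by rw [← hU, ← hcard]; nlinarith
    have hinv1 : ∀ β ∈ 𝒜, ∀ x ∈ U1, β x ∈ U1 := by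
      intro β hβ x hx
      rw [hU1] at hx ⊢
      exact ⟨hinv β hβ x hx.1, by rw [hcomm α hα β hβ, hx.2]⟩
    have hinv2 : ∀ β ∈ 𝒜, ∀ x ∈ U2, β x ∈ U2 := by
      rintro β hβ _ ⟨x, hx, rfl⟩
      refine ⟨β x, hinv β hβ x hx, ?_⟩
      rw [hf, hf, map_mul, map_inv, hcomm α hα β hβ]
    obtain ⟨w1, hw1, hw1'⟩ := ih _ hlt1 U1 rfl hinv1
    obtain ⟨w2, hw2, hw2'⟩ := ih _ hlt2 U2 rfl hinv2
    refine ⟨w1 * w2, U.mul_mem ((hU1 w1).1 hw1).1 (hU2U hw2), ?_⟩
    intro β hβ hβw
    -- β fixes w1 and w2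
    have h1 : (β w1)⁻¹ * w1 = β w2 * w2⁻¹ := by
      rw [map_mul] at hβw
      rw [inv_mul_eq_iff_eq_mul, ← mul_assoc, eq_mul_inv_iff_mul_eq, hβw]
    have h2 : (β w1)⁻¹ * w1 = 1 := by
      apply hdisj
      · exact U1.mul_mem (U1.inv_mem (hinv1 β hβ w1 hw1)) hw1
      · rw [h1]
        exact U2.mul_mem (hinv2 β hβ w2 hw2) (U2.inv_mem hw2)
    have h3 : β w1 = w1 := by
      rw [inv_mul_eq_one] at h2
      exact h2
    have h4 : β w2 = w2 := by
      rw [h2] at h1
      exact (mul_inv_eq_one.1 h1.symm)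
    have h5 := hw1' β hβ h3
    have h6 := hw2' β hβ h4
    -- U = U1 U2
    have hbij : Function.Bijective (fun q : U1 × U2 => (⟨(q.1 : W) * (q.2 : W),
        U.mul_mem ((hU1 _).1 q.1.2).1 (hU2U q.2.2)⟩ : U)) := by
      rw [Nat.bijective_iff_injective_and_card]
      constructor
      · rintro ⟨a, b⟩ ⟨c, d⟩ hq
        have hq' : (a : W) * b = c * d := congrArg Subtype.val hq
        have h7 : (c : W)⁻¹ * a = d * (b : W)⁻¹ := by
          rw [inv_mul_eq_iff_eq_mul, ← mul_assoc, eq_mul_inv_iff_mul_eq, hq']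
        have h8 : (c : W)⁻¹ * a = 1 := by
          apply hdisj
          · exact U1.mul_mem (U1.inv_mem c.2) a.2
          · rw [h7]
            exact U2.mul_mem d.2 (U2.inv_mem b.2)
        have h9 : (c : W) = a := inv_mul_eq_one.1 h8
        rw [h8] at h7
        have h10 : (d : W) = b := mul_inv_eq_one.1 h7.symm
        exact Prod.ext (Subtype.ext h9.symm) (Subtype.ext h10.symm)
      · rw [Nat.card_prod, hcard]
    intro x hx
    obtain ⟨⟨a, b⟩, hab⟩ := hbij.2 ⟨x, hx⟩
    have hab' : (a : W) * b = x := congrArg Subtype.val hab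
    rw [← hab', map_mul, h5 a a.2, h6 b b.2]

/-- a regular vector -/
theorem rv [Finite W] (p n : ℕ) (hn : n.Coprime p) (hexp : ∀ y : W, y ^ n = 1)
    (𝒜 : Set (MulAut W)) (hcomm : ∀ α ∈ 𝒜, ∀ β ∈ 𝒜, ∀ x, α (β x) = β (α x))
    (hpow : ∀ α ∈ 𝒜, ∃ j : ℕ, ∀ x, (α ^ (p ^ j)) x = x) :
    ∃ w : W, ∀ α ∈ 𝒜, α w = w → ∀ x, α x = x := by
  obtain ⟨w, _, hw⟩ := rv_aux p n hn hexp 𝒜 hcomm hpow _ ⊤ rfl (fun _ _ _ _ => trivial)
  exact ⟨w, fun α hα h x => hw α hα h x trivial⟩

end RV

section Lam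

variable {G : Type u} [Group G]

/-- The action of `G` on the linear characters of the normal subgroup `K`. -/
def cAct (K : Subgroup G) [K.Normal] : G →* MulAut (K →* ℂˣ) where
  toFun g :=
    { toFun := fun l => l.comp (MulAut.conjNormal g⁻¹).toMonoidHom
      invFun := fun l => l.comp (MulAut.conjNormal g).toMonoidHom
      left_inv := by
        intro l
        ext k
        simp
      right_inv := by
        intro l
        ext k
        simp
      map_mul' := by
        intro a b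
        rfl }
  map_one' := by
    ext l k
    simp
  map_mul' := by
    intro g h
    ext l k
    simp

theorem cAct_apply (K : Subgroup G) [hK : K.Normal] (g : G) (l : K →* ℂˣ) (k : K) :
    cAct K g l k = l ⟨g⁻¹ * k * g, by simpa using hK.conj_mem (k : G) k.2 g⁻¹⟩ := by
  show l _ = l _
  congr 1
  apply Subtype.ext
  show ((MulAut.conjNormal g⁻¹ k : K) : G) = g⁻¹ * k * g
  rw [MulAut.conjNormal_apply]
  simp

theorem cAct_of_mem (K : Subgroup G) [K.Normal] {g : G} (hg : g ∈ K) : cAct K g = 1 := by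
  ext l k
  rw [cAct_apply]
  have h1 : (⟨g⁻¹ * k * g, by
      simpa using (inferInstance : K.Normal).conj_mem (k : G) k.2 g⁻¹⟩ : K) = (⟨g, hg⟩ : K)⁻¹ * k * ⟨g, hg⟩ :=
    Subtype.ext rfl
  rw [h1, map_mul, map_mul, map_inv, mul_comm, mul_inv_cancel_left]
  rfl

instance finite_hom [Finite G] : Finite (G →* ℂˣ) := by
  have h0 : Nat.card G ≠ 0 := Nat.card_pos.ne'
  haveI : NeZero (Nat.card G) := ⟨h0⟩
  let f : (G →* ℂˣ) → (G → rootsOfUnity (Nat.card G) ℂ) := fun l g => ⟨l g, by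
    rw [mem_rootsOfUnity, ← map_pow, pow_card_eq_one', map_one]⟩
  refine Finite.of_injective f ?_
  intro a b hab
  ext g
  have := congrFun hab g
  exact congrArg (fun z : rootsOfUnity (Nat.card G) ℂ => ((z : ℂˣ) : ℂ)) this

theorem mem_commutator_of_forall [Finite G] {x : G} (h : ∀ l : G →* ℂˣ, l x = 1) : x ∈ commutator G := by
  by_contra hx
  have h1 : (Abelianization.of x) ≠ 1 := by
    intro h2
    apply hx
    exact (QuotientGroup.eq_one_iff x).1 h2
  obtain ⟨φ, hφ⟩ := CommGroup.exists_apply_ne_one_of_hasEnoughRootsOfUnity (Abelianization G) ℂ h1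
  exact hφ (h (φ.comp Abelianization.of))

theorem exists_lam [Finite G] (p : ℕ) [hp : Fact p.Prime] (K T : Subgroup G) [hKn : K.Normal]
    (hK : ¬ p ∣ Nat.card K)
    (hab : ∀ s ∈ T, ∀ t ∈ T, (t * s)⁻¹ * (s * t) ∈ K) (hpow : ∀ t ∈ T, ∃ j : ℕ, t ^ (p ^ j) ∈ K) :
    ∃ l : K →* ℂˣ, ∀ t ∈ T, cAct K t l = l →
      ∀ k : K, (⟨t⁻¹ * k * t, by simpa using hKn.conj_mem (k : G) k.2 t⁻¹⟩ : K) * k⁻¹ ∈ commutator K := by
  have hcop : (Nat.card K).Coprime p := (Nat.Coprime.symm ((hp.out.coprime_iff_not_dvd).2 hK))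
  obtain ⟨l, hl⟩ := rv (W := K →* ℂˣ) p (Nat.card K) hcop (by
      intro y
      ext k
      rw [MonoidHom.pow_apply, ← map_pow, pow_card_eq_one', map_one]
      rfl) {α | ∃ t ∈ T, α = cAct K t} (by
      rintro _ ⟨s, hs, rfl⟩ _ ⟨t, ht, rfl⟩ x
      rw [← MulAut.mul_apply, ← MulAut.mul_apply, ← map_mul, ← map_mul]
      have h1 : s * t = (t * s) * ((t * s)⁻¹ * (s * t)) := by group
      rw [h1, map_mul, cAct_of_mem K (hab s hs t ht), mul_one]) (by
      rintro _ ⟨t, ht, rfl⟩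
      obtain ⟨j, hj⟩ := hpow t ht
      refine ⟨j, fun x => ?_⟩
      rw [← map_pow, cAct_of_mem K hj]
      rfl)
  refine ⟨l, fun t ht htl k => ?_⟩
  have h1 := hl _ ⟨t, ht, rfl⟩ htl
  apply mem_commutator_of_forall
  intro μ
  rw [map_mul, map_inv, mul_inv_eq_one]
  have h2 := congrArg (fun z : K →* ℂˣ => z k) (h1 μ)
  rw [← h2]
  exact (cAct_apply K t μ k).symm

end Lam

section VL

variable {G : Type u} [Group G] [Finite G]

/-- `g` is a vanishing element -/
def Van (g : G) : Prop := ∃ χ : IrrCharacter G, (χ : G → ℂ) g = 0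

theorem van_of_free (K : Subgroup G) [hKn : K.Normal] (T : Subgroup G) [hTn : T.Normal] (l : K →* ℂˣ)
    (hfree : ∀ t ∈ T, cAct K t l = l → t ∈ K) (g : G) (m : ℕ) (hgT : g ^ m ∈ T) (hgK : g ^ m ∉ K) :
    Van g := by
  classical
  have := Fintype.ofFinite G
  have := Fintype.ofFinite K
  let θ : K → ℂ := fun k => (l k : ℂ)
  have hθ : IsIrrCharacter K θ := isIrrCharacter_of_unitsHom l
  obtain ⟨χ, hχ, h1⟩ := TwoDeg.exists_over K hθ
  -- the inertia group
  have hstab : ∀ g : G, cj K g θ = θ ↔ cAct K g l = l := by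
    intro g
    constructor
    · intro h
      have h2 : ∀ k : K, (l ⟨g * k * g⁻¹, hKn.conj_mem (k : G) k.2 g⟩ : ℂ) = l k := fun k => congrFun h k
      ext k
      rw [cAct_apply]
      rw [← h2]
      congr 2
      apply Subtype.ext
      show g * (g⁻¹ * k * g) * g⁻¹ = k
      group
    · intro h
      funext k
      show (l ⟨g * k * g⁻¹, _⟩ : ℂ) = l k
      have h2 : cAct K g l ⟨g * k * g⁻¹, hKn.conj_mem (k : G) k.2 g⟩ = l k := by
        rw [cAct_apply]
        congr 1
        apply Subtype.ext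
        show g⁻¹ * (g * k * g⁻¹) * g = k
        group
      rw [← h2, h]
  let I : Subgroup G :=
    { carrier := {g | cAct K g l = l}
      one_mem' := by
        show cAct K 1 l = l
        rw [map_one]; rfl
      mul_mem' := by
        intro a b ha hb
        show cAct K (a * b) l = l
        rw [map_mul, MulAut.mul_apply]
        rw [show cAct K b l = l from hb, show cAct K a l = l from ha]
      inv_mem' := by
        intro a ha
        show cAct K a⁻¹ l = l
        rw [map_inv]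
        have : cAct K a l = l := ha
        rw [MulAut.inv_apply, MulEquiv.symm_apply_eq, this] }
  have hKI : K ≤ I := by
    intro k hk
    show cAct K k l = l
    rw [cAct_of_mem K hk]; rfl
  obtain ⟨ψ, hψ, hψχ, _⟩ := corr_surj hKI hθ (fun g => (hstab g).symm) hχ h1
  refine ⟨⟨χ, hχ⟩, ?_⟩
  show χ g = 0
  rw [← hψχ]
  apply IndFun.indFun_eq_zero
  intro x hx
  apply hgK
  have h2 : (x⁻¹ * g * x) ^ m = x⁻¹ * g ^ m * x := by
    have := conj_pow (a := x⁻¹) (b := g) (i := m)
    simpa using this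
  have h3 : x⁻¹ * g ^ m * x ∈ I := by
    rw [← h2]
    exact I.pow_mem hx m
  have h4 : x⁻¹ * g ^ m * x ∈ T := by
    simpa using hTn.conj_mem (g ^ m) hgT x⁻¹
  have h5 := hfree _ h4 h3
  have h6 := hKn.conj_mem _ h5 x
  have h7 : x * (x⁻¹ * g ^ m * x) * x⁻¹ = g ^ m := by group
  rwa [h7] at h6

end VL

end Cfsg.Agent.Lib.VanPSing
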