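import Mathlib
import Cfsg.Agent.Lib.VanPSing
import Cfsg.Agent.Lib.Fitting
import Cfsg.Agent.Lib.FusionNormalSubgroup
import Cfsg.Agent.Lib.SylCard
import Cfsg.Agent.Lib.SylowExtend
import Cfsg.Agent.S0058

set_option autoImplicit false
set_option linter.unusedSectionVars false

/-!
# Vanishing elements of `p`-singular order in solvable groups, part 2 (helper83)
-/

namespace Cfsg.Agent.Lib.VanPSing2

open Cfsg Cfsg.Agent.Lib.CharBasic Cfsg.Agent.Lib.VanPSing
open scoped commutatorElement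

universe u

section Mod

variable {G : Type u} [Group G]

/-- the centraliser of `T` modulo `K` -/
def modCent (T K : Subgroup G) [K.Normal] : Subgroup G :=
  (Subgroup.centralizer ((T.map (QuotientGroup.mk' K) : Subgroup (G ⧸ K)) : Set (G ⧸ K))).comap
    (QuotientGroup.mk' K)

instance modCent_normal (T K : Subgroup G) [hT : T.Normal] [K.Normal] : (modCent T K).Normal := by
  have h1 : (T.map (QuotientGroup.mk' K)).Normal := hT.map _ (QuotientGroup.mk'_surjective K)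
  unfold modCent
  infer_instance

theorem mem_modCent {T K : Subgroup G} [hK : K.Normal] {g : G} :
    g ∈ modCent T K ↔ ∀ t ∈ T, g * t * g⁻¹ * t⁻¹ ∈ K := by
  rw [modCent, Subgroup.mem_comap, Subgroup.mem_centralizer_iff]
  have key : ∀ t : G, (t : G ⧸ K) * (g : G ⧸ K) = (g : G ⧸ K) * (t : G ⧸ K) ↔ g * t * g⁻¹ * t⁻¹ ∈ K := by
    intro t
    rw [← QuotientGroup.mk_mul, ← QuotientGroup.mk_mul, QuotientGroup.eq]
    constructor
    · intro h
      have h2 := hK.conj_mem _ h (t * g)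
      have h3 : t * g * ((t * g)⁻¹ * (g * t)) * (t * g)⁻¹ = g * t * g⁻¹ * t⁻¹ := by group
      rwa [h3] at h2
    · intro h
      have h2 := hK.conj_mem _ h (t * g)⁻¹
      have h3 : (t * g)⁻¹ * (g * t * g⁻¹ * t⁻¹) * ((t * g)⁻¹)⁻¹ = (t * g)⁻¹ * (g * t) := by group
      rwa [h3] at h2
  constructor
  · intro h t ht
    exact (key t).1 (h _ ⟨t, ht, rfl⟩)
  · rintro h _ ⟨t, ht, rfl⟩
    exact (key t).2 (h t ht)

end Mod

section Step1

variable {G : Type u} [Group G] [Finite G] {p : ℕ} [hp : Fact p.Prime]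

theorem le_sup_of_pow (P : Sylow p G) (K D : Subgroup G) [hK : K.Normal] [hD : D.Normal]
    (hpow : ∀ x ∈ D, ∃ j, x ^ (p ^ j) ∈ K) : D ≤ K ⊔ ((P : Subgroup G) ⊓ D) := by
  obtain ⟨R, hR⟩ := FusionNormalSubgroup.exists_sylow_inf P D
  have h1 : IsPGroup p (D ⧸ K.subgroupOf D) := by
    intro x
    obtain ⟨x, rfl⟩ := QuotientGroup.mk_surjective x
    obtain ⟨j, hj⟩ := hpow x x.2
    refine ⟨j, ?_⟩
    rw [← QuotientGroup.mk_pow, QuotientGroup.eq_one_iff]
    exact hj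
  obtain ⟨j, hj⟩ := h1.exists_card_eq
  have h2 : ((K.subgroupOf D) ⊔ (R : Subgroup D)).index ∣ p ^ j := by
    rw [← hj]
    exact Subgroup.index_dvd_of_le le_sup_left
  have h3 : ((K.subgroupOf D) ⊔ (R : Subgroup D)).index ∣ (R : Subgroup D).index :=
    Subgroup.index_dvd_of_le le_sup_right
  have h4 : ¬ p ∣ (R : Subgroup D).index := R.not_dvd_index
  have h5 : ((K.subgroupOf D) ⊔ (R : Subgroup D)).index = 1 := by
    obtain ⟨i, hi, h6⟩ := (Nat.dvd_prime_pow hp.out).1 h2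
    rcases Nat.eq_zero_or_pos i with h7 | h7
    · rw [h6, h7, pow_zero]
    · exfalso
      apply h4
      refine Dvd.dvd.trans ?_ h3
      rw [h6]
      exact dvd_pow_self p h7.ne'
  rw [Subgroup.index_eq_one] at h5
  intro x hx
  have h6 : (⟨x, hx⟩ : D) ∈ (K.subgroupOf D) ⊔ (R : Subgroup D) := by rw [h5]; trivial
  rw [Subgroup.mem_sup_of_normal_left] at h6
  obtain ⟨y, hy, z, hz, hyz⟩ := h6
  rw [hR] at hz
  have h7 : (y : G) * z = x := congrArg Subtype.val hyz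
  rw [← h7]
  exact Subgroup.mul_mem_sup hy hz

/-- `T` is minimal among the normal subgroups of order divisible by `p`. -/
structure MinP (p : ℕ) (T : Subgroup G) : Prop where
  normal : T.Normal
  dvd : p ∣ Nat.card T
  min : ∀ M : Subgroup G, M.Normal → M ≤ T → p ∣ Nat.card M → M = T

theorem exists_minP (D : Subgroup G) (hD : D.Normal) (hpD : p ∣ Nat.card D) :
    ∃ T ≤ D, MinP p T := by
  obtain ⟨T, hT⟩ := (Set.toFinite {M : Subgroup G | M.Normal ∧ M ≤ D ∧ p ∣ Nat.card M}).exists_minimal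
    ⟨D, hD, le_rfl, hpD⟩
  refine ⟨T, hT.1.2.1, hT.1.1, hT.1.2.2, fun M hM hMT hpM => ?_⟩
  exact le_antisymm hMT (hT.2 ⟨hM, hMT.trans hT.1.2.1, hpM⟩ hMT)

theorem not_dvd_pPrimeCore : ¬ p ∣ Nat.card (pPrimeCore p G) := by
  have h := Fitting.coprime_card_pPrimeCore (G := G) (p := p)
  rw [Nat.coprime_comm, hp.out.coprime_iff_not_dvd] at h
  exact h

theorem le_pPrimeCore_of_not_dvd {M : Subgroup G} (hM : M.Normal) (h : ¬ p ∣ Nat.card M) :
    M ≤ pPrimeCore p G :=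
  Fitting.le_pPrimeCore p hM ((Nat.coprime_comm.1 ((hp.out.coprime_iff_not_dvd).2 h)))

theorem MinP.le {T : Subgroup G} (hT : MinP p T) {M : Subgroup G} (hM : M.Normal) (hMT : M ≤ T)
    (hne : M ≠ T) : M ≤ pPrimeCore p G := by
  apply le_pPrimeCore_of_not_dvd hM
  intro h
  exact hne (hT.min M hM hMT h)

/-- a `p`-element in a `p'`-subgroup is trivial -/
theorem eq_one_of_pow {K : Subgroup G} (hK : ¬ p ∣ Nat.card K) {x : G} (hx : x ∈ K) {j : ℕ}
    (hj : x ^ (p ^ j) = 1) : x = 1 := by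
  have h1 : orderOf x ∣ p ^ j := orderOf_dvd_of_pow_eq_one hj
  have h2 : orderOf x ∣ Nat.card K := Subgroup.orderOf_dvd_natCard K hx
  have h3 : orderOf x ∣ 1 := by
    rw [← (Nat.Coprime.pow_right j ((Nat.coprime_comm.1 ((hp.out.coprime_iff_not_dvd).2 hK))) :
      Nat.gcd (Nat.card K) (p ^ j) = 1)]
    exact Nat.dvd_gcd h2 h1
  exact orderOf_eq_one_iff.1 (Nat.dvd_one.1 h3)

theorem not_dvd_of_le {K N : Subgroup G} (hKN : K ≤ N) (hN : ¬ p ∣ Nat.card N) : ¬ p ∣ Nat.card K :=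
  fun h => hN (h.trans (Subgroup.card_dvd_of_le hKN))

instance pPrimeCore_normal : (pPrimeCore p G).Normal := Fitting.normal_pPrimeCore p

theorem MinP.ab [Group.IsSolvable G] {T : Subgroup G} (hT : MinP p T) :
    ⁅T, T⁆ ≤ T ⊓ pPrimeCore p G := by
  have hTn := hT.normal
  have h1 : T ≠ ⊥ := by
    rintro rfl
    have := hT.dvd
    rw [Subgroup.card_bot] at this
    exact hp.out.one_lt.ne' (Nat.dvd_one.1 this)
  have h2 := Group.IsSolvable.commutator_lt_of_ne_bot h1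
  exact le_inf h2.le (hT.le inferInstance h2.le h2.ne)

theorem MinP.ab' [Group.IsSolvable G] {T : Subgroup G} (hT : MinP p T) :
    ∀ s ∈ T, ∀ t ∈ T, (t * s)⁻¹ * (s * t) ∈ T ⊓ pPrimeCore p G := by
  intro s hs t ht
  have h1 : (t * s)⁻¹ * (s * t) = ⁅s⁻¹, t⁻¹⁆ := by
    rw [commutatorElement_def]; group
  rw [h1]
  exact hT.ab (Subgroup.commutator_mem_commutator (T.inv_mem hs) (T.inv_mem ht))

theorem MinP.pow [Group.IsSolvable G] {T : Subgroup G} (hT : MinP p T) :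
    ∀ t ∈ T, t ^ p ∈ T ⊓ pPrimeCore p G := by
  have hTn := hT.normal
  set K := T ⊓ pPrimeCore p G with hK
  have hcomm : ∀ s ∈ T, ∀ t ∈ T, ((s : G ⧸ K)) * t = t * s := by
    intro s hs t ht
    rw [← QuotientGroup.mk_mul, ← QuotientGroup.mk_mul]
    exact (QuotientGroup.eq.2 (hT.ab' s hs t ht)).symm
  let M : Subgroup G :=
    { carrier := {t | t ∈ T ∧ ((t : G ⧸ K)) ^ p = 1}
      one_mem' := ⟨T.one_mem, by rw [QuotientGroup.mk_one, one_pow]⟩
      mul_mem' := by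
        rintro a b ⟨ha, ha'⟩ ⟨hb, hb'⟩
        refine ⟨T.mul_mem ha hb, ?_⟩
        rw [QuotientGroup.mk_mul, Commute.mul_pow (hcomm a ha b hb), ha', hb', one_mul]
      inv_mem' := by
        rintro a ⟨ha, ha'⟩
        refine ⟨T.inv_mem ha, ?_⟩
        rw [QuotientGroup.mk_inv, inv_pow, ha', inv_one] }
  have hM : M.Normal := by
    refine ⟨?_⟩
    rintro n ⟨hn, hn'⟩ g
    refine ⟨hTn.conj_mem n hn g, ?_⟩
    rw [QuotientGroup.mk_mul, QuotientGroup.mk_mul, QuotientGroup.mk_inv, conj_pow, hn', mul_one, mul_inv_cancel]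
  obtain ⟨x, hx⟩ := exists_prime_orderOf_dvd_card' p hT.dvd
  have hx1 : (x : G) ∈ M := by
    refine ⟨x.2, ?_⟩
    rw [← QuotientGroup.mk_pow]
    have : (x : G) ^ p = 1 := by
      rw [← hx, ← Subgroup.orderOf_coe]; exact pow_orderOf_eq_one _
    rw [this, QuotientGroup.mk_one]
  have hMT : M = T := by
    refine hT.min M hM (fun y hy => hy.1) ?_
    have h2 : orderOf (x : G) ∣ Nat.card M := Subgroup.orderOf_dvd_natCard M hx1
    rwa [Subgroup.orderOf_coe, hx] at h2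
  intro t ht
  rw [← hMT] at ht
  have := ht.2
  rw [← QuotientGroup.mk_pow, QuotientGroup.eq_one_iff] at this
  exact this

theorem MinP.ne_bot [Group.IsSolvable G] (hpc : pCore p G = ⊥) {T : Subgroup G} (hT : MinP p T) :
    T ⊓ pPrimeCore p G ≠ ⊥ := by
  intro h
  have h1 : IsPGroup p T := by
    intro t
    refine ⟨1, ?_⟩
    have := hT.pow t t.2
    rw [h, Subgroup.mem_bot] at this
    rw [pow_one]
    exact Subtype.ext this
  have h2 : T ≤ pCore p G := Fitting.le_pCore p hT.normal h1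
  rw [hpc, le_bot_iff] at h2
  have h3 := hT.dvd
  rw [h2, Subgroup.card_bot] at h3
  exact hp.out.one_lt.ne' (Nat.dvd_one.1 h3)

theorem MinP.modCent_le [Group.IsSolvable G] (hpc : pCore p G = ⊥) {T : Subgroup G} (hT : MinP p T)
    (K : Subgroup G) [hKn : K.Normal] (hK : K = T ⊓ pPrimeCore p G) :
    T ⊓ modCent K ⁅K, K⁆ ≤ K := by
  have hTn := hT.normal
  by_contra hcon
  have hKT : K ≤ T := hK ▸ inf_le_left
  have hKp : ¬ p ∣ Nat.card K := not_dvd_of_le (hK ▸ inf_le_right : K ≤ pPrimeCore p G) not_dvd_pPrimeCore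
  have hDT : T ⊓ modCent K ⁅K, K⁆ = T := by
    by_contra hne
    apply hcon
    exact (le_inf inf_le_left (hT.le (M := T ⊓ modCent K ⁅K, K⁆) inferInstance inf_le_left hne)).trans hK.ge
  rw [inf_eq_left] at hDT
  have P : Sylow p G := Classical.choice inferInstance
  have hpow : ∀ x ∈ T, ∃ j, x ^ (p ^ j) ∈ K := fun x hx => ⟨1, by rw [pow_one, hK]; exact hT.pow x hx⟩
  have hTsup := le_sup_of_pow P K T hpow
  let M : Subgroup G := ⁅K, K⁆ ⊔ ((P : Subgroup G) ⊓ T)
  have hM : M.Normal := by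
    have h1 : ∀ g ∈ T, ∀ x ∈ M, g * x * g⁻¹ ∈ M := by
      intro g hg x hx
      have h2 := hTsup hg
      rw [Subgroup.mem_sup_of_normal_left] at h2
      obtain ⟨k, hk, z, hz, rfl⟩ := h2
      have h3 : z * x * z⁻¹ ∈ M := by
        have hzM : z ∈ M := (le_sup_right : _ ≤ M) hz
        exact M.mul_mem (M.mul_mem hzM hx) (M.inv_mem hzM)
      have h4 : k * (z * x * z⁻¹) * k⁻¹ ∈ M := by
        generalize z * x * z⁻¹ = w at h3
        have h5 : w ∈ T := by
          have : M ≤ T := sup_le ((Subgroup.commutator_le_self K).trans hKT) inf_le_right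
          exact this h3
        have h6 := mem_modCent.1 (hDT h5) k hk
        have h7 := M.inv_mem ((le_sup_left : _ ≤ M) h6)
        have h8 : k * w * k⁻¹ = (w * k * w⁻¹ * k⁻¹)⁻¹ * w := by group
        rw [h8]
        exact M.mul_mem h7 h3
      have h9 : k * z * x * (k * z)⁻¹ = k * (z * x * z⁻¹) * k⁻¹ := by group
      rw [h9]
      exact h4
    refine ⟨fun x hx g => ?_⟩
    obtain ⟨t, ht, htn⟩ := FusionNormalSubgroup.exists_normalizer_mul P T g
    have h10 : g = (g * t⁻¹) * t := by group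
    have h11 : g * x * g⁻¹ = (g * t⁻¹) * (t * x * t⁻¹) * (g * t⁻¹)⁻¹ := by group
    rw [h11]
    have h12 := h1 t ht x hx
    generalize t * x * t⁻¹ = w at h12
    generalize g * t⁻¹ = s at htn
    rw [Subgroup.mem_sup_of_normal_left] at h12
    obtain ⟨a, ha, b, hb, rfl⟩ := h12
    have h13 : s * (a * b) * s⁻¹ = (s * a * s⁻¹) * (s * b * s⁻¹) := by group
    rw [h13]
    refine M.mul_mem ((le_sup_left : _ ≤ M) ?_) ((le_sup_right : _ ≤ M) ?_)
    · exact (inferInstance : (⁅K, K⁆).Normal).conj_mem a ha s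
    · exact (Subgroup.mem_normalizer_iff.1 htn b).1 hb
  have hMT : M ≤ T := sup_le ((Subgroup.commutator_le_self K).trans hKT) inf_le_right
  have hPT : p ∣ Nat.card M := by
    by_contra h
    have h1 : (P : Subgroup G) ⊓ T = ⊥ := by
      rw [eq_bot_iff]
      intro x hx
      obtain ⟨j, hj⟩ := P.isPGroup' ⟨x, hx.1⟩
      have hj' : x ^ (p ^ j) = 1 := congrArg Subtype.val hj
      exact (Subgroup.mem_bot).2 (eq_one_of_pow h ((le_sup_right : _ ≤ M) hx) hj')
    rw [h1, sup_bot_eq] at hTsup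
    exact hKp (hT.dvd.trans (Subgroup.card_dvd_of_le hTsup))
  have hMT' := hT.min M hM hMT hPT
  have hKK : K ≤ ⁅K, K⁆ := by
    intro k hk
    have h1 : k ∈ M := hMT' ▸ hKT hk
    rw [Subgroup.mem_sup_of_normal_left] at h1
    obtain ⟨a, ha, b, hb, hab⟩ := h1
    have h2 : b ∈ K := by
      have : b = a⁻¹ * k := by rw [← hab]; group
      rw [this]
      exact K.mul_mem (K.inv_mem (Subgroup.commutator_le_self K ha)) hk
    obtain ⟨j, hj⟩ := P.isPGroup' ⟨b, hb.1⟩
    have hj' : b ^ (p ^ j) = 1 := congrArg Subtype.val hj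
    have h3 := eq_one_of_pow hKp h2 hj'
    rw [h3, mul_one] at hab
    rw [← hab]
    exact ha
  have hKb : K ≠ ⊥ := hK ▸ hT.ne_bot hpc
  exact (Group.IsSolvable.commutator_lt_of_ne_bot hKb).not_ge hKK

/-- If every element of the normal subgroup `D` of `G`, `K ≤ D`, `D / K` an abelian `p`-group centralising `K / K'` lies in `K`
then elements with a power in `D \ K` vanish. -/
theorem van_of_modCent (K D : Subgroup G) [hKn : K.Normal] [D.Normal] (hKp : ¬ p ∣ Nat.card K)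
    (hab : ∀ s ∈ D, ∀ t ∈ D, (t * s)⁻¹ * (s * t) ∈ K) (hpow : ∀ t ∈ D, ∃ j : ℕ, t ^ (p ^ j) ∈ K)
    (hmc : D ⊓ modCent K ⁅K, K⁆ ≤ K) (g : G) (m : ℕ) (hgD : g ^ m ∈ D) (hgK : g ^ m ∉ K) : Van g := by
  obtain ⟨l, hl⟩ := exists_lam p K D hKp hab hpow
  refine van_of_free K D l (fun t ht htl => hmc ⟨ht, ?_⟩) g m hgD hgK
  have h1 : t⁻¹ ∈ modCent K ⁅K, K⁆ := by
    rw [mem_modCent]
    intro k hk
    have h2 := hl t ht htl ⟨k, hk⟩
    have h3 := Subgroup.mem_map_of_mem K.subtype h2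
    rw [Subgroup.map_subtype_commutator] at h3
    have h4 : t⁻¹ * k * t⁻¹⁻¹ * k⁻¹ = t⁻¹ * k * t * k⁻¹ := by group
    rw [h4]
    exact h3
  have := Subgroup.inv_mem _ h1
  rwa [inv_inv] at this

theorem MinP.van [Group.IsSolvable G] (hpc : pCore p G = ⊥) {T : Subgroup G} (hT : MinP p T) (g : G) (m : ℕ)
    (hgT : g ^ m ∈ T) (hgK : g ^ m ∉ pPrimeCore p G) : Van g := by
  have hTn := hT.normal
  refine van_of_modCent (p := p) (T ⊓ pPrimeCore p G) T (not_dvd_of_le inf_le_right not_dvd_pPrimeCore)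
    hT.ab' (fun t ht => ⟨1, by rw [pow_one]; exact hT.pow t ht⟩) (hT.modCent_le hpc _ rfl) g m hgT
    (fun h => hgK h.2)

end Step1

section R

variable {G : Type u} [Group G] [Finite G]

/-- all `p`-singular vanishing elements have `p`-power order, or none -/
def R1 (p : ℕ) (G : Type u) [Group G] [Finite G] : Prop :=
  ∀ g h : G, Van g → Van h → p ∣ orderOf g → p ∣ orderOf h → (∃ k, orderOf g = p ^ k) → ∃ k, orderOf h = p ^ k

/-- no vanishing `p`-singular element has a vanishing `p`-singular `p`-th power -/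
def R2 (p : ℕ) (G : Type u) [Group G] [Finite G] : Prop :=
  ∀ g : G, Van g → Van (g ^ p) → p ∣ orderOf g → ¬ p ∣ orderOf (g ^ p)

variable {p : ℕ} [hp : Fact p.Prime]

theorem R1.eq_one (h : R1 p G) {e y : G} (he : ∃ j, e ^ (p ^ j) = 1) (he1 : e ≠ 1) (hv : Van e)
    (hey : Commute e y) (hy : ¬ p ∣ orderOf y) (hv' : Van (e * y)) : y = 1 := by
  obtain ⟨j, hj⟩ := he
  obtain ⟨i, _, hi⟩ := (Nat.dvd_prime_pow hp.out).1 (orderOf_dvd_of_pow_eq_one hj)
  have hcop : (orderOf e).Coprime (orderOf y) := by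
    rw [hi]
    exact Nat.Coprime.pow_left i ((hp.out.coprime_iff_not_dvd).2 hy)
  have hi0 : i ≠ 0 := by
    rintro rfl
    rw [pow_zero, orderOf_eq_one_iff] at hi
    exact he1 hi
  have h1 := hey.orderOf_mul_eq_mul_orderOf_of_coprime hcop
  have h2 : p ∣ orderOf e := by rw [hi]; exact dvd_pow_self p hi0
  obtain ⟨k, hk⟩ := h e (e * y) hv hv' h2 (by rw [h1]; exact h2.mul_right _) ⟨i, hi⟩
  have h3 : orderOf y ∣ p ^ k := by rw [← hk, h1]; exact dvd_mul_left _ _
  have h4 : (p ^ k).Coprime (orderOf y) := Nat.Coprime.pow_left k ((hp.out.coprime_iff_not_dvd).2 hy)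
  have h5 : orderOf y ∣ 1 := by
    rw [← h4]
    exact Nat.dvd_gcd h3 dvd_rfl
  exact orderOf_eq_one_iff.1 (Nat.dvd_one.1 h5)

theorem MinP.cent [Group.IsSolvable G] (hpc : pCore p G = ⊥) (h : R1 p G) {T : Subgroup G} (hT : MinP p T) {e : G}
    (heT : e ∈ T) (he : ∃ j, e ^ (p ^ j) = 1) (he1 : e ≠ 1) {y : G} (hey : Commute e y)
    (hy : ¬ p ∣ orderOf y) : y = 1 := by
  obtain ⟨j, hj⟩ := he
  have heN : ∀ m : ℕ, e ^ m ≠ 1 → e ^ m ∉ pPrimeCore p G := by
    intro m hm hmN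
    refine hm (eq_one_of_pow not_dvd_pPrimeCore hmN (j := j) ?_)
    rw [← pow_mul, mul_comm, pow_mul, hj, one_pow]
  refine h.eq_one ⟨j, hj⟩ he1 ?_ hey hy ?_
  · exact hT.van hpc e 1 (by rwa [pow_one]) (heN 1 (by rwa [pow_one]))
  · have h1 : (e * y) ^ (orderOf y) = e ^ (orderOf y) := by
      rw [hey.mul_pow, pow_orderOf_eq_one, mul_one]
    refine hT.van hpc (e * y) (orderOf y) ?_ ?_
    · rw [h1]; exact T.pow_mem heT _
    · rw [h1]
      apply heN
      intro h2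
      have h3 := orderOf_dvd_of_pow_eq_one h2
      obtain ⟨i, _, hi⟩ := (Nat.dvd_prime_pow hp.out).1 (orderOf_dvd_of_pow_eq_one hj)
      have hi0 : i ≠ 0 := by
        rintro rfl
        rw [pow_zero, orderOf_eq_one_iff] at hi
        exact he1 hi
      apply hy
      refine Dvd.dvd.trans ?_ h3
      rw [hi]; exact dvd_pow_self p hi0

theorem isPGroup_cent {e : G} (h : ∀ y, Commute e y → ¬ p ∣ orderOf y → y = 1) :
    IsPGroup p (Subgroup.centralizer ({e} : Set G)) := by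
  rintro ⟨z, hz⟩
  rw [Subgroup.mem_centralizer_singleton_iff] at hz
  obtain ⟨a, m, hm, ham⟩ := Nat.exists_eq_pow_mul_and_not_dvd (orderOf_pos z).ne' p hp.out.ne_one
  refine ⟨a, Subtype.ext ?_⟩
  show z ^ (p ^ a) = 1
  have hc : Commute e z := hz.symm
  apply h _ (hc.pow_right _)
  have h1 : orderOf (z ^ (p ^ a)) = m := by
    rw [orderOf_pow_of_dvd (pow_ne_zero _ hp.out.ne_zero) (by rw [ham]; exact dvd_mul_right _ _), ham,
      Nat.mul_div_cancel_left _ (pow_pos hp.out.pos _)]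
  rw [h1]
  exact hm

theorem isCyclic_of_fpf (A N : Subgroup G) (hA : IsMulCommutative A) (hN : N ≠ ⊥)
    (hAN : A ≤ Subgroup.normalizer (N : Set G)) (hcop : (Nat.card A).Coprime (Nat.card N))
    (hfpf : ∀ a ∈ A, a ≠ 1 → N ⊓ Subgroup.centralizer {a} = ⊥) : IsCyclic A := by
  by_contra h
  have h1 := Cfsg.Agent.S0058.result A N h hAN hcop
  apply hN
  rw [← h1, eq_bot_iff]
  refine iSup₂_le fun a ha => ?_
  exact (hfpf a ha.1 ha.2).le

theorem inf_cent_eq_bot {N : Subgroup G} (hN : ¬ p ∣ Nat.card N) {e : G}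
    (h : ∀ y ∈ N, Commute e y → ¬ p ∣ orderOf y → y = 1) : N ⊓ Subgroup.centralizer {e} = ⊥ := by
  rw [eq_bot_iff]
  rintro y ⟨hy, hy2⟩
  rw [Subgroup.mem_bot]
  refine h y hy ?_ (fun h1 => hN (h1.trans (Subgroup.orderOf_dvd_natCard N hy)))
  have := Subgroup.mem_centralizer_singleton_iff.1 hy2
  exact this.symm

theorem van_of_comm {Q : Type u} [Group Q] [Finite Q] (z c d : Q) (hz : (Subgroup.zpowers z).Normal)
    (hz1 : z ≠ 1) (hcz : Commute z c) (hcd : c * d * c⁻¹ = d * z) : Van d := by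
  classical
  have h1 : ∃ χ : IrrCharacter Q, (χ : Q → ℂ) z ≠ (χ : Q → ℂ) 1 := by
    by_contra h
    push Not at h
    apply hz1
    have := SylowExtend.mem_of_forall_ker (⊥ : Subgroup Q) (x := z) (fun χ _ => h χ)
    rwa [Subgroup.mem_bot] at this
  obtain ⟨χ, hχ⟩ := h1
  refine ⟨χ, ?_⟩
  have := Fintype.ofFinite (Subgroup.zpowers z)
  have h2 := PF9Sup.sum_mul_eq_zero χ.2 (Subgroup.zpowers z)
    (fun h => hχ (h z (Subgroup.mem_zpowers z))) d
  have h3 : ∀ h : Subgroup.zpowers z, (χ : Q → ℂ) (d * h) = (χ : Q → ℂ) d := by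
    rintro ⟨h, hh⟩
    obtain ⟨k, rfl⟩ := Subgroup.mem_zpowers_iff.1 hh
    have h4 : d⁻¹ * c * d = z * c := by
      have : c * d = d * z * c := by rw [← hcd]; group
      rw [mul_assoc, this]; group
    have h5 : d⁻¹ * c ^ k * d = z ^ k * c ^ k := by
      rw [← hcz.mul_zpow, ← h4]
      have := conj_zpow (a := d⁻¹) (b := c) (i := k)
      rw [inv_inv] at this
      exact this.symm
    have h6 : d * z ^ k = c ^ k * d * (c ^ k)⁻¹ := by
      have : c ^ k * d = d * (z ^ k * c ^ k) := by rw [← h5]; group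
      rw [this]; group
    show (χ : Q → ℂ) (d * z ^ k) = _
    rw [h6]
    exact χ.2.isClassFunction d (c ^ k)
  rw [Finset.sum_congr rfl (fun h _ => h3 h), Finset.sum_const, nsmul_eq_mul] at h2
  refine (mul_eq_zero.1 h2).resolve_left ?_
  rw [Finset.card_univ]
  exact_mod_cast Fintype.card_ne_zero

theorem van_inflate (N : Subgroup G) [N.Normal] (g : G) (h : Van (g : G ⧸ N)) : Van g := by
  obtain ⟨χ, hχ⟩ := h
  exact ⟨⟨_, χ.2.inflate N⟩, hχ⟩

end R

end Cfsg.Agent.Lib.VanPSing2
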