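import Mathlib
import Cfsg.Agent.Lib.VanPSing2

set_option autoImplicit false
set_option linter.unusedSectionVars false

/-!
# Vanishing elements of `p`-singular order in solvable groups, part 3 (helper83): the main theorem
-/

namespace Cfsg.Agent.Lib.VanPSing3

open Cfsg Cfsg.Agent.Lib.CharBasic Cfsg.Agent.Lib.VanPSing Cfsg.Agent.Lib.VanPSing2
open scoped commutatorElement

universe u

variable {G : Type u} [Group G] [Finite G] {p : ℕ} [hp : Fact p.Prime]

theorem facts [Group.IsSolvable G] (hpc : pCore p G = ⊥) (hR : R1 p G) {T : Subgroup G} (hT : MinP p T)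
    (P : Sylow p G) : ∃ e : G, e ∈ (P : Subgroup G) ∧ e ∈ T ∧ orderOf e = p ∧
      (P : Subgroup G) ⊓ T = Subgroup.zpowers e ∧ (∀ x ∈ (P : Subgroup G), Commute e x) ∧
      pPrimeCore p G ≤ T ∧
      (∀ c, (∀ t ∈ T, c * t * c⁻¹ * t⁻¹ ∈ pPrimeCore p G) → ∃ j, c ^ (p ^ j) ∈ pPrimeCore p G) ∧
      (∀ x ∈ (P : Subgroup G), ∀ t ∈ T, x * t * x⁻¹ * t⁻¹ ∈ pPrimeCore p G) := by
  have hTn := hT.normal
  have hNn : (pPrimeCore p G).Normal := inferInstance
  have hNp : ¬ p ∣ Nat.card (pPrimeCore p G) := not_dvd_pPrimeCore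
  have hPel : ∀ x ∈ (P : Subgroup G), ∃ j, x ^ (p ^ j) = 1 := by
    intro x hx
    obtain ⟨j, hj⟩ := P.isPGroup' ⟨x, hx⟩
    exact ⟨j, congrArg Subtype.val hj⟩
  have hPN : ∀ x ∈ (P : Subgroup G), x ∈ pPrimeCore p G → x = 1 := by
    intro x hx hxN
    obtain ⟨j, hj⟩ := hPel x hx
    exact eq_one_of_pow hNp hxN hj
  have hcent : ∀ e ∈ (P : Subgroup G) ⊓ T, e ≠ 1 → ∀ y, Commute e y → ¬ p ∣ orderOf y → y = 1 :=
    fun e he he1 y hey hy => hT.cent hpc hR he.2 (hPel e he.1) he1 hey hy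
  have hab : IsMulCommutative ((P : Subgroup G) ⊓ T : Subgroup G) := by
    refine ⟨⟨?_⟩⟩
    rintro ⟨a, ha⟩ ⟨b, hb⟩
    apply Subtype.ext
    show a * b = b * a
    have h1 := (hT.ab' a ha.2 b hb.2).2
    have h2 := hPN _ ((P : Subgroup G).mul_mem ((P : Subgroup G).inv_mem ((P : Subgroup G).mul_mem hb.1 ha.1))
      ((P : Subgroup G).mul_mem ha.1 hb.1)) h1
    exact (inv_mul_eq_one.1 h2).symm
  have hpg : IsPGroup p ((P : Subgroup G) ⊓ T : Subgroup G) := P.isPGroup'.to_le inf_le_left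
  have hcop : (Nat.card ((P : Subgroup G) ⊓ T : Subgroup G)).Coprime (Nat.card (pPrimeCore p G)) := by
    obtain ⟨n, hn⟩ := hpg.exists_card_eq
    rw [hn]
    exact Nat.Coprime.pow_left n ((hp.out.coprime_iff_not_dvd).2 hNp)
  have hNb : pPrimeCore p G ≠ ⊥ := by
    intro h
    apply hT.ne_bot hpc
    rw [h, inf_bot_eq]
  have hcyc := isCyclic_of_fpf ((P : Subgroup G) ⊓ T) (pPrimeCore p G) hab hNb
    (by rw [Subgroup.normalizer_eq_top]; exact le_top) hcop
    (fun a ha ha1 => inf_cent_eq_bot hNp (fun y _ hy1 hy2 => hcent a ha ha1 y hy1 hy2))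
  obtain ⟨g, hg⟩ := IsCyclic.exists_generator (α := ((P : Subgroup G) ⊓ T : Subgroup G))
  have hTsup : T ≤ (T ⊓ pPrimeCore p G) ⊔ ((P : Subgroup G) ⊓ T) :=
    le_sup_of_pow P (T ⊓ pPrimeCore p G) T (fun x hx => ⟨1, by rw [pow_one]; exact hT.pow x hx⟩)
  have hz : (P : Subgroup G) ⊓ T = Subgroup.zpowers (g : G) := by
    apply le_antisymm
    · intro x hx
      obtain ⟨k, hk⟩ := Subgroup.mem_zpowers_iff.1 (hg ⟨x, hx⟩)
      rw [Subgroup.mem_zpowers_iff]
      exact ⟨k, congrArg Subtype.val hk⟩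
    · rw [Subgroup.zpowers_le]
      exact g.2
  obtain ⟨e, he⟩ := g
  change (P : Subgroup G) ⊓ T = Subgroup.zpowers e at hz
  have he1 : e ≠ 1 := by
    rintro rfl
    rw [Subgroup.zpowers_one_eq_bot] at hz
    rw [hz, sup_bot_eq] at hTsup
    exact (not_dvd_of_le inf_le_right hNp : ¬ p ∣ Nat.card (T ⊓ pPrimeCore p G : Subgroup G))
      (hT.dvd.trans (Subgroup.card_dvd_of_le hTsup))
  have hep : e ^ p = 1 := hPN _ ((P : Subgroup G).pow_mem he.1 _) (hT.pow e he.2).2
  have heo : orderOf e = p := orderOf_eq_prime hep he1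
  have hcomm : ∀ x ∈ (P : Subgroup G), Commute e x := by
    intro x hx
    have h1 : Nat.card (T.subgroupOf (P : Subgroup G)) = p := by
      have h2 : T.subgroupOf (P : Subgroup G) = ((P : Subgroup G) ⊓ T).subgroupOf (P : Subgroup G) := by
        rw [Subgroup.inf_subgroupOf_left]
      rw [h2, SylCard.card_subgroupOf inf_le_left, hz, Nat.card_zpowers, heo]
    have h2 := GalConj.le_center_of_card (G := (P : Subgroup G)) (p := p) P.isPGroup' h1
    have h3 := h2 (show (⟨e, he.1⟩ : (P : Subgroup G)) ∈ T.subgroupOf (P : Subgroup G) from he.2)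
    have h4 := (Subgroup.mem_center_iff.1 h3 ⟨x, hx⟩)
    exact (congrArg Subtype.val h4).symm
  have hTT : ∀ s ∈ T, ∀ t ∈ T, s * t * s⁻¹ * t⁻¹ ∈ T ⊓ pPrimeCore p G := by
    intro s hs t ht
    have := hT.ab (Subgroup.commutator_mem_commutator hs ht)
    rwa [commutatorElement_def] at this
  have hPT : ∀ x ∈ (P : Subgroup G), ∀ t ∈ T, x * t * x⁻¹ * t⁻¹ ∈ T ⊓ pPrimeCore p G := by
    intro x hx t ht
    have h1 := hTsup ht
    rw [Subgroup.mem_sup_of_normal_left] at h1
    obtain ⟨k, hk, q, hq, rfl⟩ := h1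
    rw [hz] at hq
    obtain ⟨i, rfl⟩ := Subgroup.mem_zpowers_iff.1 hq
    have h2 : x * e ^ i = e ^ i * x := ((hcomm x hx).zpow_left i).symm
    have h3 : x * (k * e ^ i) * x⁻¹ * (k * e ^ i)⁻¹ = (x * k * x⁻¹) * k⁻¹ := by
      have : x * (k * e ^ i) * x⁻¹ * (k * e ^ i)⁻¹ = (x * k * x⁻¹) * (x * e ^ i) * x⁻¹ * (e ^ i)⁻¹ * k⁻¹ := by
        group
      rw [this, h2]; group
    rw [h3]
    exact (T ⊓ pPrimeCore p G).mul_mem ((inferInstance : (T ⊓ pPrimeCore p G).Normal).conj_mem k hk x)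
      ((T ⊓ pPrimeCore p G).inv_mem hk)
  have hC : ∀ c, (∀ t ∈ T, c * t * c⁻¹ * t⁻¹ ∈ T ⊓ pPrimeCore p G) → ∃ j, c ^ (p ^ j) ∈ T ⊓ pPrimeCore p G := by
    intro c hc
    obtain ⟨t, ht, htn⟩ := FusionNormalSubgroup.exists_normalizer_mul P T c
    have hcC : c ∈ modCent T (T ⊓ pPrimeCore p G) := mem_modCent.2 hc
    have htC : t ∈ modCent T (T ⊓ pPrimeCore p G) := mem_modCent.2 (hTT t ht)
    have hsC : c * t⁻¹ ∈ modCent T (T ⊓ pPrimeCore p G) := Subgroup.mul_mem _ hcC (Subgroup.inv_mem _ htC)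
    have h1 : c = (c * t⁻¹) * t := by group
    rw [h1]
    generalize c * t⁻¹ = s at htn hsC
    have h2 : s * e * s⁻¹ ∈ (P : Subgroup G) ⊓ T := (Subgroup.mem_normalizer_iff.1 htn e).1 he
    have h3 := mem_modCent.1 hsC e he.2
    have h4 := hPN _ ((P : Subgroup G).mul_mem h2.1 ((P : Subgroup G).inv_mem he.1)) h3.2
    have h5 : s ∈ Subgroup.centralizer ({e} : Set G) := by
      rw [Subgroup.mem_centralizer_singleton_iff]
      rw [mul_inv_eq_one] at h4
      exact (mul_inv_eq_iff_eq_mul.1 h4)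
    obtain ⟨j, hj⟩ := isPGroup_cent (hcent e he he1) ⟨s, h5⟩
    have hj' : s ^ (p ^ j) = 1 := congrArg Subtype.val hj
    refine ⟨j + 1, ?_⟩
    have h6 : Commute (s : G ⧸ (T ⊓ pPrimeCore p G)) (t : G ⧸ (T ⊓ pPrimeCore p G)) := by
      have h7 := Subgroup.mem_centralizer_iff.1 (Subgroup.mem_comap.1 hsC) t ⟨t, ht, rfl⟩
      exact h7.symm
    rw [← QuotientGroup.eq_one_iff, QuotientGroup.mk_pow, QuotientGroup.mk_mul, h6.mul_pow,
      ← QuotientGroup.mk_pow, ← QuotientGroup.mk_pow]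
    have h8 : s ^ (p ^ (j + 1)) = 1 := by rw [pow_succ, pow_mul, hj', one_pow]
    have h9 : t ^ (p ^ (j + 1)) ∈ T ⊓ pPrimeCore p G := by
      rw [pow_succ', pow_mul]
      exact Subgroup.pow_mem _ (hT.pow t ht) _
    rw [h8, (QuotientGroup.eq_one_iff _).2 h9, QuotientGroup.mk_one, one_mul]
  have hNT : pPrimeCore p G ≤ T := by
    intro n hn
    obtain ⟨j, hj⟩ := hC n (fun t ht => ⟨T.mul_mem (hTn.conj_mem t ht n) (T.inv_mem ht), by
      have h1 : n * t * n⁻¹ * t⁻¹ = n * (t * n⁻¹ * t⁻¹) := by group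
      rw [h1]
      exact Subgroup.mul_mem _ hn (hNn.conj_mem _ (Subgroup.inv_mem _ hn) t)⟩)
    have h2 : (p ^ j).Coprime (orderOf n) := Nat.Coprime.pow_left j
      ((hp.out.coprime_iff_not_dvd).2 (fun h => hNp (h.trans (Subgroup.orderOf_dvd_natCard _ hn))))
    obtain ⟨m, hm⟩ := exists_pow_eq_self_of_coprime h2
    rw [← hm]
    exact T.pow_mem hj.1 m
  refine ⟨e, he.1, he.2, heo, hz, hcomm, hNT, ?_, fun x hx t ht => (hPT x hx t ht).2⟩
  intro c hc
  obtain ⟨j, hj⟩ := hC c (fun t ht => ⟨hNT (hc t ht), hc t ht⟩)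
  exact ⟨j, hj.2⟩

theorem thmA [Group.IsSolvable G] (hpc : pCore p G = ⊥) (hR : R1 p G) (hR2 : R2 p G) (P : Sylow p G) :
    Nat.card P ≤ p := by
  by_contra hlt
  push Not at hlt
  have hpG : p ∣ Nat.card (⊤ : Subgroup G) := by
    rw [Subgroup.card_top]
    obtain ⟨n, hn⟩ := P.isPGroup'.exists_card_eq
    refine Dvd.dvd.trans ?_ (Subgroup.card_subgroup_dvd_card (P : Subgroup G))
    rw [hn]
    apply dvd_pow_self
    rintro rfl
    rw [pow_zero] at hn
    have := hp.out.one_lt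
    omega
  obtain ⟨T, -, hT⟩ := exists_minP (p := p) (⊤ : Subgroup G) inferInstance hpG
  have hTn := hT.normal
  obtain ⟨e, heP, heT, heo, hz, hcomm, hNT, hC, hPT⟩ := facts hpc hR hT P
  have hNp : ¬ p ∣ Nat.card (pPrimeCore p G) := not_dvd_pPrimeCore
  have hNn : (pPrimeCore p G).Normal := inferInstance
  have hPel : ∀ x ∈ (P : Subgroup G), ∃ j, x ^ (p ^ j) = 1 := by
    intro x hx
    obtain ⟨j, hj⟩ := P.isPGroup' ⟨x, hx⟩
    exact ⟨j, congrArg Subtype.val hj⟩
  have hPN : ∀ x ∈ (P : Subgroup G), x ∈ pPrimeCore p G → x = 1 := by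
    intro x hx hxN
    obtain ⟨j, hj⟩ := hPel x hx
    exact eq_one_of_pow hNp hxN hj
  have hNb : pPrimeCore p G ≠ ⊥ := by
    intro h
    apply hT.ne_bot hpc
    rw [h, inf_bot_eq]
  -- P is not contained in T
  obtain ⟨x0, hx0P, hx0T⟩ : ∃ x ∈ (P : Subgroup G), x ∉ T := by
    by_contra h
    push Not at h
    have h1 : (P : Subgroup G) ⊓ T = P := inf_eq_left.2 h
    rw [hz] at h1
    have h2 : Nat.card (P : Subgroup G) = p := by rw [← h1, Nat.card_zpowers, heo]
    exact hlt.ne' h2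
  set C := modCent T (pPrimeCore p G) with hCdef
  have hTC : T ≤ C := by
    intro s hs
    rw [hCdef, mem_modCent]
    intro t ht
    have := hT.ab (Subgroup.commutator_mem_commutator hs ht)
    rw [commutatorElement_def] at this
    exact this.2
  have hx0C : x0 ∈ C := mem_modCent.2 (hPT x0 hx0P)
  obtain ⟨D, hDmin⟩ := (Set.toFinite {M : Subgroup G | M.Normal ∧ T < M ∧ M ≤ C}).exists_minimal
    ⟨C, inferInstance, lt_of_le_of_ne hTC (fun h => hx0T (h ▸ hx0C)), le_rfl⟩
  obtain ⟨hDn, hTD, hDC⟩ := hDmin.1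
  have hDmin' : ∀ M : Subgroup G, M.Normal → T ≤ M → M ≤ D → M = T ∨ M = D := by
    intro M hM hTM hMD
    by_cases h : M = T
    · exact Or.inl h
    · exact Or.inr (le_antisymm hMD (hDmin.2 ⟨hM, lt_of_le_of_ne hTM (Ne.symm h), hMD.trans hDC⟩ hMD))
  have hDpow : ∀ x ∈ D, ∃ j, x ^ (p ^ j) ∈ pPrimeCore p G :=
    fun x hx => hC x (mem_modCent.1 (hDC hx))
  have hDsup := le_sup_of_pow P (pPrimeCore p G) D hDpow
  have hND : pPrimeCore p G ≤ D := hNT.trans hTD.le
  obtain ⟨d, hdPD, hdT⟩ : ∃ d ∈ (P : Subgroup G) ⊓ D, d ∉ T := by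
    by_contra h
    push Not at h
    exact hTD.not_ge (hDsup.trans (sup_le hNT h))
  -- D / T is abelian
  have hDD : ⁅D, D⁆ ≤ T := by
    rcases hDmin' (⁅D, D⁆ ⊔ T) inferInstance le_sup_right (sup_le (Subgroup.commutator_le_self D) hTD.le)
      with h | h
    · rw [← h]; exact le_sup_left
    · exfalso
      have h1 : ⁅D.map (QuotientGroup.mk' T), D.map (QuotientGroup.mk' T)⁆ = D.map (QuotientGroup.mk' T) := by
        rw [← Subgroup.map_commutator]
        conv_rhs => rw [← h]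
        rw [Subgroup.map_sup]
        have h2 : T.map (QuotientGroup.mk' T) = ⊥ := by
          rw [Subgroup.map_eq_bot_iff, QuotientGroup.ker_mk']
        rw [h2, sup_bot_eq]
      have h2 : D.map (QuotientGroup.mk' T) ≠ ⊥ := by
        rw [Ne, Subgroup.map_eq_bot_iff, QuotientGroup.ker_mk']
        exact hTD.not_ge
      exact (Group.IsSolvable.commutator_lt_of_ne_bot h2).ne h1
  -- the key vanishing statement
  have hvan : ∀ a ∈ (P : Subgroup G) ⊓ D, a ∉ T → ∀ n ∈ pPrimeCore p G, Van (a * n) := by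
    intro a ha haT n hn
    by_cases hA : ⁅D, D⁆ ≤ pPrimeCore p G
    · have hmc : D ⊓ modCent (pPrimeCore p G) ⁅pPrimeCore p G, pPrimeCore p G⁆ ≤ pPrimeCore p G := by
        apply le_pPrimeCore_of_not_dvd inferInstance
        intro hdvd
        obtain ⟨T', hT'D, hT'⟩ := exists_minP _ inferInstance hdvd
        obtain ⟨_, _, _, _, _, _, hNT', _, _⟩ := facts hpc hR hT' P
        have h1 := hT'.modCent_le hpc (pPrimeCore p G) (inf_eq_right.2 hNT').symm
        have h2 : T' ≤ pPrimeCore p G := (le_inf le_rfl (hT'D.trans inf_le_right)).trans h1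
        exact hNp (hT'.dvd.trans (Subgroup.card_dvd_of_le h2))
      refine van_of_modCent (p := p) (pPrimeCore p G) D hNp ?_ hDpow hmc (a * n) 1 ?_ ?_
      · intro s hs t ht
        have h1 : (t * s)⁻¹ * (s * t) = ⁅s⁻¹, t⁻¹⁆ := by
          rw [commutatorElement_def]; group
        rw [h1]
        exact hA (Subgroup.commutator_mem_commutator (D.inv_mem hs) (D.inv_mem ht))
      · rw [pow_one]; exact D.mul_mem ha.2 (hND hn)
      · rw [pow_one]
        intro h
        apply haT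
        have h1 : a = (a * n) * n⁻¹ := by group
        rw [h1]
        exact hNT (Subgroup.mul_mem _ h (Subgroup.inv_mem _ hn))
    · have hTZ : T ≤ D ⊓ modCent D (pPrimeCore p G) := by
        refine le_inf hTD.le fun t ht => ?_
        rw [mem_modCent]
        intro x hx
        have h1 := mem_modCent.1 (hDC hx) t ht
        have h2 := Subgroup.inv_mem _ h1
        have h3 : (x * t * x⁻¹ * t⁻¹)⁻¹ = t * x * t⁻¹ * x⁻¹ := by group
        rwa [h3] at h2
      have hZ : D ⊓ modCent D (pPrimeCore p G) = T := by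
        rcases hDmin' _ inferInstance hTZ inf_le_left with h | h
        · exact h
        · exfalso
          apply hA
          rw [Subgroup.commutator_le]
          intro x hx y hy
          rw [commutatorElement_def]
          rw [inf_eq_left] at h
          exact mem_modCent.1 (h hx) y hy
      have h1 : a ∉ modCent D (pPrimeCore p G) := fun h => haT (hZ ▸ ⟨ha.2, h⟩)
      rw [mem_modCent] at h1
      push Not at h1
      obtain ⟨c, hcD, hc⟩ := h1
      -- z = a⁻¹ c a c⁻¹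
      have hzT : a⁻¹ * c * a * c⁻¹ ∈ T := by
        have := hDD (Subgroup.commutator_mem_commutator (D.inv_mem ha.2) hcD)
        rw [commutatorElement_def, inv_inv] at this
        exact this
      have hzN : a⁻¹ * c * a * c⁻¹ ∉ pPrimeCore p G := by
        intro h
        apply hc
        have h2 := hNn.conj_mem _ (Subgroup.inv_mem _ h) a
        have h3 : a * (a⁻¹ * c * a * c⁻¹)⁻¹ * a⁻¹ = a * c * a⁻¹ * c⁻¹ := by group
        rwa [h3] at h2
      have hcd : c * a * c⁻¹ = a * (a⁻¹ * c * a * c⁻¹) := by group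
      generalize a⁻¹ * c * a * c⁻¹ = z at hzT hzN hcd
      -- in the quotient
      apply van_inflate (pPrimeCore p G)
      have h2 : ((a * n : G) : G ⧸ pPrimeCore p G) = (a : G ⧸ pPrimeCore p G) := by
        rw [QuotientGroup.mk_mul, (QuotientGroup.eq_one_iff n).2 hn, mul_one]
      rw [h2]
      have hz1 : (z : G ⧸ pPrimeCore p G) ≠ 1 := by
        rw [Ne, QuotientGroup.eq_one_iff]
        exact hzN
      have heN : (e : G ⧸ pPrimeCore p G) ≠ 1 := by
        rw [Ne, QuotientGroup.eq_one_iff]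
        intro h
        have := hPN e heP h
        rw [this, orderOf_one] at heo
        exact hp.out.one_lt.ne heo
      have hep : (e : G ⧸ pPrimeCore p G) ^ p = 1 := by
        rw [← QuotientGroup.mk_pow]
        have : e ^ p = 1 := by rw [← heo]; exact pow_orderOf_eq_one e
        rw [this, QuotientGroup.mk_one]
      have heo' : orderOf (e : G ⧸ pPrimeCore p G) = p := orderOf_eq_prime hep heN
      have hTe : T.map (QuotientGroup.mk' (pPrimeCore p G)) = Subgroup.zpowers (e : G ⧸ pPrimeCore p G) := by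
        apply le_antisymm
        · rintro _ ⟨t, ht, rfl⟩
          have h3 := le_sup_of_pow P (pPrimeCore p G) T (fun x hx => hDpow x (hTD.le hx)) ht
          rw [Subgroup.mem_sup_of_normal_left] at h3
          obtain ⟨k, hk, q, hq, rfl⟩ := h3
          rw [hz] at hq
          obtain ⟨i, rfl⟩ := Subgroup.mem_zpowers_iff.1 hq
          rw [Subgroup.mem_zpowers_iff]
          refine ⟨i, ?_⟩
          show _ = ((k * e ^ i : G) : G ⧸ pPrimeCore p G)
          rw [QuotientGroup.mk_mul, (QuotientGroup.eq_one_iff k).2 hk, one_mul, QuotientGroup.mk_zpow]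
        · rw [Subgroup.zpowers_le]
          exact ⟨e, heT, rfl⟩
      have hzz : Subgroup.zpowers (z : G ⧸ pPrimeCore p G) = T.map (QuotientGroup.mk' (pPrimeCore p G)) := by
        refine (GalConj.eq_bot_or_eq (p := p) (by rw [hTe, Nat.card_zpowers, heo']) ?_).resolve_left ?_
        · rw [Subgroup.zpowers_le]
          exact ⟨z, hzT, rfl⟩
        · rw [Subgroup.zpowers_eq_bot]
          exact hz1
      refine van_of_comm (z : G ⧸ pPrimeCore p G) (c : G ⧸ pPrimeCore p G) (a : G ⧸ pPrimeCore p G) ?_ hz1 ?_ ?_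
      · rw [hzz]
        exact hTn.map _ (QuotientGroup.mk'_surjective _)
      · have h7 := Subgroup.mem_centralizer_iff.1 (Subgroup.mem_comap.1 (hDC hcD)) z ⟨z, hzT, rfl⟩
        exact h7
      · rw [← QuotientGroup.mk_mul, ← QuotientGroup.mk_inv, ← QuotientGroup.mk_mul, hcd, QuotientGroup.mk_mul]
  have hord : ∀ a ∈ (P : Subgroup G), a ≠ 1 → p ∣ orderOf a := by
    intro a ha ha1
    obtain ⟨j, hj⟩ := hPel a ha
    obtain ⟨i, _, hi⟩ := (Nat.dvd_prime_pow hp.out).1 (orderOf_dvd_of_pow_eq_one hj)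
    rw [hi]
    apply dvd_pow_self
    rintro rfl
    rw [pow_zero, orderOf_eq_one_iff] at hi
    exact ha1 hi
  have hvan1 : ∀ a ∈ (P : Subgroup G) ⊓ D, a ≠ 1 → Van a := by
    intro a ha ha1
    by_cases haT : a ∈ T
    · exact hT.van hpc a 1 (by rwa [pow_one]) (by rw [pow_one]; exact fun h => ha1 (hPN a ha.1 h))
    · have := hvan a ha haT 1 (Subgroup.one_mem _)
      rwa [mul_one] at this
  have hfpf : ∀ a ∈ (P : Subgroup G) ⊓ D, a ≠ 1 → pPrimeCore p G ⊓ Subgroup.centralizer {a} = ⊥ := by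
    intro a ha ha1
    apply inf_cent_eq_bot hNp
    intro y hy hay hyp
    by_cases haT : a ∈ T
    · exact hT.cent hpc hR haT (hPel a ha.1) ha1 hay hyp
    · exact hR.eq_one (hPel a ha.1) ha1 (hvan1 a ha ha1) hay hyp (hvan a ha haT y hy)
  have hexp : ∀ a ∈ (P : Subgroup G) ⊓ D, a ^ p = 1 := by
    intro a ha
    by_contra h
    have ha1 : a ≠ 1 := by
      rintro rfl
      exact h (one_pow p)
    exact hR2 a (hvan1 a ha ha1) (hvan1 _ (Subgroup.pow_mem _ ha p) h) (hord a ha.1 ha1)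
      (hord _ (Subgroup.pow_mem _ ha.1 p) h)
  -- the noncyclic abelian subgroup generated by e and d
  have hAle : Subgroup.closure {e, d} ≤ (P : Subgroup G) ⊓ D := by
    rw [Subgroup.closure_le]
    rintro x (rfl | rfl)
    · exact ⟨heP, hTD.le heT⟩
    · exact hdPD
  have hAc : IsMulCommutative (Subgroup.closure {e, d}) := by
    have h1 : ∀ x ∈ ({e, d} : Set G), ∀ y ∈ ({e, d} : Set G), x * y = y * x := by
      have h2 : e * d = d * e := hcomm d hdPD.1
      rintro x (rfl | rfl) y (rfl | rfl)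
      · rfl
      · exact h2
      · exact h2.symm
      · rfl
    exact Subgroup.isMulCommutative_closure h1
  have hcop : (Nat.card (Subgroup.closure {e, d})).Coprime (Nat.card (pPrimeCore p G)) := by
    obtain ⟨n, hn⟩ := (P.isPGroup'.to_le (hAle.trans inf_le_left)).exists_card_eq
    rw [hn]
    exact Nat.Coprime.pow_left n ((hp.out.coprime_iff_not_dvd).2 hNp)
  have hcyc := isCyclic_of_fpf (Subgroup.closure {e, d}) (pPrimeCore p G) hAc hNb
    (by rw [Subgroup.normalizer_eq_top]; exact le_top) hcop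
    (fun a ha ha1 => hfpf a (hAle ha) ha1)
  obtain ⟨g, hg⟩ := IsCyclic.exists_generator (α := Subgroup.closure {e, d})
  have hgz : Subgroup.closure {e, d} = Subgroup.zpowers (g : G) := by
    apply le_antisymm
    · intro x hx
      obtain ⟨k, hk⟩ := Subgroup.mem_zpowers_iff.1 (hg ⟨x, hx⟩)
      rw [Subgroup.mem_zpowers_iff]
      exact ⟨k, congrArg Subtype.val hk⟩
    · rw [Subgroup.zpowers_le]
      exact g.2
  have hcard : Nat.card (Subgroup.closure {e, d}) ∣ p := by
    rw [hgz, Nat.card_zpowers]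
    exact orderOf_dvd_of_pow_eq_one (hexp _ (hAle g.2))
  have hze : Subgroup.zpowers e = Subgroup.closure {e, d} := by
    apply Subgroup.eq_of_le_of_card_ge
    · rw [Subgroup.zpowers_le]
      exact Subgroup.subset_closure (by simp)
    · rw [Nat.card_zpowers, heo]
      exact Nat.le_of_dvd hp.out.pos hcard
  apply hdT
  have h1 : d ∈ Subgroup.zpowers e := by
    rw [hze]
    exact Subgroup.subset_closure (by simp)
  rw [← hz] at h1
  exact h1.2

end Cfsg.Agent.Lib.VanPSing3
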