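import Mathlib
import Cfsg.Agent.Lib.VanPSing3
import Cfsg.Agent.Lib.SubnormalizerP

set_option autoImplicit false

/-!
# Vanishing elements of `p`-singular order in solvable groups, part 4 (helper83)

`card_map_le`: in a finite solvable group all of whose vanishing elements of order divisible by `p` have the same order,
a Sylow `p`-subgroup has image of order at most `p` modulo `O_p`.
-/

namespace Cfsg.Agent.Lib.VanPSing4

open Cfsg Cfsg.Agent.Lib.CharBasic Cfsg.Agent.Lib.VanPSing Cfsg.Agent.Lib.VanPSing2 Cfsg.Agent.Lib.VanPSing3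
open scoped commutatorElement

universe u

variable {G : Type u} [Group G] [Finite G] {p : ℕ} [hp : Fact p.Prime]

instance pCore_normal : (pCore p G).Normal := Fitting.normal_pCore p

theorem orderOf_mk_dvd (N : Subgroup G) [N.Normal] (g : G) : orderOf (g : G ⧸ N) ∣ orderOf g :=
  orderOf_map_dvd (QuotientGroup.mk' N) g

theorem card_map_le [Group.IsSolvable G] (b : ℕ) (hb : ∀ g : G, Van g → p ∣ orderOf g → orderOf g = b)
    (P : Sylow p G) : Nat.card ((P : Subgroup G).map (QuotientGroup.mk' (pCore p G))) ≤ p := by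
  have hR : R1 p (G ⧸ pCore p G) := by
    intro g' h' hg hh hpg hph hk
    obtain ⟨g, rfl⟩ := QuotientGroup.mk_surjective g'
    obtain ⟨h, rfl⟩ := QuotientGroup.mk_surjective h'
    obtain ⟨k, hk⟩ := hk
    have h1 := hb g (van_inflate _ g hg) (hpg.trans (orderOf_mk_dvd _ g))
    have h2 := hb h (van_inflate _ h hh) (hph.trans (orderOf_mk_dvd _ h))
    have h3 : g ^ (p ^ k) ∈ pCore p G := by
      rw [← QuotientGroup.eq_one_iff, QuotientGroup.mk_pow, ← hk]
      exact pow_orderOf_eq_one _
    obtain ⟨j, hj⟩ := (Fitting.isPGroup_pCore (G := G) p) ⟨_, h3⟩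
    have hj' : (g ^ (p ^ k)) ^ (p ^ j) = 1 := congrArg Subtype.val hj
    rw [← pow_mul, ← pow_add] at hj'
    have h4 : orderOf h ∣ p ^ (k + j) := by
      rw [h2, ← h1]
      exact orderOf_dvd_of_pow_eq_one hj'
    obtain ⟨i, _, hi⟩ := (Nat.dvd_prime_pow hp.out).1 ((orderOf_mk_dvd (pCore p G) h).trans h4)
    exact ⟨i, hi⟩
  have hR2 : R2 p (G ⧸ pCore p G) := by
    intro g' hg hgp hpg hpgp
    obtain ⟨g, rfl⟩ := QuotientGroup.mk_surjective g'
    rw [← QuotientGroup.mk_pow] at hgp hpgp
    have h1 := hb g (van_inflate _ g hg) (hpg.trans (orderOf_mk_dvd _ g))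
    have h2 := hb (g ^ p) (van_inflate _ _ hgp) (hpgp.trans (orderOf_mk_dvd _ _))
    have h3 : p ∣ orderOf g := hpg.trans (orderOf_mk_dvd _ g)
    rw [orderOf_pow_of_dvd hp.out.ne_zero h3, ← h1] at h2
    have h4 : 0 < orderOf g := orderOf_pos g
    have h5 := Nat.div_lt_self h4 hp.out.one_lt
    omega
  exact thmA (Fitting.pCore_quotient_pCore p) hR hR2 (P.mapSurjective (QuotientGroup.mk'_surjective (pCore p G)))

theorem card_le [Group.IsSolvable G] (b : ℕ) (hb : ∀ g : G, Van g → p ∣ orderOf g → orderOf g = b)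
    (P : Sylow p G) : Nat.card P ≤ p * Nat.card (pCore p G) := by
  have h1 := card_map_le b hb P
  set f := (QuotientGroup.mk' (pCore p G)).comp (P : Subgroup G).subtype with hf
  have h2 : Nat.card f.ker * Nat.card f.range = Nat.card P := by
    rw [← Subgroup.index_ker, Subgroup.card_mul_index]
  have h3 : f.range = (P : Subgroup G).map (QuotientGroup.mk' (pCore p G)) := by
    rw [hf, MonoidHom.range_comp, Subgroup.range_subtype]
  have h4 : f.ker = (pCore p G).subgroupOf P := by
    rw [hf, ← MonoidHom.comap_ker, QuotientGroup.ker_mk']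
    rfl
  rw [h3, h4, SylCard.card_subgroupOf (Fitting.pCore_le_sylow p P)] at h2
  rw [← h2, mul_comm]
  exact Nat.mul_le_mul_right _ h1

theorem isCyclic_map [Group.IsSolvable G] (b : ℕ) (hb : ∀ g : G, Van g → p ∣ orderOf g → orderOf g = b)
    (P : Sylow p G) : IsCyclic ((P : Subgroup G).map (QuotientGroup.mk' (pCore p G))) := by
  have h1 := card_map_le b hb P
  obtain ⟨n, hn⟩ := (P.isPGroup'.map (QuotientGroup.mk' (pCore p G))).exists_card_eq
  rw [hn] at h1
  have h2 : n ≤ 1 := by
    by_contra h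
    push Not at h
    have := Nat.pow_lt_pow_right hp.out.one_lt h
    rw [pow_one] at this
    omega
  interval_cases n
  · rw [pow_zero] at hn
    have := (Nat.card_eq_one_iff_unique.1 hn).1
    infer_instance
  · rw [pow_one] at hn
    exact isCyclic_of_prime_card hn

theorem commutator_le [Group.IsSolvable G] (b : ℕ) (hb : ∀ g : G, Van g → p ∣ orderOf g → orderOf g = b)
    (P : Sylow p G) : ⁅(P : Subgroup G), (P : Subgroup G)⁆ ≤ pCore p G := by
  have h1 := isCyclic_map b hb P
  rw [Subgroup.commutator_le]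
  intro x hx y hy
  rw [← QuotientGroup.eq_one_iff, commutatorElement_def, mul_assoc, QuotientGroup.mk_mul, ← mul_inv_rev,
    QuotientGroup.mk_inv, mul_inv_eq_one, QuotientGroup.mk_mul, QuotientGroup.mk_mul]
  obtain ⟨g, hg⟩ := IsCyclic.exists_generator (α := ((P : Subgroup G).map (QuotientGroup.mk' (pCore p G))))
  obtain ⟨a, ha⟩ := Subgroup.mem_zpowers_iff.1 (hg ⟨_, x, hx, rfl⟩)
  obtain ⟨c, hc⟩ := Subgroup.mem_zpowers_iff.1 (hg ⟨_, y, hy, rfl⟩)
  have ha' : (g : G ⧸ pCore p G) ^ a = x := congrArg Subtype.val ha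
  have hc' : (g : G ⧸ pCore p G) ^ c = y := congrArg Subtype.val hc
  rw [← ha', ← hc']
  exact ((Commute.refl _).zpow_zpow a c)

theorem isSubnormal_commutator [Group.IsSolvable G] (b : ℕ)
    (hb : ∀ g : G, Van g → p ∣ orderOf g → orderOf g = b)
    (P : Sylow p G) : ((commutator (P : Subgroup G)).map (P : Subgroup G).subtype).IsSubnormal := by
  rw [Subgroup.map_subtype_commutator]
  refine Subgroup.IsSubnormal.trans (commutator_le b hb P) ?_ (Subgroup.Normal.isSubnormal inferInstance)
  exact SubnormalizerP.isSubnormal_of_isNilpotent (Fitting.isPGroup_pCore (G := G) p).isNilpotent _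

end Cfsg.Agent.Lib.VanPSing4
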