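import Cfsg.Agent.S0623
import Cfsg.Agent.Lib.ReplacementElem
import Cfsg.Agent.Lib.CoprimeAction2
import Cfsg.Agent.Lib.ZJThm

/-! `W(S)` is normal in a `p`-stable group with `C_G(O_p(G)) ≤ O_p(G)` (S0624). -/

set_option autoImplicit false

namespace Cfsg.Agent.Lib.WNormal

open Subgroup Cfsg.Agent.Lib.ThompsonJ Cfsg.Agent.Lib.RelSylow Cfsg.Agent.Lib.PStab
  Cfsg.Agent.Lib.StableClosure Cfsg.Agent.Lib.ReplacementElem Cfsg.Agent.Lib.FactorizeQuot
  Cfsg.Agent.Lib.Factorize Cfsg.Agent.Lib.ZJThm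
open scoped commutatorElement

universe u

variable {G : Type u} [Group G] {p : ℕ}

/-- a finite subgroup without nontrivial `p'`-elements is a `p`-group. -/
theorem isPGroup_of_pPrime_trivial [Finite G] [hp : Fact p.Prime] {K : Subgroup G}
    (h : ∀ x ∈ K, (orderOf x).Coprime p → x = 1) : IsPGroup p K := by
  rintro ⟨x, hx⟩
  obtain ⟨k, m, hm, hkm⟩ := Nat.exists_eq_pow_mul_and_not_dvd (orderOf_pos x).ne' p hp.out.ne_one
  refine ⟨k, ?_⟩
  apply Subtype.ext
  show x ^ p ^ k = 1
  apply h _ (K.pow_mem hx _)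
  have : orderOf (x ^ p ^ k) = m := by
    rw [orderOf_pow_of_dvd (pow_ne_zero k hp.out.ne_zero) (by rw [hkm]; exact dvd_mul_right _ _), hkm]
    exact Nat.mul_div_cancel_left m (pow_pos hp.out.pos k)
  rw [this]
  exact Nat.Coprime.symm ((Nat.Prime.coprime_iff_not_dvd hp.out).2 hm)

theorem mem_sectionKernel_iff {K N : Subgroup G} [N.Normal] {g : G} :
    g ∈ Cfsg.sectionKernel K N ↔ ∀ k ∈ K, g * k * g⁻¹ * k⁻¹ ∈ N := by
  unfold Cfsg.sectionKernel
  rw [mem_comap, mem_centralizer_iff]
  constructor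
  · intro h k hk
    have h1 := h (QuotientGroup.mk' N k) ⟨k, hk, rfl⟩
    rw [← QuotientGroup.eq_one_iff]
    show QuotientGroup.mk' N (g * k * g⁻¹ * k⁻¹) = 1
    rw [map_mul, map_mul, map_mul, map_inv, map_inv, ← h1]; group
  · rintro h _ ⟨k, hk, rfl⟩
    have h1 := (QuotientGroup.eq_one_iff _).2 (h k hk)
    have h2 : QuotientGroup.mk' N (g * k * g⁻¹ * k⁻¹) = 1 := h1
    rw [map_mul, map_mul, map_mul, map_inv, map_inv] at h2
    have h3 := congrArg (fun t => t * (QuotientGroup.mk' N k * QuotientGroup.mk' N g)) h2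
    simpa [mul_assoc] using h3.symm

theorem isPGroup_sectionKernel [Finite G] [Fact p.Prime] {O : Subgroup G}
    (hO : IsPGroup p O) [hn : ((frattini ↥O).map O.subtype).Normal]
    (hc : centralizer (O : Set G) ≤ O) :
    IsPGroup p (Cfsg.sectionKernel O ((frattini ↥O).map O.subtype)) := by
  apply isPGroup_of_pPrime_trivial
  intro x hx ho
  rw [mem_sectionKernel_iff] at hx
  have hxz : ∀ a ∈ zpowers x, ∀ k ∈ O, a * k * a⁻¹ * k⁻¹ ∈ (frattini ↥O).map O.subtype := by
    intro a ha
    have hx' : zpowers x ≤ Cfsg.sectionKernel O ((frattini ↥O).map O.subtype) := by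
      rw [zpowers_le, mem_sectionKernel_iff]; exact hx
    exact mem_sectionKernel_iff.1 (hx' ha)
  have hAK : zpowers x ≤ normalizer (O : Set G) := by
    intro a ha
    apply GlaubRepl2.mem_normalizer_of_conj_mem
    intro k hk
    have h1 := map_subtype_le _ (hxz a ha k hk)
    have := O.mul_mem h1 hk
    simpa using this
  have hcop : (Nat.card (zpowers x)).Coprime (Nat.card (frattini ↥O)) := by
    rw [Nat.card_zpowers]
    obtain ⟨n, hn⟩ := IsPGroup.iff_card.1 (hO.to_subgroup (frattini ↥O))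
    rw [hn]
    exact Nat.Coprime.pow_right n ho
  have h2 := Cfsg.Agent.Lib.CoprimeAction2.le_centralizer_of_frattini hAK hcop hxz
  have h3 : x ∈ O := hc (h2 (mem_zpowers x))
  obtain ⟨k, hk⟩ := hO ⟨x, h3⟩
  have hk' : x ^ p ^ k = 1 := congrArg Subtype.val hk
  have h4 : orderOf x ∣ p ^ k := orderOf_dvd_of_pow_eq_one hk'
  have h5 : Nat.Coprime (orderOf x) (p ^ k) := Nat.Coprime.pow_right k ho
  have h6 := Nat.Coprime.eq_one_of_dvd h5 h4
  exact orderOf_eq_one_iff.1 h6

theorem isPGroup_of_relIndex [Finite G] [Fact p.Prime] {K D : Subgroup G} (hK : IsPGroup p K) (hKD : K ≤ D)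
    {k : ℕ} (h : K.relIndex D = p ^ k) : IsPGroup p D := by
  obtain ⟨n, hn⟩ := IsPGroup.iff_card.1 hK
  have h1 := relIndex_mul_relIndex (⊥ : Subgroup G) K D bot_le hKD
  rw [relIndex_bot_left, relIndex_bot_left, hn, h, ← pow_add] at h1
  exact IsPGroup.of_card h1.symm

section main
variable [Finite G] [Fact p.Prime]

theorem stable_of_normalizer (hst : Cfsg.IsActionPStable p G)
    (hc : centralizer (Cfsg.pCore p G : Set G) ≤ Cfsg.pCore p G) (S : Sylow p G) :
    ∃ τ : ↥(S : Subgroup G) →* ↥(normalizer (Cfsg.thompsonSubgroupOf p (S : Subgroup G) : Set G)),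
      (∀ x, ((τ x : ↥(normalizer (Cfsg.thompsonSubgroupOf p (S : Subgroup G) : Set G))) : G) = x) ∧
      Cfsg.IsStableEmbedding p τ := by
  set N := normalizer (Cfsg.thompsonSubgroupOf p (S : Subgroup G) : Set G) with hN
  have hSN : (S : Subgroup G) ≤ N := by
    rw [hN, thompsonSubgroupOf_eq]
    exact le_normalizer.trans (normalizer_le_normalizer_J_elem _)
  have hOS : Cfsg.pCore p G ≤ (S : Subgroup G) := isPGroup_pCore.le_sylow_of_normal S
  refine ⟨Subgroup.inclusion hSN, fun x => rfl, inclusion_injective hSN, inferInstance, ?_, ?_, ?_, ?_⟩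
  · refine ⟨S.subtype hSN, ?_⟩
    rw [Subgroup.inclusion_range]
    rfl
  · have h1 : (Cfsg.pCore p G).subgroupOf N ≤ Cfsg.pCore p N :=
      le_pCore inferInstance (isPGroup_pCore.comap_of_injective _ N.subtype_injective)
    refine le_trans ?_ h1
    intro x hx
    rw [mem_subgroupOf]
    apply hc
    rw [mem_centralizer_iff]
    intro y hy
    have hyN : y ∈ N := hSN (hOS hy)
    have := mem_centralizer_iff.1 hx ⟨y, hyN⟩ (h1 hy)
    exact congrArg Subtype.val this
  · have h2 : ((Cfsg.thompsonSubgroup p ↥(S : Subgroup G)).map (Subgroup.inclusion hSN)).map N.subtype =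
        Cfsg.thompsonSubgroupOf p (S : Subgroup G) := by
      rw [Subgroup.map_map]; rfl
    have h3 : (Cfsg.thompsonSubgroup p ↥(S : Subgroup G)).map (Subgroup.inclusion hSN) =
        (Cfsg.thompsonSubgroupOf p (S : Subgroup G)).subgroupOf N := by
      rw [← h2]
      exact (comap_map_eq_self_of_injective N.subtype_injective _).symm
    rw [h3]
    exact normal_in_normalizer
  · intro V hV hle
    apply hst.2.2 S V
    have := map_mono (f := N.subtype) hle
    rw [Subgroup.map_map] at this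
    exact this

/-- `W(S)` as a subgroup of `G`. -/
abbrev Ws (p : ℕ) (S : Subgroup G) : Subgroup G := (Cfsg.stableNormalClosure p ↥S).map S.subtype

theorem Ws_le (S : Subgroup G) : Ws p S ≤ S := map_subtype_le _

theorem S_le_normalizer_Ws (S : Subgroup G) : S ≤ normalizer (Ws p S : Set G) := by
  have h : (Cfsg.stableNormalClosure p ↥S).Normal := snc_normal
  intro s hs
  rw [mem_normalizer_iff]
  intro x
  constructor
  · rintro ⟨y, hy, rfl⟩
    exact ⟨⟨s, hs⟩ * y * ⟨s, hs⟩⁻¹, h.conj_mem y hy _, by simp⟩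
  · rintro ⟨y, hy, hyx⟩
    have h1 : x = (⟨s, hs⟩⁻¹ * y * ⟨s, hs⟩ : ↥S) := by
      have : (y : G) = s * x * s⁻¹ := hyx
      simp [this, mul_assoc]
    rw [h1]
    have := h.conj_mem y hy (⟨s, hs⟩⁻¹)
    refine ⟨_, this, ?_⟩
    simp

theorem Ws_le_ZJ (S : Subgroup G) : Ws p S ≤ ZJ (Cfsg.IsElementaryAbelian p) S := by
  rw [← omegaCenterThompson_map_eq]
  exact map_mono snc_le_oct

theorem Ws_elem (S : Subgroup G) : Cfsg.IsElementaryAbelian p (Ws p S) := by
  obtain ⟨A, hA⟩ := maxElem_nonempty p S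
  exact elemAb_mono hA.2.1 ((Ws_le_ZJ S).trans (ZJ_le hA))

/-- elements of `S` acting quadratically on `W(S)` centralise it. -/
theorem centralizes_of_quadratic {S : Subgroup G} (hS : IsPGroup p S) {x : G} (hx : x ∈ S)
    (hq : ⁅⁅Ws p S, zpowers x⁆, zpowers x⁆ = ⊥) : ∀ w ∈ Ws p S, x * w = w * x := by
  have h1 := Cfsg.Agent.S0623.result hS (⟨x, hx⟩ : ↥S) (by
    have hz : (zpowers (⟨x, hx⟩ : ↥S)).map S.subtype = zpowers x := by
      rw [MonoidHom.map_zpowers]; rfl
    rw [← Subgroup.map_eq_bot_iff_of_injective _ S.subtype_injective, map_commutator, map_commutator, hz]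
    exact hq)
  rintro _ ⟨w, hw, rfl⟩
  rw [commutator_eq_bot_iff_le_centralizer] at h1
  have := mem_centralizer_iff.1 (h1 hw) _ (mem_zpowers _)
  exact congrArg Subtype.val this

theorem main (hst : Cfsg.IsActionPStable p G)
    (hc : centralizer (Cfsg.pCore p G : Set G) ≤ Cfsg.pCore p G) (S : Sylow p G) :
    (Ws p (S : Subgroup G)).Normal := by
  have hOS : Cfsg.pCore p G ≤ (S : Subgroup G) := isPGroup_pCore.le_sylow_of_normal S
  have hSyl := isSyl_top_iff S
  set W := Ws p (S : Subgroup G) with hW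
  set O := Cfsg.pCore p G with hO
  have hWn := S_le_normalizer_Ws (p := p) (S : Subgroup G)
  have hWe := Ws_elem (p := p) (S : Subgroup G)
  have hWc : W ≤ centralizer (W : Set G) := (elemAb_iff.1 hWe).1
  -- W ≤ O
  have hWO : W ≤ O := by
    intro a ha
    obtain ⟨D, hDn, hKD, ⟨k, hk⟩, haD⟩ := hst.2.1 a (by
      have h1 : ⁅O, W⁆ ≤ W := le_normalizer_iff_commutator_le_right.1 (hOS.trans hWn)
      have h2 : ⁅⁅O, W⁆, W⁆ = ⊥ := by
        rw [commutator_eq_bot_iff_le_centralizer]; exact h1.trans hWc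
      have h3 := commutator_zpowers_quad_le (V := O) ha
      rw [h2, le_bot_iff] at h3
      rw [h3]; exact bot_le)
    have hDp : IsPGroup p D := isPGroup_of_relIndex (isPGroup_sectionKernel isPGroup_pCore hc) hKD hk
    exact le_pCore hDn hDp haD
  -- W is normal in N(J(S))
  have hWN : normalizer (J (Cfsg.IsElementaryAbelian p) (S : Subgroup G) : Set G) ≤ normalizer (W : Set G) := by
    obtain ⟨τ, hτ, hτs⟩ := stable_of_normalizer hst hc S
    have h1 := snc_map_normal hτs
    intro n hn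
    apply GlaubRepl2.mem_normalizer_of_conj_mem
    rintro _ ⟨w, hw, rfl⟩
    obtain ⟨v, hv, hvw⟩ := h1.conj_mem _ ⟨w, hw, rfl⟩ (⟨n, by rw [thompsonSubgroupOf_eq]; exact hn⟩)
    refine ⟨v, hv, ?_⟩
    have h2 := congrArg Subtype.val hvw
    simp only [hτ, Subgroup.coe_mul, Subgroup.coe_inv] at h2
    exact h2
  -- conjugates of W commute
  have hOn : ∀ g : G, O.map (MulAut.conj g).toMonoidHom = O := fun g =>
    conj_eq_of_mem_normalizer (by rw [Subgroup.normalizer_eq_top]; exact mem_top g)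
  have hconjO : ∀ g : G, W.map (MulAut.conj g).toMonoidHom ≤ O := by
    intro g
    have := conj_map_mono g hWO
    rwa [hOn] at this
  have hOconj : ∀ g : G, O ≤ normalizer ((W.map (MulAut.conj g).toMonoidHom : Subgroup G) : Set G) := by
    intro g
    rw [← normalizer_conj, ← hOn g]
    exact conj_map_mono g (hOS.trans hWn)
  have hcomm1 : ∀ g : G, ∀ w ∈ W, ∀ x ∈ W.map (MulAut.conj g).toMonoidHom, x * w = w * x := by
    intro g w hw x hx
    refine centralizes_of_quadratic S.2 (hOS (hconjO g hx)) ?_ w hw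
    have hz : zpowers x ≤ W.map (MulAut.conj g).toMonoidHom := by rwa [zpowers_le]
    have h1 : ⁅W, zpowers x⁆ ≤ W.map (MulAut.conj g).toMonoidHom :=
      (commutator_mono le_rfl hz).trans (le_normalizer_iff_commutator_le_right.1 (hWO.trans (hOconj g)))
    rw [commutator_eq_bot_iff_le_centralizer]
    have h2 : Cfsg.IsElementaryAbelian p (W.map (MulAut.conj g).toMonoidHom) := elemAb_map _ hWe
    exact h1.trans ((elemAb_iff.1 h2).1.trans (centralizer_le hz))
  have hcomm2 : ∀ g h : G, ∀ w ∈ W.map (MulAut.conj g).toMonoidHom,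
      ∀ x ∈ W.map (MulAut.conj h).toMonoidHom, x * w = w * x := by
    intro g h w hw x hx
    have hw' : g⁻¹ * w * g ∈ W := mem_conj_iff.1 hw
    have hx' : g⁻¹ * x * g ∈ W.map (MulAut.conj (g⁻¹ * h)).toMonoidHom := by
      rw [mem_conj_iff]
      have : (g⁻¹ * h)⁻¹ * (g⁻¹ * x * g) * (g⁻¹ * h) = h⁻¹ * x * h := by group
      rw [this]; exact mem_conj_iff.1 hx
    have h1 := hcomm1 (g⁻¹ * h) _ hw' _ hx'
    have h2 := congrArg (fun t => g * t * g⁻¹) h1
    simpa [mul_assoc] using h2
  set U := normalClosure (W : Set G) with hU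
  have hUn : U.Normal := normalClosure_normal
  have memconj : ∀ x ∈ Group.conjugatesOfSet (W : Set G), ∃ g : G, x ∈ W.map (MulAut.conj g).toMonoidHom := by
    intro x hx
    obtain ⟨z, hz, hzx⟩ := Group.mem_conjugatesOfSet_iff.1 hx
    obtain ⟨g, hg⟩ := isConj_iff.1 hzx
    exact ⟨g, z, hz, hg⟩
  have hUe : Cfsg.IsElementaryAbelian p U := by
    rw [elemAb_iff]
    have hcU : U ≤ centralizer (U : Set G) := by
      rw [hU, normalClosure, centralizer_closure, closure_le]
      intro x hx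
      obtain ⟨g, hg⟩ := memconj x hx
      show x ∈ centralizer _
      rw [mem_centralizer_iff]
      intro y hy
      obtain ⟨h, hh⟩ := memconj y hy
      exact hcomm2 g h x hg y hh
    refine ⟨hcU, ?_⟩
    intro x hx
    refine closure_induction (p := fun x _ => x ^ p = 1) ?_ ?_ ?_ ?_ hx
    · intro y hy
      obtain ⟨g, hg⟩ := memconj y hy
      exact (elemAb_map (MulAut.conj g).toMonoidHom hWe).2 y hg
    · simp
    · intro y z hy hz h1 h2
      have : Commute y z := mem_centralizer_iff.1 (hcU hz) y hy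
      rw [this.mul_pow, h1, h2, one_mul]
    · intro y _ h1
      rw [inv_pow, h1, inv_one]
  have hUO : U ≤ O := normalClosure_le_normal hWO
  have hWU : W ≤ U := subset_normalClosure
  -- J(S) centralises U
  have hJ : J (Cfsg.IsElementaryAbelian p) (S : Subgroup G) ≤ centralizer (U : Set G) := by
    apply sSup_le
    intro A hA
    by_contra hcon
    have hne : ⁅U, A⁆ ≠ ⊥ := by
      intro h
      rw [commutator_eq_bot_iff_le_centralizer, le_centralizer_iff] at h
      exact hcon h
    obtain ⟨h1, h2, h3⟩ := replacement_elem (hUO.trans hOS) hUe (by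
      rw [Subgroup.normalizer_eq_top]; exact le_top) hA
    have h3' := h3 hne
    set A0 := ⁅U, A⁆ ⊔ (A ⊓ centralizer ((⁅U, A⁆ : Subgroup G) : Set G)) with hA0
    apply h3'
    have hst1 := hst.1 U hUe
    rw [isPStableOn_iff] at hst1
    have hA0D : A0 ≤ (S : Subgroup G) ⊓ Dcore p (centralizer (U : Set G)) := by
      refine le_inf h1.1 ?_
      intro a ha
      apply hst1
      rw [eq_bot_iff, ← h2]
      exact commutator_zpowers_quad_le ha
    rw [commutator_eq_bot_iff_le_centralizer, hU, normalClosure, closure_le]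
    intro x hx
    show x ∈ centralizer _
    rw [mem_centralizer_iff]
    intro a ha
    obtain ⟨g, hg⟩ := memconj x hx
    obtain ⟨c, hc', l, hl, rfl⟩ := Dcore_frattini (p := p) (centralizer (U : Set G)) hSyl g
    have hxU : x ∈ U := subset_closure hx
    -- c centralises x
    have hx1 : l⁻¹ * x * l ∈ W := by
      have h5 := mem_conj_iff.1 hg
      have h6 : (c * l)⁻¹ * x * (c * l) = l⁻¹ * (c⁻¹ * x * c) * l := by group
      rw [h6] at h5
      have h7 : x * c = c * x := mem_centralizer_iff.1 hc' x hxU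
      have h8 : c⁻¹ * x * c = x := by rw [mul_assoc, h7]; group
      rwa [h8] at h5
    have ha1 : l⁻¹ * a * l ∈ J (Cfsg.IsElementaryAbelian p) (S : Subgroup G) := by
      have h5 : A0.map (MulAut.conj l⁻¹).toMonoidHom ≤ (S : Subgroup G) := by
        have := conj_map_mono l⁻¹ hA0D
        rw [conj_eq_of_mem_normalizer (inv_mem hl)] at this
        exact this.trans inf_le_left
      have h6 : A0.map (MulAut.conj l⁻¹).toMonoidHom ∈ maxIn (Cfsg.IsElementaryAbelian p) (S : Subgroup G) := by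
        refine ⟨h5, elemAb_map _ h1.2.1, ?_⟩
        intro B hB hBe
        rw [card_conj]
        exact h1.2.2 B hB hBe
      refine le_J h6 ?_
      rw [mem_conj_iff]
      have : (l⁻¹)⁻¹ * (l⁻¹ * a * l) * l⁻¹ = a := by group
      rwa [this]
    have h9 : (l⁻¹ * x * l) ∈ centralizer (J (Cfsg.IsElementaryAbelian p) (S : Subgroup G) : Set G) := by
      have h10 := Ws_le_ZJ (p := p) (S : Subgroup G) hx1
      rw [ZJ_elem_eq] at h10
      exact (omegaOne_le _ h10).2
    have h11 := mem_centralizer_iff.1 h9 _ ha1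
    have h12 := congrArg (fun t => l * t * l⁻¹) h11
    simpa [mul_assoc] using h12
  -- conclusion
  refine ⟨?_⟩
  intro w hw g
  obtain ⟨c, hc', n, hn, rfl⟩ := frattini_J hSyl (le_top : centralizer (U : Set G) ≤ ⊤)
    (by rw [Subgroup.normalizer_eq_top]) hJ (mem_top g)
  have h1 : n * w * n⁻¹ ∈ W := (mem_normalizer_iff.1 (hWN hn) w).1 hw
  have h2 : (n * w * n⁻¹) * c = c * (n * w * n⁻¹) := mem_centralizer_iff.1 hc' _ (hWU h1)
  have h3 : c * n * w * (c * n)⁻¹ = n * w * n⁻¹ := by
    have : c * n * w * (c * n)⁻¹ = c * (n * w * n⁻¹) * c⁻¹ := by group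
    rw [this, ← h2]; group
  rw [h3]
  exact h1

end main

end Cfsg.Agent.Lib.WNormal
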