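import Mathlib
import Cfsg.Prelude.Def_LocalStructure
import Cfsg.Agent.Lib.LocBase
import Cfsg.Agent.Lib.PIrred
import Cfsg.Agent.Lib.LocMore
import Cfsg.Agent.Lib.Gaschutz
import Cfsg.Agent.Lib.Subnormal

/-!
Wielandt: Sylow subgroups of the join of two subnormal subgroups (helper47).
-/

set_option autoImplicit false

namespace Cfsg.Agent.Lib.WielSyl

open Subgroup Cfsg Cfsg.Agent.Lib.LocBase Cfsg.Agent.Lib.PIrred Cfsg.Agent.Lib.LocMore
open Cfsg.Agent.Lib.Subnormal
open scoped commutatorElement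

universe u

theorem isSyl_subgroupOf {G : Type*} [Group G] [Finite G] {p : ℕ} [Fact p.Prime] {T N : Subgroup G}
    (hT : IsSyl p T N) : IsSyl p (T.subgroupOf N) ⊤ := by
  obtain ⟨P, hP⟩ := hT.exists_sylow
  rw [← hP]; exact isSyl_top P

theorem le_of_subgroupOf_le {G : Type*} [Group G] {N A B T : Subgroup G} (hA : A ≤ N) (hB : B ≤ N) (hT : T ≤ N)
    (h : T.subgroupOf N ≤ (T.subgroupOf N ⊓ A.subgroupOf N) ⊔ (T.subgroupOf N ⊓ B.subgroupOf N)) :
    T ≤ (T ⊓ A) ⊔ (T ⊓ B) := by
  have h1 := Subgroup.map_mono (f := N.subtype) h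
  rw [Subgroup.map_sup, map_subgroupOf_eq_of_le hT] at h1
  have e : ∀ C : Subgroup G, T.subgroupOf N ⊓ C.subgroupOf N = (T ⊓ C).subgroupOf N := by
    intro C; rfl
  rw [e, e, map_subgroupOf_eq_of_le (inf_le_left.trans hT), map_subgroupOf_eq_of_le (inf_le_left.trans hT)] at h1
  exact h1

theorem sup_subgroupOf_eq_top {G : Type*} [Group G] {N A B : Subgroup G} (hA : A ≤ N) (hB : B ≤ N)
    (h : A ⊔ B = N) : A.subgroupOf N ⊔ B.subgroupOf N = ⊤ := by
  rw [← Subgroup.subgroupOf_sup hA hB, h, Subgroup.subgroupOf_self]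

theorem dedekind {G : Type*} [Group G] [Finite G] {T R M : Subgroup G} (hR : R ≤ T) (hM : R ≤ normalizer (M : Set G))
    (h : T ≤ R ⊔ M) : T ≤ R ⊔ (T ⊓ M) := by
  intro t ht
  have h1 := h ht
  rw [sup_comm] at h1
  obtain ⟨m, hm, r, hr, rfl⟩ := exists_mul_of_mem_sup_of_le hM h1
  have : m ∈ T := by
    have := T.mul_mem ht (T.inv_mem (hR hr))
    simpa [mul_assoc] using this
  exact mul_mem (mem_sup_right ⟨this, hm⟩) (mem_sup_left hr)

theorem le_sup_inf_of_normal {G : Type*} [Group G] [Finite G] {p : ℕ} [Fact p.Prime] {X Y T : Subgroup G}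
    [X.Normal] [Y.Normal] (h : X ⊔ Y = ⊤) (hT : IsSyl p T ⊤) : T ≤ (T ⊓ X) ⊔ (T ⊓ Y) := by
  have hY : IsSyl p (T ⊓ Y) Y := hT.inf_normal le_top (by rw [normalizer_eq_top])
  have h1 := isSyl_map (QuotientGroup.mk' X) hY
  have h2 := isSyl_map (QuotientGroup.mk' X) hT
  have h3 : Y.map (QuotientGroup.mk' X) = (⊤ : Subgroup G).map (QuotientGroup.mk' X) := by
    rw [← h, Subgroup.map_sup]
    have : X.map (QuotientGroup.mk' X) = ⊥ := by
      rw [Subgroup.map_eq_bot_iff, QuotientGroup.ker_mk']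
    rw [this, bot_sup_eq]
  rw [h3] at h1
  have h4 := h1.eq_of_le h2.pgroup h2.le (Subgroup.map_mono inf_le_left)
  have h5 : T ≤ (T ⊓ Y) ⊔ X := by
    have := h4.ge
    rw [Subgroup.map_le_map_iff, QuotientGroup.ker_mk'] at this
    exact this
  rw [sup_comm]
  exact dedekind inf_le_left (by rw [normalizer_eq_top]; exact le_top) h5

theorem le_sup_inf_of_normal' {G : Type*} [Group G] [Finite G] {p : ℕ} [Fact p.Prime] {X Y N T : Subgroup G}
    (hX : N ≤ normalizer (X : Set G)) (hY : N ≤ normalizer (Y : Set G)) (h : X ⊔ Y = N) (hT : IsSyl p T N) :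
    T ≤ (T ⊓ X) ⊔ (T ⊓ Y) := by
  have hXN : X ≤ N := h ▸ le_sup_left
  have hYN : Y ≤ N := h ▸ le_sup_right
  have := normal_subgroupOf_of_le_normalizer hX
  have := normal_subgroupOf_of_le_normalizer hY
  exact le_of_subgroupOf_le hXN hYN hT.le
    (le_sup_inf_of_normal (sup_subgroupOf_eq_top hXN hYN h) (isSyl_subgroupOf hT))

/-- the statement proved by induction -/
def W (G : Type u) [Group G] : Prop := ∀ (p : ℕ) [Fact p.Prime] (A B T : Subgroup G), A.IsSubnormal →
  B.IsSubnormal → A ⊔ B = ⊤ → IsSyl p T ⊤ → T ≤ (T ⊓ A) ⊔ (T ⊓ B)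

theorem W.amb {G : Type u} [Group G] [Finite G] {H : Subgroup G} (hW : W ↥H) {p : ℕ} [Fact p.Prime]
    {A B T : Subgroup G} (hA : Subn A H) (hB : Subn B H) (h : A ⊔ B = H) (hT : IsSyl p T H) :
    T ≤ (T ⊓ A) ⊔ (T ⊓ B) :=
  le_of_subgroupOf_le hA.le hB.le hT.le (hW p _ _ _ ((subn_iff hA.le).mp hA) ((subn_iff hB.le).mp hB)
    (sup_subgroupOf_eq_top hA.le hB.le h) (isSyl_subgroupOf hT))

theorem W.quot {G : Type u} [Group G] [Finite G] {N : Subgroup G} [N.Normal] (hW : W (G ⧸ N)) {p : ℕ} [Fact p.Prime]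
    {A B T : Subgroup G} (hA : A.IsSubnormal) (hB : B.IsSubnormal) (h : A ⊔ B = ⊤) (hT : IsSyl p T ⊤) :
    T ≤ ((T ⊓ A) ⊔ (T ⊓ B)) ⊔ (T ⊓ N) := by
  have hs := QuotientGroup.mk'_surjective N
  have htop : (⊤ : Subgroup G).map (QuotientGroup.mk' N) = ⊤ := Subgroup.map_top_of_surjective _ hs
  have h2 := isSyl_map (QuotientGroup.mk' N) hT
  rw [htop] at h2
  have hsub : ∀ C : Subgroup G, C.IsSubnormal → Subn (C.map (QuotientGroup.mk' N)) ⊤ := by
    intro C hC
    have := (subn_top_iff.mpr hC).map (QuotientGroup.mk' N)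
    rwa [htop] at this
  have hC : ∀ C : Subgroup G, C.IsSubnormal → T.map (QuotientGroup.mk' N) ⊓ C.map (QuotientGroup.mk' N)
      = (T ⊓ C).map (QuotientGroup.mk' N) := by
    intro C hC
    have h1 := isSyl_map (QuotientGroup.mk' N) ((subn_top_iff.mpr hC).isSyl hT)
    exact (h1.eq_of_le (h2.pgroup.to_le inf_le_left) inf_le_right (Subgroup.map_inf_le _ _ _)).symm
  have h3 := hW p _ _ _ (subn_top_iff.mp (hsub A hA)) (subn_top_iff.mp (hsub B hB))
    (by rw [← Subgroup.map_sup, h, htop]) h2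
  rw [hC A hA, hC B hB, ← Subgroup.map_sup, Subgroup.map_le_map_iff, QuotientGroup.ker_mk'] at h3
  exact dedekind (sup_le inf_le_left inf_le_left) (by rw [normalizer_eq_top]; exact le_top) h3

theorem minNormal_case {G : Type u} [Group G] [Finite G] {p : ℕ} [Fact p.Prime] {A B T N : Subgroup G}
    (hA : A.IsSubnormal) (hB : B.IsSubnormal) (h : A ⊔ B = ⊤) (hT : IsSyl p T ⊤) (hN : IsMinNormal N)
    (hc : ¬ N ≤ center G) : T ⊓ N ≤ (T ⊓ A) ⊔ (T ⊓ B) := by
  have nA : N ≤ normalizer (A : Set G) := hN.le_normalizer hA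
  have nB : N ≤ normalizer (B : Set G) := hN.le_normalizer hB
  have := hN.1
  have nN : ∀ K : Subgroup G, K ≤ normalizer (N : Set G) := by
    intro K; rw [normalizer_eq_top]; exact le_top
  have key : ∀ A B : Subgroup G, ⁅N, B⁆ ≤ N → A ≤ normalizer ((⁅N, A⁆ ⊔ ⁅N, B⁆ : Subgroup G) : Set G) := by
    intro A B hle a ha
    apply mem_normalizer_of_map_conj_le
    rw [Subgroup.map_sup]
    apply sup_le
    · refine le_trans ?_ le_sup_left
      rw [map_conj_eq_of_mem]
      exact le_normalizer_commutator (nN A) le_normalizer ha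
    · rintro _ ⟨x, hx, rfl⟩
      simp only [MulEquiv.coe_toMonoidHom, MulAut.conj_apply]
      have h1 : ⁅a, x⁆ ∈ ⁅N, A⁆ := by
        rw [commutator_comm]; exact commutator_mem_commutator ha (hle hx)
      have h2 : a * x * a⁻¹ = ⁅a, x⁆ * x := by simp [commutatorElement_def]
      rw [h2]
      exact mul_mem (mem_sup_left h1) (mem_sup_right hx)
  have hXN : ⁅N, A⁆ ≤ N := commutator_le_left_of_le (nN A)
  have hYN : ⁅N, B⁆ ≤ N := commutator_le_left_of_le (nN B)
  have hXA : ⁅N, A⁆ ≤ A := commutator_le_right_of_le nA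
  have hYB : ⁅N, B⁆ ≤ B := commutator_le_right_of_le nB
  have hnorm : (⁅N, A⁆ ⊔ ⁅N, B⁆ : Subgroup G).Normal := by
    rw [← normalizer_eq_top_iff, ← top_le_iff, ← h]
    exact sup_le (key A B hYN) (by rw [sup_comm]; exact key B A hXN)
  by_cases h0 : (⁅N, A⁆ ⊔ ⁅N, B⁆ : Subgroup G) = ⊥
  · exfalso
    apply hc
    rw [sup_eq_bot_iff] at h0
    have h1 : (⊤ : Subgroup G) ≤ centralizer (N : Set G) := by
      rw [← h]
      apply sup_le
      · rw [← commutator_eq_bot_iff_le_centralizer, commutator_comm]; exact h0.1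
      · rw [← commutator_eq_bot_iff_le_centralizer, commutator_comm]; exact h0.2
    intro x hx
    rw [mem_center_iff]
    intro g
    exact ((mem_centralizer_iff.mp (h1 (mem_top g))) x hx).symm
  · have h1 := hN.2.2 _ hnorm (sup_le hXN hYN) h0
    have hTN : IsSyl p (T ⊓ N) N := hT.inf_normal le_top (nN ⊤)
    have h2 := le_sup_inf_of_normal' (le_normalizer_commutator le_normalizer nA)
      (le_normalizer_commutator le_normalizer nB) h1 hTN
    refine h2.trans (sup_le_sup ?_ ?_)
    · exact inf_le_inf inf_le_left hXA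
    · exact inf_le_inf inf_le_left hYB

theorem le_of_forall_isSyl_le {G : Type*} [Group G] [Finite G] {X K : Subgroup G}
    (h : ∀ (q : ℕ) [Fact q.Prime], q ∣ Nat.card X → ∀ Q, IsSyl q Q X → Q ≤ K) : X ≤ K := by
  rw [← Subgroup.relIndex_eq_one]
  by_contra hne
  obtain ⟨q, hq, hd⟩ := Nat.exists_prime_and_dvd hne
  have : Fact q.Prime := ⟨hq⟩
  obtain ⟨Q, hQ⟩ := exists_isSyl q X
  have h1 := h q (hd.trans (Subgroup.relIndex_dvd_card K X)) Q hQ
  apply hQ.ndvd
  refine hd.trans ?_
  have := Subgroup.relIndex_dvd_of_le_left (H := Q) (K := K) X h1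
  exact this

theorem step {G : Type u} [Group G] [Finite G]
    (ih : ∀ (H : Type u) [Group H] [Finite H], Nat.card H < Nat.card G → W H) : W G := by
  intro p hp A B T hA hB h hT
  have quot : ∀ (q : ℕ) [Fact q.Prime] (Q : Subgroup G), IsSyl q Q ⊤ → ∀ N : Subgroup G, IsMinNormal N →
      Q ≤ ((Q ⊓ A) ⊔ (Q ⊓ B)) ⊔ (Q ⊓ N) := by
    intro q _ Q hQ N hN
    have := hN.1
    refine W.quot (ih _ ?_) hA hB h hQ
    have h1 := Subgroup.card_eq_card_quotient_mul_card_subgroup N
    have h2 : 1 < Nat.card N := by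
      have := hN.2.1
      rw [Ne, ← Subgroup.card_eq_one] at this
      have := Nat.card_pos (α := N)
      omega
    rw [h1]
    exact lt_mul_of_one_lt_right Nat.card_pos h2
  by_cases hex : ∃ N : Subgroup G, IsMinNormal N ∧ T ⊓ N ≤ (T ⊓ A) ⊔ (T ⊓ B)
  · obtain ⟨N, hN, hle⟩ := hex
    exact (quot p T hT N hN).trans (sup_le le_rfl hle)
  push Not at hex
  rcases subsingleton_or_nontrivial G with hs | hnt
  · intro t _
    have : t = 1 := Subsingleton.elim _ _
    rw [this]; exact one_mem _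
  obtain ⟨N, hN⟩ := exists_isMinNormal (G := G)
  have := hN.1
  set R := (T ⊓ A) ⊔ (T ⊓ B) with hR
  have hRT : R ≤ T := sup_le inf_le_left inf_le_left
  have hcen : N ≤ center G := by
    by_contra hc
    exact hex N hN (minNormal_case hA hB h hT hN hc)
  have hsubN : ∀ K : Subgroup G, K ≤ N → K.Normal := by
    intro K hK
    refine ⟨fun x hx g => ?_⟩
    have := mem_center_iff.mp (hcen (hK hx)) g
    rw [this, mul_assoc, mul_inv_cancel, mul_one]
    exact hx
  have hTN : T ⊓ N = N := by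
    apply hN.2.2 _ (hsubN _ inf_le_right) inf_le_right
    intro h0
    apply hex N hN
    rw [h0]; exact bot_le
  have hNT : N ≤ T := by rw [← hTN]; exact inf_le_left
  have hNR : R ⊓ N = ⊥ := by
    by_contra h0
    have := hN.2.2 _ (hsubN _ inf_le_right) inf_le_right h0
    apply hex N hN
    rw [hTN, ← this]
    exact inf_le_left
  have hNp : IsPGroup p N := hT.pgroup.to_le hNT
  have : IsMulCommutative N := ⟨⟨fun x y => Subtype.ext ((mem_center_iff.mp (hcen y.2)) x)⟩⟩
  have hTR : N ⊔ R = T := by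
    apply le_antisymm (sup_le hNT hRT)
    have := quot p T hT N hN
    rw [hTN] at this
    rw [sup_comm]
    exact this
  have hTi : (Nat.card N).Coprime T.index := by
    obtain ⟨n, hn⟩ := IsPGroup.iff_card.mp hNp
    rw [hn]
    apply Nat.Coprime.pow_left
    rw [hp.out.coprime_iff_not_dvd]
    have := hT.ndvd
    rwa [Subgroup.relIndex_top_right] at this
  obtain ⟨C, hC⟩ := Gaschutz.exists_complement N T hNT hTi R hNR hTR
  have hCtop : N ⊔ C = ⊤ := hC.sup_eq_top
  have hCN : N ⊓ C = ⊥ := disjoint_iff.1 hC.disjoint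
  have hCn : C.Normal := by
    rw [← normalizer_eq_top_iff, ← top_le_iff, ← hCtop]
    apply sup_le _ le_normalizer
    exact hcen.trans (Subgroup.center_le_normalizer _)
  -- the p-residual is proper
  have hHC : pRes p (⊤ : Subgroup G) ≤ C := by
    rw [pRes_le_iff]
    intro x _ hx
    have h1 : x ∈ N ⊔ C := by rw [hCtop]; exact mem_top x
    obtain ⟨n, hn, c, hc, rfl⟩ := exists_mul_of_mem_sup_of_le (by rw [normalizer_eq_top]; exact le_top) h1
    obtain ⟨k, hk⟩ := (hNp ⟨n, hn⟩)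
    have hk' : n ^ p ^ k = 1 := by
      have := congrArg Subtype.val hk
      simpa using this
    have hcomm : Commute n c := ((mem_center_iff.mp (hcen hn)) c).symm
    apply mem_of_coprime_of_pow_mem hx (k := k)
    rw [hcomm.mul_pow, hk', one_mul]
    exact C.pow_mem hc _
  set H := pRes p (⊤ : Subgroup G) with hH
  have hHlt : Nat.card H < Nat.card G := by
    apply lt_of_le_of_lt (Subgroup.card_le_of_le hHC)
    rw [← Subgroup.card_top (G := G)]
    apply lt_of_le_of_ne (Subgroup.card_le_of_le le_top)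
    intro he
    have : C = ⊤ := Subgroup.eq_of_le_of_card_ge le_top he.ge
    rw [this, inf_top_eq] at hCN
    exact hN.2.1 hCN
  have hAt := subn_top_iff.mpr hA
  have hBt := subn_top_iff.mpr hB
  have hK : pRes p A ⊔ pRes p B = H := by
    apply le_antisymm (sup_le (pRes_mono le_top) (pRes_mono le_top))
    rw [pRes_le_iff]
    intro x _ hx
    have : zpowers x ≤ pRes p A ⊔ pRes p B := by
      apply le_of_forall_isSyl_le
      intro q hq hqd Q hQ
      have hqp : q ≠ p := by
        rintro rfl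
        rw [Nat.card_zpowers] at hqd
        exact hq.out.one_lt.ne' (Nat.dvd_one.mp (by rw [← hx.gcd_eq_one]; exact Nat.dvd_gcd hqd dvd_rfl))
      obtain ⟨S, hS, hQS⟩ := exists_isSyl_ge hQ.pgroup (le_top : Q ≤ ⊤)
      refine hQS.trans ((quot q S hS N hN).trans ?_)
      have h0 : S ⊓ N = ⊥ := by
        have := IsPGroup.disjoint_of_ne q p hqp S N hS.pgroup hNp
        exact disjoint_iff.mp this
      rw [h0, sup_bot_eq]
      have hmem : ∀ D : Subgroup G, S ⊓ D ≤ pRes p D := by
        intro D y hy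
        apply mem_pRes hy.2
        obtain ⟨m, hm⟩ := (hS.pgroup.to_le (inf_le_left : S ⊓ D ≤ S)).exists_card_eq
        have : orderOf y ∣ q ^ m := by
          rw [← hm, ← Subgroup.orderOf_mk y hy]
          exact orderOf_dvd_natCard _
        exact Nat.Coprime.coprime_dvd_left this (Nat.Coprime.pow_left _ ((Nat.coprime_primes hq.out hp.out).mpr hqp))
      exact sup_le_sup (hmem A) (hmem B)
    exact this (mem_zpowers x)
  have hHn : (⊤ : Subgroup G) ≤ normalizer (H : Set G) := le_normalizer_pRes p ⊤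
  have hTH : IsSyl p (T ⊓ H) H := hT.inf_normal le_top hHn
  have hsA : Subn (pRes p A) H := by
    have := (Subn.of_normal (pRes_le p A) (le_normalizer_pRes p A)).trans hAt
    exact this.of_le (pRes_mono le_top) le_top
  have hsB : Subn (pRes p B) H := by
    have := (Subn.of_normal (pRes_le p B) (le_normalizer_pRes p B)).trans hBt
    exact this.of_le (pRes_mono le_top) le_top
  have h1 : T ⊓ H ≤ R := by
    refine (W.amb (ih ↥H hHlt) hsA hsB hK hTH).trans (sup_le_sup ?_ ?_)
    · exact inf_le_inf inf_le_left (pRes_le p A)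
    · exact inf_le_inf inf_le_left (pRes_le p B)
  have h2 : T ≤ R ⊔ H := by
    refine le_trans (le_top : T ≤ ⊤) ?_
    refine h.ge.trans (sup_le ?_ ?_)
    · have := (hAt.isSyl hT).sup_pRes
      refine this.ge.trans (sup_le_sup le_sup_left (pRes_mono le_top))
    · have := (hBt.isSyl hT).sup_pRes
      refine this.ge.trans (sup_le_sup le_sup_right (pRes_mono le_top))
  exact (dedekind hRT (le_top.trans hHn) h2).trans (sup_le le_rfl h1)

theorem W_all_aux (n : ℕ) : ∀ (G : Type u) [Group G] [Finite G], Nat.card G = n → W G := by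
  induction n using Nat.strong_induction_on with
  | _ n ih =>
    intro G _ _ hn
    apply step
    intro H _ _ hlt
    exact ih _ (hn ▸ hlt) H rfl

theorem W_all (G : Type u) [Group G] [Finite G] : W G := W_all_aux _ G rfl

/-- Wielandt's theorem, ambient form. -/
theorem syl_sup {G : Type u} [Group G] [Finite G] {H A B T : Subgroup G} {p : ℕ} [Fact p.Prime]
    (hA : Subn A H) (hB : Subn B H) (hT : IsSyl p T H) : T ⊓ (A ⊔ B) = (T ⊓ A) ⊔ (T ⊓ B) := by
  apply le_antisymm
  · have hAB : Subn (A ⊔ B) H := by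
      rw [subn_iff (sup_le hA.le hB.le), Subgroup.subgroupOf_sup hA.le hB.le]
      exact isSubnormal_sup ((subn_iff hA.le).mp hA) ((subn_iff hB.le).mp hB)
    have h1 := hAB.isSyl hT
    refine (W.amb (W_all _) (hA.of_le le_sup_left hAB.le) (hB.of_le le_sup_right hAB.le) rfl h1).trans
      (sup_le_sup ?_ ?_)
    · exact inf_le_inf_right _ inf_le_left
    · exact inf_le_inf_right _ inf_le_left
  · exact sup_le (inf_le_inf_left _ le_sup_left) (inf_le_inf_left _ le_sup_right)

end Cfsg.Agent.Lib.WielSyl
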