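import Cfsg.Agent.Lib.TransferApps

set_option autoImplicit false

/-!
Wielandt's proof that the number of subgroups of order `p ^ β` is `1` modulo `p`.
-/

namespace Cfsg.Agent.Lib.WielandtCount

open MulAction
open scoped Pointwise

universe u v

/-- a `G`-stable family all of whose orbits have length divisible by `d` has cardinality divisible by `d` -/
theorem dvd_card_of_orbits {G : Type u} {α : Type v} [Group G] [MulAction G α] [Finite α] (P : α → Prop)
    (hP : ∀ (g : G) (a : α), P a → P (g • a)) (d : ℕ) (h : ∀ a, P a → d ∣ Nat.card (orbit G a)) :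
    d ∣ Nat.card {a // P a} := by
  classical
  let f : {a // P a} → Quotient (orbitRel G α) := fun a => Quotient.mk _ a.1
  have := Fintype.ofFinite (Quotient (orbitRel G α))
  have := Fintype.ofFinite {a // P a}
  rw [Nat.card_congr (Equiv.sigmaFiberEquiv f).symm, Nat.card_sigma]
  refine Finset.dvd_sum fun ω _ => ?_
  by_cases he : IsEmpty {a : {a // P a} // f a = ω}
  · simp
  · rw [not_isEmpty_iff] at he
    obtain ⟨⟨a, ha⟩, hω⟩ := he
    subst hω
    have e : Nat.card {b : {a // P a} // f b = f ⟨a, ha⟩} = Nat.card (orbit G a) := by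
      refine Nat.card_congr (Equiv.ofBijective (fun b => ⟨b.1.1, ?_⟩) ⟨?_, ?_⟩)
      · exact Quotient.exact b.2
      · rintro ⟨⟨b, hb⟩, hb'⟩ ⟨⟨c, hc⟩, hc'⟩ hbc
        have hbc' : b = c := congrArg Subtype.val hbc
        subst hbc'
        rfl
      · rintro ⟨b, ⟨g, rfl⟩⟩
        exact ⟨⟨⟨g • a, hP g a ha⟩, Quotient.sound ⟨g, rfl⟩⟩, rfl⟩
    rw [e]
    exact h a ha

theorem card_stabilizer_dvd {G : Type u} [Group G] [Finite G] (s : Set G) :
    Nat.card (stabilizer G s) ∣ s.ncard := by
  have h := dvd_card_of_orbits (G := stabilizer G s) (α := G) (fun g => g ∈ s) ?_ (Nat.card (stabilizer G s)) ?_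
  · exact h
  · rintro ⟨h, hh⟩ a ha
    have h1 : h • s = s := hh
    show h * a ∈ s
    rw [← h1]
    exact Set.smul_mem_smul_set ha
  · intro a _
    have h1 : Function.Injective (fun h : stabilizer G s => h • a) := by
      intro x y hxy
      have : (x : G) * a = (y : G) * a := hxy
      exact Subtype.ext (mul_right_cancel this)
    have h2 := Nat.card_range_of_injective h1
    unfold orbit
    rw [h2]

/-- the family of right cosets of subgroups of order `k` -/
theorem card_family {G : Type u} [Group G] [Finite G] (k : ℕ) :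
    Nat.card {s : Set G // s.ncard = k ∧ Nat.card (stabilizer G s) = k} * k =
      Nat.card {H : Subgroup G // Nat.card H = k} * Nat.card G := by
  classical
  set S := {s : Set G // s.ncard = k ∧ Nat.card (stabilizer G s) = k} with hS
  have hext : ∀ a b : (Σ s : S, s.1), a.1.1 = b.1.1 → (a.2 : G) = (b.2 : G) → a = b := by
    rintro ⟨⟨s, hs⟩, ⟨g, hg⟩⟩ ⟨⟨t, ht⟩, ⟨g', hg'⟩⟩ h1 h2
    simp only at h1 h2
    subst h1
    subst h2
    rfl
  have hstab : ∀ (H : Subgroup G) (g : G), stabilizer G ((H : Set G) * {g}) = H := by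
    intro H g
    ext x
    rw [mem_stabilizer_iff]
    constructor
    · intro hx
      have h1 : x * g ∈ x • ((H : Set G) * {g}) := by
        refine ⟨g, ?_, rfl⟩
        exact ⟨1, H.one_mem, g, rfl, one_mul g⟩
      rw [hx] at h1
      obtain ⟨y, hy, z, hz, hyz⟩ := h1
      rw [Set.mem_singleton_iff] at hz
      subst hz
      have := mul_right_cancel hyz
      rw [← this]
      exact hy
    · intro hx
      rw [← smul_mul_assoc]
      congr 1
      ext y
      rw [Set.mem_smul_set_iff_inv_smul_mem]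
      exact ⟨fun h => by simpa using H.mul_mem hx h, fun h => H.mul_mem (H.inv_mem hx) h⟩
  have hcard : ∀ (H : Subgroup G) (g : G), ((H : Set G) * {g}).ncard = Nat.card H := by
    intro H g
    rw [Set.mul_singleton]
    have : (fun x => x * g) '' (H : Set G) = (fun x => x * g) '' (H : Set G) := rfl
    rw [Set.ncard_image_of_injective _ (mul_left_injective g)]
    rfl
  have e : {H : Subgroup G // Nat.card H = k} × G ≃ Σ s : S, s.1 := by
    refine
      { toFun := fun x => ⟨⟨(x.1.1 : Set G) * {x.2}, ?_, ?_⟩, ⟨x.2, ?_⟩⟩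
        invFun := fun x => (⟨stabilizer G x.1.1, x.1.2.2⟩, x.2.1)
        left_inv := ?_
        right_inv := ?_ }
    · rw [hcard, x.1.2]
    · rw [hstab, x.1.2]
    · exact ⟨1, x.1.1.one_mem, x.2, rfl, one_mul _⟩
    · rintro ⟨⟨H, hH⟩, g⟩
      simp only [hstab]
    · intro x
      apply hext
      · show ((stabilizer G x.1.1 : Subgroup G) : Set G) * {(x.2 : G)} = x.1.1
        obtain ⟨⟨s, hs⟩, g, hg⟩ := x
        show ((stabilizer G s : Subgroup G) : Set G) * {g} = s
        refine Set.eq_of_subset_of_ncard_le ?_ ?_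
        · rintro _ ⟨y, hy, z, hz, rfl⟩
          rw [Set.mem_singleton_iff] at hz
          subst hz
          have h1 : y • s = s := hy
          show y * z ∈ s
          rw [← h1]
          exact ⟨z, hg, rfl⟩
        · rw [hcard, hs.1, hs.2]
      · rfl
  have h1 := Nat.card_congr e
  have := Fintype.ofFinite S
  rw [Nat.card_prod, Nat.card_sigma] at h1
  rw [h1]
  have h2 : ∀ s : S, Nat.card s.1 = k := fun s => s.2.1
  rw [Finset.sum_congr rfl (fun s _ => h2 s), Finset.sum_const, Finset.card_univ, smul_eq_mul,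
    Nat.card_eq_fintype_card]

theorem choose_modEq {G : Type u} [Group G] [Finite G] {p β m : ℕ} (hp : p.Prime)
    (hG : Nat.card G = p ^ β * m) :
    (Nat.card G).choose (p ^ β) ≡ Nat.card {H : Subgroup G // Nat.card H = p ^ β} * m [MOD p * m] := by
  classical
  have hk : 0 < p ^ β := pow_pos hp.pos _
  have h1 := card_family (G := G) (p ^ β)
  have h2 : Nat.card {s : Set G // s.ncard = p ^ β ∧ Nat.card (stabilizer G s) = p ^ β} =
      Nat.card {H : Subgroup G // Nat.card H = p ^ β} * m := by
    rw [hG, mul_comm (p ^ β) m, ← mul_assoc] at h1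
    exact Nat.eq_of_mul_eq_mul_right hk h1
  rw [← h2]
  have h3 : p * m ∣ Nat.card {s : Set G // s.ncard = p ^ β ∧ Nat.card (stabilizer G s) ≠ p ^ β} := by
    refine dvd_card_of_orbits (G := G) _ ?_ _ ?_
    · rintro g s ⟨hs1, hs2⟩
      refine ⟨?_, ?_⟩
      · rw [← hs1]
        exact Set.ncard_image_of_injective _ (MulAction.injective g)
      · rwa [MulAction.stabilizer_smul_eq_stabilizer_map_conj,
          Subgroup.card_map_of_injective (MulAut.conj g).injective]
    · rintro s ⟨hs1, hs2⟩
      have h4 := card_stabilizer_dvd s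
      rw [hs1] at h4
      obtain ⟨j, hj, hjs⟩ := (Nat.dvd_prime_pow hp).1 h4
      have hjlt : j < β := by
        refine lt_of_le_of_ne hj ?_
        rintro rfl
        exact hs2 hjs
      have h5 : Nat.card (orbit G s) * Nat.card (stabilizer G s) = Nat.card G := by
        rw [← Nat.card_prod]
        exact Nat.card_congr (orbitProdStabilizerEquivGroup G s)
      rw [hjs, hG] at h5
      have h6 : Nat.card (orbit G s) = p ^ (β - j) * m := by
        have h7 : p ^ β = p ^ (β - j) * p ^ j := by rw [← pow_add]; congr 1; omega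
        rw [h7] at h5
        have h8 : Nat.card (orbit G s) * p ^ j = (p ^ (β - j) * m) * p ^ j := by rw [h5]; ring
        exact Nat.eq_of_mul_eq_mul_right (pow_pos hp.pos _) h8
      rw [h6]
      exact Nat.mul_dvd_mul_right (dvd_pow_self p (by omega)) m
  have h4 : (Nat.card G).choose (p ^ β) =
      Nat.card {s : Set G // s.ncard = p ^ β ∧ Nat.card (stabilizer G s) = p ^ β} +
      Nat.card {s : Set G // s.ncard = p ^ β ∧ Nat.card (stabilizer G s) ≠ p ^ β} := by
    have h5 := Set.ncard_powerset_ncard (Set.finite_univ (α := G)) (p ^ β)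
    rw [Set.ncard_univ] at h5
    rw [← h5]
    have h6 : {t : Set G | t ⊆ Set.univ ∧ t.ncard = p ^ β} =
        {s : Set G | s.ncard = p ^ β ∧ Nat.card (stabilizer G s) = p ^ β} ∪
        {s : Set G | s.ncard = p ^ β ∧ Nat.card (stabilizer G s) ≠ p ^ β} := by
      ext t
      simp only [Set.subset_univ, true_and, Set.mem_setOf_eq, Set.mem_union]
      tauto
    rw [h6, Set.ncard_union_eq]
    · rfl
    · rw [Set.disjoint_left]
      rintro s ⟨_, h1⟩ ⟨_, h2⟩
      exact h2 h1
  rw [h4]
  exact (Nat.modEq_iff_dvd' (Nat.le_add_right _ _)).2 (by simpa using h3) |>.symm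

/-- in a cyclic group there is one subgroup of each order -/
theorem card_cyclic {C : Type u} [Group C] [Finite C] [IsCyclic C] {k : ℕ} (hk : k ∣ Nat.card C) :
    Nat.card {H : Subgroup C // Nat.card H = k} = 1 := by
  classical
  rw [Nat.card_eq_one_iff_unique]
  obtain ⟨g, hg⟩ := IsCyclic.exists_generator (α := C)
  obtain ⟨m, hm⟩ := hk
  have hpos : 0 < Nat.card C := Nat.card_pos
  have hk0 : 0 < k := Nat.pos_of_ne_zero (by rintro rfl; simp at hm; omega)
  have hm0 : 0 < m := Nat.pos_of_ne_zero (by rintro rfl; simp at hm; omega)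
  have hgo : orderOf g = Nat.card C := orderOf_eq_card_of_forall_mem_zpowers hg
  refine ⟨⟨fun H K => Subtype.ext ?_⟩, ⟨⟨Subgroup.zpowers (g ^ m), ?_⟩⟩⟩
  · exact Cfsg.Agent.Lib.TransferApps.cyclic_subgroup_eq_of_card (H.2.trans K.2.symm)
  · rw [Nat.card_zpowers, orderOf_pow_of_dvd hm0.ne' (by rw [hgo, hm]; exact Dvd.intro_left k rfl), hgo, hm,
      Nat.mul_div_cancel _ hm0]

theorem card_subgroups_modEq {G : Type u} [Group G] [Finite G] (p β : ℕ) (hp : p.Prime)
    (hdiv : p ^ β ∣ Nat.card G) : Nat.card {H : Subgroup G // Nat.card H = p ^ β} ≡ 1 [MOD p] := by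
  obtain ⟨m, hm⟩ := hdiv
  have hpos : 0 < Nat.card G := Nat.card_pos
  have hm0 : 0 < m := Nat.pos_of_ne_zero (by rintro rfl; simp at hm; omega)
  have h1 := choose_modEq hp hm
  have : NeZero (Nat.card G) := ⟨hpos.ne'⟩
  have hc : Nat.card (Multiplicative (ZMod (Nat.card G))) = Nat.card G := Nat.card_zmod _
  have h2 := choose_modEq (G := Multiplicative (ZMod (Nat.card G))) hp (hc.trans hm)
  rw [hc, card_cyclic (by rw [hc, hm]; exact Dvd.intro m rfl)] at h2
  have h3 := h1.symm.trans h2
  exact Nat.ModEq.mul_right_cancel' hm0.ne' h3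

end Cfsg.Agent.Lib.WielandtCount
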