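import Cfsg.Agent.Lib.WielandtCount
import Cfsg.Agent.Lib.UniqueInvolution

set_option autoImplicit false

/-!
* normal subgroups of order `p ^ s` of a `p`-group: their number is `1` mod `p`
* a `p`-group with one subgroup of order `p ^ s` is cyclic
-/

namespace Cfsg.Agent.Lib.WielandtCount2

open MulAction
open scoped Pointwise

universe u v

theorem normal_of_fixed {G : Type u} [Group G] (H : Subgroup G) (h : ∀ g : ConjAct G, g • H = H) : H.Normal := by
  constructor
  intro n hn g
  have h1 := h (ConjAct.toConjAct g)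
  rw [← h1]
  exact ⟨n, hn, by simp [ConjAct.toConjAct_smul]⟩

theorem card_normal_modEq {G : Type u} [Group G] [Finite G] (p m s : ℕ) (hp : p.Prime) (hG : Nat.card G = p ^ m)
    (hs : s ≤ m) : Nat.card {H : Subgroup G // H.Normal ∧ Nat.card H = p ^ s} ≡ 1 [MOD p] := by
  classical
  have := Fact.mk hp
  have h1 := WielandtCount.card_subgroups_modEq (G := G) p s hp (by rw [hG]; exact pow_dvd_pow p hs)
  have hP : IsPGroup p (ConjAct G) := IsPGroup.of_card (n := m) (by rw [← hG]; rfl)
  have h3 : p ∣ Nat.card {H : Subgroup G // ¬ H.Normal ∧ Nat.card H = p ^ s} := by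
    refine WielandtCount.dvd_card_of_orbits (G := ConjAct G) _ ?_ _ ?_
    · rintro g H ⟨h4, h5⟩
      refine ⟨?_, ?_⟩
      · intro h6
        apply h4
        have h7 : (g • H) = H := by
          have : H = g⁻¹ • (g • H) := by rw [inv_smul_smul]
          conv_rhs => rw [this]
          ext x
          rw [Subgroup.mem_inv_pointwise_smul_iff]
          constructor
          · intro hx
            have := h6.conj_mem _ hx (ConjAct.ofConjAct g)
            simpa [ConjAct.smul_def] using this
          · intro hx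
            have := h6.conj_mem _ hx (ConjAct.ofConjAct g)⁻¹
            simpa [ConjAct.smul_def, mul_assoc] using this
        rw [← h7]; exact h6
      · rw [← h5]
        exact Nat.card_congr (Subgroup.equivSMul g H).toEquiv.symm
    · rintro H ⟨h4, h5⟩
      obtain ⟨n, hn⟩ := hP.card_orbit H
      rw [hn]
      refine dvd_pow_self p ?_
      rintro rfl
      rw [pow_zero] at hn
      apply h4
      apply normal_of_fixed
      intro g
      have h6 : Subsingleton (orbit (ConjAct G) H) := (Nat.card_eq_one_iff_unique.1 hn).1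
      have h7 := h6.elim ⟨g • H, ⟨g, rfl⟩⟩ ⟨H, mem_orbit_self H⟩
      exact congrArg Subtype.val h7
  have h4 : Nat.card {H : Subgroup G // Nat.card H = p ^ s} =
      Nat.card {H : Subgroup G // H.Normal ∧ Nat.card H = p ^ s} +
      Nat.card {H : Subgroup G // ¬ H.Normal ∧ Nat.card H = p ^ s} := by
    have h6 : {H : Subgroup G | Nat.card H = p ^ s} =
        {H : Subgroup G | H.Normal ∧ Nat.card H = p ^ s} ∪
        {H : Subgroup G | ¬ H.Normal ∧ Nat.card H = p ^ s} := by
      ext t
      simp only [Set.mem_setOf_eq, Set.mem_union]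
      tauto
    have h7 : ({H : Subgroup G | Nat.card H = p ^ s}).ncard =
        ({H : Subgroup G | H.Normal ∧ Nat.card H = p ^ s}).ncard +
        ({H : Subgroup G | ¬ H.Normal ∧ Nat.card H = p ^ s}).ncard := by
      rw [h6, Set.ncard_union_eq]
      rw [Set.disjoint_left]
      rintro s ⟨h1, _⟩ ⟨h2, _⟩
      exact h2 h1
    exact h7
  rw [h4] at h1
  have h5 : Nat.card {H : Subgroup G // H.Normal ∧ Nat.card H = p ^ s} +
      Nat.card {H : Subgroup G // ¬ H.Normal ∧ Nat.card H = p ^ s} ≡
      Nat.card {H : Subgroup G // H.Normal ∧ Nat.card H = p ^ s} + 0 [MOD p] :=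
    Nat.ModEq.add_left _ ((Nat.modEq_zero_iff_dvd).2 h3)
  rw [add_zero] at h5
  exact h5.symm.trans h1

theorem isCyclic_of_unique {G : Type u} [Group G] [Finite G] (p m s : ℕ) (hp : p.Prime)
    (hG : Nat.card G = p ^ m) (hs : 1 ≤ s) (hsm : s < m) (h2 : p ≠ 2 ∨ 2 ≤ s)
    (huniq : ∀ H K : Subgroup G, Nat.card H = p ^ s → Nat.card K = p ^ s → H = K) : IsCyclic G := by
  classical
  have := Fact.mk hp
  have hPG : IsPGroup p G := IsPGroup.of_card hG
  obtain ⟨H, hH⟩ := Sylow.exists_subgroup_card_pow_prime (G := G) p (n := s)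
    (by rw [hG]; exact pow_dvd_pow p hsm.le)
  -- small elements lie in `H`
  have hsmall : ∀ (x : G) (k : ℕ), orderOf x = p ^ k → k ≤ s → x ∈ H := by
    intro x k hx hk
    obtain ⟨K, hK, hxK⟩ := Sylow.exists_subgroup_card_pow_prime_le (G := G) (n := k) (m := s) p
      (by rw [hG]; exact pow_dvd_pow p hsm.le) (Subgroup.zpowers x)
      (by rw [Nat.card_zpowers, hx]) hk
    rw [huniq H K hH hK]
    exact hxK (Subgroup.mem_zpowers x)
  -- `H` is cyclic
  have hcyc : ∃ g : G, H ≤ Subgroup.zpowers g := by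
    have hne : ∃ g : G, g ∉ H := by
      by_contra hcon
      push Not at hcon
      have h3 : H = ⊤ := by rw [eq_top_iff]; intro x _; exact hcon x
      rw [h3, Subgroup.card_top, hG] at hH
      exact absurd (Nat.pow_right_injective hp.two_le hH) (by omega)
    obtain ⟨g, hg⟩ := hne
    refine ⟨g, ?_⟩
    obtain ⟨k, hk⟩ := IsPGroup.iff_orderOf.1 hPG g
    have hks : s ≤ k := by
      by_contra hcon
      exact hg (hsmall g k hk (by omega))
    obtain ⟨K, hK⟩ := Sylow.exists_subgroup_card_pow_prime (G := Subgroup.zpowers g) p (n := s)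
      (by rw [Nat.card_zpowers, hk]; exact pow_dvd_pow p hks)
    have h4 := huniq H (K.map (Subgroup.zpowers g).subtype) hH
      (by rw [Subgroup.card_map_of_injective (Subgroup.subtype_injective _), hK])
    rw [h4]
    exact Subgroup.map_subtype_le K
  obtain ⟨g, hg⟩ := hcyc
  have hcomm : ∀ x ∈ H, ∀ y ∈ H, x * y = y * x := by
    intro x hx y hy
    obtain ⟨i, rfl⟩ := hg hx
    obtain ⟨j, rfl⟩ := hg hy
    exact (Commute.zpow_zpow (Commute.refl g) i j).eq
  have hordp : ∀ x y : G, orderOf x = p → orderOf y = p → y ∈ Subgroup.zpowers x := by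
    intro x y hx hy
    have hxH := hsmall x 1 (by rw [hx, pow_one]) hs
    have hyH := hsmall y 1 (by rw [hy, pow_one]) hs
    have hxg := hg hxH
    have hyg := hg hyH
    have h5 : (Subgroup.zpowers (⟨x, hxg⟩ : Subgroup.zpowers g)) = Subgroup.zpowers (⟨y, hyg⟩ : Subgroup.zpowers g) := by
      apply Cfsg.Agent.Lib.TransferApps.cyclic_subgroup_eq_of_card
      rw [Nat.card_zpowers, Nat.card_zpowers, Subgroup.orderOf_mk, Subgroup.orderOf_mk, hx, hy]
    have h6 : (⟨y, hyg⟩ : Subgroup.zpowers g) ∈ Subgroup.zpowers (⟨x, hxg⟩ : Subgroup.zpowers g) := by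
      rw [h5]; exact Subgroup.mem_zpowers _
    obtain ⟨i, hi⟩ := h6
    exact ⟨i, by simpa using congrArg Subtype.val hi⟩
  rcases UniqueInvolution.isCyclic_or_quaternion hPG hordp with h3 | ⟨h3, n, hn, ⟨e⟩⟩
  · exact h3
  · exfalso
    subst h3
    have hs2 : 2 ≤ s := by
      rcases h2 with h2 | h2
      · exact absurd rfl h2
      · exact h2
    have hmem : ∀ i : ZMod (2 * 2 ^ n), e.symm (QuaternionGroup.xa i) ∈ H := by
      intro i
      refine hsmall _ 2 ?_ hs2
      rw [MulEquiv.orderOf_eq, QuaternionGroup.orderOf_xa]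
      norm_num
    have h4 := hcomm _ (hmem 0) _ (hmem 1)
    rw [← map_mul, ← map_mul] at h4
    have h5 := e.symm.injective h4
    rw [QuaternionGroup.xa_mul_xa, QuaternionGroup.xa_mul_xa] at h5
    have h6 : ((2 ^ n : ℕ) : ZMod (2 * 2 ^ n)) + 1 - 0 = ((2 ^ n : ℕ) : ZMod (2 * 2 ^ n)) + 0 - 1 := by
      injection h5
    have h7 : ((2 : ℕ) : ZMod (2 * 2 ^ n)) = 0 := by
      push_cast
      linear_combination h6
    rw [ZMod.natCast_eq_zero_iff] at h7
    have h8 := Nat.le_of_dvd (by norm_num) h7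
    have h9 : 2 ^ 1 ≤ 2 ^ n := Nat.pow_le_pow_right (by norm_num) hn
    omega

end Cfsg.Agent.Lib.WielandtCount2
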