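import Mathlib
import Cfsg.Agent.Lib.NilPieces
import Cfsg.Agent.Lib.Kegel
import Cfsg.Agent.Lib.ProdHall
import Cfsg.Agent.Lib.Burnside
import Cfsg.Agent.S0558

/-!
Wielandt: a product of two nilpotent groups of coprime orders is solvable. (helper10)
-/

set_option autoImplicit false
set_option linter.unusedSectionVars false
set_option linter.unusedVariables false

namespace Cfsg.Agent.Lib.WielandtProd

open Subgroup Pointwise
open Cfsg.Agent.Lib.HallPi Cfsg.Agent.Lib.HallFactor Cfsg.Agent.Lib.NilpotentHall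
open Cfsg.Agent.Lib.NilPieces Cfsg.Agent.Lib.Kegel Cfsg.Agent.Lib.ProdHall Cfsg.Agent.Lib.Products
open Cfsg.Agent.Lib.LocBase (IsSyl)
open Cfsg.Agent.Lib.SubgroupTools (conj_smul_eq_map card_conj_smul
  conj_smul_mono conj_smul_le_iff mem_normalizer_iff_conj_smul conj_smul_of_mem_normalizer
  card_mul_relIndex_of_le)

universe u

variable {G : Type u} [Group G] [Finite G]

/-- minimal counterexample -/
structure Setup (A B : Subgroup G) : Prop where
  fac : ∀ g : G, ∃ a ∈ A, ∃ b ∈ B, g = a * b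
  nilA : Group.IsNilpotent A
  nilB : Group.IsNilpotent B
  cop : (Nat.card A).Coprime (Nat.card B)
  simple : ∀ N : Subgroup G, N.Normal → N = ⊥ ∨ N = ⊤
  nsol : ¬ Group.IsSolvable G
  ih : ∀ M : Subgroup G, M ≠ ⊤ → (∀ g ∈ M, ∃ a ∈ M ⊓ A, ∃ b ∈ M ⊓ B, g = a * b) →
    Group.IsSolvable M

variable {A B : Subgroup G}

theorem fac_symm {M A B : Subgroup G} (h : ∀ g ∈ M, ∃ a ∈ M ⊓ A, ∃ b ∈ M ⊓ B, g = a * b) :
    ∀ g ∈ M, ∃ b ∈ M ⊓ B, ∃ a ∈ M ⊓ A, g = b * a := by
  intro g hg
  obtain ⟨a, ha, b, hb, e⟩ := h g⁻¹ (M.inv_mem hg)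
  exact ⟨b⁻¹, inv_mem hb, a⁻¹, inv_mem ha, by rw [← mul_inv_rev, ← e, inv_inv]⟩

theorem Setup.symm (S : Setup A B) : Setup B A where
  fac := Lib.Products.symm S.fac
  nilA := S.nilB
  nilB := S.nilA
  cop := S.cop.symm
  simple := S.simple
  nsol := S.nsol
  ih := fun M hM h => S.ih M hM (fac_symm h)

theorem Setup.inf (S : Setup A B) : A ⊓ B = ⊥ :=
  Lib.SubgroupTools.inf_eq_bot_of_coprime' S.cop

theorem Setup.card (S : Setup A B) : Nat.card G = Nat.card A * Nat.card B := by
  have h := card_mul_card_inf S.fac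
  rwa [S.inf, card_bot, mul_one] at h

theorem Setup.A_ne_top (S : Setup A B) : A ≠ ⊤ := by
  intro h
  apply S.nsol
  have h1 := S.nilA
  rw [h] at h1
  have h2 : Group.IsNilpotent G := Group.nilpotent_of_mulEquiv Subgroup.topEquiv
  infer_instance

theorem Setup.A_ne_bot (S : Setup A B) : A ≠ ⊥ := by
  intro h
  apply S.symm.A_ne_top
  rw [eq_top_iff]
  intro g _
  obtain ⟨a, ha, b, hb, rfl⟩ := S.fac g
  rw [h, mem_bot] at ha
  rw [ha, one_mul]; exact hb

theorem Setup.index (S : Setup A B) : A.index = Nat.card B := by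
  have h1 := A.card_mul_index
  rw [S.card] at h1
  exact Nat.eq_of_mul_eq_mul_left Nat.card_pos h1

theorem Setup.hall (S : Setup A B) : (Nat.card A).Coprime A.index := by
  rw [S.index]; exact S.cop

theorem Setup.prime_or (S : Setup A B) {r : ℕ} (hr : r.Prime) (h : r ∣ Nat.card G) :
    r ∣ Nat.card A ∨ r ∣ Nat.card B := by
  rw [S.card] at h
  exact hr.dvd_mul.mp h

theorem Setup.not_both (S : Setup A B) {r : ℕ} (hr : r.Prime) (h1 : r ∣ Nat.card A)
    (h2 : r ∣ Nat.card B) : False :=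
  hr.one_lt.ne' (Nat.dvd_one.mp (S.cop ▸ Nat.dvd_gcd h1 h2))

theorem Setup.centralizer_ne_top (S : Setup A B) {x : G} (hx : x ≠ 1) :
    centralizer {x} ≠ ⊤ := by
  intro h
  have h1 : x ∈ center G := by
    rw [mem_center_iff]
    intro g
    have : g ∈ centralizer {x} := by rw [h]; trivial
    exact mem_centralizer_singleton_iff.mp this
  rcases S.simple (center G) inferInstance with h2 | h2
  · rw [h2, mem_bot] at h1; exact hx h1
  · apply S.nsol
    exact Group.isSolvable_of_comm fun a b => by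
      have : b ∈ center G := by rw [h2]; trivial
      exact mem_center_iff.mp this a

theorem Setup.normalizer_ne_top (S : Setup A B) {R : Subgroup G} (hR : R ≠ ⊥) (hR' : R ≤ A) :
    normalizer (R : Set G) ≠ ⊤ := by
  intro h
  have hn : R.Normal := normalizer_eq_top_iff.mp h
  rcases S.simple R hn with h1 | h1
  · exact hR h1
  · exact S.A_ne_top (top_le_iff.mp (h1 ▸ hR'))

theorem Setup.normalizer_ne_top' (S : Setup A B) {R : Subgroup G} (hR : R ≠ ⊥) (hR' : R ≠ ⊤) :
    normalizer (R : Set G) ≠ ⊤ := by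
  intro h
  have hn : R.Normal := normalizer_eq_top_iff.mp h
  rcases S.simple R hn with h1 | h1
  · exact hR h1
  · exact hR' h1

theorem Setup.exists_prime (S : Setup A B) : ∃ r : ℕ, r.Prime ∧ r ∣ Nat.card A := by
  apply Nat.exists_prime_and_dvd
  rw [ne_eq, card_eq_one]
  exact S.A_ne_bot

/-- `|A|` is divisible by two primes (Burnside's theorem on classes of prime power length). -/
theorem Setup.second_prime (S : Setup A B) (r : ℕ) : ∃ t : ℕ, t.Prime ∧ t ∣ Nat.card A ∧ t ≠ r := by
  by_contra hcon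
  push Not at hcon
  obtain ⟨k, hk⟩ : ∃ k : ℕ, Nat.card A = r ^ k :=
    ⟨_, Nat.eq_prime_pow_of_unique_prime_dvd Nat.card_pos.ne' (fun {d} hd hdd => hcon d hd hdd)⟩
  obtain ⟨s, hs, hsA⟩ := S.exists_prime
  have hr : r.Prime := by
    have := hcon s hs hsA
    rwa [this] at hs
  obtain ⟨q, hq, hqB⟩ := S.symm.exists_prime
  have : Fact q.Prime := ⟨hq⟩
  obtain ⟨y, hy, hyo, hyc⟩ := exists_central S.nilB hqB
  have hy1 : y ≠ 1 := by
    rintro rfl
    rw [orderOf_one] at hyo
    exact hq.one_lt.ne hyo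
  have hidx : (centralizer ({y} : Set G)).index ∣ r ^ k := by
    rw [← hk, ← S.symm.index]
    exact index_dvd_of_le hyc
  obtain ⟨j, -, hj⟩ := (Nat.dvd_prime_pow hr).mp hidx
  have hnt : Nontrivial G := ⟨⟨y, 1, hy1⟩⟩
  have hsimple : IsSimpleGroup G := ⟨fun N hN => S.simple N hN⟩
  have hp := Lib.Burnside.prime_card_of_class_prime_pow r j hr y hy1 hj
  apply S.nsol
  have : Fact (Nat.card G).Prime := ⟨hp⟩
  have hcyc : IsCyclic G := isCyclic_of_prime_card rfl
  exact Group.isSolvable_of_comm fun a b => hcyc.isMulCommutative.is_comm.comm a b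

theorem Setup.hc_ne_bot (S : Setup A B) (r : ℕ) [hr : Fact r.Prime] : hc r A ≠ ⊥ := by
  obtain ⟨t, ht, htA, htr⟩ := S.second_prime r
  have : Fact t.Prime := ⟨ht⟩
  exact Lib.NilPieces.hc_ne_bot htr S.nilA htA

theorem Setup.fac_of_ge (S : Setup A B) {M : Subgroup G} (hM : A ≤ M) :
    ∀ g ∈ M, ∃ a ∈ M ⊓ A, ∃ b ∈ M ⊓ B, g = a * b := by
  intro g hg
  obtain ⟨a, ha, b, hb, e⟩ := dedekind_left S.fac hM g hg
  exact ⟨a, mem_inf.mpr ⟨hM ha, ha⟩, b, hb, e⟩

/-- proper overgroups of `A` contain no nontrivial normal subgroup of `B` -/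
theorem Setup.eq_bot_of_le (S : Setup A B) {M B1 : Subgroup G} (hM : A ≤ M) (hMt : M ≠ ⊤)
    (hB : B ≤ normalizer (B1 : Set G)) (hB1 : B1 ≤ M) : B1 = ⊥ := by
  by_contra hne
  have h1 : normalClosure (B1 : Set G) ≤ M := by
    rw [normalClosure, closure_le]
    intro x hx
    obtain ⟨y, hy, hyx⟩ := Group.mem_conjugatesOfSet_iff.mp hx
    obtain ⟨g, rfl⟩ := isConj_iff.mp hyx
    obtain ⟨a, ha, b, hb, rfl⟩ := S.fac g
    have h2 : b * y * b⁻¹ ∈ B1 := (mem_normalizer_iff.mp (hB hb) y).mp hy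
    have h3 : a * b * y * (a * b)⁻¹ = a * (b * y * b⁻¹) * a⁻¹ := by group
    rw [h3]
    exact M.mul_mem (M.mul_mem (hM ha) (hB1 h2)) (M.inv_mem (hM ha))
  rcases S.simple (normalClosure (B1 : Set G)) normalClosure_normal with h2 | h2
  · apply hne
    rw [eq_bot_iff, ← h2]
    exact le_normalClosure
  · exact hMt (top_le_iff.mp (h2 ▸ h1))

/-- Kegel -/
theorem Setup.not_permutes (S : Setup A B) {A1 B1 : Subgroup G} (hA : A ≤ normalizer (A1 : Set G))
    (hB : B ≤ normalizer (B1 : Set G)) (hA1 : A1 ≠ ⊥) (hB1 : B1 ≠ ⊥) (hA1A : A1 < A)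
    (hB1B : B1 ≤ B) : ¬ Permutes A1 B1 := by
  intro hp
  have hall : ∀ x : G, ∃ g : G, MulAut.conj x • B1 = MulAut.conj g • B1 ∧
      A1 = MulAut.conj g • A1 ∧ Permutes A1 (MulAut.conj x • B1) := by
    intro x
    obtain ⟨g, h1, h2, h3⟩ := permutes_conj_of_permutes S.fac hA hB hp 1 x
    rw [map_one, one_smul] at h1 h3
    exact ⟨g, h2, h1, h3⟩
  obtain ⟨N, hN, hNt, hle⟩ := kegel (A := A1) (B := B1) (fun x => (hall x).choose_spec.2.2) (by
    intro x
    obtain ⟨g, h1, h2, h3⟩ := hall x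
    intro htop
    have h4 := card_mul_card_inf (H := A1) (K := MulAut.conj x • B1) (by
      intro y
      have : y ∈ A1 ⊔ MulAut.conj x • B1 := by rw [htop]; trivial
      exact h3.mem_sup.mp this)
    have h5 : Nat.card A1 < Nat.card A := by
      apply lt_of_le_of_ne (card_le_of_le hA1A.le)
      intro h
      exact hA1A.ne (Subgroup.eq_of_le_of_card_ge hA1A.le h.ge)
    have h6 : Nat.card B1 ≤ Nat.card B := card_le_of_le hB1B
    rw [card_conj_smul, S.card] at h4
    have h7 : 0 < Nat.card (A1 ⊓ MulAut.conj x • B1 : Subgroup G) := Nat.card_pos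
    have h8 : 0 < Nat.card B := Nat.card_pos
    have h9 : 0 < Nat.card B1 := Nat.card_pos
    have h10 : Nat.card A1 * Nat.card B1 < Nat.card A * Nat.card B :=
      calc Nat.card A1 * Nat.card B1 < Nat.card A * Nat.card B1 := Nat.mul_lt_mul_of_pos_right h5 h9
        _ ≤ Nat.card A * Nat.card B := Nat.mul_le_mul_left _ h6
    have h11 : Nat.card A * Nat.card B ≤
        Nat.card A * Nat.card B * Nat.card (A1 ⊓ MulAut.conj x • B1 : Subgroup G) :=
      Nat.le_mul_of_pos_right _ h7
    rw [h4] at h11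
    exact absurd h11 (not_le_of_gt h10))
  rcases S.simple N hN with h1 | h1
  · rcases hle with h | h
    · exact hA1 (le_bot_iff.mp (h1 ▸ h))
    · exact hB1 (le_bot_iff.mp (h1 ▸ h))
  · exact hNt h1

theorem Setup.normalizer_fac (S : Setup A B) {A1 B1 : Subgroup G}
    (hA : A ≤ normalizer (A1 : Set G)) (hB : B ≤ normalizer (B1 : Set G)) :
    ∀ g ∈ normalizer ((A1 ⊔ B1 : Subgroup G) : Set G),
      ∃ a ∈ normalizer ((A1 ⊔ B1 : Subgroup G) : Set G) ⊓ A,
      ∃ b ∈ normalizer ((A1 ⊔ B1 : Subgroup G) : Set G) ⊓ B, g = a * b :=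
  normalizer_factor S.fac hA hB

/-- normal `r`-subgroups of factorised subgroups -/
theorem Setup.le_of_normal (S : Setup A B) {M R : Subgroup G} {r : ℕ} [hr : Fact r.Prime]
    (hM : ∀ g ∈ M, ∃ a ∈ M ⊓ A, ∃ b ∈ M ⊓ B, g = a * b) (hRM : R ≤ M)
    (hMR : M ≤ normalizer (R : Set G)) (hR : IsPGroup r R) (hrA : r ∣ Nat.card A) : R ≤ A := by
  have h1 := card_mul_card_inf (subgroupOf_factor hM)
  have h2 : A.subgroupOf M ⊓ B.subgroupOf M = ⊥ := by
    rw [subgroupOf, subgroupOf, ← comap_inf, S.inf]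
    exact bot_subgroupOf M
  rw [h2, card_bot, mul_one] at h1
  have h3 : A.relIndex M = Nat.card (B.subgroupOf M) := by
    have h4 := (A.subgroupOf M).card_mul_index
    rw [h1] at h4
    exact Nat.eq_of_mul_eq_mul_left Nat.card_pos h4
  have h4 : A.relIndex M ∣ Nat.card B := by
    rw [h3, Lib.SubgroupTools.card_subgroupOf]
    exact card_dvd_of_le inf_le_left
  -- `|R : R ∩ A|`
  have h5 : (A ⊓ M).relIndex R ∣ A.relIndex M := by
    have h6 : (A ⊓ M).relIndex R = (A ⊓ M).relIndex (R ⊔ (A ⊓ M)) :=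
      relIndex_eq_relIndex_sup (inf_le_right.trans hMR)
    rw [h6, ← inf_relIndex_right A M]
    exact ⟨_, (relIndex_mul_relIndex (A ⊓ M) (R ⊔ (A ⊓ M)) M le_sup_right
      (sup_le hRM inf_le_right)).symm⟩
  obtain ⟨k, hk⟩ := IsPGroup.iff_card.mp hR
  have h7 : (A ⊓ M).relIndex R ∣ r ^ k := by rw [← hk]; exact relIndex_dvd_card _ _
  have h8 : (A ⊓ M).relIndex R = 1 := by
    by_contra hne
    obtain ⟨t, ht, htd⟩ := Nat.exists_prime_and_dvd hne
    have e1 : t = r := (Nat.prime_dvd_prime_iff_eq ht hr.out).mp (ht.dvd_of_dvd_pow (htd.trans h7))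
    subst e1
    exact S.not_both ht hrA ((htd.trans h5).trans h4)
  exact (relIndex_eq_one.mp h8).trans inf_le_left

/-! ### Case 1 -/

theorem le_normalizer_hc_sup {r : ℕ} (A B1 : Subgroup G) :
    hc r A ⊔ B1 ≤ normalizer ((hc r A ⊔ B1 : Subgroup G) : Set G) := le_normalizer

theorem Setup.sy_lt (S : Setup A B) (t : ℕ) [ht : Fact t.Prime] : sy t A < A := by
  obtain ⟨r, hr, hrA, hrt⟩ := S.second_prime t
  refine lt_of_le_of_ne (sy_le t A) ?_
  intro h
  have h1 := sy_pgroup t A
  rw [h] at h1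
  obtain ⟨k, hk⟩ := IsPGroup.iff_card.mp h1
  rw [hk] at hrA
  exact hrt ((Nat.prime_dvd_prime_iff_eq hr ht.out).mp (hr.dvd_of_dvd_pow hrA))

/-- `⟨A_{r'}, B_{q'}⟩ = G` -/
theorem Setup.hc_sup_hc (S : Setup A B) (r q : ℕ) [hr : Fact r.Prime] [hq : Fact q.Prime] :
    hc r A ⊔ hc q B = ⊤ := by
  by_contra hne
  set H := hc r A ⊔ hc q B with hH
  set L := normalizer (H : Set G) with hL
  have hHne : H ≠ ⊥ := by
    intro h
    have h1 : hc r A ≤ ⊥ := h ▸ le_sup_left
    exact S.hc_ne_bot r (le_bot_iff.mp h1)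
  have hLt : L ≠ ⊤ := S.normalizer_ne_top' hHne hne
  have hfac := S.normalizer_fac (hc_norm r A) (hc_norm q B)
  have hLs := S.ih L hLt hfac
  obtain ⟨t, ht, htA, htr⟩ := S.second_prime r
  obtain ⟨s, hs, hsB, hsq⟩ := S.symm.second_prime q
  have : Fact t.Prime := ⟨ht⟩
  have : Fact s.Prime := ⟨hs⟩
  have hAtL : sy t A ≤ L := (sy_le_hc htr S.nilA).trans (le_sup_left.trans le_normalizer)
  have hBsL : sy s B ≤ L := (sy_le_hc hsq S.nilB).trans (le_sup_right.trans le_normalizer)
  -- Sylow in `G`, hence Hall in `L`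
  have hhall : ∀ {t : ℕ} [Fact t.Prime] {P : Subgroup G}, IsSyl t P ⊤ → P ≤ L →
      (Nat.card (P.subgroupOf L)).Coprime (P.subgroupOf L).index := by
    intro t ht P hP hPL
    have h1 := hP.of_le hPL le_top
    rw [Lib.SubgroupTools.card_subgroupOf_of_le hPL]
    obtain ⟨k, hk⟩ := IsPGroup.iff_card.mp hP.pgroup
    rw [hk]
    exact Nat.Coprime.pow_left k ((Nat.Prime.coprime_iff_not_dvd ht.out).mpr h1.ndvd)
  have hAt := isSyl_top_of_hall S.hall htA (isSyl_sy (r := t) S.nilA)
  have hBs := isSyl_top_of_hall S.symm.hall hsB (isSyl_sy (r := s) S.nilB)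
  have hnorm : ∀ {A P : Subgroup G}, A ≤ normalizer (P : Set G) → P ≤ L →
      A.subgroupOf L ≤ normalizer ((P.subgroupOf L : Subgroup L) : Set L) := by
    intro A P h hPL x hx
    rw [mem_normalizer_iff]
    intro y
    exact mem_normalizer_iff.mp (h hx) (y : G)
  have h1 := permutes_aux _ L le_rfl (A.subgroupOf L) (B.subgroupOf L) ((sy t A).subgroupOf L)
    ((sy s B).subgroupOf L) (subgroupOf_factor hfac) (hnorm (sy_norm t A) hAtL)
    (hnorm (sy_norm s B) hBsL) (hhall hAt hAtL) (hhall hBs hBsL)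
  apply S.not_permutes (sy_norm t A) (sy_norm s B) (sy_ne_bot S.nilA htA) (sy_ne_bot S.nilB hsB)
    (S.sy_lt t) (sy_le s B)
  intro w hw x hx
  obtain ⟨x', hx', w', hw', e⟩ := h1 ⟨w, hBsL hw⟩ hw ⟨x, hAtL hx⟩ hx
  exact ⟨x', hx', w', hw', congrArg Subtype.val e⟩

theorem isNilpotent_to_solvable {A : Subgroup G} (h : Group.IsNilpotent A) : Group.IsSolvable A :=
  inferInstance

theorem Setup.hc_sup (S : Setup A B) {B1 : Subgroup G} (r : ℕ) [hr : Fact r.Prime]
    (hB : B ≤ normalizer (B1 : Set G)) (hB1 : B1 ≠ ⊥) : hc r A ⊔ B1 = ⊤ := by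
  by_contra hne
  set H := hc r A ⊔ B1 with hH
  set L := normalizer (H : Set G) with hL
  have hHne : H ≠ ⊥ := by
    intro h
    have h1 : B1 ≤ ⊥ := h ▸ le_sup_right
    exact hB1 (le_bot_iff.mp h1)
  have hLt : L ≠ ⊤ := S.normalizer_ne_top' hHne hne
  have hfac := S.normalizer_fac (hc_norm r A) hB
  have hLs := S.ih L hLt hfac
  have hHL : H ≤ L := le_normalizer
  have hsyL : ∀ s : ℕ, s.Prime → s ≠ r → sy s L = ⊥ := by
    intro s hs hsr
    have : Fact s.Prime := ⟨hs⟩
    by_contra hsne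
    have hsL : s ∣ Nat.card G := by
      obtain ⟨k, hk⟩ := IsPGroup.iff_card.mp (sy_pgroup s L)
      have hk0 : k ≠ 0 := by
        rintro rfl
        rw [pow_zero, card_eq_one] at hk
        exact hsne hk
      have h4 : s ∣ Nat.card (sy s L) := by rw [hk]; exact dvd_pow_self _ hk0
      exact h4.trans (card_subgroup_dvd_card _)
    rcases S.prime_or hs hsL with hsA | hsB
    · -- `s ∈ π(A)`
      have hR : sy s L ≤ A := S.le_of_normal hfac (sy_le s L) (sy_norm s L) (sy_pgroup s L) hsA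
      have h1 : A ≤ normalizer (sy s L : Set G) := by
        rw [← sy_sup_hc (r := s) S.nilA]
        refine sup_le ?_ ?_
        · exact (sy_le_hc hsr S.nilA).trans (le_sup_left.trans (hHL.trans (sy_norm s L)))
        · exact (hc_cent S.nilA hR (sy_pgroup s L)).trans (centralizer_le_normalizer _)
      have h2 : normalizer (sy s L : Set G) ≠ ⊤ := S.normalizer_ne_top hsne hR
      exact hB1 (S.eq_bot_of_le h1 h2 hB (le_sup_right.trans (hHL.trans (sy_norm s L))))
    · have hR : sy s L ≤ B :=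
        S.symm.le_of_normal (fac_symm hfac) (sy_le s L) (sy_norm s L) (sy_pgroup s L) hsB
      have h2 : normalizer (sy s L : Set G) ≠ ⊤ := S.symm.normalizer_ne_top hsne hR
      apply h2
      rw [eq_top_iff, ← S.hc_sup_hc r s]
      refine sup_le ?_ ?_
      · exact le_sup_left.trans (hHL.trans (sy_norm s L))
      · exact (hc_cent S.nilB hR (sy_pgroup s L)).trans (centralizer_le_normalizer _)
  have hF : ∀ s : ℕ, s.Prime → sy s L ≤ sy r L := by
    intro s hs
    by_cases hsr : s = r
    · rw [hsr]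
    · rw [hsyL s hs hsr]; exact bot_le
  have hrA : sy r L ≠ ⊥ → r ∣ Nat.card A ∨ r ∣ Nat.card B := by
    intro hsne
    apply S.prime_or hr.out
    obtain ⟨k, hk⟩ := IsPGroup.iff_card.mp (sy_pgroup r L)
    have hk0 : k ≠ 0 := by
      rintro rfl
      rw [pow_zero, card_eq_one] at hk
      exact hsne hk
    have h4 : r ∣ Nat.card (sy r L) := by rw [hk]; exact dvd_pow_self _ hk0
    exact h4.trans (card_subgroup_dvd_card _)
  have hLne : L ≠ ⊥ := by
    intro h
    exact hHne (le_bot_iff.mp (h ▸ hHL))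
  have hrne : sy r L ≠ ⊥ := by
    obtain ⟨s, hs, hsL, hsne⟩ := exists_sy_ne_bot hLs hLne
    by_cases hsr : s = r
    · rwa [hsr] at hsne
    · exact absurd (hsyL s hs hsr) hsne
  rcases hrA hrne with hrA | hrB
  · have hR : sy r L ≤ A := S.le_of_normal hfac (sy_le r L) (sy_norm r L) (sy_pgroup r L) hrA
    have h1 : hc r A ≤ centralizer (sy r L : Set G) := hc_cent S.nilA hR (sy_pgroup r L)
    have h2 : hc r A ≤ sy r L := by
      intro x hx
      exact map_fitting_le hF (mem_of_centralizer hLs hF (hHL (mem_sup_left hx)) (h1 hx))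
    apply S.hc_ne_bot r
    rw [eq_bot_iff]
    have h3 : hc r A ⊓ sy r L = ⊥ := by
      apply Lib.SubgroupTools.inf_eq_bot_of_coprime'
      obtain ⟨k, hk⟩ := IsPGroup.iff_card.mp (sy_pgroup r L)
      rw [hk]
      exact (hc_coprime r A).pow_right k
    rw [← h3]
    exact le_inf le_rfl h2
  · have hR : sy r L ≤ B :=
      S.symm.le_of_normal (fac_symm hfac) (sy_le r L) (sy_norm r L) (sy_pgroup r L) hrB
    have h2 : normalizer (sy r L : Set G) ≠ ⊤ := S.symm.normalizer_ne_top hrne hR
    apply h2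
    rw [eq_top_iff, ← S.hc_sup_hc r r]
    refine sup_le ?_ ?_
    · exact le_sup_left.trans (hHL.trans (sy_norm r L))
    · exact (hc_cent S.nilB hR (sy_pgroup r L)).trans (centralizer_le_normalizer _)

/-- **Case 1 is impossible**: nontrivial normal subgroups of `A` and `B` generate `G`. -/
theorem Setup.sup_eq_top (S : Setup A B) {A1 B1 : Subgroup G} (hA : A ≤ normalizer (A1 : Set G))
    (hB : B ≤ normalizer (B1 : Set G)) (hA1 : A1 ≠ ⊥) (hB1 : B1 ≠ ⊥) : A1 ⊔ B1 = ⊤ := by
  by_contra hne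
  set H := A1 ⊔ B1 with hH
  set L := normalizer (H : Set G) with hL
  have hHne : H ≠ ⊥ := by
    intro h
    have h1 : B1 ≤ ⊥ := h ▸ le_sup_right
    exact hB1 (le_bot_iff.mp h1)
  have hLt : L ≠ ⊤ := S.normalizer_ne_top' hHne hne
  have hfac := S.normalizer_fac hA hB
  have hLs := S.ih L hLt hfac
  have hHL : H ≤ L := le_normalizer
  have hLne : L ≠ ⊥ := by
    intro h
    exact hHne (le_bot_iff.mp (h ▸ hHL))
  obtain ⟨r, hr, hrL, hrne⟩ := exists_sy_ne_bot hLs hLne
  have : Fact r.Prime := ⟨hr⟩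
  rcases S.prime_or hr (hrL.trans (card_subgroup_dvd_card L)) with hrA | hrB
  · have hR : sy r L ≤ A := S.le_of_normal hfac (sy_le r L) (sy_norm r L) (sy_pgroup r L) hrA
    apply S.normalizer_ne_top hrne hR
    rw [eq_top_iff, ← S.hc_sup r hB hB1]
    refine sup_le ?_ ?_
    · exact (hc_cent S.nilA hR (sy_pgroup r L)).trans (centralizer_le_normalizer _)
    · exact le_sup_right.trans (hHL.trans (sy_norm r L))
  · have hR : sy r L ≤ B :=
      S.symm.le_of_normal (fac_symm hfac) (sy_le r L) (sy_norm r L) (sy_pgroup r L) hrB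
    apply S.symm.normalizer_ne_top hrne hR
    rw [eq_top_iff, ← S.symm.hc_sup r hA hA1]
    refine sup_le ?_ ?_
    · exact (hc_cent S.nilB hR (sy_pgroup r L)).trans (centralizer_le_normalizer _)
    · exact le_sup_left.trans (hHL.trans (sy_norm r L))

/-! ### Case 2 -/

theorem ne_one_of_orderOf_prime {x : G} {r : ℕ} (hr : r.Prime) (h : orderOf x = r) : x ≠ 1 := by
  rintro rfl
  rw [orderOf_one] at h
  exact hr.one_lt.ne h

theorem le_normalizer_zpowers_of_central {z : G} (h : A ≤ centralizer {z}) :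
    A ≤ normalizer ((zpowers z : Subgroup G) : Set G) := by
  refine le_trans ?_ (centralizer_le_normalizer _)
  intro a ha
  rw [mem_centralizer_iff]
  intro y hy
  obtain ⟨i, rfl⟩ := mem_zpowers_iff.mp hy
  have h1 := mem_centralizer_singleton_iff.mp (h ha)
  exact (Commute.zpow_right (show Commute a z from h1) i).eq.symm

theorem zpowers_ne_bot' {z : G} (h : z ≠ 1) : zpowers z ≠ ⊥ := by
  rw [ne_eq, zpowers_eq_bot]; exact h

/-- `C_G(z) = A` for central elements `z ≠ 1` of `A` -/
theorem Setup.centralizer_central (S : Setup A B) {z : G} (hz : z ∈ A) (hz1 : z ≠ 1)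
    (hzA : A ≤ centralizer {z}) : centralizer {z} = A := by
  apply le_antisymm _ hzA
  intro g hg
  obtain ⟨a, ha, b, hb, rfl⟩ := S.fac g
  have hbz : b ∈ centralizer {z} := by
    have : b = a⁻¹ * (a * b) := by group
    rw [this]
    exact mul_mem (inv_mem (hzA ha)) hg
  have hb1 : b = 1 := by
    by_contra hb1
    obtain ⟨q, hq, hqB⟩ := S.symm.exists_prime
    have : Fact q.Prime := ⟨hq⟩
    obtain ⟨w, hw, hwo, hwB⟩ := exists_central S.nilB hqB
    have hw1 := ne_one_of_orderOf_prime hq hwo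
    apply S.centralizer_ne_top hb1
    rw [eq_top_iff, ← S.sup_eq_top (le_normalizer_zpowers_of_central hzA)
      (le_normalizer_zpowers_of_central hwB) (zpowers_ne_bot' hz1) (zpowers_ne_bot' hw1)]
    refine sup_le ?_ ?_
    · rw [zpowers_le, mem_centralizer_singleton_iff]
      exact (mem_centralizer_singleton_iff.mp hbz).symm
    · rw [zpowers_le, mem_centralizer_singleton_iff]
      exact (mem_centralizer_singleton_iff.mp (hwB hb)).symm
  rw [hb1, mul_one]; exact ha

theorem centralizer_conj (z g : G) :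
    centralizer {g * z * g⁻¹} = MulAut.conj g • centralizer {z} := by
  ext x
  rw [Lib.SubgroupTools.mem_conj_smul, mem_centralizer_singleton_iff, mem_centralizer_singleton_iff]
  constructor
  · intro h
    calc g⁻¹ * x * g * z = g⁻¹ * (x * (g * z * g⁻¹)) * g := by group
      _ = g⁻¹ * ((g * z * g⁻¹) * x) * g := by rw [h]
      _ = _ := by group
  · intro h
    calc x * (g * z * g⁻¹) = g * (g⁻¹ * x * g * z) * g⁻¹ := by group
      _ = g * (z * (g⁻¹ * x * g)) * g⁻¹ := by rw [h]
      _ = _ := by group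

/-- If `z` central of order `r` in `A` and `g z g⁻¹ ∈ A` then `g` normalizes `hc r A`. -/
theorem Setup.mem_normalizer_hc (S : Setup A B) {r : ℕ} [hr : Fact r.Prime] {z g : G}
    (hz : z ∈ A) (ho : orderOf z = r) (hzA : A ≤ centralizer {z}) (hg : g * z * g⁻¹ ∈ A) :
    g ∈ normalizer (hc r A : Set G) := by
  apply Lib.NilPieces.mem_normalizer_hc S.nilA
  have ho' : orderOf (g * z * g⁻¹) = r := by
    rw [← ho]
    exact (orderOf_injective (MulAut.conj g).toMonoidHom (MulAut.conj g).injective z)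
  have h1 := hc_cent_elem S.nilA hg ho'
  rwa [centralizer_conj,
    S.centralizer_central hz (ne_one_of_orderOf_prime hr.out ho) hzA] at h1

theorem Setup.conj_eq_of_mem_normalizers (S : Setup A B) {m : G}
    (h : ∀ r : ℕ, r.Prime → r ∣ Nat.card A → m ∈ normalizer (hc r A : Set G)) :
    m ∈ normalizer (A : Set G) := by
  obtain ⟨r, hr, hrA⟩ := S.exists_prime
  obtain ⟨t, ht, htA, htr⟩ := S.second_prime r
  have : Fact r.Prime := ⟨hr⟩
  have : Fact t.Prime := ⟨ht⟩
  have h1 := h r hr hrA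
  have h2 := h t ht htA
  rw [mem_normalizer_iff_conj_smul] at h1 h2 ⊢
  rw [← Lib.NilPieces.hc_sup_hc htr S.nilA, Lib.SubgroupTools.conj_smul_sup, h1, h2]

/-- proper overgroups of `A` normalize `A` -/
theorem Setup.le_normalizer_of_ge (S : Setup A B) {M : Subgroup G} (hM : A ≤ M) (hMt : M ≠ ⊤) :
    M ≤ normalizer (A : Set G) := by
  have hfac := S.fac_of_ge hM
  have hMs := S.ih M hMt hfac
  obtain ⟨q, hq, hqB⟩ := S.symm.exists_prime
  have : Fact q.Prime := ⟨hq⟩
  obtain ⟨w, hw, hwo, hwB⟩ := exists_central S.nilB hqB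
  have hw1 := ne_one_of_orderOf_prime hq hwo
  have hF : ∀ s : ℕ, s.Prime → sy s M ≤ A := by
    intro s hs
    have : Fact s.Prime := ⟨hs⟩
    by_cases hsne : sy s M = ⊥
    · rw [hsne]; exact bot_le
    have hsL : s ∣ Nat.card G := by
      obtain ⟨k, hk⟩ := IsPGroup.iff_card.mp (sy_pgroup s M)
      have hk0 : k ≠ 0 := by
        rintro rfl
        rw [pow_zero, card_eq_one] at hk
        exact hsne hk
      have h4 : s ∣ Nat.card (sy s M) := by rw [hk]; exact dvd_pow_self _ hk0
      exact h4.trans (card_subgroup_dvd_card _)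
    rcases S.prime_or hs hsL with hsA | hsB
    · exact S.le_of_normal hfac (sy_le s M) (sy_norm s M) (sy_pgroup s M) hsA
    · exfalso
      have hR : sy s M ≤ B :=
        S.symm.le_of_normal (fac_symm hfac) (sy_le s M) (sy_norm s M) (sy_pgroup s M) hsB
      apply S.symm.normalizer_ne_top hsne hR
      rw [eq_top_iff, ← S.sup_eq_top (A1 := A) le_normalizer
        (le_normalizer_zpowers_of_central hwB) S.A_ne_bot (zpowers_ne_bot' hw1)]
      refine sup_le (hM.trans (sy_norm s M)) ?_
      rw [zpowers_le]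
      apply centralizer_le_normalizer
      rw [mem_centralizer_iff]
      intro y hy
      exact mem_centralizer_singleton_iff.mp (hwB (hR hy))
  intro m hm
  apply S.conj_eq_of_mem_normalizers
  intro r hr hrA
  have : Fact r.Prime := ⟨hr⟩
  obtain ⟨z, hz, hzo, hzA⟩ := exists_central S.nilA hrA
  apply S.mem_normalizer_hc hz hzo hzA
  have h1 : z ∈ (fittingSubgroup M).map M.subtype := by
    apply mem_of_centralizer hMs hF (hM hz)
    rw [mem_centralizer_iff]
    intro y hy
    exact mem_centralizer_singleton_iff.mp (hzA hy)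
  exact map_fitting_le hF (conj_mem_fitting hm h1)

/-- (**) -/
theorem Setup.mem_normalizer (S : Setup A B) {r : ℕ} [hr : Fact r.Prime] {z g : G}
    (hz : z ∈ A) (ho : orderOf z = r) (hzA : A ≤ centralizer {z}) (hg : g * z * g⁻¹ ∈ A) :
    g ∈ normalizer (A : Set G) := by
  have h1 := S.mem_normalizer_hc hz ho hzA hg
  have h2 : normalizer (hc r A : Set G) ≠ ⊤ := S.normalizer_ne_top (S.hc_ne_bot r) (hc_le r A)
  exact S.le_normalizer_of_ge (hc_norm r A) h2 h1

/-- Sylow subgroups of `C_A(x)` are Sylow subgroups of `C_G(x)`. -/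
theorem Setup.isSyl_centralizer (S : Setup A B) {x : G} (hx : x ∈ A) {t : ℕ}
    [ht : Fact t.Prime] (htA : t ∣ Nat.card A) {T : Subgroup G}
    (hT : IsSyl t T (centralizer {x} ⊓ A)) : IsSyl t T (centralizer {x}) := by
  obtain ⟨T1, hT1, hTT1⟩ := Lib.LocBase.exists_isSyl_ge hT.pgroup (hT.le.trans inf_le_left)
  obtain ⟨z, hz, hzo, hzA⟩ := exists_central S.nilA htA
  have hAt := isSyl_top_of_hall S.hall htA (isSyl_sy (r := t) S.nilA)
  -- `z ∈ T`
  have hzx : z ∈ centralizer {x} := by
    rw [mem_centralizer_singleton_iff]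
    exact (mem_centralizer_singleton_iff.mp (hzA hx)).symm
  have hzT : z ∈ T := by
    have h1 : T ⊔ zpowers z ≤ centralizer {x} ⊓ A :=
      sup_le hT.le (by rw [zpowers_le]; exact mem_inf.mpr ⟨hzx, hz⟩)
    have h2 : IsPGroup t (T ⊔ zpowers z : Subgroup G) := by
      apply Lib.LocBase.isPGroup_sup hT.pgroup (isPGroup_zpowers hzo)
      rw [zpowers_le]
      apply centralizer_le_normalizer
      rw [mem_centralizer_iff]
      intro y hy
      exact (mem_centralizer_singleton_iff.mp (hzA (hT.le hy).2))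
    have h3 := hT.eq_of_le h2 h1 le_sup_left
    rw [h3]
    exact mem_sup_right (mem_zpowers z)
  obtain ⟨g, -, hg⟩ := hAt.exists_conj_le hT1.pgroup le_top
  rw [← conj_smul_eq_map] at hg
  have h1 : g * z * g⁻¹ ∈ A := by
    apply sy_le t A
    apply hg
    rw [Lib.SubgroupTools.mem_conj_smul]
    have : g⁻¹ * (g * z * g⁻¹) * g = z := by group
    rw [this]
    exact hTT1 hzT
  have h2 := S.mem_normalizer hz hzo hzA h1
  have h3 : T1 ≤ A := by
    have h4 := conj_smul_mono g⁻¹ (hg.trans (sy_le t A))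
    rw [← mul_smul, ← map_mul, inv_mul_cancel, map_one, one_smul,
      mem_normalizer_iff_conj_smul.mp (inv_mem h2)] at h4
    exact h4
  have h5 := hT.eq_of_le hT1.pgroup (le_inf hT1.le h3) hTT1
  rw [h5]; exact hT1

/-- no prime divisor of `|A|` divides `|C_G(x) : C_A(x)|` -/
theorem Setup.not_dvd_relIndex (S : Setup A B) {x : G} (hx : x ∈ A) {t : ℕ}
    (ht : t.Prime) (htA : t ∣ Nat.card A) :
    ¬ t ∣ (centralizer {x} ⊓ A).relIndex (centralizer {x}) := by
  have : Fact t.Prime := ⟨ht⟩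
  obtain ⟨T, hT⟩ := Lib.LocBase.exists_isSyl t (centralizer {x} ⊓ A)
  have h1 := S.isSyl_centralizer hx htA hT
  intro hd
  apply h1.ndvd
  rw [← relIndex_mul_relIndex T (centralizer {x} ⊓ A) (centralizer {x}) hT.le inf_le_left]
  exact hd.mul_left _

theorem Setup.relIndex_dvd (S : Setup A B) {M : Subgroup G}
    (hM : ∀ g ∈ M, ∃ a ∈ M ⊓ A, ∃ b ∈ M ⊓ B, g = a * b) : A.relIndex M ∣ Nat.card B := by
  have h1 := card_mul_card_inf (subgroupOf_factor hM)
  have h2 : A.subgroupOf M ⊓ B.subgroupOf M = ⊥ := by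
    rw [subgroupOf, subgroupOf, ← comap_inf, S.inf]
    exact bot_subgroupOf M
  rw [h2, card_bot, mul_one] at h1
  have h3 : A.relIndex M = Nat.card (B.subgroupOf M) := by
    have h4 := (A.subgroupOf M).card_mul_index
    rw [h1] at h4
    exact Nat.eq_of_mul_eq_mul_left Nat.card_pos h4
  rw [h3, Lib.SubgroupTools.card_subgroupOf]
  exact card_dvd_of_le inf_le_left

/-- D5 -/
theorem Setup.centralizer_le_aux (S : Setup A B) {x : G} {r : ℕ} [hr : Fact r.Prime] (hx : x ∈ A)
    (ho : orderOf x = r) (hxB : x ∈ normalizer (B : Set G)) :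
    centralizer {x} ≤ normalizer (A : Set G) := by
  have hx1 := ne_one_of_orderOf_prime hr.out ho
  set T := centralizer {x} with hT
  have hTt : T ≠ ⊤ := S.centralizer_ne_top hx1
  have hfac : ∀ g ∈ T, ∃ a ∈ T ⊓ A, ∃ b ∈ T ⊓ B, g = a * b := by
    intro g hg
    obtain ⟨a, ha, b, hb, rfl⟩ := S.fac g
    have h1 := mem_centralizer_singleton_iff.mp hg
    have h2 : x⁻¹ * (a⁻¹ * x * a) = x⁻¹ * b * x * b⁻¹ := by
      have h3 : a⁻¹ * x * a = b * x * b⁻¹ := by
        have h4 : a⁻¹ * (x * (a * b)) * b⁻¹ = a⁻¹ * x * a := by group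
        rw [← h4, ← h1]; group
      rw [h3]; group
    have h3 : x⁻¹ * (a⁻¹ * x * a) ∈ A ⊓ B := by
      refine mem_inf.mpr ⟨A.mul_mem (A.inv_mem hx) (A.mul_mem (A.mul_mem (A.inv_mem ha) hx) ha), ?_⟩
      rw [h2]
      have h4 : x⁻¹ * b * x ∈ B := by
        have := (mem_normalizer_iff.mp (inv_mem hxB) b).mp hb
        rwa [inv_inv] at this
      exact B.mul_mem h4 (B.inv_mem hb)
    rw [S.inf, mem_bot] at h3
    have ha' : a ∈ T := by
      rw [hT, mem_centralizer_singleton_iff]
      have h4 : a⁻¹ * x * a = x := (inv_mul_eq_one.mp h3).symm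
      calc a * x = a * (a⁻¹ * x * a) := by rw [h4]
        _ = x * a := by group
    have hb' : b ∈ T := by
      have : b = a⁻¹ * (a * b) := by group
      rw [this]
      exact T.mul_mem (T.inv_mem ha') hg
    exact ⟨a, mem_inf.mpr ⟨ha', ha⟩, b, mem_inf.mpr ⟨hb', hb⟩, rfl⟩
  have hTs := S.ih T hTt hfac
  have hcT : hc r A ≤ T := hc_cent_elem S.nilA hx ho
  have hF : ∀ s : ℕ, s.Prime → sy s T ≤ A := by
    intro s hs
    have : Fact s.Prime := ⟨hs⟩
    by_cases hsne : sy s T = ⊥
    · rw [hsne]; exact bot_le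
    have hsL : s ∣ Nat.card G := by
      obtain ⟨k, hk⟩ := IsPGroup.iff_card.mp (sy_pgroup s T)
      have hk0 : k ≠ 0 := by
        rintro rfl
        rw [pow_zero, card_eq_one] at hk
        exact hsne hk
      have h4 : s ∣ Nat.card (sy s T) := by rw [hk]; exact dvd_pow_self _ hk0
      exact h4.trans (card_subgroup_dvd_card _)
    rcases S.prime_or hs hsL with hsA | hsB
    · exact S.le_of_normal hfac (sy_le s T) (sy_norm s T) (sy_pgroup s T) hsA
    · exfalso
      have hR : sy s T ≤ B :=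
        S.symm.le_of_normal (fac_symm hfac) (sy_le s T) (sy_norm s T) (sy_pgroup s T) hsB
      apply S.symm.normalizer_ne_top hsne hR
      rw [eq_top_iff, ← S.hc_sup_hc r s]
      refine sup_le (hcT.trans (sy_norm s T)) ?_
      exact (hc_cent S.nilB hR (sy_pgroup s T)).trans (centralizer_le_normalizer _)
  intro g hg
  obtain ⟨t, ht, htA⟩ := S.exists_prime
  have : Fact t.Prime := ⟨ht⟩
  obtain ⟨z, hz, hzo, hzA⟩ := exists_central S.nilA htA
  apply S.mem_normalizer hz hzo hzA
  have hzT : z ∈ T := by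
    rw [hT, mem_centralizer_singleton_iff]
    exact (mem_centralizer_singleton_iff.mp (hzA hx)).symm
  have h1 : z ∈ (fittingSubgroup T).map T.subtype := by
    apply mem_of_centralizer hTs hF hzT
    rw [mem_centralizer_iff]
    intro y hy
    exact mem_centralizer_singleton_iff.mp (hzA hy)
  exact map_fitting_le hF (conj_mem_fitting hg h1)

/-- central elements of prime order `t` lie in each Sylow `t`-subgroup of `C_A(x)` -/
theorem Setup.central_mem_syl (S : Setup A B) {x z : G} (hx : x ∈ A) {t : ℕ} [ht : Fact t.Prime]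
    (hz : z ∈ A) (hzo : orderOf z = t) (hzA : A ≤ centralizer {z}) {T : Subgroup G}
    (hT : IsSyl t T (centralizer {x} ⊓ A)) : z ∈ T := by
  have hzx : z ∈ centralizer {x} := by
    rw [mem_centralizer_singleton_iff]
    exact (mem_centralizer_singleton_iff.mp (hzA hx)).symm
  have h1 : T ⊔ zpowers z ≤ centralizer {x} ⊓ A :=
    sup_le hT.le (by rw [zpowers_le]; exact mem_inf.mpr ⟨hzx, hz⟩)
  have h2 : IsPGroup t (T ⊔ zpowers z : Subgroup G) := by
    apply Lib.LocBase.isPGroup_sup hT.pgroup (isPGroup_zpowers hzo)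
    rw [zpowers_le]
    apply centralizer_le_normalizer
    rw [mem_centralizer_iff]
    intro y hy
    exact (mem_centralizer_singleton_iff.mp (hzA (hT.le hy).2))
  have h3 := hT.eq_of_le h2 h1 le_sup_left
  rw [h3]
  exact mem_sup_right (mem_zpowers z)

theorem relIndex_eq_relIndex_sup' {N H : Subgroup G} (hH : H ≤ normalizer (N : Set G)) :
    N.relIndex H = N.relIndex (H ⊔ N) := by
  have h1 := Lib.SubgroupTools.card_sup_mul_card_inf hH
  have h2 := Lib.SubgroupTools.card_mul_relIndex N H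
  have h3 := card_mul_relIndex_of_le (le_sup_left : N ≤ N ⊔ H)
  rw [← h3, ← h2] at h1
  have h4 : 0 < Nat.card (N ⊓ H : Subgroup G) * Nat.card N := Nat.mul_pos Nat.card_pos Nat.card_pos
  rw [sup_comm H N]
  apply Nat.eq_of_mul_eq_mul_left h4
  calc Nat.card (N ⊓ H : Subgroup G) * Nat.card N * N.relIndex H
      = Nat.card N * (Nat.card (N ⊓ H : Subgroup G) * N.relIndex H) := by ring
    _ = Nat.card N * N.relIndex (N ⊔ H) * Nat.card (N ⊓ H : Subgroup G) := h1.symm
    _ = _ := by ring

theorem Setup.exists_conj_mem (S : Setup A B) {u : G} {t : ℕ} [ht : Fact t.Prime]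
    (htB : t ∣ Nat.card B) (hu : orderOf u = t) (huN : u ∈ normalizer (A : Set G)) :
    ∃ a ∈ A, a * u * a⁻¹ ∈ B := by
  set N := normalizer (A : Set G) with hN
  have hfac : ∀ g ∈ N, ∃ a ∈ N ⊓ A, ∃ b ∈ N ⊓ B, g = a * b := S.fac_of_ge le_normalizer
  have h1 : B.relIndex N ∣ Nat.card A := S.symm.relIndex_dvd (fac_symm hfac)
  obtain ⟨P, hP⟩ := Lib.LocBase.exists_isSyl t (N ⊓ B)
  have hPN : IsSyl t P N := by
    refine ⟨hP.le.trans inf_le_left, hP.pgroup, ?_⟩
    rw [← relIndex_mul_relIndex P (N ⊓ B) N hP.le inf_le_left]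
    intro hd
    rcases ht.out.dvd_mul.mp hd with h | h
    · exact hP.ndvd h
    · rw [inf_comm, inf_relIndex_right] at h
      exact S.not_both ht.out (h.trans h1) htB
  obtain ⟨g, hg, hle⟩ := hPN.exists_conj_le (isPGroup_zpowers hu) (by rwa [zpowers_le])
  have h2 : g * u * g⁻¹ ∈ P := hle ⟨u, mem_zpowers u, rfl⟩
  obtain ⟨b, hb, a, ha, rfl⟩ := S.symm.fac g
  refine ⟨a, ha, ?_⟩
  have h3 : b * a * u * (b * a)⁻¹ ∈ B := (hP.le h2).2
  have h4 : a * u * a⁻¹ = b⁻¹ * (b * a * u * (b * a)⁻¹) * b := by group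
  rw [h4]
  exact B.mul_mem (B.mul_mem (B.inv_mem hb) h3) hb

/-- D6 -/
theorem Setup.centralizer_le (S : Setup A B) {x : G} {r : ℕ} [hr : Fact r.Prime] (hx : x ∈ A)
    (ho : orderOf x = r) : centralizer {x} ≤ normalizer (A : Set G) := by
  have hx1 := ne_one_of_orderOf_prime hr.out ho
  by_cases hcase : ∃ a ∈ A, a * x * a⁻¹ ∈ normalizer (B : Set G)
  · obtain ⟨a, ha, hax⟩ := hcase
    have ho' : orderOf (a * x * a⁻¹) = r := by
      rw [← ho]
      exact (orderOf_injective (MulAut.conj a).toMonoidHom (MulAut.conj a).injective x)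
    have h1 := S.centralizer_le_aux (A.mul_mem (A.mul_mem ha hx) (A.inv_mem ha)) ho' hax
    rw [centralizer_conj] at h1
    intro g hg
    have h2 : a * g * a⁻¹ ∈ normalizer (A : Set G) := by
      apply h1
      rw [Lib.SubgroupTools.mem_conj_smul]
      have : a⁻¹ * (a * g * a⁻¹) * a = g := by group
      rw [this]; exact hg
    have haN : a ∈ normalizer (A : Set G) := le_normalizer ha
    have h3 : g = a⁻¹ * (a * g * a⁻¹) * a := by group
    rw [h3]
    exact mul_mem (mul_mem (inv_mem haN) h2) haN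
  push Not at hcase
  set T := centralizer {x} with hT
  set H := T ⊓ A with hH
  have hTt : T ≠ ⊤ := S.centralizer_ne_top hx1
  have hcT : hc r A ≤ T := hc_cent_elem S.nilA hx ho
  have hHnil : Group.IsNilpotent H := isNilpotent_of_le inf_le_right S.nilA
  -- `T ∩ N(A) ≤ A`
  have hTN : T ⊓ normalizer (A : Set G) ≤ A := by
    set T0 := T ⊓ normalizer (A : Set G) with hT0
    by_contra hnle
    have h1 : A.relIndex T0 ≠ 1 := fun h => hnle (relIndex_eq_one.mp h)
    obtain ⟨t, ht, htd⟩ := Nat.exists_prime_and_dvd h1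
    have : Fact t.Prime := ⟨ht⟩
    have h2 : A.relIndex T0 ∣ A.index := by
      have h3 : A.relIndex T0 = A.relIndex (T0 ⊔ A) := relIndex_eq_relIndex_sup' inf_le_right
      rw [h3]
      exact relIndex_dvd_index_of_le le_sup_right
    have htB : t ∣ Nat.card B := by
      rw [← S.index]; exact htd.trans h2
    have h4 : t ∣ Nat.card T0 := htd.trans (relIndex_dvd_card _ _)
    obtain ⟨u', hu'⟩ := exists_prime_orderOf_dvd_card' (G := T0) t h4
    obtain ⟨u, hu⟩ := u'
    rw [Subgroup.orderOf_mk] at hu'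
    obtain ⟨huT, huN⟩ := mem_inf.mp hu
    obtain ⟨a, ha, hau⟩ := S.exists_conj_mem htB hu' huN
    have haN : a ∈ normalizer (A : Set G) := le_normalizer ha
    have ho' : orderOf (a * u * a⁻¹) = t := by
      rw [← hu']
      exact (orderOf_injective (MulAut.conj a).toMonoidHom (MulAut.conj a).injective u)
    have h5 : a * u * a⁻¹ ∈ normalizer (A : Set G) := mul_mem (mul_mem haN huN) (inv_mem haN)
    have h6 := S.symm.centralizer_le_aux hau ho' h5
    apply hcase a ha
    apply h6
    rw [mem_centralizer_singleton_iff]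
    have h7 := mem_centralizer_singleton_iff.mp huT
    calc a * x * a⁻¹ * (a * u * a⁻¹) = a * (x * u) * a⁻¹ := by group
      _ = a * (u * x) * a⁻¹ := by rw [h7]
      _ = _ := by group
  have hTH : T ⊓ normalizer (A : Set G) ≤ H := le_inf inf_le_left hTN
  -- normalizers of Sylow subgroups of `H` in `T`
  have hnormP : ∀ s : ℕ, s.Prime → s ∣ Nat.card H → ∀ P : Subgroup G, IsSyl s P H →
      T ⊓ normalizer (P : Set G) = H := by
    intro s hs hsH P hP
    have : Fact s.Prime := ⟨hs⟩
    apply le_antisymm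
    · intro g hg
      obtain ⟨hgT, hgP⟩ := mem_inf.mp hg
      have hsA : s ∣ Nat.card A := hsH.trans (card_dvd_of_le inf_le_right)
      obtain ⟨z, hz, hzo, hzA⟩ := exists_central S.nilA hsA
      have hzP := S.central_mem_syl hx hz hzo hzA hP
      have h1 : g * z * g⁻¹ ∈ A := (hP.le ((mem_normalizer_iff.mp hgP z).mp hzP)).2
      exact hTH (mem_inf.mpr ⟨hgT, S.mem_normalizer hz hzo hzA h1⟩)
    · exact le_inf inf_le_left (le_normalizer_of_isSyl hHnil hP)
  -- apply the theorem on Hall subgroups with small Sylow normalizers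
  have hcardH : Nat.card (A.subgroupOf T) = Nat.card H := by
    rw [Lib.SubgroupTools.card_subgroupOf, inf_comm]
  have hmapH : (A.subgroupOf T).map T.subtype = H := by
    rw [subgroupOf_map_subtype, inf_comm]
  obtain ⟨N, hNn, hNc⟩ := S0558.main (A.subgroupOf T) (by
      intro p hp P hPH
      obtain ⟨t, ht, htA, htp⟩ := S.second_prime p
      have : Fact t.Prime := ⟨ht⟩
      have : Fact p.Prime := ⟨hp⟩
      obtain ⟨z, hz, hzo, hzA⟩ := exists_central S.nilA htA
      obtain ⟨Q, hQ⟩ := Lib.LocBase.exists_isSyl t H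
      have hzQ := S.central_mem_syl hx hz hzo hzA hQ
      have h1 : t ∣ Nat.card H := by
        rw [← hzo]
        have h2 := orderOf_dvd_natCard (⟨z, hQ.le hzQ⟩ : H)
        rwa [Subgroup.orderOf_mk] at h2
      obtain ⟨k, hk⟩ := IsPGroup.iff_card.mp P.isPGroup'
      rw [hPH, hcardH] at hk
      rw [hk] at h1
      exact htp ((Nat.prime_dvd_prime_iff_eq ht hp).mp (ht.dvd_of_dvd_pow h1))) (by
      intro p hp hpd P
      have : Fact p.Prime := ⟨hp⟩
      set P1 : Subgroup T := (P : Subgroup (A.subgroupOf T)).map (A.subgroupOf T).subtype with hP1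
      have h1 := Lib.LocBase.isSyl_map_subtype P
      rw [← hP1] at h1
      set P2 : Subgroup G := P1.map T.subtype with hP2
      have h2 : IsSyl p P2 H := by
        refine ⟨?_, h1.pgroup.map _, ?_⟩
        · rw [← hmapH]; exact map_mono h1.le
        · rw [← hmapH, relIndex_map_map_of_injective _ _ T.subtype_injective]
          exact h1.ndvd
      have h3 := hnormP p hp (by rwa [hcardH] at hpd) P2 h2
      have h4 : (normalizer ((P2 : Subgroup G) : Set G)).subgroupOf T =
          normalizer ((P2.subgroupOf T : Subgroup T) : Set T) :=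
        subgroupOf_normalizer_eq (map_subtype_le P1)
      have h5 : P2.subgroupOf T = P1 := by
        rw [hP2, subgroupOf, comap_map_eq_self_of_injective T.subtype_injective]
      rw [h5] at h4
      rw [← h4]
      ext y
      constructor
      · intro hy
        have : (y : G) ∈ H := by
          rw [← h3]; exact mem_inf.mpr ⟨y.2, hy⟩
        exact this.2
      · intro hy
        have : (y : G) ∈ T ⊓ normalizer (P2 : Set G) := by
          rw [h3]; exact mem_inf.mpr ⟨y.2, hy⟩
        exact this.2)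
  have hNcard : Nat.card N = H.relIndex T := by
    rw [← hNc.index_eq_card, hH, inf_comm, inf_relIndex_right]
    rfl
  have hNprime : ∀ t : ℕ, t.Prime → t ∣ Nat.card N → t ∣ Nat.card B := by
    intro t ht htd
    rcases S.prime_or ht (htd.trans ((card_subgroup_dvd_card N).trans (card_subgroup_dvd_card T)))
      with h | h
    · rw [hNcard] at htd
      exact absurd htd (S.not_dvd_relIndex hx ht h)
    · exact h
  by_cases hNb : N = ⊥
  · -- `T = H`
    rw [hNb, card_bot] at hNcard
    exact (relIndex_eq_one.mp hNcard.symm).trans (inf_le_right.trans le_normalizer)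
  exfalso
  set N1 : Subgroup G := N.map T.subtype with hN1
  have hN1c : Nat.card N1 = Nat.card N := card_map_of_injective T.subtype_injective
  have hTN1 : T ≤ normalizer (N1 : Set G) := by
    have h1 : N1.subgroupOf T = N := by
      rw [hN1, subgroupOf, comap_map_eq_self_of_injective T.subtype_injective]
    have h2 : (N1.subgroupOf T).Normal := by rw [h1]; exact hNn
    exact (normal_subgroupOf_iff_le_normalizer (map_subtype_le N)).mp h2
  obtain ⟨g, hg⟩ := exists_conj_ge S.nilB S.symm.hall (K := N1) (by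
    intro p hp hpd
    rw [hN1c] at hpd
    exact hNprime p hp hpd)
  obtain ⟨q, hq, hqN⟩ := Nat.exists_prime_and_dvd (n := Nat.card N1) (by
    rw [hN1c, ne_eq, card_eq_one]; exact hNb)
  have : Fact q.Prime := ⟨hq⟩
  have hN1nil : Group.IsNilpotent N1 := isNilpotent_of_le hg (isNilpotent_conj g S.nilB)
  have hRne : sy q N1 ≠ ⊥ := sy_ne_bot hN1nil hqN
  have hRle : sy q N1 ≤ MulAut.conj g • B := (sy_le q N1).trans hg
  have hTR : T ≤ normalizer (sy q N1 : Set G) :=
    hTN1.trans (Lib.LocBase.normalizer_le_normalizer_pCoreOf q N1)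
  have hRnorm : normalizer (sy q N1 : Set G) ≠ ⊤ := by
    apply S.normalizer_ne_top' hRne
    intro h
    rw [h, top_le_iff] at hRle
    apply S.symm.A_ne_top
    have h1 := congrArg (fun X => MulAut.conj g⁻¹ • X) hRle
    simp only [← mul_smul, ← map_mul, inv_mul_cancel, map_one, one_smul] at h1
    rw [h1, conj_smul_eq_map]
    exact map_top_of_surjective _ (MulAut.conj g⁻¹).surjective
  have h1 : MulAut.conj g • hc q B ≤ normalizer (sy q N1 : Set G) := by
    rw [← hc_conj S.nilB]
    exact (hc_cent (isNilpotent_conj g S.nilB) hRle (sy_pgroup q N1)).trans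
      (centralizer_le_normalizer _)
  obtain ⟨k, -, -, hk1, hk2⟩ := exists_conj S.fac 1 g
  rw [inv_one, one_mul] at hk1
  have h2 : MulAut.conj g • hc q B = MulAut.conj k • hc q B := by
    have : k = g * (g⁻¹ * k) := by group
    rw [this, map_mul, mul_smul, conj_smul_of_mem_normalizer (hc_norm q B hk2)]
  have h3 : MulAut.conj k • hc r A = hc r A := conj_smul_of_mem_normalizer (hc_norm r A hk1)
  apply hRnorm
  rw [eq_top_iff]
  have h4 : (⊤ : Subgroup G) = hc r A ⊔ MulAut.conj g • hc q B := by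
    rw [h2]
    nth_rewrite 1 [← h3]
    rw [← Lib.SubgroupTools.conj_smul_sup, S.hc_sup_hc r q, conj_smul_eq_map]
    exact (map_top_of_surjective _ (MulAut.conj k).surjective).symm
  rw [h4]
  exact sup_le (hcT.trans hTR) h1

/-- D7 -/
theorem Setup.false_of_card (S : Setup A B) (h : Nat.card B < Nat.card A) : False := by
  have hAN : normalizer (A : Set G) ≠ ⊤ := S.normalizer_ne_top S.A_ne_bot le_rfl
  apply hAN
  rw [eq_top_iff]
  intro g _
  set I := A ⊓ MulAut.conj g • A with hI
  have hIne : I ≠ ⊥ := by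
    intro hI0
    have h1 := Lib.SubgroupTools.card_mul_set A (MulAut.conj g • A)
    rw [← hI, hI0, card_bot, mul_one, card_conj_smul] at h1
    have h2 : Nat.card ((A : Set G) * ((MulAut.conj g • A : Subgroup G) : Set G) : Set G) ≤
        Nat.card G := Nat.card_le_card_of_injective _ Subtype.val_injective
    rw [h1, S.card] at h2
    have h3 : 0 < Nat.card A := Nat.card_pos
    have h4 := Nat.mul_lt_mul_of_pos_left h h3
    omega
  obtain ⟨r, hr, hrI⟩ := Nat.exists_prime_and_dvd (n := Nat.card I) (by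
    rw [ne_eq, card_eq_one]; exact hIne)
  have : Fact r.Prime := ⟨hr⟩
  obtain ⟨x', hx'⟩ := exists_prime_orderOf_dvd_card' (G := I) r hrI
  obtain ⟨x, hx⟩ := x'
  rw [Subgroup.orderOf_mk] at hx'
  obtain ⟨hxA, hxg⟩ := mem_inf.mp hx
  have h1 := S.centralizer_le hxA hx'
  have h2 := hc_cent_elem (isNilpotent_conj g S.nilA) hxg hx'
  rw [hc_conj S.nilA] at h2
  have h3 : MulAut.conj g • hc r A ≤ normalizer (A : Set G) := h2.trans h1
  have h4 : MulAut.conj g • hc r A ≤ A := by
    have h5 := isPiHall_primes A S.hall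
    have h6 : Cfsg.IsPiHallOf {p | p ∣ Nat.card A} A (normalizer (A : Set G)) :=
      isPiHallOf_of_isPiHall h5 le_normalizer
    apply le_of_normal_hall h6 le_rfl h3
    intro p hp hpd
    rw [card_conj_smul] at hpd
    exact hpd.trans (card_dvd_of_le (hc_le r A))
  have h5 : hc r A ≤ MulAut.conj g⁻¹ • A := by
    have := conj_smul_mono g⁻¹ h4
    rwa [← mul_smul, ← map_mul, inv_mul_cancel, map_one, one_smul] at this
  have h6 := Lib.NilPieces.mem_normalizer_hc S.nilA h5
  have h7 : normalizer (hc r A : Set G) ≠ ⊤ := S.normalizer_ne_top (S.hc_ne_bot r) (hc_le r A)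
  have h8 := S.le_normalizer_of_ge (hc_norm r A) h7 h6
  exact inv_mem_iff.mp h8

theorem Setup.false (S : Setup A B) : False := by
  rcases lt_trichotomy (Nat.card A) (Nat.card B) with h | h | h
  · exact S.symm.false_of_card h
  · apply S.A_ne_bot
    have h1 := S.cop
    rw [← h, Nat.coprime_self] at h1
    exact card_eq_one.mp h1
  · exact S.false_of_card h

theorem isSolvable_aux (n : ℕ) : ∀ (G : Type u) [Group G] [Finite G], Nat.card G = n →
    ∀ A B : Subgroup G, Group.IsNilpotent A → Group.IsNilpotent B →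
    (Nat.card A).Coprime (Nat.card B) → (∀ g : G, ∃ a ∈ A, ∃ b ∈ B, g = a * b) →
    Group.IsSolvable G := by
  induction n using Nat.strong_induction_on with
  | _ n ih =>
    intro G _ _ hn A B hA hB hcop hfac
    by_contra hns
    have hih : ∀ M : Subgroup G, M ≠ ⊤ →
        (∀ g ∈ M, ∃ a ∈ M ⊓ A, ∃ b ∈ M ⊓ B, g = a * b) → Group.IsSolvable M := by
      intro M hM hMf
      have hlt : Nat.card M < n := by
        rw [← hn]
        have h1 := Subgroup.card_mul_index M
        have h2 : M.index ≠ 1 := by rwa [ne_eq, index_eq_one]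
        have h3 : M.index ≠ 0 := index_ne_zero_of_finite
        have h4 : 0 < Nat.card M := Nat.card_pos
        have h5 : 2 ≤ M.index := by omega
        nlinarith
      apply ih _ hlt M rfl (A.subgroupOf M) (B.subgroupOf M) (isNilpotent_subgroupOf hA)
        (isNilpotent_subgroupOf hB) _ (subgroupOf_factor hMf)
      have h1 : Nat.card (A.subgroupOf M) ∣ Nat.card A := by
        rw [Lib.SubgroupTools.card_subgroupOf]; exact card_dvd_of_le inf_le_left
      have h2 : Nat.card (B.subgroupOf M) ∣ Nat.card B := by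
        rw [Lib.SubgroupTools.card_subgroupOf]; exact card_dvd_of_le inf_le_left
      exact (hcop.coprime_dvd_left h1).coprime_dvd_right h2
    have hsimple : ∀ N : Subgroup G, N.Normal → N = ⊥ ∨ N = ⊤ := by
      intro N hN
      by_contra hcon
      push Not at hcon
      obtain ⟨hNb, hNt⟩ := hcon
      apply hns
      -- `N` is solvable
      have hNs : Group.IsSolvable N := by
        have hsub : ∀ M : Subgroup G, N ≤ M → Group.IsSolvable M → Group.IsSolvable N :=
          fun M hM h => Lib.SubgroupTools.isSolvable_of_le hM h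
        by_cases hAN : A ⊔ N = ⊤
        · by_cases hBN : B ⊔ N = ⊤
          · exfalso
            apply hNt
            have hq : ∀ C : Subgroup G, C ⊔ N = ⊤ → N.index ∣ Nat.card C := by
              intro C hC
              rw [← relIndex_top_right, ← hC, ← relIndex_eq_relIndex_sup' le_normalizer_of_normal]
              exact relIndex_dvd_card _ _
            exact index_eq_one.mp (Nat.dvd_one.mp (hcop ▸ Nat.dvd_gcd (hq A hAN) (hq B hBN)))
          · refine hsub _ le_sup_right (hih (B ⊔ N) hBN ?_)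
            intro g hg
            obtain ⟨a, ha, b, hb, e⟩ := dedekind_right hfac (le_sup_left : B ≤ B ⊔ N) g hg
            exact ⟨a, ha, b, mem_inf.mpr ⟨mem_sup_left hb, hb⟩, e⟩
        · refine hsub _ le_sup_right (hih (A ⊔ N) hAN ?_)
          intro g hg
          obtain ⟨a, ha, b, hb, e⟩ := dedekind_left hfac (le_sup_left : A ≤ A ⊔ N) g hg
          exact ⟨a, mem_inf.mpr ⟨mem_sup_left ha, ha⟩, b, hb, e⟩
      have hlt : Nat.card (G ⧸ N) < n := by
        have h1 := Subgroup.card_mul_index N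
        have h2 : 1 < Nat.card N := (Subgroup.one_lt_card_iff_ne_bot N).mpr hNb
        have h3 : Nat.card (G ⧸ N) = N.index := rfl
        have h4 : 0 < N.index := Nat.pos_of_ne_zero Subgroup.index_ne_zero_of_finite
        rw [h3, ← hn]
        nlinarith
      have hQs : Group.IsSolvable (G ⧸ N) := by
        apply ih _ hlt (G ⧸ N) rfl (A.map (QuotientGroup.mk' N)) (B.map (QuotientGroup.mk' N))
          (isNilpotent_map _ hA) (isNilpotent_map _ hB) _
          (map_factor hfac _ (QuotientGroup.mk'_surjective N))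
        exact (hcop.coprime_dvd_left (card_map_dvd A _)).coprime_dvd_right (card_map_dvd B _)
      exact Group.isSolvable_of_ker_le_range N.subtype (QuotientGroup.mk' N)
        (by rw [QuotientGroup.ker_mk', Subgroup.range_subtype])
    exact Setup.false (A := A) (B := B)
      { fac := hfac, nilA := hA, nilB := hB, cop := hcop, simple := hsimple, nsol := hns,
        ih := hih }

/-- **Wielandt**: a product of two nilpotent groups of coprime orders is solvable. -/
theorem isSolvable_of_coprime {G : Type u} [Group G] [Finite G] {A B : Subgroup G}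
    (hA : Group.IsNilpotent A) (hB : Group.IsNilpotent B)
    (hcop : (Nat.card A).Coprime (Nat.card B)) (hfac : ∀ g : G, ∃ a ∈ A, ∃ b ∈ B, g = a * b) :
    Group.IsSolvable G :=
  isSolvable_aux _ G rfl A B hA hB hcop hfac

end Cfsg.Agent.Lib.WielandtProd
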