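import Mathlib

/-!
Witt's lemma for alternating forms over an arbitrary field, with the extending isometry in the group
generated by transvections; existence of symplectic bases (helper13).
-/

set_option autoImplicit false

namespace Cfsg.Agent.Lib.WittAlt

open Module Submodule

variable {F V : Type*} [Field F] [AddCommGroup V] [Module F V]

lemma alt_swap {B : LinearMap.BilinForm F V} (hA : B.IsAlt) (x y : V) : B x y = - B y x :=
  (LinearMap.IsAlt.neg hA y x).symm

/-- the transvection `x ↦ x + c B(x, v) v` as a linear map -/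
def tmap (B : LinearMap.BilinForm F V) (v : V) (c : F) : V →ₗ[F] V :=
  LinearMap.id + (LinearMap.smulRight (B.flip v) (c • v))

lemma tmap_apply (B : LinearMap.BilinForm F V) (v : V) (c : F) (x : V) :
    tmap B v c x = x + (c * B x v) • v := by
  simp [tmap, smul_smul, mul_comm]

lemma tmap_tmap {B : LinearMap.BilinForm F V} (hA : B.IsAlt) (v : V) (c d : F) (x : V) :
    tmap B v c (tmap B v d x) = tmap B v (c + d) x := by
  rw [tmap_apply, tmap_apply, tmap_apply, map_add, map_smul, LinearMap.add_apply, LinearMap.smul_apply,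
    hA v, smul_zero, add_zero, add_assoc, ← add_smul]
  congr 2
  ring

/-- the transvection as a linear equivalence -/
def tv (B : LinearMap.BilinForm F V) (hA : B.IsAlt) (v : V) (c : F) : V ≃ₗ[F] V :=
  LinearEquiv.ofLinearMap (tmap B v c) (tmap B v (-c))
    (by
      ext x
      simp only [LinearMap.comp_apply, LinearMap.id_apply]
      rw [tmap_tmap hA, tmap_apply]
      simp)
    (by
      ext x
      simp only [LinearMap.comp_apply, LinearMap.id_apply]
      rw [tmap_tmap hA, tmap_apply]
      simp)

lemma tv_apply (B : LinearMap.BilinForm F V) (hA : B.IsAlt) (v : V) (c : F) (x : V) :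
    tv B hA v c x = x + (c * B x v) • v := tmap_apply B v c x

/-- the group generated by the transvections -/
def Tv (B : LinearMap.BilinForm F V) (hA : B.IsAlt) : Subgroup (V ≃ₗ[F] V) :=
  Subgroup.closure {g | ∃ (v : V) (c : F), g = tv B hA v c}

lemma tv_mem (B : LinearMap.BilinForm F V) (hA : B.IsAlt) (v : V) (c : F) :
    tv B hA v c ∈ Tv B hA := Subgroup.subset_closure ⟨v, c, rfl⟩

lemma tv_isometry (B : LinearMap.BilinForm F V) (hA : B.IsAlt) (v : V) (c : F) (x y : V) :
    B (tv B hA v c x) (tv B hA v c y) = B x y := by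
  rw [tv_apply, tv_apply]
  simp only [map_add, map_smul, LinearMap.add_apply, LinearMap.smul_apply, smul_eq_mul, hA v]
  rw [alt_swap hA v y]
  ring

lemma Tv_isometry {B : LinearMap.BilinForm F V} {hA : B.IsAlt} {g : V ≃ₗ[F] V} (hg : g ∈ Tv B hA)
    (x y : V) : B (g x) (g y) = B x y := by
  induction hg using Subgroup.closure_induction generalizing x y with
  | mem g hg =>
    obtain ⟨v, c, rfl⟩ := hg
    exact tv_isometry B hA v c x y
  | one => rfl
  | mul g h _ _ ih1 ih2 =>
    show B (g (h x)) (g (h y)) = B x y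
    rw [ih1, ih2]
  | inv g _ ih =>
    have h := ih (g⁻¹ x) (g⁻¹ y)
    have e : ∀ z, g (g⁻¹ z) = z := fun z => g.apply_symm_apply z
    rw [e, e] at h
    exact h.symm

section fd

variable [FiniteDimensional F V]

/-- functionals are represented -/
lemma exists_rep {B : LinearMap.BilinForm F V} (hB : B.Nondegenerate) (ψ : V →ₗ[F] F) :
    ∃ y, ∀ x, B x y = ψ x := by
  have hinj : Function.Injective (LinearMap.flip B) := by
    rw [← LinearMap.ker_eq_bot, LinearMap.ker_eq_bot']
    intro v hv
    apply hB.2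
    intro u
    have := LinearMap.congr_fun hv u
    simpa using this
  have hsurj : Function.Surjective (LinearMap.flip B) := by
    rw [← LinearMap.injective_iff_surjective_of_finrank_eq_finrank]
    · exact hinj
    · exact (Subspace.dual_finrank_eq).symm
  obtain ⟨y, hy⟩ := hsurj ψ
  exact ⟨y, fun x => by rw [← hy]; rfl⟩

/-- a vector orthogonal to `H`, non-orthogonal to both `x` and `y` -/
lemma exists_both {B : LinearMap.BilinForm F V} (hB : B.Nondegenerate) (H : Submodule F V) {x y : V}
    (hx : x ∉ H) (hy : y ∉ H) : ∃ z, (∀ h ∈ H, B h z = 0) ∧ B x z ≠ 0 ∧ B y z ≠ 0 := by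
  have hone : ∀ x, x ∉ H → ∃ z, (∀ h ∈ H, B h z = 0) ∧ B x z ≠ 0 := by
    intro x hx
    obtain ⟨ψ, hψx, hψH⟩ := Submodule.exists_le_ker_of_notMem hx
    obtain ⟨z, hz⟩ := exists_rep hB ψ
    exact ⟨z, fun h hh => by rw [hz]; exact hψH hh, by rw [hz]; exact hψx⟩
  obtain ⟨z1, h1, h2⟩ := hone x hx
  obtain ⟨z2, h3, h4⟩ := hone y hy
  by_cases h5 : B y z1 = 0
  · by_cases h6 : B x z2 = 0
    · refine ⟨z1 + z2, fun h hh => by rw [map_add, h1 h hh, h3 h hh, add_zero], ?_, ?_⟩
      · rw [map_add, h6, add_zero]; exact h2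
      · rw [map_add, h5, zero_add]; exact h4
    · exact ⟨z2, h3, h6, h4⟩
  · exact ⟨z1, h1, h2, h5⟩

/-- moving `x` to `y` fixing `H` pointwise, by transvections -/
lemma step {B : LinearMap.BilinForm F V} (hB : B.Nondegenerate) (hA : B.IsAlt) (H : Submodule F V)
    {x y : V} (hx : x ∉ H) (hy : y ∉ H) (hH : ∀ h ∈ H, B h x = B h y) :
    ∃ g ∈ Tv B hA, (∀ h ∈ H, g h = h) ∧ g x = y := by
  -- one transvection suffices when `B x y ≠ 0`
  have key : ∀ x y : V, (∀ h ∈ H, B h x = B h y) → B x y ≠ 0 →
      ∃ g ∈ Tv B hA, (∀ h ∈ H, g h = h) ∧ g x = y := by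
    intro x y hH hxy
    refine ⟨tv B hA (y - x) (B x y)⁻¹, tv_mem _ _ _ _, fun h hh => ?_, ?_⟩
    · rw [tv_apply, map_sub, hH h hh, sub_self, mul_zero, zero_smul, add_zero]
    · rw [tv_apply, map_sub, hA x, sub_zero, inv_mul_cancel₀ hxy, one_smul]
      abel
  by_cases hxy : B x y = 0
  · obtain ⟨z, hzH, hxz, hyz⟩ := exists_both hB H hx hy
    obtain ⟨g1, hg1, hg1H, hg1x⟩ := key x (x + z) (fun h hh => by rw [map_add, hzH h hh, add_zero])
      (by rw [map_add, hA x, zero_add]; exact hxz)
    obtain ⟨g2, hg2, hg2H, hg2x⟩ := key (x + z) y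
      (fun h hh => by rw [map_add, hzH h hh, add_zero, hH h hh])
      (by
        rw [map_add, LinearMap.add_apply, hxy, zero_add, alt_swap hA z y]
        exact neg_ne_zero.2 hyz)
    refine ⟨g2 * g1, mul_mem hg2 hg1, fun h hh => ?_, ?_⟩
    · show g2 (g1 h) = h
      rw [hg1H h hh, hg2H h hh]
    · show g2 (g1 x) = y
      rw [hg1x, hg2x]
  · exact key x y hH hxy

/-- Witt's lemma for families -/
lemma witt_family {B : LinearMap.BilinForm F V} (hB : B.Nondegenerate) (hA : B.IsAlt) :
    ∀ {n : ℕ} (e e' : Fin n → V), LinearIndependent F e → LinearIndependent F e' →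
      (∀ i j, B (e i) (e j) = B (e' i) (e' j)) → ∃ g ∈ Tv B hA, ∀ i, g (e i) = e' i := by
  intro n
  induction n with
  | zero => intro e e' _ _ _; exact ⟨1, one_mem _, fun i => i.elim0⟩
  | succ n ih =>
    intro e e' he he' hee
    obtain ⟨g, hg, hge⟩ := ih (fun i => e i.castSucc) (fun i => e' i.castSucc)
      (he.comp _ (Fin.castSucc_injective n)) (he'.comp _ (Fin.castSucc_injective n))
      (fun i j => hee _ _)
    set H : Submodule F V := span F (Set.range fun i : Fin n => e' i.castSucc) with hHdef
    have hlast' : e' (Fin.last n) ∉ H := by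
      have h1 := (linearIndependent_finSucc'.1 he').2
      exact h1
    have hlast : g (e (Fin.last n)) ∉ H := by
      have h1 := (linearIndependent_finSucc'.1 he).2
      intro h2
      apply h1
      have h3 : H = (span F (Set.range fun i : Fin n => e i.castSucc)).map (g : V →ₗ[F] V) := by
        rw [Submodule.map_span, hHdef]
        congr 1
        rw [← Set.range_comp]
        congr 1
        funext i
        exact (hge i).symm
      rw [h3] at h2
      obtain ⟨w, hw, hwe⟩ := h2
      have : w = e (Fin.last n) := g.injective hwe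
      rw [← this]
      exact hw
    have hH : ∀ h ∈ H, B h (g (e (Fin.last n))) = B h (e' (Fin.last n)) := by
      intro h hh
      induction hh using Submodule.span_induction with
      | mem x hx =>
        obtain ⟨i, rfl⟩ := hx
        calc B (e' i.castSucc) (g (e (Fin.last n))) = B (g (e i.castSucc)) (g (e (Fin.last n))) := by
              rw [hge i]
          _ = B (e i.castSucc) (e (Fin.last n)) := Tv_isometry hg _ _
          _ = B (e' i.castSucc) (e' (Fin.last n)) := hee _ _
      | zero => simp
      | add x y _ _ h1 h2 => rw [map_add, LinearMap.add_apply, LinearMap.add_apply, h1, h2]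
      | smul c x _ h1 => rw [map_smul, LinearMap.smul_apply, LinearMap.smul_apply, h1]
    obtain ⟨k, hk, hkH, hke⟩ := step hB hA H hlast hlast' hH
    refine ⟨k * g, mul_mem hk hg, fun i => ?_⟩
    show k (g (e i)) = e' i
    refine Fin.lastCases ?_ (fun i => ?_) i
    · exact hke
    · rw [hge i]
      exact hkH _ (Submodule.subset_span ⟨i, rfl⟩)

/-- Witt's lemma, alternating case -/
theorem witt {B : LinearMap.BilinForm F V} (hB : B.Nondegenerate) (hA : B.IsAlt) (X : Submodule F V)
    (φ : X →ₗ[F] V) (hφ : Function.Injective φ) (h : ∀ x y : X, B (φ x) (φ y) = B (x : V) (y : V)) :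
    ∃ g ∈ Tv B hA, ∀ x : X, g (x : V) = φ x := by
  let b := finBasis F X
  obtain ⟨g, hg, hge⟩ := witt_family hB hA (fun i => ((b i : X) : V)) (fun i => φ (b i))
    (b.linearIndependent.map' X.subtype (Submodule.ker_subtype X))
    (b.linearIndependent.map' φ (LinearMap.ker_eq_bot.2 hφ)) (fun i j => (h _ _).symm)
  refine ⟨g, hg, fun u => ?_⟩
  have : g.toLinearMap ∘ₗ X.subtype = φ := b.ext fun i => hge i
  exact LinearMap.congr_fun this u

/-- every isometry is a product of transvections -/
theorem mem_Tv {B : LinearMap.BilinForm F V} (hB : B.Nondegenerate) (hA : B.IsAlt) {g : V ≃ₗ[F] V}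
    (hg : ∀ x y, B (g x) (g y) = B x y) : g ∈ Tv B hA := by
  obtain ⟨k, hk, hkg⟩ := witt hB hA ⊤ (g.toLinearMap ∘ₗ (⊤ : Submodule F V).subtype)
    (fun x y hxy => Subtype.ext (g.injective hxy)) (fun x y => hg x y)
  have : k = g := by
    ext x
    exact hkg ⟨x, trivial⟩
  rw [← this]
  exact hk

end fd

end Cfsg.Agent.Lib.WittAlt
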