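import Mathlib

/-!
(helper43) The permutational wreath product `W X n = X^n ⋊ Sym(n)`, block monomial matrices, and the
Sylow 2-subgroups `T ≀ Q`.
-/

set_option autoImplicit false

open scoped Matrix

namespace Cfsg.Agent.Lib.WrTwo

section Def

variable (X : Type*) [Group X] (n : Type*)

/-- permutations acting on coordinates -/
def act : Equiv.Perm n →* MulAut (n → X) where
  toFun σ :=
    { toFun := fun f i => f (σ⁻¹ i)
      invFun := fun f i => f (σ i)
      left_inv := fun f => by funext i; simp
      right_inv := fun f => by funext i; simp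
      map_mul' := fun f g => rfl }
  map_one' := by ext f i; rfl
  map_mul' σ τ := by ext f i; simp [mul_inv_rev]

/-- the wreath product -/
abbrev W := (n → X) ⋊[act X n] Equiv.Perm n

end Def

variable {X : Type*} [Group X] {n : Type*}

theorem act_apply (σ : Equiv.Perm n) (f : n → X) (i : n) : act X n σ f i = f (σ⁻¹ i) := rfl

theorem left_mul (a b : W X n) (i : n) : (a * b).left i = a.left i * b.left (a.right⁻¹ i) := rfl

theorem left_inv (a : W X n) (i : n) : a⁻¹.left i = (a.left (a.right i))⁻¹ := by
  rw [SemidirectProduct.inv_left]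
  show (a.left⁻¹) ((a.right⁻¹)⁻¹ i) = _
  rw [inv_inv]; rfl

theorem right_mul (a b : W X n) : (a * b).right = a.right * b.right := rfl

theorem right_inv (a : W X n) : a⁻¹.right = a.right⁻¹ := rfl

theorem ext' {a b : W X n} (h1 : ∀ i, a.left i = b.left i) (h2 : a.right = b.right) : a = b :=
  SemidirectProduct.ext (funext h1) h2

/-- `T ≀ Q` inside `X ≀ Sym n`. -/
def sub (T : Subgroup X) (Q : Subgroup (Equiv.Perm n)) : Subgroup (W X n) where
  carrier := {w | (∀ i, w.left i ∈ T) ∧ w.right ∈ Q}
  mul_mem' {a b} ha hb := ⟨fun i => by rw [left_mul]; exact T.mul_mem (ha.1 _) (hb.1 _), Q.mul_mem ha.2 hb.2⟩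
  one_mem' := ⟨fun _ => T.one_mem, Q.one_mem⟩
  inv_mem' {a} ha := ⟨fun i => by rw [left_inv]; exact T.inv_mem (ha.1 _), Q.inv_mem ha.2⟩

theorem mem_sub {T : Subgroup X} {Q : Subgroup (Equiv.Perm n)} {w : W X n} :
    w ∈ sub T Q ↔ (∀ i, w.left i ∈ T) ∧ w.right ∈ Q := Iff.rfl

/-- the underlying bijection -/
def subEquiv (T : Subgroup X) (Q : Subgroup (Equiv.Perm n)) : sub T Q ≃ (n → T) × Q where
  toFun w := (fun i => ⟨w.1.left i, w.2.1 i⟩, ⟨w.1.right, w.2.2⟩)
  invFun p := ⟨⟨fun i => p.1 i, p.2⟩, ⟨fun i => (p.1 i).2, p.2.2⟩⟩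
  left_inv _ := rfl
  right_inv _ := rfl

theorem card_sub [Fintype n] (T : Subgroup X) (Q : Subgroup (Equiv.Perm n)) :
    Nat.card (sub T Q) = Nat.card T ^ Fintype.card n * Nat.card Q := by
  rw [Nat.card_congr (subEquiv T Q), Nat.card_prod, Nat.card_fun, Nat.card_eq_fintype_card (α := n)]

/-! ### Block monomial matrices -/

section Mat

variable [Fintype n] [DecidableEq n] {ι : Type*} [Fintype ι] [DecidableEq ι] {R : Type*} [CommRing R]

/-- block monomial matrices -/
def mat (ρ : X →* Matrix ι ι R) : W X n →* Matrix (n × ι) (n × ι) R where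
  toFun w := Matrix.of fun p q => if p.1 = w.right q.1 then ρ (w.left p.1) p.2 q.2 else 0
  map_one' := by
    ext ⟨i, a⟩ ⟨j, b⟩
    simp only [Matrix.of_apply, SemidirectProduct.one_right, SemidirectProduct.one_left, Equiv.Perm.coe_one, id,
      Pi.one_apply, map_one]
    by_cases h : i = j
    · subst h; simp [Matrix.one_apply]
    · have : (i, a) ≠ (j, b) := fun e => h (congrArg Prod.fst e)
      rw [if_neg h, Matrix.one_apply_ne this]
  map_mul' u v := by
    ext ⟨i, a⟩ ⟨j, b⟩
    simp only [Matrix.of_apply, Matrix.mul_apply, Fintype.sum_prod_type, left_mul, right_mul, map_mul,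
      Equiv.Perm.mul_apply]
    rw [Finset.sum_eq_single (v.right j)]
    · by_cases h : i = u.right (v.right j)
      · subst h
        simp
      · simp [h]
    · intro k _ hk
      apply Finset.sum_eq_zero
      intro c _
      rw [if_neg (c := k = v.right j) hk, mul_zero]
    · intro h; exact absurd (Finset.mem_univ _) h

theorem mat_apply (ρ : X →* Matrix ι ι R) (w : W X n) (i j : n) (a b : ι) :
    mat ρ w (i, a) (j, b) = if i = w.right j then ρ (w.left i) a b else 0 := rfl

theorem mat_injective [Nonempty ι] [Nontrivial R] {ρ : X →* Matrix ι ι R} (hρ : Function.Injective ρ) :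
    Function.Injective (mat (n := n) ρ) := by
  rw [injective_iff_map_eq_one']
  intro w
  refine ⟨fun h => ?_, fun h => by rw [h, map_one]⟩
  have h1 : w.right = 1 := by
    ext j
    by_contra hj
    have h2 : ρ (w.left j) = 0 ∨ True := Or.inr trivial
    have h3 : ∀ a b, mat ρ w (j, a) (j, b) = 0 := by
      intro a b
      rw [mat_apply, if_neg (fun e => hj (by rw [Equiv.Perm.one_apply]; exact e.symm))]
    obtain ⟨a⟩ := ‹Nonempty ι›
    have h4 := h3 a a
    rw [h, Matrix.one_apply_eq] at h4
    exact one_ne_zero h4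
  apply ext'
  · intro i
    apply hρ
    rw [SemidirectProduct.one_left, Pi.one_apply, map_one]
    ext a b
    have h4 : mat ρ w (i, a) (i, b) = ρ (w.left i) a b := by
      rw [mat_apply, h1]; simp
    rw [← h4, h]
    simp [Matrix.one_apply]
  · exact h1

/-- the determinant of a block monomial matrix -/
theorem det_mat (ρ : X →* Matrix ι ι R) (w : W X n) :
    (mat ρ w).det = ((Equiv.Perm.sign w.right : ℤ) : R) ^ Fintype.card ι * ∏ i, (ρ (w.left i)).det := by
  have h1 : mat ρ w = (Matrix.blockDiagonal fun i => ρ (w.left i)).submatrix Prod.swap Prod.swap *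
      Matrix.kroneckerMap (· * ·) (w.right⁻¹.permMatrix R) (1 : Matrix ι ι R) := by
    ext ⟨i, a⟩ ⟨j, b⟩
    rw [mat_apply, Matrix.mul_apply, Fintype.sum_prod_type, Finset.sum_eq_single i]
    · simp only [Matrix.submatrix_apply, Prod.swap_prod_mk, Matrix.blockDiagonal_apply, if_true,
        Matrix.kroneckerMap_apply, Matrix.one_apply]
      rw [Finset.sum_eq_single b]
      · rw [if_pos rfl, mul_one, Equiv.Perm.permMatrix, PEquiv.toMatrix_apply]
        simp only [Equiv.toPEquiv_apply, Option.mem_def, Option.some.injEq]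
        by_cases h : i = w.right j
        · rw [if_pos h, if_pos (by rw [h]; simp), mul_one]
        · rw [if_neg h, if_neg (fun e => h (by rw [← e]; simp)), mul_zero]
      · intro c _ hc
        rw [if_neg hc, mul_zero, mul_zero]
      · intro h; exact absurd (Finset.mem_univ _) h
    · intro k _ hk
      apply Finset.sum_eq_zero
      intro c _
      simp only [Matrix.submatrix_apply, Prod.swap_prod_mk, Matrix.blockDiagonal_apply]
      rw [if_neg (fun e => hk e.symm), zero_mul]
    · intro h; exact absurd (Finset.mem_univ _) h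
  rw [h1, Matrix.det_mul]
  have h2 : ((Matrix.blockDiagonal fun i => ρ (w.left i)).submatrix (Prod.swap : n × ι → ι × n) Prod.swap).det =
      ∏ i, (ρ (w.left i)).det := by
    have := Matrix.det_submatrix_equiv_self (Equiv.prodComm n ι) (Matrix.blockDiagonal fun i => ρ (w.left i))
    rw [Matrix.det_blockDiagonal] at this
    exact this
  rw [h2, Matrix.det_kronecker, Matrix.det_one, one_pow, mul_one, Matrix.det_permutation, Equiv.Perm.sign_inv,
    mul_comm]

/-- block monomial matrices preserve the block form -/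
theorem mat_form (ρ : X →* Matrix ι ι R) (θ : R →+* R) (B : Matrix ι ι R)
    (hB : ∀ x, ρ x * B * ((ρ x).map θ)ᵀ = B) (w : W X n) :
    mat ρ w * (Matrix.of fun p q : n × ι => if p.1 = q.1 then B p.2 q.2 else 0) * ((mat ρ w).map θ)ᵀ =
      (Matrix.of fun p q : n × ι => if p.1 = q.1 then B p.2 q.2 else 0) := by
  ext ⟨i, a⟩ ⟨j, b⟩
  simp only [Matrix.mul_apply, Fintype.sum_prod_type, Matrix.of_apply, Matrix.transpose_apply, Matrix.map_apply,
    mat_apply]
  have h1 : ∀ (k : n) (c : ι), (∑ k' : n, ∑ c' : ι, (if i = w.right k' then ρ (w.left i) a c' else 0) *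
      if k' = k then B c' c else 0) = if i = w.right k then ∑ c', ρ (w.left i) a c' * B c' c else 0 := by
    intro k c
    rw [Finset.sum_eq_single k]
    · by_cases h : i = w.right k
      · simp [h]
      · simp [h]
    · intro k' _ hk'
      simp [hk']
    · intro h; exact absurd (Finset.mem_univ _) h
  simp only [h1]
  have hw : w.right (w.right⁻¹ i) = i := by simp
  rw [Finset.sum_eq_single (w.right⁻¹ i)]
  · by_cases hij : i = j
    · subst hij
      simp only [hw, if_true]
      have := congrFun (congrFun (hB (w.left i)) a) b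
      simpa [Matrix.mul_apply] using this
    · rw [if_neg hij]
      apply Finset.sum_eq_zero
      intro c _
      rw [hw, if_neg (c := j = i) (fun e => hij e.symm), map_zero, mul_zero]
  · intro k _ hk
    apply Finset.sum_eq_zero
    intro c _
    rw [if_neg (fun e => hk (by rw [e]; simp)), zero_mul]
  · intro h; exact absurd (Finset.mem_univ _) h

end Mat

end Cfsg.Agent.Lib.WrTwo
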