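import Mathlib
import Cfsg.Prelude.Def_Transfer
import Cfsg.Agent.Lib.WrTwo

/-!
(helper43) 2-adic valuations of the orders of classical groups; Sylow glue; normal 2-rank of wreath products.
-/

set_option autoImplicit false

namespace Cfsg.Agent.Lib.WrTwo

/-! ### Valuations -/

theorem v_even {q : ℕ} (hq : q % 2 = 1) (hq1 : 1 < q) {i : ℕ} (hi : i ≠ 0) :
    padicValNat 2 (q ^ (2 * i) - 1) = padicValNat 2 (q ^ 2 - 1) + padicValNat 2 i := by
  have h1 := padicValNat.pow_two_sub_pow (x := q) (y := 1) hq1 (by omega) (by omega) (n := 2 * i) (by omega)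
    ⟨i, by ring⟩
  have h2 := padicValNat.pow_two_sub_pow (x := q) (y := 1) hq1 (by omega) (by omega) (n := 2) (by omega)
    ⟨1, by ring⟩
  rw [one_pow] at h1 h2
  rw [padicValNat.mul (by norm_num) hi, padicValNat_self] at h1
  rw [padicValNat_self] at h2
  omega

theorem emult_cast {a : ℕ} (ha : a ≠ 0) : (padicValNat 2 a : ℕ∞) = emultiplicity (2 : ℤ) (a : ℤ) := by
  have := Int.natCast_emultiplicity 2 a
  rw [padicValNat_eq_emultiplicity ha, ← this]
  rfl

theorem v_odd_sub {q : ℕ} (hq : q % 2 = 1) (hq1 : 1 < q) {i : ℕ} (hi : i % 2 = 1) :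
    padicValNat 2 (q ^ i - 1) = padicValNat 2 (q - 1) := by
  have h1 : emultiplicity (2 : ℤ) ((q : ℤ) ^ i - 1 ^ i) = emultiplicity (2 : ℤ) ((q : ℤ) - 1) := by
    apply emultiplicity_pow_sub_pow_of_prime Int.prime_two (by omega) (by omega) (by omega)
  have hlt : 1 < q ^ i := Nat.one_lt_pow (by omega) hq1
  have h2 : ((q ^ i - 1 : ℕ) : ℤ) = (q : ℤ) ^ i - 1 ^ i := by push_cast [hlt.le]; ring
  have h3 : ((q - 1 : ℕ) : ℤ) = (q : ℤ) - 1 := by push_cast [hq1.le]; ring
  rw [← h2, ← h3, ← emult_cast (by omega), ← emult_cast (by omega)] at h1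
  exact_mod_cast h1

theorem v_odd_add {q : ℕ} (hq : q % 2 = 1) {i : ℕ} (hi : i % 2 = 1) :
    padicValNat 2 (q ^ i + 1) = padicValNat 2 (q + 1) := by
  have h1 : emultiplicity (2 : ℤ) ((q : ℤ) ^ i - (-1) ^ i) = emultiplicity (2 : ℤ) ((q : ℤ) - (-1)) := by
    apply emultiplicity_pow_sub_pow_of_prime Int.prime_two (by omega) (by omega) (by omega)
  have hodd : Odd i := Nat.odd_iff.2 hi
  have h2 : ((q ^ i + 1 : ℕ) : ℤ) = (q : ℤ) ^ i - (-1) ^ i := by rw [hodd.neg_one_pow]; push_cast; ring
  have h3 : ((q + 1 : ℕ) : ℤ) = (q : ℤ) - (-1) := by push_cast; ring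
  rw [← h2, ← h3, ← emult_cast (by omega), ← emult_cast (by omega)] at h1
  exact_mod_cast h1

/-! ### Sylow glue -/

theorem sylow_equiv {p : ℕ} [hp : Fact p.Prime] {G P : Type*} [Group G] [Finite G] [Group P] (f : P →* G)
    (hf : Function.Injective f) (hc : Nat.card P = p ^ padicValNat p (Nat.card G)) (S : Sylow p G) :
    Nonempty (P ≃* (S : Subgroup G)) := by
  have h1 : Nat.card f.range = p ^ (Nat.card G).factorization p := by
    rw [Nat.card_congr (MonoidHom.ofInjective hf).toEquiv.symm, hc, Nat.factorization_def _ hp.out]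
  let S' : Sylow p G := Sylow.ofCard f.range h1
  exact ⟨(MonoidHom.ofInjective hf).trans (Sylow.equiv S' S)⟩

theorem card_sylow {p : ℕ} [hp : Fact p.Prime] {G : Type*} [Group G] [Finite G] (S : Sylow p G) :
    Nat.card (S : Subgroup G) = p ^ padicValNat p (Nat.card G) := by
  rw [Sylow.card_eq_multiplicity, Nat.factorization_def _ hp.out]

/-! ### Normal rank -/

/-- the normal 2-rank of `P` is `r`. -/
def NR (P : Type*) [Group P] (r : ℕ) : Prop :=
  (∃ E : Subgroup P, E.Normal ∧ Cfsg.IsElementaryAbelian 2 E ∧ 2 ^ r ≤ Nat.card ↥E) ∧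
    ∀ E : Subgroup P, E.Normal → Cfsg.IsElementaryAbelian 2 E → Nat.card ↥E ≤ 2 ^ r

theorem elab_map {P Q : Type*} [Group P] [Group Q] (e : P ≃* Q) {E : Subgroup P}
    (h : Cfsg.IsElementaryAbelian 2 E) : Cfsg.IsElementaryAbelian 2 (E.map e.toMonoidHom) := by
  refine ⟨⟨⟨?_⟩⟩, ?_⟩
  · rintro ⟨_, x, hx, rfl⟩ ⟨_, y, hy, rfl⟩
    apply Subtype.ext
    show e.toMonoidHom x * e.toMonoidHom y = e.toMonoidHom y * e.toMonoidHom x
    rw [← map_mul, ← map_mul]
    have := h.1.is_comm.comm (⟨x, hx⟩ : E) ⟨y, hy⟩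
    exact congrArg _ (congrArg Subtype.val this)
  · rintro _ ⟨x, hx, rfl⟩
    rw [← map_pow, h.2 x hx, map_one]

theorem NR.of_equiv {P Q : Type*} [Group P] [Group Q] (e : P ≃* Q) {r : ℕ} (h : NR P r) : NR Q r := by
  obtain ⟨⟨E, h1, h2, h3⟩, h4⟩ := h
  refine ⟨⟨E.map e.toMonoidHom, h1.map _ e.surjective, elab_map e h2, ?_⟩, fun A hA hA2 => ?_⟩
  · rwa [Nat.card_congr (E.equivMapOfInjective e.toMonoidHom e.injective).toEquiv.symm]
  · have := h4 (A.map e.symm.toMonoidHom) (hA.map _ e.symm.surjective) (elab_map e.symm hA2)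
    rwa [Nat.card_congr (A.equivMapOfInjective e.symm.toMonoidHom e.symm.injective).toEquiv.symm] at this

variable {X : Type*} [Group X] {n : Type*}

/-- the key commutator computation -/
theorem right_eq_self {A : Set (W X n)} (hA2 : ∀ a ∈ A, a * a = 1) {a u : W X n}
    (hcomm : a * u * a⁻¹ * u⁻¹ ∈ A) (hu : u.right = 1) {i : n} {x : X} (hx : x * x ≠ 1) (hui : u.left i = x)
    (huj : a.right i ≠ i → u.left (a.right i) = 1) : a.right i = i := by
  by_contra hne
  have h1 := huj hne
  have h2 := hA2 _ hcomm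
  have h3 : (a * u * a⁻¹ * u⁻¹).right = 1 := by
    simp [hu]
  have h4 : (a * u * a⁻¹ * u⁻¹).left (a.right i) = a.left (a.right i) * x * (a.left (a.right i))⁻¹ := by
    simp only [left_mul, right_mul, left_inv, right_inv, hu, mul_inv_rev, inv_inv, inv_one, mul_one, one_mul,
      Equiv.Perm.mul_apply, Equiv.Perm.one_apply]
    have h5 : a.right⁻¹ (a.right i) = i := by simp
    rw [h5, hui, h1, inv_one, mul_one]
  have h5 := congrArg (fun w : W X n => w.left (a.right i)) h2
  simp only [left_mul (a * u * a⁻¹ * u⁻¹) (a * u * a⁻¹ * u⁻¹), h3, h4, inv_one, Equiv.Perm.one_apply,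
    SemidirectProduct.one_left, Pi.one_apply] at h5
  apply hx
  have h6 : a.left (a.right i) * (x * x) * (a.left (a.right i))⁻¹ = 1 := by
    rw [← h5]; group
  have h7 : x * x = (a.left (a.right i))⁻¹ * 1 * (a.left (a.right i)) := by rw [← h6]; group
  rw [h7]; group

/-- Normal 2-rank of `T ≀ Q`, when normal elementary abelian subgroups have their coordinates in `{1,z}`. -/
theorem nr_sub [Fintype n] [DecidableEq n] (T : Subgroup X) (Q : Subgroup (Equiv.Perm n)) {x z : X} (hx : x ∈ T)
    (hx2 : x * x ≠ 1) (hz : z ∈ T) (hz1 : z ≠ 1) (hz2 : z * z = 1) (hzc : ∀ t ∈ T, t * z = z * t)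
    (hT : ∀ (B : Subgroup T), B.Normal → Cfsg.IsElementaryAbelian 2 B → ∀ b ∈ B, (b : X) = 1 ∨ (b : X) = z) :
    NR (sub T Q) (Fintype.card n) := by
  classical
  -- the subgroup E
  let E : Subgroup (sub T Q) :=
    { carrier := {w | (∀ i, w.1.left i = 1 ∨ w.1.left i = z) ∧ w.1.right = 1}
      mul_mem' := by
        rintro a b ⟨ha, ha'⟩ ⟨hb, hb'⟩
        refine ⟨fun i => ?_, ?_⟩
        · show a.1.left i * b.1.left (a.1.right⁻¹ i) = 1 ∨ a.1.left i * b.1.left (a.1.right⁻¹ i) = z
          rw [ha', inv_one, Equiv.Perm.one_apply]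
          rcases ha i with h | h <;> rcases hb i with h' | h' <;> rw [h, h']
          · left; rw [mul_one]
          · right; rw [one_mul]
          · right; rw [mul_one]
          · left; exact hz2
        · show a.1.right * b.1.right = 1
          rw [ha', hb', mul_one]
      one_mem' := ⟨fun i => Or.inl rfl, rfl⟩
      inv_mem' := by
        rintro a ⟨ha, ha'⟩
        refine ⟨fun i => ?_, ?_⟩
        · show (a.1⁻¹).left i = 1 ∨ (a.1⁻¹).left i = z
          rw [left_inv, ha', Equiv.Perm.one_apply]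
          rcases ha i with h | h <;> rw [h]
          · left; rw [inv_one]
          · right; exact inv_eq_of_mul_eq_one_right hz2
        · show a.1.right⁻¹ = 1
          rw [ha', inv_one] }
  have memE : ∀ w : sub T Q, w ∈ E ↔ (∀ i, w.1.left i = 1 ∨ w.1.left i = z) ∧ w.1.right = 1 := fun w => Iff.rfl
  -- card of E
  let eE : E ≃ (n → Bool) :=
    { toFun := fun w i => decide (w.1.1.left i = z)
      invFun := fun f => ⟨⟨⟨fun i => if f i then z else 1, 1⟩, ⟨fun i => by
          show (if f i then z else 1) ∈ T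
          split_ifs
          · exact hz
          · exact T.one_mem, Q.one_mem⟩⟩, ⟨fun i => by
          show (if f i then z else 1) = 1 ∨ (if f i then z else 1) = z
          split_ifs
          · right; rfl
          · left; rfl, rfl⟩⟩
      left_inv := by
        rintro ⟨⟨w, hw⟩, hw2⟩
        apply Subtype.ext
        apply Subtype.ext
        apply ext'
        · intro i
          show (if decide (w.left i = z) = true then z else 1) = w.left i
          rcases hw2.1 i with h | h
          · have h' : w.left i = 1 := h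
            rw [if_neg, h']
            rw [decide_eq_true_eq, h']
            exact fun e => hz1 e.symm
          · have h' : w.left i = z := h
            rw [if_pos, h']
            rw [decide_eq_true_eq, h']
        · exact hw2.2.symm
      right_inv := by
        intro f
        funext i
        show decide ((if f i then z else 1) = z) = f i
        cases hfi : f i
        · simp [hz1.symm]
        · simp }
  have hcE : Nat.card E = 2 ^ Fintype.card n := by
    rw [Nat.card_congr eE, Nat.card_fun, Nat.card_eq_fintype_card, Nat.card_eq_fintype_card, Fintype.card_bool]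
  refine ⟨⟨E, ⟨?_⟩, ⟨⟨⟨?_⟩⟩, ?_⟩, hcE.ge⟩, ?_⟩
  · -- normal
    intro a ha g
    have ha1 := (memE a).1 ha
    rw [memE]
    refine ⟨fun i => ?_, ?_⟩
    · show (g.1 * a.1 * g.1⁻¹).left i = 1 ∨ (g.1 * a.1 * g.1⁻¹).left i = z
      simp only [left_mul, right_mul, left_inv, ha1.2, mul_one]
      have h5 : g.1.right (g.1.right⁻¹ i) = i := by simp
      rw [h5]
      rcases ha1.1 (g.1.right⁻¹ i) with h | h <;> rw [h]
      · left; group
      · right; rw [hzc _ (g.2.1 i)]; group
    · show g.1.right * a.1.right * g.1.right⁻¹ = 1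
      rw [ha1.2]; group
  · rintro ⟨a, ha⟩ ⟨b, hb⟩
    apply Subtype.ext
    apply Subtype.ext
    apply ext'
    · intro i
      show a.1.left i * b.1.left (a.1.right⁻¹ i) = b.1.left i * a.1.left (b.1.right⁻¹ i)
      rw [((memE a).1 ha).2, ((memE b).1 hb).2, inv_one, Equiv.Perm.one_apply]
      rcases ((memE a).1 ha).1 i with h | h <;> rcases ((memE b).1 hb).1 i with h' | h' <;> rw [h, h']
      · rw [mul_one, one_mul]
      · rw [mul_one, one_mul]
    · show a.1.right * b.1.right = b.1.right * a.1.right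
      rw [((memE a).1 ha).2, ((memE b).1 hb).2]
  · intro a ha
    rw [pow_two]
    apply Subtype.ext
    apply ext'
    · intro i
      show a.1.left i * a.1.left (a.1.right⁻¹ i) = 1
      rw [((memE a).1 ha).2, inv_one, Equiv.Perm.one_apply]
      rcases ((memE a).1 ha).1 i with h | h <;> rw [h]
      · rw [one_mul]
      · exact hz2
    · show a.1.right * a.1.right = 1
      rw [((memE a).1 ha).2, one_mul]
  · -- upper bound
    intro A hA hAe
    have key : A ≤ E := by
      have h2 : ∀ a ∈ {w : W X n | ∃ h : w ∈ sub T Q, (⟨w, h⟩ : sub T Q) ∈ A}, a * a = 1 := by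
        rintro a ⟨h, ha⟩
        have := hAe.2 _ ha
        rw [pow_two] at this
        exact congrArg Subtype.val this
      have hcomm : ∀ a ∈ A, ∀ u : sub T Q, (a.1 * u.1 * a.1⁻¹ * u.1⁻¹) ∈
          {w : W X n | ∃ h : w ∈ sub T Q, (⟨w, h⟩ : sub T Q) ∈ A} := by
        intro a ha u
        refine ⟨(a * u * a⁻¹ * u⁻¹).2, ?_⟩
        have : a * (u * a⁻¹ * u⁻¹) ∈ A := A.mul_mem ha (hA.conj_mem _ (A.inv_mem ha) u)
        have e : a * u * a⁻¹ * u⁻¹ = a * (u * a⁻¹ * u⁻¹) := by group
        rw [← e] at this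
        exact this
      have hr : ∀ a ∈ A, a.1.right = 1 := by
        intro a ha
        ext i
        rw [Equiv.Perm.one_apply]
        let u : sub T Q := ⟨⟨Pi.mulSingle i x, 1⟩, ⟨fun j => by
          show Pi.mulSingle (M := fun _ => X) i x j ∈ T
          by_cases h : j = i
          · rw [h, Pi.mulSingle_eq_same]; exact hx
          · rw [Pi.mulSingle_eq_of_ne h]; exact T.one_mem, Q.one_mem⟩⟩
        refine right_eq_self h2 (hcomm a ha u) rfl hx2 ?_ ?_
        · show Pi.mulSingle (M := fun _ => X) i x i = x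
          rw [Pi.mulSingle_eq_same]
        · intro h
          show Pi.mulSingle (M := fun _ => X) i x (a.1.right i) = 1
          rw [Pi.mulSingle_eq_of_ne h]
      intro a ha
      rw [memE]
      refine ⟨fun i => ?_, hr a ha⟩
      -- projection to coordinate i
      let B : Subgroup T :=
        { carrier := {t | ∃ a ∈ A, a.1.left i = t}
          mul_mem' := by
            rintro s t ⟨a, ha, hs⟩ ⟨b, hb, ht⟩
            refine ⟨a * b, A.mul_mem ha hb, ?_⟩
            show a.1.left i * b.1.left (a.1.right⁻¹ i) = s * t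
            rw [hr a ha, inv_one, Equiv.Perm.one_apply, hs, ht]
          one_mem' := ⟨1, A.one_mem, rfl⟩
          inv_mem' := by
            rintro s ⟨a, ha, hs⟩
            refine ⟨a⁻¹, A.inv_mem ha, ?_⟩
            show (a.1⁻¹).left i = _
            rw [left_inv, hr a ha, Equiv.Perm.one_apply, hs]
            rfl }
      have hB1 : B.Normal := by
        constructor
        rintro b ⟨a, ha, hb⟩ g
        let u : sub T Q := ⟨⟨Pi.mulSingle i (g : X), 1⟩, ⟨fun j => by
          show Pi.mulSingle (M := fun _ => X) i (g : X) j ∈ T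
          by_cases h : j = i
          · rw [h, Pi.mulSingle_eq_same]; exact g.2
          · rw [Pi.mulSingle_eq_of_ne h]; exact T.one_mem, Q.one_mem⟩⟩
        refine ⟨u * a * u⁻¹, hA.conj_mem a ha u, ?_⟩
        show (u.1 * a.1 * u.1⁻¹).left i = _
        have hu : u.1.right = 1 := rfl
        have hui : u.1.left i = g := by
          show Pi.mulSingle (M := fun _ => X) i (g : X) i = _
          rw [Pi.mulSingle_eq_same]
        simp only [left_mul, right_mul, left_inv, hu, hr a ha, hui, hb, mul_one, one_mul, inv_one,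
          Equiv.Perm.one_apply]
        rfl
      have hB2 : Cfsg.IsElementaryAbelian 2 B := by
        refine ⟨⟨⟨?_⟩⟩, ?_⟩
        · rintro ⟨s, a, ha, hs⟩ ⟨t, b, hb, ht⟩
          apply Subtype.ext
          apply Subtype.ext
          show (s : X) * t = t * s
          have h5 := hAe.1.is_comm.comm (⟨a, ha⟩ : A) ⟨b, hb⟩
          have h6 : a.1 * b.1 = b.1 * a.1 := congrArg (fun w : A => w.1.1) h5
          have h7 := congrArg (fun w : W X n => w.left i) h6
          simp only [left_mul, hr a ha, hr b hb, inv_one, Equiv.Perm.one_apply, hs, ht] at h7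
          exact h7
        · rintro s ⟨a, ha, hs⟩
          rw [pow_two]
          apply Subtype.ext
          show (s : X) * s = 1
          have h7 := congrArg (fun w : W X n => w.left i) (h2 a.1 ⟨a.2, ha⟩)
          simp only [left_mul, hr a ha, inv_one, Equiv.Perm.one_apply, hs] at h7
          exact h7
      have := hT B hB1 hB2 ⟨a.1.left i, a.2.1 i⟩ ⟨a, ha, rfl⟩
      exact this
    have : Finite E := Finite.of_equiv _ eE.symm
    rw [← hcE]
    exact Nat.card_le_card_of_injective _ (Subgroup.inclusion_injective key)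

end Cfsg.Agent.Lib.WrTwo
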