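import Cfsg.Agent.Lib.WreathQuot

/-! Yoshida's argument for multiplicative cocycles (helper87). -/

set_option autoImplicit false
open Subgroup

namespace Cfsg.Agent.Lib.WreathCocycle
open Cfsg.Agent.Lib.WreathQuot

variable {G Y A : Type*} [Group G] [MulAction G Y] [CommGroup A] {κ : G → Y → A}

def IsCoc (κ : G → Y → A) : Prop := ∀ u v ω, κ (u * v) ω = κ u (v • ω) * κ v ω

theorem IsCoc.one (h : IsCoc κ) (ω : Y) : κ 1 ω = 1 := by
  have := h 1 1 ω
  rw [mul_one, one_smul] at this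
  exact (eq_comm.1 (mul_eq_right.1 this.symm)).symm

theorem prod_smul (B : Finset Y) (v : G) (hv : ∀ ω, v • ω ∈ B ↔ ω ∈ B) (f : Y → A) :
    ∏ ω ∈ B, f (v • ω) = ∏ ω ∈ B, f ω :=
  Finset.prod_equiv (MulAction.toPerm v) (fun ω => (hv ω).symm) (fun _ _ => rfl)

theorem IsCoc.prod_mul (h : IsCoc κ) (B : Finset Y) (u v : G) (hv : ∀ ω, v • ω ∈ B ↔ ω ∈ B) :
    ∏ ω ∈ B, κ (u * v) ω = (∏ ω ∈ B, κ u ω) * ∏ ω ∈ B, κ v ω := by
  rw [Finset.prod_congr rfl (fun ω _ => h u v ω), Finset.prod_mul_distrib, prod_smul B v hv (κ u)]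

/-- coboundary on a cyclic group -/
theorem IsCoc.prod_eq_one (h : IsCoc κ) (B : Finset Y) (x : G) (hx : ∀ ω, x • ω ∈ B ↔ ω ∈ B)
    (hk : ∀ ω ∈ B, ∀ k : ℤ, x ^ k • ω = ω → κ (x ^ k) ω = 1) : ∏ ω ∈ B, κ x ω = 1 := by
  classical
  let R : Setoid Y := MulAction.orbitRel (zpowers x) Y
  have hR : ∀ ω : Y, ∃ k : ℤ, x ^ k • (Quotient.out (s := R) ⟦ω⟧) = ω := by
    intro ω
    have h1 : R.r (Quotient.out (s := R) ⟦ω⟧) ω := Quotient.mk_out (s := R) ω
    have h2 : R.r ω (Quotient.out (s := R) ⟦ω⟧) := R.symm h1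
    obtain ⟨⟨g, k, rfl⟩, hg⟩ := h2
    exact ⟨k, hg⟩
  choose σ hσ using hR
  have hB : ∀ (k : ℤ) (ω : Y), x ^ k • ω ∈ B ↔ ω ∈ B := by
    have hn : ∀ (k : ℕ) (ω : Y), x ^ k • ω ∈ B ↔ ω ∈ B := by
      intro k
      induction k with
      | zero => intro ω; rw [pow_zero, one_smul]
      | succ k ih => intro ω; rw [pow_succ', mul_smul, hx, ih]
    intro k ω
    obtain ⟨n, rfl | rfl⟩ := k.eq_nat_or_neg
    · rw [zpow_natCast, hn]
    · rw [zpow_neg, zpow_natCast, ← hn n, smul_inv_smul]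
  let b : Y → A := fun ω => κ (x ^ σ ω) (Quotient.out (s := R) ⟦ω⟧)
  have hmk : ∀ ω : Y, (⟦x • ω⟧ : Quotient R) = ⟦ω⟧ := by
    intro ω
    refine Quotient.sound ?_
    exact ⟨⟨x, mem_zpowers x⟩, rfl⟩
  have key : ∀ ω ∈ B, κ x ω * b ω = b (x • ω) := by
    intro ω hω
    have h1 : κ x ω * b ω = κ (x ^ (1 + σ ω)) (Quotient.out (s := R) ⟦ω⟧) := by
      rw [zpow_add, zpow_one, h, hσ]
    have h2 := hσ (x • ω)
    rw [hmk] at h2
    have h3 : x ^ (-σ (x • ω) + (1 + σ ω)) • (Quotient.out (s := R) ⟦ω⟧) = Quotient.out (s := R) ⟦ω⟧ := by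
      rw [zpow_add, mul_smul, zpow_add, zpow_one, mul_smul, hσ]
      rw [zpow_neg, inv_smul_eq_iff]
      exact h2.symm
    have hrB : Quotient.out (s := R) ⟦ω⟧ ∈ B := by
      rw [← hB (σ ω), hσ]; exact hω
    have h4 := hk _ hrB _ h3
    rw [h1]
    have h5 : (1 + σ ω : ℤ) = σ (x • ω) + (-σ (x • ω) + (1 + σ ω)) := by ring
    rw [h5, zpow_add, h, h3, h4, mul_one]
    show _ = κ (x ^ σ (x • ω)) (Quotient.out (s := R) ⟦x • ω⟧)
    rw [hmk]
  have h6 : (∏ ω ∈ B, κ x ω) * ∏ ω ∈ B, b ω = ∏ ω ∈ B, b ω := by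
    rw [← Finset.prod_mul_distrib, Finset.prod_congr rfl key, prod_smul B x hx b]
  exact mul_eq_right.1 h6

/-- maximal subgroups containing a proper subgroup -/
theorem exists_max [Finite G] {p : ℕ} [hp : Fact p.Prime] (hG : IsPGroup p G) {H : Subgroup G} (hH : H ≠ ⊤) :
    ∃ M : Subgroup G, H ≤ M ∧ M.Normal ∧ M.index = p := by
  obtain ⟨n, hn⟩ := IsPGroup.iff_card.1 hG
  obtain ⟨k, hk⟩ := IsPGroup.iff_card.1 (hG.to_subgroup H)
  have hlt : Nat.card H < Nat.card G := by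
    refine lt_of_le_of_ne (Subgroup.card_le_card_group H) fun h => hH ((Subgroup.card_eq_iff_eq_top H).1 h)
  have hkn : k < n := by
    rw [hn, hk] at hlt
    exact (Nat.pow_lt_pow_iff_right hp.out.one_lt).1 hlt
  obtain ⟨M, hM, hHM⟩ := Sylow.exists_subgroup_card_pow_prime_le p (n := k) (m := n - 1) (by
    rw [hn]; exact pow_dvd_pow p (by omega)) H hk (by omega)
  have hidx : M.index = p := by
    have h1 := M.card_mul_index
    rw [hM, hn] at h1
    have h2 : p ^ n = p ^ (n - 1) * p := by rw [← pow_succ]; congr 1; omega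
    rw [h2] at h1
    exact Nat.eq_of_mul_eq_mul_left (pow_pos hp.out.pos _) h1
  refine ⟨M, hHM, ?_, hidx⟩
  refine Subgroup.normal_of_index_eq_minFac_card ?_
  rw [hidx, hn, hp.out.pow_minFac (by omega)]

section orbit

variable {p : ℕ} [hp : Fact p.Prime]

/-- the character attached to an invariant block -/
def lam (κ : G → Y → Multiplicative (ZMod p)) (h : IsCoc κ) (M : Subgroup G) (B : Finset Y)
    (hB : ∀ m ∈ M, ∀ ω, m • ω ∈ B ↔ ω ∈ B) : M →* Multiplicative (ZMod p) where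
  toFun m := ∏ ω ∈ B, κ m ω
  map_one' := Finset.prod_eq_one fun ω _ => h.one ω
  map_mul' u v := h.prod_mul B u v (hB v v.2)

/-- the product over a nontrivial orbit -/
theorem orbit_prod [Finite G] [Fintype Y] (hG : IsPGroup p G) {κ : G → Y → Multiplicative (ZMod p)} (h : IsCoc κ) (x : G)
    (hpow : ∀ (k : ℤ) (ω : Y), x ^ ((p : ℤ) * k) • ω = ω → κ (x ^ ((p : ℤ) * k)) ω = 1) (ω₀ : Y)
    (hω₀ : ¬ ∀ g : G, g • ω₀ = ω₀) (O : Finset Y) (hO : ∀ ω, ω ∈ O ↔ ∃ g : G, g • ω₀ = ω)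
    (H : ∀ (M : Subgroup G) (hM : M.Normal) (_ : M.index = p) (l : M →* Multiplicative (ZMod p)) (g : G) (x : M),
      ∏ i ∈ Finset.range p, tw hM l g i x = 1) : ∏ ω ∈ O, κ x ω = 1 := by
  classical
  have hst : MulAction.stabilizer G ω₀ ≠ ⊤ := by
    intro ht
    apply hω₀
    intro g
    have : g ∈ MulAction.stabilizer G ω₀ := by rw [ht]; trivial
    exact this
  obtain ⟨M, hstM, hM, hidx⟩ := exists_max hG hst
  have hstab : ∀ ω ∈ O, ∀ g : G, g • ω = ω → g ∈ M := by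
    intro ω hω g hg
    obtain ⟨u, rfl⟩ := (hO ω).1 hω
    have h1 : u⁻¹ * g * u ∈ MulAction.stabilizer G ω₀ := by
      rw [MulAction.mem_stabilizer_iff, mul_smul, mul_smul, hg, inv_smul_smul]
    have h2 := hM.conj_mem _ (hstM h1) u
    have h3 : u * (u⁻¹ * g * u) * u⁻¹ = g := by group
    rwa [h3] at h2
  have hOG : ∀ (g : G) (ω : Y), g • ω ∈ O ↔ ω ∈ O := by
    intro g ω
    rw [hO, hO]
    constructor
    · rintro ⟨u, hu⟩
      exact ⟨g⁻¹ * u, by rw [mul_smul, hu, inv_smul_smul]⟩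
    · rintro ⟨u, hu⟩
      exact ⟨g * u, by rw [mul_smul, hu]⟩
  have hpowM : ∀ y : G, y ∉ M → ∀ k : ℤ, y ^ k ∈ M → (p : ℤ) ∣ k := by
    intro y hy k hk
    by_contra hnd
    have hcop : IsCoprime (p : ℤ) k := (Int.prime_iff_natAbs_prime.2 (by simpa using hp.out)).coprime_iff_not_dvd.2 hnd
    obtain ⟨a, b, hab⟩ := hcop
    apply hy
    have h1 : y = (y ^ p) ^ a * (y ^ k) ^ b := by
      rw [← zpow_natCast, ← zpow_mul, ← zpow_mul, ← zpow_add, mul_comm (p : ℤ) a, mul_comm k b, hab, zpow_one]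
    rw [h1]
    refine M.mul_mem (M.zpow_mem ?_ _) (M.zpow_mem hk _)
    rw [← hidx]; exact M.pow_index_mem y
  by_cases hx : x ∈ M
  · -- blocks
    obtain ⟨g, -, hg⟩ : ∃ g ∈ (⊤ : Subgroup G), g ∉ M := by
      apply SetLike.exists_of_lt
      rw [lt_top_iff_ne_top]
      rintro rfl
      rw [index_top] at hidx
      exact hp.out.one_lt.ne hidx
    let B : Finset Y := Finset.univ.filter fun ω => ∃ m ∈ M, m • ω₀ = ω
    have hBmem : ∀ ω, ω ∈ B ↔ ∃ m ∈ M, m • ω₀ = ω := fun ω => by simp [B]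
    have hB : ∀ m ∈ M, ∀ ω, m • ω ∈ B ↔ ω ∈ B := by
      intro m hm ω
      rw [hBmem, hBmem]
      constructor
      · rintro ⟨u, hu, h1⟩
        exact ⟨m⁻¹ * u, M.mul_mem (M.inv_mem hm) hu, by rw [mul_smul, h1, inv_smul_smul]⟩
      · rintro ⟨u, hu, h1⟩
        exact ⟨m * u, M.mul_mem hm hu, by rw [mul_smul, h1]⟩
    have hgen : ∀ y : G, ∃ i ∈ Finset.range p, ∃ m ∈ M, y = g ^ i * m := by
      -- cosets `g^i M`
      intro y
      have hcard : Nat.card (G ⧸ M) = p := hidx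
      have hzt : zpowers (g : G ⧸ M) = ⊤ := by
        have hne : (g : G ⧸ M) ≠ 1 := fun h => hg ((QuotientGroup.eq_one_iff g).1 h)
        have h1 : orderOf (g : G ⧸ M) = p := by
          have h2 := orderOf_dvd_natCard (g : G ⧸ M)
          rw [hcard] at h2
          exact (hp.out.eq_one_or_self_of_dvd _ h2).resolve_left fun h3 => hne (orderOf_eq_one_iff.1 h3)
        apply Subgroup.eq_top_of_card_eq
        rw [Nat.card_zpowers, h1, hcard]
      have hy : (y : G ⧸ M) ∈ zpowers (g : G ⧸ M) := by rw [hzt]; trivial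
      obtain ⟨k, hk⟩ := hy
      have h2 : (y : G ⧸ M) = ((g ^ (k % p).toNat : G) : G ⧸ M) := by
        rw [← hk]
        have h3 : (((k % p).toNat : ℕ) : ℤ) = k % p := Int.toNat_of_nonneg (Int.emod_nonneg _ (by
          exact_mod_cast hp.out.ne_zero))
        show (g : G ⧸ M) ^ k = (g : G ⧸ M) ^ (k % p).toNat
        rw [← zpow_natCast, h3]
        have h4 : (g : G ⧸ M) ^ (p : ℤ) = 1 := by
          rw [zpow_natCast, ← hcard]; exact pow_card_eq_one'
        conv_lhs => rw [← Int.emod_add_mul_ediv k p, zpow_add, zpow_mul, h4, one_zpow, mul_one]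
      refine ⟨(k % p).toNat, ?_, (g ^ (k % p).toNat)⁻¹ * y, ?_, by group⟩
      · rw [Finset.mem_range]
        have h5 := Int.emod_lt_of_pos k (show (0 : ℤ) < p by exact_mod_cast hp.out.pos)
        have h6 := Int.emod_nonneg k (show (p : ℤ) ≠ 0 by exact_mod_cast hp.out.ne_zero)
        omega
      · rw [eq_comm, QuotientGroup.eq] at h2
        exact h2
    have hsplit : ∏ ω ∈ O, κ x ω = ∏ q ∈ Finset.range p ×ˢ B, κ x (g ^ q.1 • q.2) := by
      symm
      refine Finset.prod_bij (fun q _ => g ^ q.1 • q.2) ?_ ?_ ?_ (fun _ _ => rfl)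
      · rintro ⟨i, ω⟩ hq
        obtain ⟨m, hm, h1⟩ := (hBmem ω).1 (Finset.mem_product.1 hq).2
        exact (hO _).2 ⟨g ^ i * m, by rw [mul_smul, h1]⟩
      · rintro ⟨i, ω⟩ hq ⟨j, ω'⟩ hq' heq
        dsimp only at heq
        obtain ⟨hi, hω⟩ := Finset.mem_product.1 hq
        obtain ⟨hj, hω'⟩ := Finset.mem_product.1 hq'
        obtain ⟨m, hm, rfl⟩ := (hBmem ω).1 hω
        obtain ⟨m', hm', rfl⟩ := (hBmem ω').1 hω'
        dsimp only at hi hj
        rw [Finset.mem_range] at hi hj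
        have h1 : (g ^ j * m')⁻¹ * (g ^ i * m) ∈ M := by
          apply hstM
          rw [MulAction.mem_stabilizer_iff, mul_smul, inv_smul_eq_iff, mul_smul, mul_smul]
          exact heq
        have h2 : (g ^ j)⁻¹ * g ^ i ∈ M := by
          have h3 : (g ^ j)⁻¹ * g ^ i = m' * ((g ^ j * m')⁻¹ * (g ^ i * m)) * m⁻¹ := by group
          rw [h3]
          exact M.mul_mem (M.mul_mem hm' h1) (M.inv_mem hm)
        have h3 : g ^ ((i : ℤ) - j) ∈ M := by
          have h4 : g ^ ((i : ℤ) - j) = (g ^ j)⁻¹ * g ^ i := by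
            rw [sub_eq_neg_add, zpow_add, zpow_neg, zpow_natCast, zpow_natCast]
          rwa [h4]
        have h4 := hpowM g hg _ h3
        have h5 : i = j := by
          obtain ⟨c, hc⟩ := h4
          have hc0 : c = 0 := by
            by_contra hc0
            have hp0 : (0 : ℤ) < p := by exact_mod_cast hp.out.pos
            rcases lt_or_gt_of_ne hc0 with hlt | hgt
            · have : (p : ℤ) * c ≤ p * (-1) := mul_le_mul_of_nonneg_left (by omega) hp0.le
              omega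
            · have : (p : ℤ) * 1 ≤ p * c := mul_le_mul_of_nonneg_left (by omega) hp0.le
              omega
          rw [hc0, mul_zero] at hc
          omega
        subst h5
        have h6 : m • ω₀ = m' • ω₀ := smul_left_cancel _ heq
        rw [h6]
      · intro ω hω
        obtain ⟨y, rfl⟩ := (hO ω).1 hω
        obtain ⟨i, hi, m, hm, rfl⟩ := hgen y
        exact ⟨(i, m • ω₀), Finset.mem_product.2 ⟨hi, (hBmem _).2 ⟨m, hm, rfl⟩⟩, (mul_smul _ _ _).symm⟩
    rw [hsplit, Finset.prod_product, ← H M hM hidx (lam κ h M B hB) g ⟨x, hx⟩]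
    refine Finset.prod_congr rfl fun i _ => ?_
    show ∏ ω ∈ B, κ x (g ^ i • ω) = ∏ ω ∈ B, κ ((g ^ i)⁻¹ * x * g ^ i) ω
    have h1 : ∀ ω, κ x (g ^ i • ω) * κ (g ^ i) ω = κ (g ^ i) (((g ^ i)⁻¹ * x * g ^ i) • ω) * κ ((g ^ i)⁻¹ * x * g ^ i) ω := by
      intro ω
      rw [← h, ← h]
      congr 1
      group
    have h2 : (∏ ω ∈ B, κ x (g ^ i • ω)) * ∏ ω ∈ B, κ (g ^ i) ω =
        (∏ ω ∈ B, κ (g ^ i) ω) * ∏ ω ∈ B, κ ((g ^ i)⁻¹ * x * g ^ i) ω := by
      rw [← Finset.prod_mul_distrib, Finset.prod_congr rfl (fun ω _ => h1 ω), Finset.prod_mul_distrib,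
        prod_smul B ((g ^ i)⁻¹ * x * g ^ i) (hB _ (hM.conj_mem' x hx _)) (κ (g ^ i))]
    rw [mul_comm] at h2
    exact mul_left_cancel h2
  · refine h.prod_eq_one O x (hOG x) fun ω hω k hk => ?_
    obtain ⟨j, rfl⟩ := hpowM x hx k (hstab ω hω _ hk)
    exact hpow j ω hk

/-- Yoshida's cocycle lemma. -/
theorem exists_twist [Finite G] [Fintype Y] (hG : IsPGroup p G) (hY : ¬ p ∣ Nat.card Y)
    {κ : G → Y → Multiplicative (ZMod p)} (h : IsCoc κ) (x : G)
    (hpow : ∀ (k : ℤ) (ω : Y), x ^ ((p : ℤ) * k) • ω = ω → κ (x ^ ((p : ℤ) * k)) ω = 1)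
    {a : Multiplicative (ZMod p)} (ha : a ≠ 1) (hfix : ∀ ω : Y, (∀ g : G, g • ω = ω) → κ x ω = a)
    (hprod : ∏ ω : Y, κ x ω = 1) : ∃ (M : Subgroup G) (hM : M.Normal) (_ : M.index = p)
      (l : M →* Multiplicative (ZMod p)) (g : G) (x : M), ∏ i ∈ Finset.range p, tw hM l g i x ≠ 1 := by
  classical
  by_contra hcon
  have H : ∀ (M : Subgroup G) (hM : M.Normal) (_ : M.index = p) (l : M →* Multiplicative (ZMod p)) (g : G) (x : M),
      ∏ i ∈ Finset.range p, tw hM l g i x = 1 := by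
    intro M hM hidx l g x
    by_contra hne
    exact hcon ⟨M, hM, hidx, l, g, x, hne⟩
  have h1 := Finset.prod_filter_mul_prod_filter_not (Finset.univ : Finset Y) (fun ω => ∀ g : G, g • ω = ω) (κ x)
  have h2 : ∏ ω ∈ Finset.univ.filter (fun ω : Y => ¬ ∀ g : G, g • ω = ω), κ x ω = 1 := by
    rw [← Finset.prod_fiberwise_of_maps_to (g := fun ω : Y => (Quotient.mk (MulAction.orbitRel G Y) ω))
      (t := (Finset.univ.filter (fun ω : Y => ¬ ∀ g : G, g • ω = ω)).image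
        (fun ω : Y => (Quotient.mk (MulAction.orbitRel G Y) ω))) (fun ω hω => Finset.mem_image_of_mem _ hω)]
    refine Finset.prod_eq_one fun q hq => ?_
    obtain ⟨ω₀, hω₀, rfl⟩ := Finset.mem_image.1 hq
    have hω₀' := (Finset.mem_filter.1 hω₀).2
    refine orbit_prod hG h x hpow ω₀ hω₀' _ ?_ H
    intro ω
    rw [Finset.mem_filter, Finset.mem_filter]
    constructor
    · rintro ⟨-, h3⟩
      have h4 : (MulAction.orbitRel G Y).r ω ω₀ := Quotient.exact h3
      exact h4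
    · rintro ⟨g, rfl⟩
      refine ⟨⟨Finset.mem_univ _, fun hall => hω₀' fun u => ?_⟩, Quotient.sound ⟨g, rfl⟩⟩
      have h5 := hall (g * u * g⁻¹)
      rw [mul_smul, mul_smul, inv_smul_smul, smul_left_cancel_iff] at h5
      exact h5
  rw [h2, mul_one, hprod, Finset.prod_congr rfl (fun ω hω => hfix ω (Finset.mem_filter.1 hω).2), Finset.prod_const] at h1
  have h3 : orderOf a = p := by
    have h4 := orderOf_dvd_natCard a
    rw [Nat.card_congr Multiplicative.toAdd, Nat.card_zmod] at h4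
    exact (hp.out.eq_one_or_self_of_dvd _ h4).resolve_left fun h5 => ha (orderOf_eq_one_iff.1 h5)
  have h4 := orderOf_dvd_of_pow_eq_one h1
  rw [h3] at h4
  apply hY
  have h5 := hG.card_modEq_card_fixedPoints Y
  have h6 : Nat.card (MulAction.fixedPoints G Y) = (Finset.univ.filter (fun ω : Y => ∀ g : G, g • ω = ω)).card := by
    rw [Nat.card_eq_fintype_card, Fintype.card_subtype]
    rfl
  rw [h6] at h5
  exact (Nat.modEq_zero_iff_dvd.1 (h5.trans (Nat.modEq_zero_iff_dvd.2 h4)))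

end orbit

end Cfsg.Agent.Lib.WreathCocycle
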