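import Mathlib

/-! Quotients isomorphic to `C_p ≀ C_p` (helper87). -/

set_option autoImplicit false
open Subgroup

namespace Cfsg.Agent.Lib.WreathQuot

section shift

variable (p : ℕ) [hp : Fact p.Prime]

/-- the cyclic shift -/
def T : Module.End (ZMod p) (ZMod p → ZMod p) where
  toFun w i := w (i + 1)
  map_add' _ _ := rfl
  map_smul' _ _ := rfl

theorem T_pow (k : ℕ) (w : ZMod p → ZMod p) (i : ZMod p) : (T p ^ k) w i = w (i + k) := by
  induction k generalizing i with
  | zero => simp
  | succ k ih =>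
    rw [pow_succ', Module.End.mul_apply]
    show (T p ^ k) w (i + 1) = _
    rw [ih]; push_cast; ring_nf

theorem T_sub_pow : (T p - 1) ^ p = 0 := by
  have hchar : CharP (Module.End (ZMod p) (ZMod p → ZMod p)) p := by
    have hinj : Function.Injective (algebraMap (ZMod p) (Module.End (ZMod p) (ZMod p → ZMod p))) :=
      FaithfulSMul.algebraMap_injective _ _
    exact charP_of_injective_algebraMap hinj p
  rw [sub_pow_char_of_commute p (Commute.one_right _), one_pow, sub_eq_zero]
  refine LinearMap.ext fun w => funext fun i => ?_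
  rw [T_pow]; simp

/-- functions with zero sum are differences -/
theorem exists_diff (u : ZMod p → ZMod p) (hu : ∑ i, u i = 0) : ∃ h, (T p - 1) h = u := by
  refine ⟨fun i => ∑ j ∈ Finset.range i.val, u (j : ZMod p), funext fun i => ?_⟩
  show (∑ j ∈ Finset.range (i + 1).val, u (j : ZMod p)) - ∑ j ∈ Finset.range i.val, u (j : ZMod p) = u i
  have hi := ZMod.val_lt i
  by_cases h1 : i.val + 1 < p
  · have h2 : (i + 1).val = i.val + 1 := by
      have h3 : (1 : ZMod p).val = 1 := ZMod.val_one'' hp.out.ne_one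
      rw [ZMod.val_add_of_lt (by rw [h3]; exact h1), h3]
    rw [h2, Finset.sum_range_succ, add_sub_cancel_left, ZMod.natCast_zmod_val]
  · have h2 : i.val + 1 = p := by omega
    have h3 : i + 1 = 0 := by
      have h4 : ((i.val + 1 : ℕ) : ZMod p) = 0 := by rw [h2]; exact ZMod.natCast_self p
      rw [Nat.cast_add, ZMod.natCast_zmod_val, Nat.cast_one] at h4
      exact h4
    have h4 : ∑ j ∈ Finset.range p, u (j : ZMod p) = 0 := by
      rw [← hu]
      refine Finset.sum_bij (fun j _ => (j : ZMod p)) (fun _ _ => Finset.mem_univ _) ?_ ?_ (fun _ _ => rfl)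
      · intro a ha b hb hab
        rw [Finset.mem_range] at ha hb
        have := congrArg ZMod.val hab
        rwa [ZMod.val_natCast_of_lt ha, ZMod.val_natCast_of_lt hb] at this
      · intro b _
        exact ⟨b.val, Finset.mem_range.2 (ZMod.val_lt b), ZMod.natCast_zmod_val b⟩
    rw [h3, ZMod.val_zero, Finset.range_zero, Finset.sum_empty, zero_sub]
    have h5 : ∑ j ∈ Finset.range (i.val + 1), u (j : ZMod p) = 0 := by
      have h6 : Finset.range (i.val + 1) = Finset.range p := congrArg Finset.range h2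
      rw [h6]; exact h4
    rw [Finset.sum_range_succ, ZMod.natCast_zmod_val] at h5
    exact neg_eq_of_add_eq_zero_right h5

theorem decomp (u : ZMod p → ZMod p) : ∃ h, u = (∑ i, u i) • (Pi.single 0 1 : ZMod p → ZMod p) + (T p - 1) h := by
  obtain ⟨h, hh⟩ := exists_diff p (u - (∑ i, u i) • (Pi.single 0 1 : ZMod p → ZMod p)) (by
    simp [Finset.sum_sub_distrib, ← Finset.mul_sum])
  exact ⟨h, by rw [hh]; abel⟩

/-- a shift-invariant subspace containing a vector of nonzero sum is everything -/
theorem top_of_shift (V : Submodule (ZMod p) (ZMod p → ZMod p)) (hV : ∀ w ∈ V, T p w ∈ V) {w : ZMod p → ZMod p}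
    (hw : w ∈ V) (hne : ∑ i, w i ≠ 0) : V = ⊤ := by
  have hN : ∀ k : ℕ, ∀ u ∈ V, ((T p - 1) ^ k) u ∈ V := by
    intro k
    induction k with
    | zero => intro u hu; exact hu
    | succ k ih =>
      intro u hu
      rw [pow_succ', Module.End.mul_apply]
      exact V.sub_mem (hV _ (ih u hu)) (ih u hu)
  have key : ∀ k ≤ p, ∀ u, ((T p - 1) ^ (p - k)) u ∈ V := by
    intro k
    induction k with
    | zero => intro _ u; rw [Nat.sub_zero, T_sub_pow]; exact V.zero_mem
    | succ k ih =>
      intro hk u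
      have hk' := ih (by omega)
      have hj : p - k = (p - (k + 1)) + 1 := by omega
      rw [hj] at hk'
      obtain ⟨j, hj'⟩ : ∃ j, j = p - (k + 1) := ⟨_, rfl⟩
      rw [← hj'] at hk' ⊢
      obtain ⟨h, hh⟩ := decomp p w
      have h1 : ((T p - 1) ^ j) (Pi.single 0 1 : ZMod p → ZMod p) ∈ V := by
        have h2 : ((T p - 1) ^ j) w = (∑ i, w i) • ((T p - 1) ^ j) (Pi.single 0 1 : ZMod p → ZMod p) +
            ((T p - 1) ^ (j + 1)) h := by
          conv_lhs => rw [hh]
          rw [map_add, map_smul, pow_succ, Module.End.mul_apply]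
        have h3 : ((T p - 1) ^ j) (Pi.single 0 1 : ZMod p → ZMod p) = (∑ i, w i)⁻¹ • (((T p - 1) ^ j) w - ((T p - 1) ^ (j + 1)) h) := by
          rw [h2, add_sub_cancel_right, smul_smul, inv_mul_cancel₀ hne, one_smul]
        rw [h3]
        exact V.smul_mem _ (V.sub_mem (hN j w hw) (hk' h))
      obtain ⟨h', hh'⟩ := decomp p u
      rw [hh', map_add, map_smul, ← Module.End.mul_apply, ← pow_succ]
      exact V.add_mem (V.smul_mem _ h1) (hk' h')
  rw [eq_top_iff]
  intro u _
  have := key p le_rfl u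
  rwa [Nat.sub_self, pow_zero] at this

end shift

section main

variable {p : ℕ} [hp : Fact p.Prime]

theorem card_sylow (W : Sylow p (Equiv.Perm (Fin (p ^ 2)))) : Nat.card W = p ^ (p + 1) := by
  rw [W.card_eq_multiplicity, Nat.card_perm, Nat.card_fin]
  congr 1
  rw [pow_two, Nat.factorization_factorial_mul hp.out]
  have h := Nat.factorization_factorial_mul (n := 1) hp.out
  rw [mul_one] at h
  rw [h]; simp; ring

variable {X : Type*} [Group X]

/-- the twisted characters `m ↦ l (g^{-k} m g^k)` -/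
def tw {M : Subgroup X} (hM : M.Normal) (l : M →* Multiplicative (ZMod p)) (g : X) (k : ℕ) :
    M →* Multiplicative (ZMod p) where
  toFun m := l ⟨(g ^ k)⁻¹ * m * g ^ k, hM.conj_mem' m m.2 _⟩
  map_one' := by
    rw [← map_one l]; congr 1; ext; simp
  map_mul' a b := by
    rw [← map_mul]; congr 1; ext; simp [mul_assoc]

theorem tw_conj {M : Subgroup X} (hM : M.Normal) (l : M →* Multiplicative (ZMod p)) (g : X) (k : ℕ) (m : M) :
    tw hM l g k ⟨g⁻¹ * m * g, hM.conj_mem' m m.2 g⟩ = tw hM l g (k + 1) m := by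
  show l _ = l _
  congr 1; ext
  show (g ^ k)⁻¹ * (g⁻¹ * (m : X) * g) * g ^ k = (g ^ (k + 1))⁻¹ * (m : X) * g ^ (k + 1)
  rw [pow_succ', mul_inv_rev]; group

theorem tw_add_p {M : Subgroup X} (hM : M.Normal) (hidx : M.index = p) (l : M →* Multiplicative (ZMod p)) (g : X) (k : ℕ)
    (m : M) : tw hM l g (k + p) m = tw hM l g k m := by
  have hgp : g ^ p ∈ M := by rw [← hidx]; exact M.pow_index_mem g
  set c : M := ⟨g ^ p, hgp⟩
  have h : (⟨(g ^ (k + p))⁻¹ * (m : X) * g ^ (k + p), hM.conj_mem' m m.2 _⟩ : M) =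
      c⁻¹ * ⟨(g ^ k)⁻¹ * (m : X) * g ^ k, hM.conj_mem' m m.2 _⟩ * c := by
    ext
    show (g ^ (k + p))⁻¹ * (m : X) * g ^ (k + p) = (g ^ p)⁻¹ * ((g ^ k)⁻¹ * (m : X) * g ^ k) * g ^ p
    rw [pow_add, mul_inv_rev]; group
  show l _ = l _
  rw [h, map_mul, map_mul, map_inv, mul_comm (l c)⁻¹, inv_mul_cancel_right]

theorem tw_mod {M : Subgroup X} (hM : M.Normal) (hidx : M.index = p) (l : M →* Multiplicative (ZMod p)) (g : X) (k : ℕ)
    (m : M) : tw hM l g (k % p) m = tw hM l g k m := by
  have h : ∀ j r, tw hM l g (r + p * j) m = tw hM l g r m := by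
    intro j
    induction j with
    | zero => intro r; simp
    | succ j ih => intro r; rw [mul_add, mul_one, ← add_assoc, tw_add_p hM hidx, ih]
  conv_rhs => rw [← Nat.mod_add_div k p, h]

/-- the vector of all twists -/
def vec {M : Subgroup X} (hM : M.Normal) (l : M →* Multiplicative (ZMod p)) (g : X) :
    M →* Multiplicative (ZMod p → ZMod p) where
  toFun m := Multiplicative.ofAdd fun i => (tw hM l g i.val m).toAdd
  map_one' := by
    apply Multiplicative.toAdd.injective
    funext i
    show (tw hM l g i.val 1).toAdd = 0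
    rw [map_one]; rfl
  map_mul' a b := by
    apply Multiplicative.toAdd.injective
    funext i
    show (tw hM l g i.val (a * b)).toAdd = (tw hM l g i.val a).toAdd + (tw hM l g i.val b).toAdd
    rw [map_mul]; rfl

theorem vec_surjective {M : Subgroup X} (hM : M.Normal) (hidx : M.index = p) (l : M →* Multiplicative (ZMod p)) (g : X)
    (x : M) (hprod : ∏ i ∈ Finset.range p, tw hM l g i x ≠ 1) : Function.Surjective (vec hM l g) := by
  set V : Submodule (ZMod p) (ZMod p → ZMod p) := AddSubgroup.toZModSubmodule p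
    (vec hM l g).toAdditiveLeft.range with hV
  have hmem : ∀ w, w ∈ V ↔ ∃ m, ∀ i, (tw hM l g i.val m).toAdd = w i := by
    intro w
    rw [hV, AddSubgroup.mem_toZModSubmodule]
    constructor
    · rintro ⟨m, hm⟩
      exact ⟨m.toMul, fun i => congrFun hm i⟩
    · rintro ⟨m, hm⟩
      exact ⟨Additive.ofMul m, funext hm⟩
  have htop : V = ⊤ := by
    refine top_of_shift p V ?_ (w := fun i => (tw hM l g i.val x).toAdd) ((hmem _).2 ⟨x, fun i => rfl⟩) ?_
    · intro w hw
      obtain ⟨m, hm⟩ := (hmem w).1 hw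
      refine (hmem _).2 ⟨⟨g⁻¹ * m * g, hM.conj_mem' m m.2 g⟩, fun i => ?_⟩
      rw [tw_conj]
      show _ = w (i + 1)
      rw [← hm, ← tw_mod hM hidx l g (i.val + 1)]
      congr 3
      rw [ZMod.val_add, ZMod.val_one'' hp.out.ne_one]
    · intro h
      apply hprod
      apply Multiplicative.toAdd.injective
      rw [toAdd_prod, toAdd_one, ← h]
      symm
      refine Finset.sum_bij (fun (i : ZMod p) _ => i.val) (fun i _ => Finset.mem_range.2 (ZMod.val_lt i)) ?_ ?_ (fun _ _ => rfl)
      · intro a _ b _ hab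
        exact ZMod.val_injective p hab
      · intro b hb
        exact ⟨(b : ZMod p), Finset.mem_univ _, ZMod.val_natCast_of_lt (Finset.mem_range.1 hb)⟩
  intro w
  have : w.toAdd ∈ V := by rw [htop]; trivial
  obtain ⟨m, hm⟩ := (hmem _).1 this
  refine ⟨m, ?_⟩
  apply Multiplicative.toAdd.injective
  funext i
  exact hm i

theorem exists_quot [Finite X] (hX : IsPGroup p X) {M : Subgroup X} (hM : M.Normal) (hidx : M.index = p)
    (l : M →* Multiplicative (ZMod p)) (g : X) (x : M) (hprod : ∏ i ∈ Finset.range p, tw hM l g i x ≠ 1) :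
    ∃ (W : Sylow p (Equiv.Perm (Fin (p ^ 2)))) (f : X →* ↥(W : Subgroup (Equiv.Perm (Fin (p ^ 2))))),
      Function.Surjective f := by
  have hsurj := vec_surjective hM hidx l g x hprod
  set K : Subgroup X := l.ker.map M.subtype with hK
  have hlsurj : Function.Surjective l := by
    intro a
    obtain ⟨m, hm⟩ := hsurj (Multiplicative.ofAdd fun _ => a.toAdd)
    refine ⟨⟨(g ^ (0 : ZMod p).val)⁻¹ * m * g ^ (0 : ZMod p).val, hM.conj_mem' m m.2 _⟩, ?_⟩
    exact congrArg (fun v : Multiplicative (ZMod p → ZMod p) =>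
      Multiplicative.ofAdd ((Multiplicative.toAdd v : ZMod p → ZMod p) (0 : ZMod p))) hm
  have hcardA : Nat.card (Multiplicative (ZMod p)) = p := by
    rw [Nat.card_congr Multiplicative.toAdd, Nat.card_zmod]
  have hlker : l.ker.index = p := by
    rw [Subgroup.index_ker, MonoidHom.range_eq_top.2 hlsurj, Subgroup.card_top, hcardA]
  have hKidx : K.index = p ^ 2 := by
    rw [hK, Subgroup.index_map_of_injective _ M.subtype_injective, hlker, Subgroup.range_subtype, hidx, pow_two]
  have hvker : (vec hM l g).ker.index = p ^ p := by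
    rw [Subgroup.index_ker, MonoidHom.range_eq_top.2 hsurj, Subgroup.card_top, Nat.card_congr Multiplicative.toAdd,
      Nat.card_fun, Nat.card_zmod]
  -- action
  have hcardq : Nat.card (X ⧸ K) = p ^ 2 := by rw [← Subgroup.index_eq_card, hKidx]
  have : Finite (X ⧸ K) := inferInstance
  let e : X ⧸ K ≃ Fin (p ^ 2) := (Finite.equivFin _).trans (finCongr hcardq)
  let r : X →* Equiv.Perm (Fin (p ^ 2)) := (e.permCongrHom.toMonoidHom).comp (MulAction.toPermHom X (X ⧸ K))
  have hker : r.ker ≤ (vec hM l g).ker.map M.subtype := by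
    intro y hy
    have hy' : MulAction.toPermHom X (X ⧸ K) y = 1 := by
      have : e.permCongrHom (MulAction.toPermHom X (X ⧸ K) y) = 1 := hy
      rwa [map_eq_one_iff _ e.permCongrHom.injective] at this
    have hall : ∀ z : X, z⁻¹ * y * z ∈ K := by
      intro z
      have := congrFun (congrArg DFunLike.coe hy') (z : X ⧸ K)
      have h2 : ((y * z : X) : X ⧸ K) = (z : X ⧸ K) := this
      rw [eq_comm, QuotientGroup.eq] at h2
      rwa [mul_assoc]
    have hyM : y ∈ M := by
      have := hall 1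
      rw [inv_one, one_mul, mul_one] at this
      obtain ⟨m, _, hm⟩ := this
      rw [← hm]; exact m.2
    refine ⟨⟨y, hyM⟩, ?_, rfl⟩
    rw [SetLike.mem_coe, MonoidHom.mem_ker]
    apply Multiplicative.toAdd.injective
    funext i
    obtain ⟨m, hm, hmy⟩ := hall (g ^ i.val)
    show (tw hM l g i.val ⟨y, hyM⟩).toAdd = 0
    have : tw hM l g i.val ⟨y, hyM⟩ = l m := by
      show l _ = l m
      congr 1; ext; exact hmy.symm
    rw [this]
    have h1 : l m = 1 := hm
    rw [h1]; rfl
  have hrp : IsPGroup p r.range := hX.of_surjective r.rangeRestrict r.rangeRestrict_surjective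
  obtain ⟨W, hW⟩ := hrp.exists_le_sylow
  have hcard : p ^ (p + 1) ≤ Nat.card r.range := by
    rw [← Subgroup.index_ker]
    have h1 : ((vec hM l g).ker.map M.subtype).index = p ^ (p + 1) := by
      rw [Subgroup.index_map_of_injective _ M.subtype_injective, hvker, Subgroup.range_subtype, hidx, pow_succ]
    rw [← h1]
    exact Nat.le_of_dvd (Nat.pos_of_ne_zero Subgroup.FiniteIndex.index_ne_zero) (Subgroup.index_dvd_of_le hker)
  have heq : r.range = W := by
    apply Subgroup.eq_of_le_of_card_ge hW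
    exact (le_of_eq (card_sylow W)).trans hcard
  refine ⟨W, r.codRestrict (W : Subgroup (Equiv.Perm (Fin (p ^ 2)))) fun y => by
    rw [← heq]; exact ⟨y, rfl⟩, ?_⟩
  rintro ⟨w, hw⟩
  rw [← heq] at hw
  obtain ⟨y, hy⟩ := hw
  exact ⟨y, Subtype.ext hy⟩

end main

end Cfsg.Agent.Lib.WreathQuot
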