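import Cfsg.Agent.Lib.Y555A
set_option autoImplicit false
set_option linter.style.haveILetI false
set_option linter.unusedVariables false
set_option linter.unusedSectionVars false

/-!
The word problem for the Coxeter group of the diagram with arms of lengths five, three and two.
Nodes: centre `0`, arms `0 - 1 - 2 - 3 - 4 - 5`, `0 - 6 - 7 - 8` and `0 - 9 - 10`.
-/

namespace Cfsg.Agent.Lib.Y555

/-- Adjacency, as a matrix. -/
def adjM : Fin 11 → Fin 11 → Bool := fun i j =>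
  match i.val, j.val with
  | 0, 1 => true | 1, 0 => true
  | 1, 2 => true | 2, 1 => true
  | 2, 3 => true | 3, 2 => true
  | 3, 4 => true | 4, 3 => true
  | 4, 5 => true | 5, 4 => true
  | 0, 6 => true | 6, 0 => true
  | 6, 7 => true | 7, 6 => true
  | 7, 8 => true | 8, 7 => true
  | 0, 9 => true | 9, 0 => true
  | 9, 10 => true | 10, 9 => true
  | _, _ => false

/-- Entries of the Cartan matrix. -/
def cart (i j : Fin 11) : ℤ := if i = j then 2 else if adjM i j = true then -1 else 0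

/-- The linear forms. -/
def phf (i : Fin 11) (v : Fin 11 → ℤ) : ℤ :=
  cart i 0 * v 0 + cart i 1 * v 1 + cart i 2 * v 2 + cart i 3 * v 3 + cart i 4 * v 4 + cart i 5 * v 5 + cart i 6 * v 6 +
    cart i 7 * v 7 + cart i 8 * v 8 + cart i 9 * v 9 + cart i 10 * v 10

lemma phf_single (i j : Fin 11) : phf i (Pi.single j 1) = cart i j := by
  unfold phf
  generalize hc : cart i = c
  fin_cases j <;> simp

/-- Root data. -/
noncomputable def RD : RootDat (Fin 11) (Fin 11 → ℤ) where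
  adj i j := adjM i j = true
  al i := Pi.single i 1
  ph i := { toFun := phf i
            map_zero' := by simp [phf]
            map_add' := by intro x y; simp only [phf, Pi.add_apply]; ring }
  self i := by
    show phf i (Pi.single i 1) = 2
    rw [phf_single, cart, if_pos rfl]
  ad i j h := by
    have : i ≠ j := by
      rintro rfl
      revert h
      revert i
      decide
    show phf i (Pi.single j 1) = -1
    rw [phf_single, cart, if_neg this, if_pos h]
  nad i j h h' := by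
    show phf i (Pi.single j 1) = 0
    rw [phf_single, cart, if_neg h, if_neg h']
  sym := by decide
  pos v := (∀ k, 0 ≤ v k) ∧ ∃ k, 0 < v k
  pos_al i := ⟨fun k => by
    by_cases h : k = i
    · subst h; simp
    · simp [h], i, by simp⟩
  pos_add x y hx hy := ⟨fun k => add_nonneg (hx.1 k) (hy.1 k), by
    obtain ⟨k, hk⟩ := hx.2
    exact ⟨k, add_pos_of_pos_of_nonneg hk (hy.1 k)⟩⟩
  pos_neg x hx hx' := by
    obtain ⟨k, hk⟩ := hx.2
    have := hx'.1 k
    rw [Pi.neg_apply] at this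
    omega

/-- Integer vectors. -/
structure Vec where
  x0 : ℤ
  x1 : ℤ
  x2 : ℤ
  x3 : ℤ
  x4 : ℤ
  x5 : ℤ
  x6 : ℤ
  x7 : ℤ
  x8 : ℤ
  x9 : ℤ
  x10 : ℤ
  deriving DecidableEq

/-- Coordinates. -/
def toV (v : Fin 11 → ℤ) : Vec := ⟨v 0, v 1, v 2, v 3, v 4, v 5, v 6, v 7, v 8, v 9, v 10⟩

/-- Node of a number. -/
def nd (n : ℕ) : Fin 11 :=
  match n with
  | 0 => 0 | 1 => 1 | 2 => 2 | 3 => 3 | 4 => 4 | 5 => 5 | 6 => 6 | 7 => 7 | 8 => 8 | 9 => 9 | _ => 10

/-- Reflections of integer vectors. -/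
def st (n : ℕ) (v : Vec) : Vec :=
  match n with
  | 0 => { v with x0 := v.x1 + v.x6 + v.x9 - v.x0 }
  | 1 => { v with x1 := v.x0 + v.x2 - v.x1 }
  | 2 => { v with x2 := v.x1 + v.x3 - v.x2 }
  | 3 => { v with x3 := v.x2 + v.x4 - v.x3 }
  | 4 => { v with x4 := v.x3 + v.x5 - v.x4 }
  | 5 => { v with x5 := v.x4 - v.x5 }
  | 6 => { v with x6 := v.x0 + v.x7 - v.x6 }
  | 7 => { v with x7 := v.x6 + v.x8 - v.x7 }
  | 8 => { v with x8 := v.x7 - v.x8 }
  | 9 => { v with x9 := v.x0 + v.x10 - v.x9 }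
  | _ => { v with x10 := v.x9 - v.x10 }

lemma toV_inj {u v : Fin 11 → ℤ} (h : toV u = toV v) : u = v := by
  unfold toV at h
  simp only [Vec.mk.injEq] at h
  obtain ⟨h0, h1, h2, h3, h4, h5, h6, h7, h8, h9, h10⟩ := h
  funext i
  fin_cases i <;> assumption

lemma s_apply (i : Fin 11) (v : Fin 11 → ℤ) (k : Fin 11) : RD.s i v k = v k - phf i v * (if k = i then 1 else 0) := by
  show v k - (phf i v • (Pi.single i (1 : ℤ) : Fin 11 → ℤ)) k = _
  rw [Pi.smul_apply, smul_eq_mul, Pi.single_apply]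

lemma st_toV (n : ℕ) (v : Fin 11 → ℤ) : st n (toV v) = toV (RD.s (nd n) v) := by
  have hcases : n = 0 ∨ n = 1 ∨ n = 2 ∨ n = 3 ∨ n = 4 ∨ n = 5 ∨ n = 6 ∨ n = 7 ∨ n = 8 ∨ n = 9 ∨ ∃ m, n = m + 10 := by
    rcases Nat.lt_or_ge n 10 with h | h
    · omega
    · right; right; right; right; right; right; right; right; right; right
      exact ⟨n - 10, by omega⟩
  have c0 : ∀ j, cart 0 j = ![2, -1, 0, 0, 0, 0, -1, 0, 0, -1, 0] j := by decide
  have c1 : ∀ j, cart 1 j = ![-1, 2, -1, 0, 0, 0, 0, 0, 0, 0, 0] j := by decide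
  have c2 : ∀ j, cart 2 j = ![0, -1, 2, -1, 0, 0, 0, 0, 0, 0, 0] j := by decide
  have c3 : ∀ j, cart 3 j = ![0, 0, -1, 2, -1, 0, 0, 0, 0, 0, 0] j := by decide
  have c4 : ∀ j, cart 4 j = ![0, 0, 0, -1, 2, -1, 0, 0, 0, 0, 0] j := by decide
  have c5 : ∀ j, cart 5 j = ![0, 0, 0, 0, -1, 2, 0, 0, 0, 0, 0] j := by decide
  have c6 : ∀ j, cart 6 j = ![-1, 0, 0, 0, 0, 0, 2, -1, 0, 0, 0] j := by decide
  have c7 : ∀ j, cart 7 j = ![0, 0, 0, 0, 0, 0, -1, 2, -1, 0, 0] j := by decide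
  have c8 : ∀ j, cart 8 j = ![0, 0, 0, 0, 0, 0, 0, -1, 2, 0, 0] j := by decide
  have c9 : ∀ j, cart 9 j = ![-1, 0, 0, 0, 0, 0, 0, 0, 0, 2, -1] j := by decide
  have c10 : ∀ j, cart 10 j = ![0, 0, 0, 0, 0, 0, 0, 0, 0, -1, 2] j := by decide
  rcases hcases with rfl | rfl | rfl | rfl | rfl | rfl | rfl | rfl | rfl | rfl | ⟨m, rfl⟩
  · unfold toV; simp [s_apply, st, nd, phf, c0]; ring
  · unfold toV; simp [s_apply, st, nd, phf, c1]; ring
  · unfold toV; simp [s_apply, st, nd, phf, c2]; ring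
  · unfold toV; simp [s_apply, st, nd, phf, c3]; ring
  · unfold toV; simp [s_apply, st, nd, phf, c4]; ring
  · unfold toV; simp [s_apply, st, nd, phf, c5]; ring
  · unfold toV; simp [s_apply, st, nd, phf, c6]; ring
  · unfold toV; simp [s_apply, st, nd, phf, c7]; ring
  · unfold toV; simp [s_apply, st, nd, phf, c8]; ring
  · unfold toV; simp [s_apply, st, nd, phf, c9]; ring
  · unfold toV
    have : nd (m + 10) = 10 := rfl
    rw [this]
    simp [s_apply, phf, c10]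
    show st (m + 10) _ = _
    simp [st]; ring

/-- Reading a word from the right. -/
def run (w : List ℕ) (v : Vec) : Vec := w.foldr st v

lemma run_toV (w : List ℕ) (v : Fin 11 → ℤ) : run w (toV v) = toV (RD.act (w.map nd) v) := by
  induction w with
  | nil => rfl
  | cons n w ih =>
    show st n (run w (toV v)) = toV (RD.s (nd n) (RD.act (w.map nd) v))
    rw [ih, st_toV]

/-- The simple roots. -/
def bas : List Vec := [⟨1, 0, 0, 0, 0, 0, 0, 0, 0, 0, 0⟩, ⟨0, 1, 0, 0, 0, 0, 0, 0, 0, 0, 0⟩, ⟨0, 0, 1, 0, 0, 0, 0, 0, 0, 0, 0⟩,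
  ⟨0, 0, 0, 1, 0, 0, 0, 0, 0, 0, 0⟩, ⟨0, 0, 0, 0, 1, 0, 0, 0, 0, 0, 0⟩, ⟨0, 0, 0, 0, 0, 1, 0, 0, 0, 0, 0⟩, ⟨0, 0, 0, 0, 0, 0, 1, 0, 0, 0, 0⟩,
  ⟨0, 0, 0, 0, 0, 0, 0, 1, 0, 0, 0⟩, ⟨0, 0, 0, 0, 0, 0, 0, 0, 1, 0, 0⟩, ⟨0, 0, 0, 0, 0, 0, 0, 0, 0, 1, 0⟩, ⟨0, 0, 0, 0, 0, 0, 0, 0, 0, 0, 1⟩]

/-- The check of triviality of a word. -/
def chk (w : List ℕ) : Bool := bas.all fun v => run w v == v

lemma mem_bas (i : Fin 11) : toV (Pi.single i 1) ∈ bas := by
  fin_cases i <;> simp [toV, bas]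

section
variable {G : Type*} [Group G] (g : Fin 11 → G)

/-- Value of a word in numbers. -/
def evn (w : List ℕ) : G := ev g (w.map nd)

lemma evn_append (u w : List ℕ) : evn g (u ++ w) = evn g u * evn g w := by
  unfold evn; rw [List.map_append, ev_append]

lemma evn_nil : evn g [] = 1 := rfl

lemma evn_cons (n : ℕ) (w : List ℕ) : evn g (n :: w) = g (nd n) * evn g w := by
  unfold evn ev; simp

variable {g}

theorem evn_one (hg : CoxRel RD g) {w : List ℕ} (h : chk w = true) : evn g w = 1 := by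
  refine ev_eq_one hg fun i => ?_
  have h1 := List.all_eq_true.1 h _ (mem_bas i)
  rw [beq_iff_eq, run_toV] at h1
  exact toV_inj h1

lemma evn_rev (hg : CoxRel RD g) (w : List ℕ) : evn g w.reverse = (evn g w)⁻¹ := by
  induction w with
  | nil => simp [evn_nil]
  | cons n w ih =>
    rw [List.reverse_cons, evn_append, ih, evn_cons, evn_cons, evn_nil, mul_one, mul_inv_rev]
    congr 1
    exact eq_inv_of_mul_eq_one_left (hg.sq _)

/-- Equality of words from equality of actions. -/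
theorem evn_eq (hg : CoxRel RD g) {u w : List ℕ} (h : chk (u ++ w.reverse) = true) : evn g u = evn g w := by
  have := evn_one hg h
  rw [evn_append, evn_rev hg] at this
  exact mul_inv_eq_one.1 this

end

end Cfsg.Agent.Lib.Y555
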