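import Cfsg.Prelude.Def_LocalStructure
import Cfsg.Agent.Lib.LLemma

/-!
`Y`-minimal groups (helper47).
-/

set_option autoImplicit false

namespace Cfsg.Agent.Lib.YMin

open Subgroup Cfsg.Agent.Lib.LocBase Cfsg.Agent.Lib.PIrred Cfsg.Agent.Lib.PReduced Cfsg.Agent.Lib.LocTrace
open Cfsg.Agent.Lib.LocMore Cfsg.Agent.Lib.WeakCl Cfsg.Agent.Lib.LargeSub Cfsg.Agent.Lib.LLemma Cfsg.Agent.Lib.FrakM
open scoped commutatorElement

variable {G : Type*} [Group G] [Finite G] {p : ℕ} [hp : Fact p.Prime]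

theorem core {L L₀ T Y : Subgroup G} (h : MinOver Y L L₀) (hT : IsSyl p T L₀) (hYT : Y ≤ T) :
    L ⊓ normalizer (T : Set G) ≤ L₀ ∧ pCoreOf p L ≤ L₀ ∧ IsSyl p T L ∧ L ⊓ normalizer (L₀ : Set G) ≤ L₀ ∧
    (∀ g ∈ L, g ∉ L₀ → Y ⊔ Y.map (MulAut.conj g).toMonoidHom = L) := by
  have hYL : Y ≤ L := h.le.trans h.lt.le
  have hnot : ¬ L ≤ L₀ := not_le_of_gt h.lt
  have key : ∀ X : Subgroup G, Y ≤ X → X ≤ L₀ → ¬ L ≤ normalizer (X : Set G) := by
    intro X hX hX0 hn
    apply hnot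
    exact h.ncl.ge.trans ((ncl_le hX hn).trans hX0)
  have h1 : L ⊓ normalizer (T : Set G) ≤ L₀ := by
    apply h.uniq _ (le_inf hYL (hYT.trans Subgroup.le_normalizer))
    refine lt_of_le_of_ne inf_le_left fun e => key T hYT hT.le ?_
    rw [← e]; exact inf_le_right
  have h2 : IsSyl p T L := by
    obtain ⟨S, hS, hTS⟩ := exists_isSyl_ge hT.pgroup (hT.le.trans h.lt.le)
    have e : T = S := by
      apply eq_of_inf_normalizer_le hS.pgroup hTS
      have h3 : S ⊓ normalizer (T : Set G) ≤ L₀ := (inf_le_inf_right _ hS.le).trans h1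
      exact (hT.eq_of_le (hS.pgroup.to_le inf_le_left) h3 (le_inf hTS Subgroup.le_normalizer)).ge
    rw [e]; exact hS
  have h4 : L ⊓ normalizer (L₀ : Set G) ≤ L₀ := by
    apply h.uniq _ (le_inf hYL (h.le.trans Subgroup.le_normalizer))
    refine lt_of_le_of_ne inf_le_left fun e => key L₀ h.le le_rfl ?_
    rw [← e]; exact inf_le_right
  refine ⟨h1, h2.pCoreOf_le.trans hT.le, h2, h4, ?_⟩
  intro g hg hgn
  by_contra hne
  have hLg : L.map (MulAut.conj g).toMonoidHom = L := map_conj_eq_of_mem (Subgroup.le_normalizer hg)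
  have h5 : Y.map (MulAut.conj g).toMonoidHom ≤ L := by
    have := map_mono (f := (MulAut.conj g).toMonoidHom) hYL
    rwa [hLg] at this
  have h6 := h.uniq _ le_sup_left (lt_of_le_of_ne (sup_le hYL h5) hne)
  have h7 : Y ≤ L₀.map (MulAut.conj g⁻¹).toMonoidHom := by
    rw [← map_conj_le_iff]; exact le_sup_right.trans h6
  have hm := h.conj (L.inv_mem hg)
  have h8 := h.uniq _ h7 hm.lt
  apply hgn
  apply h4
  refine ⟨hg, ?_⟩
  have := mem_normalizer_of_map_conj_le h8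
  simpa using inv_mem this

/-- a normal subgroup of `L` inside `L₀`: `T ∩ N` is normal in `L`. -/
theorem normal_inf {L L₀ T Y N : Subgroup G} (h : MinOver Y L L₀) (hT : IsSyl p T L₀) (hYT : Y ≤ T)
    (hN : N ≤ L₀) (hn : L ≤ normalizer (N : Set G)) : L ≤ normalizer ((T ⊓ N : Subgroup G) : Set G) := by
  have hTL := (core h hT hYT).2.2.1
  have h1 : IsSyl p (T ⊓ N) N := hTL.inf_normal (hN.trans h.lt.le) hn
  have h2 := h1.frattini_sup (hN.trans h.lt.le) hn
  by_contra hne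
  have h3 : L ⊓ normalizer ((T ⊓ N : Subgroup G) : Set G) ≤ L₀ := by
    apply h.uniq
    · have hYL := h.le.trans h.lt.le
      exact le_inf hYL (le_normalizer_inf (hYT.trans Subgroup.le_normalizer) (hYL.trans hn))
    · exact lt_of_le_of_ne inf_le_left fun e => hne (by rw [← e]; exact inf_le_right)
  exact absurd (h2.ge.trans (sup_le hN h3)) (not_le_of_gt h.lt)

end Cfsg.Agent.Lib.YMin
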