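import Cfsg.Agent.Lib.ThompsonFact
import Cfsg.Agent.Lib.PGroupOdd
import Cfsg.Agent.Lib.ZJLocal

/-! The full centre of `J_e(S)` is normal in a group without `SL(2,p)`/`Qd(p)` sections and `C_G(O_p(G)) ≤ O_p(G)`. -/

set_option autoImplicit false
set_option linter.unusedSectionVars false

namespace Cfsg.Agent.Lib.ZJeThm

open Subgroup Cfsg.Agent.Lib.ThompsonJ Cfsg.Agent.Lib.RelSylow Cfsg.Agent.Lib.ZJThm
  Cfsg.Agent.Lib.PStab Cfsg.Agent.Lib.FactorizeQuot Cfsg.Agent.Lib.ThompsonFact Cfsg.Agent.Lib.PStabInvolve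
open scoped commutatorElement

universe u v

section tors

variable {G : Type*} [Group G]

/-- generated by the elements of `A` of order dividing `m`. -/
def tors (A : Subgroup G) (m : ℕ) : Subgroup G := closure {x | x ∈ A ∧ x ^ m = 1}

theorem tors_le (A : Subgroup G) (m : ℕ) : tors A m ≤ A := by
  unfold tors
  rw [closure_le]
  exact fun x hx => hx.1

theorem mem_tors_of {A : Subgroup G} {m : ℕ} {x : G} (hx : x ∈ A) (h : x ^ m = 1) : x ∈ tors A m :=
  subset_closure ⟨hx, h⟩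

theorem pow_of_mem_tors {A : Subgroup G} (hA : A ≤ centralizer (A : Set G)) {m : ℕ} {x : G} (hx : x ∈ tors A m) :
    x ^ m = 1 := by
  have key : ∀ x ∈ tors A m, x ∈ A ∧ x ^ m = 1 := by
    intro x hx
    refine closure_induction (p := fun x _ => x ∈ A ∧ x ^ m = 1) (fun x hx => hx) ⟨one_mem _, one_pow _⟩ ?_ ?_ hx
    · rintro x y _ _ ⟨h1, h2⟩ ⟨h3, h4⟩
      refine ⟨mul_mem h1 h3, ?_⟩
      have hc : Commute x y := (mem_centralizer_iff.1 (hA h1) y h3).symm
      rw [hc.mul_pow, h2, h4, one_mul]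
    · rintro x _ ⟨h1, h2⟩
      exact ⟨inv_mem h1, by rw [inv_pow, h2, inv_one]⟩
  exact (key x hx).2

theorem mem_tors {A : Subgroup G} (hA : A ≤ centralizer (A : Set G)) {m : ℕ} {x : G} :
    x ∈ tors A m ↔ x ∈ A ∧ x ^ m = 1 :=
  ⟨fun h => ⟨tors_le _ _ h, pow_of_mem_tors hA h⟩, fun h => mem_tors_of h.1 h.2⟩

theorem map_tors {K : Type*} [Group K] {f : G →* K} (hf : Function.Injective f) (A : Subgroup G) (m : ℕ) :
    (tors A m).map f = tors (A.map f) m := by
  unfold tors
  rw [MonoidHom.map_closure]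
  congr 1
  ext y
  constructor
  · rintro ⟨x, ⟨h1, h2⟩, rfl⟩
    exact ⟨mem_map_of_mem _ h1, by rw [← map_pow, h2, map_one]⟩
  · rintro ⟨⟨x, hx, rfl⟩, h2⟩
    refine ⟨x, ⟨hx, ?_⟩, rfl⟩
    apply hf
    rw [map_pow, h2, map_one]

theorem normalizer_le_normalizer_tors (A : Subgroup G) (m : ℕ) :
    normalizer (A : Set G) ≤ normalizer (tors A m : Set G) := by
  intro g hg
  rw [RelSylow.mem_normalizer_iff_map] at hg ⊢
  rw [map_tors (MulAut.conj g).injective, hg]

theorem normalizer_le_normalizer_center (A : Subgroup G) :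
    normalizer (A : Set G) ≤ normalizer ((A ⊓ centralizer (A : Set G) : Subgroup G) : Set G) := by
  intro g hg
  rw [RelSylow.mem_normalizer_iff_map] at hg ⊢
  have h1 := FactorizeQuot.map_center_of_injOn (MulAut.conj g).toMonoidHom A (fun x _ h => by
    apply (MulAut.conj g).injective
    rw [map_one]; exact h)
  rw [h1, hg]

end tors

/-- `Z(J_e(S))` -/
def Zc (p : ℕ) {G : Type*} [Group G] (S : Subgroup G) : Subgroup G :=
  J (Cfsg.IsElementaryAbelian p) S ⊓ centralizer (J (Cfsg.IsElementaryAbelian p) S : Set G)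

variable {G : Type u} [Group G] {p : ℕ}

theorem Zc_comm (S : Subgroup G) : Zc p S ≤ centralizer (Zc p S : Set G) :=
  (inf_le_right : Zc p S ≤ _).trans (centralizer_le inf_le_left)

theorem Zc_le (S : Subgroup G) : Zc p S ≤ S := inf_le_left.trans J_le

theorem normalizer_J_le (S : Subgroup G) :
    normalizer (J (Cfsg.IsElementaryAbelian p) S : Set G) ≤ normalizer (Zc p S : Set G) :=
  normalizer_le_normalizer_center _

theorem normalizer_le (S : Subgroup G) : normalizer (S : Set G) ≤ normalizer (Zc p S : Set G) :=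
  (normalizer_le_normalizer_J_elem S).trans (normalizer_J_le S)

theorem Zc_map {K : Type u} [Group K] [Finite G] [Finite K] (f : G →* K) (S : Subgroup G)
    (h : ∀ x ∈ S, f x = 1 → x = 1) : (Zc p S).map f = Zc p (S.map f) := by
  unfold Zc
  rw [map_center_of_injOn f _ (fun x hx => h x (J_le hx)), map_J_elem_of_injOn f S h]

variable [Finite G] [hp : Fact p.Prime]

theorem tors_one_eq (S : Subgroup G) : tors (Zc p S) p = ZJ (Cfsg.IsElementaryAbelian p) S := by
  rw [ZJ_elem_eq]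
  rfl

/-- `a b a⁻¹ b⁻¹` for `a` with `a ^ p` central, `a`, `b a b⁻¹` commuting. -/
theorem comm_pow {a b : G} (h : ∀ g : G, Commute (a ^ p) g) (hc : Commute a (b * a * b⁻¹)) : ⁅a, b⁆ ^ p = 1 := by
  have h1 : ⁅a, b⁆ = a * (b * a * b⁻¹)⁻¹ := by rw [commutatorElement_def]; group
  rw [h1, (hc.inv_right).mul_pow, inv_pow, conj_pow]
  have h2 : b * a ^ p * b⁻¹ = a ^ p := by rw [← (h b).eq]; group
  rw [h2, mul_inv_cancel]

/-- the inductive step with `T_k` central. -/
theorem step (hp2 : p ≠ 2) (hc : centralizer (Cfsg.pCore p G : Set G) ≤ Cfsg.pCore p G)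
    (hst : ∀ (V : Subgroup G) [V.Normal], IsPGroup p V → Cfsg.IsPStableOn p V) {S : Subgroup G} (hS : IsSyl p S ⊤)
    {k : ℕ} (hk : 1 ≤ k) (hcen : tors (Zc p S) (p ^ k) ≤ center G) : (tors (Zc p S) (p ^ (k + 1))).Normal := by
  classical
  set Tk := tors (Zc p S) (p ^ k) with hTk
  set T := tors (Zc p S) (p ^ (k + 1)) with hT
  set T1 := ZJ (Cfsg.IsElementaryAbelian p) S with hT1
  have hF : Fam p (Cfsg.IsElementaryAbelian (P := G) p) := fam_elem hp2
  have hSp := hS.2.1
  have hT1k : T1 ≤ Tk := by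
    rw [hT1, ← tors_one_eq]
    unfold tors
    rw [closure_le]
    rintro x ⟨hx, hx1⟩
    refine mem_tors_of hx ?_
    obtain ⟨j, hj⟩ : ∃ j, k = j + 1 := ⟨k - 1, by omega⟩
    rw [hj, pow_succ', pow_mul, hx1, one_pow]
  have hT1c : ∀ x ∈ T1, ∀ g : G, g * x * g⁻¹ = x := by
    intro x hx g
    have := mem_center_iff.1 (hcen (hT1k hx)) g
    rw [this]; group
  -- `Z(J)` is in `O_p(G)`
  set B := Cfsg.pCore p G with hB
  have hBS : B ≤ S := by
    obtain ⟨Q, hQ⟩ := hS.toSylow
    rw [← hQ]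
    exact isPGroup_pCore.le_sylow_of_normal Q
  have hSZ : S ≤ normalizer (Zc p S : Set G) := le_normalizer.trans (normalizer_le S)
  have hZB : Zc p S ≤ B := by
    apply le_pCore_of_quadratic hc (hst B isPGroup_pCore)
    have h1 : ⁅B, Zc p S⁆ ≤ Zc p S := le_normalizer_iff_commutator_le_right.1 (hBS.trans hSZ)
    rw [commutator_eq_bot_iff_le_centralizer]
    exact h1.trans (Zc_comm S)
  have hTB : T ≤ B := (tors_le _ _).trans hZB
  set Y := normalClosure (T : Set G) with hY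
  have hYB : Y ≤ B := normalClosure_le_normal hTB
  have hTY : T ≤ Y := subset_normalClosure
  have hYn : Y.Normal := normalClosure_normal
  have hYp : IsPGroup p Y := isPGroup_pCore.to_le hYB
  have hYS : Y ≤ S := hYB.trans hBS
  -- `x ^ p ∈ T_k` for `x ∈ T`
  have hTpow : ∀ x ∈ T, x ^ p ∈ Tk := by
    intro x hx
    refine mem_tors_of (pow_mem (tors_le _ _ hx) p) ?_
    rw [← pow_mul, ← pow_succ']
    exact pow_of_mem_tors (Zc_comm S) hx
  -- `[x, b] ∈ T1` for `x ∈ T`, `b ∈ S`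
  have hTS : ∀ x ∈ T, ∀ b ∈ S, ⁅x, b⁆ ∈ T1 := by
    intro x hx b hb
    have hxZ : x ∈ Zc p S := tors_le _ _ hx
    have hbx : b * x * b⁻¹ ∈ Zc p S := (mem_normalizer_iff.1 (hSZ hb) x).1 hxZ
    have hcomm : Commute x (b * x * b⁻¹) := (mem_centralizer_iff.1 (Zc_comm S hxZ) _ hbx).symm
    rw [hT1, ← tors_one_eq]
    refine mem_tors_of ?_ (comm_pow (fun g => ?_) hcomm)
    · have h1 : ⁅x, b⁆ = x * (b * x * b⁻¹)⁻¹ := by rw [commutatorElement_def]; group
      rw [h1]
      exact mul_mem hxZ (inv_mem hbx)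
    · exact (mem_center_iff.1 (hcen (hTpow x hx)) g).symm
  -- `[Y, B] ≤ T1`
  have hYB1 : ∀ y ∈ Y, ∀ b ∈ B, ⁅y, b⁆ ∈ T1 := by
    intro y hy
    refine closure_induction (p := fun y _ => ∀ b ∈ B, ⁅y, b⁆ ∈ T1) ?_ ?_ ?_ ?_ hy
    · intro x hx b hb
      obtain ⟨z, hz, hzx⟩ := Group.mem_conjugatesOfSet_iff.1 hx
      obtain ⟨g, hg⟩ := isConj_iff.1 hzx
      rw [← hg]
      have e1 : ⁅g * z * g⁻¹, b⁆ = g * ⁅z, g⁻¹ * b * g⁆ * g⁻¹ := by
        simp only [commutatorElement_def]; group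
      have hb' : g⁻¹ * b * g ∈ B := by
        have := (inferInstance : B.Normal).conj_mem b hb g⁻¹
        simpa using this
      have h2 := hTS z hz _ (hBS hb')
      rw [e1, hT1c _ h2]
      exact h2
    · intro b _
      rw [commutatorElement_one_left]; exact one_mem _
    · intro x x' _ _ h1 h2 b hb
      have e : ⁅x * x', b⁆ = x * ⁅x', b⁆ * x⁻¹ * ⁅x, b⁆ := by
        simp only [commutatorElement_def]; group
      rw [e, hT1c _ (h2 b hb)]
      exact mul_mem (h2 b hb) (h1 b hb)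
    · intro x _ h1 b hb
      have e : ⁅x⁻¹, b⁆ = x⁻¹ * ⁅x, b⁆⁻¹ * (x⁻¹)⁻¹ := by
        simp only [commutatorElement_def]; group
      rw [e, hT1c _ (inv_mem (h1 b hb))]
      exact inv_mem (h1 b hb)
  have hT1p : ∀ x ∈ T1, x ^ p = 1 := by
    intro x hx
    rw [hT1, ← tors_one_eq] at hx
    exact pow_of_mem_tors (Zc_comm S) hx
  -- the `p`-th power map on `Y`
  have hmul : ∀ x ∈ Y, ∀ y ∈ Y, (x * y) ^ p = x ^ p * y ^ p := by
    intro x hx y hy
    have e1 : y * x = x * y * ⁅y⁻¹, x⁻¹⁆ := by rw [commutatorElement_def]; group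
    have hcT := hYB1 y⁻¹ (inv_mem hy) x⁻¹ (inv_mem (hYB hx))
    have hcc : ∀ g : G, Commute ⁅y⁻¹, x⁻¹⁆ g := fun g =>
      (mem_center_iff.1 (hcen (hT1k hcT)) g).symm
    rw [PGroupOdd.mul_pow_of_comm e1 (hcc x) (hcc y),
      PGroupOdd.pow_choose_two_eq_one hp.out hp2 (hT1p _ hcT), mul_one]
  have hYpow : ∀ y ∈ Y, y ^ p ∈ Tk := by
    intro y hy
    have key : ∀ y ∈ Y, y ∈ Y ∧ y ^ p ∈ Tk := by
      intro y hy
      refine closure_induction (p := fun y _ => y ∈ Y ∧ y ^ p ∈ Tk) ?_ ?_ ?_ ?_ hy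
      · intro x hx
        refine ⟨subset_closure hx, ?_⟩
        obtain ⟨z, hz, hzx⟩ := Group.mem_conjugatesOfSet_iff.1 hx
        obtain ⟨g, hg⟩ := isConj_iff.1 hzx
        have h1 := hTpow z hz
        have h2 : g * z ^ p * g⁻¹ = z ^ p := by
          rw [mem_center_iff.1 (hcen h1) g]; group
        rw [← hg, conj_pow, h2]
        exact h1
      · exact ⟨one_mem _, by rw [one_pow]; exact one_mem _⟩
      · rintro x y _ _ ⟨h1, h2⟩ ⟨h3, h4⟩
        refine ⟨mul_mem h1 h3, ?_⟩
        rw [hmul x h1 y h3]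
        exact mul_mem h2 h4
      · rintro x _ ⟨h1, h2⟩
        exact ⟨inv_mem h1, by rw [inv_pow]; exact inv_mem h2⟩
    exact (key y hy).2
  -- `U = Ω₁(Y)`
  let U : Subgroup G :=
    { carrier := {y | y ∈ Y ∧ y ^ p = 1}
      one_mem' := ⟨one_mem _, one_pow _⟩
      mul_mem' := by
        rintro x y ⟨h1, h2⟩ ⟨h3, h4⟩
        exact ⟨mul_mem h1 h3, by rw [hmul x h1 y h3, h2, h4, one_mul]⟩
      inv_mem' := by
        rintro x ⟨h1, h2⟩
        exact ⟨inv_mem h1, by rw [inv_pow, h2, inv_one]⟩ }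
  have hUY : U ≤ Y := fun x hx => hx.1
  have hUp1 : ∀ x ∈ U, x ^ p = 1 := fun x hx => hx.2
  have hUn : U.Normal := by
    refine ⟨fun x hx g => ⟨hYn.conj_mem x hx.1 g, ?_⟩⟩
    rw [conj_pow, hx.2]; group
  have hUp : IsPGroup p U := hYp.to_le hUY
  have hYG : ∀ y ∈ Y, ∀ g : G, g * y * g⁻¹ * y⁻¹ ∈ U := by
    intro y hy g
    have h1 : g * y * g⁻¹ ∈ Y := hYn.conj_mem y hy g
    refine ⟨mul_mem h1 (inv_mem hy), ?_⟩
    rw [hmul _ h1 _ (inv_mem hy), conj_pow, inv_pow]
    have h2 : g * y ^ p * g⁻¹ = y ^ p := by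
      rw [mem_center_iff.1 (hcen (hYpow y hy)) g]; group
    rw [h2, mul_inv_cancel]
  set L := Dcore p (centralizer (Y : Set G)) with hL
  have hUL : Dcore p (centralizer (U : Set G)) ≤ L := by
    apply Dcore_le_of_pow
    intro x hx
    refine ⟨(orderOf x).factorization p, ?_⟩
    rw [mem_centralizer_iff_conj]
    intro v hv
    set y := x ^ p ^ (orderOf x).factorization p with hy
    have h1 := hYG v hv y
    have h2 : y ∈ centralizer (U : Set G) := pow_mem hx _
    exact ClsStab.coprime_centralize (PStabPair.coprime_orderOf_pow x) (j := 1)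
      (by rw [pow_one]; exact h1.2) (mem_centralizer_iff_conj.1 h2 _ h1)
  have hUS : U ≤ S := hUY.trans hYS
  have hSU : S ≤ normalizer (U : Set G) := by rw [Subgroup.normalizer_eq_top]; exact le_top
  have hUU : ∀ A ∈ maxIn (Cfsg.IsElementaryAbelian p) S, ⁅U, U⁆ ≤ A := by
    intro A hA
    rw [commutator_le]
    intro x hx y hy
    exact ZJ_le hA (hYB1 x (hUY hx) y (hYB (hUY hy)))
  have hquadL : ∀ A ∈ maxIn (Cfsg.IsElementaryAbelian p) S, U ≤ normalizer (A : Set G) → A ≤ L := by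
    intro A hA hUA a ha
    apply hUL
    have h3 := hst U hUp
    rw [isPStableOn_iff] at h3
    apply h3
    rw [eq_bot_iff, ← quad_of_normalizes hA.2.1.1 hUA]
    exact commutator_zpowers_quad_le ha
  obtain ⟨A0, hA0, hUA0⟩ := exists_normalized hF hSp hp2 hUS hSU hUU
  have hA0L := hquadL A0 hA0 hUA0
  have hmaxeq := maxIn_eq_of_exists (inf_le_left : S ⊓ L ≤ S) ⟨A0, hA0, le_inf hA0.1 hA0L⟩
  -- `G = C(Y) N(S ∩ L)`
  have hfr : ∀ g : G, ∃ c ∈ centralizer (Y : Set G), ∃ l ∈ normalizer ((S ⊓ L : Subgroup G) : Set G), g = c * l :=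
    fun g => Dcore_frattini (centralizer (Y : Set G)) hS g
  set J0 := J (Cfsg.IsElementaryAbelian p) (S ⊓ L) with hJ0
  have hJ0J : J0 ≤ J (Cfsg.IsElementaryAbelian p) S := by
    apply sSup_le
    intro A hA
    rw [hmaxeq] at hA
    exact le_J hA.1
  have hYJ0 : Y ≤ centralizer (J0 : Set G) := by
    rw [hY, normalClosure, closure_le]
    intro x hx
    obtain ⟨z, hz, hzx⟩ := Group.mem_conjugatesOfSet_iff.1 hx
    obtain ⟨g, hg⟩ := isConj_iff.1 hzx
    obtain ⟨c, hc', l, hl, hgl⟩ := hfr g⁻¹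
    have hg' : g = l⁻¹ * c⁻¹ := by rw [← mul_inv_rev, ← hgl, inv_inv]
    have h1 : c⁻¹ * z * c = z := by
      have := mem_centralizer_iff_conj.1 (inv_mem hc') z (hTY hz)
      rwa [inv_inv] at this
    have h2 : x = l⁻¹ * z * l := by
      rw [← hg, hg']
      calc l⁻¹ * c⁻¹ * z * (l⁻¹ * c⁻¹)⁻¹ = l⁻¹ * (c⁻¹ * z * c) * l := by group
        _ = l⁻¹ * z * l := by rw [h1]
    have hl' : l ∈ normalizer (J0 : Set G) := normalizer_le_normalizer_J_elem (S ⊓ L) hl
    have hzJ : z ∈ centralizer (J0 : Set G) := centralizer_le hJ0J (tors_le _ _ hz).2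
    rw [SetLike.mem_coe, h2, mem_centralizer_iff]
    intro j hj
    have h3 : l * j * l⁻¹ ∈ J0 := (mem_normalizer_iff.1 hl' j).1 hj
    have h4 := mem_centralizer_iff.1 hzJ _ h3
    calc j * (l⁻¹ * z * l) = l⁻¹ * ((l * j * l⁻¹) * z) * l := by group
      _ = l⁻¹ * (z * (l * j * l⁻¹)) * l := by rw [h4]
      _ = l⁻¹ * z * l * j := by group
  have hall : ∀ A ∈ maxIn (Cfsg.IsElementaryAbelian p) S, A ≤ L := by
    apply all_le hF hSp hp2 hUS hSU hUU hquadL
    intro A hA hAL u hu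
    apply mem_of_centralizes_elem hA (hUS hu) (hUp1 u hu)
    have h1 : A ≤ J0 := by
      apply le_J
      rw [hmaxeq]
      exact ⟨hA, le_inf hA.1 hAL⟩
    exact centralizer_le h1 (hYJ0 (hUY hu))
  have hJL : J (Cfsg.IsElementaryAbelian p) S ≤ L := sSup_le hall
  have hJeq : J0 = J (Cfsg.IsElementaryAbelian p) S :=
    J_eq_of_J_le (maxElem_nonempty p S) inf_le_left (le_inf J_le hJL)
  rw [← Subgroup.normalizer_eq_top_iff, eq_top_iff]
  intro g _
  obtain ⟨c, hc', l, hl, rfl⟩ := hfr g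
  refine mul_mem ?_ ?_
  · have h1 : centralizer (Y : Set G) ≤ centralizer (T : Set G) := centralizer_le hTY
    exact (centralizer_le_normalizer _) (h1 hc')
  · have h1 := normalizer_le_normalizer_J_elem (p := p) (S ⊓ L) hl
    rw [← hJ0, hJeq] at h1
    exact normalizer_le_normalizer_tors _ _ (normalizer_J_le S h1)

/-- all the `Ω_m(Z(J_e(S)))` are normal. -/
theorem tors_normal (hp2 : p ≠ 2) {X : Type v} [Group X] (hX : Obst.{u} p X) (n : ℕ) :
    ∀ (G : Type u) [Group G] [Finite G], Nat.card G ≤ n → ¬ Cfsg.Involves X G →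
      centralizer (Cfsg.pCore p G : Set G) ≤ Cfsg.pCore p G → ∀ S : Subgroup G, IsSyl p S ⊤ →
      ∀ m : ℕ, (tors (Zc p S) (p ^ m)).Normal := by
  induction n with
  | zero =>
    intro G _ _ hn
    exact absurd hn (not_le.2 Nat.card_pos)
  | succ n ih =>
    intro G _ _ hn hG hc S hS m
    have hst : ∀ (V : Subgroup G) [V.Normal], IsPGroup p V → Cfsg.IsPStableOn p V :=
      fun V _ hV => isPStableOn hp2 hX hG V hV
    induction m with
    | zero =>
      have : tors (Zc p S) (p ^ 0) = ⊥ := by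
        rw [eq_bot_iff]
        intro x hx
        have := pow_of_mem_tors (Zc_comm S) hx
        rw [pow_zero, pow_one] at this
        rw [this]; exact one_mem _
      rw [this]; infer_instance
    | succ k ihk =>
      by_cases hk : k = 0
      · subst hk
        rw [zero_add, pow_one, tors_one_eq]
        exact (fam_elem hp2).zj_normal hS hp2 hc hst
      set Tk := tors (Zc p S) (p ^ k) with hTk
      by_cases hC : centralizer (Tk : Set G) = ⊤
      · apply step hp2 hc hst hS (by omega)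
        rw [← hTk]
        intro x hx
        rw [mem_center_iff]
        intro g
        have hg : g ∈ centralizer (Tk : Set G) := by rw [hC]; exact mem_top g
        exact (mem_centralizer_iff.1 hg x hx).symm
      · set C := centralizer (Tk : Set G) with hCdef
        have hCn : C.Normal := inferInstance
        have hTkp : IsPGroup p Tk := hS.2.1.to_le ((tors_le _ _).trans (Zc_le S))
        have hJC : J (Cfsg.IsElementaryAbelian p) S ≤ C := by
          rw [hCdef, le_centralizer_iff]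
          exact (tors_le _ _).trans inf_le_right
        have hSC : IsSyl p (S ⊓ C) C := hS.inf le_top (by rw [Subgroup.normalizer_eq_top])
        have hJeq : J (Cfsg.IsElementaryAbelian p) (S ⊓ C) = J (Cfsg.IsElementaryAbelian p) S :=
          J_eq_of_J_le (maxElem_nonempty p S) inf_le_left (le_inf J_le hJC)
        have hZeq : Zc p (S ⊓ C) = Zc p S := by unfold Zc; rw [hJeq]
        obtain ⟨-, hcC⟩ := PConstraint.local_of_le (X := C) hc hTkp (by rw [Subgroup.normalizer_eq_top]; exact le_top)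
          le_rfl (Or.inr le_rfl)
        have hlt : Nat.card C < Nat.card G := by
          refine lt_of_le_of_ne (Subgroup.card_le_card_group C) ?_
          intro h
          exact hC (Subgroup.card_eq_iff_eq_top C |>.1 h)
        have hS' := ZJLocal.isSyl_subgroupOf hSC
        have key := ih ↥C (by omega) (fun h => hG (involves_of_injective _ C.subtype_injective h)) hcC
          ((S ⊓ C).subgroupOf C) hS' (k + 1)
        have h1 := ZJLocal.le_normalizer_of_normal_subgroup (normalizer_eq_top_iff.2 key)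
        rw [map_tors C.subtype_injective, Zc_map C.subtype _ (fun x _ hx => Subtype.ext hx),
          ZJLocal.map_subgroupOf (inf_le_right : S ⊓ C ≤ C), hZeq] at h1
        rw [← Subgroup.normalizer_eq_top_iff, eq_top_iff]
        intro g _
        obtain ⟨c, hc', l, hl, rfl⟩ := hSC.frattini (H := ⊤) (by rw [Subgroup.normalizer_eq_top]) (mem_top g)
        refine mul_mem (h1 hc') ?_
        have h2 := normalizer_le (p := p) (S ⊓ C) hl
        rw [hZeq] at h2
        exact normalizer_le_normalizer_tors _ _ h2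

/-- **`Z(J_e(S))` is normal.** -/
theorem Zc_normal (hp2 : p ≠ 2) {X : Type v} [Group X] (hX : Obst.{u} p X) (hG : ¬ Cfsg.Involves X G)
    (hc : centralizer (Cfsg.pCore p G : Set G) ≤ Cfsg.pCore p G) {S : Subgroup G} (hS : IsSyl p S ⊤) :
    (Zc p S).Normal := by
  obtain ⟨N, hN⟩ := IsPGroup.iff_card.1 hS.2.1
  have h1 : tors (Zc p S) (p ^ N) = Zc p S := by
    apply le_antisymm (tors_le _ _)
    intro x hx
    refine mem_tors_of hx ?_
    have h2 : (⟨x, Zc_le S hx⟩ : S) ^ p ^ N = 1 := by rw [← hN]; exact pow_card_eq_one'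
    exact congrArg Subtype.val h2
  rw [← h1]
  exact tors_normal hp2 hX (Nat.card G) G le_rfl hG hc S hS N

theorem centerThompsonOf_eq (S : Subgroup G) : Cfsg.centerThompsonOf p S = Zc p S := by
  unfold Cfsg.centerThompsonOf Zc
  rw [thompsonSubgroupOf_eq]

end Cfsg.Agent.Lib.ZJeThm
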