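import Cfsg.Prelude.Def_JComponents
import Cfsg.Agent.Lib.TvTransfer
import Cfsg.Agent.Lib.LocBase
import Cfsg.Agent.Lib.ThompsonJ
import Cfsg.Agent.Lib.OffenderGen

/-!
Kurzweil–Stellmacher 12.1: the local analysis of `ZN`-groups; members `L` of `𝓛_J(T)`.
-/

set_option autoImplicit false
set_option linter.unusedSectionVars false

namespace Cfsg.Agent.Lib.ZN

open Subgroup commutatorElement Cfsg.Agent.Lib.LocBase Cfsg.Agent.Lib.TvTransfer Cfsg.Agent.Lib.TvStruct
open scoped Pointwise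

universe u

variable {G : Type u} [Group G]

/-- the standing hypotheses -/
structure ZNHyp (G : Type u) [Group G] : Prop where
  char2 : Cfsg.IsCharacteristicTwoType G
  solv : ∀ N : Subgroup G, Cfsg.IsTwoLocal N → Group.IsSolvable ↥N
  hZ : ∀ S : Sylow 2 G, centralizer (Cfsg.omegaCenterOf (S : Subgroup G) : Set G) ≤
    normalizer ((S : Subgroup G) : Set G)

instance fact2 : Fact (Nat.Prime 2) := ⟨Nat.prime_two⟩

/-- the Thompson subgroup -/
abbrev JJ (T : Subgroup G) : Subgroup G := Cfsg.thompsonSubgroupOf 2 T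

/-- elementary abelian 2-subgroups -/
abbrev EA (A : Subgroup G) : Prop := Cfsg.IsElementaryAbelian 2 A

/-- `𝒜(T)` -/
abbrev AA (T : Subgroup G) : Set (Subgroup G) := ThompsonJ.maxIn (Cfsg.IsElementaryAbelian 2) T

/-- conjugate subgroup -/
abbrev cj (g : G) (A : Subgroup G) : Subgroup G := A.map (MulAut.conj g).toMonoidHom

theorem isSylowTwoIn_iff {T L : Subgroup G} : Cfsg.IsSylowTwoIn T L ↔ IsSyl 2 T L := by
  constructor
  · rintro ⟨h1, h2, h3⟩
    exact ⟨h1, h2, h3.not_two_dvd_nat⟩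
  · rintro ⟨h1, h2, h3⟩
    exact ⟨h1, h2, by rwa [← Nat.not_even_iff_odd, even_iff_two_dvd]⟩

theorem JJ_eq (T : Subgroup G) : JJ T = ThompsonJ.J (Cfsg.IsElementaryAbelian 2) T :=
  ThompsonJ.thompsonSubgroupOf_eq 2 T

theorem JJ_le (T : Subgroup G) : JJ T ≤ T := by rw [JJ_eq]; exact ThompsonJ.J_le

theorem JJ_conj (g : G) (T : Subgroup G) : cj g (JJ T) = JJ (cj g T) := by
  rw [JJ_eq, JJ_eq]
  exact ThompsonJ.map_J_elem (MulAut.conj g).injective T

theorem normalizer_le_normalizer_JJ (T : Subgroup G) : normalizer (T : Set G) ≤ normalizer (JJ T : Set G) := by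
  rw [JJ_eq]; exact ThompsonJ.normalizer_le_normalizer_J_elem T

theorem le_JJ {A T : Subgroup G} (hA : A ∈ AA T) : A ≤ JJ T := by
  rw [JJ_eq]; exact ThompsonJ.le_J hA

section fin
variable [Finite G]

theorem AA_nonempty (T : Subgroup G) : (AA T).Nonempty := ThompsonJ.maxElem_nonempty 2 T

theorem JJ_eq_of_le {D E : Subgroup G} (hED : E ≤ D) (hJ : JJ D ≤ E) : JJ E = JJ D := by
  rw [JJ_eq, JJ_eq] at *
  exact ThompsonJ.J_eq_of_J_le (AA_nonempty D) hED hJ

theorem AA_eq_of_le {D E : Subgroup G} (hED : E ≤ D) (hJ : JJ D ≤ E) : AA E = AA D := by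
  rw [JJ_eq] at hJ
  exact ThompsonJ.maxIn_eq_of_J_le (AA_nonempty D) hED hJ

theorem JJ_JJ (T : Subgroup G) : JJ (JJ T) = JJ T := JJ_eq_of_le (JJ_le T) le_rfl

theorem AA_JJ (T : Subgroup G) : AA (JJ T) = AA T := AA_eq_of_le (JJ_le T) le_rfl

theorem map_mem_AA {T A : Subgroup G} (g : G) (hA : A ∈ AA T) : cj g A ∈ AA (cj g T) := by
  have h := ThompsonJ.maxIn_map (f := (MulAut.conj g).toMonoidHom) (MulAut.conj g).injective
    (ThompsonJ.elemAb_map_iff (p := 2) (MulAut.conj g).injective) T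
  show A.map _ ∈ ThompsonJ.maxIn _ (T.map _)
  rw [h]
  exact ⟨A, hA, rfl⟩

/-- all maximal elementary abelian subgroups have the same order -/
theorem card_eq_of_mem_AA {T A B : Subgroup G} (hA : A ∈ AA T) (hB : B ∈ AA T) : Nat.card A = Nat.card B :=
  le_antisymm (hB.2.2 A hA.1 hA.2.1) (hA.2.2 B hB.1 hB.2.1)

/-- If `A` is elementary abelian in `L` and `T` is Sylow in `L`, then `|A| ≤ |B|` for `B ∈ 𝒜(T)`. -/
theorem card_le_of_isSyl {T L A B : Subgroup G} (hT : IsSyl 2 T L) (hAL : A ≤ L) (hA : EA A) (hB : B ∈ AA T) :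
    Nat.card A ≤ Nat.card B := by
  obtain ⟨h, hh, hle⟩ := hT.exists_conj_le (ThompsonJ.elemAb_isPGroup hA) hAL
  rw [← card_map_conj A h]
  exact hB.2.2 _ hle (ThompsonJ.elemAb_map _ hA)

/-- two Sylow subgroups: `𝒜(T) ∋ B ≤ T'` implies `B ∈ 𝒜(T')`. -/
theorem mem_AA_of_isSyl {T T' L B : Subgroup G} (hT : IsSyl 2 T L) (hT' : IsSyl 2 T' L) (hB : B ∈ AA T)
    (hBT' : B ≤ T') : B ∈ AA T' :=
  ⟨hBT', hB.2.1, fun _ hC hC' => card_le_of_isSyl hT (hC.trans hT'.le) hC' hB⟩

theorem JJ_le_JJ_of_isSyl {T T' L : Subgroup G} (hT : IsSyl 2 T L) (hT' : IsSyl 2 T' L) (h : JJ T ≤ T') :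
    JJ T ≤ JJ T' := by
  rw [JJ_eq]
  apply sSup_le
  intro B hB
  exact le_JJ (mem_AA_of_isSyl hT hT' hB ((le_JJ hB).trans h))

theorem card_JJ_of_isSyl {T T' L : Subgroup G} (hT : IsSyl 2 T L) (hT' : IsSyl 2 T' L) :
    Nat.card (JJ T) = Nat.card (JJ T') := by
  obtain ⟨h, _, e⟩ := hT.conj hT'
  rw [← e]
  have := JJ_conj h T'
  rw [← this]
  exact card_map_conj (JJ T') h

theorem JJ_eq_of_isSyl {T T' L : Subgroup G} (hT : IsSyl 2 T L) (hT' : IsSyl 2 T' L) (h : JJ T ≤ T') :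
    JJ T = JJ T' :=
  Subgroup.eq_of_le_of_card_ge (JJ_le_JJ_of_isSyl hT hT' h) (card_JJ_of_isSyl hT hT').ge

/-- a 2-subgroup of `L` containing `J(T)` has Thompson subgroup `J(T)` -/
theorem JJ_eq_of_pgroup {T L S : Subgroup G} (hT : IsSyl 2 T L) (hS : IsPGroup 2 S) (hSL : S ≤ L)
    (h : JJ T ≤ S) : JJ S = JJ T := by
  obtain ⟨T', hT', hST'⟩ := exists_isSyl_ge hS hSL
  have h1 : JJ T = JJ T' := JJ_eq_of_isSyl hT hT' (h.trans hST')
  rw [h1] at h ⊢
  exact JJ_eq_of_le hST' h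

/-! ### `Ω₁(Z(T))` -/

theorem omegaCenterOf_le (T : Subgroup G) : Cfsg.omegaCenterOf T ≤ T :=
  (ThompsonJ.omegaOne_le _).trans inf_le_left

theorem omegaCenterOf_le_centralizer (T : Subgroup G) : Cfsg.omegaCenterOf T ≤ centralizer (T : Set G) :=
  (ThompsonJ.omegaOne_le _).trans inf_le_right

theorem center_comm (T : Subgroup G) : IsMulCommutative (T ⊓ centralizer (T : Set G) : Subgroup G) := by
  rw [← le_centralizer_iff_isMulCommutative]
  exact inf_le_right.trans (centralizer_le inf_le_left)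

theorem mem_omegaCenterOf {T : Subgroup G} {x : G} :
    x ∈ Cfsg.omegaCenterOf T ↔ x ∈ T ∧ x ∈ centralizer (T : Set G) ∧ x ^ 2 = 1 := by
  unfold Cfsg.omegaCenterOf
  rw [ThompsonJ.mem_omegaOne_iff (center_comm T), mem_inf, and_assoc]

theorem EA_omegaCenterOf (T : Subgroup G) : EA (Cfsg.omegaCenterOf T) :=
  ThompsonJ.elemAb_omegaOne (center_comm T)

theorem omegaCenterOf_conj (g : G) (T : Subgroup G) :
    cj g (Cfsg.omegaCenterOf T) = Cfsg.omegaCenterOf (cj g T) := by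
  unfold Cfsg.omegaCenterOf cj
  rw [ThompsonJ.map_omegaOne (MulAut.conj g).injective, Subgroup.map_inf _ _ _ (MulAut.conj g).injective,
    map_conj_centralizer]

theorem normalizer_le_normalizer_omegaCenterOf (T : Subgroup G) :
    normalizer (T : Set G) ≤ normalizer (Cfsg.omegaCenterOf T : Set G) := by
  intro g hg
  apply mem_normalizer_of_map_conj_eq
  rw [show (Cfsg.omegaCenterOf T).map (MulAut.conj g).toMonoidHom = cj g (Cfsg.omegaCenterOf T) from rfl,
    omegaCenterOf_conj, show cj g T = T from map_conj_eq_of_mem hg]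

theorem omegaCenterOf_ne_bot {T : Subgroup G} (hT : IsPGroup 2 T) (hT1 : T ≠ ⊥) :
    Cfsg.omegaCenterOf T ≠ ⊥ := by
  have hnt : Nontrivial T := (Subgroup.nontrivial_iff_ne_bot T).mpr hT1
  have hc : Nontrivial (center T) := hT.center_nontrivial
  obtain ⟨⟨z, hz⟩, hz1⟩ := exists_ne (1 : center T)
  have hcp : IsPGroup 2 (center T) := hT.to_subgroup _
  obtain ⟨w, hw⟩ : ∃ w : center T, orderOf w = 2 := by
    apply exists_prime_orderOf_dvd_card' 2
    obtain ⟨n, hn⟩ := IsPGroup.iff_card.mp hcp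
    rw [hn]
    have : n ≠ 0 := by
      rintro rfl
      rw [pow_zero] at hn
      have := Finite.one_lt_card (α := center T)
      omega
    exact dvd_pow_self 2 this
  intro hbot
  have h1 : (w : T) ≠ 1 := by
    intro h
    have : w = 1 := Subtype.ext h
    rw [this, orderOf_one] at hw
    omega
  apply h1
  apply Subtype.ext
  have h2 : ((w : T) : G) ∈ Cfsg.omegaCenterOf T := by
    rw [mem_omegaCenterOf]
    refine ⟨(w : T).2, ?_, ?_⟩
    · rw [mem_centralizer_iff]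
      intro t ht
      have := mem_center_iff.mp w.2 ⟨t, ht⟩
      exact congrArg Subtype.val this
    · have h3 : w ^ 2 = 1 := by rw [← hw]; exact pow_orderOf_eq_one w
      have h4 := congrArg (fun x : center T => ((x : T) : G)) h3
      exact h4
  rw [hbot, mem_bot] at h2
  exact h2

/-- `C_G(O_2(L)) ≤ O_2(L)` for `L ∈ 𝓛_J(T)`, and `O_2(L) ≠ 1`. -/
structure LH (T L : Subgroup G) : Prop where
  syl : IsSyl 2 T L
  notle : ¬ JJ T ≤ Cfsg.pCoreOf 2 L
  cent : centralizer (Cfsg.pCoreOf 2 L : Set G) ≤ Cfsg.pCoreOf 2 L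

theorem LH_iff {T L : Subgroup G} : L ∈ Cfsg.jOvergroups T ↔ LH T L := by
  constructor
  · rintro ⟨h1, h2, h3⟩; exact ⟨isSylowTwoIn_iff.mp h1, h2, h3⟩
  · rintro ⟨h1, h2, h3⟩; exact ⟨isSylowTwoIn_iff.mpr h1, h2, h3⟩

end fin

/-- `V = ⟨Ω₁(Z(T))^L⟩` -/
def VL (T L : Subgroup G) : Subgroup G := ⨆ x : ↥L, cj (x : G) (Cfsg.omegaCenterOf T)

section P0
variable [Finite G] {T L : Subgroup G} (h : LH T L)
include h

theorem LH.core_le : Cfsg.pCoreOf 2 L ≤ T := by
  have h1 : IsPGroup 2 ↥(Cfsg.pCoreOf 2 L ⊔ T) :=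
    isPGroup_sup (isPGroup_pCoreOf 2 L) h.syl.pgroup (h.syl.le.trans (le_normalizer_pCoreOf 2 L))
  have h2 := h.syl.eq_of_le h1 (sup_le (pCoreOf_le L) h.syl.le) le_sup_right
  rw [h2]; exact le_sup_left

theorem LH.core_ne_bot : Cfsg.pCoreOf 2 L ≠ ⊥ := by
  intro hb
  have h1 := h.cent
  rw [hb] at h1
  have h2 : (⊤ : Subgroup G) ≤ ⊥ := by
    refine le_trans ?_ h1
    intro x _
    rw [mem_centralizer_iff]
    intro y hy
    rw [SetLike.mem_coe, mem_bot] at hy
    rw [hy, one_mul, mul_one]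
  apply h.notle
  rw [hb]
  exact le_top.trans h2

theorem LH.solv (hZN : ZNHyp G) : Group.IsSolvable ↥L := by
  have h1 : L ≤ normalizer (Cfsg.pCoreOf 2 L : Set G) := le_normalizer_pCoreOf 2 L
  exact SubgroupTools.isSolvable_of_le h1 (hZN.solv _ ⟨_, isPGroup_pCoreOf 2 L, h.core_ne_bot, rfl⟩)

theorem LH.omega_le_core : Cfsg.omegaCenterOf T ≤ Cfsg.pCoreOf 2 L :=
  ((omegaCenterOf_le_centralizer T).trans (centralizer_le h.core_le)).trans h.cent

theorem LH.VL_le_core : VL T L ≤ Cfsg.pCoreOf 2 L := by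
  apply iSup_le
  intro x
  have h1 := map_conj_eq_of_mem (le_normalizer_pCoreOf 2 L x.2)
  rw [← h1]
  exact Subgroup.map_mono h.omega_le_core

theorem LH.VL_le_centralizer_core : VL T L ≤ centralizer (Cfsg.pCoreOf 2 L : Set G) := by
  apply iSup_le
  intro x
  have h1 := map_conj_eq_of_mem (le_normalizer_centralizer (le_normalizer_pCoreOf 2 L) x.2)
  rw [← h1]
  exact Subgroup.map_mono ((omegaCenterOf_le_centralizer T).trans (centralizer_le h.core_le))

omit [Finite G] h in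
theorem omega_le_VL (T L : Subgroup G) : Cfsg.omegaCenterOf T ≤ VL T L := by
  have h1 := le_iSup (fun x : ↥L => cj (x : G) (Cfsg.omegaCenterOf T)) 1
  have h2 : cj ((1 : ↥L) : G) (Cfsg.omegaCenterOf T) = Cfsg.omegaCenterOf T := map_conj_one _
  rw [h2] at h1
  exact h1

theorem LH.EA_VL : EA (VL T L) := by
  unfold VL
  apply OffenderGen.elemAb_iSup
  · intro x; exact ThompsonJ.elemAb_map _ (EA_omegaCenterOf T)
  · intro x y
    have h1 : cj (x : G) (Cfsg.omegaCenterOf T) ≤ centralizer (Cfsg.pCoreOf 2 L : Set G) :=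
      (le_iSup (fun x : ↥L => cj (x : G) (Cfsg.omegaCenterOf T)) x).trans h.VL_le_centralizer_core
    refine h1.trans (centralizer_le ?_)
    exact (le_iSup (fun x : ↥L => cj (x : G) (Cfsg.omegaCenterOf T)) y).trans h.VL_le_core

omit [Finite G] h in
theorem le_normalizer_VL (T L : Subgroup G) : L ≤ normalizer (VL T L : Set G) := by
  intro g hg
  have key : ∀ g ∈ L, (VL T L).map (MulAut.conj g).toMonoidHom ≤ VL T L := by
    intro g hg
    unfold VL
    rw [Subgroup.map_iSup]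
    apply iSup_le
    intro x
    rw [← map_conj_mul]
    exact le_iSup (fun x : ↥L => cj (x : G) (Cfsg.omegaCenterOf T)) ⟨g * x, mul_mem hg x.2⟩
  apply mem_normalizer_of_map_conj_eq
  apply le_antisymm (key g hg)
  have h1 := key g⁻¹ (inv_mem hg)
  rw [map_conj_le_iff, inv_inv] at h1
  exact h1

theorem LH.core_le_centralizer : Cfsg.pCoreOf 2 L ≤ centralizer (VL T L : Set G) :=
  le_centralizer_iff.mp h.VL_le_centralizer_core

/-- `C_L(Ω(Z(T))) ≤ N(T)` -/
theorem LH.centralizer_le_normalizer (hZN : ZNHyp G) :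
    L ⊓ centralizer (Cfsg.omegaCenterOf T : Set G) ≤ normalizer (T : Set G) := by
  obtain ⟨S, hS⟩ := h.syl.pgroup.exists_le_sylow
  have h1 : Cfsg.omegaCenterOf (S : Subgroup G) ≤ T := by
    refine le_trans ?_ h.core_le
    refine le_trans ?_ h.cent
    exact (omegaCenterOf_le_centralizer _).trans (centralizer_le (h.core_le.trans hS))
  have h2 : Cfsg.omegaCenterOf (S : Subgroup G) ≤ Cfsg.omegaCenterOf T := by
    intro x hx
    rw [mem_omegaCenterOf] at hx ⊢
    exact ⟨h1 (mem_omegaCenterOf.mpr hx), centralizer_le hS hx.2.1, hx.2.2⟩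
  have h3 : T = (S : Subgroup G) ⊓ L := h.syl.eq_of_le (S.2.to_le inf_le_left) inf_le_right (le_inf hS h.syl.le)
  intro x hx
  obtain ⟨hxL, hxC⟩ := mem_inf.mp hx
  have h4 : x ∈ normalizer ((S : Subgroup G) : Set G) := hZN.hZ S (centralizer_le h2 hxC)
  rw [h3]
  exact inf_normalizer_le_normalizer_inf ⟨h4, le_normalizer hxL⟩

/-- `C_L(V)` -/
abbrev CL (T L : Subgroup G) : Subgroup G := L ⊓ centralizer (VL T L : Set G)

omit [Finite G] h in
theorem le_normalizer_CL (T L : Subgroup G) : L ≤ normalizer (CL T L : Set G) :=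
  le_normalizer_inf le_normalizer (le_normalizer_centralizer (le_normalizer_VL T L))

theorem LH.CL_le_normalizer (hZN : ZNHyp G) {x : G} (hx : x ∈ L) : CL T L ≤ normalizer (cj x T : Set G) := by
  have h1 : CL T L ≤ normalizer (T : Set G) := by
    refine le_trans ?_ (h.centralizer_le_normalizer hZN)
    exact inf_le_inf_left _ (centralizer_le (omega_le_VL T L))
  rw [← map_conj_normalizer, ← map_conj_eq_of_mem (le_normalizer_CL T L hx)]
  exact Subgroup.map_mono h1

theorem LH.core_le_CL : Cfsg.pCoreOf 2 L ≤ CL T L := le_inf (pCoreOf_le L) h.core_le_centralizer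

theorem LH.syl_conj {x : G} (hx : x ∈ L) : IsSyl 2 (cj x T) L := by
  have := h.syl.map_conj x
  rwa [map_conj_eq_of_mem (le_normalizer hx)] at this

theorem LH.conj {x : G} (hx : x ∈ L) : LH (cj x T) L := by
  refine ⟨h.syl_conj hx, ?_, h.cent⟩
  intro hle
  apply h.notle
  rw [← JJ_conj, map_conj_le_iff, map_conj_eq_of_mem (le_normalizer_pCoreOf 2 L (inv_mem hx))] at hle
  exact hle

omit h in
theorem VL_conj {T L : Subgroup G} {x : G} (hx : x ∈ L) : VL (cj x T) L = VL T L := by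
  apply le_antisymm
  · apply iSup_le
    intro y
    rw [← omegaCenterOf_conj]
    show ((Cfsg.omegaCenterOf T).map (MulAut.conj x).toMonoidHom).map (MulAut.conj (y : G)).toMonoidHom ≤ _
    rw [← map_conj_mul]
    exact le_iSup (fun x : ↥L => cj (x : G) (Cfsg.omegaCenterOf T)) ⟨y * x, mul_mem y.2 hx⟩
  · apply iSup_le
    intro y
    have h1 := le_iSup (fun z : ↥L => cj (z : G) (Cfsg.omegaCenterOf (cj x T))) ⟨y * x⁻¹, mul_mem y.2 (inv_mem hx)⟩
    refine le_trans ?_ h1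
    rw [← omegaCenterOf_conj]
    show _ ≤ ((Cfsg.omegaCenterOf T).map (MulAut.conj x).toMonoidHom).map (MulAut.conj ((y : G) * x⁻¹)).toMonoidHom
    rw [← map_conj_mul, inv_mul_cancel_right]

theorem LH.inf_CL (hZN : ZNHyp G) : T ⊓ CL T L = Cfsg.pCoreOf 2 L := by
  apply le_antisymm
  · -- `T ∩ C_L` is normal in `C_L`, its unique Sylow subgroup
    have h1 : IsSyl 2 (T ⊓ CL T L) (CL T L) := h.syl.inf_normal inf_le_left (le_normalizer_CL T L)
    have h2 : CL T L ≤ normalizer ((T ⊓ CL T L : Subgroup G) : Set G) := by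
      have h3 := h.CL_le_normalizer hZN (one_mem L)
      rw [show cj (1 : G) T = T from map_conj_one T] at h3
      exact le_normalizer_inf h3 le_normalizer
    apply le_pCoreOf (inf_le_left.trans h.syl.le) _ (h.syl.pgroup.to_le inf_le_left)
    intro x hx
    apply mem_normalizer_of_map_conj_eq
    have h3 := h1.map_conj x
    rw [map_conj_eq_of_mem (le_normalizer_CL T L hx)] at h3
    obtain ⟨c, hc, hce⟩ := h3.conj h1
    rw [map_conj_eq_of_mem (h2 hc)] at hce
    exact hce.symm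
  · exact le_inf h.core_le h.core_le_CL

theorem LH.inf_CL_conj (hZN : ZNHyp G) {x : G} (hx : x ∈ L) : cj x T ⊓ CL T L = Cfsg.pCoreOf 2 L := by
  have h1 := (h.conj hx).inf_CL hZN
  unfold CL at h1
  rw [VL_conj hx] at h1
  exact h1

/-- every 2-subgroup of `C_L(V)` lies in `O_2(L)` -/
theorem LH.le_core_of_pgroup (hZN : ZNHyp G) {P : Subgroup G} (hP : IsPGroup 2 P) (hPC : P ≤ CL T L) :
    P ≤ Cfsg.pCoreOf 2 L := by
  obtain ⟨x, hx, hle⟩ := h.syl.exists_conj_le hP (hPC.trans inf_le_left)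
  have h1 : P ≤ cj x⁻¹ T := by
    have := (map_conj_le_iff (g := x)).mp hle
    exact this
  rw [← h.inf_CL_conj hZN (inv_mem hx)]
  exact le_inf h1 hPC

theorem LH.commutator_CL_le (hZN : ZNHyp G) {x : G} (hx : x ∈ L) : ⁅CL T L, cj x T⁆ ≤ Cfsg.pCoreOf 2 L := by
  rw [← h.inf_CL_conj hZN hx]
  exact le_inf (commutator_le_right_of_le (h.CL_le_normalizer hZN hx))
    (commutator_le_left_of_le ((h.syl_conj hx).le.trans (le_normalizer_CL T L)))

theorem LH.CL_le_normalizer_JJ (hZN : ZNHyp G) {x : G} (hx : x ∈ L) : CL T L ≤ normalizer (cj x (JJ T) : Set G) := by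
  rw [JJ_conj]
  exact (h.CL_le_normalizer hZN hx).trans (normalizer_le_normalizer_JJ _)

/-- The action of `L` on `V`. -/
theorem LH.act (hZN : ZNHyp G) : ActSetup (VL T L) L := by
  refine ⟨h.EA_VL, le_normalizer_VL T L, h.solv hZN, ?_⟩
  intro D hD hDn hDp
  -- Sylow 2-subgroup of `D`
  set C := CL T L with hC
  have h1 : IsSyl 2 (T ⊓ (D ⊔ C)) (D ⊔ C) := h.syl.inf_normal (sup_le hD inf_le_left)
    (le_normalizer_sup hDn (le_normalizer_CL T L))
  set D' := D ⊔ C with hD'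
  have hCN : C ≤ normalizer ((T ⊓ D' : Subgroup G) : Set G) := by
    have h3 := h.CL_le_normalizer hZN (one_mem L)
    rw [show cj (1 : G) T = T from map_conj_one T] at h3
    exact le_normalizer_inf h3 (inf_le_left.trans (le_normalizer_sup hDn (le_normalizer_CL T L)))
  -- D' = (T ∩ D') C
  have hD'C : D' ≤ (T ⊓ D') ⊔ C := by
    have hCn : C ≤ normalizer ((T ⊓ D' : Subgroup G) : Set G) := hCN
    -- index argument: (T ⊓ D') ⊔ C has odd index and 2-power index in D'
    have hodd : ¬ 2 ∣ ((T ⊓ D') ⊔ C).relIndex D' := by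
      intro hd
      apply h1.ndvd
      have h3 : (T ⊓ D') ≤ (T ⊓ D') ⊔ C := le_sup_left
      have h4 : (T ⊓ D') ⊔ C ≤ D' := sup_le inf_le_right le_sup_right
      exact hd.trans (Dvd.intro_left _ (Subgroup.relIndex_mul_relIndex _ _ _ h3 h4))
    have hall : ∀ x ∈ D', ∃ k : ℕ, x ^ 2 ^ k ∈ C := by
      intro x hx
      have hCD : C ≤ normalizer (D : Set G) := inf_le_left.trans hDn
      obtain ⟨d, hd, c, hc, rfl⟩ := (SubgroupTools.mem_sup_of_le_normalizer hCD).mp hx
      obtain ⟨k, hk⟩ := hDp d hd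
      refine ⟨k, ?_⟩
      have hdN : d ∈ normalizer (C : Set G) := le_normalizer_CL T L (hD hd)
      have h5 : d * c = (d * c * d⁻¹) * d := by group
      have h6 : d * c * d⁻¹ ∈ C := conj_mem_of_le_normalizer (le_normalizer_CL T L) (hD hd) hc
      have h7 := mul_pow_mem_coset h6 hdN (2 ^ k)
      rw [← h5] at h7
      have h8 : d ^ 2 ^ k ∈ C := mem_inf.mpr ⟨pow_mem (hD hd) _, hk⟩
      have h9 := mul_mem h7 h8
      simpa using h9
    -- pass to the quotient D'/C
    have hDn' : (C.subgroupOf D').Normal := normal_subgroupOf_of_le_normalizer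
      ((sup_le hD inf_le_left).trans (le_normalizer_CL T L))
    have hq : IsPGroup 2 (↥D' ⧸ C.subgroupOf D') := by
      intro q
      obtain ⟨x, rfl⟩ := QuotientGroup.mk_surjective q
      obtain ⟨k, hk⟩ := hall x x.2
      refine ⟨k, ?_⟩
      rw [← QuotientGroup.mk_pow, QuotientGroup.eq_one_iff, mem_subgroupOf]
      exact hk
    have hidx : ∃ n, C.relIndex D' = 2 ^ n := by
      obtain ⟨n, hn⟩ := IsPGroup.iff_card.mp hq
      exact ⟨n, hn⟩
    obtain ⟨n, hn⟩ := hidx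
    have h3 : ((T ⊓ D') ⊔ C).relIndex D' ∣ C.relIndex D' := by
      have h4 : (T ⊓ D') ⊔ C ≤ D' := sup_le inf_le_right le_sup_right
      exact Dvd.intro_left _ (Subgroup.relIndex_mul_relIndex _ _ _ le_sup_right h4)
    rw [hn] at h3
    obtain ⟨m, _, hm⟩ := (Nat.dvd_prime_pow Nat.prime_two).mp h3
    have hm0 : m = 0 := by
      by_contra hne
      apply hodd
      rw [hm]; exact dvd_pow_self 2 hne
    rw [hm0, pow_zero] at hm
    exact relIndex_eq_one.mp hm
  -- T ∩ D' is normal in D', hence in L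
  have hTD : D' ≤ normalizer ((T ⊓ D' : Subgroup G) : Set G) := hD'C.trans (sup_le le_normalizer hCN)
  have hTDc : T ⊓ D' ≤ Cfsg.pCoreOf 2 L := by
    apply le_pCoreOf (inf_le_left.trans h.syl.le) _ (h.syl.pgroup.to_le inf_le_left)
    intro x hx
    apply mem_normalizer_of_map_conj_eq
    have h3 := h1.map_conj x
    rw [map_conj_eq_of_mem (le_normalizer_sup hDn (le_normalizer_CL T L) hx)] at h3
    obtain ⟨c, hc, hce⟩ := h3.conj h1
    rw [map_conj_eq_of_mem (hTD hc)] at hce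
    exact hce.symm
  refine le_trans (le_sup_left.trans hD'C) (sup_le ?_ inf_le_right)
  exact hTDc.trans h.core_le_centralizer

end P0

end Cfsg.Agent.Lib.ZN
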