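import Cfsg.Agent.Lib.ZNBase

/-!
Kurzweil–Stellmacher 12.1: `J(T)`-components inside a member `L` of `𝓛_J(T)`.
-/

set_option autoImplicit false
set_option linter.unusedSectionVars false

namespace Cfsg.Agent.Lib.ZN

open Subgroup commutatorElement Cfsg.Agent.Lib.LocBase Cfsg.Agent.Lib.TvTransfer Cfsg.Agent.Lib.TvStruct
open scoped Pointwise

universe u

variable {G : Type u} [Group G]

theorem closure_odd_eq (K : Subgroup G) :
    Subgroup.closure {g : G | g ∈ K ∧ Odd (orderOf g)} = pRes 2 K := by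
  unfold pRes
  congr 1
  ext x
  simp only [Set.mem_ofPred_eq, Nat.coprime_two_right]

/-- the first part of the definition of a `J(T)`-component. -/
structure CL3 (T K : Subgroup G) : Prop where
  comm : ⁅K, JJ T⁆ = K
  res : pRes 2 K = K
  idx : (Cfsg.pCoreOf 2 K).relIndex K = 3

theorem CL3.of_comp {T K : Subgroup G} (h : Cfsg.IsJComponent T K) : CL3 T K := by
  obtain ⟨h1, h2, h3, -⟩ := h
  exact ⟨h2, by rwa [closure_odd_eq] at h1, h3⟩

theorem CL3.le_normalizer {T K : Subgroup G} (h : CL3 T K) : JJ T ≤ normalizer (K : Set G) := by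
  rw [Subgroup.le_normalizer_iff_commutator_le_left]
  exact h.comm.le

/-- `X = K P` with `P` a 2-group: `O²(X) = K`. -/
theorem pRes_sup_eq [Finite G] {K P : Subgroup G} (hP : IsPGroup 2 P) (hN : P ≤ normalizer (K : Set G))
    (hK : pRes 2 K = K) : pRes 2 (K ⊔ P) = K := by
  apply le_antisymm
  · apply pRes_le_of_pow_mem
    intro x hx
    obtain ⟨a, ha, b, hb, rfl⟩ := exists_mul_of_mem_sup_of_le hN hx
    obtain ⟨k, hk⟩ := hP ⟨b, hb⟩
    have hk' : b ^ 2 ^ k = 1 := by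
      have := congrArg Subtype.val hk
      simpa using this
    refine ⟨k, ?_⟩
    have := mul_pow_mem_coset ha (hN hb) (2 ^ k)
    rw [hk'] at this
    simpa using this
  · conv_lhs => rw [← hK]
    exact pRes_mono le_sup_left

/-- If `K = [K, J]` then `⟨K, J⟩ = ⟨J^k : k ∈ K⟩`. -/
theorem sup_eq_iSup_conj {K J : Subgroup G} (h : ⁅K, J⁆ = K) : K ⊔ J = ⨆ k : ↥K, cj (k : G) J := by
  apply le_antisymm
  · refine sup_le ?_ ?_
    · refine h.ge.trans ?_
      rw [commutator_le]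
      intro k hk j hj
      rw [commutatorElement_def]
      apply mul_mem
      · have : k * j * k⁻¹ ∈ cj k J := ⟨j, hj, rfl⟩
        exact (le_iSup (fun x : ↥K => cj (x : G) J) ⟨k, hk⟩) this
      · have : j⁻¹ ∈ cj (1 : G) J := ⟨j⁻¹, J.inv_mem hj, by simp⟩
        exact (le_iSup (fun x : ↥K => cj (x : G) J) 1) this
    · intro j hj
      have : j ∈ cj (1 : G) J := ⟨j, hj, by simp⟩
      exact (le_iSup (fun x : ↥K => cj (x : G) J) 1) this
  · apply iSup_le
    rintro ⟨x, hx⟩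
    rintro _ ⟨j, hj, rfl⟩
    exact mul_mem (mul_mem (mem_sup_left hx) (mem_sup_right hj)) (inv_mem (mem_sup_left hx))

section fin
variable [Finite G]

/-- offenders: `|V : C_V(A)| ≤ |A : C_A(V)|` for `A ∈ 𝒜(T)`. -/
theorem card_VA {T V A : Subgroup G} (hA : A ∈ AA T) (hV : EA V) (hVT : V ≤ T) :
    Nat.card (A ⊓ centralizer (V : Set G) : Subgroup G) * Nat.card V ≤
      Nat.card A * Nat.card (V ⊓ centralizer (A : Set G) : Subgroup G) := by
  have hV' := ThompsonJ.elemAb_iff.mp hV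
  have hA' := ThompsonJ.elemAb_iff.mp hA.2.1
  set A₀ := A ⊓ centralizer (V : Set G) with hA₀
  have h1 : V ≤ normalizer (A₀ : Set G) := by
    have h1 : V ≤ centralizer (A₀ : Set G) := by rw [le_centralizer_iff]; exact inf_le_right
    exact h1.trans (centralizer_le_normalizer _)
  have h2 := SubgroupTools.card_sup_mul_card_inf h1
  have h3 : EA (A₀ ⊔ V) := ThompsonJ.elemAb_sup (ThompsonJ.elemAb_mono hA.2.1 inf_le_left) hV inf_le_right
  have h4 := hA.2.2 (A₀ ⊔ V) (sup_le (inf_le_left.trans hA.1) hVT) h3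
  have h5 : A₀ ⊓ V ≤ V ⊓ centralizer (A : Set G) :=
    le_inf inf_le_right ((inf_le_left.trans inf_le_left).trans hA'.1)
  rw [← h2]
  exact Nat.mul_le_mul h4 (card_le_of_le h5)

/-- exact offenders in `𝒜(T)` are generated by transvections modulo `C(V)` -/
theorem le_closure_tv {V L T A : Subgroup G} (S : ActSetup V L) (hA : A ∈ AA T) (hVT : V ≤ T) (hAL : A ≤ L) :
    A ≤ closure {t | t ∈ A ∧ IsTv V t} ⊔ (A ⊓ centralizer (V : Set G)) := by
  have h1 := card_VA hA S.elemV hVT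
  set h := S.norm with hh
  -- the image of `A`
  have h2 : Nat.card (img h A) * Nat.card (A ⊓ centralizer (V : Set G) : Subgroup G) = Nat.card A := by
    have h3 := SubgroupTools.card_map_mul_card_inf_ker (psi h) (A.subgroupOf L)
    have h4 : A.subgroupOf L ⊓ (psi h).ker = (A ⊓ centralizer (V : Set G)).subgroupOf L := by
      ext x
      rw [mem_inf, MonoidHom.mem_ker, psi_eq_one_iff]
      rfl
    rw [h4, SubgroupTools.card_subgroupOf_of_le hAL, SubgroupTools.card_subgroupOf_of_le (inf_le_left.trans hAL)] at h3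
    exact h3
  have h3 : Nat.card (VV V) ≤ Nat.card (img h A) *
      Nat.card (VV V ⊓ centralizer (img h A : Set (Gam V)) : Subgroup (Gam V)) := by
    rw [card_VV, card_VV_inf_centralizer h hAL]
    have h4 : 0 < Nat.card (A ⊓ centralizer (V : Set G) : Subgroup G) := Nat.card_pos
    apply Nat.le_of_mul_le_mul_left _ h4
    calc Nat.card (A ⊓ centralizer (V : Set G) : Subgroup G) * Nat.card V
        ≤ Nat.card A * Nat.card (V ⊓ centralizer (A : Set G) : Subgroup G) := h1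
      _ = _ := by rw [← h2]; ring
  have hEA : Cfsg.IsElementaryAbelian 2 (img h A) := by
    unfold img
    apply ThompsonJ.elemAb_map
    apply ThompsonJ.elemAb_of_map L.subtype_injective
    rw [map_subgroupOf_eq_of_le hAL]
    exact hA.2.1
  have h4 := S.setup.le_closure_isTv hEA (img_le_HH h A) h3
  set X := closure {t | t ∈ A ∧ IsTv V t} with hX
  have hXA : X ≤ A := by rw [hX, closure_le]; exact fun t ht => ht.1
  have h5 : img h A ≤ img h X := by
    refine h4.trans ?_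
    rw [closure_le]
    rintro _ ⟨hy, hyt⟩
    obtain ⟨t, htA, rfl⟩ := mem_img.mp hy
    apply psi_mem_img
    exact Subgroup.subset_closure ⟨htA, (isTv_psi_iff h t).mp hyt⟩
  rw [img_le_img_iff h hAL] at h5
  intro a ha
  obtain ⟨y, hy, hyL, hya⟩ := h5 a ha
  have h6 : a = y * (y⁻¹ * a) := by group
  rw [h6]
  exact mul_mem (mem_sup_left hy) (mem_sup_right (mem_inf.mpr ⟨mul_mem (inv_mem (hXA hy)) ha, hya⟩))

/-- the transvections in `J(T)` -/
abbrev TV (T V : Subgroup G) : Set G := {t | t ∈ JJ T ∧ IsTv V t}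

theorem LH.VL_le {T L : Subgroup G} (h : LH T L) : VL T L ≤ T := h.VL_le_core.trans h.core_le

theorem LH.JJ_leL {T L : Subgroup G} (h : LH T L) : JJ T ≤ L := (JJ_le T).trans h.syl.le

/-- (P1) -/
theorem LH.JJ_le_closure {T L : Subgroup G} (h : LH T L) (hZN : ZNHyp G) :
    JJ T ≤ closure (TV T (VL T L)) ⊔ (JJ T ⊓ Cfsg.pCoreOf 2 L) := by
  conv_lhs => rw [JJ_eq]
  apply sSup_le
  intro A hA
  have hAJ : A ≤ JJ T := le_JJ hA
  have hAL : A ≤ L := hA.1.trans h.syl.le
  refine (le_closure_tv (h.act hZN) hA h.VL_le hAL).trans (sup_le_sup ?_ ?_)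
  · exact closure_mono fun t ht => ⟨hAJ ht.1, ht.2⟩
  · refine le_inf (inf_le_left.trans hAJ) ?_
    apply h.le_core_of_pgroup hZN
    · exact (ThompsonJ.elemAb_isPGroup hA.2.1).to_le inf_le_left
    · exact le_inf (inf_le_left.trans hAL) inf_le_right

/-! ### preimages -/

/-- preimage in `G` of a subgroup of `V ⋊ Aut V` -/
def pre {V L : Subgroup G} (h : L ≤ normalizer (V : Set G)) (D : Subgroup (Gam V)) : Subgroup G :=
  (D.comap (psi h)).map L.subtype

theorem mem_pre {V L : Subgroup G} {h : L ≤ normalizer (V : Set G)} {D : Subgroup (Gam V)} {x : G} :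
    x ∈ pre h D ↔ ∃ hx : x ∈ L, psi h ⟨x, hx⟩ ∈ D := by
  unfold pre
  rw [mem_map]
  constructor
  · rintro ⟨y, hy, rfl⟩; exact ⟨y.2, hy⟩
  · rintro ⟨hx, hx2⟩; exact ⟨⟨x, hx⟩, hx2, rfl⟩

theorem pre_le {V L : Subgroup G} (h : L ≤ normalizer (V : Set G)) (D : Subgroup (Gam V)) : pre h D ≤ L :=
  map_subtype_le _

theorem le_pre {V L : Subgroup G} (h : L ≤ normalizer (V : Set G)) {X : Subgroup G} (hX : X ≤ L)
    {D : Subgroup (Gam V)} (hD : img h X ≤ D) : X ≤ pre h D := fun x hx =>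
  mem_pre.mpr ⟨hX hx, hD (psi_mem_img h hx)⟩

theorem pre_mono {V L : Subgroup G} (h : L ≤ normalizer (V : Set G)) {D E : Subgroup (Gam V)} (hDE : D ≤ E) :
    pre h D ≤ pre h E := Subgroup.map_mono (Subgroup.comap_mono hDE)

theorem img_pre {V L : Subgroup G} (h : L ≤ normalizer (V : Set G)) {D : Subgroup (Gam V)} (hD : D ≤ HH h) :
    img h (pre h D) = D := by
  apply le_antisymm
  · intro y hy
    obtain ⟨x, hx, rfl⟩ := mem_img.mp hy
    obtain ⟨_, hx2⟩ := mem_pre.mp hx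
    exact hx2
  · intro y hy
    obtain ⟨x, rfl⟩ := hD hy
    exact psi_mem_img h (mem_pre.mpr ⟨x.2, hy⟩)

theorem pre_img {V L : Subgroup G} (h : L ≤ normalizer (V : Set G)) {X : Subgroup G} (hX : X ≤ L) :
    pre h (img h X) = X ⊔ (L ⊓ centralizer (V : Set G)) := by
  apply le_antisymm
  · intro x hx
    obtain ⟨hxL, hx2⟩ := mem_pre.mp hx
    obtain ⟨y, hy, hyx⟩ := mem_img.mp hx2
    have h1 : x = y * ((y : G)⁻¹ * x) := by group
    rw [h1]
    refine mul_mem (mem_sup_left hy) (mem_sup_right (mem_inf.mpr ⟨mul_mem (inv_mem y.2) hxL, ?_⟩))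
    exact (psi_eq_one_iff h (y⁻¹ * ⟨x, hxL⟩)).mp (by rw [map_mul, map_inv, hyx, inv_mul_cancel])
  · refine sup_le (le_pre h hX le_rfl) ?_
    intro x hx
    refine mem_pre.mpr ⟨(mem_inf.mp hx).1, ?_⟩
    rw [(psi_eq_one_iff h ⟨x, (mem_inf.mp hx).1⟩).mpr (mem_inf.mp hx).2]
    exact one_mem _

theorem le_normalizer_pre {V L : Subgroup G} (h : L ≤ normalizer (V : Set G)) {D : Subgroup (Gam V)}
    {X : Subgroup G} (hX : X ≤ L) (hXD : img h X ≤ normalizer (D : Set (Gam V))) : X ≤ normalizer (pre h D : Set G) := by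
  have key : ∀ x ∈ X, ∀ d ∈ pre h D, x * d * x⁻¹ ∈ pre h D := by
    intro x hx d hd
    obtain ⟨hdL, hd2⟩ := mem_pre.mp hd
    refine mem_pre.mpr ⟨mul_mem (mul_mem (hX hx) hdL) (inv_mem (hX hx)), ?_⟩
    have := conj_mem_of_le_normalizer hXD (psi_mem_img h (x := ⟨x, hX hx⟩) hx) hd2
    rw [← map_inv, ← map_mul, ← map_mul] at this
    exact this
  intro x hx
  rw [mem_normalizer_iff]
  intro d
  constructor
  · exact key x hx d
  · intro hd
    have := key x⁻¹ (inv_mem hx) _ hd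
    have h2 : x⁻¹ * (x * d * x⁻¹) * x⁻¹⁻¹ = d := by group
    rwa [h2] at this

/-- commutators with `V` correspond -/
theorem commutator_VV {V L : Subgroup G} (h : L ≤ normalizer (V : Set G)) {X : Subgroup G} (hX : X ≤ L) :
    ⁅VV V, img h X⁆ = (⁅V, X⁆.subgroupOf V).map (iota V) := by
  have hVX : ⁅V, X⁆ ≤ V := commutator_le_left_of_le (hX.trans h)
  have key : ∀ (v : ↥V) (x : ↥L), ⁅iota V v, psi h x⁆ = iota V ⟨⁅(v : G), (x : G)⁆, by
      rw [commutatorElement_def]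
      have : (v : G) * x * (v : G)⁻¹ * (x : G)⁻¹ = v * ((x : G) * (v : G)⁻¹ * (x : G)⁻¹) := by group
      rw [this]
      exact mul_mem v.2 (conj_mem_of_le_normalizer h x.2 (inv_mem v.2))⟩ := by
    intro v x
    rw [commutatorElement_def]
    have h1 : iota V v * psi h x * (iota V v)⁻¹ * (psi h x)⁻¹ =
        iota V v * (psi h x * iota V v⁻¹ * (psi h x)⁻¹) := by rw [map_inv]; group
    rw [h1, psi_conj, ← map_mul]
    congr 1
    apply Subtype.ext
    show (v : G) * ((x : G) * (v : G)⁻¹ * (x : G)⁻¹) = ⁅(v : G), (x : G)⁆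
    rw [commutatorElement_def]; group
  apply le_antisymm
  · rw [commutator_le]
    rintro _ ⟨v, rfl⟩ y hy
    obtain ⟨x, hx, rfl⟩ := mem_img.mp hy
    rw [key]
    exact ⟨_, commutator_mem_commutator v.2 hx, rfl⟩
  · have h1 : ⁅V, X⁆ ≤ (⁅VV V, img h X⁆.comap (iota V)).map V.subtype := by
      rw [commutator_le]
      intro v hv x hx
      refine ⟨⟨⁅v, x⁆, hVX (commutator_mem_commutator hv hx)⟩, ?_, rfl⟩
      show iota V _ ∈ ⁅VV V, img h X⁆
      have := key ⟨v, hv⟩ ⟨x, hX hx⟩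
      rw [← this]
      exact commutator_mem_commutator ⟨_, rfl⟩ (psi_mem_img h hx)
    rintro _ ⟨v, hv, rfl⟩
    obtain ⟨w, hw, hwv⟩ := h1 hv
    have : w = v := Subtype.ext hwv
    rw [← this]
    exact hw

theorem card_commutator_VV {V L : Subgroup G} (h : L ≤ normalizer (V : Set G)) {X : Subgroup G} (hX : X ≤ L) :
    Nat.card (⁅VV V, img h X⁆ : Subgroup (Gam V)) = Nat.card (⁅V, X⁆ : Subgroup G) := by
  rw [commutator_VV h hX, Subgroup.card_map_of_injective iota_injective,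
    SubgroupTools.card_subgroupOf_of_le (commutator_le_left_of_le (hX.trans h))]

theorem commutator_VV_inj {V L : Subgroup G} (h : L ≤ normalizer (V : Set G)) {X Y : Subgroup G} (hX : X ≤ L)
    (hY : Y ≤ L) (he : ⁅VV V, img h X⁆ ≤ ⁅VV V, img h Y⁆) : ⁅V, X⁆ ≤ ⁅V, Y⁆ := by
  rw [commutator_VV h hX, commutator_VV h hY, Subgroup.map_le_map_iff_of_injective iota_injective] at he
  intro x hx
  have hVX : ⁅V, X⁆ ≤ V := commutator_le_left_of_le (hX.trans h)
  exact he (x := ⟨x, hVX hx⟩) hx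

theorem inf_commutator_eq_bot {V L : Subgroup G} (h : L ≤ normalizer (V : Set G)) {X Y : Subgroup G} (hX : X ≤ L)
    (hY : Y ≤ L) (he : ⁅VV V, img h X⁆ ⊓ ⁅VV V, img h Y⁆ = ⊥) : ⁅V, X⁆ ⊓ ⁅V, Y⁆ = ⊥ := by
  rw [eq_bot_iff]
  intro x hx
  obtain ⟨h1, h2⟩ := mem_inf.mp hx
  have hVX : ⁅V, X⁆ ≤ V := commutator_le_left_of_le (hX.trans h)
  have h3 : iota V ⟨x, hVX h1⟩ ∈ ⁅VV V, img h X⁆ ⊓ ⁅VV V, img h Y⁆ := by
    rw [commutator_VV h hX, commutator_VV h hY]
    exact mem_inf.mpr ⟨⟨_, h1, rfl⟩, ⟨_, h2, rfl⟩⟩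
  rw [he, mem_bot] at h3
  have h4 : (⟨x, hVX h1⟩ : V) = 1 := iota_injective (h3.trans (map_one _).symm)
  rw [mem_bot]
  exact congrArg Subtype.val h4

/-- the index-3 condition -/
theorem pCoreOf_eq_of_syl {K P : Subgroup G} (hidx : (Cfsg.pCoreOf 2 K).relIndex K = 3) (hP : IsPGroup 2 P)
    (hPK : P ≤ K) (hle : Cfsg.pCoreOf 2 K ≤ P) : P = Cfsg.pCoreOf 2 K := by
  have h1 : IsSyl 2 (Cfsg.pCoreOf 2 K) K := ⟨pCoreOf_le K, isPGroup_pCoreOf 2 K, by rw [hidx]; norm_num⟩
  exact (h1.eq_of_le hP hPK hle).symm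

theorem le_pCoreOf_of_pgroup {K P : Subgroup G} (hidx : (Cfsg.pCoreOf 2 K).relIndex K = 3) (hP : IsPGroup 2 P)
    (hPK : P ≤ K) : P ≤ Cfsg.pCoreOf 2 K := by
  have h1 : IsSyl 2 (Cfsg.pCoreOf 2 K) K := ⟨pCoreOf_le K, isPGroup_pCoreOf 2 K, by rw [hidx]; norm_num⟩
  obtain ⟨k, hk, hle⟩ := h1.exists_conj_le hP hPK
  have := (map_conj_le_iff (g := k)).mp hle
  rwa [map_conj_eq_of_mem (le_normalizer_pCoreOf 2 K (inv_mem hk))] at this

section comp

variable {T L K : Subgroup G} (h : LH T L) (hZN : ZNHyp G) (hc : CL3 T K) (hKL : K ≤ L)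
include h hZN hc hKL

theorem LH.not_le_CL : ¬ K ≤ CL T L := by
  intro hle
  have h1 : K ≤ Cfsg.pCoreOf 2 L := by
    refine hc.comm.ge.trans ?_
    refine (commutator_mono hle (JJ_le T)).trans ?_
    have := h.commutator_CL_le hZN (one_mem L)
    rwa [show cj (1 : G) T = T from map_conj_one T] at this
  have h2 : IsPGroup 2 K := (isPGroup_pCoreOf 2 L).to_le h1
  have h3 : K ≤ Cfsg.pCoreOf 2 K := le_pCoreOf le_rfl le_normalizer h2
  have h4 := hc.idx
  rw [relIndex_eq_one.mpr h3] at h4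
  omega

theorem LH.CL_le_normalizer_comp : CL T L ≤ normalizer (K : Set G) := by
  have h1 : CL T L ≤ normalizer ((K ⊔ JJ T : Subgroup G) : Set G) := by
    rw [sup_eq_iSup_conj hc.comm]
    intro q hq
    apply mem_normalizer_of_map_conj_le
    rw [Subgroup.map_iSup]
    apply iSup_mono
    rintro ⟨x, hx⟩
    rw [map_conj_eq_of_mem (h.CL_le_normalizer_JJ hZN (hKL hx) hq)]
  have h2 : pRes 2 (K ⊔ JJ T) = K := pRes_sup_eq (h.syl.pgroup.to_le (JJ_le T)) hc.le_normalizer hc.res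
  have h3 := h1.trans (normalizer_le_normalizer_pRes 2 _)
  rwa [h2] at h3

/-- all transvections of `L` on `V` -/
theorem LH.comp_exists : Cfsg.pCoreOf 2 K ≤ Cfsg.pCoreOf 2 L ∧
    ∃ t : ↥L, (t : G) ∈ JJ T ∧ IsTv (VL T L) (t : G) ∧
      img (h.act hZN).norm K = Dt (RR (h.act hZN).norm) (psi (h.act hZN).norm t) := by
  set A := h.act hZN with hA
  set ψ := psi A.norm with hψ
  have S := A.setup
  set 𝒯 : Set (Gam (VL T L)) := {y | y ∈ HH A.norm ∧ IsTv (VV (VL T L)) y} with h𝒯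
  -- the image of `J` lies in the group generated by all transvections
  have hJL := h.JJ_leL
  have hJcl : img A.norm (JJ T) ≤ closure 𝒯 := by
    intro y hy
    obtain ⟨x, hx, rfl⟩ := mem_img.mp hy
    have h1 := h.JJ_le_closure hZN hx
    have hTVL : closure (TV T (VL T L)) ≤ L := by
      rw [closure_le]; exact fun t ht => hJL ht.1
    -- work in the preimage of `closure 𝒯`
    have h3 : closure (TV T (VL T L)) ⊔ (JJ T ⊓ Cfsg.pCoreOf 2 L) ≤ pre A.norm (closure 𝒯) := by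
      refine sup_le ?_ ?_
      · rw [closure_le]
        intro t ht
        refine mem_pre.mpr ⟨hJL ht.1, Subgroup.subset_closure ⟨⟨_, rfl⟩, ?_⟩⟩
        exact (isTv_psi_iff A.norm ⟨t, hJL ht.1⟩).mpr ht.2
      · intro q hq
        refine mem_pre.mpr ⟨hJL (mem_inf.mp hq).1, ?_⟩
        rw [(psi_eq_one_iff A.norm ⟨q, hJL (mem_inf.mp hq).1⟩).mpr (h.core_le_centralizer (mem_inf.mp hq).2)]
        exact one_mem _
    obtain ⟨_, h4⟩ := mem_pre.mp (h3 h1)
    exact h4
  have h𝒯n : HH A.norm ≤ normalizer ((closure 𝒯 : Subgroup (Gam (VL T L))) : Set (Gam (VL T L))) := by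
    intro y hy
    apply mem_normalizer_of_map_conj_le
    rw [MonoidHom.map_closure, closure_le]
    rintro _ ⟨t, ht, rfl⟩
    apply Subgroup.subset_closure
    exact ⟨mul_mem (mul_mem hy ht.1) (inv_mem hy), S.tv_conj hy ht.2⟩
  have hKcomm : img A.norm K = ⁅img A.norm K, img A.norm (JJ T)⁆ := by
    rw [← img_commutator A.norm hKL hJL, hc.comm]
  have hKcl : img A.norm K ≤ closure 𝒯 := by
    rw [hKcomm]
    refine (commutator_mono le_rfl hJcl).trans ?_
    exact commutator_le_right_of_le ((img_le_HH A.norm K).trans h𝒯n)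
  -- the image of `K` has odd order
  have hKR : img A.norm K ≤ RR A.norm := by
    intro y hy
    obtain ⟨x, hx, rfl⟩ := mem_img.mp hy
    have h1 : (x : G) ∈ pRes 2 K := by rw [hc.res]; exact hx
    have h2 : pRes 2 K ≤ pre A.norm (RR A.norm) := by
      rw [pRes_le_iff]
      intro z hz hzo
      refine mem_pre.mpr ⟨hKL hz, ?_⟩
      apply S.odd_mem (T := 𝒯) (fun t ht => ht) (hKcl (psi_mem_img A.norm hz))
      refine Nat.Coprime.coprime_dvd_left ?_ hzo
      have h3 := orderOf_map_dvd (psi A.norm) ⟨z, hKL hz⟩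
      rwa [Subgroup.orderOf_mk] at h3
    obtain ⟨_, h3⟩ := mem_pre.mp (h2 h1)
    exact h3
  have hodd : (Nat.card (img A.norm K)).Coprime 2 := Nat.Coprime.coprime_dvd_left (card_dvd_of_le hKR) S.odd
  have hO2 : Cfsg.pCoreOf 2 K ≤ CL T L := by
    have h1 : img A.norm (Cfsg.pCoreOf 2 K) = ⊥ := by
      have h2 : IsPGroup 2 (img A.norm (Cfsg.pCoreOf 2 K)) := by
        unfold img
        exact ((isPGroup_pCoreOf 2 K).comap_subtype).map _
      have h3 := SubgroupTools.inf_eq_bot_of_coprime' (coprime_card_of_pgroup h2 S.odd)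
      rw [eq_bot_iff, ← h3]
      exact le_inf le_rfl ((img_mono (pCoreOf_le K)).trans hKR)
    rw [img_eq_bot_iff A.norm ((pCoreOf_le K).trans hKL)] at h1
    exact le_inf ((pCoreOf_le K).trans hKL) h1
  refine ⟨h.le_core_of_pgroup hZN (isPGroup_pCoreOf 2 K) hO2, ?_⟩
  -- `|img K| = 3`
  have hKne : img A.norm K ≠ ⊥ := by
    rw [Ne, img_eq_bot_iff A.norm hKL]
    intro hle
    exact h.not_le_CL hZN hc hKL (le_inf hKL hle)
  have hcard : Nat.card (img A.norm K) = 3 := by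
    have h1 := SubgroupTools.card_map_mul_card_inf_ker (psi A.norm) (K.subgroupOf L)
    have h4 : K.subgroupOf L ⊓ (psi A.norm).ker = (K ⊓ CL T L).subgroupOf L := by
      ext x
      rw [mem_inf, MonoidHom.mem_ker, psi_eq_one_iff]
      constructor
      · rintro ⟨h5, h6⟩; exact mem_inf.mpr ⟨h5, mem_inf.mpr ⟨x.2, h6⟩⟩
      · intro h5
        exact ⟨(mem_inf.mp h5).1, (mem_inf.mp (mem_inf.mp h5).2).2⟩
    rw [h4, SubgroupTools.card_subgroupOf_of_le hKL,
      SubgroupTools.card_subgroupOf_of_le (inf_le_left.trans hKL)] at h1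
    have h5 := SubgroupTools.card_mul_relIndex_of_le (inf_le_left : K ⊓ CL T L ≤ K)
    have h6 : Nat.card (img A.norm K) = (K ⊓ CL T L).relIndex K := by
      have h7 : 0 < Nat.card (K ⊓ CL T L : Subgroup G) := Nat.card_pos
      apply Nat.eq_of_mul_eq_mul_left h7
      rw [h5, mul_comm]; exact h1
    have h7 : (K ⊓ CL T L).relIndex K ∣ 3 := by
      rw [← hc.idx]
      exact Subgroup.relIndex_dvd_of_le_left K (le_inf (pCoreOf_le K) hO2)
    rw [← h6] at h7
    refine eq_of_dvd_three h7 ?_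
    intro h8
    exact hKne (card_eq_one.mp h8)
  -- a transvection acting nontrivially
  obtain ⟨t, htTV, htn⟩ : ∃ t ∈ TV T (VL T L), ∃ htL : t ∈ L,
      ⁅img A.norm K, zpowers (psi A.norm ⟨t, htL⟩)⁆ ≠ ⊥ := by
    by_contra hcon
    push Not at hcon
    apply hKne
    rw [hKcomm, commutator_eq_bot_iff_le_centralizer, le_centralizer_iff]
    intro y hy
    obtain ⟨x, hx, rfl⟩ := mem_img.mp hy
    have h3 : closure (TV T (VL T L)) ⊔ (JJ T ⊓ Cfsg.pCoreOf 2 L) ≤
        pre A.norm (centralizer (img A.norm K : Set (Gam (VL T L)))) := by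
      refine sup_le ?_ ?_
      · rw [closure_le]
        intro t ht
        refine mem_pre.mpr ⟨hJL ht.1, ?_⟩
        have h4 := hcon t ht (hJL ht.1)
        rw [commutator_eq_bot_iff_le_centralizer, le_centralizer_iff] at h4
        exact h4 (mem_zpowers _)
      · intro q hq
        refine mem_pre.mpr ⟨hJL (mem_inf.mp hq).1, ?_⟩
        rw [(psi_eq_one_iff A.norm ⟨q, hJL (mem_inf.mp hq).1⟩).mpr (h.core_le_centralizer (mem_inf.mp hq).2)]
        exact one_mem _
    obtain ⟨_, h4⟩ := mem_pre.mp (h3 (h.JJ_le_closure hZN hx))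
    exact h4
  obtain ⟨htL, htn⟩ := htn
  refine ⟨⟨t, htL⟩, htTV.1, htTV.2, ?_⟩
  have htH : psi A.norm ⟨t, htL⟩ ∈ HH A.norm := ⟨_, rfl⟩
  have httv : IsTv (VV (VL T L)) (psi A.norm ⟨t, htL⟩) := (isTv_psi_iff A.norm ⟨t, htL⟩).mpr htTV.2
  have h1 : ⁅img A.norm K, zpowers (psi A.norm ⟨t, htL⟩)⁆ ≤ img A.norm K := by
    conv_rhs => rw [hKcomm]
    apply commutator_mono le_rfl
    rw [zpowers_le]
    exact psi_mem_img A.norm htTV.1
  have h2 : ⁅img A.norm K, zpowers (psi A.norm ⟨t, htL⟩)⁆ ≤ Dt (RR A.norm) (psi A.norm ⟨t, htL⟩) :=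
    commutator_mono hKR le_rfl
  have h3 := S.Dt_eq_of_le htH httv h2 htn
  rw [← h3]
  symm
  apply Subgroup.eq_of_le_of_card_ge h1
  rw [h3, hcard, S.Dt_card htH httv]

end comp

end fin

end Cfsg.Agent.Lib.ZN
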