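import Cfsg.Agent.Lib.ZNComp

/-!
Kurzweil–Stellmacher 12.1: more on `J(T)`-components inside a member `L` of `𝓛_J(T)`.
-/

set_option autoImplicit false
set_option linter.unusedSectionVars false

namespace Cfsg.Agent.Lib.ZN

open Subgroup commutatorElement Cfsg.Agent.Lib.LocBase Cfsg.Agent.Lib.TvTransfer Cfsg.Agent.Lib.TvStruct
open scoped Pointwise

universe u

variable {G : Type u} [Group G]

theorem CL3.conj {T K : Subgroup G} (h : CL3 T K) (x : G) : CL3 (cj x T) (cj x K) := by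
  refine ⟨?_, ?_, ?_⟩
  · rw [← JJ_conj, ← Subgroup.map_commutator, h.comm]
  · rw [← pRes_map_conj, h.res]
  · rw [pCoreOf_map_conj, Subgroup.relIndex_map_map_of_injective _ _ (MulAut.conj x).injective, h.idx]

theorem CL3.congr {T T' K : Subgroup G} (h : CL3 T K) (e : JJ T = JJ T') : CL3 T' K :=
  ⟨by rw [← e]; exact h.comm, h.res, h.idx⟩

theorem JJ_conj_of_mem {T : Subgroup G} {x : G} (hx : x ∈ normalizer (JJ T : Set G)) : JJ (cj x T) = JJ T := by
  rw [← JJ_conj]; exact map_conj_eq_of_mem hx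

theorem CL3.conj_of_mem {T K : Subgroup G} (h : CL3 T K) {x : G} (hx : x ∈ normalizer (JJ T : Set G)) :
    CL3 T (cj x K) := (h.conj x).congr (JJ_conj_of_mem hx)

section fin
variable [Finite G]

theorem LH.VL_le_CL {T L : Subgroup G} (h : LH T L) : VL T L ≤ CL T L :=
  le_inf (h.VL_le.trans h.syl.le) (ThompsonJ.elemAb_iff.mp h.EA_VL).1

theorem LH.VL_leL {T L : Subgroup G} (h : LH T L) : VL T L ≤ L := h.VL_le.trans h.syl.le

section comp

variable {T L K : Subgroup G} (h : LH T L) (hZN : ZNHyp G) (hc : CL3 T K) (hKL : K ≤ L)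
include h hZN hc hKL

theorem LH.card_commutator : Nat.card (⁅VL T L, K⁆ : Subgroup G) = 4 := by
  obtain ⟨_, t, _, htv, hD⟩ := h.comp_exists hZN hc hKL
  have S := (h.act hZN).setup
  rw [← card_commutator_VV (h.act hZN).norm hKL, hD]
  exact S.Wt_card ⟨_, rfl⟩ ((isTv_psi_iff (h.act hZN).norm t).mpr htv)

theorem LH.comp_core_le : Cfsg.pCoreOf 2 K ≤ Cfsg.pCoreOf 2 L := (h.comp_exists hZN hc hKL).1

theorem LH.comp_subn : Subn K L := by
  obtain ⟨_, t, _, htv, hD⟩ := h.comp_exists hZN hc hKL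
  have S := (h.act hZN).setup
  have htH : psi (h.act hZN).norm t ∈ HH (h.act hZN).norm := ⟨_, rfl⟩
  have htv' := (isTv_psi_iff (h.act hZN).norm t).mpr htv
  have h1 := pre_img (h.act hZN).norm hKL
  rw [hD] at h1
  refine Subn.step (B := K ⊔ CL T L) le_sup_left (sup_le le_normalizer (h.CL_le_normalizer_comp hZN hc hKL)) ?_
  refine Subn.step (B := pre (h.act hZN).norm (RR (h.act hZN).norm)) ?_ ?_ ?_
  · show K ⊔ (L ⊓ centralizer (VL T L : Set G)) ≤ _
    rw [← h1]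
    exact pre_mono _ (S.Dt_le htH htv')
  · show _ ≤ normalizer ((K ⊔ (L ⊓ centralizer (VL T L : Set G)) : Subgroup G) : Set G)
    rw [← h1]
    apply le_normalizer_pre _ (pre_le _ _)
    rw [img_pre _ S.RH]
    exact le_normalizer_Dt _ _
  · apply Subn.of_normal (pre_le _ _)
    apply le_normalizer_pre _ le_rfl
    rw [img_self]
    exact S.HR

theorem LH.core_le_normalizer_comp : Cfsg.pCoreOf 2 L ≤ normalizer (K : Set G) :=
  h.core_le_CL.trans (h.CL_le_normalizer_comp hZN hc hKL)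

theorem LH.pRes_sup_core : pRes 2 (K ⊔ Cfsg.pCoreOf 2 L) = K :=
  pRes_sup_eq (isPGroup_pCoreOf 2 L) (h.core_le_normalizer_comp hZN hc hKL) hc.res

theorem LH.commutator_sup_core : ⁅K ⊔ CL T L, JJ T⁆ ⊔ Cfsg.pCoreOf 2 L = K ⊔ Cfsg.pCoreOf 2 L := by
  apply le_antisymm
  · refine sup_le ?_ le_sup_right
    rw [commutator_comm]
    apply TvStruct.commutator_sup_le
    · exact le_normalizer_sup le_normalizer (hKL.trans (le_normalizer_pCoreOf 2 L))
    · exact le_normalizer_sup (h.CL_le_normalizer_comp hZN hc hKL) (inf_le_left.trans (le_normalizer_pCoreOf 2 L))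
    · rw [commutator_comm, hc.comm]; exact le_sup_left
    · rw [commutator_comm]
      refine le_trans (commutator_mono le_rfl (JJ_le T)) ?_
      have := h.commutator_CL_le hZN (one_mem L)
      rw [show cj (1 : G) T = T from map_conj_one T] at this
      exact this.trans le_sup_right
  · refine sup_le_sup_right ?_ _
    refine hc.comm.ge.trans ?_
    exact commutator_mono le_sup_left le_rfl

end comp

theorem LH.comp_unique {T L K K' : Subgroup G} (h : LH T L) (hZN : ZNHyp G) (hc : CL3 T K) (hKL : K ≤ L)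
    (hc' : CL3 T K') (hKL' : K' ≤ L) (e : K ⊔ CL T L = K' ⊔ CL T L) : K = K' := by
  have h1 := h.commutator_sup_core hZN hc hKL
  have h2 := h.commutator_sup_core hZN hc' hKL'
  rw [e, h2] at h1
  rw [← h.pRes_sup_core hZN hc hKL, ← h1, h.pRes_sup_core hZN hc' hKL']

theorem LH.comp_unique' {T L K K' : Subgroup G} (h : LH T L) (hZN : ZNHyp G) (hc : CL3 T K) (hKL : K ≤ L)
    (hc' : CL3 T K') (hKL' : K' ≤ L) (e : img (h.act hZN).norm K = img (h.act hZN).norm K') : K = K' := by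
  apply h.comp_unique hZN hc hKL hc' hKL'
  have h1 := pre_img (h.act hZN).norm hKL
  have h2 := pre_img (h.act hZN).norm hKL'
  rw [e, h2] at h1
  exact h1.symm

/-- different components have `[V,K] ∩ [V,K'] = 1`. -/
theorem LH.comp_inf {T L K K' : Subgroup G} (h : LH T L) (hZN : ZNHyp G) (hc : CL3 T K) (hKL : K ≤ L)
    (hc' : CL3 T K') (hKL' : K' ≤ L) (hne : K ≠ K') : ⁅VL T L, K⁆ ⊓ ⁅VL T L, K'⁆ = ⊥ := by
  obtain ⟨_, t, _, htv, hD⟩ := h.comp_exists hZN hc hKL
  obtain ⟨_, s, _, hsv, hE⟩ := h.comp_exists hZN hc' hKL'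
  have S := (h.act hZN).setup
  have htv' := (isTv_psi_iff (h.act hZN).norm t).mpr htv
  have hsv' := (isTv_psi_iff (h.act hZN).norm s).mpr hsv
  apply inf_commutator_eq_bot (h.act hZN).norm hKL hKL'
  rw [hD, hE]
  apply S.Wt_inf_of_ne ⟨_, rfl⟩ htv' ⟨_, rfl⟩ hsv'
  rw [← hD, ← hE]
  intro e
  exact hne (h.comp_unique' hZN hc hKL hc' hKL' e)

/-- different components: `K'` centralizes `[V,K]`. -/
theorem LH.comp_centralizes {T L K K' : Subgroup G} (h : LH T L) (hZN : ZNHyp G) (hc : CL3 T K) (hKL : K ≤ L)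
    (hc' : CL3 T K') (hKL' : K' ≤ L) (hne : K ≠ K') : K' ≤ centralizer ((⁅VL T L, K⁆ : Subgroup G) : Set G) := by
  obtain ⟨_, t, _, htv, hD⟩ := h.comp_exists hZN hc hKL
  obtain ⟨_, s, _, hsv, hE⟩ := h.comp_exists hZN hc' hKL'
  have S := (h.act hZN).setup
  have htv' := (isTv_psi_iff (h.act hZN).norm t).mpr htv
  have hsv' := (isTv_psi_iff (h.act hZN).norm s).mpr hsv
  have h1 := S.Dt_le_centralizer_Wt (s := psi (h.act hZN).norm t) (t := psi (h.act hZN).norm s) ⟨_, rfl⟩ htv'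
    ⟨_, rfl⟩ hsv' (by
      rw [← hD, ← hE]
      intro e
      exact hne (h.comp_unique' hZN hc hKL hc' hKL' e))
  rw [← hE] at h1
  intro k hk
  rw [mem_centralizer_iff]
  intro w hw
  have hwV : w ∈ VL T L := commutator_le_left_of_le (hKL.trans (le_normalizer_VL T L)) hw
  have h2 : iota (VL T L) ⟨w, hwV⟩ ∈ Wt (VV (VL T L)) (RR (h.act hZN).norm) (psi (h.act hZN).norm t) := by
    unfold Wt
    rw [← hD, commutator_VV _ hKL]
    exact ⟨_, hw, rfl⟩
  have h3 := mem_centralizer_iff.mp (h1 (psi_mem_img (h.act hZN).norm (x := ⟨k, hKL' hk⟩) hk)) _ h2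
  exact ((psi_comm_iff (h.act hZN).norm ⟨k, hKL' hk⟩ ⟨w, hwV⟩).mp h3.symm).symm

/-- `[V,K] ≤ W_K` always -/
theorem LH.commutator_le_wOf {T L K : Subgroup G} (h : LH T L) (hZN : ZNHyp G) (hc : CL3 T K) (hKL : K ≤ L) :
    ⁅VL T L, K⁆ ≤ Cfsg.wOf K := by
  have hKV : K ≤ normalizer (VL T L : Set G) := hKL.trans (le_normalizer_VL T L)
  have hVK : VL T L ≤ normalizer (K : Set G) := h.VL_le_CL.trans (h.CL_le_normalizer_comp hZN hc hKL)
  have hVp : IsPGroup 2 (VL T L) := ThompsonJ.elemAb_isPGroup h.EA_VL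
  have h1 : ⁅VL T L, K⁆ ≤ VL T L := commutator_le_left_of_le hKV
  have h2 : ⁅VL T L, K⁆ ≤ K := commutator_le_right_of_le hVK
  have h3 : ⁅VL T L, K⁆ ≤ Cfsg.omegaCenterOf (Cfsg.pCoreOf 2 K) := by
    intro x hx
    rw [mem_omegaCenterOf]
    refine ⟨?_, ?_, (ThompsonJ.elemAb_iff.mp h.EA_VL).2 x (h1 hx)⟩
    · exact le_pCoreOf_of_pgroup hc.idx (hVp.to_le h1) h2 hx
    · exact centralizer_le (h.comp_core_le hZN hc hKL) (h.VL_le_centralizer_core (h1 hx))
  have h4 : ⁅⁅VL T L, K⁆, K⁆ = ⁅VL T L, K⁆ := by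
    have := commutator_pRes_idem (p := 2) hVp hKV
    rwa [hc.res] at this
  unfold Cfsg.wOf
  rw [← h4]
  exact commutator_mono h3 le_rfl

theorem LH.wOf_eq {T L K : Subgroup G} (h : LH T L) (hZN : ZNHyp G) (hK : Cfsg.IsJComponent T K) (hKL : K ≤ L) :
    Cfsg.wOf K = ⁅VL T L, K⁆ := by
  have hc := CL3.of_comp hK
  symm
  apply Subgroup.eq_of_le_of_card_ge (h.commutator_le_wOf hZN hc hKL)
  rw [h.card_commutator hZN hc hKL]
  exact hK.2.2.2.2.1.le

end fin

end Cfsg.Agent.Lib.ZN
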