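import Cfsg.Agent.Lib.ZNZero

/-!
Counting lemmas and the order of `W_K`.
-/

set_option autoImplicit false
set_option linter.unusedSectionVars false

namespace Cfsg.Agent.Lib.ZN

open Subgroup commutatorElement Cfsg.Agent.Lib.LocBase Cfsg.Agent.Lib.TvStruct
open scoped Pointwise

universe u

variable {G : Type u} [Group G] [Finite G]

/-- existence of a hyperplane containing a proper subgroup of an elementary abelian group -/
theorem exists_hyperplane_ge {M N : Subgroup G} (hM : EA M) (hNM : N < M) :
    ∃ M₀, N ≤ M₀ ∧ M₀ < M ∧ Nat.card M = 2 * Nat.card M₀ := by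
  classical
  obtain ⟨M₀, hM₀, hmax⟩ := (Set.toFinite {X : Subgroup G | N ≤ X ∧ X < M}).exists_maximal ⟨N, le_rfl, hNM⟩
  refine ⟨M₀, hM₀.1, hM₀.2, ?_⟩
  apply card_eq_two_mul hM hM₀.2.le _ hM₀.2.ne
  intro a ha haM₀
  by_contra hne
  have h1 : M₀ ⊔ zpowers a ≤ M := sup_le hM₀.2.le (by rwa [zpowers_le])
  have h2 : M₀ ⊔ zpowers a < M := lt_of_le_of_ne h1 (fun e => hne e.symm)
  have h3 := hmax ⟨hM₀.1.trans le_sup_left, h2⟩ le_sup_left
  exact haM₀ (h3 (mem_sup_right (mem_zpowers a)))

/-- **Lemma H.** An abelian 2-group `B` acting on an elementary abelian 2-group `M` with `|C_M(B)| = 2`: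
`2 |B| ≤ |C_B(M)| |M|`. -/
theorem two_mul_card_le_of_fixed {B M : Subgroup G} (hB : IsPGroup 2 B) (hBc : B ≤ centralizer (B : Set G))
    (hM : EA M) (hBM : B ≤ normalizer (M : Set G))
    (hfix : Nat.card (M ⊓ centralizer (B : Set G) : Subgroup G) = 2) :
    2 * Nat.card B ≤ Nat.card (B ⊓ centralizer (M : Set G) : Subgroup G) * Nat.card M := by
  obtain ⟨n, hn⟩ : ∃ n, Nat.card M = n := ⟨_, rfl⟩
  induction n using Nat.strong_induction_on generalizing M with
  | _ n ih =>
    have hMc := (ThompsonJ.elemAb_iff.mp hM).1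
    by_cases hMB : M ≤ centralizer (B : Set G)
    · have h1 : M ⊓ centralizer (B : Set G) = M := inf_eq_left.mpr hMB
      rw [h1] at hfix
      have h2 : B ⊓ centralizer (M : Set G) = B := inf_eq_left.mpr (le_centralizer_iff.mp hMB)
      rw [h2, hfix]; omega
    · have hM1 : M ≠ ⊥ := by
        rintro rfl; exact hMB bot_le
      have hlt : ⁅M, B⁆ < M := CoprimeAction2.commutator_lt_of_pgroup hB (ThompsonJ.elemAb_isPGroup hM) hBM hM1
      obtain ⟨M₀, hM₀1, hM₀2, hcard⟩ := exists_hyperplane_ge hM hlt
      have hBM₀ : B ≤ normalizer (M₀ : Set G) := by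
        rw [Subgroup.le_normalizer_iff_commutator_le_left]
        exact (commutator_mono hM₀2.le le_rfl).trans hM₀1
      have hM₀EA : EA M₀ := ThompsonJ.elemAb_mono hM hM₀2.le
      -- fixed points in `M₀`
      have hM₀1 : M₀ ≠ ⊥ := by
        rintro rfl
        rw [card_bot] at hcard
        -- then `|M| = 2` is centralised
        have h5 : ⁅M, B⁆ = ⊥ := le_bot_iff.mp hM₀1
        exact hMB (commutator_eq_bot_iff_le_centralizer.mp h5)
      have hfix0 : Nat.card (M₀ ⊓ centralizer (B : Set G) : Subgroup G) = 2 := by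
        have h1 : M₀ ⊓ centralizer (B : Set G) ≤ M ⊓ centralizer (B : Set G) := inf_le_inf_right _ hM₀2.le
        have h2 := card_dvd_of_le h1
        rw [hfix] at h2
        rcases (Nat.dvd_prime Nat.prime_two).mp h2 with h3 | h3
        · exfalso
          rw [card_eq_one] at h3
          -- nontrivial fixed points of a 2-group on a 2-group
          have key : ∀ (m : ℕ) (N : Subgroup G), Nat.card N = m → N ≠ ⊥ → N ≤ M₀ → B ≤ normalizer (N : Set G) → False := by
            intro m
            induction m using Nat.strong_induction_on with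
            | _ m ih2 =>
              intro N hNm hN1 hNM hBN
              have h4 : ⁅N, B⁆ < N := CoprimeAction2.commutator_lt_of_pgroup hB
                ((ThompsonJ.elemAb_isPGroup hM₀EA).to_le hNM) hBN hN1
              by_cases h5 : ⁅N, B⁆ = ⊥
              · rw [commutator_eq_bot_iff_le_centralizer] at h5
                apply hN1
                rw [eq_bot_iff, ← h3]
                exact le_inf hNM h5
              · refine ih2 (Nat.card (⁅N, B⁆ : Subgroup G)) ?_ _ rfl h5 (h4.le.trans hNM)
                  (normalizer_commutator_ge_right _ _)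
                have := two_mul_card_le h4
                have h6 : 0 < Nat.card (⁅N, B⁆ : Subgroup G) := Nat.card_pos
                omega
          exact key _ M₀ rfl hM₀1 le_rfl hBM₀
        · exact h3
      have hpos : 0 < Nat.card M₀ := Nat.card_pos
      have h1 := ih (Nat.card M₀) (by omega) hM₀EA hBM₀ hfix0 rfl
      -- `|C_B(M₀)| ≤ 2 |C_B(M)|`
      have h2 : Nat.card (B ⊓ centralizer (M₀ : Set G) : Subgroup G) ≤
          2 * Nat.card (B ⊓ centralizer (M : Set G) : Subgroup G) := by
        set B₀ := B ⊓ centralizer (M₀ : Set G) with hB₀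
        obtain ⟨m, hm, hmM₀⟩ := SetLike.exists_of_lt hM₀2
        -- the map `b ↦ [m,b]` has values in `C_M(B)`
        have hMgen : ∀ x ∈ M, x ∈ M₀ ∨ x * m⁻¹ ∈ M₀ := by
          intro x hx
          by_cases hxM : x ∈ M₀
          · left; exact hxM
          · right
            exact mul_mem_of_half hM₀2.le (by omega) hx (inv_mem hm) hxM (fun h => hmM₀ (by simpa using h))
        have hval : ∀ b ∈ B₀, b * m * b⁻¹ * m⁻¹ ∈ M ⊓ centralizer (B : Set G) := by
          intro b hb
          obtain ⟨hbB, hbC⟩ := mem_inf.mp hb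
          have hbm : b * m * b⁻¹ ∈ M := conj_mem_of_le_normalizer hBM hbB hm
          refine mem_inf.mpr ⟨mul_mem hbm (inv_mem hm), mem_centralizer_iff.mpr ?_⟩
          intro b' hb'
          -- `b' m b'⁻¹ = m₀ m` with `m₀ ∈ M₀`
          have h3 : b' * m * b'⁻¹ ∈ M := conj_mem_of_le_normalizer hBM hb' hm
          have h4 : b' * m * b'⁻¹ * m⁻¹ ∈ M₀ := by
            rcases hMgen _ h3 with h5 | h5
            · exfalso
              apply hmM₀
              have := conj_mem_of_le_normalizer' hBM₀ hb' h5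
              have h6 : b'⁻¹ * (b' * m * b'⁻¹) * b' = m := by group
              rwa [h6] at this
            · exact h5
          set m₀ := b' * m * b'⁻¹ * m⁻¹ with hm₀
          have hbb' : b * b' = b' * b := mem_centralizer_iff.mp (hBc hb') b hbB
          have hbm₀ : b * m₀ = m₀ * b := (mem_centralizer_iff.mp hbC m₀ h4).symm
          have hmm₀ : ∀ z ∈ M, z * m₀ = m₀ * z := fun z hz =>
            (mem_centralizer_iff.mp (hMc hz) m₀ (hM₀2.le h4)).symm
          -- conjugating `[b,m]` by `b'`
          have h6 : b' * (b * m * b⁻¹ * m⁻¹) * b'⁻¹ = b * m * b⁻¹ * m⁻¹ := by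
            calc b' * (b * m * b⁻¹ * m⁻¹) * b'⁻¹ = (b' * b) * m * (b' * b)⁻¹ * (b' * m * b'⁻¹)⁻¹ := by group
              _ = (b * b') * m * (b * b')⁻¹ * (b' * m * b'⁻¹)⁻¹ := by rw [hbb']
              _ = b * (b' * m * b'⁻¹) * b⁻¹ * (b' * m * b'⁻¹)⁻¹ := by group
              _ = b * (m₀ * m) * b⁻¹ * (m₀ * m)⁻¹ := by rw [hm₀]; group
              _ = (b * m₀) * m * b⁻¹ * m⁻¹ * m₀⁻¹ := by group
              _ = (m₀ * b) * m * b⁻¹ * m⁻¹ * m₀⁻¹ := by rw [hbm₀]
              _ = m₀ * (b * m * b⁻¹ * m⁻¹) * m₀⁻¹ := by group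
              _ = b * m * b⁻¹ * m⁻¹ := by
                rw [← hmm₀ _ (mul_mem hbm (inv_mem hm))]; group
          rw [mul_inv_eq_iff_eq_mul] at h6
          exact h6
        -- cosets of `C_B(M)` in `B₀`
        have hle : B ⊓ centralizer (M : Set G) ≤ B₀ :=
          le_inf inf_le_left (inf_le_right.trans (centralizer_le hM₀2.le))
        by_contra hcon
        push Not at hcon
        -- then there are three cosets; use the pairing argument
        have h3 := SubgroupTools.card_mul_relIndex_of_le hle
        have h4 : 3 ≤ (B ⊓ centralizer (M : Set G)).relIndex B₀ := by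
          by_contra h5
          have h6 : (B ⊓ centralizer (M : Set G)).relIndex B₀ ≤ 2 := by omega
          have := Nat.mul_le_mul_left (Nat.card (B ⊓ centralizer (M : Set G) : Subgroup G)) h6
          omega
        -- injection of the coset space into `C_M(B)`
        let C := B ⊓ centralizer (M : Set G)
        let F : ↥B₀ ⧸ (C.subgroupOf B₀) → ↥(M ⊓ centralizer (B : Set G)) := fun q =>
          ⟨(Quotient.out q : ↥B₀) * m * ((Quotient.out q : ↥B₀) : G)⁻¹ * m⁻¹, hval _ (Quotient.out q).2⟩
        have hF : Function.Injective F := by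
          intro q q' hqq
          have h5 := congrArg Subtype.val hqq
          simp only [F] at h5
          have h6 : ((Quotient.out q : ↥B₀) : G) * m * ((Quotient.out q : ↥B₀) : G)⁻¹ =
              ((Quotient.out q' : ↥B₀) : G) * m * ((Quotient.out q' : ↥B₀) : G)⁻¹ := mul_right_cancel h5
          set b := Quotient.out q with hb
          set b' := Quotient.out q' with hb'
          have hbb : (b : G)⁻¹ * b' ∈ C := by
            have hbB : (b : G) ∈ B := (mem_inf.mp b.2).1
            have hbB' : (b' : G) ∈ B := (mem_inf.mp b'.2).1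
            refine mem_inf.mpr ⟨mul_mem (inv_mem hbB) hbB', mem_centralizer_iff.mpr ?_⟩
            intro x hx
            have h7 : ∀ y ∈ M₀, y * ((b : G)⁻¹ * b') = (b : G)⁻¹ * b' * y := by
              intro y hy
              have h8 : (b : G)⁻¹ * b' ∈ centralizer (M₀ : Set G) :=
                mul_mem (inv_mem (mem_inf.mp b.2).2) (mem_inf.mp b'.2).2
              exact mem_centralizer_iff.mp h8 y hy
            have h8 : m * ((b : G)⁻¹ * b') = (b : G)⁻¹ * b' * m := by
              have : (b : G)⁻¹ * ((b' : G) * m * (b' : G)⁻¹) * b = m := by rw [← h6]; group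
              calc m * ((b : G)⁻¹ * b') = ((b : G)⁻¹ * ((b' : G) * m * (b' : G)⁻¹) * b) * ((b : G)⁻¹ * b') := by rw [this]
                _ = _ := by group
            rcases hMgen x hx with h9 | h9
            · exact h7 x h9
            · have h10 : x = (x * m⁻¹) * m := by group
              calc x * ((b : G)⁻¹ * b') = (x * m⁻¹) * (m * ((b : G)⁻¹ * b')) := by group
                _ = (x * m⁻¹) * ((b : G)⁻¹ * b') * m := by rw [h8]; group
                _ = (b : G)⁻¹ * b' * (x * m⁻¹) * m := by rw [h7 _ h9]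
                _ = _ := by group
          have h9 : (QuotientGroup.mk b : ↥B₀ ⧸ (C.subgroupOf B₀)) = QuotientGroup.mk b' := by
            rw [QuotientGroup.eq, mem_subgroupOf]
            exact hbb
          rw [hb, hb', QuotientGroup.out_eq', QuotientGroup.out_eq'] at h9
          exact h9
        have h5 := Nat.card_le_card_of_injective F hF
        rw [hfix] at h5
        have h6 : (C.relIndex B₀) ≤ 2 := h5
        have h7 : 3 ≤ C.relIndex B₀ := h4
        omega
      have h3 : 0 < Nat.card B := Nat.card_pos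
      calc 2 * Nat.card B ≤ Nat.card (B ⊓ centralizer (M₀ : Set G) : Subgroup G) * Nat.card M₀ := h1
        _ ≤ (2 * Nat.card (B ⊓ centralizer (M : Set G) : Subgroup G)) * Nat.card M₀ := Nat.mul_le_mul_right _ h2
        _ = Nat.card (B ⊓ centralizer (M : Set G) : Subgroup G) * Nat.card M := by rw [hcard]; ring

/-- `|W| ≤ |C_W(a)|²` for an involution acting on an elementary abelian 2-group. -/
theorem card_le_card_centralizer_sq {W : Subgroup G} {a : G} (hW : EA W) (ha : a ∈ normalizer (W : Set G))
    (ha2 : a * a ∈ centralizer (W : Set G)) :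
    Nat.card W ≤ Nat.card (W ⊓ centralizer ({a} : Set G) : Subgroup G) *
      Nat.card (W ⊓ centralizer ({a} : Set G) : Subgroup G) := by
  have hWc := (ThompsonJ.elemAb_iff.mp hW).1
  have hW2 := (ThompsonJ.elemAb_iff.mp hW).2
  have hconj : ∀ w : ↥W, a * (w : G) * a⁻¹ ∈ W := fun w =>
    (mem_normalizer_iff.mp ha w).mp w.2
  have hcm : ∀ x ∈ W, ∀ y ∈ W, x * y = y * x := fun x hx y hy => mem_centralizer_iff.mp (hWc hy) x hx
  let f : ↥W →* ↥W :=
    { toFun := fun w => ⟨w * (a * (w : G) * a⁻¹), mul_mem w.2 (hconj w)⟩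
      map_one' := by ext; simp
      map_mul' := by
        intro x y
        apply Subtype.ext
        show (x : G) * y * (a * ((x : G) * y) * a⁻¹) = (x : G) * (a * x * a⁻¹) * (y * (a * y * a⁻¹))
        have h1 : a * ((x : G) * y) * a⁻¹ = (a * x * a⁻¹) * (a * y * a⁻¹) := by group
        rw [h1]
        calc (x : G) * y * ((a * x * a⁻¹) * (a * y * a⁻¹)) = x * (y * (a * x * a⁻¹)) * (a * y * a⁻¹) := by group
          _ = x * ((a * x * a⁻¹) * y) * (a * y * a⁻¹) := by rw [hcm y y.2 _ (hconj x)]
          _ = _ := by group }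
  have hfv : ∀ w : ↥W, ((f w : ↥W) : G) = w * (a * (w : G) * a⁻¹) := fun w => rfl
  have hker : ∀ w : ↥W, f w = 1 ↔ (w : G) ∈ W ⊓ centralizer ({a} : Set G) := by
    intro w
    rw [Subtype.ext_iff, hfv, mem_inf, mem_centralizer_singleton_iff]
    have hww : (w : G) * w = 1 := by rw [← pow_two]; exact hW2 w w.2
    constructor
    · intro h1
      refine ⟨w.2, ?_⟩
      have h2 : a * (w : G) * a⁻¹ = w := by
        have h3 : (w : G) * (a * w * a⁻¹) = w * w := h1.trans hww.symm
        exact mul_left_cancel h3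
      rw [mul_inv_eq_iff_eq_mul] at h2
      exact h2.symm
    · rintro ⟨_, h1⟩
      rw [← h1, mul_assoc, mul_inv_cancel, mul_one]
      exact hww
  have hrange : ∀ w : ↥W, ((f w : ↥W) : G) ∈ W ⊓ centralizer ({a} : Set G) := by
    intro w
    refine mem_inf.mpr ⟨(f w).2, mem_centralizer_singleton_iff.mpr ?_⟩
    rw [hfv]
    have h1 : a * a * (w : G) = w * (a * a) := (mem_centralizer_iff.mp ha2 w w.2).symm
    have h2 : a * (a * (w : G) * a⁻¹) * a⁻¹ = w := by
      calc a * (a * (w : G) * a⁻¹) * a⁻¹ = (a * a * w) * (a * a)⁻¹ := by group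
        _ = w := by rw [h1]; group
    have h3 : a * ((w : G) * (a * w * a⁻¹)) * a⁻¹ = w * (a * w * a⁻¹) := by
      calc a * ((w : G) * (a * w * a⁻¹)) * a⁻¹ = (a * w * a⁻¹) * (a * (a * (w : G) * a⁻¹) * a⁻¹) := by group
        _ = (a * w * a⁻¹) * w := by rw [h2]
        _ = _ := hcm _ (hconj w) _ w.2
    rw [mul_inv_eq_iff_eq_mul] at h3
    exact h3.symm
  have h1 := Subgroup.card_mul_index f.ker
  rw [index_ker] at h1
  have h2 : Nat.card f.ker ≤ Nat.card (W ⊓ centralizer ({a} : Set G) : Subgroup G) := by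
    rw [← Subgroup.card_map_of_injective (K := f.ker) W.subtype_injective]
    apply card_le_of_le
    rintro _ ⟨w, hw, rfl⟩
    exact (hker w).mp hw
  have h3 : Nat.card f.range ≤ Nat.card (W ⊓ centralizer ({a} : Set G) : Subgroup G) := by
    rw [← Subgroup.card_map_of_injective (K := f.range) W.subtype_injective]
    apply card_le_of_le
    rintro _ ⟨_, ⟨w, rfl⟩, rfl⟩
    exact hrange w
  calc Nat.card W = _ := h1.symm
    _ ≤ _ := Nat.mul_le_mul h2 h3

end Cfsg.Agent.Lib.ZN
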