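import Cfsg.Agent.Lib.ZNWcard

/-!
Existence of `J(T)`-components in members of `𝓛_J(T)`.
-/

set_option autoImplicit false
set_option linter.unusedSectionVars false

namespace Cfsg.Agent.Lib.ZN

open Subgroup commutatorElement Cfsg.Agent.Lib.LocBase Cfsg.Agent.Lib.TvTransfer Cfsg.Agent.Lib.TvStruct
open scoped Pointwise

universe u

variable {G : Type u} [Group G]

section imf

variable {Δ : Type*} [Group Δ] {N : Subgroup G} (f : ↥N →* Δ)

/-- image of a subgroup of `N` -/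
def imf (X : Subgroup G) : Subgroup Δ := (X.subgroupOf N).map f

theorem mem_imf {X : Subgroup G} {y : Δ} : y ∈ imf f X ↔ ∃ x : ↥N, (x : G) ∈ X ∧ f x = y := by
  unfold imf
  rw [mem_map]
  rfl

theorem apply_mem_imf {X : Subgroup G} {x : ↥N} (hx : (x : G) ∈ X) : f x ∈ imf f X := (mem_imf f).mpr ⟨x, hx, rfl⟩

theorem imf_mono {X Y : Subgroup G} (hXY : X ≤ Y) : imf f X ≤ imf f Y := Subgroup.map_mono (fun _ hx => hXY hx)

theorem imf_commutator {X Y : Subgroup G} (hX : X ≤ N) (hY : Y ≤ N) : imf f ⁅X, Y⁆ = ⁅imf f X, imf f Y⁆ := by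
  unfold imf
  rw [← Subgroup.map_commutator]
  congr 1
  apply Subgroup.map_injective N.subtype_injective
  rw [Subgroup.map_commutator, map_subgroupOf_eq_of_le hX, map_subgroupOf_eq_of_le hY,
    map_subgroupOf_eq_of_le]
  refine (commutator_mono hX hY).trans ?_
  rw [commutator_le]
  intro a ha b hb
  rw [commutatorElement_def]
  exact mul_mem (mul_mem (mul_mem ha hb) (inv_mem ha)) (inv_mem hb)

theorem imf_le_iff {X Y : Subgroup G} (hX : X ≤ N) :
    imf f X ≤ imf f Y ↔ ∀ x ∈ X, ∃ y : ↥N, (y : G) ∈ Y ∧ ∃ hx : x ∈ N, f (y⁻¹ * ⟨x, hx⟩) = 1 := by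
  constructor
  · intro hle x hx
    obtain ⟨y, hy, hxy⟩ := (mem_imf f).mp (hle (apply_mem_imf f (x := ⟨x, hX hx⟩) hx))
    refine ⟨y, hy, hX hx, ?_⟩
    rw [map_mul, map_inv, hxy, inv_mul_cancel]
  · rintro hall _ hz
    obtain ⟨x, hx, rfl⟩ := (mem_imf f).mp hz
    obtain ⟨y, hy, hxN, hyx⟩ := hall x hx
    refine (mem_imf f).mpr ⟨y, hy, ?_⟩
    rw [map_mul, map_inv, inv_mul_eq_one] at hyx
    exact hyx

theorem imf_normalizer_le {X Y : Subgroup G} (hXY : X ≤ normalizer (Y : Set G)) :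
    imf f X ≤ normalizer (imf f Y : Set Δ) := by
  intro z hz
  obtain ⟨x, hx, rfl⟩ := (mem_imf f).mp hz
  rw [mem_normalizer_iff]
  have key : ∀ x : ↥N, (x : G) ∈ X → ∀ d ∈ imf f Y, f x * d * (f x)⁻¹ ∈ imf f Y := by
    intro x hx d hd
    obtain ⟨y, hy, rfl⟩ := (mem_imf f).mp hd
    refine (mem_imf f).mpr ⟨x * y * x⁻¹, conj_mem_of_le_normalizer hXY hx hy, ?_⟩
    rw [map_mul, map_mul, map_inv]
  intro d
  constructor
  · exact key x hx d
  · intro hd
    have h1 := key x⁻¹ (inv_mem hx) _ hd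
    rw [map_inv] at h1
    have h2 : (f x)⁻¹ * (f x * d * (f x)⁻¹) * (f x)⁻¹⁻¹ = d := by group
    rwa [h2] at h1

theorem isPGroup_imf {X : Subgroup G} (hX : IsPGroup 2 X) : IsPGroup 2 (imf f X) := by
  unfold imf
  exact hX.comap_subtype.map _

end imf

section quot

variable [Finite G] (Q : Subgroup G)

/-- the quotient map `N_G(Q) → N_G(Q)/Q` -/
def qmap [((Q.subgroupOf (normalizer (Q : Set G)))).Normal] : ↥(normalizer (Q : Set G)) →*
    ↥(normalizer (Q : Set G)) ⧸ (Q.subgroupOf (normalizer (Q : Set G))) := QuotientGroup.mk' _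

theorem qnormal : ((Q.subgroupOf (normalizer (Q : Set G)))).Normal := normal_subgroupOf_of_le_normalizer le_rfl

variable [((Q.subgroupOf (normalizer (Q : Set G)))).Normal]

theorem qmap_eq_one_iff (x : ↥(normalizer (Q : Set G))) : qmap Q x = 1 ↔ (x : G) ∈ Q := by
  unfold qmap
  rw [← MonoidHom.mem_ker, QuotientGroup.ker_mk', mem_subgroupOf]

theorem card_imf_qmap {X : Subgroup G} (hQX : Q ≤ X) (hX : X ≤ normalizer (Q : Set G)) :
    Nat.card (imf (qmap Q) X) * Nat.card Q = Nat.card X := by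
  have h1 := SubgroupTools.card_map_mul_card_inf_ker (qmap Q) (X.subgroupOf (normalizer (Q : Set G)))
  have h2 : X.subgroupOf (normalizer (Q : Set G)) ⊓ (qmap Q).ker = Q.subgroupOf (normalizer (Q : Set G)) := by
    ext x
    rw [mem_inf, MonoidHom.mem_ker, qmap_eq_one_iff]
    exact ⟨fun h => h.2, fun h => ⟨hQX h, h⟩⟩
  rw [h2, SubgroupTools.card_subgroupOf_of_le le_normalizer, SubgroupTools.card_subgroupOf_of_le hX] at h1
  exact h1

theorem imf_qmap_eq_bot {X : Subgroup G} (hX : X ≤ Q) : imf (qmap Q) X = ⊥ := by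
  rw [eq_bot_iff]
  intro y hy
  obtain ⟨x, hx, rfl⟩ := (mem_imf _).mp hy
  rw [mem_bot, qmap_eq_one_iff]
  exact hX hx

theorem le_of_imf_qmap_eq_bot {X : Subgroup G} (hX : X ≤ normalizer (Q : Set G)) (h : imf (qmap Q) X = ⊥) :
    X ≤ Q := by
  intro x hx
  have h1 := apply_mem_imf (qmap Q) (X := X) (x := ⟨x, hX hx⟩) hx
  rw [h, mem_bot, qmap_eq_one_iff] at h1
  exact h1

theorem imf_qmap_sup {X : Subgroup G} (hX : X ≤ normalizer (Q : Set G)) :
    imf (qmap Q) (X ⊔ Q) = imf (qmap Q) X := by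
  apply le_antisymm _ (imf_mono _ le_sup_left)
  intro y hy
  obtain ⟨x, hx, rfl⟩ := (mem_imf _).mp hy
  obtain ⟨a, ha, q, hq, hxq⟩ := exists_mul_of_mem_sup_of_le' hX (by rw [sup_comm]; exact hx)
  refine (mem_imf _).mpr ⟨⟨a, hX ha⟩, ha, ?_⟩
  have h1 : (qmap Q) (⟨a, hX ha⟩⁻¹ * x) = 1 := by
    rw [qmap_eq_one_iff]
    show a⁻¹ * (x : G) ∈ Q
    rw [hxq]
    have : a⁻¹ * (a * q) = q := by group
    rw [this]; exact hq
  rw [map_mul, map_inv, inv_mul_eq_one] at h1
  exact h1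

theorem imf_qmap_le_iff {X Y : Subgroup G} (hX : X ≤ normalizer (Q : Set G)) (hY : Y ≤ normalizer (Q : Set G)) :
    imf (qmap Q) X ≤ imf (qmap Q) Y ↔ X ≤ Y ⊔ Q := by
  rw [imf_le_iff _ hX]
  constructor
  · intro h x hx
    obtain ⟨y, hy, hxN, h1⟩ := h x hx
    rw [qmap_eq_one_iff] at h1
    have h2 : x = y * ((y : G)⁻¹ * x) := by group
    rw [h2]
    exact mul_mem (mem_sup_left hy) (mem_sup_right h1)
  · intro h x hx
    obtain ⟨y, hy, q, hq, hyq⟩ := exists_mul_of_mem_sup_of_le' hY (by rw [sup_comm]; exact h hx)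
    refine ⟨⟨y, hY hy⟩, hy, hX hx, ?_⟩
    rw [qmap_eq_one_iff]
    show y⁻¹ * x ∈ Q
    rw [hyq]
    have : y⁻¹ * (y * q) = q := by group
    rw [this]; exact hq

end quot

variable [Finite G]

theorem LH.exists_comp {T L : Subgroup G} (h : LH T L) (hZN : ZNHyp G) {t : ↥L} (htJ : (t : G) ∈ JJ T)
    (htv : IsTv (VL T L) (t : G)) :
    ∃ K ≤ L, XFacts (JJ T) K ∧ img (h.act hZN).norm K = Dt (RR (h.act hZN).norm) (psi (h.act hZN).norm t) := by
  set A := h.act hZN with hA
  have S := A.setup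
  set ψ := psi A.norm with hψ
  have htH : ψ t ∈ HH A.norm := ⟨_, rfl⟩
  have htv' : IsTv (VV (VL T L)) (ψ t) := (isTv_psi_iff A.norm t).mpr htv
  set D := Dt (RR A.norm) (ψ t) with hD
  set KK := pre A.norm D with hKK
  set C := CL T L with hC
  set Q := Cfsg.pCoreOf 2 L with hQ
  have hJL := h.JJ_leL
  have hDH : D ≤ HH A.norm := S.Dt_leH htH htv'
  have himgKK : img A.norm KK = D := img_pre A.norm hDH
  have hKKL : KK ≤ L := pre_le _ _
  have hCKK : C ≤ KK := by
    intro x hx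
    refine mem_pre.mpr ⟨hx.1, ?_⟩
    rw [(psi_eq_one_iff A.norm ⟨x, hx.1⟩).mpr hx.2]
    exact one_mem _
  -- `J` normalizes `KK`
  have hJKK : JJ T ≤ normalizer (KK : Set G) := by
    refine (h.JJ_le_closure hZN).trans (sup_le ?_ ?_)
    · rw [closure_le]
      intro s hs
      have hsL : s ∈ L := hJL hs.1
      have h1 : zpowers s ≤ normalizer (KK : Set G) := by
        apply le_normalizer_pre A.norm (by rwa [zpowers_le])
        intro y hy
        obtain ⟨x, hx, rfl⟩ := mem_img.mp hy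
        obtain ⟨k, hk⟩ := hx
        have h2 : x = ⟨s, hsL⟩ ^ k := Subtype.ext hk.symm
        rw [h2, map_zpow]
        exact zpow_mem (S.mem_normalizer_Dt' ⟨_, rfl⟩ ((isTv_psi_iff A.norm ⟨s, hsL⟩).mpr hs.2) htH htv') k
      exact h1 (mem_zpowers s)
    · exact (inf_le_right.trans (h.core_le_CL.trans hCKK)).trans le_normalizer
  have hCJ : ⁅C, JJ T⁆ ≤ Q := by
    refine le_trans (commutator_mono le_rfl (JJ_le T)) ?_
    have := h.commutator_CL_le hZN (one_mem L)
    rwa [show cj (1 : G) T = T from map_conj_one T] at this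
  have hQC : Q ≤ C := h.core_le_CL
  have hQN : L ≤ normalizer (Q : Set G) := le_normalizer_pCoreOf 2 L
  -- indices
  have hcardKK : C.relIndex KK = 3 := by
    have h1 := SubgroupTools.card_map_mul_card_inf_ker (psi A.norm) (KK.subgroupOf L)
    have h4 : KK.subgroupOf L ⊓ (psi A.norm).ker = C.subgroupOf L := by
      ext x
      rw [mem_inf, MonoidHom.mem_ker, psi_eq_one_iff]
      constructor
      · rintro ⟨_, h6⟩; exact mem_inf.mpr ⟨x.2, h6⟩
      · intro h5
        exact ⟨hCKK h5, (mem_inf.mp h5).2⟩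
    rw [h4, SubgroupTools.card_subgroupOf_of_le hKKL, SubgroupTools.card_subgroupOf_of_le inf_le_left] at h1
    have h2 : Nat.card ((KK.subgroupOf L).map (psi A.norm)) = 3 := by
      have : (KK.subgroupOf L).map (psi A.norm) = D := himgKK
      rw [this]; exact S.Dt_card htH htv'
    rw [h2, mul_comm] at h1
    have h3 := SubgroupTools.card_mul_relIndex_of_le hCKK
    rw [← h1] at h3
    exact Nat.eq_of_mul_eq_mul_left Nat.card_pos h3
  have := qnormal Q
  set π := qmap Q with hπ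
  have hKKN : KK ≤ normalizer (Q : Set G) := hKKL.trans hQN
  have hJN : JJ T ≤ normalizer (Q : Set G) := hJL.trans hQN
  have hCN : C ≤ normalizer (Q : Set G) := hCKK.trans hKKN
  -- odd order
  have hQsyl : IsSyl 2 Q C := by
    have h1 : IsSyl 2 (T ⊓ C) C := h.syl.inf_normal inf_le_left (le_normalizer_CL T L)
    rwa [h.inf_CL hZN] at h1
  have hQKK : IsSyl 2 Q KK := by
    refine ⟨hQC.trans hCKK, isPGroup_pCoreOf 2 L, ?_⟩
    rw [← Subgroup.relIndex_mul_relIndex Q C KK hQC hCKK, hcardKK]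
    intro hd
    rcases (Nat.prime_two.dvd_mul).mp hd with h1 | h1
    · exact hQsyl.ndvd h1
    · omega
  have hoddKK : (Nat.card (imf π KK)).Coprime 2 := by
    rw [Nat.coprime_comm, Nat.prime_two.coprime_iff_not_dvd]
    have h1 := card_imf_qmap Q (hQC.trans hCKK) hKKN
    have h2 := SubgroupTools.card_mul_relIndex_of_le (hQC.trans hCKK)
    have h3 : Nat.card (imf π KK) = Q.relIndex KK := by
      rw [← h2, mul_comm] at h1
      exact Nat.eq_of_mul_eq_mul_left Nat.card_pos h1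
    rw [h3]; exact hQKK.ndvd
  have hJp : IsPGroup 2 (imf π (JJ T)) := isPGroup_imf π (h.syl.pgroup.to_le (JJ_le T))
  have hcop : (Nat.card (imf π (JJ T))).Coprime (Nat.card (imf π KK)) := coprime_card_of_pgroup hJp hoddKK
  have hJKn : imf π (JJ T) ≤ normalizer (imf π KK : Set _) := imf_normalizer_le π hJKK
  have hsolv : Group.IsSolvable ↥(imf π KK) := by
    unfold imf
    exact SubgroupTools.isSolvable_map π (SubgroupTools.isSolvable_subgroupOf _
      (SubgroupTools.isSolvable_of_le hKKL (h.solv hZN)))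
  -- `C_{KK}(J)` has index 3
  have hCc : imf π C ≤ imf π KK ⊓ centralizer (imf π (JJ T) : Set _) := by
    refine le_inf (imf_mono π hCKK) ?_
    rw [← commutator_eq_bot_iff_le_centralizer, ← imf_commutator π hCN hJN]
    exact imf_qmap_eq_bot Q hCJ
  have hCcard : (imf π C).relIndex (imf π KK) = 3 := by
    have h1 := card_imf_qmap Q hQC hCN
    have h2 := card_imf_qmap Q (hQC.trans hCKK) hKKN
    have h3 := SubgroupTools.card_mul_relIndex_of_le hCKK
    have h4 := SubgroupTools.card_mul_relIndex_of_le (imf_mono π hCKK)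
    rw [hcardKK, ← h1, ← h2] at h3
    have h5 : 0 < Nat.card Q := Nat.card_pos
    have h6 : Nat.card (imf π KK) = Nat.card (imf π C) * 3 := by
      apply Nat.eq_of_mul_eq_mul_right h5
      rw [← h3]; ring
    rw [h6] at h4
    exact Nat.eq_of_mul_eq_mul_left Nat.card_pos h4
  have hidx : (imf π KK ⊓ centralizer (imf π (JJ T) : Set _)).relIndex (imf π KK) = 3 := by
    have h1 := Subgroup.relIndex_dvd_of_le_left (imf π KK) hCc
    rw [hCcard] at h1
    refine eq_of_dvd_three h1 ?_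
    intro h2
    have h3 : imf π KK ≤ centralizer (imf π (JJ T) : Set _) := (relIndex_eq_one.mp h2).trans inf_le_right
    rw [← commutator_eq_bot_iff_le_centralizer, ← imf_commutator π hKKN hJN] at h3
    have h4 := le_of_imf_qmap_eq_bot Q ((commutator_le_left_of_le hJKK).trans hKKN) h3
    have h5 : img A.norm ⁅KK, JJ T⁆ = ⊥ := by
      rw [img_eq_bot_iff A.norm ((commutator_le_left_of_le hJKK).trans hKKL)]
      exact h4.trans h.core_le_centralizer
    rw [img_commutator A.norm hKKL hJL, himgKK, commutator_eq_bot_iff_le_centralizer] at h5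
    -- `ψ t` centralizes `D`
    have hDne : D ≠ ⊥ := by
      intro hb
      have := S.Dt_card htH htv'
      rw [← hD, hb, card_bot] at this
      omega
    obtain ⟨x, hx1⟩ := Subgroup.ne_bot_iff_exists_ne_one.mp hDne
    have h6 := mem_centralizer_iff.mp (h5 x.2) (ψ t) (psi_mem_img A.norm htJ)
    have h7 := S.Dt_inv htH htv' x x.2
    rw [h6] at h7
    have h8 : (x : Gam (VL T L)) = (x : Gam (VL T L))⁻¹ := by
      rw [← h7]; group
    have h9 : (x : Gam (VL T L)) * x ∈ (⊥ : Subgroup (Gam (VL T L))) := by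
      rw [mem_bot]
      nth_rewrite 1 [h8]
      group
    have h10 : (orderOf (x : Gam (VL T L))).Coprime 2 := by
      refine Nat.Coprime.coprime_dvd_left ?_ (S.Dt_odd htH htv')
      rw [← Nat.card_zpowers]
      exact card_dvd_of_le (by rw [zpowers_le]; exact x.2)
    have h11 := TvStruct.mem_of_sq_mem h10 h9
    exact hx1 (Subtype.ext (mem_bot.mp h11))
  have hcomm3 := CoprimeAction2.card_commutator_eq_of_index_prime hJKn hcop (Or.inr hsolv) Nat.prime_three hidx
  have hcomm2 := CoprimeAction2.commutator_commutator hJKn hcop (Or.inr hsolv)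
  set N₁ := ⁅KK, JJ T⁆ with hN₁
  have hN₁KK : N₁ ≤ KK := commutator_le_left_of_le hJKK
  have hN₁N : N₁ ≤ normalizer (Q : Set G) := hN₁KK.trans hKKN
  set N₂ := N₁ ⊔ Q with hN₂
  have hQN₂ : Q ≤ N₂ := le_sup_right
  have hN₂KK : N₂ ≤ KK := sup_le hN₁KK (hQC.trans hCKK)
  have hN₂N : N₂ ≤ normalizer (Q : Set G) := hN₂KK.trans hKKN
  have himN₂ : imf π N₂ = ⁅imf π KK, imf π (JJ T)⁆ := by
    rw [hN₂, imf_qmap_sup Q hN₁N, imf_commutator π hKKN hJN]
  have hN₂card : Nat.card N₂ = 3 * Nat.card Q := by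
    rw [← card_imf_qmap Q hQN₂ hN₂N, ← hπ, himN₂, hcomm3]
  have hJN₂ : JJ T ≤ normalizer (N₂ : Set G) :=
    le_normalizer_sup (normalizer_commutator_ge_right KK (JJ T)) hJN
  have hN₂comm : N₂ ≤ ⁅N₂, JJ T⁆ ⊔ Q := by
    rw [← imf_qmap_le_iff Q hN₂N ((commutator_le_left_of_le hJN₂).trans hN₂N), ← hπ,
      imf_commutator π hN₂N hJN, himN₂, hcomm2]
  -- the component
  set K := pRes 2 N₂ with hK
  have hKN₂ : K ≤ N₂ := pRes_le 2 N₂
  have hKL : K ≤ L := (hKN₂.trans hN₂KK).trans hKKL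
  have hQsylN₂ : IsSyl 2 Q N₂ := hQKK.of_le hQN₂ hN₂KK
  have hQK : Q ⊔ K = N₂ := hQsylN₂.sup_pRes
  have hKQ : K ≤ normalizer (Q : Set G) := hKL.trans hQN
  have h2sub : ∀ P : Subgroup G, P ≤ KK → IsPGroup 2 P → P ≤ Q := by
    intro P hPK hP
    have h1 : IsPGroup 2 ↥(Q ⊔ P) := isPGroup_sup (isPGroup_pCoreOf 2 L) hP (hPK.trans hKKN)
    have h2 := hQKK.eq_of_le h1 (sup_le (hQC.trans hCKK) hPK) le_sup_left
    rw [h2]; exact le_sup_right
  have hcore : Cfsg.pCoreOf 2 K = Q ⊓ K := by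
    apply le_antisymm
    · exact le_inf (h2sub _ ((pCoreOf_le K).trans (hKN₂.trans hN₂KK)) (isPGroup_pCoreOf 2 K)) (pCoreOf_le K)
    · apply le_pCoreOf inf_le_right (le_normalizer_inf hKQ le_normalizer)
      exact (isPGroup_pCoreOf 2 L).to_le inf_le_left
  have hKidx : (Cfsg.pCoreOf 2 K).relIndex K = 3 := by
    have h1 := SubgroupTools.card_sup_mul_card_inf hKQ
    rw [hQK, hN₂card, ← hcore] at h1
    have h2 := SubgroupTools.card_mul_relIndex_of_le (pCoreOf_le (p := 2) K)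
    have h3 : 0 < Nat.card Q := Nat.card_pos
    have h4 : Nat.card K = Nat.card (Cfsg.pCoreOf 2 K) * 3 := by
      apply Nat.eq_of_mul_eq_mul_left h3
      rw [← h1]; ring
    rw [h4] at h2
    exact Nat.eq_of_mul_eq_mul_left Nat.card_pos h2
  have hJK : JJ T ≤ normalizer (K : Set G) := hJN₂.trans (normalizer_le_normalizer_pRes 2 N₂)
  have hKres : pRes 2 K = K := pRes_pRes 2 N₂
  have hKcomm : ⁅K, JJ T⁆ = K := by
    apply le_antisymm (commutator_le_left_of_le hJK)
    set K₁ := ⁅K, JJ T⁆ with hK₁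
    have hK₁K : K₁ ≤ K := commutator_le_left_of_le hJK
    have hKK₁ : K ≤ normalizer (K₁ : Set G) := normalizer_commutator_ge_left K (JJ T)
    have h1 : ⁅N₂, JJ T⁆ ≤ K₁ ⊔ Q := by
      rw [← hQK, commutator_comm]
      apply TvStruct.commutator_sup_le
      · exact le_sup_right.trans le_normalizer
      · exact le_normalizer_sup hKK₁ hKQ
      · exact (commutator_le_right_of_le hJN).trans le_sup_right
      · rw [commutator_comm]; exact le_sup_left
    have h2 : K ≤ K₁ ⊔ Q := hKN₂.trans (hN₂comm.trans (sup_le h1 le_sup_right))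
    conv_lhs => rw [← hKres]
    apply pRes_le_of_pow_mem
    intro x hx
    obtain ⟨a, ha, q, hq, hxq⟩ := exists_mul_of_mem_sup_of_le' ((hK₁K.trans hKQ)) (by rw [sup_comm]; exact h2 hx)
    obtain ⟨k, hk⟩ := (isPGroup_pCoreOf 2 L) ⟨q, hq⟩
    have hk' : q ^ 2 ^ k = 1 := congrArg Subtype.val hk
    refine ⟨k, ?_⟩
    have hqK : q ∈ K := by
      have : q = a⁻¹ * x := by rw [hxq]; group
      rw [this]; exact mul_mem (inv_mem (hK₁K ha)) hx
    have h3 := mul_pow_mem_coset ha (hKK₁ hqK) (2 ^ k)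
    rw [hk', inv_one, mul_one] at h3
    rw [hxq]; exact h3
  have hc : CL3 T K := ⟨hKcomm, hKres, hKidx⟩
  have hpre : XPre (JJ T) K := by
    refine ⟨hKcomm, hKres, hKidx, h.syl.pgroup.to_le (JJ_le T), JJ_JJ T, ?_⟩
    intro S' hS' hJS'
    exact JJ_eq_of_pgroup h.syl hS'.pgroup (hS'.le.trans (sup_le hKL hJL)) hJS'
  have hWcard : Nat.card (Cfsg.wOf K) = 4 := by
    apply le_antisymm hpre.card_wOf_le
    rw [← h.card_commutator hZN hc hKL]
    exact card_le_of_le (h.commutator_le_wOf hZN hc hKL)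
  refine ⟨K, hKL, ⟨hKcomm, hKres, hKidx, hpre.Jp, hpre.JJJ, hpre.max, hWcard⟩, ?_⟩
  apply S.Dt_eq_of_le htH htv'
  · exact (img_mono (hKN₂.trans hN₂KK)).trans himgKK.le
  · rw [Ne, img_eq_bot_iff A.norm hKL]
    intro hle
    exact h.not_le_CL hZN hc hKL (le_inf hKL hle)

end Cfsg.Agent.Lib.ZN
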