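import Cfsg.Agent.Lib.ZNExist
import Cfsg.Agent.Lib.SylAmb

/-!
Kurzweil–Stellmacher 12.1.8, 12.1.9: the sets `𝒯(M)`, `𝒯*(M)`.
-/

set_option autoImplicit false
set_option linter.unusedSectionVars false

namespace Cfsg.Agent.Lib.ZN

open Subgroup commutatorElement Cfsg.Agent.Lib.LocBase Cfsg.Agent.Lib.TvTransfer Cfsg.Agent.Lib.TvStruct
open scoped Pointwise

universe u

variable {G : Type u} [Group G] [Finite G]

theorem JJ_ne_bot {T : Subgroup G} (hT : IsPGroup 2 T) (hT1 : T ≠ ⊥) : JJ T ≠ ⊥ := by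
  intro hb
  obtain ⟨A, hA⟩ := AA_nonempty T
  have h1 : A = ⊥ := le_bot_iff.mp (hb ▸ le_JJ hA)
  apply omegaCenterOf_ne_bot hT hT1
  rw [← card_eq_one]
  have h2 := hA.2.2 _ (omegaCenterOf_le T) (EA_omegaCenterOf T)
  rw [h1, card_bot] at h2
  have h3 : 0 < Nat.card (Cfsg.omegaCenterOf T) := Nat.card_pos
  omega

theorem maxElemAbelianOrder_eq {T A : Subgroup G} (hA : A ∈ AA T) : Cfsg.maxElemAbelianOrder T = Nat.card A := by
  unfold Cfsg.maxElemAbelianOrder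
  have h1 := ThompsonJ.image_maxElementaryAbelian (G := G) 2 T
  have h2 : (fun B : Subgroup ↥T => Nat.card B) '' Cfsg.maxElementaryAbelianSubgroups 2 ↥T = {Nat.card A} := by
    ext n
    constructor
    · rintro ⟨B, hB, rfl⟩
      have h3 : B.map T.subtype ∈ AA T := by
        rw [AA, ← h1]; exact ⟨B, hB, rfl⟩
      have h4 := card_eq_of_mem_AA h3 hA
      rw [Subgroup.card_map_of_injective T.subtype_injective] at h4
      exact h4
    · intro hn
      rw [Set.mem_singleton_iff] at hn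
      have h3 : A ∈ (fun A : Subgroup ↥T => A.map T.subtype) '' Cfsg.maxElementaryAbelianSubgroups 2 ↥T := by
        rw [h1]; exact hA
      obtain ⟨B, hB, hBA⟩ := h3
      refine ⟨B, hB, ?_⟩
      show Nat.card B = n
      rw [hn, ← hBA]
      exact (Subgroup.card_map_of_injective T.subtype_injective).symm
  rw [h2, csSup_singleton]

/-- Lemma B -/
theorem maxStrad_eq {M T T' : Subgroup G} (hT : T ∈ Cfsg.maxStraddlingTwoSubgroups M)
    (hT' : T' ∈ Cfsg.straddlingTwoSubgroups M) (hle : JJ T ≤ T') : JJ T' = JJ T ∧ Nat.card T' ≤ Nat.card T := by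
  obtain ⟨A, hA⟩ := AA_nonempty T
  obtain ⟨A', hA'⟩ := AA_nonempty T'
  obtain ⟨h1, h2⟩ := hT.2 T' hT'
  rw [maxElemAbelianOrder_eq hA, maxElemAbelianOrder_eq hA'] at h1 h2
  have h3 : Nat.card A ≤ Nat.card A' := hA'.2.2 A ((le_JJ hA).trans hle) hA.2.1
  have h4 := le_antisymm h1 h3
  obtain ⟨h5, h6⟩ := h2 h4
  have h7 : JJ T ≤ JJ T' := by
    conv_lhs => rw [JJ_eq]
    apply sSup_le
    intro B hB
    apply le_JJ
    refine ⟨(le_JJ hB).trans hle, hB.2.1, ?_⟩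
    intro C hC hC'
    rw [card_eq_of_mem_AA hB hA, ← h4]
    exact hA'.2.2 C hC hC'
  have h8 : JJ T = JJ T' := Subgroup.eq_of_le_of_card_ge h7 h5
  exact ⟨h8.symm, h6 (by rw [JJ, JJ] at h8; rw [h8])⟩

structure MHyp (G : Type u) [Group G] [Finite G] (M : Subgroup G) (S : Sylow 2 G) : Prop where
  local2 : Cfsg.IsTwoLocal M
  NJ : normalizer (JJ (S : Subgroup G) : Set G) ≤ M

/-- Lemma A: `N_G(J(T)) ≤ M`. -/
theorem maxStrad_normalizer_le {M T : Subgroup G} {S : Sylow 2 G} (hM : MHyp G M S)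
    (hT : T ∈ Cfsg.maxStraddlingTwoSubgroups M) : normalizer (JJ T : Set G) ≤ M := by
  by_contra hcon
  obtain ⟨⟨hTp, hT1, hTM, L, hL, hTL, hLM⟩, hmax⟩ := hT
  have hTmax : T ∈ Cfsg.maxStraddlingTwoSubgroups M := ⟨⟨hTp, hT1, hTM, L, hL, hTL, hLM⟩, hmax⟩
  have hloc : Cfsg.IsTwoLocal (normalizer (JJ T : Set G)) :=
    ⟨JJ T, hTp.to_le (JJ_le T), JJ_ne_bot hTp hT1, rfl⟩
  -- (*)
  have key : ∀ T' : Subgroup G, IsPGroup 2 T' → T ≤ T' → T' ≤ M → T' ≤ normalizer (JJ T : Set G) → T' = T := by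
    intro T' hp hle hM' hN
    have h1 : T' ∈ Cfsg.straddlingTwoSubgroups M := by
      refine ⟨hp, ?_, hM', _, hloc, hN, hcon⟩
      rintro rfl; exact hT1 (le_bot_iff.mp hle)
    have h2 := (maxStrad_eq hTmax h1 ((JJ_le T).trans hle)).2
    exact (Subgroup.eq_of_le_of_card_ge hle h2).symm
  have hSM : (S : Subgroup G) ≤ M :=
    (le_normalizer.trans (normalizer_le_normalizer_JJ _)).trans hM.NJ
  obtain ⟨m, hm, hle⟩ := (isSyl_of_sylow_le hSM).exists_conj_le hTp hTM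
  set S' := cj m⁻¹ (S : Subgroup G) with hS'
  have hTS' : T ≤ S' := map_conj_le_iff.mp hle
  have hS'p : IsPGroup 2 S' := S.2.map _
  have hmM : cj m⁻¹ M = M := map_conj_eq_of_mem (le_normalizer (inv_mem hm))
  have hS'M : S' ≤ M := by
    rw [← hmM]; exact Subgroup.map_mono hSM
  have hNS' : normalizer (JJ S' : Set G) ≤ M := by
    rw [hS', ← JJ_conj]
    show normalizer ((Subgroup.map _ _ : Subgroup G) : Set G) ≤ M
    rw [← map_conj_normalizer, ← hmM]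
    exact Subgroup.map_mono hM.NJ
  by_cases he : T = S'
  · apply hcon
    rw [he]; exact hNS'
  · have hlt : T < S' := lt_of_le_of_ne hTS' he
    have h1 := SylAmb.lt_inf_normalizer hS'p hlt
    have h2 := key (S' ⊓ normalizer (T : Set G)) (hS'p.to_le inf_le_left) h1.le (inf_le_left.trans hS'M)
      (inf_le_right.trans (normalizer_le_normalizer_JJ T))
    exact h1.ne h2.symm

/-- the first part of 12.1.8 -/
theorem strad_main (hZN : ZNHyp G) {M T L T₀ : Subgroup G} {S : Sylow 2 G} (hM : MHyp G M S)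
    (hT : T ∈ Cfsg.maxStraddlingTwoSubgroups M) (hL : Cfsg.IsTwoLocal L) (hLM : ¬ L ≤ M) (hT₀ : IsSyl 2 T₀ L)
    (hJ : JJ T ≤ T₀) : JJ T = JJ T₀ ∧ T₀ ∈ Cfsg.straddlingTwoSubgroups M ∧ LH T₀ L := by
  have hNM := maxStrad_normalizer_le hM hT
  have hTp := hT.1.1
  have hT1 := hT.1.2.1
  have hJ1 : JJ T ≠ ⊥ := JJ_ne_bot hTp hT1
  set T₁ := T₀ ⊓ normalizer (JJ T : Set G) with hT₁
  have hJT₁ : JJ T ≤ T₁ := le_inf hJ le_normalizer
  have hT₁s : T₁ ∈ Cfsg.straddlingTwoSubgroups M := by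
    refine ⟨hT₀.pgroup.to_le inf_le_left, ?_, inf_le_right.trans hNM, L, hL, inf_le_left.trans hT₀.le, hLM⟩
    intro hb
    exact hJ1 (le_bot_iff.mp (hb ▸ hJT₁))
  have h1 := (maxStrad_eq hT hT₁s hJT₁).1
  have h2 : T₁ = T₀ := by
    by_contra hne
    have hlt : T₁ < T₀ := lt_of_le_of_ne inf_le_left hne
    have h3 := SylAmb.lt_inf_normalizer hT₀.pgroup hlt
    have h4 : T₀ ⊓ normalizer (T₁ : Set G) ≤ T₁ := by
      refine le_inf inf_le_left ?_
      rw [← h1]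
      exact inf_le_right.trans (normalizer_le_normalizer_JJ T₁)
    exact h3.not_ge h4
  rw [h2] at h1 hT₁s
  refine ⟨h1.symm, hT₁s, hT₀, ?_, cent_of_twoLocal hZN hL⟩
  intro hle
  apply hLM
  have h3 : JJ (Cfsg.pCoreOf 2 L) = JJ T₀ := JJ_eq_of_le hT₀.pCoreOf_le hle
  refine ((le_normalizer_pCoreOf 2 L).trans (normalizer_le_normalizer_JJ _)).trans ?_
  rw [h3, h1]
  exact hNM

theorem strad_syl (hZN : ZNHyp G) {M T L : Subgroup G} {S : Sylow 2 G} (hM : MHyp G M S)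
    (hT : T ∈ Cfsg.maxStraddlingTwoSubgroups M) (hL : Cfsg.IsTwoLocal L) (hLM : ¬ L ≤ M) (hTL : T ≤ L) :
    LH T L := by
  obtain ⟨T₀, hT₀, hTT₀⟩ := exists_isSyl_ge hT.1.1 hTL
  obtain ⟨h1, h2, h3⟩ := strad_main hZN hM hT hL hLM hT₀ ((JJ_le T).trans hTT₀)
  have h4 := (maxStrad_eq hT h2 ((JJ_le T).trans hTT₀)).2
  have h5 : T = T₀ := Subgroup.eq_of_le_of_card_ge hTT₀ h4
  rw [h5]; exact h3

/-- members of `𝓛_J(T)` contain a `J(T)`-component -/
theorem LH.exists_comp' {T L : Subgroup G} (h : LH T L) (hZN : ZNHyp G) : ∃ K ≤ L, XFacts (JJ T) K := by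
  obtain ⟨t, htJ, htv⟩ : (TV T (VL T L)).Nonempty := by
    rw [Set.nonempty_iff_ne_empty]
    intro he
    apply h.notle
    have h1 := h.JJ_le_closure hZN
    rw [he, Subgroup.closure_empty, bot_sup_eq] at h1
    exact h1.trans inf_le_right
  obtain ⟨K, hKL, hK, _⟩ := h.exists_comp hZN (t := ⟨t, h.JJ_leL htJ⟩) htJ htv
  exact ⟨K, hKL, hK⟩

end Cfsg.Agent.Lib.ZN
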