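import Cfsg.Agent.Lib.ZNCount

/-!
The order of `W_K` is at most 4.
-/

set_option autoImplicit false
set_option linter.unusedSectionVars false

namespace Cfsg.Agent.Lib.ZN

open Subgroup commutatorElement Cfsg.Agent.Lib.LocBase Cfsg.Agent.Lib.TvStruct
open scoped Pointwise

universe u

variable {G : Type u} [Group G] [Finite G]

/-- `XFacts` without the order of `W_K`. -/
structure XPre (J K : Subgroup G) : Prop where
  comm : ⁅K, J⁆ = K
  res : pRes 2 K = K
  idx : (Cfsg.pCoreOf 2 K).relIndex K = 3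
  Jp : IsPGroup 2 J
  JJJ : JJ J = J
  max : ∀ S : Subgroup G, IsSyl 2 S (K ⊔ J) → J ≤ S → JJ S = J

/-- stabilizer of the coset of `d` modulo `O` -/
def stab (O : Subgroup G) (d : G) : Subgroup G where
  carrier := {x | x ∈ normalizer (O : Set G) ∧ x * d * x⁻¹ * d⁻¹ ∈ O}
  one_mem' := ⟨one_mem _, by simp [one_mem]⟩
  mul_mem' := by
    rintro x y ⟨hx, hx2⟩ ⟨hy, hy2⟩
    refine ⟨mul_mem hx hy, ?_⟩
    have h1 : x * y * d * (x * y)⁻¹ * d⁻¹ = (x * (y * d * y⁻¹ * d⁻¹) * x⁻¹) * (x * d * x⁻¹ * d⁻¹) := by group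
    show x * y * d * (x * y)⁻¹ * d⁻¹ ∈ O
    rw [h1]
    exact mul_mem ((mem_normalizer_iff.mp hx _).mp hy2) hx2
  inv_mem' := by
    rintro x ⟨hx, hx2⟩
    refine ⟨inv_mem hx, ?_⟩
    show x⁻¹ * d * x⁻¹⁻¹ * d⁻¹ ∈ O
    have h1 : x⁻¹ * d * x⁻¹⁻¹ * d⁻¹ = x⁻¹ * (x * d * x⁻¹ * d⁻¹)⁻¹ * x⁻¹⁻¹ := by group
    rw [h1]
    exact (mem_normalizer_iff.mp (inv_mem hx) _).mp (inv_mem hx2)

theorem mem_stab {O : Subgroup G} {d x : G} : x ∈ stab O d ↔ x ∈ normalizer (O : Set G) ∧ x * d * x⁻¹ * d⁻¹ ∈ O :=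
  Iff.rfl

theorem card_le_two_mul_of_mul_mem {A A₀ : Subgroup G} (hle : A₀ ≤ A)
    (h : ∀ a ∈ A, ∀ b ∈ A, a ∉ A₀ → b ∉ A₀ → a * b ∈ A₀) : Nat.card A ≤ 2 * Nat.card A₀ := by
  by_cases hAA : A ≤ A₀
  · have := card_le_of_le hAA
    omega
  · obtain ⟨a, ha, haA₀⟩ := SetLike.not_le_iff_exists.mp hAA
    have h1 : (A₀.subgroupOf A).index = 2 := by
      rw [index_eq_two_iff]
      refine ⟨⟨a, ha⟩, ?_⟩
      intro b
      rw [mem_subgroupOf, mem_subgroupOf]
      by_cases hb : (b : G) ∈ A₀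
      · right
        refine ⟨hb, ?_⟩
        intro h2
        exact haA₀ ((A₀.mul_mem_cancel_left hb).mp h2)
      · left
        exact ⟨h b b.2 a ha hb haA₀, hb⟩
    have h2 := SubgroupTools.card_mul_relIndex_of_le hle
    have h3 : A₀.relIndex A = 2 := h1
    rw [h3] at h2
    omega

section pre

variable {J K : Subgroup G} (h : XPre J K)
include h

theorem XPre.JK : J ≤ normalizer (K : Set G) := by
  rw [Subgroup.le_normalizer_iff_commutator_le_left]
  exact h.comm.le

theorem XPre.X_norm_K : K ⊔ J ≤ normalizer (K : Set G) := sup_le le_normalizer h.JK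

theorem XPre.X_norm_O : K ⊔ J ≤ normalizer (Cfsg.pCoreOf 2 K : Set G) :=
  h.X_norm_K.trans (normalizer_le_normalizer_pCoreOf 2 K)

theorem XPre.S₀p : IsPGroup 2 ↥(Cfsg.pCoreOf 2 K ⊔ J) :=
  isPGroup_sup (isPGroup_pCoreOf 2 K) h.Jp (le_sup_right.trans h.X_norm_O)

theorem XPre.card_X : Nat.card (K ⊔ J : Subgroup G) = 3 * Nat.card (Cfsg.pCoreOf 2 K ⊔ J : Subgroup G) := by
  have h1 := SubgroupTools.card_sup_mul_card_inf h.JK
  have h2 := SubgroupTools.card_sup_mul_card_inf ((le_sup_right : J ≤ K ⊔ J).trans h.X_norm_O)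
  have h3 : K ⊓ J = Cfsg.pCoreOf 2 K ⊓ J := by
    apply le_antisymm
    · exact le_inf (le_pCoreOf_of_pgroup h.idx (h.Jp.to_le inf_le_right) inf_le_left) inf_le_right
    · exact inf_le_inf_right _ (pCoreOf_le K)
  have h4 := SubgroupTools.card_mul_relIndex_of_le (pCoreOf_le (p := 2) K)
  rw [h.idx] at h4
  rw [h3] at h1
  have h5 : 0 < Nat.card (Cfsg.pCoreOf 2 K ⊓ J : Subgroup G) := Nat.card_pos
  apply Nat.eq_of_mul_eq_mul_right h5
  rw [h1, mul_assoc, h2, ← h4]; ring

theorem XPre.syl : IsSyl 2 (Cfsg.pCoreOf 2 K ⊔ J) (K ⊔ J) := by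
  have hle : Cfsg.pCoreOf 2 K ⊔ J ≤ K ⊔ J := sup_le_sup_right (pCoreOf_le K) J
  refine ⟨hle, h.S₀p, ?_⟩
  have h1 := SubgroupTools.card_mul_relIndex_of_le hle
  rw [h.card_X, mul_comm] at h1
  have h2 := Nat.eq_of_mul_eq_mul_right Nat.card_pos h1
  rw [h2]; norm_num

theorem XPre.JJ_S₀ : JJ (Cfsg.pCoreOf 2 K ⊔ J) = J := h.max _ h.syl le_sup_right

theorem XPre.W_idem : ⁅Cfsg.wOf K, K⁆ = Cfsg.wOf K := by
  have h1 : K ≤ normalizer (Cfsg.omegaCenterOf (Cfsg.pCoreOf 2 K) : Set G) :=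
    (le_normalizer_pCoreOf 2 K).trans (normalizer_le_normalizer_omegaCenterOf _)
  have h2 : IsPGroup 2 (Cfsg.omegaCenterOf (Cfsg.pCoreOf 2 K)) := (isPGroup_pCoreOf 2 K).to_le (omegaCenterOf_le _)
  have := commutator_pRes_idem (p := 2) h2 h1
  rw [h.res] at this
  exact this

theorem XPre.X_norm_W : K ⊔ J ≤ normalizer (Cfsg.wOf K : Set G) :=
  h.X_norm_K.trans (normalizer_le_normalizer_wOf K)

theorem XPre.not_K_le_core : ¬ K ≤ Cfsg.pCoreOf 2 K := by
  intro h3
  have h4 := h.idx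
  rw [relIndex_eq_one.mpr h3] at h4
  omega

theorem XPre.exists_d : ∃ d ∈ K, (orderOf d).Coprime 2 ∧ d ∉ Cfsg.pCoreOf 2 K ∧
    K = Cfsg.pCoreOf 2 K ⊔ zpowers d := by
  obtain ⟨d, hd, hdo, hdO⟩ : ∃ d ∈ K, (orderOf d).Coprime 2 ∧ d ∉ Cfsg.pCoreOf 2 K := by
    by_contra hcon
    push Not at hcon
    apply h.not_K_le_core
    conv_lhs => rw [← h.res]
    rw [pRes_le_iff]
    exact hcon
  refine ⟨d, hd, hdo, hdO, ?_⟩
  have hle : Cfsg.pCoreOf 2 K ⊔ zpowers d ≤ K := sup_le (pCoreOf_le K) (by rwa [zpowers_le])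
  apply le_antisymm _ hle
  rw [← relIndex_eq_one]
  by_contra hne
  have h1 := Subgroup.relIndex_dvd_of_le_left K (le_sup_left : Cfsg.pCoreOf 2 K ≤ Cfsg.pCoreOf 2 K ⊔ zpowers d)
  rw [h.idx] at h1
  have h2 := eq_of_dvd_three h1 hne
  have h3 := SubgroupTools.card_mul_relIndex_of_le hle
  have h4 := SubgroupTools.card_mul_relIndex_of_le (pCoreOf_le (p := 2) K)
  rw [h2, ← h4, h.idx] at h3
  have h5 : Cfsg.pCoreOf 2 K = Cfsg.pCoreOf 2 K ⊔ zpowers d :=
    Subgroup.eq_of_le_of_card_ge le_sup_left (by omega)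
  apply hdO
  rw [h5]; exact mem_sup_right (mem_zpowers d)

theorem XPre.trichotomy {d : G} (hd : d ∈ K) (hK : K = Cfsg.pCoreOf 2 K ⊔ zpowers d) :
    ∀ k ∈ K, k ∈ Cfsg.pCoreOf 2 K ∨ k * d⁻¹ ∈ Cfsg.pCoreOf 2 K ∨ k * d ∈ Cfsg.pCoreOf 2 K := by
  intro k hk
  have hN : zpowers d ≤ normalizer (Cfsg.pCoreOf 2 K : Set G) := by
    rw [zpowers_le]; exact le_normalizer_pCoreOf 2 K hd
  have hd3 : d ^ 3 ∈ Cfsg.pCoreOf 2 K := by
    have hn : ((Cfsg.pCoreOf 2 K).subgroupOf K).Normal :=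
      normal_subgroupOf_of_le_normalizer (le_normalizer_pCoreOf 2 K)
    have h1 := Subgroup.pow_index_mem ((Cfsg.pCoreOf 2 K).subgroupOf K) ⟨d, hd⟩
    have h2 : ((Cfsg.pCoreOf 2 K).subgroupOf K).index = 3 := h.idx
    rw [h2] at h1
    exact h1
  rw [hK] at hk
  obtain ⟨o, ho, z, ⟨i, rfl⟩, rfl⟩ := exists_mul_of_mem_sup_of_le hN hk
  have hd3' : ∀ q : ℤ, d ^ (3 * q) ∈ Cfsg.pCoreOf 2 K := by
    intro q
    rw [zpow_mul]
    apply zpow_mem
    exact_mod_cast hd3
  have hi : i = 3 * (i / 3) ∨ i = 3 * (i / 3) + 1 ∨ i = 3 * (i / 3 + 1) - 1 := by omega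
  show o * d ^ i ∈ _ ∨ o * d ^ i * d⁻¹ ∈ _ ∨ o * d ^ i * d ∈ _
  rcases hi with hi | hi | hi
  · left; rw [hi]; exact mul_mem ho (hd3' _)
  · right; left
    have : o * d ^ i * d⁻¹ = o * d ^ (3 * (i / 3)) := by
      rw [hi]
      have h5 : (3 * (i / 3) + 1) / 3 = i / 3 := by omega
      rw [h5, zpow_add, zpow_one]; group
    rw [this]; exact mul_mem ho (hd3' _)
  · right; right
    have : o * d ^ i * d = o * d ^ (3 * (i / 3 + 1)) := by
      have h5 : i + 1 = 3 * (i / 3 + 1) := by omega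
      rw [← h5, zpow_add, zpow_one]; group
    rw [this]; exact mul_mem ho (hd3' _)

theorem XPre.fixed_eq_bot {d : G} (hd : d ∈ K) (hdo : (orderOf d).Coprime 2)
    (hK : K = Cfsg.pCoreOf 2 K ⊔ zpowers d) : Cfsg.wOf K ⊓ centralizer (zpowers d : Set G) = ⊥ := by
  have hdN : zpowers d ≤ normalizer (Cfsg.wOf K : Set G) := by
    rw [zpowers_le]; exact h.X_norm_W (mem_sup_left hd)
  have h1 : ⁅Cfsg.wOf K, zpowers d⁆ = Cfsg.wOf K := by
    apply le_antisymm (commutator_le_left_of_le hdN)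
    have h2 : ⁅Cfsg.wOf K, Cfsg.pCoreOf 2 K ⊔ zpowers d⁆ ≤ ⁅Cfsg.wOf K, zpowers d⁆ := by
      apply TvStruct.commutator_sup_le
      · refine ((core_le_centralizer_wOf K).trans (centralizer_le ?_)).trans (centralizer_le_normalizer _)
        exact commutator_le_left_of_le hdN
      · exact normalizer_commutator_ge_right _ _
      · have : ⁅Cfsg.wOf K, Cfsg.pCoreOf 2 K⁆ = ⊥ := by
          rw [commutator_eq_bot_iff_le_centralizer, le_centralizer_iff]; exact core_le_centralizer_wOf K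
        rw [this]; exact bot_le
      · exact le_rfl
    rw [← hK, h.W_idem] at h2
    exact h2
  have hWab : IsMulCommutative (Cfsg.wOf K) := EA_wOf.1
  have hcop : (Nat.card (zpowers d)).Coprime (Nat.card (Cfsg.wOf K)) := by
    rw [Nat.card_zpowers]
    obtain ⟨n, hn⟩ := IsPGroup.iff_card.mp (ThompsonJ.elemAb_isPGroup (EA_wOf (K := K)))
    rw [hn]
    exact Nat.Coprime.pow_right n hdo
  have h3 := CoprimeAction2.inf_commutator_eq_bot_of_abelian hdN hcop
  rw [h1] at h3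
  rw [eq_bot_iff, ← h3]
  exact le_inf le_rfl inf_le_left

theorem XPre.card_wOf_le : Nat.card (Cfsg.wOf K) ≤ 4 := by
  by_cases hW1 : Cfsg.wOf K = ⊥
  · rw [hW1, card_bot]; omega
  obtain ⟨d, hd, hdo, hdO, hK⟩ := h.exists_d
  have htri := h.trichotomy hd hK
  have hfix := h.fixed_eq_bot hd hdo hK
  set O := Cfsg.pCoreOf 2 K with hO
  set W := Cfsg.wOf K with hW
  have hEA : EA W := EA_wOf
  have hWc := (ThompsonJ.elemAb_iff.mp hEA).1
  have hWp : IsPGroup 2 W := ThompsonJ.elemAb_isPGroup hEA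
  have hWO : W ≤ O := wOf_le_core K
  have hOW : O ≤ centralizer (W : Set G) := core_le_centralizer_wOf K
  have hXW := h.X_norm_W
  have hXO := h.X_norm_O
  have hdX : d ∈ K ⊔ J := mem_sup_left hd
  have hconjK : ∀ x ∈ K ⊔ J, x * d * x⁻¹ ∈ K := fun x hx => conj_mem_of_le_normalizer h.X_norm_K hx hd
  have hOn : ∀ x ∈ K ⊔ J, ∀ o ∈ O, x * o * x⁻¹ ∈ O := fun x hx o ho => conj_mem_of_le_normalizer hXO hx ho
  -- not all of `J` stabilises the coset
  obtain ⟨A, hA, hAn⟩ : ∃ A ∈ AA (O ⊔ J), ¬ A ≤ stab O d := by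
    by_contra hcon
    push Not at hcon
    have h1 : J ≤ stab O d := by
      conv_lhs => rw [← h.JJ_S₀, JJ_eq]
      exact sSup_le hcon
    apply h.not_K_le_core
    refine h.comm.ge.trans ?_
    rw [commutator_comm]
    have h2 : ⁅J, O ⊔ zpowers d⁆ ≤ O := by
      apply TvStruct.commutator_sup_le
      · exact le_normalizer
      · rw [zpowers_le]; exact hXO hdX
      · exact commutator_le_right_of_le (le_sup_right.trans hXO)
      · rw [commutator_comm, zpowers_eq_closure]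
        apply commutator_closure_le
        · rw [← zpowers_eq_closure, zpowers_le]; exact hXO hdX
        · intro x hx j hj
          rw [Set.mem_singleton_iff] at hx
          rw [hx, ← inv_mem_iff, commutatorElement_inv, commutatorElement_def]
          exact (h1 hj).2
    rw [← hK] at h2
    exact h2
  have hAX : A ≤ K ⊔ J := hA.1.trans h.syl.le
  have hAc := (ThompsonJ.elemAb_iff.mp hA.2.1).1
  have hA2 := (ThompsonJ.elemAb_iff.mp hA.2.1).2
  set A₀ := A ⊓ stab O d with hA₀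
  -- elements outside `A₀` invert `d` modulo `O`
  have hinv : ∀ a ∈ A, a ∉ A₀ → a * d * a⁻¹ * d ∈ O := by
    intro a ha haA₀
    rcases htri _ (hconjK a (hAX ha)) with h1 | h1 | h1
    · exfalso
      apply hdO
      have := hOn a⁻¹ (inv_mem (hAX ha)) _ h1
      have h2 : a⁻¹ * (a * d * a⁻¹) * a⁻¹⁻¹ = d := by group
      rwa [h2] at this
    · exfalso
      exact haA₀ (mem_inf.mpr ⟨ha, hXO (hAX ha), h1⟩)
    · exact h1
  have hAA₀ : Nat.card A ≤ 2 * Nat.card A₀ := by
    apply card_le_two_mul_of_mul_mem inf_le_left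
    intro a ha b hb haA hbA
    refine mem_inf.mpr ⟨mul_mem ha hb, mul_mem (hXO (hAX ha)) (hXO (hAX hb)), ?_⟩
    have h1 := hinv a ha haA
    have h2 := hinv b hb hbA
    have h3 : a * b * d * (a * b)⁻¹ * d⁻¹ =
        (a * (b * d * b⁻¹ * d) * a⁻¹) * (d * (a * d * a⁻¹ * d) * d⁻¹)⁻¹ := by group
    rw [h3]
    exact mul_mem (hOn a (hAX ha) _ h2) (inv_mem (hOn d hdX _ h1))
  obtain ⟨a, ha, haS⟩ := SetLike.not_le_iff_exists.mp hAn
  have haA₀ : a ∉ A₀ := fun h => haS (mem_inf.mp h).2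
  have hai := hinv a ha haA₀
  -- fixed points of `A` in `W`
  set F := W ⊓ centralizer (A : Set G) with hF
  have hFA : F ≤ A := by
    intro x hx
    obtain ⟨hxW, hxC⟩ := mem_inf.mp hx
    exact ThompsonJ.mem_of_centralizes_elem hA (mem_sup_left (hWO hxW))
      ((ThompsonJ.elemAb_iff.mp hEA).2 x hxW) hxC
  -- `b ∈ A₀` commutes with the action of `d` on `W`
  have hcommd : ∀ b ∈ A₀, ∀ w ∈ W, b * (d * w * d⁻¹) * b⁻¹ = d * (b * w * b⁻¹) * d⁻¹ := by
    intro b hb w hw
    obtain ⟨hbA, _, hbO⟩ := hb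
    have hbw : b * w * b⁻¹ ∈ W := conj_mem_of_le_normalizer hXW (hAX hbA) hw
    -- `b d = o d b`
    set o := b * d * b⁻¹ * d⁻¹ with ho
    have h1 : b * (d * w * d⁻¹) * b⁻¹ = o * (d * (b * w * b⁻¹) * d⁻¹) * o⁻¹ := by rw [ho]; group
    have h2 : d * (b * w * b⁻¹) * d⁻¹ ∈ W := conj_mem_of_le_normalizer hXW hdX hbw
    rw [h1, ← mem_centralizer_iff.mp (hOW hbO) _ h2]; group
  -- common fixed points of `a` and `d a d⁻¹` are trivial
  have htriv : ∀ w ∈ W, a * w = w * a → (d⁻¹ * w * d) * a = a * (d⁻¹ * w * d) → w = 1 := by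
    intro w hw h1 h2
    have h3 : w * (d * a * d⁻¹) = (d * a * d⁻¹) * w := by
      calc w * (d * a * d⁻¹) = d * ((d⁻¹ * w * d) * a) * d⁻¹ := by group
        _ = d * (a * (d⁻¹ * w * d)) * d⁻¹ := by rw [h2]
        _ = _ := by group
    -- `w` commutes with `a⁻¹ (d a d⁻¹)` so with `(a⁻¹ d a) d⁻¹`
    have hC : a ∈ centralizer ({w} : Set G) := mem_centralizer_singleton_iff.mpr h1
    have hC2 : d * a * d⁻¹ ∈ centralizer ({w} : Set G) := mem_centralizer_singleton_iff.mpr h3.symm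
    have hC3 : a * (d * a⁻¹ * d⁻¹) ∈ centralizer ({w} : Set G) := by
      have : a * (d * a⁻¹ * d⁻¹) = a * (d * a * d⁻¹)⁻¹ := by group
      rw [this]; exact mul_mem hC (inv_mem hC2)
    -- `a d a⁻¹ = o d⁻¹`
    have hC4 : a * d * a⁻¹ * d * (d⁻¹ * d⁻¹) ∈ centralizer ({w} : Set G) := by
      have : a * d * a⁻¹ * d * (d⁻¹ * d⁻¹) = a * (d * a⁻¹ * d⁻¹) := by group
      rw [this]; exact hC3
    have hC5 : d⁻¹ * d⁻¹ ∈ centralizer ({w} : Set G) := by
      have h4 : a * d * a⁻¹ * d ∈ centralizer ({w} : Set G) := by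
        rw [mem_centralizer_singleton_iff]
        exact (mem_centralizer_iff.mp (hOW hai) w hw).symm
      have h5 : d⁻¹ * d⁻¹ = (a * d * a⁻¹ * d)⁻¹ * (a * d * a⁻¹ * d * (d⁻¹ * d⁻¹)) := by group
      rw [h5]; exact mul_mem (inv_mem h4) hC4
    have hC6 : d⁻¹ ∈ centralizer ({w} : Set G) := by
      apply TvStruct.mem_of_sq_mem _ hC5
      rw [orderOf_inv]; exact hdo
    have h6 : w ∈ W ⊓ centralizer (zpowers d : Set G) := by
      refine mem_inf.mpr ⟨hw, ?_⟩
      rw [zpowers_eq_closure, centralizer_closure, mem_centralizer_singleton_iff]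
      have := mem_centralizer_singleton_iff.mp (inv_mem hC6)
      rw [inv_inv] at this
      exact this.symm
    rwa [hfix, mem_bot] at h6
  have hprod : ∀ N : Subgroup G, N ≤ W → d ∈ normalizer (N : Set G) → ∀ F' : Subgroup G, F' ≤ N →
      (∀ w ∈ F', a * w = w * a) → Nat.card F' * Nat.card F' ≤ Nat.card N := by
    intro N hNW hdN F' hF'N hF'a
    have h1 : F' ⊓ cj d F' = ⊥ := by
      rw [eq_bot_iff]
      intro w hw
      obtain ⟨hw1, hw2⟩ := mem_inf.mp hw
      rw [mem_map_conj] at hw2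
      exact htriv w (hNW (hF'N hw1)) (hF'a w hw1) (hF'a _ hw2).symm
    have hdF : cj d F' ≤ N := by
      rw [← map_conj_eq_of_mem hdN]; exact Subgroup.map_mono hF'N
    have h2 := SubgroupTools.card_sup_mul_card_inf (N := F') (H := cj d F')
      ((((hdF.trans hNW).trans hWc).trans (centralizer_le (hF'N.trans hNW))).trans (centralizer_le_normalizer _))
    rw [h1, card_bot, mul_one, card_map_conj] at h2
    rw [← h2]
    exact card_le_of_le (sup_le hF'N hdF)
  -- (3)
  set M := W ⊓ centralizer (A₀ : Set G) with hM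
  have hMW : M ≤ W := inf_le_left
  have hdM : d ∈ normalizer (M : Set G) := by
    apply mem_normalizer_of_map_conj_le
    rintro _ ⟨m, hm, rfl⟩
    obtain ⟨hmW, hmC⟩ := mem_inf.mp hm
    show d * m * d⁻¹ ∈ M
    refine mem_inf.mpr ⟨conj_mem_of_le_normalizer hXW hdX hmW, mem_centralizer_iff.mpr ?_⟩
    intro b hb
    have h1 := hcommd b hb m hmW
    have h2 : b * m * b⁻¹ = m := by
      rw [mem_centralizer_iff.mp hmC b hb]; group
    rw [h2] at h1
    rwa [mul_inv_eq_iff_eq_mul] at h1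
  have hFM : F ≤ M := inf_le_inf_left _ (centralizer_le inf_le_left)
  have hFa : ∀ w ∈ F, a * w = w * a := fun w hw => mem_centralizer_iff.mp (mem_inf.mp hw).2 a ha
  have h1 := hprod M hMW hdM F hFM hFa
  have h2 : Nat.card M ≤ 2 * Nat.card F := by
    have hN : M ≤ normalizer (A₀ : Set G) := by
      have : M ≤ centralizer (A₀ : Set G) := inf_le_right
      exact this.trans (centralizer_le_normalizer _)
    have h3 := SubgroupTools.card_sup_mul_card_inf hN
    have h4 : EA (A₀ ⊔ M) := ThompsonJ.elemAb_sup (ThompsonJ.elemAb_mono hA.2.1 inf_le_left)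
      (ThompsonJ.elemAb_mono hEA hMW) (le_centralizer_iff.mp inf_le_right)
    have h5 := hA.2.2 (A₀ ⊔ M) (sup_le (inf_le_left.trans hA.1) ((hMW.trans hWO).trans le_sup_left)) h4
    have h6 : Nat.card (A₀ ⊓ M : Subgroup G) ≤ Nat.card F := by
      apply card_le_of_le
      refine le_inf (inf_le_right.trans hMW) ((inf_le_left.trans inf_le_left).trans hAc)
    have h7 : 0 < Nat.card A₀ := Nat.card_pos
    apply Nat.le_of_mul_le_mul_left _ h7
    rw [← h3]
    calc Nat.card (A₀ ⊔ M : Subgroup G) * Nat.card (A₀ ⊓ M : Subgroup G) ≤ (2 * Nat.card A₀) * Nat.card F :=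
          Nat.mul_le_mul (h5.trans hAA₀) h6
      _ = _ := by ring
  have hFne : F ≠ ⊥ := by
    -- `A` is a 2-group acting on `W ≠ 1`
    have key : ∀ (m : ℕ) (N : Subgroup G), Nat.card N = m → N ≠ ⊥ → N ≤ W → A ≤ normalizer (N : Set G) → F ≠ ⊥ := by
      intro m
      induction m using Nat.strong_induction_on with
      | _ m ih2 =>
        intro N hNm hN1 hNM hBN
        have h4 : ⁅N, A⁆ < N := CoprimeAction2.commutator_lt_of_pgroup (ThompsonJ.elemAb_isPGroup hA.2.1)
          (hWp.to_le hNM) hBN hN1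
        by_cases h5 : ⁅N, A⁆ = ⊥
        · rw [commutator_eq_bot_iff_le_centralizer] at h5
          intro hb
          apply hN1
          rw [eq_bot_iff, ← hb]
          exact le_inf hNM h5
        · refine ih2 (Nat.card (⁅N, A⁆ : Subgroup G)) ?_ _ rfl h5 (h4.le.trans hNM)
            (normalizer_commutator_ge_right _ _)
          have := two_mul_card_le h4
          have h6 : 0 < Nat.card (⁅N, A⁆ : Subgroup G) := Nat.card_pos
          omega
    exact key _ W rfl hW1 le_rfl (hAX.trans hXW)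
  have hFcard : Nat.card F = 2 := by
    have h3 : 0 < Nat.card F := Nat.card_pos
    have h4 : Nat.card F ≠ 1 := by rw [Ne, card_eq_one]; exact hFne
    have h5 : Nat.card F ≤ 2 := by
      have h6 : Nat.card F * Nat.card F ≤ 2 * Nat.card F := h1.trans h2
      exact Nat.le_of_mul_le_mul_right h6 h3
    omega
  -- (4)
  set M' := W ⊓ centralizer ({a} : Set G) with hM'
  have hM'W : M' ≤ W := inf_le_left
  have ha2 : a * a = 1 := by rw [← pow_two]; exact hA2 a ha
  have haW : a ∈ normalizer (W : Set G) := hXW (hAX ha)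
  have h3 : Nat.card W ≤ Nat.card M' * Nat.card M' := card_le_card_centralizer_sq hEA haW (by
    rw [ha2]; exact one_mem _)
  have hM'a : ∀ w ∈ M', a * w = w * a := fun w hw => (mem_centralizer_singleton_iff.mp (mem_inf.mp hw).2).symm
  have h4 := hprod W le_rfl (hXW hdX) M' hM'W hM'a
  have hM'sup : M' ⊔ cj d M' = W := by
    have hdM' : cj d M' ≤ W := (Subgroup.map_mono hM'W).trans (map_conj_eq_of_mem (hXW hdX)).le
    have h5 : M' ⊓ cj d M' = ⊥ := by
      rw [eq_bot_iff]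
      intro w hw
      obtain ⟨hw1, hw2⟩ := mem_inf.mp hw
      rw [mem_map_conj] at hw2
      exact htriv w (hM'W hw1) (hM'a w hw1) (hM'a _ hw2).symm
    have h6 := SubgroupTools.card_sup_mul_card_inf (N := M') (H := cj d M')
      (((hdM'.trans hWc).trans (centralizer_le hM'W)).trans (centralizer_le_normalizer _))
    rw [h5, card_bot, mul_one, card_map_conj] at h6
    exact Subgroup.eq_of_le_of_card_ge (sup_le hM'W hdM') (by rw [h6]; exact h3)
  have hA₀M' : A₀ ⊓ centralizer (M' : Set G) ≤ A₀ ⊓ centralizer (W : Set G) := by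
    refine le_inf inf_le_left ?_
    intro b hb
    obtain ⟨hbA₀, hbC⟩ := mem_inf.mp hb
    have h5 : W ≤ centralizer ({b} : Set G) := by
      rw [← hM'sup]
      refine sup_le ?_ ?_
      · intro w hw
        rw [mem_centralizer_singleton_iff]
        exact mem_centralizer_iff.mp hbC w hw
      · rintro _ ⟨w, hw, rfl⟩
        rw [mem_centralizer_singleton_iff]
        show d * w * d⁻¹ * b = b * (d * w * d⁻¹)
        have h6 := hcommd b hbA₀ w (hM'W hw)
        have h7 : b * w * b⁻¹ = w := by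
          rw [← mem_centralizer_iff.mp hbC w hw]; group
        rw [h7] at h6
        rw [mul_inv_eq_iff_eq_mul] at h6
        exact h6.symm
    rw [mem_centralizer_iff]
    intro w hw
    exact mem_centralizer_singleton_iff.mp (h5 hw)
  have hA₀N : A₀ ≤ normalizer (M' : Set G) := by
    intro b hb
    apply mem_normalizer_of_map_conj_le
    rintro _ ⟨w, hw, rfl⟩
    show b * w * b⁻¹ ∈ M'
    have hbA : b ∈ A := (mem_inf.mp hb).1
    refine mem_inf.mpr ⟨conj_mem_of_le_normalizer hXW (hAX hbA) (hM'W hw), ?_⟩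
    rw [mem_centralizer_singleton_iff]
    have h5 : a * b = b * a := mem_centralizer_iff.mp (hAc hbA) a ha
    have h6 := hM'a w hw
    have h7 : b⁻¹ * a = a * b⁻¹ := by
      calc b⁻¹ * a = b⁻¹ * (a * b) * b⁻¹ := by group
        _ = a * b⁻¹ := by rw [h5]; group
    calc b * w * b⁻¹ * a = b * (w * (b⁻¹ * a)) := by group
      _ = b * (w * a) * b⁻¹ := by rw [h7]; group
      _ = b * (a * w) * b⁻¹ := by rw [h6]
      _ = (b * a) * w * b⁻¹ := by group
      _ = _ := by rw [← h5]; group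
  have hfixM' : M' ⊓ centralizer (A₀ : Set G) = F := by
    apply le_antisymm
    · intro w hw
      obtain ⟨hw1, hw2⟩ := mem_inf.mp hw
      refine mem_inf.mpr ⟨hM'W hw1, mem_centralizer_iff.mpr ?_⟩
      intro b hb
      by_cases hbA : b ∈ A₀
      · exact mem_centralizer_iff.mp hw2 b hbA
      · have h5 : b * a ∈ A₀ := by
          -- both outside
          have h6 : b * a ∈ A := mul_mem hb ha
          by_contra h7
          -- index two
          have h8 := card_le_two_mul_of_mul_mem (A := A) (A₀ := A₀) inf_le_left (by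
            intro x hx y hy hxA hyA
            refine mem_inf.mpr ⟨mul_mem hx hy, mul_mem (hXO (hAX hx)) (hXO (hAX hy)), ?_⟩
            have h1 := hinv x hx hxA
            have h2 := hinv y hy hyA
            have h3 : x * y * d * (x * y)⁻¹ * d⁻¹ =
                (x * (y * d * y⁻¹ * d) * x⁻¹) * (d * (x * d * x⁻¹ * d) * d⁻¹)⁻¹ := by group
            rw [h3]
            exact mul_mem (hOn x (hAX hx) _ h2) (inv_mem (hOn d hdX _ h1)))
          exact h7 (TvStruct.mul_mem_of_half inf_le_left h8 hb ha hbA haA₀)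
        have h6 : b = (b * a) * a := by rw [mul_assoc, ha2, mul_one]
        have h7 : (b * a) * w = w * (b * a) := mem_centralizer_iff.mp hw2 _ h5
        rw [h6]
        calc b * a * a * w = (b * a) * (a * w) := by group
          _ = (b * a) * (w * a) := by rw [hM'a w hw1]
          _ = ((b * a) * w) * a := by group
          _ = _ := by rw [h7]; group
    · refine le_inf (le_inf inf_le_left ?_) (inf_le_right.trans (centralizer_le inf_le_left))
      intro w hw
      rw [mem_centralizer_singleton_iff]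
      exact (hFa w hw).symm
  have h5 := two_mul_card_le_of_fixed (B := A₀) (M := M') ((ThompsonJ.elemAb_isPGroup hA.2.1).to_le inf_le_left)
    (ThompsonJ.elemAb_iff.mp (ThompsonJ.elemAb_mono hA.2.1 inf_le_left)).1 (ThompsonJ.elemAb_mono hEA hM'W) hA₀N
    (by rw [hfixM', hFcard])
  -- (5)
  set B := A₀ ⊓ centralizer (W : Set G) with hB
  have h6 : Nat.card B * Nat.card W ≤ 4 * Nat.card A₀ := by
    have hN : W ≤ normalizer (B : Set G) := by
      have : W ≤ centralizer (B : Set G) := le_centralizer_iff.mp inf_le_right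
      exact this.trans (centralizer_le_normalizer _)
    have h7 := SubgroupTools.card_sup_mul_card_inf hN
    have h8 : EA (B ⊔ W) := ThompsonJ.elemAb_sup (ThompsonJ.elemAb_mono hA.2.1 (inf_le_left.trans inf_le_left))
      hEA inf_le_right
    have h9 := hA.2.2 (B ⊔ W) (sup_le ((inf_le_left.trans inf_le_left).trans hA.1) (hWO.trans le_sup_left)) h8
    have h10 : Nat.card (B ⊓ W : Subgroup G) ≤ Nat.card F := by
      apply card_le_of_le
      exact le_inf inf_le_right (((inf_le_left.trans inf_le_left).trans inf_le_left).trans hAc)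
    rw [hFcard] at h10
    rw [← h7]
    calc Nat.card (B ⊔ W : Subgroup G) * Nat.card (B ⊓ W : Subgroup G) ≤ (2 * Nat.card A₀) * 2 :=
          Nat.mul_le_mul (h9.trans hAA₀) h10
      _ = _ := by ring
  have h7 : Nat.card (A₀ ⊓ centralizer (M' : Set G) : Subgroup G) ≤ Nat.card B := card_le_of_le hA₀M'
  have h8 : Nat.card W ≤ 2 * Nat.card M' := by
    have h9 : 0 < Nat.card B := Nat.card_pos
    apply Nat.le_of_mul_le_mul_left _ h9
    calc Nat.card B * Nat.card W ≤ 4 * Nat.card A₀ := h6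
      _ = 2 * (2 * Nat.card A₀) := by ring
      _ ≤ 2 * (Nat.card (A₀ ⊓ centralizer (M' : Set G) : Subgroup G) * Nat.card M') := Nat.mul_le_mul_left _ h5
      _ ≤ 2 * (Nat.card B * Nat.card M') := Nat.mul_le_mul_left _ (Nat.mul_le_mul_right _ h7)
      _ = _ := by ring
  have h9 : Nat.card M' ≤ 2 := by
    have h10 : 0 < Nat.card M' := Nat.card_pos
    exact Nat.le_of_mul_le_mul_right (h4.trans h8) h10
  omega

end pre

end Cfsg.Agent.Lib.ZN
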