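import Cfsg.Agent.Lib.ZNComp2

/-!
Kurzweil–Stellmacher 12.1: the group `X = ⟨K, J(T)⟩` for a `J(T)`-component `K`.
-/

set_option autoImplicit false
set_option linter.unusedSectionVars false

namespace Cfsg.Agent.Lib.ZN

open Subgroup commutatorElement Cfsg.Agent.Lib.LocBase Cfsg.Agent.Lib.TvStruct
open scoped Pointwise

universe u

variable {G : Type u} [Group G]

/-- A group acting on a group of order 4. -/
theorem relIndex_centralizer_dvd_six [Finite G] {P W : Subgroup G} (hW : Nat.card W = 4)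
    (hPW : P ≤ normalizer (W : Set G)) : (centralizer (W : Set G)).relIndex P ∣ 6 := by
  classical
  let f : P →* MulAut W := W.normalizerMonoidHom.comp (inclusion hPW)
  have hker : f.ker = (centralizer (W : Set G)).subgroupOf P := by
    ext x
    rw [MonoidHom.mem_ker]
    have : f x = 1 ↔ inclusion hPW x ∈ W.normalizerMonoidHom.ker := Iff.rfl
    rw [this, normalizerMonoidHom_ker, mem_subgroupOf, mem_subgroupOf]
    rfl
  have h1 : (centralizer (W : Set G)).relIndex P = Nat.card f.range := by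
    unfold relIndex
    rw [← hker, Subgroup.index_ker]
  rw [h1]
  let e : MulAut W →* Equiv.Perm {w : W // w ≠ 1} :=
    { toFun := fun φ => φ.toEquiv.subtypeEquiv (fun w => by
        constructor
        · intro h h'
          apply h
          exact (map_eq_one_iff φ φ.injective).mp h'
        · rintro h rfl
          exact h (map_one φ))
      map_one' := by ext w; rfl
      map_mul' := fun φ ψ => by ext w; rfl }
  have he : Function.Injective e := by
    intro φ ψ h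
    ext w
    by_cases hw : w = 1
    · rw [hw, map_one, map_one]
    · have h2 := congrArg (fun σ => ((σ ⟨w, hw⟩ : {w : W // w ≠ 1}) : W)) h
      exact congrArg Subtype.val h2
  have h2 : Nat.card f.range ∣ Nat.card (Equiv.Perm {w : W // w ≠ 1}) :=
    card_dvd_of_injective (e.comp f.range.subtype) (he.comp f.range.subtype_injective)
  have h3 : Nat.card {w : W // w ≠ 1} = 3 := by
    have h3 : Nat.card {w : W // w ≠ 1} = Nat.card W - 1 := by
      have : Fintype W := Fintype.ofFinite W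
      rw [Nat.card_eq_fintype_card, Nat.card_eq_fintype_card]
      exact Set.card_ne_eq (1 : W)
    rw [h3, hW]
  rw [Nat.card_perm, h3] at h2
  exact h2

/-- A 2-group acting on a group of order 4. -/
theorem card_le_two_mul_of_pgroup [Finite G] {P W : Subgroup G} (hP : IsPGroup 2 P) (hW : Nat.card W = 4)
    (hPW : P ≤ normalizer (W : Set G)) : Nat.card P ≤ 2 * Nat.card (P ⊓ centralizer (W : Set G) : Subgroup G) := by
  have h1 := relIndex_centralizer_dvd_six hW hPW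
  have h2 := SubgroupTools.card_mul_relIndex (centralizer (W : Set G)) P
  rw [inf_comm] at h2
  obtain ⟨n, hn⟩ := IsPGroup.iff_card.mp hP
  have h3 : (centralizer (W : Set G)).relIndex P ∣ 2 ^ n := by
    rw [← hn, ← h2]; exact Dvd.intro_left _ rfl
  obtain ⟨k, hk, hk2⟩ := (Nat.dvd_prime_pow Nat.prime_two).mp h3
  have h4 : (centralizer (W : Set G)).relIndex P ≤ 2 := by
    rw [hk2] at h1 ⊢
    rcases Nat.lt_or_ge k 2 with h | h
    · calc 2 ^ k ≤ 2 ^ 1 := Nat.pow_le_pow_right (by norm_num) (by omega)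
        _ = 2 := by norm_num
    · exfalso
      have : 2 ^ 2 ∣ 6 := (pow_dvd_pow 2 h).trans h1
      omega
  calc Nat.card P = Nat.card (P ⊓ centralizer (W : Set G) : Subgroup G) * (centralizer (W : Set G)).relIndex P := h2.symm
    _ ≤ Nat.card (P ⊓ centralizer (W : Set G) : Subgroup G) * 2 := Nat.mul_le_mul_left _ h4
    _ = _ := mul_comm _ _

/-- `K = O²(K)` centralizes every invariant subgroup of order at most 2. -/
theorem le_centralizer_of_card_le_two_pRes [Finite G] {K M : Subgroup G} (hK : pRes 2 K = K)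
    (hKM : K ≤ normalizer (M : Set G)) (hM : Nat.card M ≤ 2) : M ≤ centralizer (K : Set G) := by
  rw [le_centralizer_iff]
  rw [← hK, pRes_le_iff]
  intro x hx hxo
  have h1 : zpowers x ≤ normalizer (M : Set G) := by rw [zpowers_le]; exact hKM hx
  have h2 := TvStruct.le_centralizer_of_card_le_two h1 hM
  exact (le_centralizer_iff.mp h2) (mem_zpowers x)

/-- the facts about `X = K J`. -/
structure XFacts (J K : Subgroup G) : Prop where
  comm : ⁅K, J⁆ = K
  res : pRes 2 K = K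
  idx : (Cfsg.pCoreOf 2 K).relIndex K = 3
  Jp : IsPGroup 2 J
  JJJ : JJ J = J
  max : ∀ S : Subgroup G, IsSyl 2 S (K ⊔ J) → J ≤ S → JJ S = J
  Wcard : Nat.card (Cfsg.wOf K) = 4

theorem XFacts.of_comp [Finite G] {T K : Subgroup G} (hT : IsPGroup 2 T) (h : Cfsg.IsJComponent T K) :
    XFacts (JJ T) K := by
  have hc := CL3.of_comp h
  refine ⟨hc.comm, hc.res, hc.idx, hT.to_le (JJ_le T), JJ_JJ T, ?_, h.2.2.2.2.1⟩
  intro S hS hJS
  exact h.2.2.2.1 S (isSylowTwoIn_iff.mpr hS) hJS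

section X

variable [Finite G] {J K : Subgroup G} (h : XFacts J K)
include h

theorem XFacts.JK : J ≤ normalizer (K : Set G) := by
  rw [Subgroup.le_normalizer_iff_commutator_le_left]
  exact h.comm.le

theorem XFacts.pRes_X : pRes 2 (K ⊔ J) = K := pRes_sup_eq h.Jp h.JK h.res

theorem XFacts.X_norm_K : K ⊔ J ≤ normalizer (K : Set G) := sup_le le_normalizer h.JK

theorem XFacts.X_norm_O : K ⊔ J ≤ normalizer (Cfsg.pCoreOf 2 K : Set G) :=
  h.X_norm_K.trans (normalizer_le_normalizer_pCoreOf 2 K)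

/-- the Sylow 2-subgroup `O_2(K) J` -/
theorem XFacts.S₀p : IsPGroup 2 ↥(Cfsg.pCoreOf 2 K ⊔ J) :=
  isPGroup_sup (isPGroup_pCoreOf 2 K) h.Jp (le_sup_right.trans h.X_norm_O)

theorem XFacts.card_X : Nat.card (K ⊔ J : Subgroup G) = 3 * Nat.card (Cfsg.pCoreOf 2 K ⊔ J : Subgroup G) := by
  have h1 := SubgroupTools.card_sup_mul_card_inf h.JK
  have h2 := SubgroupTools.card_sup_mul_card_inf ((le_sup_right : J ≤ K ⊔ J).trans h.X_norm_O)
  have h3 : K ⊓ J = Cfsg.pCoreOf 2 K ⊓ J := by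
    apply le_antisymm
    · exact le_inf (le_pCoreOf_of_pgroup h.idx (h.Jp.to_le inf_le_right) inf_le_left) inf_le_right
    · exact inf_le_inf_right _ (pCoreOf_le K)
  have h4 := SubgroupTools.card_mul_relIndex_of_le (pCoreOf_le (p := 2) K)
  rw [h.idx] at h4
  rw [h3] at h1
  have h5 : 0 < Nat.card (Cfsg.pCoreOf 2 K ⊓ J : Subgroup G) := Nat.card_pos
  apply Nat.eq_of_mul_eq_mul_right h5
  rw [h1, mul_assoc, h2, ← h4]; ring

theorem XFacts.syl : IsSyl 2 (Cfsg.pCoreOf 2 K ⊔ J) (K ⊔ J) := by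
  have hle : Cfsg.pCoreOf 2 K ⊔ J ≤ K ⊔ J := sup_le_sup_right (pCoreOf_le K) J
  refine ⟨hle, h.S₀p, ?_⟩
  have h1 := SubgroupTools.card_mul_relIndex_of_le hle
  rw [h.card_X, mul_comm] at h1
  have h2 := Nat.eq_of_mul_eq_mul_right Nat.card_pos h1
  rw [h2]; norm_num

theorem XFacts.JJ_S₀ : JJ (Cfsg.pCoreOf 2 K ⊔ J) = J := h.max _ h.syl le_sup_right

omit h in
theorem EA_wOf {K : Subgroup G} : EA (Cfsg.wOf K) := by
  have h1 : Cfsg.wOf K ≤ Cfsg.omegaCenterOf (Cfsg.pCoreOf 2 K) := by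
    unfold Cfsg.wOf
    apply commutator_le_left_of_le
    refine le_trans ?_ (normalizer_le_normalizer_omegaCenterOf _)
    exact le_normalizer_pCoreOf 2 K
  exact ThompsonJ.elemAb_mono (EA_omegaCenterOf _) h1

omit h in
theorem wOf_le_omega (K : Subgroup G) : Cfsg.wOf K ≤ Cfsg.omegaCenterOf (Cfsg.pCoreOf 2 K) := by
  unfold Cfsg.wOf
  apply commutator_le_left_of_le
  refine le_trans ?_ (normalizer_le_normalizer_omegaCenterOf _)
  exact le_normalizer_pCoreOf 2 K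

omit h in
theorem wOf_le_core (K : Subgroup G) : Cfsg.wOf K ≤ Cfsg.pCoreOf 2 K := (wOf_le_omega K).trans (omegaCenterOf_le _)

omit h in
theorem normalizer_le_normalizer_wOf (K : Subgroup G) : normalizer (K : Set G) ≤ normalizer (Cfsg.wOf K : Set G) := by
  unfold Cfsg.wOf
  apply le_normalizer_commutator _ le_rfl
  exact (normalizer_le_normalizer_pCoreOf 2 K).trans (normalizer_le_normalizer_omegaCenterOf _)

omit h in
theorem core_le_centralizer_wOf (K : Subgroup G) : Cfsg.pCoreOf 2 K ≤ centralizer (Cfsg.wOf K : Set G) := by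
  rw [le_centralizer_iff]
  exact (wOf_le_omega K).trans (omegaCenterOf_le_centralizer _)

theorem XFacts.W_idem : ⁅Cfsg.wOf K, K⁆ = Cfsg.wOf K := by
  have h1 : K ≤ normalizer (Cfsg.omegaCenterOf (Cfsg.pCoreOf 2 K) : Set G) :=
    (le_normalizer_pCoreOf 2 K).trans (normalizer_le_normalizer_omegaCenterOf _)
  have h2 : IsPGroup 2 (Cfsg.omegaCenterOf (Cfsg.pCoreOf 2 K)) := (isPGroup_pCoreOf 2 K).to_le (omegaCenterOf_le _)
  have := commutator_pRes_idem (p := 2) h2 h1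
  rw [h.res] at this
  exact this

theorem XFacts.W_ne : Cfsg.wOf K ≠ ⊥ := by
  intro hb
  have := h.Wcard
  rw [hb, card_bot] at this
  omega

theorem XFacts.not_K_le : ¬ K ≤ centralizer (Cfsg.wOf K : Set G) := by
  intro hle
  apply h.W_ne
  rw [← h.W_idem, commutator_eq_bot_iff_le_centralizer, le_centralizer_iff]
  exact hle

theorem XFacts.X_norm_W : K ⊔ J ≤ normalizer (Cfsg.wOf K : Set G) :=
  h.X_norm_K.trans (normalizer_le_normalizer_wOf K)

theorem XFacts.not_J_le : ¬ J ≤ centralizer (Cfsg.wOf K : Set G) := by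
  intro hle
  apply h.not_K_le
  refine h.comm.ge.trans ((commutator_mono le_rfl hle).trans ?_)
  exact commutator_le_right_of_le ((le_sup_left.trans h.X_norm_W).trans (le_normalizer_centralizer le_rfl))

theorem XFacts.K_inf : K ⊓ centralizer (Cfsg.wOf K : Set G) = Cfsg.pCoreOf 2 K := by
  have h1 : Cfsg.pCoreOf 2 K ≤ K ⊓ centralizer (Cfsg.wOf K : Set G) :=
    le_inf (pCoreOf_le K) (core_le_centralizer_wOf K)
  have h2 := Subgroup.relIndex_dvd_of_le_left K h1
  rw [h.idx] at h2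
  have h3 : (K ⊓ centralizer (Cfsg.wOf K : Set G)).relIndex K ≠ 1 := by
    intro h3
    exact h.not_K_le ((relIndex_eq_one.mp h3).trans inf_le_right)
  have h4 := eq_of_dvd_three h2 h3
  symm
  apply Subgroup.eq_of_le_of_card_ge h1
  have h5 := SubgroupTools.card_mul_relIndex_of_le (inf_le_left : K ⊓ centralizer (Cfsg.wOf K : Set G) ≤ K)
  have h6 := SubgroupTools.card_mul_relIndex_of_le (pCoreOf_le (p := 2) K)
  rw [h4, ← h6, h.idx] at h5
  omega

/-- `P₀ = C_X(W)` is a 2-group -/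
theorem XFacts.P₀p : IsPGroup 2 ↥((K ⊔ J) ⊓ centralizer (Cfsg.wOf K : Set G)) := by
  rw [isPGroup_iff_pRes_eq_bot]
  have h1 : pRes 2 ((K ⊔ J) ⊓ centralizer (Cfsg.wOf K : Set G)) ≤ Cfsg.pCoreOf 2 K := by
    rw [← h.K_inf]
    refine le_inf ?_ ((pRes_le _ _).trans inf_le_right)
    calc _ ≤ pRes 2 (K ⊔ J) := pRes_mono inf_le_left
      _ = K := h.pRes_X
  have h2 := isPGroup_iff_pRes_eq_bot.mp ((isPGroup_pCoreOf 2 K).to_le h1)
  rw [← pRes_pRes, h2]

theorem XFacts.P₀_norm : K ⊔ J ≤ normalizer (((K ⊔ J) ⊓ centralizer (Cfsg.wOf K : Set G) : Subgroup G) : Set G) :=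
  le_normalizer_inf le_normalizer (le_normalizer_centralizer h.X_norm_W)

theorem XFacts.P₀_le : (K ⊔ J) ⊓ centralizer (Cfsg.wOf K : Set G) ≤ Cfsg.pCoreOf 2 K ⊔ J :=
  (le_pCoreOf inf_le_left h.P₀_norm h.P₀p).trans h.syl.pCoreOf_le

theorem XFacts.card_S₀ : Nat.card (Cfsg.pCoreOf 2 K ⊔ J : Subgroup G) =
    2 * Nat.card ((K ⊔ J) ⊓ centralizer (Cfsg.wOf K : Set G) : Subgroup G) := by
  set P₀ := (K ⊔ J) ⊓ centralizer (Cfsg.wOf K : Set G) with hP₀
  have h1 : P₀ < Cfsg.pCoreOf 2 K ⊔ J := lt_of_le_of_ne h.P₀_le (by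
    intro e
    apply h.not_J_le
    refine (le_sup_right : J ≤ Cfsg.pCoreOf 2 K ⊔ J).trans ?_
    rw [← e]; exact inf_le_right)
  have h2 := two_mul_card_le h1
  have h3 := relIndex_centralizer_dvd_six h.Wcard h.X_norm_W
  have h4 := SubgroupTools.card_mul_relIndex (centralizer (Cfsg.wOf K : Set G)) (K ⊔ J)
  rw [inf_comm, ← hP₀] at h4
  have h5 := Nat.le_of_dvd (by norm_num) h3
  have h6 : Nat.card (K ⊔ J : Subgroup G) ≤ Nat.card P₀ * 6 := by rw [← h4]; exact Nat.mul_le_mul_left _ h5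
  have h7 := h.card_X
  omega

/-- `W` has no fixed points under `K` -/
theorem XFacts.W_inf_centralizer : Cfsg.wOf K ⊓ centralizer (K : Set G) = ⊥ := by
  by_contra hne
  obtain ⟨w, hw1⟩ := Subgroup.ne_bot_iff_exists_ne_one.mp hne
  have hw := w.2
  have hw1' : (w : G) ≠ 1 := fun e => hw1 (Subtype.ext e)
  obtain ⟨hwW, hwC⟩ := mem_inf.mp hw
  have hcard : Nat.card (zpowers (w : G)) = 2 := by
    rw [Nat.card_zpowers]
    exact orderOf_eq_prime ((ThompsonJ.elemAb_iff.mp EA_wOf).2 _ hwW) hw1'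
  have hKW : K ≤ normalizer (Cfsg.wOf K : Set G) := le_sup_left.trans h.X_norm_W
  have hzC : zpowers (w : G) ≤ centralizer (K : Set G) := by rw [zpowers_le]; exact hwC
  have h1 : ⁅Cfsg.wOf K, K⁆ ≤ zpowers (w : G) := by
    rw [commutator_le]
    intro v hv k hk
    have h2 : ⁅v, k⁆ = v * (k * v * k⁻¹)⁻¹ := by rw [commutatorElement_def]; group
    rw [h2]
    apply mul_inv_mem_of_half (by rw [zpowers_le]; exact hwW) (by rw [h.Wcard, hcard]) hv
      (conj_mem_of_le_normalizer hKW hk hv)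
    constructor
    · intro h3
      have h4 : k * v * k⁻¹ = v := by
        rw [mul_inv_eq_iff_eq_mul]; exact mem_centralizer_iff.mp (hzC h3) k hk
      rw [h4]; exact h3
    · intro h3
      have h4 := mem_centralizer_iff.mp (hzC h3) k hk
      have h5 : v = k * v * k⁻¹ := by
        have h6 : k * v * k⁻¹ = k⁻¹ * (k * (k * v * k⁻¹)) := by group
        rw [h4] at h6
        have h7 : k⁻¹ * (k * v * k⁻¹ * k) = v := by group
        rw [h7] at h6
        exact h6.symm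
      rw [h5]; exact h3
  have h2 : ⁅⁅Cfsg.wOf K, K⁆, K⁆ = ⊥ := by
    rw [commutator_eq_bot_iff_le_centralizer]
    exact h1.trans hzC
  rw [h.W_idem, h.W_idem] at h2
  exact h.W_ne h2

/-- an offender not in `C(W)` -/
theorem XFacts.exists_A : ∃ A ∈ AA (Cfsg.pCoreOf 2 K ⊔ J), ¬ A ≤ centralizer (Cfsg.wOf K : Set G) := by
  by_contra hcon
  push Not at hcon
  apply h.not_J_le
  conv_lhs => rw [← h.JJ_S₀, JJ_eq]
  exact sSup_le hcon

theorem XFacts.W_le_S₀ : Cfsg.wOf K ≤ Cfsg.pCoreOf 2 K ⊔ J := (wOf_le_core K).trans le_sup_left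

theorem XFacts.B_mem {A : Subgroup G} (hA : A ∈ AA (Cfsg.pCoreOf 2 K ⊔ J))
    (hAW : ¬ A ≤ centralizer (Cfsg.wOf K : Set G)) :
    (A ⊓ centralizer (Cfsg.wOf K : Set G)) ⊔ Cfsg.wOf K ∈ AA (Cfsg.pCoreOf 2 K ⊔ J) := by
  have hAX : A ≤ K ⊔ J := hA.1.trans h.syl.le
  have hEAW : EA (Cfsg.wOf K) := EA_wOf
  have h1 := card_le_two_mul_of_pgroup (ThompsonJ.elemAb_isPGroup hA.2.1) h.Wcard (hAX.trans h.X_norm_W)
  set A₀ := A ⊓ centralizer (Cfsg.wOf K : Set G) with hA₀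
  have h2 : Cfsg.wOf K ≤ normalizer (A₀ : Set G) := by
    have h1 : Cfsg.wOf K ≤ centralizer (A₀ : Set G) := by rw [le_centralizer_iff]; exact inf_le_right
    exact h1.trans (centralizer_le_normalizer _)
  have h3 := SubgroupTools.card_sup_mul_card_inf h2
  rw [h.Wcard] at h3
  have hEA : EA (A₀ ⊔ Cfsg.wOf K) :=
    ThompsonJ.elemAb_sup (ThompsonJ.elemAb_mono hA.2.1 inf_le_left) hEAW inf_le_right
  have hle : A₀ ⊔ Cfsg.wOf K ≤ Cfsg.pCoreOf 2 K ⊔ J := sup_le (inf_le_left.trans hA.1) h.W_le_S₀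
  have h4 : A₀ ⊓ Cfsg.wOf K < Cfsg.wOf K := by
    refine lt_of_le_of_ne inf_le_right ?_
    intro e
    apply hAW
    rw [le_centralizer_iff, ← e]
    exact (inf_le_left.trans inf_le_left).trans (ThompsonJ.elemAb_iff.mp hA.2.1).1
  have h5 := two_mul_card_le h4
  rw [h.Wcard] at h5
  have h6 : Nat.card A ≤ Nat.card (A₀ ⊔ Cfsg.wOf K : Subgroup G) := by
    have h7 : Nat.card (A₀ ⊔ Cfsg.wOf K : Subgroup G) * Nat.card (A₀ ⊓ Cfsg.wOf K : Subgroup G) ≤
        Nat.card (A₀ ⊔ Cfsg.wOf K : Subgroup G) * 2 := Nat.mul_le_mul_left _ (by omega)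
    omega
  exact ⟨hle, hEA, fun C hC hC' => (hA.2.2 C hC hC').trans h6⟩

theorem XFacts.W_le_J : Cfsg.wOf K ≤ J := by
  obtain ⟨A, hA, hAW⟩ := h.exists_A
  have h1 := le_JJ (h.B_mem hA hAW)
  rw [h.JJ_S₀] at h1
  exact le_sup_right.trans h1

theorem XFacts.W_inf_CJ_ne : Cfsg.wOf K ⊓ centralizer (J : Set G) ≠ ⊥ := by
  -- `J` is a 2-group acting on `W ≠ 1`
  have h1 : ⁅Cfsg.wOf K, J⁆ < Cfsg.wOf K :=
    CoprimeAction2.commutator_lt_of_pgroup h.Jp (ThompsonJ.elemAb_isPGroup EA_wOf) (le_sup_right.trans h.X_norm_W)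
      h.W_ne
  have h2 := two_mul_card_le h1
  rw [h.Wcard] at h2
  by_cases h3 : ⁅Cfsg.wOf K, J⁆ = ⊥
  · exfalso
    apply h.not_J_le
    rw [commutator_eq_bot_iff_le_centralizer, le_centralizer_iff] at h3
    exact h3
  · -- `[W,J]` has order 2 and is centralised by `J`
    have h4 : Nat.card (⁅Cfsg.wOf K, J⁆ : Subgroup G) ≤ 2 := by omega
    have h5 : ⁅⁅Cfsg.wOf K, J⁆, J⁆ < ⁅Cfsg.wOf K, J⁆ :=
      CoprimeAction2.commutator_lt_of_pgroup h.Jp
        ((ThompsonJ.elemAb_isPGroup EA_wOf).to_le (commutator_le_left_of_le (le_sup_right.trans h.X_norm_W)))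
        (normalizer_commutator_ge_right _ _) h3
    have h6 := two_mul_card_le h5
    have h7 : ⁅⁅Cfsg.wOf K, J⁆, J⁆ = ⊥ := by
      rw [← card_eq_one]
      have : 0 < Nat.card (⁅⁅Cfsg.wOf K, J⁆, J⁆ : Subgroup G) := Nat.card_pos
      omega
    rw [commutator_eq_bot_iff_le_centralizer] at h7
    intro hb
    apply h3
    rw [eq_bot_iff, ← hb]
    exact le_inf (commutator_le_left_of_le (le_sup_right.trans h.X_norm_W)) h7

theorem XFacts.card_W_inf_CJ : Nat.card (Cfsg.wOf K ⊓ centralizer (J : Set G) : Subgroup G) = 2 := by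
  have h1 : Cfsg.wOf K ⊓ centralizer (J : Set G) < Cfsg.wOf K := lt_of_le_of_ne inf_le_left (by
    intro e
    apply h.not_J_le
    rw [le_centralizer_iff, ← e]; exact inf_le_right)
  have h2 := two_mul_card_le h1
  rw [h.Wcard] at h2
  have h3 : Nat.card (Cfsg.wOf K ⊓ centralizer (J : Set G) : Subgroup G) ≠ 1 := by
    rw [Ne, card_eq_one]; exact h.W_inf_CJ_ne
  have h4 : 0 < Nat.card (Cfsg.wOf K ⊓ centralizer (J : Set G) : Subgroup G) := Nat.card_pos
  omega

theorem XFacts.Z₀_inf_W : Cfsg.omegaCenterOf J ⊓ Cfsg.wOf K = Cfsg.wOf K ⊓ centralizer (J : Set G) := by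
  apply le_antisymm
  · exact le_inf inf_le_right (inf_le_left.trans (omegaCenterOf_le_centralizer J))
  · intro x hx
    obtain ⟨h1, h2⟩ := mem_inf.mp hx
    exact mem_inf.mpr ⟨mem_omegaCenterOf.mpr ⟨h.W_le_J h1, h2, (ThompsonJ.elemAb_iff.mp EA_wOf).2 x h1⟩, h1⟩

theorem XFacts.card_Z₀_inf_W : Nat.card (Cfsg.omegaCenterOf J ⊓ Cfsg.wOf K : Subgroup G) = 2 := by
  rw [h.Z₀_inf_W, h.card_W_inf_CJ]

/-- `Z₀ ≤ B` for every `B ∈ 𝒜(S₀)` -/
theorem XFacts.Z₀_le {B : Subgroup G} (hB : B ∈ AA (Cfsg.pCoreOf 2 K ⊔ J)) : Cfsg.omegaCenterOf J ≤ B := by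
  intro x hx
  rw [mem_omegaCenterOf] at hx
  apply ThompsonJ.mem_of_centralizes_elem hB (mem_sup_right hx.1) hx.2.2
  refine centralizer_le ?_ hx.2.1
  have h1 := le_JJ hB
  rw [h.JJ_S₀] at h1
  exact h1

theorem XFacts.conj_mem_AA {B : Subgroup G} (hB : B ∈ AA (Cfsg.pCoreOf 2 K ⊔ J))
    (hBW : B ≤ centralizer (Cfsg.wOf K : Set G)) {x : G} (hx : x ∈ K ⊔ J) :
    cj x B ∈ AA (Cfsg.pCoreOf 2 K ⊔ J) := by
  have h1 : cj x B ≤ Cfsg.pCoreOf 2 K ⊔ J := by
    refine le_trans ?_ h.P₀_le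
    rw [← map_conj_eq_of_mem (h.P₀_norm hx)]
    exact Subgroup.map_mono (le_inf (hB.1.trans h.syl.le) hBW)
  refine ⟨h1, ThompsonJ.elemAb_map _ hB.2.1, ?_⟩
  intro C hC hC'
  rw [card_map_conj]
  exact hB.2.2 C hC hC'

/-- `U = ⟨Z₀^X⟩` -/
theorem XFacts.conj_Z₀_le {B : Subgroup G} (hB : B ∈ AA (Cfsg.pCoreOf 2 K ⊔ J))
    (hBW : B ≤ centralizer (Cfsg.wOf K : Set G)) {x : G} (hx : x ∈ K ⊔ J) : cj x (Cfsg.omegaCenterOf J) ≤ B := by
  rw [map_conj_le_iff]
  exact h.Z₀_le (h.conj_mem_AA hB hBW (inv_mem hx))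

end X

end Cfsg.Agent.Lib.ZN
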