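import Cfsg.Agent.Lib.ZNComp3

/-!
Kurzweil–Stellmacher 12.1.4: the components in `𝒦₀(T)`.
-/

set_option autoImplicit false
set_option linter.unusedSectionVars false

namespace Cfsg.Agent.Lib.ZN

open Subgroup commutatorElement Cfsg.Agent.Lib.LocBase Cfsg.Agent.Lib.TvStruct
open scoped Pointwise

universe u

variable {G : Type u} [Group G] [Finite G]

/-- `K ∈ 𝒦₀(T)`, in terms of `J = J(T)`. -/
structure Zero (J K : Subgroup G) : Prop where
  facts : XFacts J K
  zero : ∀ S : Subgroup G, J ≤ S → IsSyl 2 S (normalizer (Cfsg.wOf K : Set G)) → JJ S = J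

theorem Zero.of_mem {T K : Subgroup G} (hT : IsPGroup 2 T) (h : K ∈ Cfsg.jComponentsZero T) : Zero (JJ T) K :=
  ⟨XFacts.of_comp hT h.1, fun S hJS hS => h.2 S hJS (isSylowTwoIn_iff.mpr hS)⟩

theorem Zero.mem {T K : Subgroup G} (hT : IsPGroup 2 T) (h : Zero (JJ T) K) : K ∈ Cfsg.jComponentsZero T :=
  ⟨(isJComponent_iff hT).mpr h.facts, fun S hJS hS => h.zero S hJS (isSylowTwoIn_iff.mp hS)⟩

theorem Zero.exists_syl {J K : Subgroup G} (h : Zero J K) :
    ∃ S, IsSyl 2 S (normalizer (Cfsg.wOf K : Set G)) ∧ J ≤ S ∧ JJ S = J := by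
  obtain ⟨S, hS, hJS⟩ := exists_isSyl_ge h.facts.Jp ((le_sup_right : J ≤ K ⊔ J).trans h.facts.X_norm_W)
  exact ⟨S, hS, hJS, h.zero S hJS hS⟩

theorem Zero.normalizer_eq (hZN : ZNHyp G) {J K : Subgroup G} (h : Zero J K) :
    normalizer (K : Set G) = normalizer (Cfsg.wOf K : Set G) := by
  obtain ⟨S, hS, hJS, hJ⟩ := h.exists_syl
  exact le_antisymm (normalizer_le_normalizer_wOf K) (normalizer_wOf_le hZN h.facts hS hJ)

theorem Zero.conj {J K : Subgroup G} (h : Zero J K) (x : G) : Zero (cj x J) (cj x K) := by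
  refine ⟨h.facts.conj x, ?_⟩
  intro S hJS hS
  have h1 := hS.map_conj x⁻¹
  have h2 : cj x⁻¹ (normalizer (Cfsg.wOf (cj x K) : Set G)) = normalizer (Cfsg.wOf K : Set G) := by
    rw [wOf_conj]
    show Subgroup.map _ _ = _
    rw [map_conj_normalizer]
    show normalizer ((((Cfsg.wOf K).map _).map _ : Subgroup G) : Set G) = _
    rw [← map_conj_mul, inv_mul_cancel, map_conj_one]
  have h3 : J ≤ cj x⁻¹ S := by
    rw [map_conj_le_iff] at hJS
    exact hJS
  have h4 := h.zero (cj x⁻¹ S) h3 (by rw [← h2]; exact h1)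
  rw [← JJ_conj] at h4
  have h5 : cj x (cj x⁻¹ (JJ S)) = JJ S := by
    show ((JJ S).map _).map _ = _
    rw [← map_conj_mul, mul_inv_cancel, map_conj_one]
  rw [← h5, h4]

/-- for conjugates `J'` of `J` inside `N(W_K)`. -/
theorem Zero.of_conj (hZN : ZNHyp G) {J K : Subgroup G} (h : Zero J K) {g : G}
    (hg : cj g J ≤ normalizer (Cfsg.wOf K : Set G)) : Zero (cj g J) K := by
  obtain ⟨S₁, hS₁, hJS₁, hJ₁⟩ := h.exists_syl
  obtain ⟨n, hn, hle⟩ := hS₁.exists_conj_le (h.facts.Jp.map _) hg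
  -- `cj (n g) J ≤ S₁`
  have hle' : cj (n * g) J ≤ S₁ := by
    show Subgroup.map _ _ ≤ _
    rw [map_conj_mul]; exact hle
  have hAA : AA J = AA S₁ := by
    rw [← hJ₁, AA_JJ]
  have h1 : cj (n * g) J ≤ JJ S₁ := by
    have h2 : cj (n * g) J = cj (n * g) (JJ J) := by rw [h.facts.JJJ]
    rw [h2, JJ_conj, JJ_eq]
    apply sSup_le
    intro B hB
    have hB2 : cj (n * g)⁻¹ B ∈ AA J := by
      have := map_mem_AA (n * g)⁻¹ hB
      have h3 : cj (n * g)⁻¹ (cj (n * g) J) = J := by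
        show (J.map _).map _ = _
        rw [← map_conj_mul, inv_mul_cancel, map_conj_one]
      rwa [h3] at this
    apply le_JJ
    refine ⟨hB.1.trans hle', hB.2.1, ?_⟩
    intro C hC hC'
    rw [hAA] at hB2
    have := hB2.2.2 C hC hC'
    rwa [card_map_conj] at this
  have h2 : cj (n * g) J = J := by
    rw [hJ₁] at h1
    exact Subgroup.eq_of_le_of_card_ge h1 (by rw [card_map_conj])
  have h3 : cj g J = cj n⁻¹ J := by
    conv_rhs => rw [← h2]
    show _ = (J.map _).map _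
    rw [← map_conj_mul, inv_mul_cancel_left]
  have h4 := h.conj n⁻¹
  have h5 : cj n⁻¹ K = K := map_conj_eq_of_mem (by
    rw [h.normalizer_eq hZN]; exact inv_mem hn)
  rw [h5, ← h3] at h4
  exact h4

end Cfsg.Agent.Lib.ZN
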