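import Cfsg.Agent.Lib.ZStarIso
import Cfsg.Agent.Lib.H55ThreeInv
import Cfsg.Agent.Lib.CoprimeAction
import Cfsg.Agent.Lib.Cores
import Cfsg.Agent.Lib.OmegaCent

set_option autoImplicit false
set_option linter.all false

/-!
A 2-group `Q` acting on `N`, `t ∈ Z(Q) ∩ Q'` with `C_N(t) = C_N(Q)`: then `[N,Q]` has odd order.
-/

namespace Cfsg.Agent.Lib.ZStarCover

open Subgroup Cfsg Cfsg.Agent.Lib
open scoped commutatorElement

universe u

section Basic

variable {G : Type u} [Group G]

theorem rotate {X Q : Subgroup G} (h : ⁅⁅X, Q⁆, Q⁆ = ⊥) : ⁅⁅Q, Q⁆, X⁆ = ⊥ := by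
  apply commutator_commutator_eq_bot_of_rotate
  · rw [commutator_comm Q X]; exact h
  · exact h

/-- the iterated commutators `[T,Q,...,Q]` -/
def f (T Q : Subgroup G) : ℕ → Subgroup G
  | 0 => T
  | n + 1 => ⁅f T Q n, Q⁆

theorem f_le {T Q : Subgroup G} (hn : Q ≤ normalizer (T : Set G)) (n : ℕ) : f T Q n ≤ T := by
  have key : ∀ n, f T Q n ≤ T ∧ Q ≤ normalizer (f T Q n : Set G) := by
    intro n
    induction n with
    | zero => exact ⟨le_rfl, hn⟩
    | succ n ih =>
      refine ⟨?_, normalizer_commutator_ge_right _ _⟩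
      exact (le_normalizer_iff_commutator_le_left.1 ih.2).trans ih.1
  exact (key n).1

theorem f_eq_bot [Finite G] {p : ℕ} [Fact p.Prime] {T Q S : Subgroup G} (hT : T ≤ S) (hQ : Q ≤ S) (hS : IsPGroup p S) :
    ∃ n, f T Q n = ⊥ := by
  haveI : Group.IsNilpotent S := hS.isNilpotent
  obtain ⟨n, hn⟩ := (Subgroup.isNilpotent_iff_lowerCentralSeries S).1 inferInstance
  refine ⟨n, ?_⟩
  rw [eq_bot_iff, ← hn]
  clear hn
  induction n with
  | zero => exact hT
  | succ n ih => exact commutator_mono ih hQ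

/-- a Sylow-type statement: `Q` centralizes every `Q`-invariant `p`-subgroup -/
theorem central_of_pgroup [Finite G] {p : ℕ} [Fact p.Prime] {T Q S : Subgroup G} (hT : T ≤ S) (hQ : Q ≤ S) (hS : IsPGroup p S)
    (hn : Q ≤ normalizer (T : Set G)) {t : G} (ht : t ∈ ⁅Q, Q⁆)
    (hC : T ⊓ centralizer ({t} : Set G) ≤ centralizer (Q : Set G)) : T ≤ centralizer (Q : Set G) := by
  rw [← commutator_eq_bot_iff_le_centralizer]
  have hstep : ∀ n, f T Q (n + 2) = ⊥ → f T Q (n + 1) = ⊥ := by
    intro n hn'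
    have h1 : ⁅⁅Q, Q⁆, f T Q n⁆ = ⊥ := rotate hn'
    show ⁅f T Q n, Q⁆ = ⊥
    rw [commutator_eq_bot_iff_le_centralizer]
    refine le_trans ?_ hC
    refine le_inf (f_le hn n) ?_
    rw [commutator_comm, commutator_eq_bot_iff_le_centralizer] at h1
    intro x hx
    rw [mem_centralizer_singleton_iff]
    exact ((mem_centralizer_iff.1 (h1 hx)) t ht).symm
  obtain ⟨n, hn'⟩ := f_eq_bot hT hQ hS
  have key : ∀ n, f T Q (n + 1) = ⊥ → f T Q 1 = ⊥ := by
    intro n
    induction n with
    | zero => exact id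
    | succ n ih => exact fun h => ih (hstep n h)
  apply key n
  show ⁅f T Q n, Q⁆ = ⊥
  rw [hn', commutator_bot_left]

theorem hom_trick {H : Type*} [Group H] (N Q D : Subgroup H) [D.Normal] (f : Q →* H)
    (hf : ∀ a : Q, f a * (a : H)⁻¹ ∈ N) (h1 : ∀ n ∈ N, ∀ a : Q, n * a * n⁻¹ * (a : H)⁻¹ ∈ D)
    (h2 : ∀ n ∈ N, ∀ a : Q, n * f a * n⁻¹ * (f a)⁻¹ ∈ D) {t : H} (ht : t ∈ ⁅Q, Q⁆) :
    ∃ ht' : t ∈ Q, f ⟨t, ht'⟩ * t⁻¹ ∈ D := by
  have htQ : t ∈ Q := commutator_le_self Q ht
  refine ⟨htQ, ?_⟩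
  set π := QuotientGroup.mk' D with hπ
  have hc : ∀ {x y : H}, x * y * x⁻¹ * y⁻¹ ∈ D → Commute (π x) (π y) := by
    intro x y h
    have : π (x * y * x⁻¹ * y⁻¹) = 1 := (QuotientGroup.eq_one_iff _).2 h
    rw [map_mul, map_mul, map_mul, map_inv, map_inv, mul_inv_eq_one, mul_inv_eq_iff_eq_mul] at this
    exact this
  have hφ : ∀ a b : Q, π (f (a * b) * ((a * b : Q) : H)⁻¹) = π (f a * (a : H)⁻¹) * π (f b * (b : H)⁻¹) := by
    intro a b
    have hcomm : Commute (π (f b * (b : H)⁻¹)) (π (a : H)) := hc (h1 _ (hf b) a)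
    have e : f (a * b) * ((a * b : Q) : H)⁻¹ = f a * (f b * (b : H)⁻¹) * (a : H)⁻¹ := by
      rw [map_mul, Subgroup.coe_mul]; group
    rw [e, map_mul, map_mul, map_mul π (f a) (a : H)⁻¹, map_inv, mul_assoc, mul_assoc]
    congr 1
    exact hcomm.inv_right.eq
  let φ : Q →* (H ⧸ D) := MonoidHom.mk' (fun a => π (f a * (a : H)⁻¹)) hφ
  have hcomm : ∀ a b : Q, Commute (φ a) (φ b) := by
    intro a b
    show Commute (π (f a * (a : H)⁻¹)) (π (f b * (b : H)⁻¹))
    rw [map_mul π (f b), map_inv]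
    exact (hc (h2 _ (hf a) b)).mul_right (hc (h1 _ (hf a) b)).inv_right
  have hker : _root_.commutator Q ≤ φ.ker := by
    rw [_root_.commutator_def, commutator_le]
    intro a _ b _
    rw [MonoidHom.mem_ker, map_commutatorElement, commutatorElement_eq_one_iff_commute]
    exact hcomm a b
  have ht2 : (⟨t, htQ⟩ : Q) ∈ _root_.commutator Q := by
    have : t ∈ (_root_.commutator Q).map Q.subtype := by rwa [map_subtype_commutator]
    obtain ⟨s, hs, hst⟩ := this
    have : s = ⟨t, htQ⟩ := Subtype.ext hst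
    rwa [← this]
  have := hker ht2
  rw [MonoidHom.mem_ker] at this
  exact (QuotientGroup.eq_one_iff _).1 this

end Basic

section Concl

variable {G : Type u} [Group G] [Finite G]

theorem isPGroup_zpowers {p : ℕ} {Q : Subgroup G} (hQ : IsPGroup p Q) {t : G} (ht : t ∈ Q) : IsPGroup p (zpowers t) :=
  hQ.to_le (by rwa [zpowers_le])

/-- `D` of odd order, normalised by `t`, `[n,t] ∈ D`: then `n ∈ C(t) D` -/
theorem exists_fix {D : Subgroup G} (hD : Odd (Nat.card D)) {t : G} (ht2 : IsPGroup 2 (zpowers t))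
    (htD : t ∈ normalizer (D : Set G)) {n : G} (hn : ∀ a ∈ zpowers t, n⁻¹ * (a * n * a⁻¹) ∈ D) :
    ∃ d ∈ D, Commute t (n * d) := by
  haveI : Fact (Nat.Prime 2) := ⟨Nat.prime_two⟩
  have hs : Group.IsSolvable (zpowers t) := by
    haveI := ht2.isNilpotent
    infer_instance
  have hcop : (Nat.card (zpowers t)).Coprime (Nat.card D) := by
    obtain ⟨k, hk⟩ := IsPGroup.iff_card.1 ht2
    rw [hk]
    exact Nat.Coprime.pow_left k (Nat.coprime_two_left.2 hD)
  obtain ⟨d, hd, hc⟩ := CoprimeAction.exists_mul_mem_centralizer (A := zpowers t) (D := D)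
    (by rw [zpowers_le]; exact htD) hcop (Or.inl hs) n hn
  exact ⟨d, hd, (mem_centralizer_iff.1 hc) t (mem_zpowers t)⟩

/-- the fixed point statement for a normal subgroup `D` of a group -/
theorem exists_fix' {D C : Subgroup G} (hD : Odd (Nat.card D)) {t : G} (ht2 : IsPGroup 2 (zpowers t))
    (hCD : C ≤ normalizer (D : Set G)) (htC : t ∈ C)
    {n : G} (hnC : n ∈ C) (hn : t * n * t⁻¹ * n⁻¹ ∈ D) :
    ∃ d ∈ D, Commute t (n * d) := by
  apply exists_fix hD ht2 (hCD htC)
  -- the set of `a ∈ C` with `n⁻¹ a n a⁻¹ ∈ D` is a subgroup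
  have hconj : ∀ x ∈ C, ∀ d ∈ D, x * d * x⁻¹ ∈ D := fun x hx d hd => (mem_normalizer_iff.1 (hCD hx) d).1 hd
  have hconj' : ∀ x ∈ C, ∀ d ∈ D, x⁻¹ * d * x ∈ D := by
    intro x hx d hd
    have := hconj x⁻¹ (inv_mem hx) d hd
    rwa [inv_inv] at this
  have key : ∀ a ∈ C, a * n * a⁻¹ * n⁻¹ ∈ D → n⁻¹ * (a * n * a⁻¹) ∈ D := by
    intro a ha h
    have := hconj' n hnC _ h
    have e : n⁻¹ * (a * n * a⁻¹ * n⁻¹) * n = n⁻¹ * (a * n * a⁻¹) := by group
    rwa [e] at this
  have hnat : ∀ k : ℕ, t ^ k * n * (t ^ k)⁻¹ * n⁻¹ ∈ D := by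
    intro k
    induction k with
    | zero => simp
    | succ k ih =>
      have h1 := hconj t htC _ ih
      have h2 := mul_mem h1 hn
      have e : t * (t ^ k * n * (t ^ k)⁻¹ * n⁻¹) * t⁻¹ * (t * n * t⁻¹ * n⁻¹) =
          t ^ (k + 1) * n * (t ^ (k + 1))⁻¹ * n⁻¹ := by
        rw [pow_succ']; group
      rwa [e] at h2
  intro a ha
  obtain ⟨k, hk⟩ := mem_powers_iff_mem_zpowers.2 ha
  have hk' : t ^ k = a := hk
  apply key a
  · rw [← hk']; exact pow_mem htC k
  · rw [← hk']; exact hnat k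

theorem comm_mem_of {D : Subgroup G} {x d q : G} (hx : Commute q x) (hconj : ∀ e ∈ D, x * e * x⁻¹ ∈ D)
    (hd : d ∈ D) (hq : q * d⁻¹ * q⁻¹ ∈ D) :
    x * d⁻¹ * q * (x * d⁻¹)⁻¹ * q⁻¹ ∈ D := by
  have e : x * d⁻¹ * q * (x * d⁻¹)⁻¹ * q⁻¹ = x * (d⁻¹ * (q * d⁻¹ * q⁻¹)⁻¹) * x⁻¹ * (x * q * x⁻¹ * q⁻¹) := by
    group
  rw [e]
  have e2 : x * q * x⁻¹ * q⁻¹ = 1 := by
    rw [← hx.eq]; group
  rw [e2, mul_one]
  exact hconj _ (mul_mem (inv_mem hd) (inv_mem hq))

/-- conclusion from `Z*` -/
theorem concl (N Q : Subgroup G) [N.Normal] (hQ : IsPGroup 2 Q) {t : G} (htQ : t ∈ Q)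
    (hC : N ⊓ centralizer ({t} : Set G) ≤ centralizer (Q : Set G)) (hZ : InZStar 2 t) :
    Odd (Nat.card ↥⁅N, Q⁆) := by
  haveI : Fact (Nat.Prime 2) := ⟨Nat.prime_two⟩
  set D := pPrimeCore 2 G ⊓ N with hD
  haveI : D.Normal := inferInstance
  have hDodd : Odd (Nat.card D) := by
    have h1 := Cores.coprime_card_pPrimeCore 2 G
    have h2 : Nat.card D ∣ Nat.card (pPrimeCore 2 G) := Subgroup.card_dvd_of_le inf_le_left
    exact Nat.coprime_two_left.1 (Nat.Coprime.coprime_dvd_right h2 (by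
      first | exact h1 | exact h1.symm))
  suffices h : ⁅N, Q⁆ ≤ D by
    exact Odd.of_dvd_nat hDodd (Subgroup.card_dvd_of_le h)
  rw [commutator_le]
  intro n hn q hq
  have hnt : t * n * t⁻¹ * n⁻¹ ∈ D := by
    refine Subgroup.mem_inf.2 ⟨?_, ?_⟩
    · have h1 := inv_mem (hZ n)
      have e : (n * t * n⁻¹ * t⁻¹)⁻¹ = t * n * t⁻¹ * n⁻¹ := by group
      rwa [e] at h1
    · exact mul_mem ((inferInstance : N.Normal).conj_mem n hn t) (inv_mem hn)
  obtain ⟨d, hd, hcd⟩ := exists_fix' (C := ⊤) hDodd (isPGroup_zpowers hQ htQ) le_normalizer_of_normal trivial (n := n) trivial hnt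
  have hx : n * d ∈ centralizer (Q : Set G) := by
    apply hC
    refine Subgroup.mem_inf.2 ⟨mul_mem hn (Subgroup.mem_inf.1 hd).2, ?_⟩
    rw [mem_centralizer_singleton_iff]
    exact hcd.symm.eq
  have h3 := comm_mem_of (D := D) (x := n * d) (d := d) (q := q) (mem_centralizer_iff.1 hx q hq)
    (fun e he => (inferInstance : D.Normal).conj_mem e he _) hd ((inferInstance : D.Normal).conj_mem _ (inv_mem hd) q)
  rw [mul_inv_cancel_right] at h3
  rw [commutatorElement_def]
  exact h3

/-- the case of a central commutator -/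
theorem eq_one_of_central (N Q : Subgroup G) [N.Normal] (S : Sylow 2 G) (hQS : Q ≤ S) {t : G} (ht : t ∈ ⁅Q, Q⁆)
    (htZ : t ∈ centralizer (Q : Set G))
    (hC : N ⊓ centralizer ({t} : Set G) ≤ centralizer (Q : Set G)) {g : G} (hg : g ∈ N)
    (hu : g * t * g⁻¹ * t⁻¹ ∈ center G) (hu2 : ∃ k : ℕ, orderOf (g * t * g⁻¹ * t⁻¹) = 2 ^ k) :
    g * t * g⁻¹ * t⁻¹ = 1 := by
  haveI : Fact (Nat.Prime 2) := ⟨Nat.prime_two⟩
  have htQ : t ∈ Q := commutator_le_self Q ht
  set T : Subgroup G := N ⊓ S with hT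
  have hTQ : T ≤ centralizer (Q : Set G) := by
    apply central_of_pgroup (S := (S : Subgroup G)) inf_le_right hQS S.isPGroup' _ ht
      ((inf_le_inf_right _ inf_le_left).trans hC)
    intro q hq
    rw [mem_normalizer_iff]
    intro x
    have hqS : q ∈ (S : Subgroup G) := hQS hq
    constructor
    · intro hx
      exact Subgroup.mem_inf.2 ⟨(inferInstance : N.Normal).conj_mem x hx.1 q, mul_mem (mul_mem hqS hx.2) (inv_mem hqS)⟩
    · intro hx
      have e : x = q⁻¹ * (q * x * q⁻¹) * q := by group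
      rw [e]
      refine Subgroup.mem_inf.2 ⟨?_, mul_mem (mul_mem (inv_mem hqS) hx.2) hqS⟩
      have := (inferInstance : N.Normal).conj_mem _ hx.1 q⁻¹
      rwa [inv_inv] at this
  -- the index of `T` in `N` is odd
  have hTidx : ¬ 2 ∣ T.relIndex N := by
    rw [hT, inf_relIndex_left]
    intro h2
    exact S.not_dvd_index (h2.trans (OmegaCent.relIndex_dvd_index_normal _ _))
  -- the subgroup of elements commuting with `t` modulo the center
  let A : Subgroup G :=
    { carrier := {x | x ∈ N ∧ x * t * x⁻¹ * t⁻¹ ∈ center G}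
      one_mem' := ⟨one_mem _, by simp [one_mem]⟩
      mul_mem' := by
        rintro x y ⟨hx, hx'⟩ ⟨hy, hy'⟩
        refine ⟨mul_mem hx hy, ?_⟩
        have e : x * y * t * (x * y)⁻¹ * t⁻¹ = (y * t * y⁻¹ * t⁻¹) * (x * t * x⁻¹ * t⁻¹) := by
          have h1 := mem_center_iff.1 hy' x
          calc x * y * t * (x * y)⁻¹ * t⁻¹ = (x * (y * t * y⁻¹ * t⁻¹)) * (t * x⁻¹ * t⁻¹) := by group
            _ = ((y * t * y⁻¹ * t⁻¹) * x) * (t * x⁻¹ * t⁻¹) := by rw [h1]
            _ = _ := by group
        rw [e]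
        exact mul_mem hy' hx'
      inv_mem' := by
        rintro x ⟨hx, hx'⟩
        refine ⟨inv_mem hx, ?_⟩
        have e : x⁻¹ * t * x⁻¹⁻¹ * t⁻¹ = (x * t * x⁻¹ * t⁻¹)⁻¹ := by
          have h1 := mem_center_iff.1 (inv_mem hx') x⁻¹
          calc x⁻¹ * t * x⁻¹⁻¹ * t⁻¹ = x⁻¹ * (x * t * x⁻¹ * t⁻¹)⁻¹ * x := by group
            _ = (x * t * x⁻¹ * t⁻¹)⁻¹ * x⁻¹ * x := by rw [h1]
            _ = _ := by group
        rw [e]
        exact inv_mem hx' }
  let φ : A →* G :=
    { toFun := fun x => (x : G) * t * (x : G)⁻¹ * t⁻¹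
      map_one' := by simp
      map_mul' := by
        rintro ⟨x, hx, hx'⟩ ⟨y, hy, hy'⟩
        show x * y * t * (x * y)⁻¹ * t⁻¹ = (x * t * x⁻¹ * t⁻¹) * (y * t * y⁻¹ * t⁻¹)
        have h1 := mem_center_iff.1 hy' x
        have h2 := mem_center_iff.1 hy' (x * t * x⁻¹ * t⁻¹)
        rw [h2]
        calc x * y * t * (x * y)⁻¹ * t⁻¹ = (x * (y * t * y⁻¹ * t⁻¹)) * (t * x⁻¹ * t⁻¹) := by group
          _ = ((y * t * y⁻¹ * t⁻¹) * x) * (t * x⁻¹ * t⁻¹) := by rw [h1]
          _ = _ := by group }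
  have hAN : A ≤ N := fun x hx => hx.1
  have hTA : T ≤ A := by
    intro x hx
    refine ⟨hx.1, ?_⟩
    have h1 := mem_centralizer_iff.1 (hTQ hx) t htQ
    have e : x * t * x⁻¹ * t⁻¹ = 1 := by rw [← h1]; group
    rw [e]; exact one_mem _
  have hTker : T.subgroupOf A ≤ φ.ker := by
    intro x hx
    rw [mem_subgroupOf] at hx
    rw [MonoidHom.mem_ker]
    show (x : G) * t * (x : G)⁻¹ * t⁻¹ = 1
    have h1 := mem_centralizer_iff.1 (hTQ hx) t htQ
    rw [← h1]; group
  have hodd : ¬ 2 ∣ Nat.card φ.range := by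
    rw [← Subgroup.index_ker]
    intro h2
    apply hTidx
    have h3 : 2 ∣ T.relIndex A := h2.trans (Subgroup.index_dvd_of_le hTker)
    rw [← Subgroup.relIndex_mul_relIndex T A N hTA hAN]
    exact h3.mul_right _
  have hmem : g * t * g⁻¹ * t⁻¹ ∈ φ.range := ⟨⟨g, hg, hu⟩, rfl⟩
  obtain ⟨k, hk⟩ := hu2
  have h4 : orderOf (g * t * g⁻¹ * t⁻¹) ∣ Nat.card φ.range := by
    have := orderOf_dvd_natCard (⟨_, hmem⟩ : φ.range)
    rwa [Subgroup.orderOf_mk] at this
  rcases Nat.eq_zero_or_pos k with rfl | hk0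
  · rwa [pow_zero, orderOf_eq_one_iff] at hk
  · exfalso
    apply hodd
    refine dvd_trans ?_ h4
    rw [hk]
    exact dvd_pow_self 2 hk0.ne'

/-- the main theorem -/
theorem main (n : ℕ) : ∀ (G : Type u) [Group G] [Finite G] (N Q : Subgroup G) [N.Normal], Nat.card G ≤ n →
    Q ⊔ N = ⊤ → IsPGroup 2 Q → ∀ t : G, t ∈ ⁅Q, Q⁆ → t ∈ centralizer (Q : Set G) →
    N ⊓ centralizer ({t} : Set G) ≤ centralizer (Q : Set G) → Odd (Nat.card ↥⁅N, Q⁆) := by
  induction n with
  | zero =>
    intro G _ _ N Q _ hn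
    have := Nat.card_pos (α := G)
    omega
  | succ n ih =>
    intro G _ _ N Q hN hcard hG hQ t ht htZ hC
    haveI : Fact (Nat.Prime 2) := ⟨Nat.prime_two⟩
    have htQ : t ∈ Q := commutator_le_self Q ht
    have hpt := isPGroup_zpowers hQ htQ
    obtain ⟨kt, hkt⟩ : ∃ k : ℕ, orderOf t = 2 ^ k := by
      obtain ⟨k, hk⟩ := (IsPGroup.iff_orderOf.1 hQ) ⟨t, htQ⟩
      exact ⟨k, by rwa [Subgroup.orderOf_mk] at hk⟩
    apply concl N Q hQ htQ hC
    apply ZStarIso.inZStar_of_isIsolated H55ThreeInv.bs G t ⟨kt, hkt⟩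
    -- isolation
    have key : ∀ g ∈ N, Commute t (g * t * g⁻¹) → g * t * g⁻¹ * t⁻¹ = 1 := by
      intro g hg hcomm
      set u := g * t * g⁻¹ * t⁻¹ with hu
      have hgt : g * t * g⁻¹ = u * t := by rw [hu]; group
      have huN : u ∈ N := by
        rw [hu]
        have := mul_mem hg (hN.conj_mem _ (inv_mem hg) t)
        have e : g * (t * g⁻¹ * t⁻¹) = g * t * g⁻¹ * t⁻¹ := by group
        rwa [e] at this
      have hut : Commute u t := by
        rw [hu]
        exact (hcomm.symm.mul_left (Commute.inv_left (Commute.refl t)))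
      have hutg : Commute u (g * t * g⁻¹) := by
        rw [hgt]
        exact (Commute.refl u).mul_right hut
      have hu2 : ∃ k : ℕ, orderOf u = 2 ^ k := by
        have h1 : orderOf (g * t * g⁻¹) = 2 ^ kt := by
          rw [← hkt]; exact MulEquiv.orderOf_eq (MulAut.conj g) t
        have h2 : u ^ 2 ^ kt = 1 := by
          have : u = g * t * g⁻¹ * t⁻¹ := hu
          rw [this, (hcomm.symm.inv_right).mul_pow, inv_pow]
          rw [← h1, pow_orderOf_eq_one, h1, ← hkt, pow_orderOf_eq_one, inv_one, mul_one]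
        obtain ⟨k, _, hk⟩ := (Nat.dvd_prime_pow Nat.prime_two).1 (orderOf_dvd_of_pow_eq_one h2)
        exact ⟨k, hk⟩
      have huQ : u ∈ centralizer (Q : Set G) := by
        apply hC
        refine Subgroup.mem_inf.2 ⟨huN, ?_⟩
        rw [mem_centralizer_singleton_iff]
        exact hut.eq
      -- `C_N(t^g) ≤ C(Q^g)`
      have hCg : ∀ x ∈ N, Commute x (g * t * g⁻¹) → ∀ q ∈ Q, Commute x (g * q * g⁻¹) := by
        intro x hx hxc q hq
        have h1 : g⁻¹ * x * g ∈ centralizer (Q : Set G) := by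
          apply hC
          refine Subgroup.mem_inf.2 ⟨?_, ?_⟩
          · have := hN.conj_mem x hx g⁻¹
            rwa [inv_inv] at this
          · rw [mem_centralizer_singleton_iff]
            have h2 := hxc.eq
            calc g⁻¹ * x * g * t = g⁻¹ * (x * (g * t * g⁻¹)) * g := by group
              _ = g⁻¹ * (g * t * g⁻¹ * x) * g := by rw [h2]
              _ = t * (g⁻¹ * x * g) := by group
        have h3 := mem_centralizer_iff.1 h1 q hq
        show x * (g * q * g⁻¹) = g * q * g⁻¹ * x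
        calc x * (g * q * g⁻¹) = g * (g⁻¹ * x * g * q) * g⁻¹ := by group
          _ = g * (q * (g⁻¹ * x * g)) * g⁻¹ := by rw [h3]
          _ = _ := by group
      set C := centralizer ({u} : Set G) with hCdef
      have hQC : Q ≤ C := by
        intro q hq
        rw [hCdef, mem_centralizer_singleton_iff]
        exact (mem_centralizer_iff.1 huQ q hq)
      have hQgC : ∀ q ∈ Q, g * q * g⁻¹ ∈ C := by
        intro q hq
        rw [hCdef, mem_centralizer_singleton_iff]
        exact (hCg u huN hutg q hq).symm.eq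
      by_cases hCtop : C = ⊤
      · -- `u` is central
        obtain ⟨S, hS⟩ := hQ.exists_le_sylow
        refine eq_one_of_central N Q S hS ht htZ hC hg ?_ hu2
        rw [← hu, mem_center_iff]
        intro x
        have : x ∈ C := hCtop ▸ trivial
        rw [hCdef, mem_centralizer_singleton_iff] at this
        exact this
      · -- induction in `C`
        have hclt : Nat.card C ≤ n := by
          have h2 : Nat.card C < Nat.card G := ZStar.card_lt_of_ne_top hCtop
          omega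
        set NC := N.subgroupOf C with hNC
        set QC := Q.subgroupOf C with hQC'
        have htC : t ∈ C := hQC htQ
        have hsup : QC ⊔ NC = ⊤ := by
          rw [eq_top_iff]
          rintro ⟨x, hx⟩ -
          have h1 : x ∈ Q ⊔ N := hG ▸ trivial
          obtain ⟨q, hq, m, hm, rfl⟩ := (Subgroup.mem_sup_of_normal_right).1 h1
          have hmC : m ∈ C := (mul_mem_cancel_left (hQC hq)).1 hx
          have e : (⟨q * m, hx⟩ : C) = ⟨q, hQC hq⟩ * ⟨m, hmC⟩ := rfl
          rw [e]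
          exact mul_mem (Subgroup.mem_sup_left (mem_subgroupOf.2 hq)) (Subgroup.mem_sup_right (mem_subgroupOf.2 hm))
        have hQCp : IsPGroup 2 QC := hQ.comap_subtype
        have hmapcomm : (⁅QC, QC⁆).map C.subtype = ⁅Q, Q⁆ := by
          rw [Subgroup.map_commutator, hQC', subgroupOf_map_subtype, inf_eq_left.2 hQC]
        have htcomm : (⟨t, htC⟩ : C) ∈ ⁅QC, QC⁆ := by
          have h1 : t ∈ (⁅QC, QC⁆).map C.subtype := hmapcomm ▸ ht
          obtain ⟨s, hs, hst⟩ := h1
          have : s = ⟨t, htC⟩ := Subtype.ext hst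
          rwa [← this]
        have htZC : (⟨t, htC⟩ : C) ∈ centralizer (QC : Set C) := by
          rw [mem_centralizer_iff]
          intro q hq
          exact Subtype.ext ((mem_centralizer_iff.1 htZ) q (mem_subgroupOf.1 hq))
        have hCC : NC ⊓ centralizer ({(⟨t, htC⟩ : C)} : Set C) ≤ centralizer (QC : Set C) := by
          intro x hx
          obtain ⟨hx1, hx2⟩ := Subgroup.mem_inf.1 hx
          have h1 : (x : G) ∈ centralizer (Q : Set G) := by
            apply hC
            refine Subgroup.mem_inf.2 ⟨mem_subgroupOf.1 hx1, ?_⟩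
            rw [mem_centralizer_singleton_iff] at hx2 ⊢
            exact congrArg Subtype.val hx2
          rw [mem_centralizer_iff]
          intro q hq
          exact Subtype.ext ((mem_centralizer_iff.1 h1) q (mem_subgroupOf.1 hq))
        have hodd : Odd (Nat.card ↥⁅NC, QC⁆) := ih C NC QC hclt hsup hQCp ⟨t, htC⟩ htcomm htZC hCC
        set D := ⁅NC, QC⁆ with hD
        haveI hDn : D.Normal := by
          rw [← Subgroup.normalizer_eq_top_iff, eq_top_iff, ← hsup]
          exact sup_le (normalizer_commutator_ge_right _ _) (normalizer_commutator_ge_left _ _)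
        let φ : QC →* C :=
          { toFun := fun a => ⟨g * ((a : C) : G) * g⁻¹, hQgC _ (mem_subgroupOf.1 a.2)⟩
            map_one' := by ext; simp
            map_mul' := by
              intro a b
              ext
              simp }
        have hcoe : ∀ a : QC, ((φ a : C) : G) = g * ((a : C) : G) * g⁻¹ := fun a => rfl
        obtain ⟨ht', hmem⟩ := hom_trick NC QC D φ
          (by
            intro a
            rw [hNC, mem_subgroupOf]
            show g * ((a : C) : G) * g⁻¹ * ((a : C) : G)⁻¹ ∈ N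
            have := mul_mem hg (hN.conj_mem _ (inv_mem hg) ((a : C) : G))
            have e : g * (((a : C) : G) * g⁻¹ * ((a : C) : G)⁻¹) = g * ((a : C) : G) * g⁻¹ * ((a : C) : G)⁻¹ := by group
            rwa [e] at this)
          (by
            intro m hm a
            have := Subgroup.commutator_mem_commutator hm a.2
            rwa [commutatorElement_def] at this)
          (by
            intro m hm a
            have hmt : (⟨t, htC⟩ : C) * m * (⟨t, htC⟩ : C)⁻¹ * m⁻¹ ∈ D := by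
              have := Subgroup.commutator_mem_commutator (H₁ := NC) (H₂ := QC) hm (show (⟨t, htC⟩ : C) ∈ QC from mem_subgroupOf.2 htQ)
              rw [commutatorElement_def] at this
              have h2 := inv_mem this
              have e : (m * (⟨t, htC⟩ : C) * m⁻¹ * (⟨t, htC⟩ : C)⁻¹)⁻¹ = (⟨t, htC⟩ : C) * m * (⟨t, htC⟩ : C)⁻¹ * m⁻¹ := by group
              rwa [e] at h2
            obtain ⟨d, hd, hcd⟩ := exists_fix' (C := ⊤) (D := D) hodd (isPGroup_zpowers hQCp (mem_subgroupOf.2 htQ : (⟨t, htC⟩ : C) ∈ QC))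
              le_normalizer_of_normal trivial (n := m) trivial hmt
            have hDN : D ≤ NC := by
              rw [hD, commutator_le]
              intro x hx y _
              rw [commutatorElement_def]
              have hn2 : NC.Normal := inferInstance
              have e : x * y * x⁻¹ * y⁻¹ = x * (y * x⁻¹ * y⁻¹) := by group
              rw [e]
              exact mul_mem hx (hn2.conj_mem _ (inv_mem hx) y)
            have hcN : ((m * d : C) : G) ∈ N := mem_subgroupOf.1 (mul_mem hm (hDN hd))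
            have hct : Commute ((m * d : C) : G) (g * t * g⁻¹) := by
              rw [hgt]
              have h1 : Commute ((m * d : C) : G) t := (congrArg Subtype.val hcd.eq).symm
              have h2 : Commute ((m * d : C) : G) u := by
                have h3 : ((m * d : C) : G) ∈ centralizer ({u} : Set G) := (m * d).2
                exact mem_centralizer_singleton_iff.1 h3
              exact h2.mul_right h1
            have hcq := hCg _ hcN hct _ (mem_subgroupOf.1 a.2)
            have hcq' : Commute (φ a) (m * d) := by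
              have : Commute (m * d) (φ a) := Subtype.ext hcq.eq
              exact this.symm
            have h3 := comm_mem_of (D := D) (x := m * d) (d := d) (q := φ a) hcq'
              (fun e he => hDn.conj_mem e he _) hd (hDn.conj_mem _ (inv_mem hd) (φ a))
            rwa [mul_inv_cancel_right] at h3) htcomm
        have huD : orderOf u ∣ Nat.card D := by
          have h1 := orderOf_dvd_natCard (⟨_, hmem⟩ : D)
          rw [Subgroup.orderOf_mk] at h1
          have h2 : ((φ ⟨⟨t, htC⟩, ht'⟩ * (⟨t, htC⟩ : C)⁻¹ : C) : G) = u := rfl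
          rwa [← h2, Subgroup.orderOf_coe]
        obtain ⟨k, hk⟩ := hu2
        rcases Nat.eq_zero_or_pos k with rfl | hk0
        · rwa [pow_zero, orderOf_eq_one_iff] at hk
        · exfalso
          have h2 : 2 ∣ Nat.card D := by
            refine dvd_trans ?_ huD
            rw [hk]
            exact dvd_pow_self 2 hk0.ne'
          have := Nat.odd_iff.1 hodd
          omega
    intro g hcg
    have h1 : g ∈ N ⊔ Q := by rw [sup_comm, hG]; trivial
    obtain ⟨m, hm, q, hq, rfl⟩ := (Subgroup.mem_sup_of_normal_left).1 h1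
    have hq' := mem_centralizer_iff.1 htZ q hq
    have e : m * q * t * (m * q)⁻¹ = m * t * m⁻¹ := by
      calc m * q * t * (m * q)⁻¹ = m * (q * t) * q⁻¹ * m⁻¹ := by group
        _ = m * (t * q) * q⁻¹ * m⁻¹ := by rw [hq']
        _ = _ := by group
    rw [e] at hcg ⊢
    exact mul_inv_eq_one.1 (key m hm hcg)

end Concl

end Cfsg.Agent.Lib.ZStarCover
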