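import Mathlib
import Cfsg.Agent.Lib.ZStarPow
import Cfsg.Agent.Lib.Isolated
import Cfsg.Agent.Lib.LocBase
import Cfsg.Agent.Lib.Cores3
import Cfsg.Agent.Lib.CoprimeAction
import Cfsg.Agent.Lib.MinNormSolv
import Cfsg.Agent.Lib.WielandtProd

/-!
Minimal counterexamples to the `Z*_p` statement (helper10).
-/

set_option autoImplicit false

namespace Cfsg.Agent.Lib.ZStarMin

open Subgroup

variable {G : Type*} [Group G] [Finite G] {p : ℕ} [Fact p.Prime] {x : G}

omit [Fact p.Prime] in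
theorem core_eq_bot (hnz : ¬ Cfsg.InZStar p x)
    (hquot : ∀ (N : Subgroup G) [N.Normal], N ≠ ⊥ → Cfsg.InZStar p (QuotientGroup.mk x : G ⧸ N)) :
    Cfsg.pPrimeCore p G = ⊥ := by
  by_contra h
  apply hnz
  intro g
  have h1 := hquot (Cfsg.pPrimeCore p G) h (QuotientGroup.mk g)
  rw [Cores.pPrimeCore_quotient_pPrimeCore, mem_bot] at h1
  rw [← QuotientGroup.eq_one_iff]
  exact h1

omit [Finite G] [Fact p.Prime] in
theorem not_mem_center (hnz : ¬ Cfsg.InZStar p x) : x ∉ center G := by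
  intro h
  apply hnz
  intro g
  have e : g * x * g⁻¹ * x⁻¹ = 1 := by
    rw [mem_center_iff.mp h g]; group
  rw [e]
  exact one_mem _

/-- `x` lies in no proper normal subgroup. -/
theorem eq_top_of_normal (hiso : Cfsg.IsIsolated x) (hnz : ¬ Cfsg.InZStar p x)
    (hmin : ∀ (H : Subgroup G) (hxH : x ∈ H), H ≠ ⊤ → Cfsg.InZStar p (⟨x, hxH⟩ : ↥H))
    (hquot : ∀ (N : Subgroup G) [N.Normal], N ≠ ⊥ → Cfsg.InZStar p (QuotientGroup.mk x : G ⧸ N))
    {M : Subgroup G} [hM : M.Normal] (hx : x ∈ M) : M = ⊤ := by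
  by_contra hne
  have h1 := hmin M hx hne
  have h2 : Cfsg.pPrimeCore p M = ⊥ := by
    have := Cores.map_pPrimeCore_subtype_le p M
    rw [core_eq_bot hnz hquot, le_bot_iff] at this
    exact (Subgroup.map_eq_bot_iff_of_injective _ M.subtype_injective).mp this
  apply not_mem_center hnz
  rw [mem_center_iff]
  intro g
  have h3 : g * x * g⁻¹ ∈ M := hM.conj_mem x hx g
  have h4 := h1 ⟨g * x * g⁻¹, h3⟩
  rw [h2, mem_bot] at h4
  have h5 : (g * x * g⁻¹) * x * (g * x * g⁻¹)⁻¹ * x⁻¹ = 1 := congrArg Subtype.val h4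
  have h6 : Commute x (g * x * g⁻¹) := by
    have h7 : (g * x * g⁻¹) * x = x * (g * x * g⁻¹) := by
      have := mul_inv_eq_one.mp h5
      calc (g * x * g⁻¹) * x = ((g * x * g⁻¹) * x * (g * x * g⁻¹)⁻¹) * (g * x * g⁻¹) := by group
        _ = _ := by rw [this]
    exact h7.symm
  have h8 := hiso g h6
  calc g * x = (g * x * g⁻¹) * g := by group
    _ = _ := by rw [h8]

theorem mem_center_of_pgroup (hiso : Cfsg.IsIsolated x) (hG : IsPGroup p G) : x ∈ center G := by
  rw [mem_center_iff]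
  intro g
  exact (Isolated.commute_of_mem_pgroup hiso (R := ⊤) (hG.to_subgroup ⊤) (mem_top x) (mem_top g)).symm.eq

/-- minimal normal subgroups supplement `⟨x⟩` -/
theorem sup_zpowers_eq_top (hx : orderOf x = p) (hiso : Cfsg.IsIsolated x) (hnz : ¬ Cfsg.InZStar p x)
    (hmin : ∀ (H : Subgroup G) (hxH : x ∈ H), H ≠ ⊤ → Cfsg.InZStar p (⟨x, hxH⟩ : ↥H))
    (hquot : ∀ (N : Subgroup G) [N.Normal], N ≠ ⊥ → Cfsg.InZStar p (QuotientGroup.mk x : G ⧸ N))
    {N : Subgroup G} [hN : N.Normal] (hN1 : N ≠ ⊥)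
    (hNmin : ∀ M : Subgroup G, M.Normal → M ≤ N → M = ⊥ ∨ M = N) : N ⊔ zpowers x = ⊤ := by
  have hp : p.Prime := Fact.out
  by_contra hne
  have hcore := core_eq_bot hnz hquot
  have hcN : Cfsg.pPrimeCore p N = ⊥ := by
    have := Cores.map_pPrimeCore_subtype_le p N
    rw [hcore, le_bot_iff] at this
    exact (Subgroup.map_eq_bot_iff_of_injective _ N.subtype_injective).mp this
  set H := N ⊔ zpowers x with hH
  have hxH : x ∈ H := mem_sup_right (mem_zpowers x)
  have hNH : N ≤ H := le_sup_left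
  have h1 := hmin H hxH hne
  -- `O_{p'}(H) = 1`
  set O := (Cfsg.pPrimeCore p H).map H.subtype with hO
  have hOn : ∀ h ∈ H, ∀ o ∈ O, h * o * h⁻¹ ∈ O := by
    rintro h hh _ ⟨o, ho, rfl⟩
    exact ⟨⟨h, hh⟩ * o * ⟨h, hh⟩⁻¹, (Cfsg.pPrimeCore_normal p H).conj_mem o ho _, rfl⟩
  have hOcop : (Nat.card O).Coprime p := by
    rw [hO, Cores.card_map_subtype]
    exact Cores.coprime_card_pPrimeCore p H
  have hON : O ⊓ N = ⊥ := by
    have h2 : (O.subgroupOf N) ≤ Cfsg.pPrimeCore p N := by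
      apply Cores.le_pPrimeCore
      · refine ⟨fun a ha n => ?_⟩
        exact mem_subgroupOf.mpr (hOn n (hNH n.2) a (mem_subgroupOf.mp ha))
      · refine Nat.Coprime.coprime_dvd_left ?_ hOcop
        have := Subgroup.card_dvd_of_injective (Subgroup.inclusion (inf_le_left : O ⊓ N ≤ O))
          (Subgroup.inclusion_injective _)
        rw [← Lib.SubgroupTools.card_subgroupOf_of_le (inf_le_right : O ⊓ N ≤ N)] at this
        rwa [inf_subgroupOf_right] at this
    rw [hcN, le_bot_iff, subgroupOf_eq_bot] at h2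
    exact disjoint_iff.mp h2
  have hObot : O = ⊥ := by
    rw [← Subgroup.card_eq_one]
    have hOH : O ≤ H := map_subtype_le _
    have hle : ∀ K : Subgroup G, K ≤ normalizer (N : Set G) := fun K => by
      rw [normalizer_eq_top]; exact le_top
    have h2 : Nat.card O ∣ N.relIndex H := by
      have e1 : N.relIndex O = Nat.card O := by
        rw [← inf_relIndex_right, inf_comm, hON, relIndex_bot_left]
      rw [← e1, WielandtProd.relIndex_eq_relIndex_sup' (hle O),
        ← relIndex_mul_relIndex N (O ⊔ N) H le_sup_right (sup_le hOH hNH)]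
      exact dvd_mul_right _ _
    have h3 : N.relIndex H ∣ p := by
      rw [hH, sup_comm, ← WielandtProd.relIndex_eq_relIndex_sup' (hle _)]
      refine (relIndex_dvd_card _ _).trans ?_
      rw [Nat.card_zpowers, hx]
    exact Nat.Coprime.eq_one_of_dvd hOcop (h2.trans h3)
  have hHbot : Cfsg.pPrimeCore p H = ⊥ :=
    (Subgroup.map_eq_bot_iff_of_injective _ H.subtype_injective).mp hObot
  have hxN : x ∈ centralizer (N : Set G) := by
    rw [mem_centralizer_iff]
    intro n hn
    have h2 := h1 ⟨n, hNH hn⟩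
    rw [hHbot, mem_bot] at h2
    have h3 : n * x * n⁻¹ * x⁻¹ = 1 := congrArg Subtype.val h2
    have h4 := mul_inv_eq_one.mp h3
    calc n * x = (n * x * n⁻¹) * n := by group
      _ = _ := by rw [h4]
  have hCtop : centralizer (N : Set G) = ⊤ := eq_top_of_normal hiso hnz hmin hquot hxN
  have hNZ : N ≤ center G := by
    intro n hn
    rw [mem_center_iff]
    intro g
    have : g ∈ centralizer (N : Set G) := hCtop ▸ mem_top g
    exact (mem_centralizer_iff.mp this n hn).symm
  have hNp : IsPGroup p N := by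
    have hsol : Group.IsSolvable N := by
      have : IsMulCommutative N := ⟨⟨fun a b => Subtype.ext (mem_center_iff.mp (hNZ b.2) a)⟩⟩
      let _ : CommGroup N := { (inferInstance : Group N) with mul_comm := this.is_comm.comm }
      infer_instance
    obtain ⟨r, hr, -, hNel⟩ := MinNormSolv.elementary_of_minimal hN1 hNmin
    have : Fact r.Prime := ⟨hr⟩
    have hNr : IsPGroup r N := SubgroupTools.isPGroup_of_forall_pow_eq_one hNel
    by_cases hrp : r = p
    · rw [← hrp]; exact hNr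
    · exfalso
      apply hN1
      rw [eq_bot_iff, ← hcore]
      apply Cores.le_pPrimeCore hN
      obtain ⟨k, hk⟩ := IsPGroup.iff_card.mp hNr
      rw [hk]
      exact Nat.Coprime.pow_left k ((Nat.coprime_primes hr hp).mpr hrp)
  have hquo := ZStarPow.pPrimeCore_quotient_central hcore N hNZ hNp
  have h5 := hquot N hN1
  have hHn : H.Normal := by
    refine ⟨fun h hh g => ?_⟩
    obtain ⟨n, hn, z, ⟨m, rfl⟩, rfl⟩ := mem_sup_of_normal_left.mp hh
    have h6 := h5 (QuotientGroup.mk g)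
    rw [hquo, mem_bot] at h6
    have h7 : g * x * g⁻¹ * x⁻¹ ∈ N := (QuotientGroup.eq_one_iff _).mp h6
    have h8 : g * x * g⁻¹ ∈ H := by
      have : g * x * g⁻¹ = (g * x * g⁻¹ * x⁻¹) * x := by group
      rw [this]
      exact H.mul_mem (hNH h7) hxH
    have h9 : g * (n * x ^ m) * g⁻¹ = (g * n * g⁻¹) * (g * x * g⁻¹) ^ m := by
      rw [conj_zpow]; group
    rw [h9]
    exact H.mul_mem (hNH (hN.conj_mem n hn g)) (H.zpow_mem h8 m)
  exact hne (eq_top_of_normal hiso hnz hmin hquot hxH)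

end Cfsg.Agent.Lib.ZStarMin
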