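import Cfsg.Agent.Lib.ZasLine

/-!
# Groups with a representation in which elements of order 3 are quadratic and pairs of them have restricted
inner products
-/

set_option autoImplicit false
set_option linter.unusedSimpArgs false
set_option linter.unusedVariables false

namespace Cfsg.Agent.Lib.ZasGroup

open ZasQuat ZasLine

variable {G : Type*} {R : Type*} [Group G] [Ring R]

/-- `(a c) + (a c)⁻¹` -/
def dd (ρ : G →* R) (a c : G) : R := ρ (a * c) + ρ (a * c)⁻¹

/-- the configuration -/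
structure ZCfg (ρ : G →* R) : Prop where
  tf : TF R
  inj : Function.Injective ρ
  quad : ∀ g : G, orderOf g = 3 → ρ g * ρ g = -ρ g - 1
  neg1 : ∀ g : G, g * g = 1 → g ≠ 1 → ρ g = -1
  tri : ∀ a c : G, orderOf a = 3 → orderOf c = 3 → a = c ∨ a * c = 1 ∨ dd ρ a c = 0 ∨ dd ρ a c = 1 ∨
    dd ρ a c * dd ρ a c = dd ρ a c + 1

/-- `2 g + 1` -/
def hat (ρ : G →* R) (g : G) : R := 2 * ρ g + 1

/-- inner product -/
def tt (ρ : G →* R) (a c : G) : R := 1 - 2 * dd ρ a c

theorem pow_three_of_order {g : G} (h : orderOf g = 3) : g * g * g = 1 := by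
  have := pow_orderOf_eq_one g
  rw [h, pow_succ, pow_two] at this
  exact this

theorem inv_eq_of_order {g : G} (h : orderOf g = 3) : g⁻¹ = g * g :=
  inv_eq_of_mul_eq_one_left (pow_three_of_order h)

theorem ne_one_of_order {g : G} (h : orderOf g = 3) : g ≠ 1 := by
  rintro rfl
  rw [orderOf_one] at h
  omega

theorem order_inv {g : G} (h : orderOf g = 3) : orderOf g⁻¹ = 3 := by rw [orderOf_inv, h]

theorem order_conj {g : G} (h : orderOf g = 3) (x : G) : orderOf (x * g * x⁻¹) = 3 := by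
  have : orderOf (MulAut.conj x g) = orderOf g := orderOf_injective (MulAut.conj x).toMonoidHom (MulAut.conj x).injective g
  rw [← h, ← this]; rfl

theorem order_conj' {g : G} (h : orderOf g = 3) (x : G) : orderOf (x⁻¹ * g * x) = 3 := by
  have := order_conj h x⁻¹
  rwa [inv_inv] at this

variable {ρ : G →* R}

theorem map_mul_inv (g : G) : ρ g * ρ g⁻¹ = 1 := by rw [← map_mul, mul_inv_cancel, map_one]

theorem map_inv_mul (g : G) : ρ g⁻¹ * ρ g = 1 := by rw [← map_mul, inv_mul_cancel, map_one]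

section

variable (h : ZCfg ρ)
include h

theorem ZCfg.map_inv {g : G} (hg : orderOf g = 3) : ρ g⁻¹ = -1 - ρ g := by
  rw [inv_eq_of_order hg, map_mul, h.quad g hg]; noncomm_ring

theorem ZCfg.hat_sq {g : G} (hg : orderOf g = 3) : hat ρ g * hat ρ g = -3 := by
  have := h.quad g hg
  unfold hat
  linear_combination (norm := (noncomm_ring; try norm_num)) 4 * this

theorem ZCfg.hat_inv {g : G} (hg : orderOf g = 3) : hat ρ g⁻¹ = -hat ρ g := by
  unfold hat
  rw [h.map_inv hg]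
  noncomm_ring; try norm_num

omit h in
theorem hat_conj (x g : G) : hat ρ (x * g * x⁻¹) = ρ x * hat ρ g * ρ x⁻¹ := by
  unfold hat
  have := map_mul_inv (ρ := ρ) x
  rw [map_mul, map_mul]
  linear_combination (norm := (noncomm_ring; try norm_num)) -this

omit h in
theorem hat_conj' (x g : G) : hat ρ (x⁻¹ * g * x) = ρ x⁻¹ * hat ρ g * ρ x := by
  have := hat_conj (ρ := ρ) x⁻¹ g
  rwa [inv_inv] at this

theorem ZCfg.hat_inj {g g' : G} (hg : hat ρ g = hat ρ g') : g = g' := by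
  apply h.inj
  apply h.tf.cancel (n := 2) (by norm_num)
  push_cast
  unfold hat at hg
  exact add_right_cancel hg

theorem ZCfg.dd_eq {a c : G} (ha : orderOf a = 3) (hc : orderOf c = 3) :
    dd ρ a c = ρ a * ρ c + ρ c * ρ a + ρ a + ρ c + 1 := by
  unfold dd
  rw [mul_inv_rev, map_mul, map_mul, h.map_inv ha, h.map_inv hc]
  noncomm_ring

theorem ZCfg.tt_comm {a c : G} (ha : orderOf a = 3) (hc : orderOf c = 3) : tt ρ a c = tt ρ c a := by
  unfold tt
  rw [h.dd_eq ha hc, h.dd_eq hc ha]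
  noncomm_ring

theorem ZCfg.tt_inv_right {a c : G} (ha : orderOf a = 3) (hc : orderOf c = 3) : tt ρ a c⁻¹ = -tt ρ a c := by
  unfold tt
  rw [h.dd_eq ha hc, h.dd_eq ha (order_inv hc), h.map_inv hc]
  noncomm_ring

theorem ZCfg.tt_inv_left {a c : G} (ha : orderOf a = 3) (hc : orderOf c = 3) : tt ρ a⁻¹ c = -tt ρ a c := by
  rw [h.tt_comm (order_inv ha) hc, h.tt_inv_right hc ha, h.tt_comm hc ha]

theorem ZCfg.tt_self {a : G} (ha : orderOf a = 3) : tt ρ a a = 3 := by
  unfold tt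
  rw [h.dd_eq ha ha]
  have := h.quad a ha
  linear_combination (norm := (noncomm_ring; try norm_num)) -4 * this

omit h in
theorem tt_conj (x a c : G) : tt ρ (x * a * x⁻¹) (x * c * x⁻¹) = ρ x * tt ρ a c * ρ x⁻¹ := by
  unfold tt dd
  have h1 : x * a * x⁻¹ * (x * c * x⁻¹) = x * (a * c) * x⁻¹ := by group
  have h2 : (x * (a * c) * x⁻¹)⁻¹ = x * (a * c)⁻¹ * x⁻¹ := by group
  rw [h1, h2, map_mul, map_mul, map_mul ρ (x * _), map_mul ρ x]
  have := map_mul_inv (ρ := ρ) x
  linear_combination (norm := (noncomm_ring; try norm_num)) -this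

theorem ZCfg.rel {a c : G} (ha : orderOf a = 3) (hc : orderOf c = 3) :
    Rel (hat ρ a) (hat ρ c) (tt ρ a c) := by
  refine ⟨?_, ?_⟩
  · unfold hat tt
    rw [h.dd_eq ha hc]
    noncomm_ring; try norm_num
  · rcases h.tri a c ha hc with h1 | h1 | h1 | h1 | h1
    · left; rw [h1]
    · right; left
      rw [mul_eq_one_iff_eq_inv] at h1
      rw [h1, h.hat_inv hc]
    · right; right; left; unfold tt; rw [h1]; simp
    · right; right; right; left; unfold tt; rw [h1]; norm_num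
    · right; right; right; right; unfold tt
      linear_combination (norm := (noncomm_ring; try norm_num)) 4 * h1

theorem ZCfg.val {a c : G} (ha : orderOf a = 3) (hc : orderOf c = 3) : Val (tt ρ a c) :=
  (h.rel ha hc).val h.tf (h.hat_sq ha)

/-- quaternion units attached to a pair with inner product `-1` -/
theorem ZCfg.quat {a c : G} (ha : orderOf a = 3) (hc : orderOf c = 3) (ht : tt ρ a c = -1) :
    Quat (ρ (a * c * a)) (ρ (c * a⁻¹)) ∧
      hat ρ a = ZasQuat.mk (ρ (a * c * a)) (ρ (c * a⁻¹)) 0 1 1 1 ∧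
      hat ρ c = ZasQuat.mk (ρ (a * c * a)) (ρ (c * a⁻¹)) 0 1 (-1) (-1) ∧
      hat ρ (a⁻¹ * c * a) = ZasQuat.mk (ρ (a * c * a)) (ρ (c * a⁻¹)) 0 (-1) 1 (-1) ∧
      hat ρ (a * c * a⁻¹) = ZasQuat.mk (ρ (a * c * a)) (ρ (c * a⁻¹)) 0 (-1) (-1) 1 := by
  have e2 : (2 : R) = 1 + 1 := by norm_num
  have hdd : dd ρ a c = 1 := by
    apply h.tf.cancel (n := 2) (by norm_num)
    push_cast
    unfold tt at ht
    linear_combination (norm := (noncomm_ring; try norm_num)) -ht
  rw [h.dd_eq ha hc] at hdd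
  have haa := h.quad a ha
  have hcc := h.quad c hc
  have hca : ρ c * ρ a = -(ρ a * ρ c) - ρ a - ρ c := by
    linear_combination (norm := (noncomm_ring; try norm_num)) hdd
  have haa' : ∀ x, ρ a * (ρ a * x) = -(ρ a * x) - x := fun x => by
    rw [← mul_assoc, haa]; noncomm_ring
  have hcc' : ∀ x, ρ c * (ρ c * x) = -(ρ c * x) - x := fun x => by
    rw [← mul_assoc, hcc]; noncomm_ring
  have hca' : ∀ x, ρ c * (ρ a * x) = -(ρ a * (ρ c * x)) - ρ a * x - ρ c * x := fun x => by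
    rw [← mul_assoc, hca]; noncomm_ring
  have hi : ρ (a * c * a) = ρ c + ρ a + 1 := by
    rw [map_mul, map_mul]
    simp only [mul_add, add_mul, mul_sub, sub_mul, mul_neg, neg_mul, mul_one, one_mul, neg_neg, mul_assoc, haa, hcc,
      hca, haa', hcc', hca']
    abel
  have hj : ρ (c * a⁻¹) = ρ a * ρ c + ρ a := by
    rw [map_mul, h.map_inv ha]
    simp only [mul_add, add_mul, mul_sub, sub_mul, mul_neg, neg_mul, mul_one, one_mul, neg_neg, mul_assoc, haa, hcc,
      hca, haa', hcc', hca']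
    abel
  rw [hi, hj]
  refine ⟨⟨?_, ?_, ?_⟩, ?_, ?_, ?_, ?_⟩
  · simp only [mul_add, add_mul, mul_sub, sub_mul, mul_neg, neg_mul, mul_one, one_mul, neg_neg, mul_assoc, haa, hcc,
      hca, haa', hcc', hca']
    abel
  · simp only [mul_add, add_mul, mul_sub, sub_mul, mul_neg, neg_mul, mul_one, one_mul, neg_neg, mul_assoc, haa, hcc,
      hca, haa', hcc', hca']
    abel
  · simp only [mul_add, add_mul, mul_sub, sub_mul, mul_neg, neg_mul, mul_one, one_mul, neg_neg, mul_assoc, haa, hcc,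
      hca, haa', hcc', hca']
    abel
  · simp only [hat, ZasQuat.mk, e2, mul_add, add_mul, mul_sub, sub_mul, mul_neg, neg_mul, mul_one, one_mul, neg_neg, mul_assoc, haa, hcc,
      hca, haa', hcc', hca']
    abel
  · simp only [hat, ZasQuat.mk, e2, mul_add, add_mul, mul_sub, sub_mul, mul_neg, neg_mul, mul_one, one_mul, neg_neg, mul_assoc, haa, hcc,
      hca, haa', hcc', hca']
    abel
  · rw [hat_conj']
    simp only [hat, ZasQuat.mk, h.map_inv ha, e2, mul_add, add_mul, mul_sub, sub_mul, mul_neg, neg_mul, mul_one, one_mul, neg_neg, mul_assoc, haa, hcc,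
      hca, haa', hcc', hca']
    abel
  · rw [hat_conj]
    simp only [hat, ZasQuat.mk, h.map_inv ha, e2, mul_add, add_mul, mul_sub, sub_mul, mul_neg, neg_mul, mul_one, one_mul, neg_neg, mul_assoc, haa, hcc,
      hca, haa', hcc', hca']
    abel

theorem ZCfg.map_k {a c : G} (ha : orderOf a = 3) (hc : orderOf c = 3) (ht : tt ρ a c = -1) :
    ρ (a * c * a) * ρ (c * a⁻¹) = ρ (a⁻¹ * c) := by
  have hdd : dd ρ a c = 1 := by
    apply h.tf.cancel (n := 2) (by norm_num)
    push_cast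
    unfold tt at ht
    linear_combination (norm := (noncomm_ring; try norm_num)) -ht
  rw [h.dd_eq ha hc] at hdd
  have haa := h.quad a ha
  have hcc := h.quad c hc
  have hca : ρ c * ρ a = -(ρ a * ρ c) - ρ a - ρ c := by
    linear_combination (norm := (noncomm_ring; try norm_num)) hdd
  have haa' : ∀ x, ρ a * (ρ a * x) = -(ρ a * x) - x := fun x => by
    rw [← mul_assoc, haa]; noncomm_ring
  have hcc' : ∀ x, ρ c * (ρ c * x) = -(ρ c * x) - x := fun x => by
    rw [← mul_assoc, hcc]; noncomm_ring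
  have hca' : ∀ x, ρ c * (ρ a * x) = -(ρ a * (ρ c * x)) - ρ a * x - ρ c * x := fun x => by
    rw [← mul_assoc, hca]; noncomm_ring
  simp only [map_mul, h.map_inv ha, mul_add, add_mul, mul_sub, sub_mul, mul_neg, neg_mul, mul_one, one_mul, neg_neg,
    mul_assoc, haa, hcc, hca, haa', hcc', hca']
  abel

theorem ZCfg.cen_comm {a c : G} (ha : orderOf a = 3) (hc : orderOf c = 3) (ht : tt ρ a c = -1) {x : R}
    (hx : Cen (ρ (a * c * a)) (ρ (c * a⁻¹)) x) : ρ a * x = x * ρ a := by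
  obtain ⟨-, hh, -⟩ := h.quat ha hc ht
  apply h.tf.cancel (n := 2) (by norm_num)
  push_cast
  have h1 : hat ρ a * x = x * hat ρ a := by
    rw [hh]
    have hx1 := hx.1
    have hx2 := hx.2
    generalize ρ (a * c * a) = i at hx1 hx2 ⊢
    generalize ρ (c * a⁻¹) = j at hx1 hx2 ⊢
    simp only [ZasQuat.mk, zero_add, one_mul]
    linear_combination (norm := noncomm_ring) hx1 + hx2 + i * hx2 + hx1 * j
  unfold hat at h1
  linear_combination (norm := (noncomm_ring; try norm_num)) h1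

/-- conjugation by `a` permutes the units cyclically -/
theorem ZCfg.conj_mk {a c : G} (ha : orderOf a = 3) (hc : orderOf c = 3) (ht : tt ρ a c = -1) {x y z : R}
    (hx : Cen (ρ (a * c * a)) (ρ (c * a⁻¹)) x) (hy : Cen (ρ (a * c * a)) (ρ (c * a⁻¹)) y)
    (hz : Cen (ρ (a * c * a)) (ρ (c * a⁻¹)) z) :
    ρ a * ZasQuat.mk (ρ (a * c * a)) (ρ (c * a⁻¹)) 0 x y z * ρ a⁻¹ =
      ZasQuat.mk (ρ (a * c * a)) (ρ (c * a⁻¹)) 0 y z x := by
  have e1 : ∀ {x : R}, Cen (ρ (a * c * a)) (ρ (c * a⁻¹)) x → ∀ g : G,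
      ρ a * (x * ρ g) * ρ a⁻¹ = x * ρ (a * g * a⁻¹) := by
    intro x hx g
    rw [← mul_assoc, h.cen_comm ha hc ht hx, map_mul, map_mul]
    simp only [mul_assoc]
  have hi : a * (a * c * a) * a⁻¹ = a⁻¹ * c := by
    rw [inv_eq_of_order ha]
    have := pow_three_of_order ha
    calc a * (a * c * a) * (a * a) = a * a * c * (a * a * a) := by group
      _ = a * a * c := by rw [this, mul_one]
  have hj : a * (c * a⁻¹) * a⁻¹ = a * c * a := by
    rw [inv_eq_of_order ha]
    have := pow_three_of_order ha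
    calc a * (c * (a * a)) * (a * a) = a * c * (a * a * a) * a := by group
      _ = a * c * a := by rw [this, mul_one]
  have hk : a * (a⁻¹ * c) * a⁻¹ = c * a⁻¹ := by group
  have hkk := h.map_k ha hc ht
  simp only [ZasQuat.mk, hkk, mul_add, add_mul, zero_add, mul_zero, zero_mul]
  rw [e1 hx, e1 hy, e1 hz, hi, hj, hk]
  abel

theorem ZCfg.conj_mk' {a c : G} (ha : orderOf a = 3) (hc : orderOf c = 3) (ht : tt ρ a c = -1) {x y z : R}
    (hx : Cen (ρ (a * c * a)) (ρ (c * a⁻¹)) x) (hy : Cen (ρ (a * c * a)) (ρ (c * a⁻¹)) y)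
    (hz : Cen (ρ (a * c * a)) (ρ (c * a⁻¹)) z) :
    ρ a⁻¹ * ZasQuat.mk (ρ (a * c * a)) (ρ (c * a⁻¹)) 0 x y z * ρ a =
      ZasQuat.mk (ρ (a * c * a)) (ρ (c * a⁻¹)) 0 z x y := by
  rw [← h.conj_mk ha hc ht hz hx hy]
  have h1 := map_mul_inv (ρ := ρ) a
  have h2 := map_inv_mul (ρ := ρ) a
  calc ρ a⁻¹ * (ρ a * ZasQuat.mk (ρ (a * c * a)) (ρ (c * a⁻¹)) 0 z x y * ρ a⁻¹) * ρ a
      = (ρ a⁻¹ * ρ a) * ZasQuat.mk (ρ (a * c * a)) (ρ (c * a⁻¹)) 0 z x y * (ρ a⁻¹ * ρ a) := by simp only [mul_assoc]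
    _ = _ := by rw [h2, one_mul, mul_one]

end


end Cfsg.Agent.Lib.ZasGroup
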