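import Cfsg.Agent.Lib.ZasGroup

/-!
# Groups with a restricted representation: neighbours of an element of order 3
-/

set_option autoImplicit false
set_option linter.unusedSimpArgs false
set_option linter.unusedVariables false

namespace Cfsg.Agent.Lib.ZasGroup

open ZasQuat ZasLine

variable {G : Type*} {R : Type*} [Group G] [Ring R] {ρ : G →* R}

/-- standard position with respect to the pair `(a, c)` -/
def Std (ρ : G →* R) (a c d : G) (f : R) : Prop :=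
  f * f = 5 ∧ Cen (ρ (a * c * a)) (ρ (c * a⁻¹)) f ∧
    2 * hat ρ d = ZasQuat.mk (ρ (a * c * a)) (ρ (c * a⁻¹)) 0 0 (f - 1) (-f - 1)

theorem two_mul_conj (x y z : R) : 2 * (x * y * z) = x * (2 * y) * z := by noncomm_ring

section

variable (h : ZCfg ρ)
include h

theorem ZCfg.std_conj {a c d : G} {f : R} (ha : orderOf a = 3) (hc : orderOf c = 3) (hac : tt ρ a c = -1)
    (hs : Std ρ a c d f) :
    2 * hat ρ (a * d * a⁻¹) = ZasQuat.mk (ρ (a * c * a)) (ρ (c * a⁻¹)) 0 (f - 1) (-f - 1) 0 ∧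
    2 * hat ρ (a⁻¹ * d * a) = ZasQuat.mk (ρ (a * c * a)) (ρ (c * a⁻¹)) 0 (-f - 1) 0 (f - 1) := by
  obtain ⟨hf, cf, h1⟩ := hs
  have f0 : Cen (ρ (a * c * a)) (ρ (c * a⁻¹)) (0 : R) := Cen.zero
  have f1 : Cen (ρ (a * c * a)) (ρ (c * a⁻¹)) (f - 1) := cf.sub Cen.one
  have f2 : Cen (ρ (a * c * a)) (ρ (c * a⁻¹)) (-f - 1) := cf.neg.sub Cen.one
  constructor
  · rw [hat_conj, two_mul_conj, h1, h.conj_mk ha hc hac f0 f1 f2]
  · rw [hat_conj', two_mul_conj, h1, h.conj_mk' ha hc hac f0 f1 f2]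

variable [Nontrivial R]

theorem ZCfg.line {a c d : G} (ha : orderOf a = 3) (hc : orderOf c = 3) (hd : orderOf d = 3)
    (hac : tt ρ a c = -1) (had : tt ρ a d = -1) :
    d = c ∨ d = a⁻¹ * c * a ∨ d = a * c * a⁻¹ ∨
      ∃ f, Std ρ a c d f ∨ Std ρ a c (a⁻¹ * d * a) f ∨ Std ρ a c (a * d * a⁻¹) f := by
  obtain ⟨hq, h1, h2, h3, h4⟩ := h.quat ha hc hac
  have hc3 := order_conj' hc a
  have hc4 := order_conj hc a
  have key := ZasLine.line hq h.tf (h.hat_sq hd) (t2 := tt ρ d c) (t3 := tt ρ d (a⁻¹ * c * a))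
    (t4 := tt ρ d (a * c * a⁻¹)) ?_ ?_ ?_ ?_ (h.val hd hc) (h.val hd hc3) (h.val hd hc4)
  · rcases key with key | key | key | ⟨f, hf, cf, key⟩
    · left; apply h.hat_inj; rw [key, h2]
    · right; left; apply h.hat_inj; rw [key, h3]
    · right; right; left; apply h.hat_inj; rw [key, h4]
    · right; right; right
      have f0 : Cen (ρ (a * c * a)) (ρ (c * a⁻¹)) (0 : R) := Cen.zero
      have f1 : Cen (ρ (a * c * a)) (ρ (c * a⁻¹)) (f - 1) := cf.sub Cen.one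
      have f2 : Cen (ρ (a * c * a)) (ρ (c * a⁻¹)) (-f - 1) := cf.neg.sub Cen.one
      refine ⟨f, ?_⟩
      rcases key with key | key | key
      · left; exact ⟨hf, cf, key⟩
      · right; right
        refine ⟨hf, cf, ?_⟩
        rw [hat_conj, two_mul_conj, key, h.conj_mk ha hc hac f2 f0 f1]
      · right; left
        refine ⟨hf, cf, ?_⟩
        rw [hat_conj', two_mul_conj, key, h.conj_mk' ha hc hac f1 f2 f0]
  · rw [← h1, (h.rel hd ha).1, h.tt_comm hd ha, had]; norm_num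
  · rw [← h2, (h.rel hd hc).1]
  · rw [← h3, (h.rel hd hc3).1]
  · rw [← h4, (h.rel hd hc4).1]

/-- two elements in standard position are equal -/
theorem ZCfg.std_uniq {a c d e : G} {f g : R} (ha : orderOf a = 3) (hc : orderOf c = 3) (hac : tt ρ a c = -1)
    (hd : orderOf d = 3) (he : orderOf e = 3) (hds : Std ρ a c d f) (hes : Std ρ a c e g) : d = e := by
  obtain ⟨hq, h1, h2, h3, h4⟩ := h.quat ha hc hac
  obtain ⟨hf, cf, hD⟩ := hds
  obtain ⟨hE3, hE2⟩ := h.std_conj ha hc hac hes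
  obtain ⟨hg, cg, hE⟩ := hes
  have hy : orderOf (((c * a⁻¹) * d * (c * a⁻¹)⁻¹)⁻¹) = 3 := order_inv (order_conj hd _)
  have hj : ρ ((c * a⁻¹)⁻¹) = -ρ (c * a⁻¹) := by
    have e1 := map_mul_inv (ρ := ρ) (c * a⁻¹)
    have e2 := hq.jj
    have e3 := map_inv_mul (ρ := ρ) (c * a⁻¹)
    calc ρ ((c * a⁻¹)⁻¹) = -(ρ ((c * a⁻¹)⁻¹) * (ρ (c * a⁻¹) * ρ (c * a⁻¹))) := by rw [e2]; simp
      _ = -ρ (c * a⁻¹) := by rw [← mul_assoc, e3, one_mul]
  have hfg : f = g := by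
    have f0 : Cen (ρ (a * c * a)) (ρ (c * a⁻¹)) (0 : R) := Cen.zero
    have f1 : Cen (ρ (a * c * a)) (ρ (c * a⁻¹)) (f - 1) := cf.sub Cen.one
    have f2 : Cen (ρ (a * c * a)) (ρ (c * a⁻¹)) (-f - 1) := cf.neg.sub Cen.one
    refine ZasLine.uniq hq h.tf (D := hat ρ d) (E := hat ρ e) (E2 := hat ρ (a⁻¹ * e * a)) (E3 := hat ρ (a * e * a⁻¹))
      (Y := hat ρ (((c * a⁻¹) * d * (c * a⁻¹)⁻¹)⁻¹)) hf hg cf cg hD hE hE2 hE3 ?_ (h.rel hd he)
      (h.rel hd (order_conj' he a)) (h.rel hd (order_conj he a)) (h.rel hy he) (h.hat_sq hy) (h.hat_sq he)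
    have e0 : 2 * hat ρ (((c * a⁻¹) * d * (c * a⁻¹)⁻¹)⁻¹) = ρ (c * a⁻¹) * (2 * hat ρ d) * ρ (c * a⁻¹) := by
      rw [h.hat_inv (order_conj hd _), hat_conj, hj]
      noncomm_ring
    rw [e0, hD]
    have c1 := f1.2
    have c2 := f2.2
    have i1 := hq.ii
    have j1 := hq.jj
    have k1 := hq.ji
    generalize ρ (a * c * a) = i at *
    generalize ρ (c * a⁻¹) = j at *
    simp only [ZasQuat.mk, zero_mul, zero_add]
    have e1 : j * ((f - 1) * j + (-f - 1) * (i * j)) * j = (f - 1) * (j * j) * j + (-f - 1) * ((j * i) * j) * j := by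
      have : j * ((f - 1) * j + (-f - 1) * (i * j)) * j = (j * (f - 1)) * j * j + (j * (-f - 1)) * (i * j) * j := by
        noncomm_ring
      rw [this, c1, c2]
      noncomm_ring
    rw [e1, j1, k1, neg_mul, mul_assoc i, j1]
    noncomm_ring
  subst hfg
  apply h.hat_inj
  apply h.tf.cancel (n := 2) (by norm_num)
  push_cast
  rw [hD, hE]

end

end Cfsg.Agent.Lib.ZasGroup
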