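import Cfsg.Agent.Lib.ZasGroup2

/-!
# Groups with a restricted representation: pairs with inner product of square 5
-/

set_option autoImplicit false
set_option linter.unusedSimpArgs false
set_option linter.unusedVariables false

namespace Cfsg.Agent.Lib.ZasGroup

open ZasQuat ZasLine

variable {G : Type*} {R : Type*} [Group G] [Ring R] {ρ : G →* R}

section

variable (h : ZCfg ρ)
include h

theorem ZCfg.dd_of_tt {a c : G} (ht : tt ρ a c * tt ρ a c = 5) : dd ρ a c * dd ρ a c = dd ρ a c + 1 := by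
  apply h.tf.cancel (n := 4) (by norm_num)
  push_cast
  unfold tt at ht
  linear_combination (norm := (noncomm_ring; try norm_num)) ht

omit h in
theorem tt_neg_one_of_dd {a c : G} (ht : dd ρ a c = 1) : tt ρ a c = -1 := by
  unfold tt; rw [ht]; norm_num

/-- a common neighbour -/
theorem ZCfg.step0 {a c : G} (ha : orderOf a = 3) (hc : orderOf c = 3) (ht : tt ρ a c * tt ρ a c = 5) :
    tt ρ ((a * c) * a⁻¹ * (a * c)⁻¹) a = -1 ∧ tt ρ ((a * c) * a⁻¹ * (a * c)⁻¹) c = -1 := by
  have hdd := h.dd_of_tt ht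
  have hd := h.dd_eq ha hc
  generalize dd ρ a c = δ at hdd hd
  have haa := h.quad a ha
  have hcc := h.quad c hc
  have hca : ρ c * ρ a = δ - 1 - ρ a - ρ c - ρ a * ρ c := by
    linear_combination (norm := (noncomm_ring; try norm_num)) -hd
  have hda : ρ a * δ = δ * ρ a := by
    rw [hd]
    linear_combination (norm := (noncomm_ring; try norm_num)) haa * ρ c - ρ c * haa
  have hdc : ρ c * δ = δ * ρ c := by
    rw [hd]
    linear_combination (norm := (noncomm_ring; try norm_num)) hcc * ρ a - ρ a * hcc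
  have haa' : ∀ x, ρ a * (ρ a * x) = -(ρ a * x) - x := fun x => by
    rw [← mul_assoc, haa]; noncomm_ring
  have hcc' : ∀ x, ρ c * (ρ c * x) = -(ρ c * x) - x := fun x => by
    rw [← mul_assoc, hcc]; noncomm_ring
  have hca' : ∀ x, ρ c * (ρ a * x) = δ * x - x - ρ a * x - ρ c * x - ρ a * (ρ c * x) := fun x => by
    rw [← mul_assoc, hca]; noncomm_ring
  have hda' : ∀ x, ρ a * (δ * x) = δ * (ρ a * x) := fun x => by
    rw [← mul_assoc, hda, mul_assoc]
  have hdc' : ∀ x, ρ c * (δ * x) = δ * (ρ c * x) := fun x => by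
    rw [← mul_assoc, hdc, mul_assoc]
  have hdd' : ∀ x, δ * (δ * x) = δ * x + x := fun x => by
    rw [← mul_assoc, hdd]; noncomm_ring
  constructor
  · apply tt_neg_one_of_dd
    unfold dd
    have e1 : (a * c) * a⁻¹ * (a * c)⁻¹ * a = a * c * a⁻¹ * c⁻¹ := by group
    have e2 : (a * c * a⁻¹ * c⁻¹)⁻¹ = c * a * c⁻¹ * a⁻¹ := by group
    rw [e1, e2]
    simp only [map_mul, h.map_inv ha, h.map_inv hc, mul_add, add_mul, mul_sub, sub_mul, mul_neg, neg_mul, mul_one,
      one_mul, neg_neg, mul_assoc, haa, hcc, hca, haa', hcc', hca', hda, hdc, hda', hdc', hdd, hdd']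
    abel
  · apply tt_neg_one_of_dd
    unfold dd
    have e1 : (a * c) * a⁻¹ * (a * c)⁻¹ * c = a * c * a⁻¹ * c⁻¹ * a⁻¹ * c := by group
    have e2 : (a * c * a⁻¹ * c⁻¹ * a⁻¹ * c)⁻¹ = c⁻¹ * a * c * a * c⁻¹ * a⁻¹ := by group
    rw [e1, e2]
    simp only [map_mul, h.map_inv ha, h.map_inv hc, mul_add, add_mul, mul_sub, sub_mul, mul_neg, neg_mul, mul_one,
      one_mul, neg_neg, mul_assoc, haa, hcc, hca, haa', hcc', hca', hda, hdc, hda', hdc', hdd, hdd']
    abel

end

end Cfsg.Agent.Lib.ZasGroup
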