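import Cfsg.Agent.Lib.ZasGroup3

/-!
# Groups with a restricted representation: the subgroup generated by the elements of order 3
-/

set_option autoImplicit false
set_option linter.unusedSimpArgs false
set_option linter.unusedVariables false

namespace Cfsg.Agent.Lib.ZasGroup

open ZasQuat ZasLine

variable {G : Type*} {R : Type*} [Group G] [Ring R] {ρ : G →* R}

/-- all `-1`-neighbours of `x` lie in `L` -/
def NbrIn (ρ : G →* R) (L : Subgroup G) (x : G) : Prop := ∀ y : G, orderOf y = 3 → tt ρ x y = -1 → y ∈ L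

section

variable (h : ZCfg ρ)
include h

omit h in
theorem tt_conj_eq {x a c : G} {t : ℤ} : tt ρ (x * a * x⁻¹) (x * c * x⁻¹) = t ↔ tt ρ a c = t := by
  rw [tt_conj]
  constructor
  · intro h1
    have h2 : ρ x⁻¹ * (ρ x * tt ρ a c * ρ x⁻¹) * ρ x = ρ x⁻¹ * t * ρ x := by rw [h1]
    have h3 : ρ x⁻¹ * (ρ x * tt ρ a c * ρ x⁻¹) * ρ x = (ρ x⁻¹ * ρ x) * tt ρ a c * (ρ x⁻¹ * ρ x) := by
      simp only [mul_assoc]
    rw [h3, map_inv_mul, one_mul, mul_one, ← (Int.cast_commute t (ρ x⁻¹)).eq, mul_assoc, map_inv_mul, mul_one] at h2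
    exact h2
  · intro h1
    rw [h1, ← (Int.cast_commute t (ρ x)).eq, mul_assoc, map_mul_inv, mul_one]

theorem ZCfg.nbr_conj {L : Subgroup G} {x g : G} (hg : g ∈ L) (hx : NbrIn ρ L x) : NbrIn ρ L (g * x * g⁻¹) := by
  intro y hy ht
  have h1 : y = g * (g⁻¹ * y * g) * g⁻¹ := by group
  rw [h1] at ht
  have h2 : tt ρ x (g⁻¹ * y * g) = ((-1 : ℤ) : R) := by
    rw [← tt_conj_eq (x := g)]
    rw [ht]; norm_num
  have h3 := hx (g⁻¹ * y * g) (order_conj' hy g) (by rw [h2]; norm_num)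
  rw [h1]
  exact L.mul_mem (L.mul_mem hg h3) (L.inv_mem hg)

theorem ZCfg.nbr_inv {L : Subgroup G} {x : G} (hx3 : orderOf x = 3) (hx : NbrIn ρ L x) : NbrIn ρ L x⁻¹ := by
  intro y hy ht
  rw [h.tt_inv_left hx3 hy] at ht
  have := hx y⁻¹ (order_inv hy) (by rw [h.tt_inv_right hx3 hy]; exact ht)
  exact (L.inv_mem_iff).1 this

/-- conjugating a `-1`-neighbour into `u` -/
theorem ZCfg.nbr_conj_eq {u v : G} (hu : orderOf u = 3) (hv : orderOf v = 3) (ht : tt ρ u v = -1) :
    (u * v * u) * u * (u * v * u)⁻¹ = v := by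
  obtain ⟨hq, h1, h2, -, -⟩ := h.quat hu hv ht
  apply h.hat_inj
  rw [hat_conj, h1, h2]
  have hi : ρ ((u * v * u)⁻¹) = -ρ (u * v * u) := by
    have e2 := hq.ii
    have e3 := map_inv_mul (ρ := ρ) (u * v * u)
    calc ρ ((u * v * u)⁻¹) = -(ρ ((u * v * u)⁻¹) * (ρ (u * v * u) * ρ (u * v * u))) := by rw [e2]; simp
      _ = -ρ (u * v * u) := by rw [← mul_assoc, e3, one_mul]
  rw [hi]
  have i1 := hq.ii
  have i2 := hq.ii'
  have j1 := hq.jj
  have k1 := hq.ji
  have k2 := hq.ji'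
  generalize ρ (u * v * u) = i at *
  generalize ρ (v * u⁻¹) = j at *
  simp only [ZasQuat.mk, zero_mul, zero_add, one_mul, mul_add, add_mul, mul_neg, neg_mul, mul_assoc, i1, i2, j1, k1,
    k2, neg_neg, mul_one]
  abel

variable [Nontrivial R]

/-- one special element suffices -/
theorem ZCfg.nbrIn_of_std {L : Subgroup G} {u c d : G} {f : R} (hu : orderOf u = 3) (hc : orderOf c = 3)
    (hd : orderOf d = 3) (huc : tt ρ u c = -1) (huL : u ∈ L) (hcL : c ∈ L) (hdL : d ∈ L)
    (hs : Std ρ u c d f) : NbrIn ρ L u := by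
  intro y hy hty
  rcases h.line hu hc hy huc hty with h1 | h1 | h1 | ⟨f', h1 | h1 | h1⟩
  · rw [h1]; exact hcL
  · rw [h1]; exact L.mul_mem (L.mul_mem (L.inv_mem huL) hcL) huL
  · rw [h1]; exact L.mul_mem (L.mul_mem huL hcL) (L.inv_mem huL)
  · rw [h.std_uniq hu hc huc hy hd h1 hs]; exact hdL
  · have h2 := h.std_uniq hu hc huc (order_conj' hy u) hd h1 hs
    have h3 : y = u * d * u⁻¹ := by rw [← h2]; group
    rw [h3]; exact L.mul_mem (L.mul_mem huL hdL) (L.inv_mem huL)
  · have h2 := h.std_uniq hu hc huc (order_conj hy u) hd h1 hs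
    have h3 : y = u⁻¹ * d * u := by rw [← h2]; group
    rw [h3]; exact L.mul_mem (L.mul_mem (L.inv_mem huL) hdL) huL

omit h [Nontrivial R] in
theorem ne_five {n : ℤ} (h : n * n ≠ 5) [CharZero R] : (n : R) * n ≠ 5 := by
  intro h1
  apply h
  have h2 : ((n * n : ℤ) : R) = ((5 : ℤ) : R) := by push_cast; exact h1
  exact Int.cast_injective h2

/-- `-1`-neighbours, one of which is a conjugate of the other, have inner product `±1` or `3` -/
theorem ZCfg.tt_conj_neighbour {u c : G} (hu : orderOf u = 3) (hc : orderOf c = 3) (huc : tt ρ u c = -1) :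
    tt ρ c (u⁻¹ * c * u) = -1 ∧ tt ρ c (u * c * u⁻¹) = -1 := by
  obtain ⟨hq, h1, h2, h3, h4⟩ := h.quat hu hc huc
  have hc3 := order_conj' hc u
  have hc4 := order_conj hc u
  have i1 := hq.ii
  have i2 := hq.ii'
  have j1 := hq.jj
  have j2 := hq.jj'
  have k1 := hq.ji
  have k2 := hq.ji'
  constructor
  · apply h.tf.cancel (n := 2) (by norm_num)
    push_cast
    have e := (h.rel hc hc3).1
    rw [h2, h3] at e
    generalize ρ (u * c * u) = i at *
    generalize ρ (c * u⁻¹) = j at *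
    simp only [ZasQuat.mk, zero_mul, zero_add, one_mul, mul_add, add_mul, mul_neg, neg_mul, mul_assoc, i1, i2, j1, j2,
      k1, k2, neg_neg, mul_one] at e
    linear_combination (norm := (noncomm_ring; try norm_num)) e
  · apply h.tf.cancel (n := 2) (by norm_num)
    push_cast
    have e := (h.rel hc hc4).1
    rw [h2, h4] at e
    generalize ρ (u * c * u) = i at *
    generalize ρ (c * u⁻¹) = j at *
    simp only [ZasQuat.mk, zero_mul, zero_add, one_mul, mul_add, add_mul, mul_neg, neg_mul, mul_assoc, i1, i2, j1, j2,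
      k1, k2, neg_neg, mul_one] at e
    linear_combination (norm := (noncomm_ring; try norm_num)) e

/-- a standard element has an inner product of square 5 with one of the neighbours -/
theorem ZCfg.tt_std {u c d : G} {f : R} (hu : orderOf u = 3) (hc : orderOf c = 3) (hd : orderOf d = 3)
    (huc : tt ρ u c = -1) (hs : Std ρ u c d f) : tt ρ d (u⁻¹ * c * u) = f := by
  obtain ⟨hq, h1, h2, h3, h4⟩ := h.quat hu hc huc
  obtain ⟨hf, cf, hD⟩ := hs
  have hc3 := order_conj' hc u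
  have e := (h.rel hd hc3).1
  apply h.tf.cancel (n := 4) (by norm_num)
  push_cast
  have e' : 2 * hat ρ d * hat ρ (u⁻¹ * c * u) + hat ρ (u⁻¹ * c * u) * (2 * hat ρ d) = -(4 * tt ρ d (u⁻¹ * c * u)) := by
    linear_combination (norm := (noncomm_ring; try norm_num)) 2 * e
  rw [hD, h3] at e'
  have i1 := hq.ii
  have i2 := hq.ii'
  have j1 := hq.jj
  have j2 := hq.jj'
  have k1 := hq.ji
  have k2 := hq.ji'
  have c1 := cf.1
  have c2 := cf.2
  generalize ρ (u * c * u) = i at *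
  generalize ρ (c * u⁻¹) = j at *
  have c3 : ∀ x, i * (f * x) = f * (i * x) := fun x => by rw [← mul_assoc, c1, mul_assoc]
  have c4 : ∀ x, j * (f * x) = f * (j * x) := fun x => by rw [← mul_assoc, c2, mul_assoc]
  simp only [ZasQuat.mk, zero_mul, zero_add, one_mul, mul_add, add_mul, mul_neg, neg_mul, mul_assoc, i1, i2, j1, j2,
    k1, k2, neg_neg, mul_one, sub_mul, mul_sub, c1, c2, c3, c4] at e'
  linear_combination (norm := (noncomm_ring; try norm_num)) e'

/-- the neighbours of the special element all lie in the subgroup generated by the pair -/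
theorem ZCfg.nbrIn_step0 {L : Subgroup G} {a c : G} (ha : orderOf a = 3) (hc : orderOf c = 3)
    (ht : tt ρ a c * tt ρ a c = 5) (haL : a ∈ L) (hcL : c ∈ L) : NbrIn ρ L ((a * c) * a⁻¹ * (a * c)⁻¹) := by
  have hch : CharZero R := h.tf.charZero
  obtain ⟨h1, h2⟩ := h.step0 ha hc ht
  have hu : orderOf ((a * c) * a⁻¹ * (a * c)⁻¹) = 3 := order_conj (order_inv ha) _
  have huL : (a * c) * a⁻¹ * (a * c)⁻¹ ∈ L :=
    L.mul_mem (L.mul_mem (L.mul_mem haL hcL) (L.inv_mem haL)) (L.inv_mem (L.mul_mem haL hcL))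
  generalize (a * c) * a⁻¹ * (a * c)⁻¹ = u at *
  have hv : ∀ n : ℤ, n * n ≠ 5 → tt ρ c a ≠ n := by
    intro n hn h3
    rw [h.tt_comm ha hc, h3] at ht
    exact ne_five hn ht
  obtain ⟨h5, h6⟩ := h.tt_conj_neighbour hu hc h2
  rcases h.line hu hc ha h2 h1 with h3 | h3 | h3 | ⟨f, h3 | h3 | h3⟩
  · exfalso
    rw [h3] at hv
    exact hv 3 (by norm_num) (by rw [h.tt_self hc]; norm_num)
  · exfalso
    rw [h3] at hv
    exact hv (-1) (by norm_num) (by rw [h5]; norm_num)
  · exfalso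
    rw [h3] at hv
    exact hv (-1) (by norm_num) (by rw [h6]; norm_num)
  · exact h.nbrIn_of_std hu hc ha h2 huL hcL haL h3
  · exact h.nbrIn_of_std hu hc (order_conj' ha u) h2 huL hcL (L.mul_mem (L.mul_mem (L.inv_mem huL) haL) huL) h3
  · exact h.nbrIn_of_std hu hc (order_conj ha u) h2 huL hcL (L.mul_mem (L.mul_mem huL haL) (L.inv_mem huL)) h3

/-- transport along `-1`-neighbours -/
theorem ZCfg.nbrIn_transport {L : Subgroup G} {u v : G} (hu : orderOf u = 3) (hv : orderOf v = 3)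
    (ht : tt ρ u v = -1) (huL : u ∈ L) (hP : NbrIn ρ L u) : NbrIn ρ L v := by
  have hvL : v ∈ L := hP v hv ht
  have := h.nbr_conj (L.mul_mem (L.mul_mem huL hvL) huL) hP
  rwa [h.nbr_conj_eq hu hv ht] at this

/-- **All elements of order three lie in the subgroup generated by a pair with inner product of square 5.** -/
theorem ZCfg.mem_of_pair {L : Subgroup G} {a c b : G} (ha : orderOf a = 3) (hc : orderOf c = 3) (hb : orderOf b = 3)
    (ht : tt ρ a c * tt ρ a c = 5) (haL : a ∈ L) (hcL : c ∈ L) : b ∈ L := by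
  have hu : orderOf ((a * c) * a⁻¹ * (a * c)⁻¹) = 3 := order_conj (order_inv ha) _
  have huL : (a * c) * a⁻¹ * (a * c)⁻¹ ∈ L :=
    L.mul_mem (L.mul_mem (L.mul_mem haL hcL) (L.inv_mem haL)) (L.inv_mem (L.mul_mem haL hcL))
  have hP := h.nbrIn_step0 ha hc ht haL hcL
  generalize (a * c) * a⁻¹ * (a * c)⁻¹ = u at *
  rcases (h.rel hu hb).2 with h1 | h1 | h1 | h1 | h1
  · rw [← h.hat_inj h1]; exact huL
  · rw [← h.hat_inv hb] at h1
    have := h.hat_inj h1
    rw [← L.inv_mem_iff, ← this]; exact huL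
  · rw [← L.inv_mem_iff]
    exact hP _ (order_inv hb) (by rw [h.tt_inv_right hu hb, h1])
  · exact hP _ hb h1
  · have ht' : tt ρ b u * tt ρ b u = 5 := by rw [h.tt_comm hb hu]; exact h1
    obtain ⟨h2, h3⟩ := h.step0 hb hu ht'
    have hw : orderOf ((b * u) * b⁻¹ * (b * u)⁻¹) = 3 := order_conj (order_inv hb) _
    generalize (b * u) * b⁻¹ * (b * u)⁻¹ = w at *
    have hP2 : NbrIn ρ L w := h.nbrIn_transport hu hw (by rw [h.tt_comm hu hw, h3]) huL hP
    exact hP2 b hb h2

/-- without pairs of square 5, the elements of order three are determined by a pair -/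
theorem ZCfg.list_of_no_pair (hno : ∀ a c : G, orderOf a = 3 → orderOf c = 3 → tt ρ a c * tt ρ a c ≠ 5)
    {a c b : G} (ha : orderOf a = 3) (hc : orderOf c = 3) (hb : orderOf b = 3) (hac : tt ρ a c = -1) :
    ∃ e : G, (e = a ∨ e = c ∨ e = a⁻¹ * c * a ∨ e = a * c * a⁻¹) ∧ (b = e ∨ b = e⁻¹) := by
  have key : ∀ b : G, orderOf b = 3 → tt ρ a b = -1 → b = c ∨ b = a⁻¹ * c * a ∨ b = a * c * a⁻¹ := by
    intro b hb hab
    have hstd : ∀ b f, orderOf b = 3 → Std ρ a c b f → False := by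
      intro b f hb hs
      apply hno b (a⁻¹ * c * a) hb (order_conj' hc a)
      rw [h.tt_std ha hc hb hac hs]
      exact hs.1
    rcases h.line ha hc hb hac hab with h3 | h3 | h3 | ⟨f, h3 | h3 | h3⟩
    · exact Or.inl h3
    · exact Or.inr (Or.inl h3)
    · exact Or.inr (Or.inr h3)
    · exact (hstd _ f hb h3).elim
    · exact (hstd _ f (order_conj' hb a) h3).elim
    · exact (hstd _ f (order_conj hb a) h3).elim
  rcases (h.rel ha hb).2 with h1 | h1 | h1 | h1 | h1
  · exact ⟨a, Or.inl rfl, Or.inl (h.hat_inj h1).symm⟩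
  · rw [← h.hat_inv hb] at h1
    refine ⟨a, Or.inl rfl, Or.inr ?_⟩
    rw [h.hat_inj h1, inv_inv]
  · have := key b⁻¹ (order_inv hb) (by rw [h.tt_inv_right ha hb, h1])
    exact ⟨b⁻¹, Or.inr this, Or.inr (inv_inv b).symm⟩
  · exact ⟨b, Or.inr (key b hb h1), Or.inl rfl⟩
  · exact (hno a b ha hb h1).elim

end

end Cfsg.Agent.Lib.ZasGroup
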