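import Cfsg.Agent.Lib.ZasQuat

/-!
# Vectors of norm 3 with restricted inner products: the line lemma
-/

set_option autoImplicit false
set_option linter.unusedSimpArgs false
set_option linter.unusedVariables false

namespace Cfsg.Agent.Lib.ZasLine

open ZasQuat

variable {R : Type*} [Ring R]

/-- the possible values of the inner product of two vectors -/
def Val (t : R) : Prop := t = 3 ∨ t = -3 ∨ t = 1 ∨ t = -1 ∨ t * t = 5

theorem Val.sq {t : R} (h : Val t) : t * t = 9 ∨ t * t = 1 ∨ t * t = 5 := by
  rcases h with rfl | rfl | rfl | rfl | h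
  · left; norm_num
  · left; norm_num
  · right; left; norm_num
  · right; left; norm_num
  · right; right; exact h

theorem anti_mk {i j : R} (h : Quat i j) {a b c d x y z : R} (ha : Cen i j a) (hb : Cen i j b) (hc : Cen i j c)
    (hd : Cen i j d) (hx : Cen i j x) (hy : Cen i j y) (hz : Cen i j z) :
    mk i j a b c d * mk i j 0 x y z + mk i j 0 x y z * mk i j a b c d =
      mk i j (-(b * x + x * b) - (c * y + y * c) - (d * z + z * d)) (a * x + x * a + (c * z - z * c) - (d * y - y * d))
        (a * y + y * a + (d * x - x * d) - (b * z - z * b)) (a * z + z * a + (b * y - y * b) - (c * x - x * c)) := by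
  rw [mk_mul h Cen.zero hx hy hz, mk_mul h ha hb hc hd, mk_add]
  congr 1 <;> noncomm_ring

theorem line {i j : R} (h : Quat i j) (ht : TF R) [Nontrivial R] {D t2 t3 t4 : R} (hD : D * D = -3)
    (h1 : D * mk i j 0 1 1 1 + mk i j 0 1 1 1 * D = 2)
    (h2 : D * mk i j 0 1 (-1) (-1) + mk i j 0 1 (-1) (-1) * D = -(2 * t2))
    (h3 : D * mk i j 0 (-1) 1 (-1) + mk i j 0 (-1) 1 (-1) * D = -(2 * t3))
    (h4 : D * mk i j 0 (-1) (-1) 1 + mk i j 0 (-1) (-1) 1 * D = -(2 * t4))
    (c2 : Val t2) (c3 : Val t3) (c4 : Val t4) :
    D = mk i j 0 1 (-1) (-1) ∨ D = mk i j 0 (-1) 1 (-1) ∨ D = mk i j 0 (-1) (-1) 1 ∨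
      ∃ f : R, f * f = 5 ∧ Cen i j f ∧ (2 * D = mk i j 0 0 (f - 1) (-f - 1) ∨ 2 * D = mk i j 0 (-f - 1) 0 (f - 1) ∨
        2 * D = mk i j 0 (f - 1) (-f - 1) 0) := by
  have hch : CharZero R := ht.charZero
  obtain ⟨a, b, c, d, ha, hb, hc, hd, hdec⟩ := decomp h D
  have c1 : Cen i j (1 : R) := Cen.one
  have cm : Cen i j (-1 : R) := Cen.one.neg
  have key : ∀ {x y z s : R}, Cen i j x → Cen i j y → Cen i j z →
      D * mk i j 0 x y z + mk i j 0 x y z * D = s →
      mk i j (-(b * x + x * b) - (c * y + y * c) - (d * z + z * d)) (a * x + x * a + (c * z - z * c) - (d * y - y * d))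
        (a * y + y * a + (d * x - x * d) - (b * z - z * b)) (a * z + z * a + (b * y - y * b) - (c * x - x * c)) =
        4 * s := by
    intro x y z s hx hy hz hs
    rw [← anti_mk h ha hb hc hd hx hy hz, ← hdec, ← hs]
    have h4 : ∀ w : R, w * (4 * D) = 4 * (w * D) := by
      intro w
      have := (Nat.cast_commute 4 w).eq
      push_cast at this
      rw [← mul_assoc, ← this, mul_assoc]
    rw [h4, mul_add, mul_assoc]
  have e1 := key c1 c1 c1 h1
  have e2 := key c1 cm cm h2
  have e3 := key cm c1 cm h3
  have e4 := key cm cm c1 h4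
  simp only [mul_one, one_mul, mul_neg, neg_mul] at e1 e2 e3 e4
  -- the scalar part vanishes
  have z0 : Cen i j (0 : R) := Cen.zero
  have e1' : mk i j (-(b + b) - (c + c) - (d + d)) (a + a + (c - c) - (d - d)) (a + a + (d - d) - (b - b))
      (a + a + (b - b) - (c - c)) = mk i j (4 * 2) 0 0 0 := by
    rw [e1]; simp [mk]
  have c8 : Cen i j (4 * 2 : R) := (Cen.ofNat 4).mul (Cen.ofNat 2)
  obtain ⟨s1, a0, -, -⟩ := mk_inj h ht (((hb.add hb).neg.sub (hc.add hc)).sub (hd.add hd))
    (((ha.add ha).add (hc.sub hc)).sub (hd.sub hd)) (((ha.add ha).add (hd.sub hd)).sub (hb.sub hb))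
    (((ha.add ha).add (hb.sub hb)).sub (hc.sub hc)) c8 z0 z0 z0 e1'
  have a0' : a = 0 := by
    apply ht.two
    simpa using a0
  subst a0'
  simp only [mk, sub_self, neg_neg, zero_mul, add_zero, zero_add, neg_zero, sub_zero, sub_neg_eq_add, add_neg_cancel,
    neg_add_cancel, neg_add_rev] at e2 e3 e4
  have hb' : b = 2 * t2 - 2 := by
    apply ht.cancel (n := 4) (by norm_num)
    push_cast
    linear_combination (norm := (noncomm_ring; try norm_num)) -s1 - e2
  have hc' : c = 2 * t3 - 2 := by
    apply ht.cancel (n := 4) (by norm_num)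
    push_cast
    linear_combination (norm := (noncomm_ring; try norm_num)) -s1 - e3
  have hd' : d = 2 * t4 - 2 := by
    apply ht.cancel (n := 4) (by norm_num)
    push_cast
    linear_combination (norm := (noncomm_ring; try norm_num)) -s1 - e4
  have hsum : t2 + t3 + t4 = 1 := by
    apply ht.cancel (n := 4) (by norm_num)
    push_cast
    rw [hb', hc', hd'] at s1
    linear_combination (norm := (noncomm_ring; try norm_num)) -s1
  -- the `t` commute with `i` and `j`
  have ct : ∀ {t : R}, Cen i j (2 * t - 2) → Cen i j t := by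
    intro t htc
    have h1 : Cen i j (2 * t) := by
      have := htc.add (Cen.ofNat (i := i) (j := j) 2)
      simpa using this
    apply Cen.of_nat_mul ht (n := 2) (by norm_num)
    exact_mod_cast h1
  have ct2 : Cen i j t2 := ct (hb' ▸ hb)
  have ct3 : Cen i j t3 := ct (hc' ▸ hc)
  have ct4 : Cen i j t4 := ct (hd' ▸ hd)
  have hD2 : 2 * D = mk i j 0 (t2 - 1) (t3 - 1) (t4 - 1) := by
    apply ht.cancel (n := 2) (by norm_num)
    push_cast
    rw [mk_left, ← mul_assoc]
    have : (2 : R) * 2 = 4 := by norm_num
    rw [this, hdec, hb', hc', hd']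
    congr 1 <;> simp [mul_sub]
  have m2 : Cen i j (t2 - 1) := ct2.sub Cen.one
  have m3 : Cen i j (t3 - 1) := ct3.sub Cen.one
  have m4 : Cen i j (t4 - 1) := ct4.sub Cen.one
  -- the norm
  have hn : mk i j (0 * 0 - (t2 - 1) * (t2 - 1) - (t3 - 1) * (t3 - 1) - (t4 - 1) * (t4 - 1))
      (0 * (t2 - 1) + (t2 - 1) * 0 + (t3 - 1) * (t4 - 1) - (t4 - 1) * (t3 - 1))
      (0 * (t3 - 1) - (t2 - 1) * (t4 - 1) + (t3 - 1) * 0 + (t4 - 1) * (t2 - 1))
      (0 * (t4 - 1) + (t2 - 1) * (t3 - 1) - (t3 - 1) * (t2 - 1) + (t4 - 1) * 0) = mk i j (4 * (-3)) 0 0 0 := by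
    rw [← mk_mul h z0 m2 m3 m4, ← hD2]
    have h5 : (2 * D) * (2 * D) = 4 * (D * D) := by
      have := (Nat.cast_commute 2 D).eq
      push_cast at this
      rw [mul_assoc, ← mul_assoc D, ← this, mul_assoc 2 D, ← mul_assoc]
      norm_num
    rw [h5, hD]
    simp [mk]
  have c12 : Cen i j (4 * (-3) : R) := (Cen.ofNat 4).mul (Cen.ofNat 3).neg
  have q0 := (mk_inj h ht ((((z0.mul z0).sub (m2.mul m2)).sub (m3.mul m3)).sub (m4.mul m4))
    ((((z0.mul m2).add (m2.mul z0)).add (m3.mul m4)).sub (m4.mul m3))
    ((((z0.mul m3).sub (m2.mul m4)).add (m3.mul z0)).add (m4.mul m2))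
    ((((z0.mul m4).add (m2.mul m3)).sub (m3.mul m2)).add (m4.mul z0)) c12 z0 z0 z0 hn).1
  have hsq : t2 * t2 + t3 * t3 + t4 * t4 = 11 := by
    linear_combination (norm := (noncomm_ring; try norm_num)) -q0 + 2 * hsum
  clear e1 e2 e3 e4 e1' s1 a0 q0 hn key
  by_cases r2 : t2 * t2 = 5
  · by_cases r3 : t3 * t3 = 5
    · -- `t4 = 1`
      rcases c4 with rfl | rfl | rfl | rfl | r4
      · exfalso; rw [r2, r3] at hsq; norm_num at hsq
      · exfalso; rw [r2, r3] at hsq; norm_num at hsq
      · have h5 : t3 = -t2 := by linear_combination (norm := (noncomm_ring; try norm_num)) hsum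
        refine Or.inr (Or.inr (Or.inr ⟨t2, r2, ct2, Or.inr (Or.inr ?_)⟩))
        rw [hD2, h5]; simp
      · exfalso
        have h5 : t3 = 2 - t2 := by linear_combination (norm := (noncomm_ring; try norm_num)) hsum
        rw [h5] at r3
        have h6 : t2 = 1 := by
          apply ht.cancel (n := 4) (by norm_num)
          push_cast
          linear_combination (norm := (noncomm_ring; try norm_num)) r2 - r3
        rw [h6] at r2; norm_num at r2
      · exfalso; rw [r2, r3, r4] at hsq; norm_num at hsq
    · rcases c3 with rfl | rfl | rfl | rfl | r3'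
      · exfalso
        rcases c4 with rfl | rfl | rfl | rfl | r4
        all_goals first | (rw [r2, r4] at hsq; norm_num at hsq) | (rw [r2] at hsq; norm_num at hsq)
      · exfalso
        rcases c4 with rfl | rfl | rfl | rfl | r4
        all_goals first | (rw [r2, r4] at hsq; norm_num at hsq) | (rw [r2] at hsq; norm_num at hsq)
      · rcases c4 with rfl | rfl | rfl | rfl | r4
        · exfalso; rw [r2] at hsq; norm_num at hsq
        · exfalso; rw [r2] at hsq; norm_num at hsq
        · exfalso; rw [r2] at hsq; norm_num at hsq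
        · exfalso; rw [r2] at hsq; norm_num at hsq
        · -- t3 = 1, t2 = -t4
          have h5 : t2 = -t4 := by linear_combination (norm := (noncomm_ring; try norm_num)) hsum
          refine Or.inr (Or.inr (Or.inr ⟨t4, r4, ct4, Or.inr (Or.inl ?_)⟩))
          rw [hD2, h5]; simp
      · rcases c4 with rfl | rfl | rfl | rfl | r4
        · exfalso; rw [r2] at hsq; norm_num at hsq
        · exfalso; rw [r2] at hsq; norm_num at hsq
        · exfalso; rw [r2] at hsq; norm_num at hsq
        · exfalso; rw [r2] at hsq; norm_num at hsq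
        · exfalso
          have h5 : t4 = 2 - t2 := by linear_combination (norm := (noncomm_ring; try norm_num)) hsum
          rw [h5] at r4
          have h6 : t2 = 1 := by
            apply ht.cancel (n := 4) (by norm_num)
            push_cast
            linear_combination (norm := (noncomm_ring; try norm_num)) r2 - r4
          rw [h6] at r2; norm_num at r2
      · exact absurd r3' r3
  · rcases c2 with rfl | rfl | rfl | rfl | r2'
    · -- t2 = 3
      rcases c3 with rfl | rfl | rfl | rfl | r3
      · exfalso
        rcases c4 with rfl | rfl | rfl | rfl | r4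
        all_goals first | (rw [r4] at hsq; norm_num at hsq) | (norm_num at hsq)
      · exfalso
        rcases c4 with rfl | rfl | rfl | rfl | r4
        all_goals first | (rw [r4] at hsq; norm_num at hsq) | (norm_num at hsq)
      · exfalso
        rcases c4 with rfl | rfl | rfl | rfl | r4
        all_goals first | (rw [r4] at hsq; norm_num at hsq; done) | (norm_num at hsq; done) | (norm_num at hsum; done)
      · rcases c4 with rfl | rfl | rfl | rfl | r4
        · exfalso; norm_num at hsq
        · exfalso; norm_num at hsq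
        · exfalso; norm_num at hsum
        · left
          apply ht.cancel (n := 2) (by norm_num)
          push_cast
          rw [hD2, mk_left]
          congr 1 <;> norm_num
        · exfalso; rw [r4] at hsq; norm_num at hsq
      · exfalso
        rcases c4 with rfl | rfl | rfl | rfl | r4
        all_goals first | (rw [r3, r4] at hsq; norm_num at hsq; done) | (rw [r3] at hsq; norm_num at hsq; done)
    · exfalso
      rcases c3 with rfl | rfl | rfl | rfl | r3 <;> rcases c4 with rfl | rfl | rfl | rfl | r4
      all_goals first | (norm_num at hsq; done) | (norm_num at hsum; done) | (rw [r3, r4] at hsq; norm_num at hsq; done) | (rw [r3] at hsq; norm_num at hsq; done) | (rw [r4] at hsq; norm_num at hsq; done)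
    · -- t2 = 1
      rcases c3 with rfl | rfl | rfl | rfl | r3
      · exfalso
        rcases c4 with rfl | rfl | rfl | rfl | r4
        all_goals first | (norm_num at hsq; done) | (norm_num at hsum; done) | (rw [r4] at hsq; norm_num at hsq; done)
      · exfalso
        rcases c4 with rfl | rfl | rfl | rfl | r4
        all_goals first | (norm_num at hsq; done) | (norm_num at hsum; done) | (rw [r4] at hsq; norm_num at hsq; done)
      · exfalso
        rcases c4 with rfl | rfl | rfl | rfl | r4
        all_goals first | (norm_num at hsq; done) | (norm_num at hsum; done) | (rw [r4] at hsq; norm_num at hsq; done)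
      · exfalso
        rcases c4 with rfl | rfl | rfl | rfl | r4
        all_goals first | (norm_num at hsq; done) | (norm_num at hsum; done) | (rw [r4] at hsq; norm_num at hsq; done)
      · rcases c4 with rfl | rfl | rfl | rfl | r4
        · exfalso; rw [r3] at hsq; norm_num at hsq
        · exfalso; rw [r3] at hsq; norm_num at hsq
        · exfalso; rw [r3] at hsq; norm_num at hsq
        · exfalso; rw [r3] at hsq; norm_num at hsq
        · have h5 : t4 = -t3 := by linear_combination (norm := (noncomm_ring; try norm_num)) hsum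
          refine Or.inr (Or.inr (Or.inr ⟨t3, r3, ct3, Or.inl ?_⟩))
          rw [hD2, h5]; simp
    · -- t2 = -1
      rcases c3 with rfl | rfl | rfl | rfl | r3
      · rcases c4 with rfl | rfl | rfl | rfl | r4
        · exfalso; norm_num at hsq
        · exfalso; norm_num at hsq
        · exfalso; norm_num at hsum
        · right; left
          apply ht.cancel (n := 2) (by norm_num)
          push_cast
          rw [hD2, mk_left]
          congr 1 <;> norm_num
        · exfalso; rw [r4] at hsq; norm_num at hsq
      · exfalso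
        rcases c4 with rfl | rfl | rfl | rfl | r4
        all_goals first | (norm_num at hsq; done) | (norm_num at hsum; done) | (rw [r4] at hsq; norm_num at hsq; done)
      · exfalso
        rcases c4 with rfl | rfl | rfl | rfl | r4
        all_goals first | (norm_num at hsq; done) | (norm_num at hsum; done) | (rw [r4] at hsq; norm_num at hsq; done)
      · rcases c4 with rfl | rfl | rfl | rfl | r4
        · right; right; left
          apply ht.cancel (n := 2) (by norm_num)
          push_cast
          rw [hD2, mk_left]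
          congr 1 <;> norm_num
        · exfalso; norm_num at hsum
        · exfalso; norm_num at hsq
        · exfalso; norm_num at hsq
        · exfalso; rw [r4] at hsq; norm_num at hsq
      · rcases c4 with rfl | rfl | rfl | rfl | r4
        · exfalso; rw [r3] at hsq; norm_num at hsq
        · exfalso; rw [r3] at hsq; norm_num at hsq
        · exfalso; rw [r3] at hsq; norm_num at hsq
        · exfalso; rw [r3] at hsq; norm_num at hsq
        · exfalso
          have h5 : t4 = 2 - t3 := by linear_combination (norm := (noncomm_ring; try norm_num)) hsum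
          rw [h5] at r4
          have h6 : t3 = 1 := by
            apply ht.cancel (n := 4) (by norm_num)
            push_cast
            linear_combination (norm := (noncomm_ring; try norm_num)) r3 - r4
          rw [h6] at r3; norm_num at r3
    · exact absurd r2' r2


/-- the relation between two vectors -/
def Rel (u v t : R) : Prop := u * v + v * u = -(2 * t) ∧ (u = v ∨ u = -v ∨ t = 1 ∨ t = -1 ∨ t * t = 5)

theorem Rel.val (ht : TF R) {u v t : R} (hu : u * u = -3) (h : Rel u v t) : Val t := by
  obtain ⟨h1, rfl | rfl | h | h | h⟩ := h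
  · left
    apply ht.cancel (n := 2) (by norm_num)
    push_cast
    rw [hu] at h1
    linear_combination (norm := (noncomm_ring; try norm_num)) h1
  · right; left
    apply ht.cancel (n := 2) (by norm_num)
    push_cast
    have hv : v * v = -3 := by rw [← hu]; simp
    rw [neg_mul, mul_neg, hv] at h1
    linear_combination (norm := (noncomm_ring; try norm_num)) h1
  · right; right; left; exact h
  · right; right; right; left; exact h
  · right; right; right; right; exact h

theorem uniq {i j : R} (h : Quat i j) (ht : TF R) [Nontrivial R] {D E E2 E3 Y f g r1 r2 r3 y1 : R}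
    (hf : f * f = 5) (hg : g * g = 5) (cf : Cen i j f) (cg : Cen i j g)
    (hD : 2 * D = mk i j 0 0 (f - 1) (-f - 1)) (hE : 2 * E = mk i j 0 0 (g - 1) (-g - 1))
    (hE2 : 2 * E2 = mk i j 0 (-g - 1) 0 (g - 1)) (hE3 : 2 * E3 = mk i j 0 (g - 1) (-g - 1) 0)
    (hY : 2 * Y = mk i j 0 0 (1 - f) (-f - 1))
    (R1 : Rel D E r1) (R2 : Rel D E2 r2) (R3 : Rel D E3 r3) (RY : Rel Y E y1)
    (Ysq : Y * Y = -3) (Esq : E * E = -3) : f = g := by
  have hch : CharZero R := ht.charZero
  have z0 : Cen i j (0 : R) := Cen.zero
  have c1 : Cen i j (1 : R) := Cen.one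
  have f1 : Cen i j (f - 1) := cf.sub c1
  have f2 : Cen i j (-f - 1) := cf.neg.sub c1
  have f3 : Cen i j (1 - f) := c1.sub cf
  have g1 : Cen i j (g - 1) := cg.sub c1
  have g2 : Cen i j (-g - 1) := cg.neg.sub c1
  have g3 : Cen i j (1 - g) := c1.sub cg
  have h22 : ∀ x y : R, (2 * x) * (2 * y) = 4 * (x * y) := by
    intro x y
    have := (Nat.cast_commute 2 x).eq
    push_cast at this
    rw [mul_assoc, ← mul_assoc x, ← this, mul_assoc 2 x, ← mul_assoc]
    norm_num
  have hne : ∀ (z : R) (n : ℤ), z * z = 5 → (n : R) = z → False := by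
    rintro z n hz rfl
    have h1 : ((n * n : ℤ) : R) = ((5 : ℤ) : R) := by push_cast; exact hz
    have h2 : n * n = 5 := Int.cast_injective h1
    have h3 : n < 3 := by nlinarith
    have h4 : -3 < n := by nlinarith
    interval_cases n <;> omega
  -- the three inner products
  have e1 : 4 * (-(2 * r1)) = mk i j (-((f - 1) * (g - 1) + (g - 1) * (f - 1)) - ((-f - 1) * (-g - 1) + (-g - 1) * (-f - 1)))
      0 0 0 := by
    rw [← R1.1, mul_add, ← h22, ← h22, hD, hE, mk_mul h z0 z0 g1 g2, mk_mul h z0 z0 f1 f2, mk_add]
    congr 1 <;> noncomm_ring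
  have e2 : 4 * (-(2 * r2)) = mk i j (-((-f - 1) * (g - 1) + (g - 1) * (-f - 1)))
      (f * g - g * f) (f * g - g * f) (f * g - g * f) := by
    rw [← R2.1, mul_add, ← h22, ← h22, hD, hE2, mk_mul h z0 g2 z0 g1, mk_mul h z0 z0 f1 f2, mk_add]
    congr 1 <;> noncomm_ring
  have e3 : 4 * (-(2 * r3)) = mk i j (-((f - 1) * (-g - 1) + (-g - 1) * (f - 1)))
      (g * f - f * g) (g * f - f * g) (g * f - f * g) := by
    rw [← R3.1, mul_add, ← h22, ← h22, hD, hE3, mk_mul h z0 g1 g2 z0, mk_mul h z0 z0 f1 f2, mk_add]
    congr 1 <;> noncomm_ring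
  have hr1 : 4 * r1 = f * g + g * f + 2 := by
    apply ht.cancel (n := 2) (by norm_num)
    push_cast
    simp only [mk, zero_mul, add_zero] at e1
    linear_combination (norm := (noncomm_ring; try norm_num)) -e1
  have hsum : r1 + r2 + r3 = 1 := by
    apply ht.cancel (n := 8) (by norm_num)
    push_cast
    have : 4 * (-(2 * r1)) + 4 * (-(2 * r2)) + 4 * (-(2 * r3)) = mk i j (-8) 0 0 0 := by
      rw [e1, e2, e3, mk_add, mk_add]
      congr 1 <;> (noncomm_ring; try norm_num)
    simp only [mk, zero_mul, add_zero] at this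
    linear_combination (norm := (noncomm_ring; try norm_num)) -this
  -- rational values of `r2`
  have cc2 : Cen i j (-((-f - 1) * (g - 1) + (g - 1) * (-f - 1))) := ((f2.mul g1).add (g1.mul f2)).neg
  have cc3 : Cen i j (-((f - 1) * (-g - 1) + (-g - 1) * (f - 1))) := ((f1.mul g2).add (g2.mul f1)).neg
  have ck : Cen i j (f * g - g * f) := (cf.mul cg).sub (cg.mul cf)
  have ck' : Cen i j (g * f - f * g) := (cg.mul cf).sub (cf.mul cg)
  have rat2 : ∀ n : ℤ, (n = 1 ∨ n = -1) → r2 = n → f = g := by
    intro n hn hr
    have cn : Cen i j (4 * (-(2 * (n : R)))) :=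
      (Cen.ofNat 4).mul ((Cen.ofNat 2).mul ⟨(Int.cast_commute n i).eq.symm, (Int.cast_commute n j).eq.symm⟩).neg
    have e2' : mk i j (4 * (-(2 * (n : R)))) 0 0 0 = mk i j (-((-f - 1) * (g - 1) + (g - 1) * (-f - 1)))
      (f * g - g * f) (f * g - g * f) (f * g - g * f) := by
      rw [← e2, hr]; simp [mk]
    obtain ⟨s1, s2, -, -⟩ := mk_inj h ht cn z0 z0 z0 cc2 ck ck ck e2'
    have s3 : g * f = f * g := (sub_eq_zero.1 s2.symm).symm
    have s4 : f * g = 1 - 4 * n + f - g := by
      apply ht.cancel (n := 2) (by norm_num)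
      push_cast
      linear_combination (norm := (noncomm_ring; try norm_num)) -s1 - s3
    have s5 : f = -(n * g) - 1 - n := by
      apply ht.cancel (n := 4) (by norm_num)
      push_cast
      have : f * g * g = (1 - 4 * n + f - g) * g := by rw [s4]
      rw [mul_assoc, hg] at this
      have h6 : (1 - 4 * (n : R) + f - g) * g = g - 4 * n * g + f * g - g * g := by noncomm_ring
      rw [h6, s4, hg] at this
      linear_combination (norm := (noncomm_ring; try norm_num)) this
    rcases hn with rfl | rfl
    · exfalso
      have h7 : f = -g - 2 := by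
        rw [s5]; push_cast; noncomm_ring; try norm_num
      rw [h7] at hf
      apply hne g (-1) hg
      apply ht.cancel (n := 4) (by norm_num)
      push_cast
      linear_combination (norm := (noncomm_ring; try norm_num)) hg - hf
    · rw [s5]; push_cast; noncomm_ring; try norm_num
  have rat3 : ∀ n : ℤ, (n = 1 ∨ n = -1) → r3 = n → f = g := by
    intro n hn hr
    have cn : Cen i j (4 * (-(2 * (n : R)))) :=
      (Cen.ofNat 4).mul ((Cen.ofNat 2).mul ⟨(Int.cast_commute n i).eq.symm, (Int.cast_commute n j).eq.symm⟩).neg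
    have e3' : mk i j (4 * (-(2 * (n : R)))) 0 0 0 = mk i j (-((f - 1) * (-g - 1) + (-g - 1) * (f - 1)))
      (g * f - f * g) (g * f - f * g) (g * f - f * g) := by
      rw [← e3, hr]; simp [mk]
    obtain ⟨s1, s2, -, -⟩ := mk_inj h ht cn z0 z0 z0 cc3 ck' ck' ck' e3'
    have s3 : g * f = f * g := (sub_eq_zero.1 s2.symm)
    have s4 : f * g = 1 - 4 * n - f + g := by
      apply ht.cancel (n := 2) (by norm_num)
      push_cast
      linear_combination (norm := (noncomm_ring; try norm_num)) -s1 - s3
    have s5 : f = -(n * g) + 1 + n := by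
      apply ht.cancel (n := 4) (by norm_num)
      push_cast
      have : f * g * g = (1 - 4 * n - f + g) * g := by rw [s4]
      rw [mul_assoc, hg] at this
      have h6 : (1 - 4 * (n : R) - f + g) * g = g - 4 * n * g - f * g + g * g := by noncomm_ring
      rw [h6, s4, hg] at this
      linear_combination (norm := (noncomm_ring; try norm_num)) this
    rcases hn with rfl | rfl
    · exfalso
      have h7 : f = -g + 2 := by
        rw [s5]; push_cast; noncomm_ring; try norm_num
      rw [h7] at hf
      apply hne g 1 hg
      apply ht.cancel (n := 4) (by norm_num)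
      push_cast
      linear_combination (norm := (noncomm_ring; try norm_num)) -hg + hf
    · rw [s5]; push_cast; noncomm_ring; try norm_num
  -- `E = ± D`-type coincidences
  have hinj := fun {a b c d a' b' c' d' : R} (ha : Cen i j a) (hb : Cen i j b) (hc : Cen i j c)
    (hd : Cen i j d) (ha' : Cen i j a') (hb' : Cen i j b') (hc' : Cen i j c') (hd' : Cen i j d') =>
    mk_inj h ht ha hb hc hd ha' hb' hc' hd'
  have r2sq : r2 * r2 = 5 ∨ f = g := by
    rcases R2.2 with h1 | h1 | h1 | h1 | h1
    · exfalso
      rw [h1, hE2] at hD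
      obtain ⟨-, -, s3, -⟩ := hinj z0 g2 z0 g1 z0 z0 f1 f2 hD
      exact hne f 1 hf (by push_cast; rw [eq_comm, ← sub_eq_zero]; exact s3.symm)
    · exfalso
      rw [h1, mul_neg, hE2, mk_neg] at hD
      obtain ⟨-, -, s3, -⟩ := hinj z0.neg g2.neg z0.neg g1.neg z0 z0 f1 f2 hD
      exact hne f 1 hf (by push_cast; rw [eq_comm, ← sub_eq_zero, ← s3, neg_zero])
    · right; exact rat2 1 (Or.inl rfl) (by rw [h1]; norm_num)
    · right; exact rat2 (-1) (Or.inr rfl) (by rw [h1]; norm_num)
    · left; exact h1
  have r3sq : r3 * r3 = 5 ∨ f = g := by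
    rcases R3.2 with h1 | h1 | h1 | h1 | h1
    · exfalso
      rw [h1, hE3] at hD
      obtain ⟨-, -, -, s3⟩ := hinj z0 g1 g2 z0 z0 z0 f1 f2 hD
      exact hne f (-1) hf (by push_cast; linear_combination (norm := (noncomm_ring; try norm_num)) -s3)
    · exfalso
      rw [h1, mul_neg, hE3, mk_neg] at hD
      obtain ⟨-, -, -, s3⟩ := hinj z0.neg g1.neg g2.neg z0.neg z0 z0 f1 f2 hD
      exact hne f (-1) hf (by push_cast; linear_combination (norm := (noncomm_ring; try norm_num)) -s3)
    · right; exact rat3 1 (Or.inl rfl) (by rw [h1]; norm_num)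
    · right; exact rat3 (-1) (Or.inr rfl) (by rw [h1]; norm_num)
    · left; exact h1
  rcases r2sq with r2sq | h1
  swap
  · exact h1
  rcases r3sq with r3sq | h1
  swap
  · exact h1
  rcases R1.2 with h1 | h1 | h1 | h1 | h1
  · -- D = E
    rw [h1, hE] at hD
    obtain ⟨-, -, s3, -⟩ := hinj z0 z0 g1 g2 z0 z0 f1 f2 hD
    exact (sub_left_inj.1 s3).symm
  · exfalso
    rw [h1, mul_neg, hE, mk_neg] at hD
    obtain ⟨-, -, s3, s4⟩ := hinj z0.neg z0.neg g1.neg g2.neg z0 z0 f1 f2 hD
    have : (4 : R) = 0 := by
      linear_combination (norm := (noncomm_ring; try norm_num)) s3 + s4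
    norm_num at this
  · -- r1 = 1: `Y` commutes with `E`
    exfalso
    have hfg : f * g + g * f = 2 := by
      rw [h1] at hr1
      linear_combination (norm := (noncomm_ring; try norm_num)) -hr1
    have hcomm : Y * E = E * Y := by
      apply ht.cancel (n := 4) (by norm_num)
      push_cast
      rw [← h22, ← h22, hY, hE, mk_mul h z0 z0 g1 g2, mk_mul h z0 z0 f3 f2]
      congr 1
      · noncomm_ring
      · linear_combination (norm := (noncomm_ring; try norm_num)) 2 * hfg
      · noncomm_ring
      · noncomm_ring
    have hy1 : y1 * y1 = 9 := by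
      have h2 : y1 = -(Y * E) := by
        apply ht.cancel (n := 2) (by norm_num)
        push_cast
        have := RY.1
        rw [← hcomm] at this
        linear_combination (norm := (noncomm_ring; try norm_num)) this
      rw [h2, neg_mul_neg]
      calc Y * E * (Y * E) = Y * (E * Y) * E := by noncomm_ring
        _ = (Y * Y) * (E * E) := by rw [← hcomm]; noncomm_ring
        _ = 9 := by rw [Ysq, Esq]; norm_num
    rcases RY.2 with h2 | h2 | h2 | h2 | h2
    · rw [h2, hE] at hY
      obtain ⟨-, -, s3, s4⟩ := hinj z0 z0 g1 g2 z0 z0 f3 f2 hY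
      exact hne f 1 hf (by
        apply ht.cancel (n := 2) (by norm_num)
        push_cast
        linear_combination (norm := (noncomm_ring; try norm_num)) -s3 - s4)
    · rw [h2, mul_neg, hE, mk_neg] at hY
      obtain ⟨-, -, s3, s4⟩ := hinj z0.neg z0.neg g1.neg g2.neg z0 z0 f3 f2 hY
      exact hne f (-1) hf (by
        apply ht.cancel (n := 2) (by norm_num)
        push_cast
        linear_combination (norm := (noncomm_ring; try norm_num)) -s3 - s4)
    · rw [h2] at hy1; norm_num at hy1
    · rw [h2] at hy1; norm_num at hy1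
    · rw [h2] at hy1; norm_num at hy1
  · exfalso
    have h2 : r3 = 2 - r2 := by
      rw [h1] at hsum
      linear_combination (norm := (noncomm_ring; try norm_num)) hsum
    rw [h2] at r3sq
    apply hne r2 1 r2sq
    apply ht.cancel (n := 4) (by norm_num)
    push_cast
    linear_combination (norm := (noncomm_ring; try norm_num)) r3sq - r2sq
  · exfalso
    -- three square roots of 5 with sum 1
    have a1 : r2 * r3 + r3 * r2 = -4 - 2 * r1 := by
      have : (r2 + r3) * (r2 + r3) = (1 - r1) * (1 - r1) := by
        have : r2 + r3 = 1 - r1 := by linear_combination (norm := (noncomm_ring; try norm_num)) hsum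
        rw [this]
      linear_combination (norm := (noncomm_ring; try norm_num)) this - r2sq - r3sq + h1
    have a2 : r1 * r3 + r3 * r1 = -4 - 2 * r2 := by
      have : (r1 + r3) * (r1 + r3) = (1 - r2) * (1 - r2) := by
        have : r1 + r3 = 1 - r2 := by linear_combination (norm := (noncomm_ring; try norm_num)) hsum
        rw [this]
      linear_combination (norm := (noncomm_ring; try norm_num)) this - h1 - r3sq + r2sq
    -- `r2` and `r1` commute, so do `r3`, `r2`
    have a3 : r2 * r1 = r1 * r2 := by
      apply ht.cancel (n := 2) (by norm_num)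
      push_cast
      have b1 : r2 * (r2 * r3 + r3 * r2) = (r2 * r3 + r3 * r2) * r2 := by
        have : r2 * (r2 * r3 + r3 * r2) - (r2 * r3 + r3 * r2) * r2 = (r2 * r2) * r3 - r3 * (r2 * r2) := by noncomm_ring
        rw [← sub_eq_zero, this, r2sq]
        have := (Nat.cast_commute 5 r3).eq
        push_cast at this
        rw [this, sub_self]
      rw [a1] at b1
      linear_combination (norm := (noncomm_ring; try norm_num)) -b1
    have a4 : r1 * r3 = r3 * r1 := by
      have : r3 = 1 - r1 - r2 := by linear_combination (norm := (noncomm_ring; try norm_num)) hsum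
      rw [this]
      linear_combination (norm := (noncomm_ring; try norm_num)) a3
    have a5 : r2 * r3 = r3 * r2 := by
      have : r3 = 1 - r1 - r2 := by linear_combination (norm := (noncomm_ring; try norm_num)) hsum
      rw [this]
      linear_combination (norm := (noncomm_ring; try norm_num)) -a3
    have a6 : r2 * r3 = -2 - r1 := by
      apply ht.cancel (n := 2) (by norm_num)
      push_cast
      linear_combination (norm := (noncomm_ring; try norm_num)) a1 + a5
    have a7 : r1 = 4 := by
      apply ht.cancel (n := 4) (by norm_num)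
      push_cast
      have b2 : (r2 * r3) * (r2 * r3) = 25 := by
        calc (r2 * r3) * (r2 * r3) = r2 * (r3 * r2) * r3 := by noncomm_ring
          _ = (r2 * r2) * (r3 * r3) := by rw [← a5]; noncomm_ring
          _ = 25 := by rw [r2sq, r3sq]; norm_num
      rw [a6] at b2
      linear_combination (norm := (noncomm_ring; try norm_num)) b2 - h1
    rw [a7] at h1
    norm_num at h1

end Cfsg.Agent.Lib.ZasLine
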