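import Cfsg.Agent.Lib.ZassInd
import Cfsg.Agent.Lib.CohCount

set_option autoImplicit false

/-!
# Feit's theorem on Zassenhaus groups: the coherent case (helper15)
-/

open Cfsg
open Cfsg.Agent.Lib.CharBasic
open scoped ComplexConjugate

namespace Cfsg.Agent.Lib.ZassFeit

open MulAction ZassBasic ZassKernel ZassOdd ZassInd TIFN

universe u v

variable {G : Type u} {Ω : Type v} [Group G] [MulAction G Ω]

/-- A Zassenhaus group with two-point stabilisers of odd order `e`, inverted by the elements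
swapping the points, and the Frobenius kernel `H` of `G_a`. -/
structure KerHyp (G : Type u) (Ω : Type v) [Group G] [MulAction G Ω] (e : ℕ) (a b : Ω)
    (H : Subgroup G) : Prop where
  hyp : Hyp G Ω e
  hab : a ≠ b
  hHa : H ≤ stabilizer G a
  hHcard : Nat.card H + 1 = Nat.card Ω
  hHfix : ∀ u ∈ H, u ≠ 1 → ∀ c : Ω, u • c = c → c = a

section basic
variable {e : ℕ} {a b : Ω} {H : Subgroup G} (K : KerHyp G Ω e a b H)
include K

theorem KerHyp.normalizer [Finite G] [Finite Ω] :
    Subgroup.normalizer (H : Set G) = stabilizer G a :=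
  normalizer_kernel K.hyp.zass a H K.hHa K.hHcard K.hHfix

theorem KerHyp.ti [Finite G] [Finite Ω] : ∀ g : G, g ∉ Subgroup.normalizer (H : Set G) →
    ∀ k ∈ H, g * k * g⁻¹ ∈ H → k = 1 := by
  intro g hg k hk hgk
  rw [K.normalizer] at hg
  exact kernel_ti a H K.hHa K.hHfix g hg k hk hgk

theorem KerHyp.centralizer_le [Finite G] [Finite Ω] : ∀ k ∈ H, k ≠ 1 →
    Subgroup.centralizer ({k} : Set G) ≤ H := by
  intro z hz hz1 g hg
  rw [Subgroup.mem_centralizer_singleton_iff] at hg
  rw [mem_kernel_iff K.hyp.zass a H K.hHa K.hHcard K.hHfix]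
  have hza : z • a = a := K.hHa hz
  have huniq := K.hHfix z hz hz1
  have hga : g • a = a := by
    apply huniq
    rw [← mul_smul, ← hg, mul_smul, hza]
  refine ⟨hga, ?_⟩
  intro hg1 x hxa hgx
  apply hg1
  have hzx : z • x ≠ x := fun h' => hxa (huniq x h')
  refine K.hyp.zass.2.2.1 g a x (z • x) (Ne.symm hxa) (Ne.symm hzx) ?_ hga hgx ?_
  · intro h'
    apply hxa
    apply MulAction.injective z
    change z • x = z • a
    rw [← h', hza]
  · rw [← mul_smul, hg, mul_smul, hgx]

theorem KerHyp.card_stab [Finite G] [Finite Ω] :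
    Nat.card (stabilizer G a) = Nat.card H * e := by
  rw [card_stab1 K.hyp.zass K.hab, K.hyp.card a b K.hab, ← K.hHcard, Nat.add_sub_cancel]

theorem KerHyp.card_group [Finite G] [Finite Ω] :
    Nat.card G = (Nat.card H + 1) * (Nat.card H * e) := by
  rw [K.hyp.card_group, ← K.hHcard, Nat.add_sub_cancel]

theorem KerHyp.index [Finite G] [Finite Ω] :
    (H.subgroupOf (Subgroup.normalizer (H : Set G))).index = e := by
  have h1 := (H.subgroupOf (Subgroup.normalizer (H : Set G))).card_mul_index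
  have h2 : Nat.card (H.subgroupOf (Subgroup.normalizer (H : Set G))) = Nat.card H :=
    Nat.card_congr (Subgroup.subgroupOfEquivOfLe Subgroup.le_normalizer).toEquiv
  rw [h2] at h1
  have h3 : Nat.card (Subgroup.normalizer (H : Set G)) = Nat.card H * e := by
    rw [K.normalizer, K.card_stab]
  rw [h3] at h1
  exact Nat.eq_of_mul_eq_mul_left Nat.card_pos h1

theorem KerHyp.two_le_card [Finite G] [Finite Ω] : 2 ≤ Nat.card H := by
  have h1 := three_le_card K.hyp.zass
  have h2 := K.hHcard
  omega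

theorem KerHyp.exists_E [Finite G] [Finite Ω] (x : G) (hx : x • a = a) :
    ∃ y : G, y • a = a ∧ y • b = b ∧ y⁻¹ * x ∈ H := by
  classical
  let F : (stabilizer G a ⊓ stabilizer G b : Subgroup G) × H → stabilizer G a :=
    fun p => ⟨p.1 * p.2, (stabilizer G a).mul_mem p.1.2.1 (K.hHa p.2.2)⟩
  have hF : Function.Injective F := by
    rintro ⟨y, u⟩ ⟨y', u'⟩ h
    have h1 : (y : G) * u = y' * u' := congrArg Subtype.val h
    have h2 : (y' : G)⁻¹ * y = u' * (u : G)⁻¹ := by
      rw [inv_mul_eq_iff_eq_mul, ← mul_assoc, ← h1, mul_assoc, mul_inv_cancel, mul_one]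
    have h3 : (y' : G)⁻¹ * y ∈ stabilizer G b :=
      (stabilizer G b).mul_mem ((stabilizer G b).inv_mem y'.2.2) y.2.2
    have h4 : (u' : G) * (u : G)⁻¹ ∈ H := H.mul_mem u'.2 (H.inv_mem u.2)
    have h5 : (u' : G) * (u : G)⁻¹ = 1 := by
      by_contra hne
      apply K.hab
      symm
      apply K.hHfix _ h4 hne
      rw [← h2]; exact h3
    have h6 : (u : G) = u' := (mul_inv_eq_one.mp h5).symm
    have h7 : (y : G) = y' := by
      rw [h6] at h1
      exact mul_right_cancel h1
    exact Prod.ext (Subtype.ext h7) (Subtype.ext h6)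
  have hcard : Nat.card ((stabilizer G a ⊓ stabilizer G b : Subgroup G) × H) =
      Nat.card (stabilizer G a) := by
    rw [Nat.card_prod, K.card_stab, K.hyp.card a b K.hab, mul_comm]
  obtain ⟨⟨y, u⟩, hyu⟩ := ((Nat.bijective_iff_injective_and_card F).mpr ⟨hF, hcard⟩).2 ⟨x, hx⟩
  have h1 : (y : G) * u = x := congrArg Subtype.val hyu
  refine ⟨y, y.2.1, y.2.2, ?_⟩
  rw [← h1, inv_mul_cancel_left]
  exact u.2

theorem KerHyp.exists_swap [Finite G] : ∃ s : G, s • a = b ∧ s • b = a :=
  exists_move K.hyp.zass.2.1 K.hab K.hab.symm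

theorem KerHyp.E_comm [Finite G] {x y : G} (hxa : x • a = a) (hxb : x • b = b)
    (hya : y • a = a) (hyb : y • b = b) : x * y = y * x := by
  obtain ⟨s, hs1, hs2⟩ := K.exists_swap
  have e1 := K.hyp.inv a b K.hab s hs1 hs2 x hxa hxb
  have e2 := K.hyp.inv a b K.hab s hs1 hs2 y hya hyb
  have e3 := K.hyp.inv a b K.hab s hs1 hs2 (x * y) (by rw [mul_smul, hya, hxa])
    (by rw [mul_smul, hyb, hxb])
  have e4 : s * (x * y) * s⁻¹ = (s * x * s⁻¹) * (s * y * s⁻¹) := by group
  rw [e4, e1, e2, mul_inv_rev] at e3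
  have := congrArg (fun z => z⁻¹) e3
  simp only [mul_inv_rev, inv_inv] at this
  exact this.symm

end basic

section chars

variable [Fintype G] [Finite Ω]
variable {e : ℕ} {a b : Ω} {H : Subgroup G} (K : KerHyp G Ω e a b H)
  (L : Subgroup G) (hL : L = stabilizer G a)
include K hL

omit [Fintype G] [Finite Ω] K in
theorem memL (x : G) : x ∈ L ↔ x • a = a := by rw [hL]; rfl

theorem KerHyp.normal : (H.subgroupOf L).Normal := by
  have hLn : L = Subgroup.normalizer (H : Set G) := by rw [hL, K.normalizer]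
  rw [hLn]
  exact normal_subgroupOf_normalizer' H

/-- Irreducible characters of `G_a` trivial on `H` are linear. -/
theorem KerHyp.linear {χ : L → ℂ} (hχ : IsIrrCharacter L χ)
    (htriv : ∀ k : L, (k : G) ∈ H → χ k = χ 1) : χ 1 = 1 := by
  have hn := K.normal L hL
  obtain ⟨ψ, hψ, h⟩ := hχ.deflate (H.subgroupOf L) (fun k hk => htriv k hk)
  rw [← h 1]
  have hcomm : ∀ p q : L ⧸ H.subgroupOf L, p * q = q * p := by
    have hrep : ∀ p : L ⧸ H.subgroupOf L, ∃ y : L, (y : G) • a = a ∧ (y : G) • b = b ∧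
        (y : L ⧸ H.subgroupOf L) = p := by
      intro p
      obtain ⟨x, rfl⟩ := QuotientGroup.mk_surjective p
      have hxa : (x : G) • a = a := (memL L hL _).mp x.2
      obtain ⟨y, hya, hyb, hyx⟩ := K.exists_E x hxa
      have hyL : y ∈ L := by rw [hL]; exact hya
      refine ⟨⟨y, hyL⟩, hya, hyb, ?_⟩
      rw [QuotientGroup.eq]
      exact hyx
    intro p q
    obtain ⟨x, hxa, hxb, rfl⟩ := hrep p
    obtain ⟨y, hya, hyb, rfl⟩ := hrep q
    rw [← QuotientGroup.mk_mul, ← QuotientGroup.mk_mul]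
    congr 1
    exact Subtype.ext (K.E_comm hxa hxb hya hyb)
  exact hψ.one_eq_one_of_comm hcomm

theorem KerHyp.irr_ind {μ : L → ℂ} (hμ : IsCharacter L μ) (hμ1 : μ 1 = 1)
    (h1 : ∀ u : L, (u : G) ∈ H → μ u = 1) (hne : μ ≠ fun _ => 1) :
    IsIrrCharacter G (indFun L μ) := by
  subst hL
  exact isIrr_indFun K.hyp K.hab H K.hHa K.hHcard K.hHfix μ hμ hμ1 h1 hne

omit [Finite Ω] in
theorem KerHyp.ind_apply {μ : L → ℂ} (hμ : IsClassFunction L μ) {u : L} (hu : (u : G) ∈ H)
    (hu1 : (u : G) ≠ 1) : indFun L μ u = μ u := by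
  subst hL
  exact indFun_kernel H K.hHa K.hHfix μ hμ hu hu1

omit [Fintype G] [Finite Ω] in
theorem KerHyp.indexL : L.index = Nat.card H + 1 := by
  rw [hL]
  have := isPretransitive K.hyp.zass
  rw [index_stabilizer_of_transitive, K.hHcard]

/-- the Steinberg character -/
theorem KerHyp.steinberg : IsIrrCharacter G (indFun L (fun _ => 1) - fun _ => 1) := by
  classical
  have : Fintype L := Fintype.ofFinite L
  have hone : IsIrrCharacter L (fun _ => (1 : ℂ)) := isIrrCharacter_one
  have honeG : IsIrrCharacter G (fun _ => (1 : ℂ)) := isIrrCharacter_one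
  obtain ⟨s, hs1, hs2⟩ := K.exists_swap
  have hdc : ∀ g : G, g ∉ L → ∃ m ∈ L, ∃ n ∈ L, g = m * s * n := by
    subst hL
    exact double_coset K.hyp.zass K.hab hs1
  have h1 := inner_indFun L s hdc hone.isClassFunction hone.isClassFunction
  have hsum : ∑ y : L, (fun _ : L => (1 : ℂ)) y *
      conj (extendByZero L (fun _ => 1) (s⁻¹ * y * s)) = (e : ℂ) := by
    have e1 : ∀ y : L, (fun _ : L => (1 : ℂ)) y *
        conj (extendByZero L (fun _ => 1) (s⁻¹ * y * s)) = if (y : G) • b = b then 1 else 0 := by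
      intro y
      have hmem : s⁻¹ * (y : G) * s ∈ L ↔ (y : G) • b = b := by
        rw [memL L hL, mul_smul, mul_smul, hs1, inv_smul_eq_iff, hs1]
      split_ifs with hy
      · rw [IndFun.extendByZero_mem _ _ (hmem.mpr hy)]
        simp
      · rw [IndFun.extendByZero_not_mem _ _ (fun h => hy (hmem.mp h))]
        simp
    rw [Finset.sum_congr rfl fun y _ => e1 y, ← Finset.sum_filter, Finset.sum_const,
      nsmul_eq_mul, mul_one, ← K.hyp.card a b K.hab, Nat.card_eq_fintype_card,
      ← Fintype.card_subtype, ← Nat.card_eq_fintype_card, ← Nat.card_eq_fintype_card]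
    congr 1
    subst hL
    exact Nat.card_congr
      { toFun := fun y => ⟨y.1.1, y.1.2, y.2⟩
        invFun := fun y => ⟨⟨y.1, y.2.1⟩, y.2.2⟩
        left_inv := fun y => rfl
        right_inv := fun y => rfl }
  rw [hsum, hone.classInner_self] at h1
  have hcL : Nat.card L = Nat.card H * e := by rw [hL]; exact K.card_stab
  have hH0 : (Nat.card H : ℂ) ≠ 0 := by exact_mod_cast Nat.card_pos.ne'
  have he0 : (e : ℂ) ≠ 0 := by
    have := K.hyp.pos
    exact_mod_cast this.ne'
  have h2 : classInner (indFun L (fun _ => 1)) (indFun L (fun _ => 1)) = 2 := by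
    rw [h1, hcL, K.card_group]
    push_cast
    field_simp
    ring
  have h3 : classInner (indFun L (fun _ => 1)) (fun _ => (1 : ℂ)) = 1 := by
    rw [IndFun.frobenius_reciprocity _ _ _ honeG.isClassFunction]
    exact hone.classInner_self
  have h4 : classInner (fun _ => (1 : ℂ)) (indFun L (fun _ => 1)) = 1 := by
    rw [← conj_classInner, h3, map_one]
  have h5 : classInner (fun _ : G => (1 : ℂ)) (fun _ => (1 : ℂ)) = 1 :=
    isIrrCharacter_one.classInner_self
  have h6 : classInner (indFun L (fun _ => 1) - fun _ => 1)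
      (indFun L (fun _ => 1) - fun _ => (1 : ℂ)) = 1 := by
    rw [classInner_sub_left, classInner_sub_right, classInner_sub_right, h2, h3, h4, h5]
    norm_num
  have hgen : IsGeneralizedCharacter G (indFun L (fun _ => 1) - fun _ => (1 : ℂ)) :=
    (hone.isCharacter.indFun L).isGeneralized.sub isIrrCharacter_one.isGeneralized
  rcases hgen.irr_or_neg_irr h6 with h | h
  · exact h
  · exfalso
    obtain ⟨n, hn0, hn⟩ := h.exists_degree
    simp only [Pi.neg_apply, Pi.sub_apply, IndFun.indFun_one, mul_one] at hn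
    rw [K.indexL L hL] at hn
    push_cast at hn
    have h7 : (Nat.card H : ℂ) + n = 0 := by rw [← hn]; ring
    have h8 : Nat.card H + n = 0 := by exact_mod_cast h7
    omega

end chars

end Cfsg.Agent.Lib.ZassFeit
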