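import Cfsg.Agent.Lib.ZassFeit
import Cfsg.Agent.Lib.CharCentral

set_option autoImplicit false

/-!
# Feit's theorem on Zassenhaus groups: the coherent case, continued (helper15)
-/

open Cfsg
open Cfsg.Agent.Lib.CharBasic
open scoped ComplexConjugate

namespace Cfsg.Agent.Lib.ZassFeit

open MulAction ZassBasic ZassKernel ZassOdd ZassInd TIFN

universe u v

section general

variable {G : Type u} [Group G]

/-- the sum of a function over a subgroup -/
noncomputable def Z (H : Subgroup G) [Fintype H] (φ : G → ℂ) : ℂ := ∑ x : H, φ x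

theorem Z_sum (H : Subgroup G) [Fintype H] {ι : Type v} (s : Finset ι) (c : ι → ℂ)
    (φ : ι → G → ℂ) : Z H (∑ i ∈ s, c i • φ i) = ∑ i ∈ s, c i * Z H (φ i) := by
  unfold Z
  simp only [Finset.sum_apply, Pi.smul_apply, smul_eq_mul, Finset.mul_sum]
  rw [Finset.sum_comm]

theorem Z_eq_of_const (H : Subgroup G) [Fintype H] {φ : G → ℂ} {c : ℂ}
    (h : ∀ x ∈ H, x ≠ 1 → φ x = c) : Z H φ = φ 1 + ((Nat.card H : ℂ) - 1) * c := by
  classical
  unfold Z
  have h1 : ∀ x ∈ Finset.univ.erase (1 : H), φ (x : G) = c := fun x hx =>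
    h (x : G) x.2 (fun h' => (Finset.ne_of_mem_erase hx) (Subtype.ext h'))
  rw [← Finset.add_sum_erase _ _ (Finset.mem_univ (1 : H)),
    Finset.sum_congr rfl h1, Finset.sum_const, nsmul_eq_mul,
    Finset.card_erase_of_mem (Finset.mem_univ _), Finset.card_univ, ← Nat.card_eq_fintype_card]
  have : 1 ≤ Nat.card H := Nat.card_pos
  push_cast [Nat.cast_sub this]
  rfl

theorem Z_nat (H : Subgroup G) [Fintype H] {φ : G → ℂ} (hφ : IsCharacter G φ) :
    ∃ n : ℕ, Z H φ = (Nat.card H : ℂ) * n := by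
  obtain ⟨n, hn⟩ := (hφ.restrict H).classInner_nat (isIrrCharacter_one (G := H)).isCharacter
  refine ⟨n, ?_⟩
  rw [← hn]
  unfold classInner Z
  have : (Nat.card H : ℂ) ≠ 0 := by exact_mod_cast Nat.card_pos.ne'
  rw [mul_inv_cancel_left₀ this]
  simp

/-- A constant value on `H \ 1` of a character is an integer. -/
theorem const_int [Finite G] (H : Subgroup G) (hH : 2 ≤ Nat.card H) {φ : G → ℂ}
    (hφ : IsCharacter G φ) {c : ℂ} (h : ∀ x ∈ H, x ≠ 1 → φ x = c) : ∃ z : ℤ, c = z := by
  classical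
  have : Fintype H := Fintype.ofFinite H
  obtain ⟨n, hn⟩ := Z_nat H hφ
  obtain ⟨d, hd⟩ := hφ.exists_degree
  rw [Z_eq_of_const H h, hd] at hn
  have hnt : Nontrivial H := by rw [← Finite.one_lt_card_iff_nontrivial]; omega
  obtain ⟨x, hx⟩ := exists_ne (1 : H)
  have hint : IsIntegral ℤ c := by
    rw [← h x x.2 (fun h' => hx (Subtype.ext h'))]
    obtain ⟨m, ρ, rfl⟩ := hφ
    exact CharValues.isIntegral_character ρ _
  have h1 : ((Nat.card H : ℂ) - 1) ≠ 0 := by
    have : (1 : ℕ) < Nat.card H := by omega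
    have h2 : ((1 : ℕ) : ℂ) ≠ (Nat.card H : ℂ) := by exact_mod_cast this.ne
    intro h3
    apply h2
    push_cast
    linear_combination -h3
  obtain ⟨z, hz⟩ := CharCentral.exists_int_of_isIntegral_rat hint
    ((((Nat.card H : ℚ) * n - d)) / ((Nat.card H : ℚ) - 1)) (by
      push_cast
      rw [eq_div_iff h1]
      linear_combination hn)
  exact ⟨z, hz⟩

end general

variable {G : Type u} {Ω : Type v} [Group G] [MulAction G Ω]
variable [Fintype G] [Finite Ω]
variable {e : ℕ} {a b : Ω} {H : Subgroup G} (K : KerHyp G Ω e a b H)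

section L
variable (L : Subgroup G) (hL : L = stabilizer G a)
include K hL

/-- Irreducible characters of `G` with `H`-fixed vectors. -/
theorem KerHyp.constituents [Fintype H] {ψ : G → ℂ} (hψ : IsIrrCharacter G ψ) (hZ : Z H ψ ≠ 0) :
    ψ = (fun _ => 1) ∨ ψ = (indFun L (fun _ => 1) - fun _ => 1) ∨
      ∃ μ : L → ℂ, IsCharacter L μ ∧ μ 1 = 1 ∧ (∀ u : L, (u : G) ∈ H → μ u = 1) ∧
        μ ≠ (fun _ => 1) ∧ ψ = indFun L μ := by
  classical
  have : Fintype L := Fintype.ofFinite L
  have hn := K.normal L hL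
  have hone : IsIrrCharacter L (fun _ => (1 : ℂ)) := isIrrCharacter_one
  have honeG : IsIrrCharacter G (fun _ => (1 : ℂ)) := isIrrCharacter_one
  have hHL : H ≤ L := by rw [hL]; exact K.hHa
  have hC : ∀ k ∈ H.subgroupOf L, k ≠ 1 →
      Subgroup.centralizer ({k} : Set L) ≤ H.subgroupOf L := by
    intro k hk hk1 c hc
    rw [Subgroup.mem_subgroupOf]
    apply K.centralizer_le k hk (fun h => hk1 (Subtype.ext h))
    rw [Subgroup.mem_centralizer_singleton_iff] at hc ⊢
    exact congrArg Subtype.val hc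
  obtain ⟨c, hc, hs⟩ := (hψ.isCharacter.restrict L).exists_coeff
  let ι : H → L := fun x => ⟨x, hHL x.2⟩
  have hzero : ∀ θ : IrrCharacter L, (∃ k : L, (k : G) ∈ H ∧ (θ : L → ℂ) k ≠ (θ : L → ℂ) 1) →
      ∑ x : H, (θ : L → ℂ) (ι x) = 0 := by
    intro θ hθ
    have h1 : classInner (θ : L → ℂ) (fun _ => 1) = 0 := by
      apply θ.2.classInner_eq_zero hone
      intro h
      obtain ⟨k, -, hk⟩ := hθ
      rw [h] at hk
      exact hk rfl
    have hN0 : (Nat.card L : ℂ) ≠ 0 := by exact_mod_cast Nat.card_pos.ne'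
    have h2 : ∑ x : L, (θ : L → ℂ) x = 0 := by
      unfold classInner at h1
      rw [mul_eq_zero] at h1
      rcases h1 with h1 | h1
      · exact absurd (inv_eq_zero.mp h1) hN0
      · simpa using h1
    rw [← h2]
    refine Finset.sum_of_injOn ι ?_ ?_ ?_ ?_
    · intro x _ y _ hxy
      exact Subtype.ext (congrArg (fun z : L => (z : G)) hxy)
    · intro x _
      exact Finset.mem_coe.mpr (Finset.mem_univ _)
    · intro x _ hx
      apply vanish_off (H.subgroupOf L) hC θ.2
      · obtain ⟨k, hk, hk1⟩ := hθ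
        exact ⟨k, hk, hk1⟩
      · intro hxH
        apply hx
        exact ⟨⟨x, hxH⟩, Finset.mem_coe.mpr (Finset.mem_univ _), rfl⟩
    · intro x _
      rfl
  obtain ⟨θ, hcθ, hθtriv⟩ : ∃ θ : IrrCharacter L, c θ ≠ 0 ∧
      ∀ k : L, (k : G) ∈ H → (θ : L → ℂ) k = (θ : L → ℂ) 1 := by
    by_contra hcon
    push Not at hcon
    apply hZ
    have h1 : Z H ψ = ∑ x : H, (fun y : L => ψ y) (ι x) := rfl
    rw [h1, hs]
    simp only [Finset.sum_apply, Pi.smul_apply, smul_eq_mul]
    rw [Finset.sum_comm]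
    apply Finset.sum_eq_zero
    intro θ _
    rw [← Finset.mul_sum]
    by_cases h0 : c θ = 0
    · rw [h0]; simp
    · rw [hzero θ (hcon θ h0), mul_zero]
  have hθ1 := K.linear L hL θ.2 hθtriv
  have hrec : classInner (indFun L (θ : L → ℂ)) ψ ≠ 0 := by
    rw [IndFun.frobenius_reciprocity _ _ _ hψ.isClassFunction]
    have h1 := hc θ
    intro h2
    rw [← conj_classInner, h2, map_zero] at h1
    exact hcθ (by exact_mod_cast h1.symm)
  by_cases h1 : (θ : L → ℂ) = fun _ => 1
  · rw [h1] at hrec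
    have h2 := K.steinberg L hL
    by_contra hcon
    push Not at hcon
    apply hrec
    have h3 : indFun L (fun _ => 1) = (fun _ => 1) + (indFun L (fun _ => 1) - fun _ => 1) := by
      abel
    rw [h3, classInner_add_left, honeG.classInner_eq_zero hψ (Ne.symm hcon.1),
      h2.classInner_eq_zero hψ (Ne.symm hcon.2.1), add_zero]
  · right; right
    have h2 : ∀ u : L, (u : G) ∈ H → (θ : L → ℂ) u = 1 := fun u hu => by
      rw [hθtriv u hu, hθ1]
    have h3 := K.irr_ind L hL θ.2.isCharacter hθ1 h2 h1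
    refine ⟨θ, θ.2.isCharacter, hθ1, h2, h1, ?_⟩
    by_contra hne
    exact hrec (h3.classInner_eq_zero hψ (Ne.symm hne))

/-- The value on `H \ 1` of the characters with `H`-fixed vectors. -/
theorem KerHyp.const_or [Fintype H] {ψ : G → ℂ} (hψ : IsIrrCharacter G ψ) (hZ : Z H ψ ≠ 0) :
    (∀ x ∈ H, x ≠ 1 → ψ x = 1) ∨ ψ = (indFun L (fun _ => 1) - fun _ => 1) := by
  have hHL : H ≤ L := by rw [hL]; exact K.hHa
  rcases K.constituents L hL hψ hZ with h | h | ⟨μ, hμ, hμ1, hμH, hμne, h⟩
  · left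
    intro x _ _
    rw [h]
  · exact Or.inr h
  · left
    intro x hx hx1
    rw [h, K.ind_apply L hL hμ.isClassFunction (u := ⟨x, hHL hx⟩) hx hx1, hμH _ hx]

omit [Finite Ω] in
theorem KerHyp.steinberg_apply {x : G} (hx : x ∈ H) (hx1 : x ≠ 1) :
    (indFun L (fun _ => 1) - fun _ => 1 : G → ℂ) x = 0 := by
  have hHL : H ≤ L := by rw [hL]; exact K.hHa
  have h1 := K.ind_apply L hL (μ := fun _ => 1) (isIrrCharacter_one (G := L)).isClassFunction
    (u := ⟨x, hHL hx⟩) hx hx1
  simp only [Pi.sub_apply]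
  rw [h1, sub_self]

/-- The bound for the dimension of `H`-fixed vectors. -/
theorem KerHyp.bound [Fintype H] {ψ : G → ℂ} (hψ : IsIrrCharacter G ψ) (hne : ψ ≠ fun _ => 1) :
    ((Nat.card H : ℝ) + 1) * (Z H ψ).re ≤ 2 * Nat.card H * (ψ 1).re := by
  by_cases hZ : Z H ψ = 0
  · rw [hZ]
    obtain ⟨n, -, hn⟩ := hψ.exists_degree
    rw [hn]
    simp only [Complex.zero_re, mul_zero, Complex.natCast_re]
    positivity
  · have hidx := K.indexL L hL
    rcases K.constituents L hL hψ hZ with h | h | ⟨μ, hμ, hμ1, hμH, hμne, h⟩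
    · exact absurd h hne
    · have h1 : Z H ψ = (Nat.card H : ℂ) := by
        rw [Z_eq_of_const H (c := 0) (fun x hx hx1 => by
          rw [h]; exact K.steinberg_apply L hL hx hx1), h]
        simp only [Pi.sub_apply, IndFun.indFun_one, hidx]
        push_cast
        ring
      have h2 : ψ 1 = (Nat.card H : ℂ) := by
        rw [h]
        simp only [Pi.sub_apply, IndFun.indFun_one, hidx]
        push_cast
        ring
      rw [h1, h2]
      simp only [Complex.natCast_re]
      have h3 : (1 : ℝ) ≤ Nat.card H := by exact_mod_cast Nat.card_pos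
      nlinarith
    · have hHL : H ≤ L := by rw [hL]; exact K.hHa
      have h2 : ψ 1 = (Nat.card H : ℂ) + 1 := by
        rw [h, IndFun.indFun_one, hμ1, hidx]
        push_cast
        ring
      have h1 : Z H ψ = 2 * (Nat.card H : ℂ) := by
        rw [Z_eq_of_const H (c := 1) (fun x hx hx1 => by
          rw [h, K.ind_apply L hL hμ.isClassFunction (u := ⟨x, hHL hx⟩) hx hx1, hμH _ hx]), h2]
        ring
      rw [h1, h2]
      simp only [Complex.mul_re, Complex.natCast_re, Complex.re_ofNat, Complex.im_ofNat,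
        Complex.natCast_im, Complex.add_re, Complex.one_re]
      nlinarith

end L

end Cfsg.Agent.Lib.ZassFeit
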