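import Cfsg.Agent.Lib.ZassFeit2

set_option autoImplicit false

/-!
# Feit's theorem on Zassenhaus groups: the coherent case, conclusion (helper15)
-/

open Cfsg
open Cfsg.Agent.Lib.CharBasic
open scoped ComplexConjugate

namespace Cfsg.Agent.Lib.ZassFeit

open MulAction ZassBasic ZassKernel ZassOdd ZassInd TIFN

universe u v

theorem sum_incl {G : Type u} [Group G] {H L : Subgroup G} [Fintype H] [Fintype L] (hHL : H ≤ L)
    (F : L → ℂ) (hF : ∀ x : L, (x : G) ∉ H → F x = 0) :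
    ∑ x : H, F ⟨x, hHL x.2⟩ = ∑ x : L, F x := by
  classical
  refine Finset.sum_of_injOn (fun x : H => (⟨x, hHL x.2⟩ : L)) ?_ ?_ ?_ ?_
  · intro x _ y _ hxy
    exact Subtype.ext (congrArg (fun z : L => (z : G)) hxy)
  · intro x _
    exact Finset.mem_coe.mpr (Finset.mem_univ _)
  · intro x _ hx
    apply hF
    intro hxH
    apply hx
    exact ⟨⟨x, hxH⟩, Finset.mem_coe.mpr (Finset.mem_univ _), rfl⟩
  · intro x _
    rfl

theorem ne_neg_of_irr {G : Type u} [Group G] {φ ψ : G → ℂ} (hφ : IsIrrCharacter G φ)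
    (hψ : IsIrrCharacter G ψ) : φ ≠ -ψ := by
  intro h
  obtain ⟨n, hn0, hn⟩ := hφ.exists_degree
  obtain ⟨m, hm0, hm⟩ := hψ.exists_degree
  have h1 := congrFun h 1
  rw [Pi.neg_apply, hn, hm] at h1
  have h2 : ((n + m : ℕ) : ℂ) = 0 := by
    push_cast
    rw [h1]; ring
  have h3 : n + m = 0 := by exact_mod_cast h2
  omega

variable {G : Type u} {Ω : Type v} [Group G] [MulAction G Ω]
variable [Fintype G] [Finite Ω]
variable {e : ℕ} {a b : Ω} {H : Subgroup G} (K : KerHyp G Ω e a b H)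
include K

theorem KerHyp.not_coherent [Fintype (Subgroup.normalizer (H : Set G))]
    {S : Set ((Subgroup.normalizer (H : Set G)) → ℂ)}
    {star : ((Subgroup.normalizer (H : Set G)) → ℂ) → (G → ℂ)} (Hc : CohHyp H S star)
    (htwo : ∃ χ ∈ S, ∃ ξ ∈ S, χ ≠ ξ) (hdeg : ∃ χ ∈ S, χ 1 = (e : ℂ))
    (hcl : e ≤ Nat.card {C : ConjClasses G // ∀ g : G, ConjClasses.mk g = C → g ∉ H})
    (he3 : 3 ≤ e) (hbig : 2 * e < Nat.card H - 1) : False := by
  classical
  have : Fintype H := Fintype.ofFinite H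
  have hL := K.normalizer
  have h2H := K.two_le_card
  obtain ⟨f, hinj, hf⟩ := Hc.exists_exceptional
  have htwo' := htwo
  obtain ⟨χ₀, hχ₀, -⟩ := htwo
  obtain ⟨m, hm⟩ := Hc.exists_int ⟨χ₀, hχ₀⟩
  have hnt : Nontrivial H := by rw [← Finite.one_lt_card_iff_nontrivial]; omega
  obtain ⟨⟨k, hk⟩, hk1'⟩ := exists_ne (1 : H)
  have hk1 : k ≠ 1 := fun h => hk1' (Subtype.ext h)
  have hHN : H ≤ Subgroup.normalizer (H : Set G) := Subgroup.le_normalizer
  have hsum := Hc.sum_compl hinj hf hm ⟨k, hHN hk⟩ hk (fun h => hk1 (congrArg Subtype.val h))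
  have hcard := Hc.le_card_compl hinj
  rw [K.index] at hsum
  set X := ((nontriv (H.subgroupOf (Subgroup.normalizer (H : Set G)))).image f)ᶜ with hX
  have hXconst : ∀ ψ ∈ X, ∀ x ∈ H, x ≠ 1 → (ψ : G → ℂ) x = (ψ : G → ℂ) k := by
    intro ψ hψ x hx hx1
    by_contra hne
    obtain ⟨χ, hχS, hχ⟩ := (Hc.exceptional_iff htwo' ψ.2).mpr
      ⟨x, hx, k, hk, hx1, hk1, hne⟩
    rw [hX, Finset.mem_compl] at hψ
    apply hψ
    rw [Finset.mem_image]
    have hmem : (⟨χ, Hc.irr hχS⟩ : IrrCharacter (Subgroup.normalizer (H : Set G))) ∈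
        nontriv (H.subgroupOf (Subgroup.normalizer (H : Set G))) := Hc.mem_iff'.mpr hχS
    refine ⟨_, hmem, ?_⟩
    apply Subtype.ext
    rcases hf _ hmem with h | h <;> rcases hχ with h' | h'
    · rw [h, h']
    · exfalso
      apply ne_neg_of_irr ψ.2 (f _).2
      rw [h, h']
    · exfalso
      apply ne_neg_of_irr (f _).2 ψ.2
      rw [h, h']
    · rw [h, h']
  have hXint : ∀ ψ ∈ X, ∃ z : ℤ, (ψ : G → ℂ) k = z := fun ψ hψ =>
    const_int H h2H ψ.2.isCharacter (hXconst ψ hψ)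
  have hX0 : ∀ ψ ∈ X, (ψ : G → ℂ) ≠ (indFun (Subgroup.normalizer (H : Set G)) (fun _ => 1) -
      fun _ => 1) → (ψ : G → ℂ) k ≠ 0 := by
    intro ψ hψ hne h0
    have h1 := Z_eq_of_const H (hXconst ψ hψ)
    rw [h0, mul_zero, add_zero] at h1
    have h2 : Z H (ψ : G → ℂ) ≠ 0 := by
      rw [h1]; exact ψ.2.one_ne_zero
    rcases K.const_or _ hL ψ.2 h2 with h3 | h3
    · rw [h3 k hk hk1] at h0
      exact one_ne_zero h0
    · exact hne h3
  -- the lower bound
  have hlow : ((X.card : ℝ) - 1) ≤ ∑ ψ ∈ X, ((ψ : G → ℂ) k * conj ((ψ : G → ℂ) k)).re := by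
    have hle : ∀ ψ ∈ X, (1 : ℝ) - (if (ψ : G → ℂ) =
        (indFun (Subgroup.normalizer (H : Set G)) (fun _ => 1) - fun _ => 1) then 1 else 0) ≤
        ((ψ : G → ℂ) k * conj ((ψ : G → ℂ) k)).re := by
      intro ψ hψ
      obtain ⟨z, hz⟩ := hXint ψ hψ
      have h4 : ((ψ : G → ℂ) k * conj ((ψ : G → ℂ) k)).re = (z : ℝ) ^ 2 := by
        rw [hz, map_intCast, ← Int.cast_mul, Complex.intCast_re]
        push_cast
        ring
      rw [h4]
      split_ifs with h5
      · rw [sub_self]; positivity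
      · have h6 := hX0 ψ hψ h5
        have h7 : z ≠ 0 := by
          rintro rfl
          apply h6
          rw [hz]; simp
        have h8 : 1 ≤ z ^ 2 := by
          have := sq_nonneg z
          have h9 : z ^ 2 ≠ 0 := pow_ne_zero 2 h7
          omega
        have h9 : (1 : ℝ) ≤ (z : ℝ) ^ 2 := by exact_mod_cast h8
        linarith
    refine le_trans ?_ (Finset.sum_le_sum hle)
    rw [Finset.sum_sub_distrib, Finset.sum_const, nsmul_eq_mul, mul_one, ← Finset.sum_filter,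
      Finset.sum_const, nsmul_eq_mul, mul_one]
    have h10 : (X.filter (fun ψ : IrrCharacter G => (ψ : G → ℂ) =
        (indFun (Subgroup.normalizer (H : Set G)) (fun _ => 1) - fun _ => 1))).card ≤ 1 := by
      rw [Finset.card_le_one]
      intro p hp q hq
      rw [Finset.mem_filter] at hp hq
      exact Subtype.ext (hp.2.trans hq.2.symm)
    have h11 : ((X.filter (fun ψ : IrrCharacter G => (ψ : G → ℂ) =
        (indFun (Subgroup.normalizer (H : Set G)) (fun _ => 1) - fun _ => 1))).card : ℝ) ≤ 1 := by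
      exact_mod_cast h10
    linarith
  rw [← Complex.re_sum, hsum] at hlow
  have hre : ((e : ℂ) + 2 * m - m ^ 2 * ((Nat.card H : ℂ) - 1) / (e : ℂ)).re =
      (e : ℝ) + 2 * m - m ^ 2 * ((Nat.card H : ℝ) - 1) / e := by
    have : ((e : ℂ) + 2 * m - m ^ 2 * ((Nat.card H : ℂ) - 1) / (e : ℂ)) =
        (((e : ℝ) + 2 * m - m ^ 2 * ((Nat.card H : ℝ) - 1) / e : ℝ) : ℂ) := by
      push_cast; rfl
    rw [this, Complex.ofReal_re]
  rw [hre] at hlow
  have hXc : (e : ℝ) + 1 ≤ X.card := by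
    have : e + 1 ≤ X.card := by omega
    exact_mod_cast this
  have hepos : (0 : ℝ) < e := by
    have : 0 < e := by omega
    exact_mod_cast this
  have hH : (2 * (e : ℝ)) < (Nat.card H : ℝ) - 1 := by
    have h1 : 2 * e + 1 < Nat.card H := by omega
    have h2 : ((2 * e + 1 : ℕ) : ℝ) < Nat.card H := by exact_mod_cast h1
    push_cast at h2
    linarith
  have hm0 : m = 0 := by
    by_contra hm0
    have h1 : (m : ℝ) ^ 2 * ((Nat.card H : ℝ) - 1) / e ≤ 2 * m := by linarith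
    rw [div_le_iff₀ hepos] at h1
    have h2 : (m : ℝ) ≤ (m : ℝ) ^ 2 := by
      have h3 : m ≤ m ^ 2 := by nlinarith [sq_nonneg m, Int.one_le_abs hm0, abs_mul_abs_self m, le_abs_self m]
      exact_mod_cast h3
    have h3 : (0 : ℝ) < (m : ℝ) ^ 2 := by positivity
    nlinarith
  subst hm0
  -- the character of degree `e`
  obtain ⟨χ, hχS, hχe⟩ := hdeg
  have hχ := Hc.irr hχS
  have hstar : ∀ x : Subgroup.normalizer (H : Set G), (x : G) ∈ H → x ≠ 1 →
      star χ x = χ x := by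
    intro x hx hx1
    have := hm χ hχS x hx hx1
    rw [Int.cast_zero, zero_mul, zero_div, sub_eq_zero] at this
    exact this
  have hmem : (⟨χ, hχ⟩ : IrrCharacter (Subgroup.normalizer (H : Set G))) ∈
      nontriv (H.subgroupOf (Subgroup.normalizer (H : Set G))) := Hc.mem_iff'.mpr hχS
  set ψ := f ⟨χ, hχ⟩ with hψ
  have hψstar := hf _ hmem
  rw [← hψ] at hψstar
  change (ψ : G → ℂ) = star χ ∨ (ψ : G → ℂ) = -star χ at hψstar
  have hZ0 : Z H (ψ : G → ℂ) = 0 := by
    by_contra hne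
    obtain ⟨x, hx, y, hy, hx1, hy1, hxy⟩ :=
      (Hc.exceptional_iff htwo' ψ.2).mp ⟨χ, hχS, hψstar⟩
    apply hxy
    rcases K.const_or _ hL ψ.2 hne with h | h
    · rw [h x hx hx1, h y hy hy1]
    · rw [h, K.steinberg_apply _ hL hx hx1, K.steinberg_apply _ hL hy hy1]
  have hsumχ : ∑ x : H, χ ⟨x, hHN x.2⟩ = 0 := by
    rw [sum_incl hHN χ (fun x hx => Hc.vanish hχS hx)]
    have h1 := Hc.sum_nontriv_eq_zero hχS
    have hN0 : (Nat.card (Subgroup.normalizer (H : Set G)) : ℂ) ≠ 0 := by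
      exact_mod_cast Nat.card_pos.ne'
    unfold classInner at h1
    rw [mul_eq_zero] at h1
    rcases h1 with h1 | h1
    · exact absurd (inv_eq_zero.mp h1) hN0
    · have h2 := congrArg conj h1
      rw [map_sum, map_zero] at h2
      simpa using h2
  obtain ⟨d, hd0, hd⟩ := ψ.2.exists_degree
  have hsplit : ∀ F : H → ℂ, ∑ x : H, F x = F 1 + ∑ x ∈ Finset.univ.erase (1 : H), F x :=
    fun F => (Finset.add_sum_erase _ _ (Finset.mem_univ (1 : H))).symm
  have hψeq : (ψ : G → ℂ) = star χ ∧ (ψ : G → ℂ) 1 = e := by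
    unfold Z at hZ0
    rw [hsplit] at hZ0 hsumχ
    have hχ1 : χ ⟨((1 : H) : G), hHN (1 : H).2⟩ = e := hχe
    rw [hχ1] at hsumχ
    rcases hψstar with h | h
    · refine ⟨h, ?_⟩
      have h1 : ∑ x ∈ Finset.univ.erase (1 : H), (ψ : G → ℂ) x =
          ∑ x ∈ Finset.univ.erase (1 : H), χ ⟨x, hHN x.2⟩ := by
        apply Finset.sum_congr rfl
        intro x hx
        rw [h]
        exact hstar ⟨x, hHN x.2⟩ x.2 (fun h' => (Finset.ne_of_mem_erase hx)
          (Subtype.ext (congrArg (fun z : Subgroup.normalizer (H : Set G) => (z : G)) h')))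
      rw [h1] at hZ0
      rw [Subgroup.coe_one] at hZ0
      linear_combination hZ0 - hsumχ
    · exfalso
      have h1 : ∑ x ∈ Finset.univ.erase (1 : H), (ψ : G → ℂ) x =
          -∑ x ∈ Finset.univ.erase (1 : H), χ ⟨x, hHN x.2⟩ := by
        rw [← Finset.sum_neg_distrib]
        apply Finset.sum_congr rfl
        intro x hx
        rw [h, Pi.neg_apply]
        congr 1
        exact hstar ⟨x, hHN x.2⟩ x.2 (fun h' => (Finset.ne_of_mem_erase hx)
          (Subtype.ext (congrArg (fun z : Subgroup.normalizer (H : Set G) => (z : G)) h')))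
      rw [h1] at hZ0
      rw [Subgroup.coe_one, hd] at hZ0
      have h2 : ((d + e : ℕ) : ℂ) = 0 := by
        push_cast
        linear_combination hZ0 + hsumχ
      have h3 : d + e = 0 := by exact_mod_cast h2
      omega
  obtain ⟨hψ1, hψe⟩ := hψeq
  have hψH : ∀ x : H, (ψ : G → ℂ) x = χ ⟨x, hHN x.2⟩ := by
    intro x
    by_cases hx : x = 1
    · subst hx
      change (ψ : G → ℂ) 1 = _
      rw [hψe]
      exact hχe.symm
    · rw [hψ1]
      exact hstar ⟨x, hHN x.2⟩ x.2 (fun h' => hx (Subtype.ext (congrArg (fun z : Subgroup.normalizer (H : Set G) => (z : G)) h')))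
  -- the product
  set Φ : G → ℂ := fun g => (ψ : G → ℂ) g * conj ((ψ : G → ℂ) g) with hΦ
  have hΦc : IsCharacter G Φ := ψ.2.isCharacter.mul ψ.2.isCharacter.conj
  obtain ⟨c, hc, hs⟩ := hΦc.exists_coeff
  have hZΦ : Z H Φ = (Nat.card H : ℂ) * e := by
    have h1 : Z H Φ = ∑ x : H, (fun y => χ y * conj (χ y)) (⟨x, hHN x.2⟩ :
        Subgroup.normalizer (H : Set G)) := by
      unfold Z
      apply Finset.sum_congr rfl
      intro x _
      simp only [hΦ, hψH x]
    rw [h1, sum_incl hHN (fun y => χ y * conj (χ y)) (fun x hx => by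
      simp only [Hc.vanish hχS hx, zero_mul])]
    have h2 := hχ.classInner_self
    have hN0 : (Nat.card (Subgroup.normalizer (H : Set G)) : ℂ) ≠ 0 := by
      exact_mod_cast Nat.card_pos.ne'
    unfold classInner at h2
    rw [inv_mul_eq_iff_eq_mul₀ hN0, mul_one] at h2
    rw [h2, K.normalizer, K.card_stab]
    push_cast
    rfl
  set one : IrrCharacter G := ⟨fun _ => 1, isIrrCharacter_one⟩ with hone
  have hc1 : c one = 1 := by
    have h1 := hc one
    have h2 : classInner Φ (one : G → ℂ) = classInner (ψ : G → ℂ) (ψ : G → ℂ) := by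
      unfold classInner
      congr 1
      apply Finset.sum_congr rfl
      intro x _
      simp [hΦ, hone]
    rw [h2, ψ.2.classInner_self] at h1
    exact_mod_cast h1.symm
  have hΦ1 : Φ 1 = (e : ℂ) ^ 2 := by
    simp only [hΦ, hψe, Complex.conj_natCast]
    ring
  have hreal : ∀ θ : IrrCharacter G, ∃ r : ℕ, (θ : G → ℂ) 1 = r := fun θ => by
    obtain ⟨n, -, hn⟩ := θ.2.exists_degree
    exact ⟨n, hn⟩
  have hZs : (Z H Φ).re = ∑ θ : IrrCharacter G, (c θ : ℝ) * (Z H (θ : G → ℂ)).re := by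
    conv_lhs => rw [hs]
    rw [Z_sum, Complex.re_sum]
    apply Finset.sum_congr rfl
    intro θ _
    rw [← Complex.ofReal_natCast, Complex.re_ofReal_mul]
  have h1s : (Φ 1).re = ∑ θ : IrrCharacter G, (c θ : ℝ) * ((θ : G → ℂ) 1).re := by
    conv_lhs => rw [hs]
    simp only [Finset.sum_apply, Pi.smul_apply, smul_eq_mul]
    rw [Complex.re_sum]
    apply Finset.sum_congr rfl
    intro θ _
    rw [← Complex.ofReal_natCast, Complex.re_ofReal_mul]
  rw [← Finset.add_sum_erase _ _ (Finset.mem_univ one), hc1, Nat.cast_one, one_mul] at hZs h1s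
  have hZone : (Z H (one : G → ℂ)).re = Nat.card H := by
    have h1 : Z H (one : G → ℂ) = (Nat.card H : ℂ) := by
      rw [Z_eq_of_const H (c := 1) (fun x _ _ => rfl)]
      change (1 : ℂ) + _ = _
      ring
    rw [h1, Complex.natCast_re]
  have hone1 : ((one : G → ℂ) 1).re = 1 := by
    change (1 : ℂ).re = 1
    exact Complex.one_re
  have hle : ((Nat.card H : ℝ) + 1) * ∑ θ ∈ Finset.univ.erase one, (c θ : ℝ) *
      (Z H (θ : G → ℂ)).re ≤ 2 * Nat.card H * ∑ θ ∈ Finset.univ.erase one, (c θ : ℝ) *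
        ((θ : G → ℂ) 1).re := by
    rw [Finset.mul_sum, Finset.mul_sum]
    apply Finset.sum_le_sum
    intro θ hθ
    have h1 := K.bound _ hL θ.2 (fun h => (Finset.ne_of_mem_erase hθ) (Subtype.ext h))
    have h2 : (0 : ℝ) ≤ c θ := Nat.cast_nonneg _
    calc ((Nat.card H : ℝ) + 1) * ((c θ : ℝ) * (Z H (θ : G → ℂ)).re) =
        (c θ : ℝ) * (((Nat.card H : ℝ) + 1) * (Z H (θ : G → ℂ)).re) := by ring
      _ ≤ (c θ : ℝ) * (2 * Nat.card H * ((θ : G → ℂ) 1).re) :=
        mul_le_mul_of_nonneg_left h1 h2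
      _ = 2 * Nat.card H * ((c θ : ℝ) * ((θ : G → ℂ) 1).re) := by ring
  have hZΦr : (Z H Φ).re = (Nat.card H : ℝ) * e := by
    rw [hZΦ, ← Nat.cast_mul, Complex.natCast_re]
    push_cast
    rfl
  have hΦ1r : (Φ 1).re = (e : ℝ) ^ 2 := by
    rw [hΦ1, ← Nat.cast_pow, Complex.natCast_re]
    push_cast
    rfl
  rw [hZΦr, hZone] at hZs
  rw [hΦ1r, hone1] at h1s
  have e1 : ∑ θ ∈ Finset.univ.erase one, (c θ : ℝ) * (Z H (θ : G → ℂ)).re =
      (Nat.card H : ℝ) * e - Nat.card H := by linarith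
  have e2 : ∑ θ ∈ Finset.univ.erase one, (c θ : ℝ) * ((θ : G → ℂ) 1).re =
      (e : ℝ) ^ 2 - 1 := by linarith
  rw [e1, e2] at hle
  have hHpos : (0 : ℝ) < Nat.card H := by
    exact_mod_cast (Nat.card_pos : 0 < Nat.card H)
  have he1 : (0 : ℝ) < (e : ℝ) - 1 := by
    have : (3 : ℝ) ≤ e := by exact_mod_cast he3
    linarith
  have h5 : ((Nat.card H : ℝ) * ((e : ℝ) - 1)) * ((Nat.card H : ℝ) + 1) ≤
      ((Nat.card H : ℝ) * ((e : ℝ) - 1)) * (2 * (e + 1)) := by
    nlinarith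
  have h6 := le_of_mul_le_mul_left h5 (by positivity)
  linarith

end Cfsg.Agent.Lib.ZassFeit
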