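import Cfsg.Agent.Lib.ZassFeit3
import Cfsg.Agent.Lib.IrrCoh4

set_option autoImplicit false

/-!
# Feit's theorem on Zassenhaus groups: simple groups (helper15)
-/

open Cfsg
open Cfsg.Agent.Lib.CharBasic
open scoped ComplexConjugate

namespace Cfsg.Agent.Lib.ZassFeit

open MulAction ZassBasic ZassKernel ZassOdd ZassInd TIFN

universe u v

/-- A nontrivial solvable group has a nontrivial linear character. -/
theorem exists_linear_ne {X : Type u} [Group X] [Finite X] [Nontrivial X]
    (hs : Group.IsSolvable X) : ∃ θ : X → ℂ, IsIrrCharacter X θ ∧ θ 1 = 1 ∧ θ ≠ fun _ => 1 := by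
  classical
  have := Fintype.ofFinite X
  have hlt : commutator X < ⊤ := Group.IsSolvable.commutator_lt_top_of_nontrivial X
  have hnt : Nontrivial (X ⧸ commutator X) := QuotientGroup.nontrivial_iff.mpr hlt.ne
  have hcomm : ∀ p q : X ⧸ commutator X, p * q = q * p := by
    intro p q
    exact (inferInstance : CommGroup (Abelianization X)).mul_comm p q
  obtain ⟨ψ, hψ⟩ : ∃ ψ : IrrCharacter (X ⧸ commutator X),
      (ψ : X ⧸ commutator X → ℂ) ≠ fun _ => 1 := by
    by_contra hcon
    push Not at hcon
    obtain ⟨x, hx⟩ := exists_ne (1 : X ⧸ commutator X)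
    have := (isConj_iff_forall_irr x 1).mpr (fun χ => by rw [hcon χ])
    exact hx (isConj_one_left.mp this)
  refine ⟨fun g => (ψ : X ⧸ commutator X → ℂ) (g : X ⧸ commutator X), ψ.2.inflate _, ?_, ?_⟩
  · exact ψ.2.one_eq_one_of_comm hcomm
  · intro h
    apply hψ
    funext p
    obtain ⟨g, rfl⟩ := QuotientGroup.mk_surjective p
    exact congrFun h g

/-- Feit–Sibley trichotomy, with the non-commutativity. -/
theorem tri {G : Type u} [Group G] [Fintype G] (H L : Subgroup G) [Fintype L]
    (hH1 : H ≠ ⊥) (hnil : Group.IsNilpotent H) (hTI : IsTISubset (H : Set G))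
    (hN : Subgroup.normalizer (H : Set G) = L) (hlt : H < L)
    (hC : ∀ k ∈ H, k ≠ 1 → Subgroup.centralizer ({k} : Set G) ≤ H) :
    IsCoherent {χ : L → ℂ | IsIrrCharacter L χ ∧ ∃ x : L, (x : G) ∈ H ∧ χ x ≠ χ 1} {1}ᶜ
      (fun α => indFun L α) ∨
    Nat.card H = (H.subgroupOf L).index + 1 ∨
    (IsPGroup 2 H ∧ (∃ u v : H, u * v ≠ v * u) ∧
      (commutator H).index ≤ 4 * (H.subgroupOf L).index ^ 2 + 1) := by
  classical
  have hti := IrrCoh.ti_feit H L hH1 hnil hTI hN hlt hC
  set K : Subgroup L := H.subgroupOf L with hK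
  have hHL : H ≤ L := hlt.le
  have hKn : K.Normal := by
    constructor
    intro k hk x
    have hx : (x : G) ∈ Subgroup.normalizer (H : Set G) := by rw [hN]; exact x.2
    exact (Subgroup.mem_normalizer_iff.mp hx k).mp hk
  have hC' : ∀ k ∈ K, k ≠ 1 → Subgroup.centralizer ({k} : Set L) ≤ K := by
    intro k hk hk1 x hx
    apply hC (k : G) hk (fun h => hk1 (Subtype.ext h))
    have := Subgroup.mem_centralizer_singleton_iff.mp hx
    exact Subgroup.mem_centralizer_singleton_iff.mpr (congrArg Subtype.val this)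
  have hKbot : K ≠ ⊥ := by
    intro h
    rw [hK, Subgroup.subgroupOf_eq_bot] at h
    apply hH1
    rw [eq_bot_iff]
    intro x hx
    exact h.le_bot ⟨hx, hHL hx⟩
  have hcardH : Nat.card K = Nat.card H :=
    Nat.card_congr (Subgroup.subgroupOfEquivOfLe hHL).toEquiv
  have hKnil : Group.IsNilpotent K :=
    (Group.isNilpotent_congr (Subgroup.subgroupOfEquivOfLe hHL)).mpr hnil
  have hirr : ∀ χ ∈ inducedIrrAbove K (⊥ : Subgroup L), IsIrrCharacter L χ := by
    rintro χ ⟨θ, hθ, h1, -, rfl⟩
    exact Lib.FrobInd.indFun_irr K hC' hθ h1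
  have hτ := Sibley.ti_isometry H L hTI hN (inducedIrrAbove K (⊥ : Subgroup L))
    (fun φ h => Coherence.gc_of_irr (hirr φ h)) (by
      rintro φ ⟨θ, hθ, h1, -, rfl⟩ x hx
      exact Lib.DadeAdj.indFun_off K _ hx)
  have hS : IrrCoh.IrrSystem (inducedIrrAbove K (⊥ : Subgroup L))
      (fun α : L → ℂ => indFun L α) := ⟨hirr, hτ.1, hτ.2⟩
  have hset : {χ : L → ℂ | IsIrrCharacter L χ ∧ ∃ x : L, (x : G) ∈ H ∧ χ x ≠ χ 1} =
      inducedIrrAbove K (⊥ : Subgroup L) := by
    rw [IrrCoh.above_eq K hC']
    rfl
  rcases IrrCoh.feit K hS hKnil hKbot hC' with h | ⟨h, -⟩ | ⟨p, m, hp, hpm, hnab, hidx⟩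
  · left
    rw [hset]; exact h
  · right; left
    rw [← hcardH]; exact h
  · rcases hti with h | ⟨-, h, -⟩ | ⟨m', hm', -, -⟩
    · exact Or.inl h
    · exact Or.inr (Or.inl h)
    · right; right
      refine ⟨IsPGroup.of_card hm', ?_, ?_⟩
      · by_contra hcon
        push Not at hcon
        apply hnab
        intro x hx y hy
        have h1 := hcon ⟨x, hx⟩ ⟨y, hy⟩
        exact Subtype.ext (congrArg (fun z : H => (z : G)) h1)
      · have hrel : (⁅H, H⁆.subgroupOf H).index = ⁅K, K⁆.relIndex K := by
          have e1 : ⁅K, K⁆.map L.subtype = ⁅H, H⁆ := by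
            rw [Subgroup.map_commutator, hK, Subgroup.map_subgroupOf_eq_of_le hHL]
          have e2 : K.map L.subtype = H := by rw [hK, Subgroup.map_subgroupOf_eq_of_le hHL]
          have e3 : ⁅H, H⁆.relIndex H = ⁅K, K⁆.relIndex K := by
            rw [← e1]
            conv_lhs => rw [← e2]
            exact Subgroup.relIndex_map_map_of_injective _ _ (Subgroup.subtype_injective L)
          exact e3
        have hcom : ⁅H, H⁆.subgroupOf H = commutator H := by
          rw [← Subgroup.map_subtype_commutator]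
          exact Subgroup.comap_map_eq_self_of_injective (Subgroup.subtype_injective H) _
        rw [← hcom, hrel]
        exact hidx

section
variable {G : Type u} {Ω : Type v} [Group G] [MulAction G Ω]
variable [Fintype G] [Finite Ω]
variable {e : ℕ} {a b : Ω} {H : Subgroup G} (K : KerHyp G Ω e a b H)
include K

theorem KerHyp.feit_bound (hnil : Group.IsNilpotent H) (he3 : 3 ≤ e)
    (hle : e ≤ Nat.card Ω - 2) :
    Nat.card H - 1 ≤ 2 * e ∨ (IsPGroup 2 H ∧ (∃ u v : H, u * v ≠ v * u) ∧
      (commutator H).index ≤ 4 * e ^ 2 + 1) := by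
  classical
  by_cases hbig : Nat.card H - 1 ≤ 2 * e
  · exact Or.inl hbig
  right
  push Not at hbig
  have hfN : Fintype (Subgroup.normalizer (H : Set G)) := Fintype.ofFinite _
  have h2H := K.two_le_card
  have hH1 : H ≠ ⊥ := by
    intro h
    rw [h, Subgroup.card_bot] at h2H
    omega
  have hidx := K.index
  have hlt : H < Subgroup.normalizer (H : Set G) := by
    refine lt_of_le_of_ne Subgroup.le_normalizer ?_
    intro h
    have h1 : H.subgroupOf (Subgroup.normalizer (H : Set G)) = ⊤ :=
      Subgroup.subgroupOf_eq_top.mpr h.ge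
    rw [h1, Subgroup.index_top] at hidx
    omega
  have hTI : IsTISubset (H : Set G) := K.ti
  rcases tri H _ hH1 hnil hTI rfl hlt K.centralizer_le with h | h | h
  · exfalso
    obtain ⟨⟨α, hα, hα0⟩, star, hstar, hext⟩ := h
    set S := {χ : (Subgroup.normalizer (H : Set G)) → ℂ |
      IsIrrCharacter (Subgroup.normalizer (H : Set G)) χ ∧
        ∃ x : Subgroup.normalizer (H : Set G), (x : G) ∈ H ∧ χ x ≠ χ 1} with hS
    have Hc : CohHyp H S star := ⟨K.ti, K.centralizer_le, hS, hstar, hext⟩
    -- two characters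
    have htwo : ∃ χ ∈ S, ∃ ξ ∈ S, χ ≠ ξ := by
      by_contra hcon
      push Not at hcon
      apply hα0
      by_cases hne : S.Nonempty
      · obtain ⟨χ, hχ⟩ := hne
        have hSs : S = {χ} := by
          ext ξ
          rw [Set.mem_singleton_iff]
          exact ⟨fun h => (hcon χ hχ ξ h).symm, fun h => h ▸ hχ⟩
        have h1 := hα.1
        rw [hSs] at h1
        unfold zspan at h1
        rw [SetLike.mem_coe, Submodule.mem_span_singleton] at h1
        obtain ⟨n, rfl⟩ := h1
        have h2 := hα.2 1 (by simp)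
        have h3 : (n : ℂ) * χ 1 = 0 := by simpa using h2
        rw [mul_eq_zero] at h3
        rcases h3 with h3 | h3
        · have : n = 0 := by exact_mod_cast h3
          rw [this, zero_smul]
        · exact absurd h3 (Hc.irr hχ).one_ne_zero
      · rw [Set.not_nonempty_iff_eq_empty] at hne
        have h1 := hα.1
        rw [hne] at h1
        unfold zspan at h1
        rw [Submodule.span_empty] at h1
        exact h1
    -- a character of degree `e`
    have hdeg : ∃ χ ∈ S, χ 1 = (e : ℂ) := by
      set K' := H.subgroupOf (Subgroup.normalizer (H : Set G)) with hK'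
      have hn := normal_subgroupOf_normalizer' H
      have hcardH : Nat.card K' = Nat.card H :=
        Nat.card_congr (Subgroup.subgroupOfEquivOfLe Subgroup.le_normalizer).toEquiv
      have hKnil : Group.IsNilpotent K' :=
        (Group.isNilpotent_congr (Subgroup.subgroupOfEquivOfLe Subgroup.le_normalizer)).mpr hnil
      have hKsolv : Group.IsSolvable K' := inferInstance
      have hnt : Nontrivial K' := by
        rw [← Finite.one_lt_card_iff_nontrivial, hcardH]; omega
      obtain ⟨θ, hθ, hθ1, hθne⟩ := exists_linear_ne hKsolv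
      have hmem : indFun K' θ ∈ S := by
        have h1 : indFun K' θ ∈ inducedIrrAbove K' (⊥ : Subgroup _) := by
          refine ⟨θ, hθ, hθne, ?_, rfl⟩
          intro x hx
          rw [Subgroup.mem_bot] at hx
          have : x = 1 := Subtype.ext hx
          rw [this]
        rw [IrrCoh.above_eq K' (centralizer_le_subgroupOf H K.centralizer_le)] at h1
        exact h1
      refine ⟨_, hmem, ?_⟩
      rw [IndFun.indFun_one, hθ1, mul_one, hidx]
    exact K.not_coherent Hc htwo hdeg (K.hyp.le_card_classes H K.hHa K.hHfix hle) he3 hbig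
  · rw [hidx] at h
    omega
  · rw [hidx] at h
    exact h

end

end Cfsg.Agent.Lib.ZassFeit
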