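import Cfsg.Agent.Lib.ZassOdd

set_option autoImplicit false

/-!
# Zassenhaus groups with two-point stabiliser of odd order: counting (helper15)
-/

namespace Cfsg.Agent.Lib.ZassOdd

open MulAction ZassBasic ZassKernel

universe u v

variable {G : Type u} {Ω : Type v} [Group G] [MulAction G Ω]

theorem card_E_eq [Finite G] [Finite Ω] (hZ : Cfsg.IsZassenhausGroup G Ω) {a b c d : Ω}
    (hab : a ≠ b) (hcd : c ≠ d) :
    Nat.card ↥(stabilizer G c ⊓ stabilizer G d : Subgroup G) =
      Nat.card ↥(stabilizer G a ⊓ stabilizer G b : Subgroup G) := by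
  have h1 := card_group hZ hab
  have h2 := card_group hZ hcd
  have h3 := three_le_card hZ
  rw [h1, ← mul_assoc, ← mul_assoc] at h2
  exact (Nat.eq_of_mul_eq_mul_left (Nat.mul_pos (by omega) (by omega)) h2).symm

/-- number of fixed points -/
noncomputable def fixN (Ω : Type v) [MulAction G Ω] (g : G) : ℕ := Nat.card (fixedBy Ω g)

theorem fixN_eq_sum [Fintype Ω] [DecidableEq Ω] (g : G) :
    fixN Ω g = ∑ c : Ω, if g • c = c then 1 else 0 := by
  rw [fixN, Nat.card_eq_fintype_card, Fintype.card_subtype, Finset.card_filter]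
  rfl

theorem fixN_one [Finite Ω] : fixN Ω (1 : G) = Nat.card Ω := by
  have : fixedBy Ω (1 : G) = Set.univ := by
    ext x; simp
  rw [fixN, this, Nat.card_univ]

theorem card_stabilizer_eq [Fintype G] (c : Ω) [DecidableEq Ω] :
    (∑ g : G, if g • c = c then 1 else 0) = Nat.card (stabilizer G c) := by
  classical
  rw [Nat.card_eq_fintype_card, Fintype.card_subtype, Finset.card_filter]
  rfl

theorem sum_fixN [Fintype G] [Fintype Ω] (hZ : Cfsg.IsZassenhausGroup G Ω) :
    ∑ g : G, fixN Ω g = Nat.card G := by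
  classical
  simp only [fixN_eq_sum]
  rw [Finset.sum_comm]
  have h1 : ∀ c : Ω, (∑ g : G, if g • c = c then 1 else 0) =
      Nat.card G / Nat.card Ω := by
    intro c
    rw [card_stabilizer_eq]
    obtain ⟨b, hb⟩ := exists_ne_of_zass hZ c
    rw [card_group hZ hb, card_stab1 hZ hb, Nat.mul_div_cancel_left]
    have := three_le_card hZ
    omega
  rw [Finset.sum_congr rfl (fun c _ => h1 c), Finset.sum_const, smul_eq_mul, Finset.card_univ,
    ← Nat.card_eq_fintype_card]
  apply Nat.mul_div_cancel'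
  have hne : Nonempty Ω := by
    have := three_le_card hZ
    rw [← Finite.card_pos_iff]; omega
  obtain ⟨c⟩ := hne
  obtain ⟨b, hb⟩ := exists_ne_of_zass hZ c
  rw [card_group hZ hb]
  exact dvd_mul_right _ _

theorem sum_fixN_sq [Fintype G] [Fintype Ω] (hZ : Cfsg.IsZassenhausGroup G Ω) :
    ∑ g : G, fixN Ω g * fixN Ω g = 2 * Nat.card G := by
  classical
  have hne : Nonempty Ω := by
    have := three_le_card hZ
    rw [← Finite.card_pos_iff]; omega
  obtain ⟨a⟩ := hne
  obtain ⟨b, hab⟩ := exists_ne_of_zass hZ a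
  set e := Nat.card ↥(stabilizer G a ⊓ stabilizer G b : Subgroup G) with he
  set n := Nat.card Ω with hn
  have hn3 : 3 ≤ n := three_le_card hZ
  have h1 : ∀ g : G, fixN Ω g * fixN Ω g =
      ∑ c : Ω, ∑ d : Ω, if g • c = c ∧ g • d = d then 1 else 0 := by
    intro g
    rw [fixN_eq_sum, Finset.sum_mul_sum]
    refine Finset.sum_congr rfl fun c _ => Finset.sum_congr rfl fun d _ => ?_
    by_cases hc : g • c = c <;> by_cases hd : g • d = d <;> simp [hc, hd]
  simp only [h1]
  rw [Finset.sum_comm]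
  have h2 : ∀ c : Ω, (∑ g : G, ∑ d : Ω, if g • c = c ∧ g • d = d then 1 else 0) =
      2 * ((n - 1) * e) := by
    intro c
    rw [Finset.sum_comm]
    have h3 : ∀ d : Ω, (∑ g : G, if g • c = c ∧ g • d = d then 1 else 0) =
        if d = c then (n - 1) * e else e := by
      intro d
      by_cases hdc : d = c
      · subst hdc
        rw [if_pos rfl]
        simp only [and_self]
        rw [card_stabilizer_eq]
        obtain ⟨b', hb'⟩ := exists_ne_of_zass hZ d
        rw [card_stab1 hZ hb', card_E_eq hZ hab hb']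
      · rw [if_neg hdc]
        rw [he, ← card_E_eq hZ hab (Ne.symm hdc), Nat.card_eq_fintype_card,
          Fintype.card_subtype, Finset.card_filter]
        exact Finset.sum_congr rfl fun g _ => by simp [mem_stabilizer_iff]
    rw [Finset.sum_congr rfl (fun d _ => h3 d), ← Finset.add_sum_erase _ _ (Finset.mem_univ c),
      if_pos rfl, Finset.sum_congr rfl (g := fun _ => e) (fun d hd => if_neg
        (Finset.ne_of_mem_erase hd)), Finset.sum_const, smul_eq_mul,
      Finset.card_erase_of_mem (Finset.mem_univ c), Finset.card_univ, ← Nat.card_eq_fintype_card,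
      ← hn]
    ring
  rw [Finset.sum_congr rfl (fun c _ => h2 c), Finset.sum_const, smul_eq_mul, Finset.card_univ,
    ← Nat.card_eq_fintype_card, card_group hZ hab]
  ring

theorem fixN_le_two [Finite Ω] (hZ : Cfsg.IsZassenhausGroup G Ω) {g : G} (hg : g ≠ 1) :
    fixN Ω g ≤ 2 := fixedBy_le_two hZ.2.2.1 hg

theorem fixN_eq_zero_iff [Finite Ω] (g : G) : fixN Ω g = 0 ↔ ∀ c : Ω, g • c ≠ c := by
  rw [fixN, Finite.card_eq_zero_iff, isEmpty_subtype]
  rfl

/-- The number of elements without fixed points. -/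
theorem card_fpf [Finite G] [Finite Ω] (hZ : Cfsg.IsZassenhausGroup G Ω) :
    2 * Nat.card {g : G // ∀ c : Ω, g • c ≠ c} + (Nat.card Ω - 1) * (Nat.card Ω - 2) =
      Nat.card G := by
  classical
  have := Fintype.ofFinite G
  have := Fintype.ofFinite Ω
  have hn3 : 3 ≤ Nat.card Ω := three_le_card hZ
  have h1 : ∑ g : G, (((fixN Ω g : ℤ) - 1) * ((fixN Ω g : ℤ) - 2)) = Nat.card G := by
    have e1 : ∀ g : G, ((fixN Ω g : ℤ) - 1) * ((fixN Ω g : ℤ) - 2) =
        ((fixN Ω g * fixN Ω g : ℕ) : ℤ) - 3 * ((fixN Ω g : ℕ) : ℤ) + 2 := by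
      intro g; push_cast; ring
    simp only [e1]
    rw [Finset.sum_add_distrib, Finset.sum_sub_distrib, ← Nat.cast_sum, ← Finset.mul_sum,
      ← Nat.cast_sum, sum_fixN hZ, sum_fixN_sq hZ, Finset.sum_const, Finset.card_univ,
      ← Nat.card_eq_fintype_card]
    push_cast
    ring
  have h2 : ∀ g : G, ((fixN Ω g : ℤ) - 1) * ((fixN Ω g : ℤ) - 2) =
      (if ∀ c : Ω, g • c ≠ c then 2 else 0) +
        (if g = 1 then ((Nat.card Ω : ℤ) - 1) * ((Nat.card Ω : ℤ) - 2) else 0) := by
    intro g
    by_cases hg : g = 1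
    · subst hg
      have : ¬ ∀ c : Ω, (1 : G) • c ≠ c := by
        intro h
        have hne : Nonempty Ω := by
          rw [← Finite.card_pos_iff]; omega
        obtain ⟨c⟩ := hne
        exact h c (one_smul _ _)
      rw [if_neg this, if_pos rfl, fixN_one, zero_add]
    · rw [if_neg hg, add_zero]
      by_cases h0 : fixN Ω g = 0
      · rw [if_pos ((fixN_eq_zero_iff g).mp h0), h0]; norm_num
      · rw [if_neg (fun h => h0 ((fixN_eq_zero_iff g).mpr h))]
        have h3 := fixN_le_two hZ hg
        have h4 : fixN Ω g = 1 ∨ fixN Ω g = 2 := by omega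
        rcases h4 with h4 | h4 <;> rw [h4] <;> norm_num
  simp only [h2] at h1
  rw [Finset.sum_add_distrib, Finset.sum_ite_eq' Finset.univ (1 : G), if_pos (Finset.mem_univ _),
    ← Finset.sum_filter, Finset.sum_const, ← Fintype.card_subtype,
    ← Nat.card_eq_fintype_card] at h1
  have h5 : ((Nat.card Ω : ℤ) - 1) = ((Nat.card Ω - 1 : ℕ) : ℤ) := by
    push_cast [Nat.cast_sub (show 1 ≤ Nat.card Ω by omega)]; rfl
  have h6 : ((Nat.card Ω : ℤ) - 2) = ((Nat.card Ω - 2 : ℕ) : ℤ) := by
    push_cast [Nat.cast_sub (show 2 ≤ Nat.card Ω by omega)]; rfl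
  rw [h5, h6] at h1
  zify
  rw [← h1]
  simp
  ring

theorem card_carrier_mul_centralizer (g : G) :
    Nat.card (ConjClasses.mk g).carrier * Nat.card (Subgroup.centralizer ({g} : Set G)) =
      Nat.card G := by
  rw [Subgroup.nat_card_centralizer_nat_card_stabilizer, ← ConjAct.orbit_eq_carrier_conjClasses,
    Nat.card_coe_set_eq, ← MulAction.index_stabilizer, mul_comm, Subgroup.card_mul_index]
  rfl

/-- S0880: not all elements without fixed points are conjugate. -/
theorem exists_not_isConj [Finite G] [Finite Ω] (hZ : Cfsg.IsZassenhausGroup G Ω) {a b : Ω}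
    (hab : a ≠ b)
    (hodd : Odd (Nat.card ↥(stabilizer G a ⊓ stabilizer G b : Subgroup G))) :
    ∃ x y : G, (∀ c : Ω, x • c ≠ c) ∧ (∀ c : Ω, y • c ≠ c) ∧ ¬ IsConj x y := by
  classical
  have hF := card_fpf hZ
  have hG := card_group hZ hab
  have he := three_le_of_odd hZ hab hodd
  have hn := three_le_card hZ
  set e := Nat.card ↥(stabilizer G a ⊓ stabilizer G b : Subgroup G) with hedef
  set F := Nat.card {g : G // ∀ c : Ω, g • c ≠ c} with hFdef
  obtain ⟨h, hh⟩ : ∃ h, Nat.card Ω = h + 1 := ⟨Nat.card Ω - 1, by omega⟩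
  obtain ⟨k, hk⟩ : ∃ k, h = k + 1 := ⟨h - 1, by omega⟩
  have hk1 : 1 ≤ k := by omega
  have e1 : Nat.card Ω - 1 = h := by omega
  have e2 : Nat.card Ω - 2 = k := by omega
  rw [e1, e2] at hF
  rw [e1, hh] at hG
  have hFpos : 0 < F := by
    by_contra h0
    have h1 : F = 0 := by omega
    rw [h1, hG] at hF
    have : h * k < (h + 1) * (h * e) := by
      have h2 : h * 3 ≤ h * e := Nat.mul_le_mul_left h he
      have h3 : (h + 1) * (h * 3) ≤ (h + 1) * (h * e) := Nat.mul_le_mul_left _ h2
      have h4 : h * k < (h + 1) * (h * 3) := by subst hk; nlinarith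
      omega
    omega
  have hFne : Nonempty {g : G // ∀ c : Ω, g • c ≠ c} := Finite.card_pos_iff.mp hFpos
  obtain ⟨x, hx⟩ := hFne
  by_contra hcon
  push Not at hcon
  -- the class of x
  have hcl : Nat.card (ConjClasses.mk x).carrier = F := by
    apply Nat.card_congr
    refine Equiv.subtypeEquivRight fun y => ?_
    rw [ConjClasses.mem_carrier_iff_mk_eq, ConjClasses.mk_eq_mk_iff_isConj]
    constructor
    · intro hyx c hc
      obtain ⟨g, rfl⟩ := isConj_iff.mp hyx.symm
      apply hx (g⁻¹ • c)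
      rw [eq_inv_smul_iff, smul_smul, smul_smul, hc]
    · intro hy
      exact hcon y x hy hx
  have hmul := card_carrier_mul_centralizer x
  rw [hcl, hG] at hmul
  rw [hG] at hF
  set c := Nat.card (Subgroup.centralizer ({x} : Set G)) with hc
  set N := (h + 1) * e with hN
  have hhpos : 0 < h := by omega
  have hN3 : 3 * (k + 2) ≤ N := by
    rw [hN, hk]
    calc 3 * (k + 2) = (k + 1 + 1) * 3 := by ring
      _ ≤ (k + 1 + 1) * e := Nat.mul_le_mul_left _ he
  have key : c * N = 2 * N + c * k := by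
    apply Nat.eq_of_mul_eq_mul_left hhpos
    have h1 : (h + 1) * (h * e) = h * N := by rw [hN]; ring
    rw [h1] at hF hmul
    calc h * (c * N) = c * (2 * F + h * k) := by rw [hF]; ring
      _ = 2 * (F * c) + c * (h * k) := by ring
      _ = h * (2 * N + c * k) := by rw [hmul]; ring
  rcases Nat.lt_or_ge c 3 with h3 | h3
  · interval_cases c
    · omega
    · omega
    · omega
  · obtain ⟨d, hd⟩ := Nat.exists_eq_add_of_le h3
    rw [hd] at key
    have h4 : (3 + d) * N = 2 * N + (1 + d) * N := by ring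
    have h5 : (1 + d) * N = (3 + d) * k := by omega
    have h6 : (1 + d) * (3 * (k + 2)) ≤ (1 + d) * N := Nat.mul_le_mul_left _ hN3
    nlinarith

end Cfsg.Agent.Lib.ZassOdd
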