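import Cfsg.Agent.Lib.ZassOdd2

set_option autoImplicit false

/-!
# Zassenhaus groups with two-point stabiliser of odd order: involutions (helper15)
-/

namespace Cfsg.Agent.Lib.ZassOdd

open MulAction ZassBasic ZassKernel

universe u v

variable {G : Type u} {Ω : Type v} [Group G] [MulAction G Ω]

/-- Data: a Zassenhaus group whose two-point stabilisers have odd order `e` and are inverted by
the elements swapping the points. -/
structure Hyp (G : Type u) (Ω : Type v) [Group G] [MulAction G Ω] (e : ℕ) : Prop where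
  zass : Cfsg.IsZassenhausGroup G Ω
  odd : Odd e
  card : ∀ a b : Ω, a ≠ b → Nat.card ↥(stabilizer G a ⊓ stabilizer G b : Subgroup G) = e
  inv : ∀ a b : Ω, a ≠ b → ∀ t : G, t • a = b → t • b = a →
    ∀ y : G, y • a = a → y • b = b → t * y * t⁻¹ = y⁻¹

theorem hyp_of_simple [Finite G] [Finite Ω] (hZ : Cfsg.IsZassenhausGroup G Ω) {a b : Ω}
    (hab : a ≠ b) [IsSimpleGroup G]
    (hodd : Odd (Nat.card ↥(stabilizer G a ⊓ stabilizer G b : Subgroup G))) :
    Hyp G Ω (Nat.card ↥(stabilizer G a ⊓ stabilizer G b : Subgroup G)) where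
  zass := hZ
  odd := hodd
  card := fun c d hcd => card_E_eq hZ hab hcd
  inv := by
    intro c d hcd t hc hd y hyc hyd
    have h1 : Odd (Nat.card ↥(stabilizer G c ⊓ stabilizer G d : Subgroup G)) := by
      rw [card_E_eq hZ hab hcd]; exact hodd
    exact (structure_of_simple hZ hcd h1).2 t hc hd y ⟨hyc, hyd⟩

section
variable {e : ℕ} (h : Hyp G Ω e)
include h

theorem Hyp.orderOf_dvd [Finite G] {a b : Ω} (hab : a ≠ b) {y : G} (ha : y • a = a)
    (hb : y • b = b) : y ^ e = 1 := by
  have hy : y ∈ (stabilizer G a ⊓ stabilizer G b : Subgroup G) := ⟨ha, hb⟩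
  have h1 : (⟨y, hy⟩ : ↥(stabilizer G a ⊓ stabilizer G b : Subgroup G)) ^
      Nat.card ↥(stabilizer G a ⊓ stabilizer G b : Subgroup G) = 1 := pow_card_eq_one'
  rw [h.card a b hab] at h1
  exact congrArg Subtype.val h1

/-- no element of even order fixes two points -/
theorem Hyp.eq_one_of_sq [Finite G] {a b : Ω} (hab : a ≠ b) {y : G} (ha : y • a = a)
    (hb : y • b = b) (hy : y * y = 1) : y = 1 := by
  have h1 := h.orderOf_dvd hab ha hb
  obtain ⟨k, hk⟩ := h.odd
  rw [hk, pow_add, pow_mul, pow_two, hy, one_pow, one_mul, pow_one] at h1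
  exact h1

/-- every element swapping two points is an involution -/
theorem Hyp.swap_sq [Finite G] {a b : Ω} (hab : a ≠ b) {t : G} (ha : t • a = b)
    (hb : t • b = a) : t * t = 1 := by
  have h1 : (t * t) • a = a := by rw [mul_smul, ha, hb]
  have h2 : (t * t) • b = b := by rw [mul_smul, hb, ha]
  apply h.eq_one_of_sq hab h1 h2
  have h3 := h.inv a b hab t ha hb (t * t) h1 h2
  have h4 : t * (t * t) * t⁻¹ = t * t := by group
  rw [h4] at h3
  calc t * t * (t * t) = t * t * (t * t)⁻¹ := by rw [← h3]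
    _ = 1 := mul_inv_cancel _

theorem Hyp.swap_orderOf [Finite G] {a b : Ω} (hab : a ≠ b) {t : G} (ha : t • a = b)
    (hb : t • b = a) : orderOf t = 2 := by
  apply orderOf_eq_prime
  · rw [pow_two]; exact h.swap_sq hab ha hb
  · rintro rfl
    rw [one_smul] at ha
    exact hab ha

/-- the number of involutions swapping two points is `e` -/
theorem Hyp.card_swap [Finite G] {a b : Ω} (hab : a ≠ b) :
    Nat.card {t : G // orderOf t = 2 ∧ t • a = b} = e := by
  obtain ⟨s, hs1, hs2⟩ := exists_move h.zass.2.1 hab hab.symm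
  rw [← h.card a b hab]
  refine Nat.card_congr
    { toFun := fun t => ⟨t.1 * s, ?_, ?_⟩
      invFun := fun y => ⟨y.1 * s⁻¹, ?_, ?_⟩
      left_inv := fun t => Subtype.ext (by simp)
      right_inv := fun y => Subtype.ext (by simp) }
  · have h1 : t.1 * t.1 = 1 := by
      have := pow_orderOf_eq_one t.1
      rwa [t.2.1, pow_two] at this
    have h2 : t.1 • b = a := by
      calc t.1 • b = t.1 • (t.1 • a) := by rw [t.2.2]
        _ = a := by rw [smul_smul, h1, one_smul]
    change (t.1 * s) • a = a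
    rw [mul_smul, hs1, h2]
  · change (t.1 * s) • b = b
    rw [mul_smul, hs2, t.2.2]
  · have hya : y.1 • a = a := y.2.1
    have hyb : y.1 • b = b := y.2.2
    have e1 : s⁻¹ • a = b := by rw [inv_smul_eq_iff, hs2]
    have e2 : s⁻¹ • b = a := by rw [inv_smul_eq_iff, hs1]
    apply h.swap_orderOf hab
    · rw [mul_smul, e1, hyb]
    · rw [mul_smul, e2, hya]
  · have hyb : y.1 • b = b := y.2.2
    rw [mul_smul]
    have : s⁻¹ • a = b := by rw [inv_smul_eq_iff, hs2]
    rw [this, hyb]

theorem Hyp.fixN_involution [Finite G] [Finite Ω] {t : G} (ht : orderOf t = 2) :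
    fixN Ω t = if Even (Nat.card Ω) then 0 else 1 := by
  have ht1 : t ≠ 1 := by
    rintro rfl
    simp at ht
  have htt : t * t = 1 := by
    rw [← pow_two, ← ht, pow_orderOf_eq_one]
  have h1 := fixN_le_two h.zass ht1
  have h2 : Nat.card Ω ≡ fixN Ω t [MOD 2] := involution_parity htt
  have h3 : fixN Ω t ≠ 2 := by
    intro h3
    change Set.ncard (fixedBy Ω t) = 2 at h3
    rw [Set.ncard_eq_two] at h3
    obtain ⟨a, b, hab, hs⟩ := h3
    have ha : a ∈ fixedBy Ω t := by rw [hs]; simp
    have hb : b ∈ fixedBy Ω t := by rw [hs]; simp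
    exact ht1 (h.eq_one_of_sq hab ha hb htt)
  split_ifs with he
  · obtain ⟨k, hk⟩ := he
    unfold Nat.ModEq at h2
    omega
  · rw [Nat.not_even_iff_odd] at he
    obtain ⟨k, hk⟩ := he
    unfold Nat.ModEq at h2
    omega

/-- all involutions are conjugate -/
theorem Hyp.isConj [Finite G] {x y : G} (hx : orderOf x = 2) (hy : orderOf y = 2) :
    IsConj x y := by
  have := h.zass.1
  obtain ⟨-, -, -, ⟨-, -, a, b, hab, -, -⟩, -⟩ := h.zass
  obtain ⟨g, hg1, hg2⟩ := exists_conj_swap h.zass.2.1 hx hab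
  obtain ⟨k, hk1, hk2⟩ := exists_conj_swap h.zass.2.1 hy hab
  have h1 : IsConj x (g * x * g⁻¹) := isConj_iff.mpr ⟨g, rfl⟩
  have h2 : IsConj y (k * y * k⁻¹) := isConj_iff.mpr ⟨k, rfl⟩
  refine h1.trans (IsConj.trans ?_ h2.symm)
  set s := g * x * g⁻¹ with hs
  set t := k * y * k⁻¹ with ht
  -- t = y' s with y' in E
  have hss : s * s = 1 := h.swap_sq hab hg1 hg2
  have htt : t * t = 1 := h.swap_sq hab hk1 hk2
  have hsinv : s⁻¹ = s := inv_eq_of_mul_eq_one_right hss
  have hya : (t * s) • a = a := by rw [mul_smul, hg1, hk2]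
  have hyb : (t * s) • b = b := by rw [mul_smul, hg2, hk1]
  have hpow := h.orderOf_dvd hab hya hyb
  obtain ⟨m, hm⟩ := h.odd
  -- z = (t s)^(m+1), z^2 = t s
  set z := (t * s) ^ (m + 1) with hz
  have hz2 : z * z = t * s := by
    rw [hz, ← pow_add, show m + 1 + (m + 1) = (2 * m + 1) + 1 by ring, ← hm, pow_succ, hpow,
      one_mul]
  have hza : z • a = a := by
    have : (t * s) ∈ stabilizer G a := hya
    exact (stabilizer G a).pow_mem this (m + 1)
  have hzb : z • b = b := by
    have : (t * s) ∈ stabilizer G b := hyb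
    exact (stabilizer G b).pow_mem this (m + 1)
  have hinv := h.inv a b hab s hg1 hg2 z⁻¹ (inv_smul_of_smul hza) (inv_smul_of_smul hzb)
  rw [inv_inv] at hinv
  rw [isConj_iff]
  refine ⟨z, ?_⟩
  calc z * s * z⁻¹ = z * (s * z⁻¹ * s⁻¹) * s := by group
    _ = z * z * s := by rw [hinv]
    _ = t * s * s := by rw [hz2]
    _ = t := by rw [mul_assoc, hss, mul_one]

theorem Hyp.card_involutions_mul [Finite G] [Finite Ω] :
    Nat.card {x : G // orderOf x = 2} *
      (Nat.card Ω - if Even (Nat.card Ω) then 0 else 1) =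
      Nat.card Ω * (Nat.card Ω - 1) * e := by
  classical
  have := Fintype.ofFinite G
  have := Fintype.ofFinite Ω
  -- count pairs (t, (c, d)) with `t c = d`, `c ≠ d`
  have h1 : ∀ t : {x : G // orderOf x = 2},
      ∑ c : Ω, ∑ d ∈ Finset.univ.erase c, (if t.1 • c = d then 1 else 0) =
      Nat.card Ω - if Even (Nat.card Ω) then 0 else 1 := by
    intro t
    rw [← h.fixN_involution t.2]
    have h2 : ∀ c : Ω, ∑ d ∈ Finset.univ.erase c, (if t.1 • c = d then 1 else 0) =
        if t.1 • c = c then 0 else 1 := by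
      intro c
      rw [Finset.sum_ite_eq]
      by_cases hc : t.1 • c = c
      · rw [if_pos hc, if_neg]
        rw [hc]; simp
      · rw [if_neg hc, if_pos]
        simp [hc]
    rw [Finset.sum_congr rfl fun c _ => h2 c]
    have h3 := fixN_eq_sum (Ω := Ω) t.1
    have h4 : (∑ c : Ω, if t.1 • c = c then 0 else 1) + fixN Ω t.1 = Nat.card Ω := by
      rw [h3, ← Finset.sum_add_distrib, Nat.card_eq_fintype_card, ← Finset.card_univ,
        Finset.card_eq_sum_ones]
      apply Finset.sum_congr rfl
      intro c _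
      split_ifs <;> rfl
    omega
  have h5 : ∑ t : {x : G // orderOf x = 2}, ∑ c : Ω, ∑ d ∈ Finset.univ.erase c,
      (if t.1 • c = d then 1 else 0) =
      Nat.card Ω * (Nat.card Ω - 1) * e := by
    rw [Finset.sum_comm]
    have h6 : ∀ c : Ω, (∑ t : {x : G // orderOf x = 2}, ∑ d ∈ Finset.univ.erase c,
        (if t.1 • c = d then 1 else 0)) = (Nat.card Ω - 1) * e := by
      intro c
      rw [Finset.sum_comm]
      have h7 : ∀ d ∈ Finset.univ.erase c, (∑ t : {x : G // orderOf x = 2},
          (if t.1 • c = d then 1 else 0)) = e := by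
        intro d hd
        have hcd : c ≠ d := (Finset.ne_of_mem_erase hd).symm
        rw [← h.card_swap hcd, ← Finset.card_filter, ← Fintype.card_subtype,
          ← Nat.card_eq_fintype_card]
        exact Nat.card_congr (Equiv.subtypeSubtypeEquivSubtypeInter (fun x : G => orderOf x = 2)
          (fun x => x • c = d))
      rw [Finset.sum_congr rfl h7, Finset.sum_const, smul_eq_mul,
        Finset.card_erase_of_mem (Finset.mem_univ _), Finset.card_univ,
        ← Nat.card_eq_fintype_card]
    rw [Finset.sum_congr rfl (fun c _ => h6 c), Finset.sum_const, smul_eq_mul, Finset.card_univ,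
      ← Nat.card_eq_fintype_card]
    ring
  rw [← h5, Finset.sum_congr rfl (fun t _ => h1 t), Finset.sum_const, smul_eq_mul,
    Finset.card_univ, ← Nat.card_eq_fintype_card]

theorem Hyp.card_involutions [Finite G] [Finite Ω] {m : ℕ} (hm : Nat.card Ω = m + 1) :
    Nat.card {x : G // orderOf x = 2} = if Even m then e * (m + 1) else e * m := by
  have h1 := h.card_involutions_mul
  have h3 := three_le_card h.zass
  rw [hm] at h1
  by_cases he : Even m
  · rw [if_pos he]
    rw [if_neg (fun h => (Nat.even_add_one.mp h) he), Nat.add_sub_cancel] at h1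
    apply Nat.eq_of_mul_eq_mul_right (show 0 < m by omega)
    rw [h1]; ring
  · rw [if_neg he]
    rw [if_pos (Nat.even_add_one.mpr he), Nat.sub_zero, Nat.add_sub_cancel] at h1
    apply Nat.eq_of_mul_eq_mul_right (show 0 < m + 1 by omega)
    rw [h1]; ring

end

end Cfsg.Agent.Lib.ZassOdd
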