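import Cfsg.Agent.Lib.ZassOdd3

set_option autoImplicit false

/-!
# Zassenhaus groups with two-point stabiliser of odd order: products of involutions (helper15)
-/

namespace Cfsg.Agent.Lib.ZassOdd

open MulAction ZassBasic ZassKernel

universe u v

variable {G : Type u} {Ω : Type v} [Group G] [MulAction G Ω]

theorem mul_self_of_orderOf {x : G} (hx : orderOf x = 2) : x * x = 1 := by
  rw [← pow_two, ← hx, pow_orderOf_eq_one]

theorem inv_of_orderOf {x : G} (hx : orderOf x = 2) : x⁻¹ = x :=
  inv_eq_of_mul_eq_one_right (mul_self_of_orderOf hx)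

theorem conj_mul_of_involutions {x y : G} (hx : orderOf x = 2) (hy : orderOf y = 2) :
    x * (x * y) * x⁻¹ = (x * y)⁻¹ := by
  rw [mul_inv_rev, inv_of_orderOf hx, inv_of_orderOf hy, ← mul_assoc, mul_self_of_orderOf hx,
    one_mul]

/-- If the product of two involutions has only one fixed point then both fix it. -/
theorem fixes_of_mul {x y : G} (hx : orderOf x = 2) (hy : orderOf y = 2) {c : Ω}
    (hc : (x * y) • c = c) (huniq : ∀ d : Ω, (x * y) • d = d → d = c) :
    x • c = c ∧ y • c = c := by
  have h1 : (x * y)⁻¹ • (x • c) = x • c := by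
    rw [← conj_mul_of_involutions hx hy, mul_smul, mul_smul, inv_smul_smul, hc]
  have h2 : (x * y) • (x • c) = x • c := by
    rw [inv_smul_eq_iff] at h1
    exact h1.symm
  have h3 := huniq _ h2
  refine ⟨h3, ?_⟩
  have h4 : x • (y • c) = c := by rw [← mul_smul]; exact hc
  calc y • c = x • (x • (y • c)) := by rw [smul_smul x x, mul_self_of_orderOf hx, one_smul]
    _ = c := by rw [h4, h3]

theorem fixN_conj [Finite Ω] (g k : G) : fixN Ω (k * g * k⁻¹) = fixN Ω g := by
  refine Nat.card_congr
    { toFun := fun c => ⟨k⁻¹ • c.1, ?_⟩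
      invFun := fun c => ⟨k • c.1, ?_⟩
      left_inv := fun c => Subtype.ext (by simp)
      right_inv := fun c => Subtype.ext (by simp) }
  · have := c.2
    rw [mem_fixedBy, mul_smul, mul_smul] at this
    rw [mem_fixedBy, eq_inv_smul_iff, this]
  · have := c.2
    rw [mem_fixedBy] at this
    rw [mem_fixedBy, mul_smul, mul_smul, inv_smul_smul, this]

theorem fixN_eq_one_iff [Finite Ω] (g : G) :
    fixN Ω g = 1 ↔ ∃ c : Ω, g • c = c ∧ ∀ d : Ω, g • d = d → d = c := by
  rw [fixN, Nat.card_eq_one_iff_exists]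
  constructor
  · rintro ⟨⟨c, hc⟩, h⟩
    exact ⟨c, hc, fun d hd => congrArg Subtype.val (h ⟨d, hd⟩)⟩
  · rintro ⟨c, hc, h⟩
    exact ⟨⟨c, hc⟩, fun d => Subtype.ext (h d.1 d.2)⟩

section
variable {e : ℕ} (h : Hyp G Ω e)
include h

theorem Hyp.card_group [Finite G] [Finite Ω] :
    Nat.card G = Nat.card Ω * ((Nat.card Ω - 1) * e) := by
  obtain ⟨-, -, -, ⟨-, -, a, b, hab, -, -⟩, -⟩ := h.zass
  rw [ZassOdd.card_group h.zass hab, h.card a b hab]

theorem Hyp.pos [Finite G] : 0 < e := by
  obtain ⟨k, hk⟩ := h.odd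
  omega

/-- If an involution fixes a point, its centraliser has order `h`. -/
theorem Hyp.card_centralizer [Finite G] [Finite Ω] (hn : ¬ Even (Nat.card Ω)) {z : G}
    (hz : orderOf z = 2) : Nat.card (Subgroup.centralizer ({z} : Set G)) = Nat.card Ω - 1 := by
  have h1 := card_carrier_mul_centralizer z
  have h3 := three_le_card h.zass
  have h2 : Nat.card (ConjClasses.mk z).carrier = Nat.card {x : G // orderOf x = 2} := by
    apply Nat.card_congr
    refine Equiv.subtypeEquivRight fun y => ?_
    rw [ConjClasses.mem_carrier_iff_mk_eq, ConjClasses.mk_eq_mk_iff_isConj]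
    constructor
    · intro hy
      obtain ⟨c, rfl⟩ := isConj_iff.mp hy.symm
      have : orderOf (c * z * c⁻¹) = orderOf z := (MulAut.conj c).orderOf_eq z
      rw [this, hz]
    · intro hy
      exact h.isConj hy hz
  obtain ⟨m, hm⟩ : ∃ m, Nat.card Ω = m + 1 := ⟨Nat.card Ω - 1, by omega⟩
  have hm' : Even m := by
    rw [hm, Nat.even_add_one, not_not] at hn
    exact hn
  rw [h2, h.card_involutions hm, if_pos hm', h.card_group, hm, Nat.add_sub_cancel] at h1
  have h4 := h.pos
  rw [hm, Nat.add_sub_cancel]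
  apply Nat.eq_of_mul_eq_mul_left (show 0 < e * (m + 1) by positivity)
  rw [h1]; ring

theorem Hyp.centralizer_eq [Finite G] [Finite Ω] (hn : ¬ Even (Nat.card Ω)) {z : G}
    (hz : orderOf z = 2) {a : Ω} (hza : z • a = a) (H : Subgroup G) (hHa : H ≤ stabilizer G a)
    (hHcard : Nat.card H + 1 = Nat.card Ω)
    (hHfix : ∀ u ∈ H, u ≠ 1 → ∀ c : Ω, u • c = c → c = a) :
    Subgroup.centralizer ({z} : Set G) = H := by
  have hz1 : z ≠ 1 := by rintro rfl; simp at hz
  have huniq : ∀ d : Ω, z • d = d → d = a := by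
    have h1 := h.fixN_involution hz
    rw [if_neg hn, fixN_eq_one_iff] at h1
    obtain ⟨c, hc, hu⟩ := h1
    intro d hd
    rw [hu d hd, hu a hza]
  have hle : Subgroup.centralizer ({z} : Set G) ≤ H := by
    intro g hg
    rw [Subgroup.mem_centralizer_singleton_iff] at hg
    rw [mem_kernel_iff h.zass a H hHa hHcard hHfix]
    have hga : g • a = a := by
      apply huniq
      rw [← mul_smul, ← hg, mul_smul, hza]
    refine ⟨hga, ?_⟩
    intro hg1 x hxa hgx
    apply hg1
    have hzx : z • x ≠ x := fun h' => hxa (huniq x h')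
    refine h.zass.2.2.1 g a x (z • x) (Ne.symm hxa) (Ne.symm hzx) ?_ hga hgx ?_
    · intro h'
      apply hxa
      have : z • z • x = z • a := by rw [← h']
      rw [smul_smul, mul_self_of_orderOf hz, one_smul, hza] at this
      exact this
    · rw [← mul_smul, hg, mul_smul, hgx]
  apply le_antisymm hle
  have h2 := h.card_centralizer hn hz
  have h3 : Nat.card H = Nat.card (Subgroup.centralizer ({z} : Set G)) := by
    rw [h2]; omega
  exact (Subgroup.eq_of_le_of_card_ge hle h3.le).ge

/-- S0883 -/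
theorem Hyp.orderOf_eq_two [Finite G] [Finite Ω] {a : Ω} (H : Subgroup G)
    (hHa : H ≤ stabilizer G a) (hHcard : Nat.card H + 1 = Nat.card Ω)
    (hHfix : ∀ u ∈ H, u ≠ 1 → ∀ c : Ω, u • c = c → c = a) {u : G} (hu : u ∈ H) (hu1 : u ≠ 1)
    {x y : G} (hx : orderOf x = 2) (hy : orderOf y = 2) (hxy : x * y = u) : orderOf u = 2 := by
  subst hxy
  obtain ⟨hxa, hya⟩ := fixes_of_mul hx hy (hHa hu) (hHfix _ hu hu1)
  have hn : ¬ Even (Nat.card Ω) := by
    intro hn
    have h1 := h.fixN_involution hx
    rw [if_pos hn, fixN_eq_zero_iff] at h1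
    exact h1 a hxa
  have h1 := h.centralizer_eq hn hx hxa H hHa hHcard hHfix
  have h2 := h.centralizer_eq hn hy hya H hHa hHcard hHfix
  have h3 : y ∈ Subgroup.centralizer ({x} : Set G) := by
    rw [h1, ← h2, Subgroup.mem_centralizer_singleton_iff]
  rw [Subgroup.mem_centralizer_singleton_iff] at h3
  apply orderOf_eq_prime _ hu1
  calc (x * y) ^ 2 = x * (y * x) * y := by rw [pow_two]; group
    _ = x * (x * y) * y := by rw [h3]
    _ = (x * x) * (y * y) := by group
    _ = 1 := by rw [mul_self_of_orderOf hx, mul_self_of_orderOf hy, one_mul]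

/-- For an odd number of points, `e` involutions fix a given point. -/
theorem Hyp.card_fixing [Finite G] [Finite Ω] (hn : ¬ Even (Nat.card Ω)) (a : Ω) :
    Nat.card {t : {x : G // orderOf x = 2} // t.1 • a = a} = e := by
  classical
  have := Fintype.ofFinite G
  have := Fintype.ofFinite Ω
  have hpt := isPretransitive h.zass
  have h3 := three_le_card h.zass
  have h1 : ∀ c : Ω, (∑ t : {x : G // orderOf x = 2}, if t.1 • c = c then 1 else 0) =
      Nat.card {t : {x : G // orderOf x = 2} // t.1 • a = a} := by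
    intro c
    obtain ⟨g, rfl⟩ := exists_smul_eq G a c
    rw [← Finset.card_filter, ← Fintype.card_subtype, ← Nat.card_eq_fintype_card]
    refine Nat.card_congr
      { toFun := fun t => ⟨⟨g⁻¹ * t.1.1 * g, ?_⟩, ?_⟩
        invFun := fun t => ⟨⟨g * t.1.1 * g⁻¹, ?_⟩, ?_⟩
        left_inv := fun t => Subtype.ext (Subtype.ext (by simp [mul_assoc]))
        right_inv := fun t => Subtype.ext (Subtype.ext (by simp [mul_assoc])) }
    · have := (MulAut.conj g⁻¹).orderOf_eq t.1.1
      rw [MulAut.conj_apply, inv_inv] at this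
      rw [this, t.1.2]
    · have := t.2
      change (g⁻¹ * t.1.1 * g) • a = a
      rw [mul_smul, mul_smul, this, inv_smul_smul]
    · have := (MulAut.conj g).orderOf_eq t.1.1
      rw [MulAut.conj_apply] at this
      rw [this, t.1.2]
    · have := t.2
      change (g * t.1.1 * g⁻¹) • g • a = g • a
      rw [mul_smul, mul_smul, inv_smul_smul, this]
  have h2 : ∑ c : Ω, (∑ t : {x : G // orderOf x = 2}, if t.1 • c = c then 1 else 0) =
      Nat.card {x : G // orderOf x = 2} := by
    rw [Finset.sum_comm]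
    have h4 : ∀ t : {x : G // orderOf x = 2}, (∑ c : Ω, if t.1 • c = c then 1 else 0) = 1 := by
      intro t
      rw [← fixN_eq_sum, h.fixN_involution t.2, if_neg hn]
    rw [Finset.sum_congr rfl fun t _ => h4 t, Finset.sum_const, smul_eq_mul, mul_one,
      Finset.card_univ, Nat.card_eq_fintype_card]
  rw [Finset.sum_congr rfl fun c _ => h1 c, Finset.sum_const, smul_eq_mul, Finset.card_univ,
    ← Nat.card_eq_fintype_card] at h2
  obtain ⟨m, hm⟩ : ∃ m, Nat.card Ω = m + 1 := ⟨Nat.card Ω - 1, by omega⟩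
  have hm' : Even m := by
    rw [hm, Nat.even_add_one, not_not] at hn
    exact hn
  rw [h.card_involutions hm, if_pos hm', hm, mul_comm e] at h2
  exact Nat.eq_of_mul_eq_mul_left (by omega) h2

omit h in
/-- An injection used for counting products of involutions. -/
theorem exists_inj (G : Type u) [Group G] :
    ∃ φ : {x : G // orderOf x = 2} × {x : G // orderOf x = 2} → G,
      ∀ p q : {x : G // orderOf x = 2} × {x : G // orderOf x = 2},
        ConjClasses.mk (p.1.1 * p.2.1) = ConjClasses.mk (q.1.1 * q.2.1) → φ p = φ q → p = q := by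
  classical
  have hk : ∀ g : G, ∃ k : G, k * (ConjClasses.mk g).out * k⁻¹ = g := by
    intro g
    have h1 : ConjClasses.mk (ConjClasses.mk g).out = ConjClasses.mk g := Quotient.out_eq _
    rw [ConjClasses.mk_eq_mk_iff_isConj] at h1
    exact isConj_iff.mp h1
  choose k hk using hk
  have hx : ∀ g : G, ∃ x : G, (∃ p : {x : G // orderOf x = 2} × {x : G // orderOf x = 2},
      p.1.1 * p.2.1 = g) → x * g * x⁻¹ = g⁻¹ := by
    intro g
    by_cases hg : ∃ p : {x : G // orderOf x = 2} × {x : G // orderOf x = 2}, p.1.1 * p.2.1 = g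
    · obtain ⟨p, rfl⟩ := hg
      exact ⟨p.1.1, fun _ => conj_mul_of_involutions p.1.2 p.2.2⟩
    · exact ⟨1, fun h => absurd h hg⟩
  choose x hx using hx
  refine ⟨fun p => p.1.1 * (x (p.1.1 * p.2.1))⁻¹ * k (p.1.1 * p.2.1), ?_⟩
  have key : ∀ p : {x : G // orderOf x = 2} × {x : G // orderOf x = 2},
      (p.1.1 * (x (p.1.1 * p.2.1))⁻¹ * k (p.1.1 * p.2.1)) *
        (ConjClasses.mk (p.1.1 * p.2.1)).out *
        (p.1.1 * (x (p.1.1 * p.2.1))⁻¹ * k (p.1.1 * p.2.1))⁻¹ = p.1.1 * p.2.1 := by
    intro p
    set g := p.1.1 * p.2.1 with hg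
    have h1 := hk g
    have h2 := hx g ⟨p, rfl⟩
    have h3 : p.1.1 * g * (p.1.1)⁻¹ = g⁻¹ := conj_mul_of_involutions p.1.2 p.2.2
    have h4 : (x g)⁻¹ * g * x g = g⁻¹ := by
      have h5 : x g * g⁻¹ * (x g)⁻¹ = g := by
        have := congrArg (fun z => z⁻¹) h2
        simp only [mul_inv_rev, inv_inv] at this
        rw [← mul_assoc] at this
        exact this
      calc (x g)⁻¹ * g * x g = (x g)⁻¹ * (x g * g⁻¹ * (x g)⁻¹) * x g := by rw [h5]
        _ = g⁻¹ := by group
    have h6 : p.1.1 * g⁻¹ * (p.1.1)⁻¹ = g := by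
      have := congrArg (fun z => z⁻¹) h3
      simp only [mul_inv_rev, inv_inv] at this
      rw [← mul_assoc] at this
      exact this
    calc _ = p.1.1 * ((x g)⁻¹ * (k g * (ConjClasses.mk g).out * (k g)⁻¹) * x g) * (p.1.1)⁻¹ := by
          group
      _ = g := by rw [h1, h4, h6]
  intro p q hpq hφ
  have h1 := key p
  have h2 := key q
  simp only at hφ
  rw [hφ, hpq, h2] at h1
  rw [← h1] at hφ
  have h3 : p.1.1 = q.1.1 := mul_right_cancel (mul_right_cancel hφ)
  have h4 : p.2.1 = q.2.1 := by
    rw [h3] at h1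
    exact (mul_left_cancel h1).symm
  exact Prod.ext (Subtype.ext h3) (Subtype.ext h4)

/-- S0884 -/
theorem Hyp.le_card_classes [Finite G] [Finite Ω] {a : Ω} (H : Subgroup G)
    (hHa : H ≤ stabilizer G a)
    (hHfix : ∀ u ∈ H, u ≠ 1 → ∀ c : Ω, u • c = c → c = a)
    (hdvd : e ≤ Nat.card Ω - 2) :
    e ≤ Nat.card {C : ConjClasses G // ∀ g : G, ConjClasses.mk g = C → g ∉ H} := by
  classical
  have := Fintype.ofFinite G
  have := Fintype.ofFinite Ω
  have h3 := three_le_card h.zass
  have hepos := h.pos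
  set I := {x : G // orderOf x = 2} with hI
  set Cl := {C : ConjClasses G // ∀ g : G, ConjClasses.mk g = C → g ∉ H} with hCl
  let good : I × I → Prop := fun p => p.1.1 * p.2.1 ≠ 1 ∧ fixN Ω (p.1.1 * p.2.1) ≠ 1
  have hgood : ∀ p, good p → ∀ g : G, ConjClasses.mk g = ConjClasses.mk (p.1.1 * p.2.1) →
      g ∉ H := by
    rintro p ⟨h1, h2⟩ g hg hgH
    rw [ConjClasses.mk_eq_mk_iff_isConj, isConj_iff] at hg
    obtain ⟨c, hc⟩ := hg
    have hg1 : g ≠ 1 := by
      rintro rfl
      apply h1
      rw [← hc]; group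
    apply h2
    rw [← hc, fixN_conj, fixN_eq_one_iff]
    exact ⟨a, hHa hgH, hHfix g hgH hg1⟩
  obtain ⟨φ, hφ⟩ := exists_inj G
  have hle : Nat.card {p : I × I // good p} ≤ Nat.card Cl * Nat.card G := by
    rw [← Nat.card_prod]
    refine Nat.card_le_card_of_injective
      (fun p : {p : I × I // good p} => ((⟨ConjClasses.mk (p.1.1.1 * p.1.2.1),
        hgood p.1 p.2⟩ : Cl), φ p.1)) ?_
    intro p q hpq
    simp only [Prod.mk.injEq] at hpq
    exact Subtype.ext (hφ _ _ (congrArg Subtype.val hpq.1) hpq.2)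
  have hcount : Nat.card {p : I × I // good p} = ∑ x : I, ∑ y : I, if good (x, y) then 1 else 0 := by
    rw [Nat.card_eq_fintype_card, Fintype.card_subtype, Finset.card_filter, Fintype.sum_prod_type]
  have hsplit : ∀ x : I, (∑ y : I, if good (x, y) then 1 else 0) +
      (∑ y : I, if ¬ good (x, y) then 1 else 0) = Nat.card I := by
    intro x
    rw [← Finset.sum_add_distrib, Nat.card_eq_fintype_card, ← Finset.card_univ,
      Finset.card_eq_sum_ones]
    apply Finset.sum_congr rfl
    intro y _
    by_cases hy : good (x, y) <;> simp [hy]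
  obtain ⟨m, hm⟩ : ∃ m, Nat.card Ω = m + 1 := ⟨Nat.card Ω - 1, by omega⟩
  have hcard := h.card_involutions hm
  have hG := h.card_group
  rw [hm, Nat.add_sub_cancel] at hG
  by_cases hn : Even (Nat.card Ω)
  · have hm' : ¬ Even m := by
      rw [hm, Nat.even_add_one] at hn
      exact hn
    rw [if_neg hm'] at hcard
    have hbad : ∀ x : I, (∑ y : I, if ¬ good (x, y) then 1 else 0) ≤ 1 := by
      intro x
      rw [← Finset.card_filter]
      apply Finset.card_le_one.mpr
      have key : ∀ y : I, ¬ good (x, y) → y = x := by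
        intro y hy
        have h4 : x.1 * y.1 = 1 := by
          by_contra h4
          apply hy
          refine ⟨h4, ?_⟩
          intro h5
          rw [fixN_eq_one_iff] at h5
          obtain ⟨c, hc, hu⟩ := h5
          obtain ⟨h6, -⟩ := fixes_of_mul x.2 y.2 hc hu
          have h7 := h.fixN_involution x.2
          rw [if_pos hn, fixN_eq_zero_iff] at h7
          exact h7 c h6
        apply Subtype.ext
        rw [← inv_of_orderOf x.2]
        exact eq_inv_of_mul_eq_one_right h4
      intro y hy z hz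
      rw [Finset.mem_filter] at hy hz
      rw [key y hy.2, key z hz.2]
    have hlow : Nat.card I * (Nat.card I - 1) ≤ Nat.card {p : I × I // good p} := by
      rw [hcount, Nat.card_eq_fintype_card, ← smul_eq_mul, ← Finset.card_univ (α := I),
        ← Finset.sum_const]
      apply Finset.sum_le_sum
      intro x _
      have h5 := hsplit x
      have h6 := hbad x
      rw [Nat.card_eq_fintype_card, ← Finset.card_univ] at h5
      omega
    by_contra hlt
    push Not at hlt
    have h7 : Nat.card Cl * Nat.card G ≤ (e - 1) * Nat.card G :=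
      Nat.mul_le_mul_right _ (by omega)
    have h8 := (hlow.trans hle).trans h7
    rw [hcard, hG] at h8
    obtain ⟨d, hd⟩ : ∃ d, e = d + 1 := ⟨e - 1, by omega⟩
    have hm2 : d + 2 ≤ m := by omega
    rw [hd, Nat.add_sub_cancel] at h8
    obtain ⟨r, hr⟩ := Nat.exists_eq_add_of_le hm2
    have h9 : (d + 1) * m - 1 = d * m + (m - 1) := by
      have : (d + 1) * m = d * m + m := by ring
      omega
    rw [h9] at h8
    have h10 : m - 1 = d + 1 + r := by omega
    rw [h10, hr] at h8
    nlinarith [mul_pos (show 0 < d + 1 by omega) (show 0 < d + 2 + r by omega)]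
  · have hm' : Even m := by
      rw [hm, Nat.even_add_one, not_not] at hn
      exact hn
    rw [if_pos hm'] at hcard
    have hbad : ∀ x : I, (∑ y : I, if ¬ good (x, y) then 1 else 0) ≤ e := by
      intro x
      have h7 := h.fixN_involution x.2
      rw [if_neg hn, fixN_eq_one_iff] at h7
      obtain ⟨c, hc, hu⟩ := h7
      rw [← h.card_fixing hn c, Nat.card_eq_fintype_card, Fintype.card_subtype,
        ← Finset.card_filter]
      apply Finset.card_le_card
      intro y hy
      rw [Finset.mem_filter] at hy ⊢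
      refine ⟨Finset.mem_univ _, ?_⟩
      by_cases h4 : x.1 * y.1 = 1
      · have h5 : y.1 = x.1 := by
          rw [← inv_of_orderOf x.2]
          exact eq_inv_of_mul_eq_one_right h4
        rw [h5, hc]
      · have h5 : fixN Ω (x.1 * y.1) = 1 := by
          by_contra h5
          exact hy.2 ⟨h4, h5⟩
        rw [fixN_eq_one_iff] at h5
        obtain ⟨d, hd, hdu⟩ := h5
        obtain ⟨h6, h8⟩ := fixes_of_mul x.2 y.2 hd hdu
        rw [← hu d h6, h8]
    have hlow : Nat.card I * (Nat.card I - e) ≤ Nat.card {p : I × I // good p} := by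
      rw [hcount, Nat.card_eq_fintype_card, ← smul_eq_mul, ← Finset.card_univ (α := I),
        ← Finset.sum_const]
      apply Finset.sum_le_sum
      intro x _
      have h5 := hsplit x
      have h6 := hbad x
      rw [Nat.card_eq_fintype_card, ← Finset.card_univ] at h5
      omega
    by_contra hlt
    push Not at hlt
    have h7 : Nat.card Cl * Nat.card G < e * Nat.card G := by
      apply Nat.mul_lt_mul_of_pos_right hlt
      exact Nat.card_pos
    have h8 := (hlow.trans hle).trans_lt h7
    rw [hcard, hG] at h8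
    have h9 : e * (m + 1) - e = e * m := by
      have : e * (m + 1) = e * m + e := by ring
      omega
    rw [h9] at h8
    apply absurd h8
    push Not
    apply le_of_eq
    ring

end

end Cfsg.Agent.Lib.ZassOdd
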