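import Cfsg.Agent.Lib.ZassFeit
import Cfsg.Agent.Lib.HigmanA

/-!
# Zassenhaus groups whose Frobenius kernel is a nonabelian 2-group (helper6): the action of
`D = G_{ab}` on the kernel
-/

set_option autoImplicit false
set_option linter.all false

namespace Cfsg.Agent.Lib.ZassSz

open MulAction ZassBasic ZassKernel ZassOdd ZassFeit

universe u v

variable {G : Type u} {Ω : Type v} [Group G] [MulAction G Ω]

/-- a regular normal 2-subgroup of a point stabiliser of a simple Zassenhaus group -/
theorem kerHyp_of [Finite G] [Finite Ω] (hZ : Cfsg.IsZassenhausGroup G Ω) [IsSimpleGroup G]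
    {a b : Ω} (hab : a ≠ b) (U : Subgroup G) (hUle : U ≤ stabilizer G a)
    (hreg : ∀ c d : Ω, c ≠ a → d ≠ a → ∃! u : U, (u : G) • c = d) (hU2 : IsPGroup 2 U) :
    KerHyp G Ω (Nat.card ↥(stabilizer G a ⊓ stabilizer G b : Subgroup G)) a b U := by
  have h3 := three_le_card hZ
  have hcard : Nat.card U + 1 = Nat.card Ω := by
    rw [← card_ne a]
    congr 1
    refine Nat.card_congr (Equiv.ofBijective (fun u : U => (⟨(u : G) • b, ?_⟩ : {x : Ω // x ≠ a}))
      ⟨?_, ?_⟩)
    · intro h
      apply hab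
      have h1 : (u : G) • a = a := hUle u.2
      apply MulAction.injective (u : G)
      change (u : G) • a = (u : G) • b
      rw [h1, h]
    · intro u w huw
      have h1 : (u : G) • b = (w : G) • b := congrArg Subtype.val huw
      have h2 : (w : G) • b ≠ a := by
        intro h
        apply hab
        have h1 : (w : G) • a = a := hUle w.2
        apply MulAction.injective (w : G)
        change (w : G) • a = (w : G) • b
        rw [h1, h]
      exact (hreg b ((w : G) • b) (Ne.symm hab) h2).unique h1 rfl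
    · rintro ⟨c, hc⟩
      obtain ⟨u, hu, -⟩ := hreg b c (Ne.symm hab) hc
      exact ⟨u, Subtype.ext hu⟩
  have hfix : ∀ u ∈ U, u ≠ 1 → ∀ c : Ω, u • c = c → c = a := by
    intro u hu hu1 c hc
    by_contra hca
    apply hu1
    have := (hreg c c hca hca).unique (y₁ := ⟨u, hu⟩) (y₂ := 1) hc (one_smul _ _)
    exact congrArg Subtype.val this
  obtain ⟨k, hk⟩ := IsPGroup.iff_card.1 hU2
  have hk0 : k ≠ 0 := by
    rintro rfl
    rw [pow_zero] at hk
    omega
  have hodd : Odd (Nat.card ↥(stabilizer G a ⊓ stabilizer G b : Subgroup G)) := by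
    have h1 := ZassOdd.card_dvd hZ hab
    have h2 : Odd (Nat.card Ω - 2) := by
      obtain ⟨j, rfl⟩ := Nat.exists_eq_succ_of_ne_zero hk0
      rw [← hcard, hk, pow_succ]
      refine ⟨2 ^ j - 1, ?_⟩
      have : 1 ≤ 2 ^ j := Nat.one_le_two_pow
      omega
    exact Odd.of_dvd_nat h2 h1
  exact ⟨hyp_of_simple hZ hab hodd, hab, hUle, hcard, hfix⟩

section
variable [Finite G] [Finite Ω] {e : ℕ} {a b : Ω} {H : Subgroup G} (K : KerHyp G Ω e a b H)
  (h2 : IsPGroup 2 H)
include K

theorem odd_card (h2 : IsPGroup 2 H) : ¬ Even (Nat.card Ω) := by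
  obtain ⟨k, hk⟩ := IsPGroup.iff_card.1 h2
  have h3 := K.two_le_card
  have h4 := K.hHcard
  have hk0 : k ≠ 0 := by
    rintro rfl
    rw [pow_zero] at hk
    omega
  obtain ⟨j, rfl⟩ := Nat.exists_eq_succ_of_ne_zero hk0
  rw [← h4, hk, pow_succ, Nat.even_add_one, not_not]
  exact ⟨2 ^ j, by ring⟩

theorem inf_eq_one {g : G} (hg : g ∈ H) (hb : g • b = b) : g = 1 := by
  by_contra h1
  exact K.hab (K.hHfix g hg h1 b hb).symm

theorem conj_mem {g x : G} (hg : g • a = a) (hx : x ∈ H) : g * x * g⁻¹ ∈ H := by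
  have h1 : g ∈ Subgroup.normalizer (H : Set G) := by rw [K.normalizer]; exact hg
  exact (Subgroup.mem_normalizer_iff.1 h1 x).1 hx

theorem mem_of_fix (h2 : IsPGroup 2 H) {x : G} (hx : orderOf x = 2) (hxa : x • a = a) : x ∈ H := by
  have h1 := K.hyp.centralizer_eq (odd_card K h2) hx hxa H K.hHa K.hHcard K.hHfix
  rw [← h1, Subgroup.mem_centralizer_singleton_iff]

/-- the action of `D = G_{ab}` on the kernel is regular on involutions -/
theorem exists_action (h2 : IsPGroup 2 H) : ∃ (D : Type u) (_ : CommGroup D) (i : D →* G)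
    (φ : D →* MulAut H), Function.Injective i ∧ (∀ g, g ∈ i.range ↔ g • a = a ∧ g • b = b) ∧
      (∀ k x, ((φ k x : H) : G) = i k * x * (i k)⁻¹) ∧ HigmanBase.Hyp φ ∧ Nat.card D = e := by
  classical
  let D : Subgroup G := stabilizer G a ⊓ stabilizer G b
  have hDc : ∀ x y : D, x * y = y * x := by
    intro x y
    exact Subtype.ext (K.E_comm x.2.1 x.2.2 y.2.1 y.2.2)
  letI iD : CommGroup D := { (inferInstance : Group D) with mul_comm := hDc }
  have hDa : ∀ k : D, (k : G) • a = a := fun k => k.2.1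
  have hDb : ∀ k : D, (k : G) • b = b := fun k => k.2.2
  let φ : D →* MulAut H :=
    { toFun := fun k =>
        { toFun := fun x => ⟨(k : G) * x * (k : G)⁻¹, conj_mem K (hDa k) x.2⟩
          invFun := fun x => ⟨(k : G)⁻¹ * x * (k : G)⁻¹⁻¹, conj_mem K (by
            rw [inv_smul_eq_iff, hDa k]) x.2⟩
          left_inv := fun x => Subtype.ext (by simp [mul_assoc])
          right_inv := fun x => Subtype.ext (by simp [mul_assoc])
          map_mul' := fun x y => Subtype.ext (by simp [mul_assoc]) }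
      map_one' := by
        ext x
        simp
      map_mul' := fun k l => by
        ext x
        simp [mul_assoc] }
  have hφ : ∀ (k : D) (x : H), ((φ k x : H) : G) = (k : G) * x * (k : G)⁻¹ := fun _ _ => rfl
  have hDcard : Nat.card D = e := K.hyp.card a b K.hab
  have hn := odd_card K h2
  refine ⟨D, iD, D.subtype, φ, Subtype.val_injective, ?_, hφ, ⟨h2, ?_, ?_⟩, hDcard⟩
  · intro g
    constructor
    · rintro ⟨k, rfl⟩
      exact ⟨hDa k, hDb k⟩
    · rintro ⟨h1, h2⟩
      exact ⟨⟨g, h1, h2⟩, rfl⟩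
  · have h3 := K.hyp.card_fixing hn a
    have h4 : 3 ≤ e := by
      rw [← hDcard]
      exact three_le_of_odd K.hyp.zass K.hab (by rw [K.hyp.card a b K.hab]; exact K.hyp.odd)
    have h5 : 1 < Nat.card {t : {x : G // orderOf x = 2} // t.1 • a = a} := by omega
    rw [Finite.one_lt_card_iff_nontrivial] at h5
    obtain ⟨x, y, hxy⟩ := h5
    refine ⟨⟨x.1.1, mem_of_fix K h2 x.1.2 x.2⟩, ⟨y.1.1, mem_of_fix K h2 y.1.2 y.2⟩, ?_, ?_, ?_,
      ?_, ?_⟩
    · intro h
      exact hxy (Subtype.ext (Subtype.ext (congrArg (fun z : H => (z : G)) h)))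
    · intro h
      have : x.1.1 = 1 := congrArg Subtype.val h
      have h6 := x.1.2
      rw [this, orderOf_one] at h6
      omega
    · exact Subtype.ext (mul_self_of_orderOf x.1.2)
    · intro h
      have : y.1.1 = 1 := congrArg Subtype.val h
      have h6 := y.1.2
      rw [this, orderOf_one] at h6
      omega
    · exact Subtype.ext (mul_self_of_orderOf y.1.2)
  · intro x y hx1 hx hy1 hy
    have hord : ∀ z : H, z ≠ 1 → z * z = 1 → orderOf (z : G) = 2 := by
      intro z hz1 hz
      apply orderOf_eq_prime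
      · rw [pow_two]; exact congrArg Subtype.val hz
      · intro h; exact hz1 (Subtype.ext h)
    have hox := hord x hx1 hx
    have hoy := hord y hy1 hy
    have hfix : ∀ z : H, (z : G) • a = a := fun z => K.hHa z.2
    let F : D → {t : {x : G // orderOf x = 2} // t.1 • a = a} := fun k =>
      ⟨⟨(k : G) * x * (k : G)⁻¹, by
        rw [← hox]
        have := orderOf_injective (MulAut.conj (k : G)).toMonoidHom
          (MulAut.conj (k : G)).injective (x : G)
        rw [← this]; simp⟩, K.hHa (conj_mem K (hDa k) x.2)⟩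
    have hinj : Function.Injective F := by
      intro k l hkl
      have h1 : (k : G) * x * (k : G)⁻¹ = (l : G) * x * (l : G)⁻¹ :=
        congrArg (fun z => z.1.1) hkl
      have h3 : (l : G)⁻¹ * k ∈ H := by
        apply K.centralizer_le x x.2 (fun h => hx1 (Subtype.ext h))
        rw [Subgroup.mem_centralizer_singleton_iff]
        calc (l : G)⁻¹ * k * x = (l : G)⁻¹ * ((k : G) * x * (k : G)⁻¹) * k := by group
          _ = (l : G)⁻¹ * ((l : G) * x * (l : G)⁻¹) * k := by rw [h1]
          _ = x * ((l : G)⁻¹ * k) := by group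
      have h4 := inf_eq_one K h3 (by rw [mul_smul, hDb k, inv_smul_eq_iff, hDb l])
      exact Subtype.ext (inv_mul_eq_one.1 h4).symm
    have hbij : Function.Bijective F :=
      (Nat.bijective_iff_injective_and_card F).mpr ⟨hinj, by
        rw [hDcard, K.hyp.card_fixing hn a]⟩
    obtain ⟨k, hk⟩ := hbij.2 ⟨⟨(y : G), hoy⟩, hfix y⟩
    refine ⟨k, Subtype.ext (congrArg (fun z => z.1.1) hk), ?_⟩
    intro l hl
    apply hbij.1
    rw [hk]
    apply Subtype.ext
    apply Subtype.ext
    exact congrArg (fun z : H => (z : G)) hl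

end

end Cfsg.Agent.Lib.ZassSz
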