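import Cfsg.Agent.Lib.ZassSz1

/-!
# Zassenhaus groups whose Frobenius kernel is a nonabelian 2-group (helper6): the element `t s`
-/

set_option autoImplicit false
set_option linter.all false

namespace Cfsg.Agent.Lib.ZassSz

open MulAction ZassBasic ZassKernel ZassOdd ZassFeit

universe u v

variable {G : Type u} {Ω : Type v} [Group G] [MulAction G Ω]

/-- the number of involutions is the order of the acting group -/
theorem card_Z_eq {P : Type u} [Group P] [Finite P] {K : Type v} [CommGroup K] [Finite K]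
    {φ : K →* MulAut P} (h : HigmanBase.Hyp φ) : Nat.card h.Z = Nat.card K + 1 := by
  classical
  obtain ⟨x, y, -, hx1, hx, -⟩ := h.two
  have hF : ∀ k : K, φ k x ∈ h.Z ∧ φ k x ≠ 1 := fun k => ⟨by
    rw [h.mem_Z, ← map_mul, hx, map_one], fun h' => hx1 ((map_eq_one_iff (φ k)
      (φ k).injective).1 h')⟩
  let F : K → {z : h.Z // z ≠ 1} := fun k => ⟨⟨φ k x, (hF k).1⟩, fun h' =>
    (hF k).2 (congrArg Subtype.val h')⟩
  have hbij : Function.Bijective F := by
    constructor
    · intro k l hkl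
      have h1 : φ k x = φ l x := congrArg (fun z => (z.1 : P)) hkl
      exact (h.reg x (φ l x) hx1 hx (hF l).2 (h.mem_Z.1 (hF l).1)).unique h1 rfl
    · rintro ⟨⟨z, hz⟩, hz1⟩
      obtain ⟨k, hk, -⟩ := h.reg x z hx1 hx (fun h' => hz1 (Subtype.ext h')) (h.mem_Z.1 hz)
      exact ⟨k, Subtype.ext (Subtype.ext hk)⟩
  rw [Nat.card_congr (Equiv.ofBijective F hbij)]
  haveI : Fintype h.Z := Fintype.ofFinite _
  rw [Nat.card_eq_fintype_card, Nat.card_eq_fintype_card, Fintype.card_subtype_compl,
    Fintype.card_subtype_eq]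
  have : 0 < Fintype.card h.Z := Fintype.card_pos
  omega

section
variable [Finite G] [Finite Ω] {e : ℕ} {a b : Ω} {H : Subgroup G} (K : KerHyp G Ω e a b H)
include K

/-- square roots in `D` -/
theorem exists_sqrt {d : G} (hda : d • a = a) (hdb : d • b = b) :
    ∃ y : G, y • a = a ∧ y • b = b ∧ y * y = d := by
  have h1 := K.hyp.orderOf_dvd K.hab hda hdb
  obtain ⟨k, hk⟩ := K.hyp.odd
  have hpow : ∀ n : ℕ, ∀ c : Ω, d • c = c → (d ^ n) • c = c := by
    intro n c hc
    induction n with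
    | zero => simp
    | succ n ih => rw [pow_succ, mul_smul, hc, ih]
  refine ⟨d ^ (k + 1), hpow _ _ hda, hpow _ _ hdb, ?_⟩
  rw [← pow_add]
  have : k + 1 + (k + 1) = e + 1 := by omega
  rw [this, pow_succ, h1, one_mul]

/-- every element of the kernel moving `b` to a given point -/
theorem exists_ker {c : Ω} (hc : c ≠ a) : ∃ v ∈ H, v • b = c := by
  classical
  have hb : b ≠ a := K.hab.symm
  let F : H → {x : Ω // x ≠ a} := fun u => ⟨(u : G) • b, by
    intro h
    apply K.hab
    have h1 : (u : G) • a = a := K.hHa u.2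
    apply MulAction.injective (u : G)
    change (u : G) • a = (u : G) • b
    rw [h1, h]⟩
  have hF : Function.Injective F := by
    intro u w huw
    have h1 : (u : G) • b = (w : G) • b := congrArg Subtype.val huw
    have h2 : ((w : G)⁻¹ * u) • b = b := by rw [mul_smul, h1, inv_smul_smul]
    have h3 := inf_eq_one K (H.mul_mem (H.inv_mem w.2) u.2) h2
    exact Subtype.ext (inv_mul_eq_one.1 h3).symm
  have hbij : Function.Bijective F := (Nat.bijective_iff_injective_and_card F).mpr ⟨hF, by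
    have h1 := card_ne a
    have h2 := K.hHcard
    omega⟩
  obtain ⟨v, hv⟩ := hbij.2 ⟨c, hc⟩
  exact ⟨v, v.2, congrArg Subtype.val hv⟩

theorem not_swap_mem {t g : G} (hta : t • a = b) (hg : g ∈ H) : t * g ∉ H := by
  intro h
  have h1 : (t * g) • a = a := K.hHa h
  have h2 : g • a = a := K.hHa hg
  rw [mul_smul, h2, hta] at h1
  exact K.hab h1.symm

/-- the triple `t, s, r` -/
theorem exists_triple (h2 : IsPGroup 2 H) {t : G} (hta : t • a = b) (htb : t • b = a) :
    ∃ s ∈ H, s ≠ 1 ∧ s * s = 1 ∧ ∃ r ∈ H, t * s * t = r⁻¹ * t * r := by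
  have htt : t * t = 1 := K.hyp.swap_sq K.hab hta htb
  have htinv : t⁻¹ = t := inv_eq_of_mul_eq_one_right htt
  -- an involution of H
  obtain ⟨u, hu, hu1, huu⟩ : ∃ u ∈ H, u ≠ 1 ∧ u * u = 1 := by
    obtain ⟨D, _, i, φ, -, -, -, hyp, -⟩ := exists_action K h2
    obtain ⟨x, y, -, hx1, hx, -⟩ := hyp.two
    exact ⟨x, x.2, fun h => hx1 (Subtype.ext h), congrArg Subtype.val hx⟩
  have hua : u • a = a := K.hHa hu
  set w := t * u * t with hw
  have hww : w * w = 1 := by
    calc w * w = t * u * (t * t) * u * t := by rw [hw]; group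
      _ = t * (u * u) * t := by rw [htt]; group
      _ = 1 := by rw [huu, mul_one, htt]
  have hwb : w • b = b := by rw [hw, mul_smul, mul_smul, htb, hua, hta]
  have hw1 : w ≠ 1 := by
    intro h
    apply hu1
    calc u = t * (t * u * t) * t := by
            rw [← mul_assoc, ← mul_assoc, htt, one_mul, mul_assoc, htt, mul_one]
      _ = 1 := by rw [← hw, h, mul_one, htt]
  have hwa : w • a ≠ a := by
    intro h
    exact hw1 (K.hyp.eq_one_of_sq K.hab h hwb hww)
  obtain ⟨v, hv, hvb⟩ := exists_ker K hwa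
  have hva : v • a = a := K.hHa hv
  set t' := v⁻¹ * w * v with ht'
  have ht'a : t' • a = b := by
    rw [ht', mul_smul, mul_smul, hva, ← hvb, inv_smul_smul]
  have ht't' : t' * t' = 1 := by
    calc t' * t' = v⁻¹ * (w * w) * v := by rw [ht']; group
      _ = 1 := by rw [hww]; group
  have ht'b : t' • b = a := by
    rw [← ht'a, ← mul_smul, ht't', one_smul]
  -- t' = t * d
  have hda : (t * t') • a = a := by rw [mul_smul, ht'a, htb]
  have hdb : (t * t') • b = b := by rw [mul_smul, ht'b, hta]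
  obtain ⟨y, hya, hyb, hyy⟩ := exists_sqrt K hda hdb
  -- e0 = y⁻¹
  have hinv : t * y * t = y⁻¹ := by
    have := K.hyp.inv a b K.hab t hta htb y hya hyb
    rwa [htinv] at this
  have hty : y⁻¹ * t = t * y := by
    rw [← hinv]
    calc t * y * t * t = t * y * (t * t) := by group
      _ = t * y := by rw [htt, mul_one]
  have hyt : y * t = t * y⁻¹ := by
    calc y * t = t * t * y * t := by rw [htt, one_mul]
      _ = t * (t * y * t) := by group
      _ = t * y⁻¹ := by rw [hinv]
  have ht'eq : t' = y⁻¹ * t * y := by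
    have h1 : t' = t * (y * y) := by rw [hyy, ← mul_assoc, htt, one_mul]
    rw [h1, hty, mul_assoc]
  -- r = y v⁻¹ y⁻¹,  s = y⁻¹ u y
  refine ⟨y⁻¹ * u * y, ?_, ?_, ?_, y * v⁻¹ * y⁻¹, conj_mem K hya (H.inv_mem hv), ?_⟩
  · have := conj_mem K (g := y⁻¹) (by rw [inv_smul_eq_iff, hya]) hu
    rwa [inv_inv] at this
  · intro h
    apply hu1
    calc u = y * (y⁻¹ * u * y) * y⁻¹ := by group
      _ = 1 := by rw [h]; group
  · calc y⁻¹ * u * y * (y⁻¹ * u * y) = y⁻¹ * (u * u) * y := by group
      _ = 1 := by rw [huu]; group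
  · -- w = v t' v⁻¹
    have h1 : w = v * (y⁻¹ * t * y) * v⁻¹ := by rw [← ht'eq, ht']; group
    have h2 : t * (y⁻¹ * u * y) * t = y * w * y⁻¹ := by
      have e1 : t * y⁻¹ = y * t := hyt.symm
      have e2 : y * t = t * y⁻¹ := hyt
      calc t * (y⁻¹ * u * y) * t = (t * y⁻¹) * u * (y * t) := by group
        _ = (y * t) * u * (t * y⁻¹) := by rw [hyt]
        _ = y * w * y⁻¹ := by rw [hw]; group
    rw [h2, h1]
    have e3 : t = y⁻¹ * t * y⁻¹ := by rw [hty]; group
    calc y * (v * (y⁻¹ * t * y) * v⁻¹) * y⁻¹ = y * v * y⁻¹ * t * (y * v⁻¹ * y⁻¹) := by group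
      _ = (y * v⁻¹ * y⁻¹)⁻¹ * t * (y * v⁻¹ * y⁻¹) := by group

theorem central_of (h2 : IsPGroup 2 H) {z y : G} (hz : z ∈ H) (hzz : z * z = 1) (hy : y ∈ H) :
    z * y = y * z := by
  obtain ⟨D, _, i, φ, -, -, -, hyp, -⟩ := exists_action K h2
  exact congrArg Subtype.val (hyp.central (x := ⟨z, hz⟩) (Subtype.ext hzz) ⟨y, hy⟩)

theorem four_of (h2 : IsPGroup 2 H) (hna : ∃ u ∈ H, ∃ v ∈ H, u * v ≠ v * u) {y : G}
    (hy : y ∈ H) : (y * y) * (y * y) = 1 := by
  obtain ⟨D, _, i, φ, -, -, -, hyp, -⟩ := exists_action K h2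
  obtain ⟨u, hu, v, hv, huv⟩ := hna
  have := hyp.sq_mem ⟨⟨u, hu⟩, ⟨v, hv⟩, fun h => huv (congrArg Subtype.val h)⟩ ⟨y, hy⟩
  exact congrArg Subtype.val (hyp.mem_Z.1 this)

/-- the dichotomy -/
theorem dichotomy (h2 : IsPGroup 2 H) (hna : ∃ u ∈ H, ∃ v ∈ H, u * v ≠ v * u)
    {t s r : G} (hta : t • a = b) (htb : t • b = a)
    (hs : s ∈ H) (hs1 : s ≠ 1) (hss : s * s = 1) (hr : r ∈ H) (hrel : t * s * t = r⁻¹ * t * r) :
    (r = s ∧ t * s * t = s * t * s) ∨ (r * r = s ∧ (t * s) ^ 5 = 1) := by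
  have htt : t * t = 1 := K.hyp.swap_sq K.hab hta htb
  have htH : ∀ g ∈ H, t * g ∉ H := fun g hg => not_swap_mem K hta hg
  have hcs : s * r = r * s := central_of K h2 hs hss hr
  have hr4 : (r * r) * (r * r) = 1 := four_of K h2 hna hr
  set x := t * s with hx
  have hrx : r⁻¹ * x * r = x * x := by
    calc r⁻¹ * x * r = r⁻¹ * t * (s * r) := by rw [hx]; group
      _ = (r⁻¹ * t * r) * s := by rw [hcs]; group
      _ = t * s * t * s := by rw [← hrel]
      _ = x * x := by rw [hx]; group
  have hconj : ∀ n : ℕ, r⁻¹ * x ^ n * r = x ^ (2 * n) := by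
    intro n
    have : r⁻¹ * x ^ n * r = (r⁻¹ * x * r) ^ n := by
      have := conj_pow (i := n) (a := r⁻¹) (b := x)
      simpa using this.symm
    rw [this, hrx, ← pow_two, ← pow_mul]
  have hconj2 : ∀ n : ℕ, (r * r)⁻¹ * x ^ n * (r * r) = x ^ (4 * n) := by
    intro n
    calc (r * r)⁻¹ * x ^ n * (r * r) = r⁻¹ * (r⁻¹ * x ^ n * r) * r := by group
      _ = x ^ (4 * n) := by rw [hconj, hconj]; congr 1; ring
  have h16 : x ^ 16 = x := by
    have h1 : ((r * r) * (r * r))⁻¹ * x ^ 1 * ((r * r) * (r * r)) = x ^ 16 := by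
      calc ((r * r) * (r * r))⁻¹ * x ^ 1 * ((r * r) * (r * r)) =
          (r * r)⁻¹ * ((r * r)⁻¹ * x ^ 1 * (r * r)) * (r * r) := by group
        _ = x ^ 16 := by rw [hconj2, hconj2]
    rw [← h1, hr4]; simp
  have h15 : x ^ 15 = 1 := by
    have : x ^ 15 * x = 1 * x := by rw [← pow_succ, h16, one_mul]
    exact mul_right_cancel this
  have hinvx : ∀ z : G, z * z = 1 → z * x = x⁻¹ * z → z * x * z = x⁻¹ := by
    intro z hz h
    rw [h, mul_assoc, hz, mul_one]
  by_cases hrr : r * r = 1
  · left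
    have h4 : x ^ 4 = x := by
      have h1 := hconj2 1
      rw [hrr] at h1
      simpa using h1.symm
    have h3 : x * x * x = 1 := by
      have : x * x * x * x = 1 * x := by
        rw [one_mul]
        calc x * x * x * x = x ^ 4 := by rw [pow_succ, pow_succ, pow_succ, pow_one]
          _ = x := h4
      exact mul_right_cancel this
    have hbr : t * s * t = s * t * s := by
      have h5 : t * s * t * (s * t * s) = 1 := by
        calc t * s * t * (s * t * s) = x * x * x := by rw [hx]; group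
          _ = 1 := h3
      have h6 : (s * t * s) * (s * t * s) = 1 := by
        calc (s * t * s) * (s * t * s) = s * t * (s * s) * t * s := by group
          _ = s * (t * t) * s := by rw [hss]; group
          _ = 1 := by rw [htt, mul_one, hss]
      calc t * s * t = t * s * t * ((s * t * s) * (s * t * s)) := by rw [h6, mul_one]
        _ = (t * s * t * (s * t * s)) * (s * t * s) := by group
        _ = s * t * s := by rw [h5, one_mul]
    refine ⟨?_, hbr⟩
    by_contra hne
    have hrs : r * s ≠ 1 := by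
      intro h
      apply hne
      calc r = r * (s * s) := by rw [hss, mul_one]
        _ = (r * s) * s := by group
        _ = s := by rw [h, one_mul]
    have hcent : t ∈ Subgroup.centralizer ({r * s} : Set G) := by
      rw [Subgroup.mem_centralizer_singleton_iff]
      have h7 : r⁻¹ * t * r = s * t * s := by rw [← hrel, hbr]
      have h8 : t * r = r * (s * t * s) := by rw [← h7]; group
      calc t * (r * s) = (t * r) * s := by group
        _ = r * s * t * (s * s) := by rw [h8]; group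
        _ = r * s * t := by rw [hss, mul_one]
    have := K.centralizer_le (r * s) (H.mul_mem hr hs) hrs hcent
    exact htH 1 H.one_mem (by rw [mul_one]; exact this)
  · right
    -- x ^ 5 ∈ H
    have h5c : x ^ 5 ∈ Subgroup.centralizer ({r * r} : Set G) := by
      rw [Subgroup.mem_centralizer_singleton_iff]
      have h1 := hconj2 5
      have h2 : x ^ (4 * 5) = x ^ 5 := by
        have : 4 * 5 = 15 + 5 := by norm_num
        rw [this, pow_add, h15, one_mul]
      rw [h2] at h1
      calc x ^ 5 * (r * r) = (r * r) * ((r * r)⁻¹ * x ^ 5 * (r * r)) := by group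
        _ = (r * r) * x ^ 5 := by rw [h1]
    have h5H := K.centralizer_le (r * r) (H.mul_mem hr hr) hrr h5c
    have h5 : x ^ 5 = 1 := by
      obtain ⟨k, hk⟩ := h2 ⟨x ^ 5, h5H⟩
      have hk' : (x ^ 5) ^ (2 ^ k) = 1 := congrArg Subtype.val hk
      have h3 : (x ^ 5) ^ 3 = 1 := by rw [← pow_mul]; exact h15
      have hd := Nat.dvd_gcd (orderOf_dvd_of_pow_eq_one hk') (orderOf_dvd_of_pow_eq_one h3)
      have hc : Nat.gcd (2 ^ k) 3 = 1 := by
        have : Nat.Coprime (2 ^ k) 3 := Nat.Coprime.pow_left k (by norm_num)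
        exact this
      rw [hc, Nat.dvd_one, orderOf_eq_one_iff] at hd
      exact hd
    refine ⟨?_, h5⟩
    by_contra hne
    have hrrH : r * r ∈ H := H.mul_mem hr hr
    have hrs : r * r * s ≠ 1 := by
      intro h
      apply hne
      calc r * r = r * r * (s * s) := by rw [hss, mul_one]
        _ = (r * r * s) * s := by group
        _ = s := by rw [h, one_mul]
    -- s inverts x
    have hsx : s * x * s = x⁻¹ := by
      have h7 : x * (s * x * s) = 1 := by
        calc x * (s * x * s) = t * (s * s) * t * (s * s) := by rw [hx]; group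
          _ = 1 := by rw [hss, mul_one, mul_one, htt]
      exact (inv_eq_of_mul_eq_one_right h7).symm
    have h4x : x ^ 4 = x⁻¹ := by
      have : x * x ^ 4 = 1 := by
        rw [← pow_succ', h5]
      exact (inv_eq_of_mul_eq_one_right this).symm
    have hrrx : (r * r)⁻¹ * x * (r * r) = x⁻¹ := by
      have h1 := hconj2 1
      rw [pow_one, mul_one, h4x] at h1
      exact h1
    have hcent : x ∈ Subgroup.centralizer ({r * r * s} : Set G) := by
      rw [Subgroup.mem_centralizer_singleton_iff]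
      have h8 : x * (r * r) = (r * r) * x⁻¹ := by rw [← hrrx]; group
      have h9 : x⁻¹ * s = s * x := by
        rw [← hsx, mul_assoc, hss, mul_one]
      calc x * (r * r * s) = (x * (r * r)) * s := by group
        _ = (r * r) * (x⁻¹ * s) := by rw [h8]; group
        _ = r * r * s * x := by rw [h9]; group
    have := K.centralizer_le (r * r * s) (H.mul_mem hrrH hs) hrs hcent
    exact htH s hs this

theorem five_dvd {t s r : G} (hta : t • a = b) (htb : t • b = a)
    (hs : s ∈ H) (hs1 : s ≠ 1) (hss : s * s = 1) (hr : r ∈ H) (hrel : t * s * t = r⁻¹ * t * r)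
    (hrr : r * r = s) (h5 : (t * s) ^ 5 = 1) : 5 ∣ Nat.card Ω := by
  have htt : t * t = 1 := K.hyp.swap_sq K.hab hta htb
  have hcs : s * r = r * s := by rw [← hrr]; group
  have hr1 : r ≠ 1 := by
    rintro rfl
    rw [mul_one] at hrr
    exact hs1 hrr.symm
  set x := t * s with hx
  have hx1 : x ≠ 1 := by
    intro h
    have := not_swap_mem K hta hs
    rw [← hx, h] at this
    exact this H.one_mem
  have hrx : x * r = r * (x * x) := by
    have : r⁻¹ * x * r = x * x := by
      calc r⁻¹ * x * r = r⁻¹ * t * (s * r) := by rw [hx]; group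
        _ = (r⁻¹ * t * r) * s := by rw [hcs]; group
        _ = t * s * t * s := by rw [← hrel]
        _ = x * x := by rw [hx]; group
    rw [← this]; group
  have hfree : ∀ c : Ω, x • c ≠ c := by
    intro c hc
    have hmove : ∀ c : Ω, x • c = c → x • (r • c) = r • c := by
      intro c hc
      rw [← mul_smul, hrx, mul_smul, mul_smul, hc, hc]
    by_cases hca : c = a
    · subst hca
      have h1 : s • c = c := K.hHa hs
      rw [hx, mul_smul, h1, hta] at hc
      exact K.hab hc.symm
    · have h1 : r • c ≠ c := fun h => hca (K.hHfix r hr hr1 c h)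
      have h3 : r • (r • c) ≠ c := fun h => by
        rw [← mul_smul, hrr] at h
        exact hca (K.hHfix s hs hs1 c h)
      have h2' : r • (r • c) ≠ r • c := fun h => h1 (MulAction.injective r h)
      exact hx1 (K.hyp.zass.2.2.1 x c (r • c) (r • (r • c)) h1.symm h2'.symm h3.symm hc
        (hmove c hc) (hmove _ (hmove c hc)))
  have hp : IsPGroup 5 (Subgroup.zpowers x) := by
    rintro ⟨y, hy⟩
    refine ⟨1, Subtype.ext ?_⟩
    rw [Subgroup.mem_zpowers_iff] at hy
    obtain ⟨n, rfl⟩ := hy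
    change (x ^ n) ^ (5 ^ 1) = 1
    rw [pow_one, ← zpow_natCast, ← zpow_mul, mul_comm, zpow_mul, zpow_natCast, h5, one_zpow]
  haveI : Fact (Nat.Prime 5) := ⟨by norm_num⟩
  have h1 := hp.card_modEq_card_fixedPoints Ω
  have h2' : Nat.card (fixedPoints (Subgroup.zpowers x) Ω) = 0 := by
    rw [Finite.card_eq_zero_iff, isEmpty_subtype]
    intro c hc
    exact hfree c (hc ⟨x, Subgroup.mem_zpowers x⟩)
  rw [h2'] at h1
  exact (Nat.modEq_zero_iff_dvd).1 h1

open scoped Pointwise in
theorem braid_dvd (h2 : IsPGroup 2 H) {t s : G} (hta : t • a = b) (htb : t • b = a)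
    (hs : s ∈ H) (hs1 : s ≠ 1) (hss : s * s = 1) (hbr : t * s * t = s * t * s) :
    e + 2 ∣ Nat.card G := by
  classical
  have htt : t * t = 1 := K.hyp.swap_sq K.hab hta htb
  have htinv : t⁻¹ = t := inv_eq_of_mul_eq_one_right htt
  obtain ⟨D, _, i, φ, hi, hir, hφ, hyp, hDe⟩ := exists_action K h2
  haveI : Finite D := Finite.of_injective i hi
  have hZc : Nat.card hyp.Z = e + 1 := by rw [card_Z_eq hyp, hDe]
  let S : Set Ω := Set.range (fun z : hyp.Z => ((z : H) : G) • b)
  let Ω0 : Set Ω := insert a S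
  have hSa : a ∉ S := by
    rintro ⟨z, hz⟩
    apply K.hab
    have h1 : ((z : H) : G) • a = a := K.hHa z.1.2
    apply MulAction.injective ((z : H) : G)
    change ((z : H) : G) • a = ((z : H) : G) • b
    rw [h1]; exact hz.symm
  have hSc : S.ncard = e + 1 := by
    rw [← hZc, ← Nat.card_coe_set_eq]
    refine (Nat.card_congr (Equiv.ofBijective (fun z : hyp.Z =>
      (⟨((z : H) : G) • b, z, rfl⟩ : S)) ⟨?_, ?_⟩)).symm
    · intro u w huw
      have h1 : ((u : H) : G) • b = ((w : H) : G) • b := congrArg Subtype.val huw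
      have h2 : (((w : H) : G)⁻¹ * u) • b = b := by rw [mul_smul, h1, inv_smul_smul]
      have h3 := inf_eq_one K (H.mul_mem (H.inv_mem w.1.2) u.1.2) h2
      exact Subtype.ext (Subtype.ext (inv_mul_eq_one.1 h3).symm)
    · rintro ⟨_, z, rfl⟩
      exact ⟨z, rfl⟩
  have hΩ0c : Ω0.ncard = e + 2 := by
    rw [Set.ncard_insert_of_notMem hSa (Set.toFinite _), hSc]
  -- invariance
  have hts : t • s • b = s • b := by
    have h1 : s • a = a := K.hHa hs
    calc t • s • b = (t * s * t) • a := by rw [mul_smul, mul_smul, hta]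
      _ = (s * t * s) • a := by rw [hbr]
      _ = s • b := by rw [mul_smul, mul_smul, h1, hta]
  have hb0 : b ∈ S := ⟨1, by simp⟩
  have htS : ∀ c ∈ Ω0, t • c ∈ Ω0 := by
    rintro c (rfl | ⟨z, rfl⟩)
    · rw [hta]; exact Or.inr hb0
    · by_cases hz1 : z = 1
      · subst hz1
        left
        simp [htb]
      · right
        have hs' : (⟨s, hs⟩ : H) ≠ 1 := fun h => hs1 (congrArg Subtype.val h)
        have hss' : (⟨s, hs⟩ : H) * ⟨s, hs⟩ = 1 := Subtype.ext hss
        obtain ⟨k, hk, -⟩ := hyp.reg ⟨s, hs⟩ (z : H) hs' hss' (fun h => hz1 (Subtype.ext h))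
          (hyp.mem_Z.1 z.2)
        have hk2 : ((z : H) : G) = i k * s * (i k)⁻¹ := by rw [← hk, hφ]
        obtain ⟨hka, hkb⟩ := (hir (i k)).1 ⟨k, rfl⟩
        have hkt : t * i k * t⁻¹ = (i k)⁻¹ := K.hyp.inv a b K.hab t hta htb _ hka hkb
        refine ⟨⟨φ k⁻¹ ⟨s, hs⟩, ?_⟩, ?_⟩
        · rw [hyp.mem_Z, ← map_mul, hss', _root_.map_one]
        · change ((φ k⁻¹ ⟨s, hs⟩ : H) : G) • b = t • (((z : H) : G) • b)
          rw [hφ, hk2, map_inv, inv_inv]
          have e1 : (i k)⁻¹ • b = b := by rw [inv_smul_eq_iff, hkb]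
          have e2 : t • ((i k * s * (i k)⁻¹) • b) = (t * i k * t⁻¹) • (t • s • b) := by
            simp only [mul_smul, inv_smul_smul, e1]
          rw [e2, hkt, hts, mul_smul, mul_smul, hkb]
  have hZS : ∀ z : hyp.Z, ∀ c ∈ Ω0, ((z : H) : G) • c ∈ Ω0 := by
    rintro z c (rfl | ⟨w, rfl⟩)
    · left; exact K.hHa z.1.2
    · right
      refine ⟨z * w, ?_⟩
      change (((z * w : hyp.Z) : H) : G) • b = _
      simp [mul_smul]
  let M : Subgroup G := stabilizer G Ω0
  have hmemM : ∀ g : G, (∀ c ∈ Ω0, g • c ∈ Ω0) → g ∈ M := by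
    intro g hg
    change g • Ω0 = Ω0
    apply Set.eq_of_subset_of_ncard_le
    · rintro _ ⟨c, hc, rfl⟩
      exact hg c hc
    · rw [Set.ncard_smul_set]
    · exact Set.toFinite _
  have hinvM : ∀ g ∈ M, ∀ c ∈ Ω0, g • c ∈ Ω0 := by
    intro g hg c hc
    have h1 : g • Ω0 = Ω0 := hg
    rw [← h1]
    exact Set.smul_mem_smul_set hc
  have ha0 : a ∈ Ω0 := Or.inl rfl
  have horb : orbit M a = Ω0 := by
    apply Set.Subset.antisymm
    · rintro _ ⟨g, rfl⟩
      exact hinvM g g.2 a ha0
    · rintro c (rfl | ⟨z, rfl⟩)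
      · exact mem_orbit_self _
      · refine ⟨⟨((z : H) : G), hmemM _ (hZS z)⟩ * ⟨t, hmemM _ htS⟩, ?_⟩
        change (((z : H) : G) * t) • a = ((z : H) : G) • b
        rw [mul_smul, hta]
  have h1 := (stabilizer M a).index_dvd_card
  rw [MulAction.index_stabilizer, horb, hΩ0c] at h1
  exact h1.trans (Subgroup.card_subgroup_dvd_card M)

end

end Cfsg.Agent.Lib.ZassSz
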