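import Cfsg.Agent.Lib.TIFN3
import Cfsg.Agent.Lib.NilChar
import Cfsg.Agent.Lib.StructConst

/-!
# Characters between two normal subgroups (helper6)
-/

set_option autoImplicit false
set_option linter.all false

namespace Cfsg.Agent.Lib.ZassSz

open scoped ComplexConjugate
open CharBasic TIFN

universe u v

section Abstract

variable {L : Type u} [Group L]

/-- sum of a class function over a normal subgroup -/
theorem sum_over_normal [Fintype L] (N : Subgroup L) [N.Normal] [Fintype N]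
    [DecidablePred (fun χ : IrrCharacter L => ∀ k ∈ N, (χ : L → ℂ) k = (χ : L → ℂ) 1)]
    {φ : L → ℂ} (hφ : IsClassFunction L φ) :
    ∑ x : N, φ x = (Nat.card N : ℂ) * ∑ χ ∈ Finset.univ.filter (fun χ : IrrCharacter L =>
      ∀ k ∈ N, (χ : L → ℂ) k = (χ : L → ℂ) 1), classInner φ χ * (χ : L → ℂ) 1 := by
  have h1 : ∀ x : N, φ x = ∑ χ : IrrCharacter L, classInner φ χ * (χ : L → ℂ) x :=
    fun x => hφ.expansion_apply _
  rw [Finset.sum_congr rfl fun x _ => h1 x, Finset.sum_comm, Finset.sum_filter, Finset.mul_sum]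
  apply Finset.sum_congr rfl
  intro χ _
  rw [← Finset.mul_sum]
  split_ifs with h
  · have h2 : ∀ x : N, (χ : L → ℂ) x = (χ : L → ℂ) 1 := fun x => h x x.2
    rw [Finset.sum_congr rfl fun x _ => h2 x, Finset.sum_const, nsmul_eq_mul, Finset.card_univ,
      ← Nat.card_eq_fintype_card]
    ring
  · push Not at h
    rw [NilChar.sum_normal_eq_zero χ.2 N h]
    simp

/-- `∑ χ(1)² = |L : N|` over the characters with `N` in the kernel -/
theorem sum_sq_ker [Finite L] (N : Subgroup L) [N.Normal]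
    [DecidablePred (fun χ : IrrCharacter L => ∀ k ∈ N, (χ : L → ℂ) k = (χ : L → ℂ) 1)] :
    ∑ χ ∈ Finset.univ.filter (fun χ : IrrCharacter L =>
      ∀ k ∈ N, (χ : L → ℂ) k = (χ : L → ℂ) 1), (χ : L → ℂ) 1 ^ 2 = (N.index : ℂ) := by
  classical
  have h2 := sum_degree_sq (G := L ⧸ N)
  have h3 : ∑ ψ : IrrCharacter (L ⧸ N), (ψ : L ⧸ N → ℂ) 1 ^ 2 =
      ∑ ψ ∈ Finset.univ.filter (fun ψ : IrrCharacter L =>
        ∀ k ∈ N, (ψ : L → ℂ) k = (ψ : L → ℂ) 1), (ψ : L → ℂ) 1 ^ 2 := by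
    exact (Equiv.sum_comp (irrQuotEquiv N) (fun ψ => ((ψ : IrrCharacter L) : L → ℂ) 1 ^ 2)).trans
      (Finset.sum_subtype (Finset.univ.filter (fun ψ : IrrCharacter L =>
        ∀ k ∈ N, (ψ : L → ℂ) k = (ψ : L → ℂ) 1)) (p := fun ψ : IrrCharacter L =>
        ∀ k ∈ N, (ψ : L → ℂ) k = (ψ : L → ℂ) 1) (by simp)
        (fun ψ : IrrCharacter L => (ψ : L → ℂ) 1 ^ 2)).symm
  rw [← h3, h2, Subgroup.index_eq_card]

/-- The irreducible characters trivial on `N`, nontrivial on `K`. -/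
abbrev Mid (N K : Subgroup L) : Type u :=
  {χ : IrrCharacter L // (∀ k ∈ N, (χ : L → ℂ) k = (χ : L → ℂ) 1) ∧
    ∃ k ∈ K, (χ : L → ℂ) k ≠ (χ : L → ℂ) 1}

/-- sums over the characters between `N` and `K` -/
theorem sum_mid [Finite L] {N K : Subgroup L} (hNK : N ≤ K) [Fintype (Mid N K)]
    [DecidablePred (fun χ : IrrCharacter L => ∀ k ∈ N, (χ : L → ℂ) k = (χ : L → ℂ) 1)]
    [DecidablePred (fun χ : IrrCharacter L => ∀ k ∈ K, (χ : L → ℂ) k = (χ : L → ℂ) 1)]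
    (F : IrrCharacter L → ℂ) :
    ∑ χ ∈ Finset.univ.filter (fun χ : IrrCharacter L =>
      ∀ k ∈ N, (χ : L → ℂ) k = (χ : L → ℂ) 1), F χ =
    ∑ χ ∈ Finset.univ.filter (fun χ : IrrCharacter L =>
      ∀ k ∈ K, (χ : L → ℂ) k = (χ : L → ℂ) 1), F χ + ∑ χ : Mid N K, F χ.1 := by
  classical
  have h1 : ∑ χ : Mid N K, F χ.1 = ∑ χ ∈ Finset.univ.filter (fun χ : IrrCharacter L =>
      (∀ k ∈ N, (χ : L → ℂ) k = (χ : L → ℂ) 1) ∧ ∃ k ∈ K, (χ : L → ℂ) k ≠ (χ : L → ℂ) 1),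
      F χ := by
    symm
    apply Finset.sum_subtype (p := fun χ : IrrCharacter L =>
      (∀ k ∈ N, (χ : L → ℂ) k = (χ : L → ℂ) 1) ∧ ∃ k ∈ K, (χ : L → ℂ) k ≠ (χ : L → ℂ) 1)
    intro x
    simp
  rw [h1, ← Finset.sum_filter_add_sum_filter_not (Finset.univ.filter (fun χ : IrrCharacter L =>
      ∀ k ∈ N, (χ : L → ℂ) k = (χ : L → ℂ) 1)) (fun χ : IrrCharacter L =>
      ∀ k ∈ K, (χ : L → ℂ) k = (χ : L → ℂ) 1), Finset.filter_filter, Finset.filter_filter]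
  congr 1
  · apply Finset.sum_congr _ fun _ _ => rfl
    apply Finset.filter_congr
    intro χ _
    exact ⟨fun h => h.2, fun h => ⟨fun k hk => h k (hNK hk), h⟩⟩
  · apply Finset.sum_congr _ fun _ _ => rfl
    apply Finset.filter_congr
    intro χ _
    push Not
    exact Iff.rfl

/-- degrees of the characters between `N` and `K` when `L / N` is a Frobenius group with
abelian kernel `K / N`. -/
theorem deg_mid [Fintype L] {N K : Subgroup L} [hN : N.Normal] [hK : K.Normal] (hNK : N ≤ K)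
    (hC : ∀ k ∈ K, k ∉ N → ∀ x, k⁻¹ * (x * k * x⁻¹) ∈ N → x ∈ K)
    (hab : ∀ u ∈ K, ∀ v ∈ K, u⁻¹ * (v * u * v⁻¹) ∈ N) {χ : L → ℂ} (hχ : IsIrrCharacter L χ)
    (h1 : ∀ k ∈ N, χ k = χ 1) (h2 : ∃ k ∈ K, χ k ≠ χ 1) : χ 1 = (K.index : ℂ) := by
  classical
  obtain ⟨ψ, hψ, hψχ⟩ := hχ.deflate N h1
  let Kb : Subgroup (L ⧸ N) := K.map (QuotientGroup.mk' N)
  haveI hKb : Kb.Normal := hK.map _ (QuotientGroup.mk'_surjective N)
  haveI : Fintype Kb := Fintype.ofFinite _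
  haveI : Fintype (L ⧸ N) := Fintype.ofFinite _
  have hmem : ∀ x : L, (x : L ⧸ N) ∈ Kb ↔ x ∈ K := by
    intro x
    constructor
    · rintro ⟨y, hy, hyx⟩
      have h3 : y⁻¹ * x ∈ N := QuotientGroup.eq.1 hyx
      have : x = y * (y⁻¹ * x) := by group
      rw [this]
      exact K.mul_mem hy (hNK h3)
    · intro hx
      exact ⟨x, hx, rfl⟩
  have hcm : ∀ x y : L, (x : L ⧸ N) * y = y * x → y⁻¹ * (x * y * x⁻¹) ∈ N := by
    intro x y h
    rw [← QuotientGroup.eq_one_iff]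
    rw [QuotientGroup.mk_mul, QuotientGroup.mk_mul, QuotientGroup.mk_mul, QuotientGroup.mk_inv,
      QuotientGroup.mk_inv, h]
    group
  have hC' : ∀ k ∈ Kb, k ≠ 1 → Subgroup.centralizer ({k} : Set (L ⧸ N)) ≤ Kb := by
    rintro k hk hk1 c hc
    obtain ⟨k, rfl⟩ := QuotientGroup.mk_surjective k
    obtain ⟨c, rfl⟩ := QuotientGroup.mk_surjective c
    rw [hmem] at hk ⊢
    rw [Subgroup.mem_centralizer_singleton_iff] at hc
    refine hC k hk (fun h => hk1 ((QuotientGroup.eq_one_iff k).2 h)) c (hcm c k hc)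
  have hab' : ∀ a ∈ Kb, ∀ b ∈ Kb, a * b = b * a := by
    intro u hu v hv
    obtain ⟨u, rfl⟩ := QuotientGroup.mk_surjective u
    obtain ⟨v, rfl⟩ := QuotientGroup.mk_surjective v
    rw [hmem] at hu hv
    have h3 := (QuotientGroup.eq_one_iff _).2 (hab v hv u hu)
    rw [QuotientGroup.mk_mul, QuotientGroup.mk_mul, QuotientGroup.mk_mul, QuotientGroup.mk_inv,
      QuotientGroup.mk_inv, inv_mul_eq_one] at h3
    rw [eq_mul_inv_iff_mul_eq] at h3
    exact h3.symm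
  obtain ⟨k, hk, hk1⟩ := h2
  obtain ⟨θ, hθ, hθ1, hθd, hψθ⟩ := eq_indFun Kb hC' hab' hψ ⟨(k : L ⧸ N), (hmem k).2 hk, by
    have h3 := hψχ k
    have h4 := hψχ 1
    rw [h3]
    intro h5
    apply hk1
    rw [h5, ← h4]; rfl⟩
  have h5 : ψ 1 = (Kb.index : ℂ) := by rw [hψθ, IndFun.indFun_one, hθd, mul_one]
  have h6 : Kb.index = K.index := by
    rw [Subgroup.index_map, QuotientGroup.ker_mk', sup_of_le_left hNK,
      (MonoidHom.range_eq_top).2 (QuotientGroup.mk'_surjective N), Subgroup.index_top, mul_one]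
  rw [← h6, ← h5, ← hψχ 1]
  rfl

end Abstract

end Cfsg.Agent.Lib.ZassSz
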