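import Cfsg.Agent.Lib.ZassSz2
import Cfsg.Agent.Lib.ZassSz3
import Cfsg.Agent.Lib.ZassFeit2

/-!
# Zassenhaus groups whose Frobenius kernel is a nonabelian 2-group (helper6): characters of `G_a`
-/

set_option autoImplicit false
set_option linter.all false

namespace Cfsg.Agent.Lib.ZassSz

open scoped ComplexConjugate
open MulAction ZassBasic ZassKernel ZassOdd ZassFeit ZassInd CharBasic TIFN Cfsg

open scoped commutatorElement

universe u v

variable {G : Type u} {Ω : Type v} [Group G] [MulAction G Ω]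

/-- the group `E` of the involutions of the kernel -/
structure EHyp (e : ℕ) (a b : Ω) (H E : Subgroup G) : Prop where
  le : E ≤ H
  mem : ∀ z ∈ H, z ∈ E ↔ z * z = 1
  card : Nat.card E = e + 1
  comm : ∀ u ∈ H, ∀ v ∈ H, u⁻¹ * (v * u * v⁻¹) ∈ E
  fpf : ∀ y : G, y • a = a → y • b = b → y ≠ 1 → ∀ u ∈ H, u⁻¹ * (y * u * y⁻¹) ∈ E → u ∈ E

theorem exists_EHyp [Finite G] [Finite Ω] {e : ℕ} {a b : Ω} {H : Subgroup G}
    (K : KerHyp G Ω e a b H) (h2 : IsPGroup 2 H) (hna : ∃ u ∈ H, ∃ v ∈ H, u * v ≠ v * u) :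
    ∃ E : Subgroup G, EHyp e a b H E := by
  obtain ⟨D, _, i, φ, hi, hir, hφ, hyp, hDe⟩ := exists_action K h2
  haveI : Finite D := Finite.of_injective i hi
  have hna' : ∃ x y : H, x * y ≠ y * x := by
    obtain ⟨u, hu, v, hv, huv⟩ := hna
    exact ⟨⟨u, hu⟩, ⟨v, hv⟩, fun h => huv (congrArg Subtype.val h)⟩
  have hmem : ∀ x : H, ((x : G) ∈ hyp.Z.map H.subtype ↔ x ∈ hyp.Z) := by
    intro x
    constructor
    · rintro ⟨y, hy, hyx⟩
      have : y = x := Subtype.ext hyx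
      rw [← this]; exact hy
    · intro hx
      exact ⟨x, hx, rfl⟩
  refine ⟨hyp.Z.map H.subtype, Subgroup.map_subtype_le _, ?_, ?_, ?_, ?_⟩
  · intro z hz
    rw [hmem ⟨z, hz⟩, hyp.mem_Z]
    constructor
    · intro h; exact congrArg Subtype.val h
    · intro h; exact Subtype.ext h
  · rw [Subgroup.card_map_of_injective (Subgroup.subtype_injective _), card_Z_eq hyp, hDe]
  · intro u hu v hv
    have h1 := hyp.comm_mem hna' ⟨u, hu⟩⁻¹ ⟨v, hv⟩
    rw [← hmem] at h1
    have h3 : (((⁅(⟨u, hu⟩ : H)⁻¹, ⟨v, hv⟩⁆ : H)) : G) = u⁻¹ * (v * u * v⁻¹) := by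
      rw [commutatorElement_def]; simp [mul_assoc]
    rwa [h3] at h1
  · intro y hya hyb hy1 u hu h
    obtain ⟨k, rfl⟩ := (hir y).2 ⟨hya, hyb⟩
    have hk1 : k ≠ 1 := by
      rintro rfl
      exact hy1 (_root_.map_one i)
    have h1 : (⟨u, hu⟩ : H)⁻¹ * φ k ⟨u, hu⟩ ∈ hyp.Z := by
      rw [← hmem]
      have : (((⟨u, hu⟩ : H)⁻¹ * φ k ⟨u, hu⟩ : H) : G) = u⁻¹ * (i k * u * (i k)⁻¹) := by
        rw [Subgroup.coe_mul, hφ]; rfl
      rw [this]; exact h
    exact (hmem ⟨u, hu⟩).2 (hyp.fpf_quot hk1 (fun x hx => by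
      rw [hyp.mem_Z, ← map_mul, hyp.mem_Z.1 hx, _root_.map_one]) h1)

section
variable [Fintype G] [Finite Ω] {e : ℕ} {a b : Ω} {H E : Subgroup G} (K : KerHyp G Ω e a b H)
  (X : EHyp e a b H E) (L : Subgroup G) (hL : L = stabilizer G a)
include K hL

theorem HL : H ≤ L := by rw [hL]; exact K.hHa

include X

theorem normal_E : (E.subgroupOf L).Normal := by
  refine ⟨fun n hn g => ?_⟩
  rw [Subgroup.mem_subgroupOf] at hn ⊢
  have hga : (g : G) • a = a := (memL L hL _).1 g.2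
  have hnH := X.le hn
  have h1 := conj_mem K hga hnH
  rw [Subgroup.coe_mul, Subgroup.coe_mul, Subgroup.coe_inv, X.mem _ h1]
  have h3 := (X.mem _ hnH).1 hn
  calc (g : G) * n * (g : G)⁻¹ * (g * n * (g : G)⁻¹) = g * ((n : G) * n) * (g : G)⁻¹ := by group
    _ = 1 := by rw [h3]; group

theorem frob_quot (k : G) (hk : k ∈ H) (hkE : k ∉ E) (x : G) (hx : x ∈ L)
    (h : k⁻¹ * (x * k * x⁻¹) ∈ E) : x ∈ H := by
  have hxa : x • a = a := (memL L hL _).1 hx
  obtain ⟨y, hya, hyb, hyx⟩ := K.exists_E x hxa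
  by_cases hy1 : y = 1
  · rw [hy1] at hyx; simpa using hyx
  exfalso
  apply hkE
  set w := y⁻¹ * x with hw
  have hxw : x = y * w := by rw [hw]; group
  have hk' : w * k * w⁻¹ ∈ H := H.mul_mem (H.mul_mem hyx hk) (H.inv_mem hyx)
  have h1 : k⁻¹ * (w * k * w⁻¹) ∈ E := X.comm k hk w hyx
  have h2 : (w * k * w⁻¹)⁻¹ * (y * (w * k * w⁻¹) * y⁻¹) ∈ E := by
    have : (w * k * w⁻¹)⁻¹ * (y * (w * k * w⁻¹) * y⁻¹) =
        (k⁻¹ * (w * k * w⁻¹))⁻¹ * (k⁻¹ * (x * k * x⁻¹)) := by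
      rw [hxw]; group
    rw [this]
    exact E.mul_mem (E.inv_mem h1) h
  have h3 := X.fpf y hya hyb hy1 _ hk' h2
  have h4 : k = (w * k * w⁻¹) * (k⁻¹ * (w * k * w⁻¹))⁻¹ := by group
  rw [h4]
  exact E.mul_mem h3 (E.inv_mem h1)

omit X in
theorem index_HL : (H.subgroupOf L).index = e := by
  have h1 := (H.subgroupOf L).card_mul_index
  have h2 : Nat.card (H.subgroupOf L) = Nat.card H :=
    Nat.card_congr (Subgroup.subgroupOfEquivOfLe (HL K L hL)).toEquiv
  have h3 : Nat.card L = Nat.card H * e := by rw [hL]; exact K.card_stab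
  rw [h2, h3] at h1
  exact Nat.eq_of_mul_eq_mul_left Nat.card_pos h1

theorem card_EL : Nat.card (E.subgroupOf L) = e + 1 := by
  rw [← X.card]
  exact Nat.card_congr (Subgroup.subgroupOfEquivOfLe (X.le.trans (HL K L hL))).toEquiv

theorem psi_deg (χ : Mid (E.subgroupOf L) (H.subgroupOf L)) : (χ.1 : L → ℂ) 1 = e := by
  classical
  haveI : Fintype L := Fintype.ofFinite _
  haveI := normal_E K X L hL
  haveI := K.normal L hL
  rw [deg_mid (N := E.subgroupOf L) (K := H.subgroupOf L) ?_ ?_ ?_ χ.1.2 χ.2.1 χ.2.2,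
    index_HL K L hL]
  · intro x hx
    exact X.le hx
  · intro k hk hkE x hx
    exact frob_quot K X L hL k hk hkE x x.2 hx
  · intro u hu v hv
    exact X.comm u hu v hv

omit X in
theorem cent_L : ∀ k ∈ H.subgroupOf L, k ≠ 1 →
    Subgroup.centralizer ({k} : Set L) ≤ H.subgroupOf L := by
  intro k hk hk1 c hc
  rw [Subgroup.mem_subgroupOf]
  apply K.centralizer_le k hk (fun h => hk1 (Subtype.ext h))
  rw [Subgroup.mem_centralizer_singleton_iff] at hc ⊢
  exact congrArg Subtype.val hc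

theorem psi_vanish (χ : Mid (E.subgroupOf L) (H.subgroupOf L)) {x : L} (hx : (x : G) ∉ H) :
    (χ.1 : L → ℂ) x = 0 := by
  haveI := K.normal L hL
  exact vanish_off (H.subgroupOf L) (cent_L K L hL) χ.1.2 χ.2.2 hx

theorem psi_card {q : ℕ} (hq : q = e + 1) (hm : Nat.card H = q ^ 3) :
    Nat.card (Mid (E.subgroupOf L) (H.subgroupOf L)) = q + 1 := by
  classical
  haveI : Fintype L := Fintype.ofFinite _
  haveI := normal_E K X L hL
  haveI := K.normal L hL
  have h1 := sum_sq_ker (E.subgroupOf L)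
  have h2 := sum_sq_ker (H.subgroupOf L)
  have hle : E.subgroupOf L ≤ H.subgroupOf L := fun x hx => X.le hx
  have h3 := sum_mid hle (fun χ => (χ : L → ℂ) 1 ^ 2)
  rw [h1, h2] at h3
  have h4 : ∀ χ : Mid (E.subgroupOf L) (H.subgroupOf L), (χ.1 : L → ℂ) 1 ^ 2 = (e : ℂ) ^ 2 :=
    fun χ => by rw [psi_deg K X L hL χ]
  rw [Finset.sum_congr rfl fun χ _ => h4 χ, Finset.sum_const, nsmul_eq_mul, Finset.card_univ,
    ← Nat.card_eq_fintype_card, index_HL K L hL] at h3
  have h5 : (E.subgroupOf L).index = q ^ 2 * e := by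
    have h1 := (E.subgroupOf L).card_mul_index
    have h3 : Nat.card L = Nat.card H * e := by rw [hL]; exact K.card_stab
    rw [card_EL K X L hL, h3, hm, ← hq] at h1
    apply Nat.eq_of_mul_eq_mul_left (show 0 < q by omega)
    rw [h1]; ring
  rw [h5] at h3
  have he0 : (e : ℂ) ≠ 0 := by
    have := K.hyp.pos
    exact_mod_cast this.ne'
  have h6 : (e : ℂ) = q - 1 := by rw [hq]; push_cast; ring
  have h7 : ((Nat.card (Mid (E.subgroupOf L) (H.subgroupOf L)) : ℕ) : ℂ) = ((q + 1 : ℕ) : ℂ) := by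
    apply mul_right_cancel₀ (pow_ne_zero 2 he0)
    push_cast at h3 ⊢
    have h8 : (q : ℂ) ^ 2 * e = e + (q + 1) * e ^ 2 := by rw [h6]; ring
    rw [h8] at h3
    linear_combination -h3
  exact_mod_cast h7

theorem psi_inner [Fintype L] [DecidableEq (Mid (E.subgroupOf L) (H.subgroupOf L))]
    (i j : Mid (E.subgroupOf L) (H.subgroupOf L)) :
    classInner (indFun L (i.1 : L → ℂ)) (indFun L (j.1 : L → ℂ)) =
      (if i = j then 1 else 0) + e := by
  classical
  obtain ⟨s, hs1, hs2⟩ := K.exists_swap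
  have hdc : ∀ g : G, g ∉ L → ∃ m ∈ L, ∃ n ∈ L, g = m * s * n := by
    subst hL
    exact double_coset K.hyp.zass K.hab hs1
  rw [inner_indFun L s hdc i.1.2.isClassFunction j.1.2.isClassFunction, irr_orthonormal]
  have h1 : (if (i.1 : IrrCharacter L) = j.1 then (1 : ℂ) else 0) = if i = j then 1 else 0 := by
    simp [Subtype.ext_iff]
  rw [h1]
  congr 1
  have h2 : ∑ y : L, (i.1 : L → ℂ) y * conj (extendByZero L (j.1 : L → ℂ) (s⁻¹ * y * s)) =
      (e : ℂ) ^ 2 := by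
    rw [Finset.sum_eq_single (1 : L)]
    · have e1 : s⁻¹ * ((1 : L) : G) * s = ((1 : L) : G) := by simp
      rw [e1, IndFun.extendByZero_coe, psi_deg K X L hL i, psi_deg K X L hL j]
      simp; ring
    · intro y _ hy1
      by_cases hyH : (y : G) ∈ H
      · rw [IndFun.extendByZero_not_mem, map_zero, mul_zero]
        intro h
        have h3 := (memL L hL _).1 h
        rw [mul_smul, mul_smul, hs1, inv_smul_eq_iff, hs1] at h3
        exact hy1 (Subtype.ext (inf_eq_one K hyH h3))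
      · rw [psi_vanish K X L hL i hyH, zero_mul]
    · intro h; exact absurd (Finset.mem_univ _) h
  have hcL : Nat.card L = Nat.card H * e := by rw [hL]; exact K.card_stab
  have hH0 : (Nat.card H : ℂ) ≠ 0 := by exact_mod_cast Nat.card_pos.ne'
  have he0 : (e : ℂ) ≠ 0 := by
    have := K.hyp.pos
    exact_mod_cast this.ne'
  rw [h2, hcL, K.card_group]
  push_cast
  field_simp
  ring

end

end Cfsg.Agent.Lib.ZassSz
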