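import Cfsg.Agent.Lib.ZassSz4

/-!
# Zassenhaus groups whose Frobenius kernel is a nonabelian 2-group (helper6): exceptional characters
-/

set_option autoImplicit false
set_option linter.all false

namespace Cfsg.Agent.Lib.ZassSz

open scoped ComplexConjugate
open MulAction ZassBasic ZassKernel ZassOdd ZassFeit ZassInd CharBasic TIFN Cfsg

universe u v

variable {G : Type u} {Ω : Type v} [Group G] [MulAction G Ω]

section
variable [Fintype G] [Finite Ω] {e : ℕ} {a b : Ω} {H E : Subgroup G} (K : KerHyp G Ω e a b H)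
  (X : EHyp e a b H E) (L : Subgroup G) (hL : L = stabilizer G a)
include K hL X

theorem psi_ne_one (i : Mid (E.subgroupOf L) (H.subgroupOf L)) :
    (i.1 : L → ℂ) ≠ fun _ => 1 := by
  intro h
  obtain ⟨k, hk, hk1⟩ := i.2.2
  rw [h] at hk1
  exact hk1 rfl

theorem st_inner [Fintype L] (i : Mid (E.subgroupOf L) (H.subgroupOf L)) :
    classInner (indFun L (fun _ => 1) - fun _ => 1) (indFun L (i.1 : L → ℂ)) = 1 := by
  classical
  obtain ⟨s, hs1, hs2⟩ := K.exists_swap
  have hdc : ∀ g : G, g ∉ L → ∃ m ∈ L, ∃ n ∈ L, g = m * s * n := by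
    subst hL
    exact double_coset K.hyp.zass K.hab hs1
  have hone : IsIrrCharacter L (fun _ => (1 : ℂ)) := isIrrCharacter_one
  have honeG : IsIrrCharacter G (fun _ => (1 : ℂ)) := isIrrCharacter_one
  have h0 : classInner (fun _ : L => (1 : ℂ)) (i.1 : L → ℂ) = 0 :=
    hone.classInner_eq_zero i.1.2 (Ne.symm (psi_ne_one K X L hL i))
  have h1 : classInner (fun _ : G => (1 : ℂ)) (indFun L (i.1 : L → ℂ)) = 0 := by
    rw [IndFun.frobenius_reciprocity' _ _ _ honeG.isClassFunction]
    exact h0
  rw [classInner_sub_left, h1, sub_zero, inner_indFun L s hdc hone.isClassFunction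
    i.1.2.isClassFunction, h0, zero_add]
  have h2 : ∑ y : L, (fun _ : L => (1 : ℂ)) y * conj (extendByZero L (i.1 : L → ℂ)
      (s⁻¹ * y * s)) = (e : ℂ) := by
    rw [Finset.sum_eq_single (1 : L)]
    · have e1 : s⁻¹ * ((1 : L) : G) * s = ((1 : L) : G) := by simp
      rw [e1, IndFun.extendByZero_coe, psi_deg K X L hL i]
      simp
    · intro y _ hy1
      by_cases hyL : s⁻¹ * (y : G) * s ∈ L
      · rw [IndFun.extendByZero_mem _ _ hyL, psi_vanish K X L hL i, map_zero, mul_zero]
        intro hyH
        have hya : (y : G) • a = a := (memL L hL _).1 y.2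
        have h3 := inf_eq_one K hyH (by
          rw [mul_smul, mul_smul, hs2, hya, inv_smul_eq_iff, hs2])
        apply hy1
        apply Subtype.ext
        calc (y : G) = s * (s⁻¹ * (y : G) * s) * s⁻¹ := by group
          _ = 1 := by
            change s⁻¹ * (y : G) * s = 1 at h3
            rw [h3]; group
      · rw [IndFun.extendByZero_not_mem _ _ hyL, map_zero, mul_zero]
    · intro h; exact absurd (Finset.mem_univ _) h
  have hcL : Nat.card L = Nat.card H * e := by rw [hL]; exact K.card_stab
  have hH0 : (Nat.card H : ℂ) ≠ 0 := by exact_mod_cast Nat.card_pos.ne'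
  have he0 : (e : ℂ) ≠ 0 := by
    have := K.hyp.pos
    exact_mod_cast this.ne'
  rw [h2, hcL, K.card_group]
  push_cast
  field_simp
  ring

/-- the coefficients and the exceptional characters -/
theorem exists_family {q : ℕ} (hq : q = e + 1) (hm : Nat.card H = q ^ 3)
    [Fintype (Mid (E.subgroupOf L) (H.subgroupOf L))]
    [DecidableEq (Mid (E.subgroupOf L) (H.subgroupOf L))] :
    ∃ (c : IrrCharacter G → Mid (E.subgroupOf L) (H.subgroupOf L) → ℕ)
      (f : Mid (E.subgroupOf L) (H.subgroupOf L) → IrrCharacter G),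
      Function.Injective f ∧
      (∀ (φ : IrrCharacter G) i, classInner (φ : G → ℂ) (indFun L (i.1 : L → ℂ)) = c φ i) ∧
      (∀ i j, indFun L ((i.1 : L → ℂ) - (j.1 : L → ℂ)) = (f i : G → ℂ) - (f j : G → ℂ)) ∧
      (∀ i k, c (f k) i = if i = k then 1 else 0) ∧
      (∀ φ, φ ∉ Set.range f → ∀ i j, c φ i = c φ j) ∧
      (∀ i, ∑ φ, (c φ i) ^ 2 = q) := by
  classical
  haveI : Fintype L := Fintype.ofFinite _
  let Ψ := Mid (E.subgroupOf L) (H.subgroupOf L)
  have hcex : ∀ (φ : IrrCharacter G) (i : Ψ), ∃ n : ℕ,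
      classInner (φ : G → ℂ) (indFun L (i.1 : L → ℂ)) = n := fun φ i =>
    φ.2.isCharacter.classInner_nat (i.1.2.isCharacter.indFun L)
  choose c hc using hcex
  have hc' : ∀ (φ : IrrCharacter G) (i : Ψ),
      classInner (indFun L (i.1 : L → ℂ)) (φ : G → ℂ) = ((c φ i : ℤ) : ℂ) := fun φ i => by
    rw [← conj_classInner, hc]; simp
  have hS : ∀ i j : Ψ, ∑ φ, (c φ i : ℤ) * c φ j = (if i = j then 1 else 0) + e := by
    intro i j
    have h1 := classInner_eq_sum_coeff (IndFun.indFun_isClassFunction L (i.1 : L → ℂ))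
      (c := fun φ => (c φ i : ℤ)) (d := fun φ => (c φ j : ℤ)) (φ := indFun L (j.1 : L → ℂ))
      (fun φ => hc' φ i) (fun φ => hc' φ j)
    rw [psi_inner K X L hL i j] at h1
    have h2 : (((if i = j then 1 else 0) + e : ℤ) : ℂ) =
        ((∑ φ : IrrCharacter G, (c φ i : ℤ) * (c φ j : ℤ) : ℤ) : ℂ) := by
      rw [← h1]
      push_cast
      rfl
    exact_mod_cast h2.symm
  have hcard : Fintype.card Ψ = q + 1 := by
    rw [← Nat.card_eq_fintype_card]; exact psi_card K X L hL hq hm
  have he1 : 1 ≤ e := K.hyp.pos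
  -- inner products of the differences
  have hdiff : ∀ i j k l : Ψ, classInner (indFun L ((i.1 : L → ℂ) - (j.1 : L → ℂ)))
      (indFun L ((k.1 : L → ℂ) - (l.1 : L → ℂ))) = (if i = k then 1 else 0) -
        (if i = l then 1 else 0) - (if j = k then 1 else 0) + (if j = l then 1 else 0) := by
    intro i j k l
    rw [IndFun.indFun_sub, IndFun.indFun_sub, classInner_sub_left, classInner_sub_right,
      classInner_sub_right, psi_inner K X L hL, psi_inner K X L hL, psi_inner K X L hL,
      psi_inner K X L hL]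
    ring
  obtain ⟨ε, f, hε, hf, hfam⟩ := exceptional_family (X := G) (ι := Ψ)
    (fun i j => indFun L ((i.1 : L → ℂ) - (j.1 : L → ℂ)))
    (fun i j => (i.1.2.isGeneralized.sub j.1.2.isGeneralized).indFun L)
    (fun i j => by
      rw [IndFun.indFun_one]
      simp only [Pi.sub_apply, psi_deg K X L hL i, psi_deg K X L hL j, sub_self, mul_zero])
    (fun i j k => by
      rw [← IndFun.indFun_add]
      congr 1
      abel)
    (fun i j hij => by
      rw [hdiff, if_pos rfl, if_pos rfl, if_neg hij, if_neg (Ne.symm hij)]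
      norm_num)
    (fun i j k hij hik hjk => by
      rw [hdiff, if_pos rfl, if_neg hik, if_neg (Ne.symm hij), if_neg hjk]
      norm_num)
    (by
      have : 1 < Fintype.card Ψ := by omega
      obtain ⟨i, j, hij⟩ := Fintype.exists_pair_of_one_lt_card this
      exact ⟨i, j, hij⟩)
  -- Steinberg
  set st : IrrCharacter G := ⟨_, K.steinberg L hL⟩ with hst
  have hcst : ∀ i, c st i = 1 := by
    intro i
    have h1 := hc st i
    have h2 := st_inner K X L hL i
    have h3 : ((c st i : ℕ) : ℂ) = ((1 : ℕ) : ℂ) := by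
      rw [← h1]; push_cast; exact h2
    exact_mod_cast h3
  -- the basic relation
  obtain ⟨ez, hez, hez'⟩ : ∃ ez : ℤ, ε = ez ∧ (ez = 1 ∨ ez = -1) := by
    rcases hε with h | h
    · exact ⟨1, by rw [h]; norm_num, Or.inl rfl⟩
    · exact ⟨-1, by rw [h]; norm_num, Or.inr rfl⟩
  have hstar : ∀ (φ : IrrCharacter G) (i j : Ψ), (c φ i : ℤ) - c φ j =
      ez * ((if φ = f i then 1 else 0) - (if φ = f j then 1 else 0)) := by
    intro φ i j
    have h1 : classInner (φ : G → ℂ) (indFun L ((i.1 : L → ℂ) - (j.1 : L → ℂ))) =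
        (c φ i : ℂ) - c φ j := by
      rw [IndFun.indFun_sub, classInner_sub_right, hc, hc]
    have h2 : classInner (φ : G → ℂ) (indFun L ((i.1 : L → ℂ) - (j.1 : L → ℂ))) =
        (ez : ℂ) * ((if φ = f i then 1 else 0) - (if φ = f j then 1 else 0)) := by
      rw [hfam, classInner_smul_right, classInner_sub_right, irr_orthonormal, irr_orthonormal,
        hez]
      simp
    rw [h1] at h2
    have h3 : (((c φ i : ℤ) - c φ j : ℤ) : ℂ) =
        ((ez * ((if φ = f i then 1 else 0) - (if φ = f j then 1 else 0)) : ℤ) : ℂ) := by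
      push_cast
      exact h2
    exact_mod_cast h3
  have hstf : ∀ k, st ≠ f k := by
    intro k h
    obtain ⟨j, hj⟩ : ∃ j : Ψ, j ≠ k := by
      have : 1 < Fintype.card Ψ := by omega
      exact Fintype.exists_ne_of_one_lt_card this k
    have h1 := hstar st k j
    rw [hcst, hcst, if_pos h, if_neg (fun h' => hj (hf (h'.symm.trans h)))] at h1
    rcases hez' with h2 | h2 <;> rw [h2] at h1 <;> norm_num at h1
  -- the contradiction
  have hcontra : ∀ j : Ψ, (∀ k, k ≠ j → 1 ≤ c (f k) j) → False := by
    intro j hj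
    have h1 := hS j j
    rw [if_pos rfl] at h1
    let T : Finset (IrrCharacter G) := insert st ((Finset.univ.erase j).image f)
    have hTcard : T.card = q + 1 := by
      rw [Finset.card_insert_of_notMem, Finset.card_image_of_injective _ hf,
        Finset.card_erase_of_mem (Finset.mem_univ _), Finset.card_univ, hcard]
      · omega
      · intro h
        obtain ⟨k, -, hk⟩ := Finset.mem_image.1 h
        exact hstf k hk.symm
    have h2 : (∑ φ ∈ T, (1 : ℤ)) ≤ ∑ φ ∈ T, (c φ j : ℤ) * c φ j := by
      apply Finset.sum_le_sum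
      intro φ hφ
      rcases Finset.mem_insert.1 hφ with rfl | h
      · rw [hcst]; norm_num
      · obtain ⟨k, hk, rfl⟩ := Finset.mem_image.1 h
        have h3 := hj k (Finset.ne_of_mem_erase hk)
        have h4 : (1 : ℤ) ≤ c (f k) j := by exact_mod_cast h3
        nlinarith
    have h3 : ∑ φ ∈ T, (c φ j : ℤ) * c φ j ≤ ∑ φ, (c φ j : ℤ) * c φ j := by
      apply Finset.sum_le_sum_of_subset_of_nonneg (Finset.subset_univ _)
      intro φ _ _
      positivity
    rw [Finset.sum_const, hTcard] at h2
    rw [h1] at h3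
    simp only [nsmul_eq_mul, mul_one] at h2
    have h4 : ((q + 1 : ℕ) : ℤ) ≤ 1 + e := h2.trans h3
    rw [hq] at h4
    push_cast at h4
    linarith
  have hez1 : ez = 1 := by
    rcases hez' with h | h
    · exact h
    · exfalso
      obtain ⟨j⟩ : Nonempty Ψ := by
        rw [← Fintype.card_pos_iff]; omega
      apply hcontra j
      intro k hk
      have h1 := hstar (f k) j k
      rw [if_pos rfl, if_neg (fun h' => hk (hf h')), h] at h1
      have h2 : (c (f k) j : ℤ) = c (f k) k + 1 := by linarith
      have h3 : (1 : ℤ) ≤ c (f k) j := by rw [h2]; linarith [Int.natCast_nonneg (c (f k) k)]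
      exact_mod_cast h3
  have hzero : ∀ j k : Ψ, k ≠ j → c (f k) j = 0 := by
    intro j k hk
    by_contra h0
    apply hcontra j
    intro k' hk'
    by_cases hkk : k' = k
    · rw [hkk]; omega
    · -- c (f k') j = c (f k) j
      have h1 : classInner ((f k : G → ℂ) - (f k' : G → ℂ)) (indFun L (j.1 : L → ℂ)) = 0 := by
        have h2 : (f k : G → ℂ) - (f k' : G → ℂ) =
            indFun L (k.1 : L → ℂ) - indFun L (k'.1 : L → ℂ) := by
          have := hfam k k'
          rw [hez, hez1] at this
          rw [← IndFun.indFun_sub, this]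
          simp
        rw [h2, classInner_sub_left, psi_inner K X L hL, psi_inner K X L hL, if_neg hk,
          if_neg hk', sub_self]
      rw [classInner_sub_left, hc, hc, sub_eq_zero] at h1
      have h2 : c (f k) j = c (f k') j := by exact_mod_cast h1
      omega
  refine ⟨c, f, hf, hc, ?_, ?_, ?_, ?_⟩
  · intro i j
    have := hfam i j
    rw [hez, hez1] at this
    rw [this]; simp
  · intro i k
    split_ifs with h
    · subst h
      obtain ⟨j, hj⟩ : ∃ j : Ψ, j ≠ i := by
        have : 1 < Fintype.card Ψ := by omega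
        exact Fintype.exists_ne_of_one_lt_card this i
      have h1 := hstar (f i) i j
      rw [if_pos rfl, if_neg (fun h' => hj (hf h').symm), hez1, hzero j i (Ne.symm hj)] at h1
      have h2 : (c (f i) i : ℤ) = 1 := by push_cast at h1; linarith
      exact_mod_cast h2
    · exact hzero i k (Ne.symm h)
  · intro φ hφ i j
    have h1 := hstar φ i j
    rw [if_neg (fun h => hφ ⟨i, h.symm⟩), if_neg (fun h => hφ ⟨j, h.symm⟩), sub_self,
      mul_zero] at h1
    have h2 : (c φ i : ℤ) = c φ j := by linarith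
    exact_mod_cast h2
  · intro i
    have h1 := hS i i
    rw [if_pos rfl] at h1
    have h2 : ((∑ φ, (c φ i) ^ 2 : ℕ) : ℤ) = (q : ℤ) := by
      rw [hq]
      push_cast
      rw [← h1.trans (by ring : (1 : ℤ) + e = e + 1)]
      exact Finset.sum_congr rfl fun φ _ => by ring
    exact_mod_cast h2

end

end Cfsg.Agent.Lib.ZassSz
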