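import Cfsg.Agent.Lib.ZassSz5
import Cfsg.Agent.Lib.CharApps

/-!
# Zassenhaus groups whose Frobenius kernel is a nonabelian 2-group (helper6): relations
-/

set_option autoImplicit false
set_option linter.all false

namespace Cfsg.Agent.Lib.ZassSz

open scoped ComplexConjugate
open MulAction ZassBasic ZassKernel ZassOdd ZassFeit ZassInd CharBasic TIFN Cfsg

universe u v

variable {G : Type u} {Ω : Type v} [Group G] [MulAction G Ω]

theorem value_ne_one [Finite G] [IsSimpleGroup G] {φ : G → ℂ} (hφ : IsIrrCharacter G φ)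
    (hne : φ ≠ fun _ => 1) {z : G} (hz : z ≠ 1) : φ z ≠ φ 1 := by
  intro h
  obtain ⟨n, ρ, hρ, rfl⟩ := hφ
  have hinj := CharApps.injective_of_simple ρ hρ hne
  apply hz
  apply hinj
  rw [_root_.map_one]
  exact (CharValues.character_eq_finrank_iff ρ z).1 (by rw [h, Representation.char_one])

section
variable [Fintype G] [Finite Ω] {e : ℕ} {a b : Ω} {H E : Subgroup G} (K : KerHyp G Ω e a b H)
  (X : EHyp e a b H E)
include K X

theorem orderOf_E {z : G} (hz : z ∈ E) (hz1 : z ≠ 1) : orderOf z = 2 := by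
  apply orderOf_eq_prime _ hz1
  rw [pow_two]
  exact (X.mem z (X.le hz)).1 hz

theorem const_E {φ : G → ℂ} (hφ : IsClassFunction G φ) {z w : G} (hz : z ∈ E) (hz1 : z ≠ 1)
    (hw : w ∈ E) (hw1 : w ≠ 1) : φ w = φ z := by
  obtain ⟨g, hg⟩ := isConj_iff.1 (K.hyp.isConj (orderOf_E K X hz hz1) (orderOf_E K X hw hw1))
  rw [← hg]
  exact hφ z g

theorem Z_E [Fintype E] {φ : G → ℂ} (hφ : IsClassFunction G φ) {z : G} (hz : z ∈ E)
    (hz1 : z ≠ 1) : Z E φ = φ 1 + e * φ z := by
  rw [Z_eq_of_const E (c := φ z) (fun x hx hx1 => const_E K X hφ hz hz1 hx hx1), X.card]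
  push_cast
  ring

section L
variable (L : Subgroup G) (hL : L = stabilizer G a)
include hL

/-- relation between the sums over `E` and `H` -/
theorem rel_E [Fintype E] [Fintype H] [Fintype L]
    [Fintype (Mid (E.subgroupOf L) (H.subgroupOf L))] {φ : G → ℂ}
    (hφ : IsClassFunction G φ) : Z E φ = (Nat.card E : ℂ) * (Z H φ / Nat.card H +
      e * ∑ i : Mid (E.subgroupOf L) (H.subgroupOf L),
        classInner φ (indFun L (i.1 : L → ℂ))) := by
  classical
  haveI := normal_E K X L hL
  haveI := K.normal L hL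
  haveI : Fintype (E.subgroupOf L) := Fintype.ofFinite _
  haveI : Fintype (H.subgroupOf L) := Fintype.ofFinite _
  have hHL := HL K L hL
  have hEL := X.le.trans hHL
  have hle : E.subgroupOf L ≤ H.subgroupOf L := fun x hx => X.le hx
  have hφL : IsClassFunction L (fun x : L => φ x) := hφ.restrict L
  have h1 := sum_over_normal (E.subgroupOf L) hφL
  have h2 := sum_over_normal (H.subgroupOf L) hφL
  have h3 := sum_mid hle (fun χ => classInner (fun x : L => φ x) χ * (χ : L → ℂ) 1)
  have e1 : ∑ x : E.subgroupOf L, (fun x : L => φ x) x = Z E φ := by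
    unfold Z
    exact Fintype.sum_equiv (Subgroup.subgroupOfEquivOfLe hEL).toEquiv _ _ (fun x => rfl)
  have e2 : ∑ x : H.subgroupOf L, (fun x : L => φ x) x = Z H φ := by
    unfold Z
    exact Fintype.sum_equiv (Subgroup.subgroupOfEquivOfLe hHL).toEquiv _ _ (fun x => rfl)
  have c1 : Nat.card (E.subgroupOf L) = Nat.card E :=
    Nat.card_congr (Subgroup.subgroupOfEquivOfLe hEL).toEquiv
  have c2 : Nat.card (H.subgroupOf L) = Nat.card H :=
    Nat.card_congr (Subgroup.subgroupOfEquivOfLe hHL).toEquiv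
  rw [e1, c1] at h1
  rw [e2, c2] at h2
  have hH0 : (Nat.card H : ℂ) ≠ 0 := by exact_mod_cast Nat.card_pos.ne'
  rw [h1, h3, h2, mul_div_cancel_left₀ _ hH0]
  congr 2
  rw [Finset.mul_sum]
  apply Finset.sum_congr rfl
  intro i _
  rw [psi_deg K X L hL i, IndFun.frobenius_reciprocity' _ _ _ hφ]
  ring

end L

/-- the structure constants of the involutions -/
theorem star (h2 : IsPGroup 2 H) {φ : G → ℂ} (hφ : IsIrrCharacter G φ) {z : G} (hz : z ∈ E)
    (hz1 : z ≠ 1) : ∃ S : ℂ, IsIntegral ℤ S ∧ ((Nat.card H : ℂ) + 1) * e * φ z ^ 2 =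
      φ 1 * (φ 1 + ((e : ℂ) - 1) * φ z + Nat.card H * S) := by
  classical
  obtain ⟨s, hsa, hsb⟩ := K.exists_swap
  let D : Subgroup G := stabilizer G a ⊓ stabilizer G b
  haveI : Fintype D := Fintype.ofFinite _
  haveI : Fintype H := Fintype.ofFinite _
  have hDa : ∀ k : D, (k : G) • a = a := fun k => k.2.1
  have hDb : ∀ k : D, (k : G) • b = b := fun k => k.2.2
  have hDcard : Nat.card D = e := K.hyp.card a b K.hab
  have hHa : ∀ k : H, (k : G) • a = a := fun k => K.hHa k.2
  have hzH := X.le hz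
  have hzz := (X.mem z hzH).1 hz
  have hzc : ∀ y ∈ H, z * y = y * z := fun y hy => central_of K h2 hzH hzz hy
  have hcf := hφ.isClassFunction
  -- the bijection
  let Φ : (D × H) ⊕ (H × D × H) → G :=
    Sum.elim (fun p => (p.1 : G) * p.2) (fun p => (p.1 : G) * s * p.2.1 * p.2.2)
  have hDH : ∀ (y y' : D) (h h' : H), (y : G) * h = y' * h' → y = y' ∧ h = h' := by
    intro y y' h h' hyh
    have h1 : (y' : G)⁻¹ * y = h' * (h : G)⁻¹ := by
      rw [inv_mul_eq_iff_eq_mul, ← mul_assoc, ← hyh, mul_assoc, mul_inv_cancel, mul_one]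
    have h3 : (h' : G) * (h : G)⁻¹ = 1 := by
      apply inf_eq_one K (H.mul_mem h'.2 (H.inv_mem h.2))
      rw [← h1, mul_smul, hDb y, inv_smul_eq_iff, hDb y']
    have h4 : (h : G) = h' := (mul_inv_eq_one.mp h3).symm
    have h5 : (y : G) = y' := by
      rw [h4] at hyh
      exact mul_right_cancel hyh
    exact ⟨Subtype.ext h5, Subtype.ext h4⟩
  have hΦinj : Function.Injective Φ := by
    have hcross : ∀ (y : D) (h : H) (h' : H) (y' : D) (h'' : H),
        (y : G) * h ≠ (h' : G) * s * y' * h'' := by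
      intro y h h' y' h'' heq
      have h1 : ((y : G) * h) • a = a := by rw [mul_smul, hHa, hDa]
      rw [heq] at h1
      rw [mul_smul, mul_smul, mul_smul, hHa h'', hDa y', hsa] at h1
      apply K.hab
      apply MulAction.injective (h' : G)
      change (h' : G) • a = (h' : G) • b
      rw [h1, hHa h']
    rintro (⟨y, h⟩ | ⟨h, y, h'⟩) (⟨y1, h1⟩ | ⟨h1, y1, h1'⟩) heq
    · obtain ⟨rfl, rfl⟩ := hDH y y1 h h1 heq
      rfl
    · exact absurd heq (hcross _ _ _ _ _)
    · exact absurd heq.symm (hcross _ _ _ _ _)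
    · have heq' : (h : G) * s * y * h' = h1 * s * y1 * h1' := heq
      have e1 : (h : G) • b = h1 • b := by
        have e2 : ((h : G) * s * y * h') • a = (h : G) • b := by
          rw [mul_smul, mul_smul, mul_smul, hHa h', hDa y, hsa]
        have e3 : ((h1 : G) * s * y1 * h1') • a = (h1 : G) • b := by
          rw [mul_smul, mul_smul, mul_smul, hHa h1', hDa y1, hsa]
        rw [← e2, heq', e3]; rfl
      have e2 : (h1 : G)⁻¹ * h = 1 := by
        apply inf_eq_one K (H.mul_mem (H.inv_mem h1.2) h.2)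
        rw [mul_smul, e1, inv_smul_eq_iff]; rfl
      have e3 : (h : G) = h1 := (inv_mul_eq_one.1 e2).symm
      have e4 : (y : G) * h' = y1 * h1' := by
        rw [e3, mul_assoc, mul_assoc, mul_assoc, mul_assoc] at heq'
        exact mul_left_cancel (mul_left_cancel heq')
      obtain ⟨rfl, rfl⟩ := hDH y y1 h' h1' e4
      have : h = h1 := Subtype.ext e3
      rw [this]
  have hΦ : Function.Bijective Φ := by
    rw [Fintype.bijective_iff_injective_and_card]
    refine ⟨hΦinj, ?_⟩
    rw [Fintype.card_sum, Fintype.card_prod, Fintype.card_prod, Fintype.card_prod,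
      ← Nat.card_eq_fintype_card, ← Nat.card_eq_fintype_card, ← Nat.card_eq_fintype_card,
      K.card_group, hDcard]
    ring
  set S : ℂ := ∑ y : D, φ (z * (s * y * z * (s * y)⁻¹)) with hS
  refine ⟨S, ?_, ?_⟩
  · rw [hS]
    apply IsIntegral.sum
    intro y _
    obtain ⟨m, ρ, hρ⟩ := hφ.isCharacter
    have := CharValues.isIntegral_character ρ (z * (s * y * z * (s * y)⁻¹))
    rwa [hρ] at this
  · have h1 := StructConst.sum_conj_mul hφ z z
    rw [← hΦ.sum_comp, Fintype.sum_sum_type, Fintype.sum_prod_type, Fintype.sum_prod_type] at h1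
    have hA : ∀ (y : D) (h : H), φ (z * (Φ (Sum.inl (y, h)) * z * (Φ (Sum.inl (y, h)))⁻¹)) =
        if y = 1 then φ 1 else φ z := by
      intro y h
      have e1 : Φ (Sum.inl (y, h)) * z * (Φ (Sum.inl (y, h)))⁻¹ = y * z * (y : G)⁻¹ := by
        change (y : G) * h * z * ((y : G) * h)⁻¹ = _
        calc (y : G) * h * z * ((y : G) * h)⁻¹ = y * (h * z) * (h : G)⁻¹ * (y : G)⁻¹ := by group
          _ = y * (z * h) * (h : G)⁻¹ * (y : G)⁻¹ := by rw [hzc h h.2]
          _ = y * z * (y : G)⁻¹ := by group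
      rw [e1]
      split_ifs with hy
      · rw [hy]
        simp [hzz]
      · have hcj : (y : G) * z * (y : G)⁻¹ ∈ H := conj_mem K (hDa y) hzH
        have hcjE : (y : G) * z * (y : G)⁻¹ ∈ E := by
          rw [X.mem _ hcj]
          calc (y : G) * z * (y : G)⁻¹ * (y * z * (y : G)⁻¹) = y * (z * z) * (y : G)⁻¹ := by group
            _ = 1 := by rw [hzz]; group
        apply const_E K X hcf hz hz1 (E.mul_mem hz hcjE)
        intro h0
        apply hy
        have h3 : (y : G) ∈ Subgroup.centralizer ({z} : Set G) := by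
          rw [Subgroup.mem_centralizer_singleton_iff]
          have h4 : (y : G) * z * (y : G)⁻¹ = z := by
            have := eq_inv_of_mul_eq_one_right h0
            rw [this]
            exact inv_eq_of_mul_eq_one_right hzz
          calc (y : G) * z = (y * z * (y : G)⁻¹) * y := by group
            _ = z * y := by rw [h4]
        have h4 := K.centralizer_le z hzH hz1 h3
        exact Subtype.ext (inf_eq_one K h4 (hDb y))
    have hB : ∀ (h : H) (p : D × H), φ (z * (Φ (Sum.inr (h, p)) * z * (Φ (Sum.inr (h, p)))⁻¹)) =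
        φ (z * (s * p.1 * z * (s * p.1)⁻¹)) := by
      rintro h ⟨y, h'⟩
      have e1 : z * (Φ (Sum.inr (h, y, h')) * z * (Φ (Sum.inr (h, y, h')))⁻¹) =
          h * (z * (s * y * z * (s * y)⁻¹)) * (h : G)⁻¹ := by
        change z * ((h : G) * s * y * h' * z * ((h : G) * s * y * h')⁻¹) = _
        calc z * ((h : G) * s * y * h' * z * ((h : G) * s * y * h')⁻¹) =
            (z * h) * s * y * (h' * z) * (h' : G)⁻¹ * (s * y)⁻¹ * (h : G)⁻¹ := by group
          _ = (h * z) * s * y * (z * h') * (h' : G)⁻¹ * (s * y)⁻¹ * (h : G)⁻¹ := by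
            rw [hzc h h.2, hzc h' h'.2]
          _ = _ := by group
      rw [e1, hcf]
    simp only [hA, hB] at h1
    have hA2 : ∑ y : D, ∑ h : H, (if y = 1 then φ 1 else φ z) =
        Nat.card H * (φ 1 + ((e : ℂ) - 1) * φ z) := by
      have e1 : ∀ y : D, ∑ h : H, (if y = 1 then φ 1 else φ z) =
          Nat.card H * (if y = 1 then φ 1 else φ z) := fun y => by
        rw [Finset.sum_const, nsmul_eq_mul, Finset.card_univ, Nat.card_eq_fintype_card]
      rw [Finset.sum_congr rfl fun y _ => e1 y, ← Finset.mul_sum]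
      congr 1
      rw [← Finset.add_sum_erase _ _ (Finset.mem_univ (1 : D)), if_pos rfl]
      congr 1
      rw [Finset.sum_congr rfl (g := fun _ => φ z) (fun y hy => if_neg (Finset.ne_of_mem_erase hy)),
        Finset.sum_const, nsmul_eq_mul, Finset.card_erase_of_mem (Finset.mem_univ _),
        Finset.card_univ, ← Nat.card_eq_fintype_card, hDcard]
      have : 1 ≤ e := K.hyp.pos
      push_cast [Nat.cast_sub this]
      ring
    have hB2 : ∑ h : H, ∑ p : D × H, φ (z * (s * p.1 * z * (s * p.1)⁻¹)) =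
        (Nat.card H : ℂ) * (Nat.card H * S) := by
      rw [Finset.sum_const, nsmul_eq_mul, Finset.card_univ, ← Nat.card_eq_fintype_card]
      congr 1
      rw [Fintype.sum_prod_type, hS, Finset.mul_sum]
      apply Finset.sum_congr rfl
      intro y _
      change ∑ _ : H, φ (z * (s * y * z * (s * y)⁻¹)) = _
      rw [Finset.sum_const, nsmul_eq_mul, Finset.card_univ, ← Nat.card_eq_fintype_card]
    rw [hA2, hB2, K.card_group] at h1
    have hH0 : (Nat.card H : ℂ) ≠ 0 := by exact_mod_cast Nat.card_pos.ne'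
    have hφ0 : φ 1 ≠ 0 := hφ.one_ne_zero
    apply mul_left_cancel₀ hH0
    push_cast at h1
    rw [eq_div_iff hφ0] at h1
    linear_combination -h1

end

end Cfsg.Agent.Lib.ZassSz
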