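import Mathlib

/-!
# Arithmetic for the exclusion of Suzuki 2-groups of order `q ^ 3` (helper6)
-/

set_option autoImplicit false
set_option linter.all false

namespace Cfsg.Agent.Lib.ZassSz

theorem key_bound {n : ℕ} {q : ℤ} (hq : q = 2 ^ n) (hn : 2 ≤ n) {c : ℕ} (hc : 1 ≤ c)
    {δ : ℤ} (hc2 : 2 * (c : ℤ) ^ 2 ≤ q - 2) (hcd : q ∣ c * δ)
    (hpos : 0 < (c : ℤ) * (q ^ 2 + q + 1) + δ)
    (hdvd : ((c : ℤ) * (q ^ 2 + q + 1) + δ) ∣ q ^ 3 * (q ^ 3 + 1)) :
    4 * q ^ 2 * (c : ℤ) ^ 2 ≤ δ ^ 2 := by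
  obtain ⟨w, c', hc', hcw⟩ := Nat.exists_eq_two_pow_mul_odd (show c ≠ 0 by omega)
  have hc'1 : 1 ≤ c' := hc'.pos
  have hq4 : 4 ≤ q := by
    rw [hq]
    calc (4 : ℤ) = 2 ^ 2 := by norm_num
      _ ≤ 2 ^ n := pow_le_pow_right₀ (by norm_num) hn
  -- 2 w + 2 ≤ n
  have hwn : 2 * w + 2 ≤ n := by
    by_contra hcon
    have h1 : n ≤ 2 * w + 1 := by omega
    have h2 : (2 : ℤ) ^ n ≤ 2 ^ (2 * w + 1) := pow_le_pow_right₀ (by norm_num) h1
    have h3 : (2 : ℤ) ^ (2 * w + 1) = 2 * ((2 : ℤ) ^ w) ^ 2 := by rw [pow_succ, pow_mul']; ring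
    have h4 : ((2 : ℤ) ^ w) ≤ c := by
      rw [hcw]
      push_cast
      have : (1 : ℤ) ≤ c' := by exact_mod_cast hc'1
      have h5 : (0 : ℤ) < 2 ^ w := by positivity
      nlinarith
    have h5 : (0 : ℤ) < 2 ^ w := by positivity
    have h6 : ((2 : ℤ) ^ w) ^ 2 ≤ (c : ℤ) ^ 2 := pow_le_pow_left₀ h5.le h4 2
    rw [hq] at hc2
    linarith
  obtain ⟨m, hm⟩ := Nat.exists_eq_add_of_le hwn
  have hP : (0 : ℤ) < 2 ^ w := by positivity
  -- 2 ^ (w + 2) ∣ δ
  have hδ : ∃ δ' : ℤ, δ = 2 ^ w * (4 * δ') := by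
    have h1 : (2 : ℤ) ^ w * 2 ^ (w + 2 + m) ∣ 2 ^ w * (c' * δ) := by
      have e1 : (2 : ℤ) ^ w * 2 ^ (w + 2 + m) = q := by
        rw [hq, hm, ← pow_add]; congr 1; ring
      have e2 : (2 : ℤ) ^ w * (c' * δ) = c * δ := by rw [hcw]; push_cast; ring
      rw [e1, e2]; exact hcd
    have h2 := (mul_dvd_mul_iff_left hP.ne').1 h1
    have h3 : IsCoprime ((2 : ℤ) ^ (w + 2 + m)) (c' : ℤ) := by
      apply IsCoprime.pow_left
      rw [Int.isCoprime_iff_gcd_eq_one]
      have := hc'.coprime_two_left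
      exact_mod_cast this
    have h4 := h3.dvd_of_dvd_mul_left h2
    obtain ⟨x, hx⟩ := h4
    refine ⟨2 ^ m * x, ?_⟩
    rw [hx, pow_add, pow_add]; ring
  obtain ⟨δ', hδ'⟩ := hδ
  set Q : ℤ := q ^ 2 + q + 1 with hQ
  have hq2 : (2 : ℤ) ∣ q := by rw [hq]; exact dvd_pow_self 2 (by omega)
  obtain ⟨q', hq'⟩ := hq2
  obtain ⟨c'', hc''⟩ := hc'
  set M' : ℤ := c' * Q + 4 * δ' with hM'
  have hM'odd : ∃ j, M' = 2 * j + 1 := by
    rw [hM', hQ, hc'']
    push_cast
    rw [hq']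
    exact ⟨c'' * (4 * q' ^ 2 + 2 * q' + 1) + 2 * q' ^ 2 + q' + 2 * δ', by ring⟩
  have hM : (c : ℤ) * Q + δ = 2 ^ w * M' := by
    rw [hM', hcw, hδ']; push_cast; ring
  have hM'dvd : M' ∣ q ^ 3 + 1 := by
    have h1 : M' ∣ q ^ 3 * (q ^ 3 + 1) := (Dvd.intro_left _ hM.symm).trans hdvd
    have h3 : IsCoprime M' (q ^ 3) := by
      apply IsCoprime.pow_right
      rw [hq]
      apply IsCoprime.pow_right
      obtain ⟨j, hj⟩ := hM'odd
      exact ⟨1, -j, by rw [hj]; ring⟩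
    exact h3.dvd_of_dvd_mul_left h1
  have hT : (2 : ℤ) ^ w * M' ∣ (q - 1) * δ - 2 * c := by
    have h1 : (2 : ℤ) ^ w * M' ∣ c * (q ^ 3 + 1) := by
      rw [hcw]
      push_cast
      exact mul_dvd_mul (Dvd.intro _ rfl) hM'dvd
    have h2 : (q - 1) * δ - 2 * c = (q - 1) * (2 ^ w * M') - c * (q ^ 3 + 1) := by
      rw [← hM, hQ]; ring
    rw [h2]
    exact dvd_sub (Dvd.intro_left _ rfl) h1
  obtain ⟨k, hk⟩ := hT
  have hk' : (q - 1) * (4 * δ') - 2 * c' = M' * k := by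
    apply mul_left_cancel₀ hP.ne'
    rw [hcw, hδ'] at hk
    push_cast at hk
    linarith
  have hkeven : ∃ l, k = 2 * l ∧ k ≠ 0 := by
    obtain ⟨j, hj⟩ := hM'odd
    have h1 : Even k := by
      have h2 : Even (M' * k) := by
        rw [← hk']
        exact ⟨(q - 1) * (2 * δ') - c', by ring⟩
      rcases Int.even_mul.1 h2 with h | h
      · exfalso
        obtain ⟨i, hi⟩ := h
        omega
      · exact h
    obtain ⟨l, hl⟩ := h1
    refine ⟨l, by rw [hl]; ring, ?_⟩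
    intro h0
    rw [h0, mul_zero, hc''] at hk'
    push_cast at hk'
    have : 2 * ((q - 1) * δ') = 2 * c'' + 1 := by linarith
    omega
  obtain ⟨l, hl, hk0⟩ := hkeven
  have hrel : δ * (q - 1 - k) = c * (k * Q + 2) := by
    have : (q - 1) * δ - 2 * c = (c * Q + δ) * k := by rw [hM, hk]
    linear_combination this
  have hcpos : (1 : ℤ) ≤ c := by exact_mod_cast hc
  have hQpos : 0 < Q := by rw [hQ]; positivity
  have hmain : 2 * q * c ≤ δ ∨ 2 * q * c ≤ -δ := by
    rcases lt_trichotomy k 0 with hk1 | hk1 | hk1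
    · right
      have hk2 : k ≤ -2 := by omega
      by_contra hcon
      push Not at hcon
      have h1 : 0 < q - 1 - k := by linarith
      have h2 : -δ * (q - 1 - k) < 2 * q * c * (q - 1 - k) := mul_lt_mul_of_pos_right hcon h1
      have h3 : -(c * (k * Q + 2)) < 2 * q * c * (q - 1 - k) := by
        rw [← hrel]; linarith
      have h4 : (c : ℤ) * (-(k * Q + 2)) < c * (2 * q * (q - 1 - k)) := by linarith
      have h5 := lt_of_mul_lt_mul_left h4 (by linarith)
      have h6 : (-k) * (q ^ 2 - q + 1) < 2 * (q ^ 2 - q + 1) := by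
        have e1 : (-k) * (q ^ 2 - q + 1) = -(k * Q + 2) + 2 * q * k + 2 := by rw [hQ]; ring
        have e2 : 2 * (q ^ 2 - q + 1) = 2 * q * (q - 1 - k) + 2 * q * k + 2 := by ring
        rw [e1, e2]; linarith
      have h7 : 0 < q ^ 2 - q + 1 := by
        have : q ^ 2 - q + 1 = q * (q - 1) + 1 := by ring
        rw [this]
        have := mul_pos (show 0 < q by linarith) (show 0 < q - 1 by linarith)
        linarith
      have h8 := lt_of_mul_lt_mul_right h6 h7.le
      linarith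
    · exact absurd hk1 hk0
    · left
      have hk2 : 2 ≤ k := by omega
      rcases lt_trichotomy k (q - 1) with h1 | h1 | h1
      · by_contra hcon
        push Not at hcon
        have h2 : 0 < q - 1 - k := by linarith
        have h3 : δ * (q - 1 - k) < 2 * q * c * (q - 1 - k) := mul_lt_mul_of_pos_right hcon h2
        rw [hrel] at h3
        have h4 : (c : ℤ) * (k * Q + 2) < c * (2 * q * (q - 1 - k)) := by linarith
        have h5 := lt_of_mul_lt_mul_left h4 (by linarith)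
        have h6 : 2 * Q ≤ k * Q := mul_le_mul_of_nonneg_right hk2 hQpos.le
        have h7 : 2 * q * (q - 1 - k) ≤ 2 * q * (q - 3) :=
          mul_le_mul_of_nonneg_left (by linarith) (by linarith)
        have h8 : 2 * q * (q - 3) = 2 * Q - 8 * q - 2 := by rw [hQ]; ring
        linarith
      · exfalso
        rw [h1] at hrel
        have h2 : (c : ℤ) * ((q - 1) * Q + 2) = 0 := by rw [← hrel]; ring
        have h3 : 0 < (q - 1) * Q + 2 := by
          have := mul_pos (show 0 < q - 1 by linarith) hQpos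
          linarith
        have h4 : 0 < (c : ℤ) * ((q - 1) * Q + 2) := mul_pos (by linarith) h3
        linarith
      · exfalso
        have h2 : 0 < k - (q - 1) := by linarith
        have h3 : 0 < (c * Q + δ) * (k - (q - 1)) := mul_pos hpos h2
        have h4 : (c * Q + δ) * (k - (q - 1)) = -(c * (Q * (q - 1) + 2)) := by
          linear_combination -hrel
        have h5 : 0 < (c : ℤ) * (Q * (q - 1) + 2) := by
          apply mul_pos (by linarith)
          have := mul_pos hQpos (show 0 < q - 1 by linarith)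
          linarith
        linarith
  have hqc : 0 ≤ 2 * q * c := mul_nonneg (by linarith) (by linarith)
  have hfin : 4 * q ^ 2 * (c : ℤ) ^ 2 = (2 * q * c) ^ 2 := by ring
  rw [hfin]
  rcases hmain with h | h
  · exact pow_le_pow_left₀ hqc h 2
  · rw [← neg_sq δ]
    exact pow_le_pow_left₀ hqc h 2

theorem arith_false {n : ℕ} {q : ℤ} (hq : q = 2 ^ n) (hn : 2 ≤ n) {ρ : Type*} (R : Finset ρ)
    (c : ρ → ℕ) (g : ρ → ℤ) (N gf : ℤ) (hN : 0 ≤ N)
    (hcg : ∀ r ∈ R, q ∣ c r * g r) (hpos : ∀ r ∈ R, 0 < (c r : ℤ) * (q + 1) + g r)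
    (hdvd : ∀ r ∈ R, ((c r : ℤ) * (q + 1) + g r) ∣ q ^ 3 * (q ^ 3 + 1))
    (hA : ∑ r ∈ R, (c r : ℤ) ^ 2 = q - 2 - N) (hgf : q ∣ gf) (hgf1 : 1 ≤ gf)
    (hww : 1 + N + (q + 1) * (q - 1 - gf) ^ 2 + ∑ r ∈ R, ((c r : ℤ) * (q ^ 2 - 1) - g r) ^ 2
      = q ^ 3)
    (hdw : 1 + N * (q ^ 3 + 1) + (q + 1) * ((q - 1) * (1 + gf)) * (q - 1 - gf) +
      ∑ r ∈ R, ((q - 1) * ((c r : ℤ) * (q + 1) + g r)) * ((c r : ℤ) * (q ^ 2 - 1) - g r) = 0) :
    False := by
  classical
  have hq4 : 4 ≤ q := by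
    rw [hq]
    calc (4 : ℤ) = 2 ^ 2 := by norm_num
      _ ≤ 2 ^ n := pow_le_pow_right₀ (by norm_num) hn
  have hA0 : 0 ≤ ∑ r ∈ R, (c r : ℤ) ^ 2 := Finset.sum_nonneg fun _ _ => sq_nonneg _
  -- gf = q
  have hgfq : gf = q := by
    obtain ⟨m, hm⟩ := hgf
    have hm1 : 1 ≤ m := by
      by_contra hcon
      have : q * m ≤ 0 := by nlinarith
      linarith
    have h0 : 0 ≤ ∑ r ∈ R, ((c r : ℤ) * (q ^ 2 - 1) - g r) ^ 2 :=
      Finset.sum_nonneg fun _ _ => sq_nonneg _
    have h1 : (q + 1) * (q - 1 - gf) ^ 2 < q ^ 3 := by linarith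
    by_contra hne
    have hm2 : 2 ≤ m := by
      by_contra hcon
      have : m = 1 := by omega
      rw [this, mul_one] at hm
      exact hne hm
    have h2 : q + 1 ≤ gf - (q - 1) := by rw [hm]; nlinarith
    have h3 : (q + 1) ^ 2 ≤ (q - 1 - gf) ^ 2 := by nlinarith
    have h4 : (q + 1) * (q + 1) ^ 2 ≤ (q + 1) * (q - 1 - gf) ^ 2 :=
      mul_le_mul_of_nonneg_left h3 (by linarith)
    nlinarith
  rw [hgfq] at hww hdw
  -- N
  have hN2 : 2 * N = q - 2 := by
    have h1 : (q - 1) ∣ 1 + 2 * N := by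
      have e1 : ∑ r ∈ R, ((q - 1) * ((c r : ℤ) * (q + 1) + g r)) *
          ((c r : ℤ) * (q ^ 2 - 1) - g r) = (q - 1) * ∑ r ∈ R, ((c r : ℤ) * (q + 1) + g r) *
          ((c r : ℤ) * (q ^ 2 - 1) - g r) := by
        rw [Finset.mul_sum]
        exact Finset.sum_congr rfl fun r _ => by ring
      rw [e1] at hdw
      refine ⟨-(N * (q ^ 2 + q + 1) - (q + 1) ^ 2 + ∑ r ∈ R, ((c r : ℤ) * (q + 1) + g r) *
          ((c r : ℤ) * (q ^ 2 - 1) - g r)), ?_⟩
      linear_combination hdw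
    obtain ⟨k, hk⟩ := h1
    have h2 : N ≤ q - 2 := by linarith
    have h3 : 0 < k := by
      by_contra hcon
      push Not at hcon
      have : (q - 1) * k ≤ 0 := by nlinarith
      linarith
    have h4 : k < 2 := by
      by_contra hcon
      push Not at hcon
      have : (q - 1) * 2 ≤ (q - 1) * k := mul_le_mul_of_nonneg_left hcon (by linarith)
      linarith
    have h5 : k = 1 := by omega
    rw [h5] at hk
    linarith
  set δ : ρ → ℤ := fun r => g r - q ^ 2 * c r with hδ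
  have e1 : ∀ r, (c r : ℤ) * (q + 1) + g r = c r * (q ^ 2 + q + 1) + δ r := fun r => by
    simp only [hδ]; ring
  have e2 : ∀ r, (c r : ℤ) * (q ^ 2 - 1) - g r = -(c r + δ r) := fun r => by
    simp only [hδ]; ring
  set A := ∑ r ∈ R, (c r : ℤ) ^ 2 with hAdef
  set B := ∑ r ∈ R, (c r : ℤ) * δ r with hBdef
  set C := ∑ r ∈ R, (δ r) ^ 2 with hCdef
  have hww' : ∑ r ∈ R, ((c r : ℤ) * (q ^ 2 - 1) - g r) ^ 2 = A + 2 * B + C := by
    rw [hAdef, hBdef, hCdef, Finset.mul_sum, ← Finset.sum_add_distrib, ← Finset.sum_add_distrib]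
    exact Finset.sum_congr rfl fun r _ => by rw [e2]; ring
  have hdw' : ∑ r ∈ R, ((q - 1) * ((c r : ℤ) * (q + 1) + g r)) *
      ((c r : ℤ) * (q ^ 2 - 1) - g r) =
        -((q - 1) * ((q ^ 2 + q + 1) * A + (q ^ 2 + q + 1) * B + B + C)) := by
    rw [hAdef, hBdef, hCdef]
    simp only [Finset.mul_sum]
    rw [← Finset.sum_add_distrib, ← Finset.sum_add_distrib, ← Finset.sum_add_distrib,
      Finset.mul_sum, ← Finset.sum_neg_distrib]
    exact Finset.sum_congr rfl fun r _ => by rw [e1, e2]; ring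
  rw [hww'] at hww
  rw [hdw'] at hdw
  have hAN : A = N := by linarith
  rw [hAN] at hww hdw
  have hB : B = -q := by
    have h1 : (q - 1) * (q * (q + 1)) * (B + q) = 0 := by
      linear_combination (-1 : ℤ) * hdw - (q - 1) * hww + q * hN2
    have h2 : (q - 1) * (q * (q + 1)) ≠ 0 := by
      have : 0 < (q - 1) * (q * (q + 1)) := mul_pos (by linarith) (mul_pos (by linarith)
        (by linarith))
      exact this.ne'
    have h3 := (mul_eq_zero.1 h1).resolve_left h2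
    linarith
  have hC : C = q ^ 3 := by
    rw [hB] at hww
    linear_combination hww - hN2
  -- the bounds
  have hc2 : ∀ r ∈ R, 2 * (c r : ℤ) ^ 2 ≤ q - 2 := by
    intro r hr
    have h1 : (c r : ℤ) ^ 2 ≤ A := by
      rw [hAdef]
      exact Finset.single_le_sum (f := fun r => (c r : ℤ) ^ 2) (fun _ _ => sq_nonneg _) hr
    linarith
  have hkey : ∀ r ∈ R, 4 * q ^ 2 * (c r : ℤ) ^ 2 ≤ (δ r) ^ 2 := by
    intro r hr
    by_cases h0 : c r = 0
    · rw [h0]; simp; exact sq_nonneg _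
    · apply key_bound hq hn (by omega) (hc2 r hr)
      · have : (c r : ℤ) * δ r = c r * g r - q * (q * c r * c r) := by simp only [hδ]; ring
        rw [this]
        exact dvd_sub (hcg r hr) (Dvd.intro _ rfl)
      · rw [← e1]; exact hpos r hr
      · rw [← e1]; exact hdvd r hr
  have h4A : 4 * q ^ 2 * N ≤ q ^ 3 := by
    rw [← hC, ← hAN, hAdef, hCdef, Finset.mul_sum]
    exact Finset.sum_le_sum hkey
  have hqle : q ≤ 4 := by
    by_contra hcon
    push Not at hcon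
    have h1 : q ^ 2 * (2 * (q - 2)) ≤ q ^ 2 * q := by
      calc q ^ 2 * (2 * (q - 2)) = 4 * q ^ 2 * N := by rw [← hN2]; ring
        _ ≤ q ^ 3 := h4A
        _ = q ^ 2 * q := by ring
    have h2 := le_of_mul_le_mul_left h1 (by positivity)
    linarith
  have hq4' : q = 4 := le_antisymm hqle hq4
  have hN1 : N = 1 := by linarith
  rw [hN1] at hAN
  -- a single character
  obtain ⟨r, hr, hr0⟩ : ∃ r ∈ R, (c r : ℤ) ≠ 0 := by
    by_contra hcon
    push Not at hcon
    have : A = 0 := by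
      rw [hAdef]
      exact Finset.sum_eq_zero fun r hr => by rw [hcon r hr]; norm_num
    linarith
  have hothers : ∀ r' ∈ R, r' ≠ r → c r' = 0 := by
    intro r' hr' hne
    by_contra h0
    have h1 : (c r : ℤ) ^ 2 + (c r' : ℤ) ^ 2 ≤ A := by
      rw [hAdef, ← Finset.sum_pair (f := fun r => (c r : ℤ) ^ 2) hne.symm]
      apply Finset.sum_le_sum_of_subset_of_nonneg
      · intro x hx
        rw [Finset.mem_insert, Finset.mem_singleton] at hx
        rcases hx with rfl | rfl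
        · exact hr
        · exact hr'
      · intro _ _ _
        exact sq_nonneg _
    have h2 : 0 < (c r : ℤ) ^ 2 := by positivity
    have h3 : 0 < (c r' : ℤ) ^ 2 := by
      have : (c r' : ℤ) ≠ 0 := by exact_mod_cast h0
      positivity
    linarith
  have hBr : (c r : ℤ) * δ r = -4 := by
    rw [← hq4', ← hB, hBdef]
    symm
    apply Finset.sum_eq_single_of_mem r hr
    intro r' hr' hne
    rw [hothers r' hr' hne]; simp
  have h1 := hkey r hr
  have h2 : 0 < (c r : ℤ) ^ 2 := by positivity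
  have h3 : ((c r : ℤ) * δ r) ^ 2 = 16 := by rw [hBr]; norm_num
  have h4 : (c r : ℤ) ^ 2 ≤ 1 := by have := hc2 r hr; rw [hq4'] at this; linarith
  rw [hq4'] at h1
  rw [mul_pow] at h3
  nlinarith

end Cfsg.Agent.Lib.ZassSz
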