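import Cfsg.Agent.Lib.ZassSz6
import Cfsg.Agent.Lib.ZassSzArith

/-!
# Zassenhaus groups whose Frobenius kernel is a nonabelian 2-group (helper6): the kernel does not
have order `q ^ 3`
-/

set_option autoImplicit false
set_option linter.all false

namespace Cfsg.Agent.Lib.ZassSz

open scoped ComplexConjugate
open MulAction ZassBasic ZassKernel ZassOdd ZassFeit ZassInd CharBasic TIFN Cfsg

universe u v

variable {G : Type u} {Ω : Type v} [Group G] [MulAction G Ω]

set_option maxHeartbeats 1600000 in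
theorem no_cube [Fintype G] [Finite Ω] [IsSimpleGroup G] {e : ℕ} {a b : Ω} {H E : Subgroup G}
    (K : KerHyp G Ω e a b H) (X : EHyp e a b H E) (h2 : IsPGroup 2 H) {n : ℕ} (hn : 2 ≤ n)
    (hqn : e + 1 = 2 ^ n) (hm : Nat.card H = (e + 1) ^ 3) : False := by
  classical
  let L : Subgroup G := stabilizer G a
  have hL : L = stabilizer G a := rfl
  haveI : Fintype L := Fintype.ofFinite _
  haveI : Fintype H := Fintype.ofFinite _
  haveI : Fintype E := Fintype.ofFinite _
  haveI : Fintype (Mid (E.subgroupOf L) (H.subgroupOf L)) := Fintype.ofFinite _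
  let Ψ := Mid (E.subgroupOf L) (H.subgroupOf L)
  have he1 : 1 ≤ e := K.hyp.pos
  have he0 : (e : ℤ) ≠ 0 := by exact_mod_cast (by omega : e ≠ 0)
  have hEL : E ≤ L := X.le.trans K.hHa
  have hHL : H ≤ L := K.hHa
  obtain ⟨z, hz, hz1⟩ : ∃ z ∈ E, z ≠ 1 := by
    have : 1 < Nat.card E := by rw [X.card]; omega
    rw [Finite.one_lt_card_iff_nontrivial] at this
    obtain ⟨z, hz⟩ := exists_ne (1 : E)
    exact ⟨z, z.2, fun h => hz (Subtype.ext h)⟩
  have hzH := X.le hz
  obtain ⟨c, f, hf, hc, hfd, hcf, hcc, hcs⟩ := exists_family K X L hL (q := e + 1) rfl hm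
  have hcardΨ : Fintype.card Ψ = e + 2 := by
    rw [← Nat.card_eq_fintype_card]
    exact psi_card K X L hL rfl hm
  obtain ⟨i0⟩ : Nonempty Ψ := by rw [← Fintype.card_pos_iff]; omega
  -- integers
  have hwex : ∀ φ : IrrCharacter G, ∃ w : ℤ, (φ : G → ℂ) z = w := fun φ =>
    const_int E (by rw [X.card]; omega) φ.2.isCharacter
      (fun x hx hx1 => const_E K X φ.2.isClassFunction hz hz1 hx hx1)
  choose w hw using hwex
  have hdex : ∀ φ : IrrCharacter G, ∃ d : ℕ, 0 < d ∧ (φ : G → ℂ) 1 = d := fun φ =>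
    φ.2.exists_degree
  choose d hd0 hd using hdex
  have huex : ∀ φ : IrrCharacter G, ∃ u : ℕ, Z H (φ : G → ℂ) = (Nat.card H : ℂ) * u :=
    fun φ => Z_nat H φ.2.isCharacter
  choose u hu using huex
  have hH0 : (Nat.card H : ℂ) ≠ 0 := by exact_mod_cast Nat.card_pos.ne'
  have hrel : ∀ φ : IrrCharacter G, (d φ : ℤ) + e * w φ =
      (e + 1) * (u φ + e * ∑ i : Ψ, (c φ i : ℤ)) := by
    intro φ
    have h1 := rel_E K X L hL φ.2.isClassFunction
    rw [Z_E K X φ.2.isClassFunction hz hz1, hu, X.card, mul_div_cancel_left₀ _ hH0, hw, hd] at h1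
    have h3 : ∑ i : Mid (E.subgroupOf L) (H.subgroupOf L),
        classInner (φ : G → ℂ) (indFun L (i.1 : L → ℂ)) = ((∑ i : Ψ, (c φ i : ℤ) : ℤ) : ℂ) := by
      push_cast
      exact Finset.sum_congr rfl fun i _ => hc φ i
    rw [h3] at h1
    have h4 : (((d φ : ℤ) + e * w φ : ℤ) : ℂ) =
        (((e + 1) * (u φ + e * ∑ i : Ψ, (c φ i : ℤ)) : ℤ) : ℂ) := by
      push_cast at h1 ⊢
      exact h1
    exact_mod_cast h4
  have hstar : ∀ φ : IrrCharacter G, ∃ S : ℤ, (((e : ℤ) + 1) ^ 3 + 1) * e * (w φ) ^ 2 =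
      d φ * (d φ + ((e : ℤ) - 1) * w φ + ((e : ℤ) + 1) ^ 3 * S) := by
    intro φ
    obtain ⟨S, hSint, hS⟩ := star K X h2 φ.2 hz hz1
    rw [hw, hd, hm] at hS
    have hd' : (d φ : ℂ) ≠ 0 := by exact_mod_cast (hd0 φ).ne'
    have hm' : (((e : ℂ) + 1) ^ 3) ≠ 0 := by
      have : (((e + 1 : ℕ) : ℂ)) ≠ 0 := by exact_mod_cast Nat.succ_ne_zero e
      push_cast at this
      exact pow_ne_zero 3 this
    obtain ⟨S', hS'⟩ := CharCentral.exists_int_of_isIntegral_rat hSint
      ((((((e : ℚ) + 1) ^ 3 + 1) * e * (w φ) ^ 2) / d φ - (d φ + ((e : ℚ) - 1) * w φ)) /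
        (((e : ℚ) + 1) ^ 3)) (by
        push_cast
        rw [eq_div_iff hm', eq_sub_iff_add_eq, eq_div_iff hd']
        push_cast at hS
        linear_combination -hS)
    refine ⟨S', ?_⟩
    rw [hS'] at hS
    have h4 : (((((e : ℤ) + 1) ^ 3 + 1) * e * (w φ) ^ 2 : ℤ) : ℂ) =
      ((d φ * (d φ + ((e : ℤ) - 1) * w φ + ((e : ℤ) + 1) ^ 3 * S') : ℤ) : ℂ) := by
      push_cast at hS ⊢
      exact hS
    exact_mod_cast h4
  -- sums of the coefficients
  have hsumf : ∀ k : Ψ, ∑ i : Ψ, (c (f k) i : ℤ) = 1 := by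
    intro k
    rw [Finset.sum_eq_single k]
    · rw [hcf, if_pos rfl]; norm_num
    · intro i _ hik
      rw [hcf, if_neg hik]; norm_num
    · intro h; exact absurd (Finset.mem_univ _) h
  have hsumn : ∀ φ, φ ∉ Set.range f → ∑ i : Ψ, (c φ i : ℤ) = (e + 2) * c φ i0 := by
    intro φ hφ
    rw [Finset.sum_congr rfl (g := fun _ => (c φ i0 : ℤ)) (fun i _ => by rw [hcc φ hφ i i0]),
      Finset.sum_const, nsmul_eq_mul, Finset.card_univ, hcardΨ]
    push_cast; ring
  -- the special characters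
  let one : IrrCharacter G := ⟨fun _ => 1, isIrrCharacter_one⟩
  let st : IrrCharacter G := ⟨_, K.steinberg L hL⟩
  have hstz : ∀ x ∈ H, x ≠ 1 → (st : G → ℂ) x = 0 := fun x hx hx1 =>
    K.steinberg_apply L hL hx hx1
  have hst1 : (st : G → ℂ) 1 = Nat.card H := by
    change (indFun L (fun _ => 1) - fun _ => 1 : G → ℂ) 1 = _
    simp only [Pi.sub_apply, IndFun.indFun_one, K.indexL L hL]
    push_cast
    ring
  have hone_d : (d one : ℤ) = 1 := by
    have h1 := hd one
    have h3 : ((d one : ℕ) : ℂ) = ((1 : ℕ) : ℂ) := by rw [← h1]; simp [one]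
    exact_mod_cast h3
  have hone_w : w one = 1 := by
    have h1 := hw one
    have h3 : ((w one : ℤ) : ℂ) = ((1 : ℤ) : ℂ) := by rw [← h1]; simp [one]
    exact_mod_cast h3
  have hone_u : (u one : ℤ) = 1 := by
    have h1 := hu one
    rw [Z_eq_of_const H (c := 1) (fun x _ _ => rfl)] at h1
    have h3 : ((u one : ℕ) : ℂ) = ((1 : ℕ) : ℂ) := by
      apply mul_left_cancel₀ hH0
      rw [← h1]
      simp [one]
    exact_mod_cast h3
  have hst_d : (d st : ℤ) = (e + 1) ^ 3 := by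
    have h1 := hd st
    rw [hst1, hm] at h1
    have h3 : ((d st : ℕ) : ℂ) = (((e + 1) ^ 3 : ℕ) : ℂ) := by rw [← h1]
    exact_mod_cast h3
  have hst_w : w st = 0 := by
    have h1 := hw st
    rw [hstz z hzH hz1] at h1
    exact_mod_cast h1.symm
  have hst_u : (u st : ℤ) = 1 := by
    have h1 := hu st
    rw [Z_eq_of_const H (c := 0) hstz, hst1] at h1
    have h3 : ((u st : ℕ) : ℂ) = ((1 : ℕ) : ℂ) := by
      apply mul_left_cancel₀ hH0
      rw [← h1]
      simp
    exact_mod_cast h3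
  have hq1 : ((e : ℤ) + 1) ≠ 0 := by positivity
  have hsum_one : ∑ i : Ψ, (c one i : ℤ) = 0 := by
    have h1 := hrel one
    rw [hone_d, hone_w, hone_u] at h1
    have h3 : ((e : ℤ) + 1) * (e * ∑ i : Ψ, (c one i : ℤ)) = 0 := by linear_combination -h1
    exact (mul_eq_zero.1 ((mul_eq_zero.1 h3).resolve_left hq1)).resolve_left he0
  have hsum_st : ∑ i : Ψ, (c st i : ℤ) = e + 2 := by
    have h1 := hrel st
    rw [hst_d, hst_w, hst_u] at h1
    have h3 : ((e : ℤ) + 1) * (e * (∑ i : Ψ, (c st i : ℤ) - (e + 2))) = 0 := by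
      linear_combination -h1
    have h4 := (mul_eq_zero.1 ((mul_eq_zero.1 h3).resolve_left hq1)).resolve_left he0
    linarith
  have hP : ∀ φ : IrrCharacter G, u φ ≠ 0 → φ ≠ one → φ ≠ st →
      (d φ : ℤ) = (e + 1) ^ 3 + 1 ∧ w φ = 1 ∧ ∑ i : Ψ, (c φ i : ℤ) = e + 2 := by
    intro φ hu0 h1 h3
    have hZ : Z H (φ : G → ℂ) ≠ 0 := by
      rw [hu]
      exact mul_ne_zero hH0 (by exact_mod_cast hu0)
    rcases K.constituents L hL φ.2 hZ with h | h | ⟨μ, hμ, hμ1, hμH, hμne, h⟩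
    · exact absurd (Subtype.ext h) h1
    · exact absurd (Subtype.ext h) h3
    · have hval : ∀ x ∈ H, x ≠ 1 → (φ : G → ℂ) x = 1 := by
        intro x hx hx1
        rw [h, K.ind_apply L hL hμ.isClassFunction (u := ⟨x, hHL hx⟩) hx hx1, hμH _ hx]
      have hdd : (φ : G → ℂ) 1 = Nat.card H + 1 := by
        rw [h, IndFun.indFun_one, hμ1, K.indexL L hL]
        push_cast
        ring
      have hd' : (d φ : ℤ) = (e + 1) ^ 3 + 1 := by
        have h4 : ((d φ : ℕ) : ℂ) = (((e + 1) ^ 3 + 1 : ℕ) : ℂ) := by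
          rw [← hd, hdd, hm]; push_cast; ring
        exact_mod_cast h4
      have hw' : w φ = 1 := by
        have h4 := hw φ
        rw [hval z hzH hz1] at h4
        exact_mod_cast h4.symm
      have hu' : (u φ : ℤ) = 2 := by
        have h4 := hu φ
        rw [Z_eq_of_const H (c := 1) hval, hdd] at h4
        have h5 : ((u φ : ℕ) : ℂ) = ((2 : ℕ) : ℂ) := by
          apply mul_left_cancel₀ hH0
          rw [← h4]
          push_cast
          ring
        exact_mod_cast h5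
      refine ⟨hd', hw', ?_⟩
      have h4 := hrel φ
      rw [hd', hw', hu'] at h4
      have h5 : ((e : ℤ) + 1) * (e * (∑ i : Ψ, (c φ i : ℤ) - (e + 2))) = 0 := by
        linear_combination -h4
      have h6 := (mul_eq_zero.1 ((mul_eq_zero.1 h5).resolve_left hq1)).resolve_left he0
      linarith
  have hrange : ∀ φ : IrrCharacter G, u φ ≠ 0 → φ ∉ Set.range f := by
    rintro φ hu0 ⟨k, rfl⟩
    have h1 := hsumf k
    by_cases h3 : f k = one
    · rw [h3, hsum_one] at h1; norm_num at h1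
    by_cases h4 : f k = st
    · rw [h4, hsum_st] at h1; omega
    · rw [(hP _ hu0 h3 h4).2.2] at h1; omega
  have hfu : ∀ k, u (f k) = 0 := by
    intro k
    by_contra h
    exact hrange _ h ⟨k, rfl⟩
  have hone_u0 : u one ≠ 0 := by
    intro h; rw [h] at hone_u; norm_num at hone_u
  have hst_u0 : u st ≠ 0 := by
    intro h; rw [h] at hst_u; norm_num at hst_u
  have hone_st : one ≠ st := by
    intro h
    have : w one = w st := by rw [h]
    rw [hone_w, hst_w] at this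
    norm_num at this
  -- the partition
  let P : Finset (IrrCharacter G) := Finset.univ.filter (fun φ => u φ ≠ 0 ∧ φ ≠ one ∧ φ ≠ st)
  let R : Finset (IrrCharacter G) := Finset.univ.filter (fun φ => u φ = 0 ∧ φ ∉ Set.range f)
  have hpart : ∀ T : IrrCharacter G → ℤ, ∑ φ, T φ = T one + T st + ∑ φ ∈ P, T φ +
      ∑ k : Ψ, T (f k) + ∑ φ ∈ R, T φ := by
    intro T
    rw [← Finset.sum_filter_add_sum_filter_not Finset.univ (fun φ => u φ ≠ 0)]
    have h1 : Finset.univ.filter (fun φ : IrrCharacter G => u φ ≠ 0) = insert one (insert st P) := by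
      ext φ
      simp only [P, Finset.mem_filter, Finset.mem_univ, true_and, Finset.mem_insert]
      constructor
      · intro h
        by_cases h3 : φ = one
        · exact Or.inl h3
        by_cases h4 : φ = st
        · exact Or.inr (Or.inl h4)
        · exact Or.inr (Or.inr ⟨h, h3, h4⟩)
      · rintro (h | h | h)
        · rw [h]; exact hone_u0
        · rw [h]; exact hst_u0
        · exact h.1
    have h3 : Finset.univ.filter (fun φ : IrrCharacter G => ¬ u φ ≠ 0) =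
        (Finset.univ.image f) ∪ R := by
      ext φ
      simp only [R, Finset.mem_filter, Finset.mem_univ, true_and, Finset.mem_union,
        Finset.mem_image, not_not]
      constructor
      · intro h
        by_cases h4 : φ ∈ Set.range f
        · exact Or.inl h4
        · exact Or.inr ⟨h, h4⟩
      · rintro (⟨k, rfl⟩ | h)
        · exact hfu k
        · exact h.1
    rw [h1, h3, Finset.sum_union, Finset.sum_image (fun x _ y _ h => hf h), Finset.sum_insert,
      Finset.sum_insert]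
    · ring
    · simp [P]
    · simp only [P, Finset.mem_insert, Finset.mem_filter, not_or]
      exact ⟨hone_st, fun h => h.2.2.1 rfl⟩
    · rw [Finset.disjoint_left]
      intro φ h4 h5
      obtain ⟨k, -, rfl⟩ := Finset.mem_image.1 h4
      exact (Finset.mem_filter.1 h5).2.2 ⟨k, rfl⟩
  -- exceptional characters: same degree
  have hfdeg : ∀ k, d (f k) = d (f i0) := by
    intro k
    have h1 := congrFun (hfd k i0) 1
    rw [IndFun.indFun_one] at h1
    simp only [Pi.sub_apply, psi_deg K X L hL k, psi_deg K X L hL i0, sub_self, mul_zero] at h1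
    rw [hd, hd] at h1
    have h3 : ((d (f k) : ℕ) : ℂ) = ((d (f i0) : ℕ) : ℂ) := (sub_eq_zero.1 h1.symm)
    exact_mod_cast h3
  have hfrel : ∀ k, (d (f k) : ℤ) = e * ((e + 1) - w (f k)) := by
    intro k
    have h1 := hrel (f k)
    rw [hfu, hsumf] at h1
    push_cast at h1
    linear_combination h1
  have hfw : ∀ k, w (f k) = w (f i0) := by
    intro k
    have h1 := hfrel k
    have h3 := hfrel i0
    rw [hfdeg k, h3] at h1
    have := mul_left_cancel₀ he0 h1
    linarith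
  -- the remaining ones
  have hRrel : ∀ φ ∈ R, (d φ : ℤ) = e * ((e + 1) * (e + 2) * c φ i0 - w φ) := by
    intro φ hφ
    obtain ⟨-, hu0, hr⟩ := Finset.mem_filter.1 hφ
    have h1 := hrel φ
    rw [hu0, hsumn φ hr] at h1
    push_cast at h1
    linear_combination h1
  -- orthogonality
  have hcz : Subgroup.centralizer ({z} : Set G) = H :=
    K.hyp.centralizer_eq (odd_card K h2) (orderOf_E K X hz hz1) (K.hHa hzH) H K.hHa K.hHcard K.hHfix
  have hww : ∑ φ, (w φ) ^ 2 = ((e : ℤ) + 1) ^ 3 := by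
    have h1 := column_orthogonality z z
    rw [if_pos (IsConj.refl z), hcz, hm] at h1
    have h3 : ((∑ φ, (w φ) ^ 2 : ℤ) : ℂ) = ((((e : ℤ) + 1) ^ 3 : ℤ) : ℂ) := by
      push_cast at h1 ⊢
      rw [← h1]
      apply Finset.sum_congr rfl
      intro φ _
      rw [hw]
      simp; ring
    exact_mod_cast h3
  have hdw : ∑ φ, (d φ : ℤ) * w φ = 0 := by
    have h1 := column_orthogonality z (1 : G)
    rw [if_neg (fun h' => hz1 (isConj_one_left.mp h'))] at h1
    have h3 : ((∑ φ, (d φ : ℤ) * w φ : ℤ) : ℂ) = ((0 : ℤ) : ℂ) := by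
      push_cast
      rw [← h1]
      apply Finset.sum_congr rfl
      intro φ _
      rw [hw, hd]
      simp; ring
    exact_mod_cast h3
  have hcc2 : ∑ φ, (c φ i0 : ℤ) ^ 2 = e + 1 := by
    have := hcs i0
    exact_mod_cast this
  -- evaluation of the sums
  rw [hpart] at hww hdw hcc2
  have hPr : ∀ φ ∈ P, (d φ : ℤ) = (e + 1) ^ 3 + 1 ∧ w φ = 1 ∧ c φ i0 = 1 := by
    intro φ hφ
    obtain ⟨-, hu0, h1, h3⟩ := Finset.mem_filter.1 hφ
    obtain ⟨h4, h5, h6⟩ := hP φ hu0 h1 h3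
    refine ⟨h4, h5, ?_⟩
    rw [hsumn φ (hrange φ hu0)] at h6
    have h7 : ((e : ℤ) + 2) * c φ i0 = (e + 2) * 1 := by linarith
    have h8 : ((e : ℤ) + 2) ≠ 0 := by positivity
    have h9 := mul_left_cancel₀ h8 h7
    exact_mod_cast h9
  have hc_one : (c one i0 : ℤ) = 0 := by
    rw [hsumn one (hrange one hone_u0)] at hsum_one
    have h8 : ((e : ℤ) + 2) ≠ 0 := by positivity
    exact (mul_eq_zero.1 hsum_one).resolve_left h8
  have hc_st : (c st i0 : ℤ) = 1 := by
    rw [hsumn st (hrange st hst_u0)] at hsum_st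
    have h7 : ((e : ℤ) + 2) * c st i0 = (e + 2) * 1 := by linarith
    have h8 : ((e : ℤ) + 2) ≠ 0 := by positivity
    exact mul_left_cancel₀ h8 h7
  have hsPc : ∑ φ ∈ P, (c φ i0 : ℤ) ^ 2 = P.card := by
    rw [Finset.sum_congr rfl (g := fun _ => (1 : ℤ)) (fun φ hφ => by
      rw [(hPr φ hφ).2.2]; norm_num)]
    simp
  have hsPw : ∑ φ ∈ P, (w φ) ^ 2 = P.card := by
    rw [Finset.sum_congr rfl (g := fun _ => (1 : ℤ)) (fun φ hφ => by
      rw [(hPr φ hφ).2.1]; norm_num)]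
    simp
  have hsPd : ∑ φ ∈ P, (d φ : ℤ) * w φ = P.card * ((e + 1) ^ 3 + 1) := by
    rw [Finset.sum_congr rfl (g := fun _ => (((e : ℤ) + 1) ^ 3 + 1)) (fun φ hφ => by
      rw [(hPr φ hφ).1, (hPr φ hφ).2.1, mul_one])]
    simp
  have hsfc : ∑ k : Ψ, (c (f k) i0 : ℤ) ^ 2 = 1 := by
    rw [Finset.sum_eq_single i0]
    · rw [hcf, if_pos rfl]; norm_num
    · intro k _ hk
      rw [hcf, if_neg (Ne.symm hk)]; norm_num
    · intro h; exact absurd (Finset.mem_univ _) h
  have hsfw : ∑ k : Ψ, (w (f k)) ^ 2 = (e + 2) * (w (f i0)) ^ 2 := by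
    rw [Finset.sum_congr rfl (g := fun _ => (w (f i0)) ^ 2) (fun k _ => by rw [hfw k]),
      Finset.sum_const, nsmul_eq_mul, Finset.card_univ, hcardΨ]
    push_cast; ring
  have hsfd : ∑ k : Ψ, (d (f k) : ℤ) * w (f k) = (e + 2) * (d (f i0) * w (f i0)) := by
    rw [Finset.sum_congr rfl (g := fun _ => (d (f i0) : ℤ) * w (f i0)) (fun k _ => by
        rw [hfw k, hfdeg k]),
      Finset.sum_const, nsmul_eq_mul, Finset.card_univ, hcardΨ]
    push_cast; ring
  rw [hsPc, hsfc, hc_one, hc_st] at hcc2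
  rw [hsPw, hsfw, hone_w, hst_w] at hww
  rw [hsPd, hsfd, hone_w, hst_w, hone_d, hst_d] at hdw
  have hq : ((e : ℤ) + 1) = 2 ^ n := by exact_mod_cast hqn
  set q : ℤ := (e : ℤ) + 1 with hqdef
  have hqe : (e : ℤ) = q - 1 := by rw [hqdef]; ring
  have hqe2 : (e : ℤ) + 2 = q + 1 := by rw [hqdef]; ring
  have hqpos : 0 < q := by positivity
  have hepos : (0 : ℤ) < e := by exact_mod_cast he1
  -- values on R
  have hRd : ∀ φ ∈ R, (d φ : ℤ) = e * ((c φ i0 : ℤ) * (q + 1) + (c φ i0 * (q ^ 2 - 1) - w φ)) := by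
    intro φ hφ
    rw [hRrel φ hφ, hqe2, hqe]; ring
  have hdpos : ∀ φ, (0 : ℤ) < d φ := fun φ => by exact_mod_cast hd0 φ
  have hdvd : ∀ φ : IrrCharacter G, ∀ x : ℤ, (d φ : ℤ) = e * x → x ∣ q ^ 3 * (q ^ 3 + 1) := by
    intro φ x hx
    have h1 := TIFN.degree_dvd_card φ.2 (hd φ)
    rw [K.card_group, hm] at h1
    have h3 : (d φ : ℤ) ∣ (((e + 1) ^ 3 + 1) * ((e + 1) ^ 3 * e) : ℕ) := by exact_mod_cast h1
    push_cast at h3
    rw [hx, ← hqdef] at h3
    have h4 : (q ^ 3 + 1) * (q ^ 3 * (e : ℤ)) = e * (q ^ 3 * (q ^ 3 + 1)) := by ring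
    rw [h4] at h3
    exact (mul_dvd_mul_iff_left he0).1 h3
  -- consequence of the structure constants
  have hkey : ∀ φ : IrrCharacter G, ∀ k h : ℤ, (d φ : ℤ) = e * h → w φ = q * k - h →
      q ∣ k * (h - k) := by
    intro φ k h hdh hwh
    obtain ⟨S, hS⟩ := hstar φ
    rw [hdh] at hS
    have h1 : (e : ℤ) * ((q ^ 3 + 1) * (w φ) ^ 2) =
        e * (h * (e * h + ((e : ℤ) - 1) * w φ + q ^ 3 * S)) := by linear_combination hS
    have h3 := mul_left_cancel₀ he0 h1
    rw [hwh, hqe] at h3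
    have h4 : q ^ 2 * (k * (h - k)) = q ^ 2 * (q * ((q * k - h) ^ 2 - S * h)) := by
      linear_combination -h3
    have h5 := mul_left_cancel₀ (pow_ne_zero 2 hqpos.ne') h4
    exact ⟨_, h5⟩
  have hfh : (d (f i0) : ℤ) = e * (1 + (q - 1 - w (f i0))) := by
    rw [hfrel i0]; ring
  have hgf : q ∣ q - 1 - w (f i0) := by
    have := hkey (f i0) 1 (1 + (q - 1 - w (f i0))) hfh (by ring)
    have h3 : (1 : ℤ) * (1 + (q - 1 - w (f i0)) - 1) = q - 1 - w (f i0) := by ring
    rwa [h3] at this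
  have hgf1 : 1 ≤ q - 1 - w (f i0) := by
    have h1 := hdpos (f i0)
    rw [hfh] at h1
    have h3 := (mul_pos_iff_of_pos_left hepos).1 h1
    by_contra hcon
    have h4 : q - 1 - w (f i0) = 0 := by omega
    have h5 : (d (f i0) : ℤ) = w (f i0) := by rw [hfh, h4]; linarith
    apply value_ne_one (f i0).2 _ hz1
    · rw [hw, hd]
      have : ((d (f i0) : ℤ) : ℂ) = ((w (f i0) : ℤ) : ℂ) := by rw [h5]
      push_cast at this
      exact this.symm
    · intro h
      apply hrange one hone_u0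
      exact ⟨i0, Subtype.ext h⟩
  refine arith_false hq hn R (fun φ => c φ i0) (fun φ => c φ i0 * (q ^ 2 - 1) - w φ) P.card
    (q - 1 - w (f i0)) (Int.natCast_nonneg _) ?_ ?_ ?_ ?_ hgf hgf1 ?_ ?_
  · intro φ hφ
    have h1 := hkey φ (c φ i0 * (q + 1)) _ (hRd φ hφ) (by ring)
    obtain ⟨x, hx⟩ := h1
    refine ⟨x - c φ i0 * (c φ i0 * (q ^ 2 - 1) - w φ), ?_⟩
    linear_combination hx
  · intro φ hφ
    have h1 := hdpos φ
    rw [hRd φ hφ] at h1
    exact (mul_pos_iff_of_pos_left hepos).1 h1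
  · intro φ hφ
    exact hdvd φ _ (hRd φ hφ)
  · linear_combination hcc2
  · have h1 : ∑ φ ∈ R, ((c φ i0 : ℤ) * (q ^ 2 - 1) - (c φ i0 * (q ^ 2 - 1) - w φ)) ^ 2 =
        ∑ φ ∈ R, (w φ) ^ 2 := Finset.sum_congr rfl fun φ _ => by ring
    rw [h1, ← hqe2]
    linear_combination hww
  · have h1 : ∑ φ ∈ R, ((q - 1) * ((c φ i0 : ℤ) * (q + 1) + (c φ i0 * (q ^ 2 - 1) - w φ))) *
        ((c φ i0 : ℤ) * (q ^ 2 - 1) - (c φ i0 * (q ^ 2 - 1) - w φ)) =
        ∑ φ ∈ R, (d φ : ℤ) * w φ := by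
      apply Finset.sum_congr rfl
      intro φ hφ
      rw [hRd φ hφ, ← hqe]
      ring
    rw [h1, ← hqe2]
    rw [hfh] at hdw
    rw [← hqe]
    linear_combination hdw

end Cfsg.Agent.Lib.ZassSz
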