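import Cfsg.Agent.Lib.Subnormal

set_option autoImplicit false

/-!
# Wielandt's zipper lemma (helper72)
-/

namespace Cfsg.Agent.Lib.ZipperH72

open Pointwise

universe u

theorem snIn_comap {G : Type*} [Group G] {A L H : Subgroup G} (hLH : L ≤ H)
    (h : (A.subgroupOf L).IsSubnormal) :
    ((A.subgroupOf H).subgroupOf (L.subgroupOf H)).IsSubnormal := by
  have h1 := h.comap (Subgroup.subgroupOfEquivOfLe hLH).toMonoidHom
  exact h1

theorem conj_subgroupOf {G : Type*} [Group G] (A H : Subgroup G) (h : H) :
    MulAut.conj h • (A.subgroupOf H) = (MulAut.conj (h : G) • A).subgroupOf H := by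
  ext x
  rw [Subgroup.mem_pointwise_smul_iff_inv_smul_mem, Subgroup.mem_subgroupOf, Subgroup.mem_subgroupOf,
    Subgroup.mem_pointwise_smul_iff_inv_smul_mem]
  rfl

/-- Conjugating: if `A` is subnormal in `x⁻¹ X x` then `x A x⁻¹` is subnormal in `X`. -/
theorem snIn_conj {G : Type*} [Group G] (A X : Subgroup G) (x : G)
    (h : (A.subgroupOf (MulAut.conj x⁻¹ • X)).IsSubnormal) :
    ((MulAut.conj x • A).subgroupOf X).IsSubnormal := by
  let f : X →* (MulAut.conj x⁻¹ • X : Subgroup G) :=
    { toFun := fun y => ⟨x⁻¹ * y * x, by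
        rw [Subgroup.mem_pointwise_smul_iff_inv_smul_mem]
        simpa [mul_assoc] using y.2⟩
      map_one' := by apply Subtype.ext; simp
      map_mul' := fun y z => by apply Subtype.ext; simp [mul_assoc] }
  have h1 := h.comap f
  convert h1 using 1
  ext y
  rw [Subgroup.mem_subgroupOf, Subgroup.mem_pointwise_smul_iff_inv_smul_mem, Subgroup.mem_comap,
    Subgroup.mem_subgroupOf]
  simp [f]

/-- Wielandt's zipper lemma. -/
theorem zipper {G : Type u} [Group G] [Finite G] (S : Subgroup G) (hS : ¬ S.IsSubnormal)
    (h : ∀ X : Subgroup G, S ≤ X → X ≠ ⊤ → (S.subgroupOf X).IsSubnormal) :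
    ∃ M : Subgroup G, IsCoatom M ∧ S ≤ M ∧ ∀ K : Subgroup G, IsCoatom K → S ≤ K → K = M := by
  induction S using WellFoundedGT.induction with
  | ind S ih =>
    have hN : Subgroup.normalizer (S : Set G) ≠ ⊤ := by
      intro htop
      exact hS (Subgroup.normalizer_eq_top_iff.mp htop).isSubnormal
    obtain ⟨M, hM, hNM⟩ := (eq_top_or_exists_le_coatom (Subgroup.normalizer (S : Set G))).resolve_left hN
    have hSM : S ≤ M := Subgroup.le_normalizer.trans hNM
    refine ⟨M, hM, hSM, ?_⟩
    intro K hK hSK
    by_cases hn : K ≤ Subgroup.normalizer (S : Set G)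
    · rcases hK.le_iff.mp (hn.trans hNM) with h1 | h1
      · exact absurd h1 hM.1
      · exact h1.symm
    · -- the conjugates of `S` under `K`
      let F : Set (Subgroup G) := {U | ∃ k ∈ K, U = MulAut.conj k • S}
      have hF1 : ∀ U ∈ F, U ≤ K := by
        rintro _ ⟨k, hk, rfl⟩
        rw [← Subgroup.conj_smul_eq_self_of_mem hk]
        exact Subgroup.pointwise_smul_le_pointwise_smul_iff.mpr hSK
      have hF2 : ∀ U ∈ F, (U.subgroupOf K).IsSubnormal := by
        rintro _ ⟨k, hk, rfl⟩
        apply snIn_conj
        rw [Subgroup.conj_smul_eq_self_of_mem (K.inv_mem hk)]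
        exact h K hSK hK.1
      have hF3 : ∀ U ∈ F, ∀ g ∈ K, MulAut.conj g • U ∈ F := by
        rintro _ ⟨k, hk, rfl⟩ g hg
        exact ⟨g * k, K.mul_mem hg hk, by rw [map_mul, mul_smul]⟩
      have hF0 : ({S} : Set (Subgroup G)) ⊂ F := by
        refine ⟨?_, ?_⟩
        · rintro _ rfl
          exact ⟨1, K.one_mem, by simp⟩
        · intro hsub
          apply hn
          intro k hk
          have h1 : MulAut.conj k • S ∈ F := ⟨k, hk, rfl⟩
          have h2 : MulAut.conj k • S = S := hsub h1
          rw [Subgroup.mem_normalizer_iff]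
          intro y
          constructor
          · intro hy
            rw [← h2]
            exact Subgroup.smul_mem_pointwise_smul y _ S hy
          · intro hy
            have h3 : k * y * k⁻¹ ∈ MulAut.conj k • S := by rw [h2]; exact hy
            rw [Subgroup.mem_pointwise_smul_iff_inv_smul_mem] at h3
            simpa [mul_assoc] using h3
      obtain ⟨X, hXF, hX0, hXn⟩ :=
        Cfsg.Agent.Lib.Subnormal.exists_normalizing_member_subgroup K F {S} hF1 hF2 hF3 hF0
      rw [sSup_singleton] at hXn
      obtain ⟨k, hk, rfl⟩ := hXF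
      set T := S ⊔ MulAut.conj k • S with hT
      have hST : S < T := by
        refine lt_of_le_of_ne le_sup_left ?_
        intro heq
        apply hX0
        rw [Set.mem_singleton_iff]
        have h0 : MulAut.conj k • S ≤ T := le_sup_right
        have h1 : MulAut.conj k • S ≤ S := h0.trans heq.ge
        apply Subgroup.eq_of_le_of_card_ge h1
        exact (Nat.card_congr (Subgroup.equivSMul (MulAut.conj k) S).toEquiv).le
      have hTn : T ≤ Subgroup.normalizer (S : Set G) := sup_le Subgroup.le_normalizer hXn
      have hTsn : ¬ T.IsSubnormal := by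
        intro hcon
        apply hS
        refine Subgroup.IsSubnormal.step _ _ hST.le hcon ?_
        rw [Subgroup.normal_subgroupOf_iff_le_normalizer hST.le]
        exact hTn
      have hTX : ∀ X : Subgroup G, T ≤ X → X ≠ ⊤ → (T.subgroupOf X).IsSubnormal := by
        intro X hX hXtop
        have h1 : S ≤ X := hST.le.trans hX
        have h2 : MulAut.conj k • S ≤ X := le_sup_right.trans hX
        have h3 : T.subgroupOf X = S.subgroupOf X ⊔ (MulAut.conj k • S).subgroupOf X := by
          rw [hT, Subgroup.subgroupOf_sup h1 h2]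
        rw [h3]
        apply Cfsg.Agent.Lib.Subnormal.isSubnormal_sup
        · exact h X h1 hXtop
        · apply snIn_conj
          apply h
          · have h4 := Subgroup.pointwise_smul_le_pointwise_smul_iff (a := MulAut.conj k⁻¹).mpr h2
            rw [← mul_smul, ← map_mul, inv_mul_cancel, map_one, one_smul] at h4
            exact h4
          · intro htop
            apply hXtop
            have h5 := congrArg (fun Z => MulAut.conj k • Z) htop
            simp only [← mul_smul, ← map_mul, mul_inv_cancel, map_one, one_smul] at h5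
            rw [h5, eq_top_iff]
            intro y _
            rw [Subgroup.mem_pointwise_smul_iff_inv_smul_mem]
            trivial
      obtain ⟨M', hM', hTM', huniq⟩ := ih T hST hTsn hTX
      have h1 : M = M' := huniq M hM (hTn.trans hNM)
      have h2 : K = M' := huniq K hK (sup_le hSK (hF1 _ ⟨k, hk, rfl⟩))
      rw [h1, h2]

end Cfsg.Agent.Lib.ZipperH72
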